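import Groth.Statements.S18381
import Mathlib
import Groth.Agent.Lib.Helper22.Verl3

set_option autoImplicit false
open Complex
open VerlindeComb

namespace Groth.Agent.S18381

/-- Fix integers r, k ≥ 1. For g ≥ 0, d ∈ ℤ and parabolic data ω given by a finite family of partitions
λ_x with k ≥ λ_{x,1} ≥ ⋯ ≥ λ_{x,r} ≥ 0, write |ω| = Σ_x |λ_x|, z(v)_j = exp(2πi v_j / (r + k)),
S_λ(v) = det(z(v)_j^{λ_i + r - i}) / det(z(v)_j^{r - i}) (Schur value), P(v) = ∏_{i<j} (2 sin(π (v_i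
- v_j)/(r + k)))², and let V_g(r, d, ω) = (-1)^{d(r-1)} (k/r)^g (r (r+k)^{r-1})^{g-1} Σ_v exp(2πi
(d/r - |ω| / (r (r+k))) Σ_j v_j) · ∏_x S_{λ_x}(v) / P(v)^{g-1}, the sum over integer vectors r + k >
v_1 > ⋯ > v_{r-1} > v_r = 0 (the right-hand side of the Verlinde formula; it depends on ω only
through |ω| and the function v ↦ ∏_x S_{λ_x}(v), and is written that way below, with (r
(r+k)^{r-1})^{g-1} as the g-th power divided once and 1/P^{g-1} as P/P^g). Then V_{g+1}(r, d, ω) =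
Σ_μ V_g(r, d, ω^μ), the sum over all μ with k > μ_1 ≥ ⋯ ≥ μ_r ≥ 0, where ω^μ adjoins to ω the two
partitions μ and μ* = (k - μ_r, …, k - μ_1). Indices are 0-based below. -/
theorem result (r k : ℕ) (hr : 1 ≤ r) (hk : 1 ≤ k)
    (g : ℕ) (d : ℤ) (ι : Type) [Fintype ι] (lam : ι → Fin r → ℕ)
    (hlam : ∀ x, Antitone (lam x) ∧ ∀ i, lam x i ≤ k)
    (z : (Fin r → ℕ) → Fin r → ℂ)
    (hz : ∀ v j, z v j = Complex.exp (2 * Real.pi * Complex.I * (v j : ℂ) / ((r : ℂ) + k)))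
    (S : (Fin r → ℕ) → (Fin r → ℕ) → ℂ)
    (hS : ∀ μ v, S μ v = (Matrix.of fun i j : Fin r => z v j ^ (μ i + (r - 1 - (i : ℕ)))).det /
        (Matrix.of fun i j : Fin r => z v j ^ (r - 1 - (i : ℕ))).det)
    (P : (Fin r → ℕ) → ℝ)
    (hP : ∀ v, P v = ∏ p ∈ (Finset.univ : Finset (Fin r × Fin r)).filter (fun p => p.1 < p.2),
        ((2 : ℝ) * Real.sin (Real.pi * ((v p.1 : ℝ) - (v p.2 : ℝ)) / ((r : ℝ) + k))) ^ 2)
    (V : ℕ → ℤ → ℕ → ((Fin r → ℕ) → ℂ) → ℂ)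
    (hV : ∀ (g' : ℕ) (d' : ℤ) (w : ℕ) (Sω : (Fin r → ℕ) → ℂ), V g' d' w Sω =
        (-1 : ℂ) ^ (d' * ((r : ℤ) - 1)) * ((k : ℂ) / r) ^ g' *
          ((((r : ℂ) * ((r : ℂ) + k) ^ (r - 1)) ^ g') / ((r : ℂ) * ((r : ℂ) + k) ^ (r - 1))) *
          ∑ v ∈ (Finset.univ : Finset (Fin r → Fin (r + k))).filter
            (fun v : Fin r → Fin (r + k) => StrictAnti v ∧ ∀ i : Fin r, (i : ℕ) = r - 1 → (v i : ℕ) = 0),
            Complex.exp (2 * Real.pi * Complex.I * ((d' : ℂ) / r - (w : ℂ) / ((r : ℂ) * ((r : ℂ) + k))) *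
                ((∑ j, (v j : ℕ) : ℕ) : ℂ)) *
              Sω (fun j => (v j : ℕ)) *
              (((P (fun j => (v j : ℕ)) : ℂ)) / ((P (fun j => (v j : ℕ)) : ℂ)) ^ g')) :
    V (g + 1) d (∑ x, ∑ i, lam x i) (fun v => ∏ x, S (lam x) v) =
      ∑ μ ∈ (Finset.univ : Finset (Fin r → Fin k)).filter (fun μ : Fin r → Fin k => Antitone μ),
        V g d ((∑ x, ∑ i, lam x i) + (∑ i, (μ i : ℕ)) + (∑ i, (k - (μ (Fin.rev i) : ℕ))))
          (fun v => (∏ x, S (lam x) v) * S (fun i => (μ i : ℕ)) v *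
            S (fun i => k - (μ (Fin.rev i) : ℕ)) v) := by
  classical
  have hr0 : (r : ℂ) ≠ 0 := Nat.cast_ne_zero.mpr (by omega)
  have hN0 : ((r : ℂ) + k) ≠ 0 := by
    have : ((r + k : ℕ) : ℂ) ≠ 0 := Nat.cast_ne_zero.mpr (by omega)
    simpa using this
  set W₀ : ℕ := ∑ x, ∑ i, lam x i with hW₀
  have hsumμ : ∀ μ : Fin r → Fin k,
      W₀ + (∑ i, (μ i : ℕ)) + (∑ i, (k - (μ (Fin.rev i) : ℕ))) = W₀ + r * k := by
    intro μ
    have h1 : ∑ i, (k - (μ (Fin.rev i) : ℕ)) = ∑ i, (k - (μ i : ℕ)) := by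
      have := Equiv.sum_comp (Fin.revPerm : Equiv.Perm (Fin r)) (fun i => k - (μ i : ℕ))
      simpa using this
    have h2 : ∀ i, (μ i : ℕ) + (k - (μ i : ℕ)) = k := fun i => by have := (μ i).isLt; omega
    rw [add_assoc, h1, ← Finset.sum_add_distrib]
    simp only [h2, Finset.sum_const, Finset.card_univ, Fintype.card_fin, smul_eq_mul]
  let E : ℕ → (Fin r → Fin (r + k)) → ℂ := fun w v =>
    Complex.exp (2 * Real.pi * Complex.I * ((d : ℂ) / r - (w : ℂ) / ((r : ℂ) * ((r : ℂ) + k))) *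
      ((∑ j, (v j : ℕ) : ℕ) : ℂ))
  let Pc : (Fin r → Fin (r + k)) → ℂ := fun v => (P (fun j => (v j : ℕ)) : ℂ)
  let X : (Fin r → Fin (r + k)) → ℂ := fun v => ∏ x, S (lam x) (fun j => (v j : ℕ))
  let S1 : (Fin r → Fin k) → (Fin r → Fin (r + k)) → ℂ :=
    fun μ v => S (fun i => (μ i : ℕ)) (fun j => (v j : ℕ))
  let S2 : (Fin r → Fin k) → (Fin r → Fin (r + k)) → ℂ :=
    fun μ v => S (fun i => k - (μ (Fin.rev i) : ℕ)) (fun j => (v j : ℕ))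
  let sgn : ℂ := (-1 : ℂ) ^ (d * ((r : ℤ) - 1))
  let c : ℂ := (r : ℂ) * ((r : ℂ) + k) ^ (r - 1)
  let Vset : Finset (Fin r → Fin (r + k)) := (Finset.univ : Finset (Fin r → Fin (r + k))).filter
    (fun v : Fin r → Fin (r + k) => StrictAnti v ∧ ∀ i : Fin r, (i : ℕ) = r - 1 → (v i : ℕ) = 0)
  have hL : V (g + 1) d W₀ (fun v => ∏ x, S (lam x) v) =
      sgn * ((k : ℂ) / r) ^ (g + 1) * (c ^ (g + 1) / c) *
        ∑ v ∈ Vset, E W₀ v * X v * (Pc v / Pc v ^ (g + 1)) := hV _ _ _ _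
  have hRμ : ∀ μ : Fin r → Fin k,
      V g d (W₀ + (∑ i, (μ i : ℕ)) + (∑ i, (k - (μ (Fin.rev i) : ℕ))))
          (fun v => (∏ x, S (lam x) v) * S (fun i => (μ i : ℕ)) v *
            S (fun i => k - (μ (Fin.rev i) : ℕ)) v) =
      sgn * ((k : ℂ) / r) ^ g * (c ^ g / c) *
        ∑ v ∈ Vset, E (W₀ + r * k) v * (X v * S1 μ v * S2 μ v) * (Pc v / Pc v ^ g) := by
    intro μ
    rw [hsumμ μ]
    exact hV _ _ _ _
  rw [hL, Finset.sum_congr rfl (fun μ _ => hRμ μ)]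
  have hRR : ∑ μ ∈ (Finset.univ : Finset (Fin r → Fin k)).filter (fun μ : Fin r → Fin k => Antitone μ),
        sgn * ((k : ℂ) / r) ^ g * (c ^ g / c) *
          ∑ v ∈ Vset, E (W₀ + r * k) v * (X v * S1 μ v * S2 μ v) * (Pc v / Pc v ^ g) =
      ∑ v ∈ Vset, ∑ μ ∈ (Finset.univ : Finset (Fin r → Fin k)).filter
          (fun μ : Fin r → Fin k => Antitone μ),
        sgn * ((k : ℂ) / r) ^ g * (c ^ g / c) *
          (E (W₀ + r * k) v * (X v * S1 μ v * S2 μ v) * (Pc v / Pc v ^ g)) := by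
    rw [Finset.sum_comm]
    exact Finset.sum_congr rfl (fun μ _ => Finset.mul_sum _ _ _)
  rw [hRR, Finset.mul_sum]
  refine Finset.sum_congr rfl (fun v hv => ?_)
  have hvm := (Finset.mem_filter.mp hv).2
  have hSA' : StrictAnti (fun j => (v j : ℕ)) := fun i j hij => Fin.lt_def.mp (hvm.1 hij)
  have hlt' : ∀ i, (fun j => (v j : ℕ)) i < r + k := fun i => (v i).isLt
  have h77 : ∑ μ ∈ (Finset.univ : Finset (Fin r → Fin k)).filter (fun μ : Fin r → Fin k => Antitone μ),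
      S1 μ v * S2 μ v =
      Complex.exp (2 * Real.pi * Complex.I * (k : ℂ) * ((∑ j, (v j : ℕ) : ℕ) : ℂ) / ((r : ℂ) + k)) *
        ((k : ℂ) * ((r : ℂ) + k) ^ (r - 1)) / Pc v := by
    have h := Groth.Agent.Helper22.Verl.main77 r k hr hk (fun j => (v j : ℕ)) hSA' hlt'
      (z (fun j => (v j : ℕ))) (hz _) (fun μ => S μ (fun j => (v j : ℕ))) (fun μ => hS μ _)
    rw [← Complex.ofReal_prod, ← hP (fun j => (v j : ℕ))] at h
    exact h
  have hR1 : ∑ μ ∈ (Finset.univ : Finset (Fin r → Fin k)).filter (fun μ : Fin r → Fin k => Antitone μ),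
        sgn * ((k : ℂ) / r) ^ g * (c ^ g / c) *
          (E (W₀ + r * k) v * (X v * S1 μ v * S2 μ v) * (Pc v / Pc v ^ g)) =
      sgn * ((k : ℂ) / r) ^ g * (c ^ g / c) * E (W₀ + r * k) v * X v * (Pc v / Pc v ^ g) *
        ∑ μ ∈ (Finset.univ : Finset (Fin r → Fin k)).filter (fun μ : Fin r → Fin k => Antitone μ),
          S1 μ v * S2 μ v := by
    rw [Finset.mul_sum]
    exact Finset.sum_congr rfl (fun μ _ => by ring)
  rw [hR1, h77]
  have hE : E (W₀ + r * k) v *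
      Complex.exp (2 * Real.pi * Complex.I * (k : ℂ) * ((∑ j, (v j : ℕ) : ℕ) : ℂ) / ((r : ℂ) + k)) =
      E W₀ v := by
    show Complex.exp _ * Complex.exp _ = Complex.exp _
    rw [← Complex.exp_add]
    congr 1
    push_cast
    field_simp
    ring
  have hcoef : ((k : ℂ) / r) ^ g * (c ^ g / c) * ((k : ℂ) * ((r : ℂ) + k) ^ (r - 1)) =
      ((k : ℂ) / r) ^ (g + 1) * (c ^ (g + 1) / c) := by
    show ((k : ℂ) / r) ^ g * (((r : ℂ) * ((r : ℂ) + k) ^ (r - 1)) ^ g / ((r : ℂ) * ((r : ℂ) + k) ^ (r - 1))) *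
        ((k : ℂ) * ((r : ℂ) + k) ^ (r - 1)) =
      ((k : ℂ) / r) ^ (g + 1) * (((r : ℂ) * ((r : ℂ) + k) ^ (r - 1)) ^ (g + 1) /
        ((r : ℂ) * ((r : ℂ) + k) ^ (r - 1)))
    have hpw : ((r : ℂ) + k) ^ (r - 1) ≠ 0 := pow_ne_zero _ hN0
    rw [div_pow, div_pow]
    field_simp
    ring
  have hPP : Pc v / Pc v ^ g / Pc v = Pc v / Pc v ^ (g + 1) := by
    rw [div_div, ← pow_succ]
  symm
  calc sgn * ((k : ℂ) / r) ^ g * (c ^ g / c) * E (W₀ + r * k) v * X v * (Pc v / Pc v ^ g) *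
        (Complex.exp (2 * Real.pi * Complex.I * (k : ℂ) * ((∑ j, (v j : ℕ) : ℕ) : ℂ) / ((r : ℂ) + k)) *
          ((k : ℂ) * ((r : ℂ) + k) ^ (r - 1)) / Pc v)
      = sgn * (((k : ℂ) / r) ^ g * (c ^ g / c) * ((k : ℂ) * ((r : ℂ) + k) ^ (r - 1))) *
          (E (W₀ + r * k) v *
            Complex.exp (2 * Real.pi * Complex.I * (k : ℂ) * ((∑ j, (v j : ℕ) : ℕ) : ℂ) / ((r : ℂ) + k))) *
          X v * (Pc v / Pc v ^ g / Pc v) := by ring
    _ = sgn * (((k : ℂ) / r) ^ (g + 1) * (c ^ (g + 1) / c)) * E W₀ v * X v *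
          (Pc v / Pc v ^ (g + 1)) := by rw [hcoef, hE, hPP]
    _ = sgn * ((k : ℂ) / r) ^ (g + 1) * (c ^ (g + 1) / c) *
          (E W₀ v * X v * (Pc v / Pc v ^ (g + 1))) := by ring

end Groth.Agent.S18381
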