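import Groth.Statements.S18385
import Groth.Agent.Lib.Helper12.IsogFib
import Groth.Agent.Lib.Helper16.Sch.HomFibD

set_option autoImplicit false
universe u
open CategoryTheory CategoryTheory.Limits MonoidalCategory CartesianMonoidalCategory MonObj GrpObj AlgebraicGeometry
open AbSch

namespace Groth.Agent.S18385

/-- (2) ⇔ (3): let S be a scheme, A and B abelian schemes over S (S-group schemes, smooth and proper
over S with geometrically connected fibres) whose fibres A_s and B_s have the same dimension for
every point s of S, and f : A → B a homomorphism of S-group schemes. Then f is locally quasi-finite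
if and only if f is surjective (and then f is an isogeny). -/
theorem result {S : Scheme.{u}} (A B : Over S)
    [GrpObj A] [Smooth A.hom] [IsProper A.hom] [GeometricallyConnected A.hom]
    [GrpObj B] [Smooth B.hom] [IsProper B.hom] [GeometricallyConnected B.hom]
    (f : A ⟶ B) [IsMonHom f]
    (hdim : ∀ s : S, topologicalKrullDim ↥(A.hom.fiber s) = topologicalKrullDim ↥(B.hom.fiber s)) :
    LocallyQuasiFinite f.left ↔ Surjective f.left := by
  have : LocallyOfFinitePresentation A.hom := inferInstance
  have := Groth.Agent.Helper16.HomFibCrit.lfp_left f
  have : LocallyOfFiniteType f.left := inferInstance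
  rw [Groth.Agent.Helper16.KerTfae.lqf_iff_fibres f,
    Groth.Agent.Helper12.IsogFib.surjective_iff_fibres f]
  exact forall_congr' fun s =>
    Groth.Agent.Helper12.IsogFib.fibre_lqf_iff_surjective f s (hdim s)

end Groth.Agent.S18385
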