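import Groth.Statements.S18386
-- import your own Groth.Agent.* helpers here
import Mathlib

set_option autoImplicit false
universe u
open LVCorr

namespace Groth.Agent.S18386

open AlgebraicGeometry in
/-- Let X be a connected Noetherian scheme and I a quasi-coherent sheaf of ideals on X, different from
the structure sheaf, such that I^k = I^(k+1) for some natural number k. Then I^k = 0. -/
theorem result (X : Scheme.{u}) [AlgebraicGeometry.IsNoetherian X]
    [ConnectedSpace X] (I : X.IdealSheafData) (hI : I ≠ ⊤) (k : ℕ)
    (h : I ^ k = I ^ (k + 1)) : I ^ k = ⊥ := by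
  classical
  have hk : k ≠ 0 := by
    rintro rfl
    apply hI
    simpa using h.symm
  set J := I ^ k with hJ
  -- J * J = J
  have hJI : ∀ m : ℕ, I ^ (k + m) = J := by
    intro m
    induction m with
    | zero => rfl
    | succ m ih =>
      rw [← add_assoc, pow_succ, ih, hJ, ← pow_succ, ← h]
  have hJJ : J * J = J := by
    rw [hJ, ← pow_add]
    exact hJI k
  have hsupp : J.support = I.support := Scheme.IdealSheafData.support_pow I k hk
  -- local idempotent generators
  have hloc : ∀ U : X.affineOpens, ∃ e : Γ(X, U.1), IsIdempotentElem e ∧ J.ideal U = Ideal.span {e} := by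
    intro U
    have : IsNoetherianRing Γ(X, U.1) := IsLocallyNoetherian.component_noetherian U
    have hfg : (J.ideal U).FG := IsNoetherian.noetherian _
    have hid : IsIdempotentElem (J.ideal U) := by
      have := congrArg (fun K : X.IdealSheafData => K.ideal U) hJJ
      exact this
    exact (Ideal.isIdempotentElem_iff_of_fg _ hfg).mp hid
  -- support is open
  have hopen : IsOpen (J.support : Set X) := by
    rw [isOpen_iff_forall_mem_open]
    intro x hx
    obtain ⟨_, ⟨U, hU : IsAffineOpen U, rfl⟩, hxU, -⟩ :=
      X.isBasis_affineOpens.exists_subset_of_mem_open (Set.mem_univ x) isOpen_univ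
    let U' : X.affineOpens := ⟨U, hU⟩
    obtain ⟨e, he, hJe⟩ := hloc U'
    have hmul : e * (1 - e) = 0 := by
      rw [mul_sub, mul_one, he.eq, sub_self]
    refine ⟨X.basicOpen (1 - e), ?_, (X.basicOpen (1 - e)).2, ?_⟩
    · intro y hy
      have hyU : y ∈ U := X.basicOpen_le _ hy
      have hye : y ∉ X.basicOpen e := by
        intro hye
        have : y ∈ X.basicOpen (e * (1 - e)) := by
          rw [Scheme.basicOpen_mul]; exact ⟨hye, hy⟩
        rw [hmul, Scheme.basicOpen_zero] at this
        exact this
      rw [SetLike.mem_coe, Scheme.IdealSheafData.mem_support_iff_of_mem (U := U') hyU, hJe,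
        Scheme.zeroLocus_span, Scheme.mem_zeroLocus_iff]
      rintro f (rfl : f = e)
      exact hye
    · have hxe : x ∉ X.basicOpen e := by
        have := (Scheme.IdealSheafData.mem_support_iff_of_mem (U := U') hxU).mp hx
        rw [hJe, Scheme.zeroLocus_span, Scheme.mem_zeroLocus_iff] at this
        exact this e rfl
      have h1 : x ∈ X.basicOpen (e + (1 - e)) := by
        rw [add_sub_cancel, Scheme.basicOpen_one]; exact hxU
      rcases (Scheme.basicOpen_add_le X e (1 - e) h1) with h2 | h2
      · exact absurd h2 hxe
      · exact h2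
  have hclopen : IsClopen (J.support : Set X) := ⟨J.support.2, hopen⟩
  have hne : (J.support : Set X).Nonempty := by
    rw [Set.nonempty_iff_ne_empty]
    intro hemp
    apply hI
    rw [← Scheme.IdealSheafData.support_eq_bot_iff, ← hsupp]
    exact TopologicalSpace.Closeds.ext hemp
  have huniv : (J.support : Set X) = Set.univ := hclopen.eq_univ hne
  -- conclude
  ext U : 2
  obtain ⟨e, he, hJe⟩ := hloc U
  have hbo : X.basicOpen e = ⊥ := by
    rw [eq_bot_iff]
    intro y hy
    have hyU : y ∈ U.1 := X.basicOpen_le _ hy
    have hys : y ∈ J.support := by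
      have : y ∈ (J.support : Set X) := by rw [huniv]; trivial
      exact this
    rw [Scheme.IdealSheafData.mem_support_iff_of_mem (U := U) hyU, hJe,
        Scheme.zeroLocus_span, Scheme.mem_zeroLocus_iff] at hys
    exact absurd hy (hys e rfl)
  have hnil : IsNilpotent e :=
    (Scheme.isNilpotent_iff_basicOpen_eq_bot_of_isCompact U.2.isCompact e).mpr hbo
  have he0 : e = 0 := he.eq_zero_of_isNilpotent hnil
  rw [hJe, he0]
  simp

end Groth.Agent.S18386
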