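import Groth.Statements.S18387
-- import your own Groth.Agent.* helpers here
import Mathlib

set_option autoImplicit false
universe u
open LVCorr

namespace Groth.Agent.S18387

/-- In the affine form which its proof establishes. Let A be a commutative algebra over a field F which
is finite-dimensional of dimension d over F. Then the d-th power of the nilradical of A vanishes.
(Applied to the fibre algebra A = B/mB of a quasi-finite morphism over a closed point with maximal
ideal m, this says that the d-th power of the radical of mB lies in mB, i.e. the ramification of the
morphism at that point is at most the degree d of the fibre.) -/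
theorem result (F A : Type u) [Field F] [CommRing A] [Algebra F A]
    [FiniteDimensional F A] : nilradical A ^ Module.finrank F A = ⊥ := by
  haveI : IsArtinianRing A := IsArtinianRing.of_finite F A
  obtain ⟨m, hm⟩ : IsNilpotent (nilradical A) := IsArtinianRing.isNilpotent_nilradical
  set N := nilradical A with hN
  have hstab : ∀ k, N ^ (k + 1) = N ^ k → ∀ j, N ^ (k + j) = N ^ k := by
    intro k hk j
    induction j with
    | zero => rfl
    | succ j ih => rw [← add_assoc, pow_succ, ih, ← pow_succ, hk]
  have key : ∀ k, N ^ k = ⊥ ∨ Module.finrank F ((N ^ k).restrictScalars F) + k ≤ Module.finrank F A := by
    intro k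
    induction k with
    | zero => 
      right
      simpa using Submodule.finrank_le ((N ^ 0).restrictScalars F)
    | succ k ih =>
      rcases ih with h | h
      · left; rw [pow_succ, h]; simp
      · by_cases heq : N ^ (k + 1) = N ^ k
        · left
          have := hstab k heq m
          rw [heq, ← this, add_comm, pow_add, hm]; simp
        · right
          have hlt : N ^ (k + 1) < N ^ k := lt_of_le_of_ne (Ideal.pow_le_pow_right (Nat.le_succ k)) heq
          have hlt' : (N ^ (k + 1)).restrictScalars F < (N ^ k).restrictScalars F := by
            exact hlt
          have := Submodule.finrank_lt_finrank_of_lt hlt'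
          omega
  rcases key (Module.finrank F A) with h | h
  · exact h
  · have h0 : Module.finrank F ((N ^ Module.finrank F A).restrictScalars F) = 0 := by omega
    have := Submodule.finrank_eq_zero.mp h0
    ext x
    constructor
    · intro hx
      have : x ∈ (N ^ Module.finrank F A).restrictScalars F := hx
      rw [Submodule.finrank_eq_zero.mp h0] at this
      simpa using this
    · intro hx
      rw [Ideal.mem_bot] at hx
      rw [hx]; exact Ideal.zero_mem _

end Groth.Agent.S18387
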