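import Groth.Statements.S18389
-- import your own Groth.Agent.* helpers here
import Mathlib

set_option autoImplicit false
universe u
open LVCorr

namespace Groth.Agent.S18389

open AlgebraicGeometry CategoryTheory in
/-- Let j : C → C̄ be an open immersion with dense image and jX : X → X̄ an open immersion, and let c₁ :
C → X and c̄₁ : C̄ → X̄ satisfy j followed by c̄₁ equals c₁ followed by jX, with c̄₁ separated. Let
U be an open subset of X such that c₁⁻¹(U) is dense in C and the restriction c₁⁻¹(U) → U of c₁ is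
proper. Then c̄₁⁻¹(jX(U)) = j(c₁⁻¹(U)) as open subsets of C̄. (In the source all schemes are
separated of finite type over a field, C̄ and X̄ are compactifications of a correspondence and of X,
so that c̄₁ is automatically separated.) -/
theorem result {C Cb X Xb : Scheme.{u}}
    (j : C ⟶ Cb) [IsOpenImmersion j] (hj : DenseRange j.base)
    (jX : X ⟶ Xb) [IsOpenImmersion jX] (c₁ : C ⟶ X) (cb₁ : Cb ⟶ Xb) [IsSeparated cb₁]
    (h : j ≫ cb₁ = c₁ ≫ jX) (U : X.Opens) (hU : Dense ((c₁ ⁻¹ᵁ U : C.Opens) : Set C))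
    [IsProper (c₁ ∣_ U)] :
    cb₁ ⁻¹ᵁ (jX ''ᵁ U) = j ''ᵁ (c₁ ⁻¹ᵁ U) := by
  set W : C.Opens := c₁ ⁻¹ᵁ U with hW
  set V : Cb.Opens := cb₁ ⁻¹ᵁ (jX ''ᵁ U) with hV
  have hpt : ∀ x : C, cb₁ (j x) = jX (c₁ x) := by
    intro x
    have := congrArg (fun k : C ⟶ Xb => k x) h
    simpa using this
  have hWV : W ≤ j ⁻¹ᵁ V := by
    intro x hx
    change cb₁ (j x) ∈ jX ''ᵁ U
    rw [hpt]
    exact ⟨c₁ x, hx, rfl⟩
  have hle : j ''ᵁ W ≤ V := by
    rintro _ ⟨x, hx, rfl⟩
    exact hWV hx
  apply le_antisymm _ hle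
  -- the morphisms
  let f' : W.toScheme ⟶ V.toScheme := j.resLE V W hWV
  let g : V.toScheme ⟶ U.toScheme := (cb₁ ∣_ (jX ''ᵁ U)) ≫ (jX.isoImage U).inv
  have hfg : f' ≫ g = c₁ ∣_ U := by
    rw [← cancel_mono (U.ι ≫ jX)]
    simp only [f', g, Category.assoc]
    rw [Scheme.Hom.isoImage_inv_ι, morphismRestrict_ι, Scheme.Hom.resLE_comp_ι_assoc, h,
      ← Category.assoc, ← morphismRestrict_ι, Category.assoc]
  have : IsSeparated g := by
    dsimp only [g]; infer_instance
  have : IsProper (f' ≫ g) := by rw [hfg]; infer_instance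
  have : IsProper f' := IsProper.of_comp f' g
  have hclosed : IsClosed (Set.range f') := f'.isClosedMap.isClosed_range
  have hval : ∀ (x : C) (hx : x ∈ W), (f' ⟨x, hx⟩ : V).1 = j x := by
    intro x hx
    have := congrArg (fun k : W.toScheme ⟶ Cb => k ⟨x, hx⟩) (Scheme.Hom.resLE_comp_ι j hWV)
    simp only [Scheme.Hom.comp_apply, Scheme.Opens.ι_apply] at this
    exact this
  -- range of f' in V corresponds to j '' W
  obtain ⟨Z, hZ, hZeq⟩ := isClosed_induced_iff.mp hclosed
  have hdense : Dense (j '' (W : Set C)) := hj.dense_image j.continuous hU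
  have hsub : j '' (W : Set C) ⊆ Z := by
    rintro _ ⟨x, hx, rfl⟩
    have hmem : (⟨j x, hWV hx⟩ : V) ∈ Set.range f' := by
      refine ⟨⟨x, hx⟩, ?_⟩
      apply Subtype.ext
      exact hval x hx
    rw [← hZeq] at hmem
    exact hmem
  have hZuniv : Z = Set.univ := by
    rw [← hZ.closure_eq]
    exact Set.eq_univ_of_univ_subset (hdense.closure_eq ▸ closure_mono hsub)
  intro y hy
  have hy' : (⟨y, hy⟩ : V) ∈ Set.range f' := by
    rw [← hZeq, hZuniv]; trivial
  obtain ⟨⟨x, hx⟩, hxy⟩ := hy'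
  refine ⟨x, hx, ?_⟩
  have h2 := hval x hx
  rw [hxy] at h2
  exact h2.symm

end Groth.Agent.S18389
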