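import Groth.Statements.S18390
-- import your own Groth.Agent.* helpers here
import Mathlib

set_option autoImplicit false
universe u
open LVCorr

namespace Groth.Agent.S18390

/-- In the affine, ring-theoretic form which its proof establishes. Let φ : A' → A be a ring
homomorphism, I' a finitely generated ideal of A' and I an ideal of A containing the image of I'.
Then some power I'^k is mapped into I^(k+1) if and only if for every n ≥ 1 and every a ∈ I'^n there
is a k with φ(a)^k ∈ I^(nk+1). (Geometrically, for a morphism f : (X, Z) → (X', Z') of pairs with Z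
a closed subscheme of the preimage of Z', the normal cone of Z in X is the spectrum of the
associated graded algebra of I, and the second condition says that the induced map of normal cones
sends the normal cone of Z set-theoretically into the zero section Z'; the source states the
equivalence in that language.) -/
theorem result (A' A : Type u) [CommRing A'] [CommRing A]
    (φ : A' →+* A) (I' : Ideal A') (hI' : I'.FG) (I : Ideal A) (hle : I'.map φ ≤ I) :
    (∃ k : ℕ, (I' ^ k).map φ ≤ I ^ (k + 1)) ↔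
      ∀ n : ℕ, 1 ≤ n → ∀ a ∈ I' ^ n, ∃ k : ℕ, 1 ≤ k ∧ φ a ^ k ∈ I ^ (n * k + 1) := by
  have hpow : ∀ (J : Ideal A') (m : ℕ), J ≤ I' → (J ^ m).map φ ≤ I ^ m := by
    intro J m hJ
    rw [Ideal.map_pow]
    exact Ideal.pow_right_mono ((Ideal.map_mono hJ).trans hle) m
  constructor
  · rintro ⟨k₀, hk₀⟩ n hn a ha
    refine ⟨k₀ + 1, Nat.succ_pos _, ?_⟩
    have h1 : a ^ (k₀ + 1) ∈ I' ^ (n * (k₀ + 1)) := by
      rw [pow_mul]; exact Ideal.pow_mem_pow ha _
    obtain ⟨d, hd⟩ : ∃ d, n * (k₀ + 1) = k₀ + d := ⟨n * (k₀ + 1) - k₀, by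
      have : k₀ ≤ n * (k₀ + 1) := by nlinarith
      omega⟩
    have h2 : (I' ^ (n * (k₀ + 1))).map φ ≤ I ^ (n * (k₀ + 1) + 1) := by
      rw [hd, pow_add, Ideal.map_mul]
      calc (I' ^ k₀).map φ * (I' ^ d).map φ ≤ I ^ (k₀ + 1) * I ^ d :=
            Ideal.mul_mono hk₀ (hpow I' d le_rfl)
        _ = I ^ (k₀ + d + 1) := by rw [← pow_add]; congr 1; ring
    rw [← map_pow]
    exact h2 (Ideal.mem_map_of_mem φ h1)
  · intro H
    have H1 : ∀ a ∈ I', ∃ k : ℕ, 1 ≤ k ∧ φ a ^ k ∈ I ^ (k + 1) := by
      intro a ha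
      obtain ⟨k, hk, h⟩ := H 1 le_rfl a (by simpa using ha)
      exact ⟨k, hk, by simpa using h⟩
    have key : ∀ J : Ideal A', J.FG → J ≤ I' → ∃ K, ∀ m, K ≤ m → (J ^ m).map φ ≤ I ^ (m + 1) := by
      intro J hJ
      refine Submodule.fg_induction (R := A') (M := A')
        (motive := fun (J : Ideal A') _ => J ≤ I' → ∃ K, ∀ m, K ≤ m → (J ^ m).map φ ≤ I ^ (m + 1))
        ?_ ?_ J hJ
      · intro a ha
        have haI : a ∈ I' := ha (Submodule.mem_span_singleton_self a)
        obtain ⟨k, _, hk⟩ := H1 a haI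
        refine ⟨k, fun m hm => ?_⟩
        have hφa : φ a ∈ I := hle (Ideal.mem_map_of_mem φ haI)
        change (Ideal.span {a} ^ m).map φ ≤ I ^ (m + 1)
        rw [Ideal.span_singleton_pow, Ideal.map_span, Set.image_singleton, Ideal.span_le,
          Set.singleton_subset_iff, map_pow]
        obtain ⟨d, rfl⟩ := Nat.exists_eq_add_of_le hm
        have e : I ^ (k + d + 1) = I ^ (k + 1) * I ^ d := by rw [← pow_add]; congr 1; ring
        rw [SetLike.mem_coe, e, pow_add (φ a)]
        exact Ideal.mul_mem_mul hk (Ideal.pow_mem_pow hφa d)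
      · intro (J₁ : Ideal A') (J₂ : Ideal A') _ _ h₁ h₂ hJ
        obtain ⟨K₁, hK₁⟩ := h₁ (le_sup_left.trans hJ)
        obtain ⟨K₂, hK₂⟩ := h₂ (le_sup_right.trans hJ)
        refine ⟨K₁ + K₂, fun m hm => ?_⟩
        have hterm : ∀ i, i < m + 1 → Ideal.map φ (J₁ ^ i * J₂ ^ (m - i)) ≤ I ^ (m + 1) := by
          intro i hi
          rw [Ideal.map_mul]
          by_cases h : K₁ ≤ i
          · have t1 : Ideal.map φ (J₁ ^ i) ≤ I ^ (i + 1) := hK₁ i h
            have t2 : Ideal.map φ (J₂ ^ (m - i)) ≤ I ^ (m - i) := hpow J₂ _ (le_sup_right.trans hJ)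
            have e : I ^ (m + 1) = I ^ (i + 1) * I ^ (m - i) := by
              rw [← pow_add]; congr 1; omega
            rw [e]
            exact Ideal.mul_mono t1 t2
          · have t1 : Ideal.map φ (J₁ ^ i) ≤ I ^ i := hpow J₁ _ (le_sup_left.trans hJ)
            have t2 : Ideal.map φ (J₂ ^ (m - i)) ≤ I ^ (m - i + 1) := hK₂ (m - i) (by omega)
            have e : I ^ (m + 1) = I ^ i * I ^ (m - i + 1) := by
              rw [← pow_add]; congr 1; omega
            rw [e]
            exact Ideal.mul_mono t1 t2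
        have hsup : (J₁ ⊔ J₂) ^ m ≤ Ideal.comap φ (I ^ (m + 1)) := by
          rw [← Ideal.add_eq_sup, add_pow, Ideal.sum_eq_sup]
          apply Finset.sup_le
          intro i hi
          rw [Finset.mem_range] at hi
          rw [← Ideal.map_le_iff_le_comap]
          exact (Ideal.map_mono Ideal.mul_le_left).trans (hterm i hi)
        exact Ideal.map_le_iff_le_comap.mpr hsup
    obtain ⟨K, hK⟩ := key I' hI' le_rfl
    exact ⟨K, hK K le_rfl⟩

end Groth.Agent.S18390
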