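import Groth.Statements.S18391
-- import your own Groth.Agent.* helpers here
import Mathlib

set_option autoImplicit false
universe u
open LVCorr

namespace Groth.Agent.S18391

/-- Let A be a normal (integrally closed) Noetherian domain and z an element of A such that the radical
of the principal ideal (z) is prime. Then there exist elements w, t of A and a natural number r,
with w not in the radical of (z), such that in the localization A[1/w] the ideal generated by z
equals the ideal generated by t^r and the ideal generated by t is prime. (The condition on w is the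
one the printed proof produces and the later use of the lemma needs.) -/
theorem result (A : Type u) [CommRing A] [IsDomain A]
    [IsNoetherianRing A] [IsIntegrallyClosed A] (z : A) (hz : (Ideal.span {z}).radical.IsPrime) :
    ∃ (w t : A) (r : ℕ), w ∉ (Ideal.span {z}).radical ∧
      Ideal.span {algebraMap A (Localization.Away w) z} =
        Ideal.span {algebraMap A (Localization.Away w) t ^ r} ∧
      (Ideal.span {algebraMap A (Localization.Away w) t}).IsPrime := by
  classical
  obtain ⟨P, hP⟩ : ∃ P : Ideal A, P = (Ideal.span {z}).radical := ⟨_, rfl⟩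
  rw [← hP] at hz ⊢
  have hzP : z ∈ P := by rw [hP]; exact Ideal.le_radical (Ideal.subset_span rfl)
  by_cases hz0 : z = 0
  · subst hz0
    refine ⟨1, 0, 1, ?_, ?_, ?_⟩
    · exact fun h1 => hz.ne_top ((Ideal.eq_top_iff_one _).mpr h1)
    · simp
    · have : IsDomain (Localization.Away (1 : A)) :=
        IsLocalization.isDomain_localization (M := Submonoid.powers (1 : A))
          (by intro x hx; obtain ⟨n, rfl⟩ := hx; simp)
      simp only [map_zero]
      rw [Ideal.span_singleton_eq_bot.mpr rfl]
      exact Ideal.isPrime_bot
  have hPmin : P ∈ (Ideal.span {z}).minimalPrimes := by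
    refine ⟨⟨hz, ?_⟩, ?_⟩
    · rw [hP]; exact Ideal.le_radical
    · intro Q hQ hQP
      rw [hP]
      exact (Ideal.IsPrime.radical_le_iff hQ.1).mpr hQ.2
  have hPht : P.height ≤ 1 :=
    Ideal.height_le_one_of_isPrincipal_of_mem_minimalPrimes (Ideal.span {z}) P hPmin
  -- the local ring at P
  have hM : P.primeCompl ≤ nonZeroDivisors A := by
    intro x hx
    exact mem_nonZeroDivisors_of_ne_zero (fun h => hx (h ▸ P.zero_mem))
  have : IsIntegrallyClosed (Localization.AtPrime P) :=
    isIntegrallyClosed_of_isLocalization (Localization.AtPrime P) P.primeCompl hM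
  have : IsDomain (Localization.AtPrime P) :=
    IsLocalization.isDomain_localization hM
  have hinj : Function.Injective (algebraMap A (Localization.AtPrime P)) :=
    IsLocalization.injective _ hM
  have hdim : Ring.KrullDimLE 1 (Localization.AtPrime P) := by
    rw [Ring.krullDimLE_iff, IsLocalization.AtPrime.ringKrullDim_eq_height P]
    exact_mod_cast hPht
  have h4 : IsIntegrallyClosed (Localization.AtPrime P) ∧
      ∀ Q : Ideal (Localization.AtPrime P), Q ≠ ⊥ → Q.IsPrime →
        Q = IsLocalRing.maximalIdeal (Localization.AtPrime P) :=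
    ⟨inferInstance, fun Q hQ hQ' => IsLocalRing.eq_maximalIdeal (hQ'.isMaximal_of_ne_bot hQ)⟩
  have h5 := ((tfae_of_isNoetherianRing_of_isLocalRing_of_isDomain (Localization.AtPrime P)).out 3 4).mp h4
  have h7 := ((tfae_of_isNoetherianRing_of_isLocalRing_of_isDomain (Localization.AtPrime P)).out 3 6).mp h4
  obtain ⟨τ, hτ⟩ := h5.principal
  obtain ⟨t, s₀, hts⟩ := IsLocalization.exists_mk'_eq P.primeCompl τ
  have hmax : IsLocalRing.maximalIdeal (Localization.AtPrime P) =
      Ideal.span {algebraMap A (Localization.AtPrime P) t} := by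
    rw [hτ, ← hts, ← IsLocalization.mk'_spec (Localization.AtPrime P) t s₀]
    exact (Ideal.span_singleton_mul_right_unit (IsLocalization.map_units _ s₀) _).symm
  have htP : t ∈ P := by
    rw [← IsLocalization.AtPrime.to_map_mem_maximal_iff (Localization.AtPrime P) P t, hmax]
    exact Ideal.subset_span rfl
  -- z = unit * t^r
  have hzne : Ideal.span {algebraMap A (Localization.AtPrime P) z} ≠ ⊥ := by
    rw [Ne, Ideal.span_singleton_eq_bot]
    exact fun h => hz0 (hinj (by rw [h, map_zero]))
  obtain ⟨r, hr⟩ := h7 _ hzne
  rw [hmax, Ideal.span_singleton_pow, Ideal.span_singleton_eq_span_singleton] at hr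
  obtain ⟨u, hu⟩ := hr
  obtain ⟨a, s, has⟩ := IsLocalization.exists_mk'_eq P.primeCompl (u : Localization.AtPrime P)
  have haP : a ∉ P := by
    have h1 : IsUnit (IsLocalization.mk' (Localization.AtPrime P) a s) := has ▸ u.isUnit
    exact (IsLocalization.AtPrime.isUnit_mk'_iff (Localization.AtPrime P) P a s).mp h1
  have hsP : (s : A) ∉ P := s.2
  have hzas : z * a = t ^ r * s := by
    apply hinj
    rw [map_mul, map_mul, map_pow, ← hu, ← has, mul_assoc, IsLocalization.mk'_spec]
  -- generators of P
  have hgen : ∀ g ∈ P, ∃ s' : A, s' ∉ P ∧ g * s' ∈ Ideal.span {t} := by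
    intro g hg
    have h1 : algebraMap A (Localization.AtPrime P) g ∈
        IsLocalRing.maximalIdeal (Localization.AtPrime P) :=
      (IsLocalization.AtPrime.to_map_mem_maximal_iff (Localization.AtPrime P) P g).mpr hg
    rw [hmax, Ideal.mem_span_singleton'] at h1
    obtain ⟨c, hc⟩ := h1
    obtain ⟨b, s', hbs⟩ := IsLocalization.exists_mk'_eq P.primeCompl c
    refine ⟨s', s'.2, Ideal.mem_span_singleton'.mpr ⟨b, ?_⟩⟩
    apply hinj
    rw [map_mul, map_mul, ← hc, ← hbs, mul_right_comm, IsLocalization.mk'_spec]
  have hfin : ∀ S : Finset A, (∀ g ∈ S, g ∈ P) →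
      ∃ s' : A, s' ∉ P ∧ ∀ g ∈ S, g * s' ∈ Ideal.span {t} := by
    intro S
    induction S using Finset.induction_on with
    | empty => intro _; exact ⟨1, fun h1 => hz.ne_top ((Ideal.eq_top_iff_one _).mpr h1), by simp⟩
    | insert g S hgS ih =>
      intro hS
      obtain ⟨s1, hs1, h1⟩ := ih (fun g hg => hS g (Finset.mem_insert_of_mem hg))
      obtain ⟨s2, hs2, h2⟩ := hgen g (hS g (Finset.mem_insert_self _ _))
      refine ⟨s1 * s2, fun h => (hz.mem_or_mem h).elim hs1 hs2, ?_⟩
      intro g' hg'
      rcases Finset.mem_insert.mp hg' with rfl | hg'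
      · rw [mul_left_comm]; exact Ideal.mul_mem_left _ _ h2
      · rw [← mul_assoc]; exact Ideal.mul_mem_right _ _ (h1 g' hg')
  obtain ⟨S, hS⟩ := (IsNoetherian.noetherian P : P.FG)
  obtain ⟨s', hs'P, hs'⟩ := hfin S (fun g hg => hS ▸ Ideal.subset_span hg)
  have hall : ∀ g ∈ P, g * s' ∈ Ideal.span {t} := by
    intro g hg
    rw [← hS] at hg
    refine Submodule.span_induction ?_ ?_ ?_ ?_ hg
    · exact fun x hx => hs' x hx
    · simp
    · intro x y _ _ hx hy; rw [add_mul]; exact Ideal.add_mem _ hx hy
    · intro c x _ hx; rw [smul_eq_mul, mul_assoc]; exact Ideal.mul_mem_left _ _ hx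
  -- the element w
  have hwP : a * s * s' ∉ P := fun h =>
    (hz.mem_or_mem h).elim (fun h => (hz.mem_or_mem h).elim haP hsP) hs'P
  have hwu : IsUnit (algebraMap A (Localization.Away (a * s * s')) (a * s * s')) :=
    IsLocalization.Away.algebraMap_isUnit (a * s * s')
  have hau : IsUnit (algebraMap A (Localization.Away (a * s * s')) a) := by
    rw [map_mul, map_mul] at hwu
    exact isUnit_of_mul_isUnit_left (isUnit_of_mul_isUnit_left hwu)
  have hsu : IsUnit (algebraMap A (Localization.Away (a * s * s')) s) := by
    rw [map_mul, map_mul] at hwu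
    exact isUnit_of_mul_isUnit_right (isUnit_of_mul_isUnit_left hwu)
  have hs'u : IsUnit (algebraMap A (Localization.Away (a * s * s')) s') := by
    rw [map_mul] at hwu
    exact isUnit_of_mul_isUnit_right hwu
  have hzas' : algebraMap A (Localization.Away (a * s * s')) z *
      algebraMap A (Localization.Away (a * s * s')) a =
      algebraMap A (Localization.Away (a * s * s')) t ^ r *
        algebraMap A (Localization.Away (a * s * s')) s := by
    rw [← map_mul, hzas, map_mul, map_pow]
  refine ⟨a * s * s', t, r, hwP, ?_, ?_⟩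
  · apply le_antisymm
    · rw [Ideal.span_singleton_le_span_singleton]
      have h1 : algebraMap A (Localization.Away (a * s * s')) t ^ r ∣
          algebraMap A (Localization.Away (a * s * s')) z *
            algebraMap A (Localization.Away (a * s * s')) a := ⟨_, hzas'⟩
      exact (hau.dvd_mul_right).mp h1
    · rw [Ideal.span_singleton_le_span_singleton]
      have h1 : algebraMap A (Localization.Away (a * s * s')) z ∣
          algebraMap A (Localization.Away (a * s * s')) t ^ r *
            algebraMap A (Localization.Away (a * s * s')) s := ⟨_, hzas'.symm⟩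
      exact (hsu.dvd_mul_right).mp h1
  · have hdisj : Disjoint (Submonoid.powers (a * s * s') : Set A) (P : Set A) := by
      rw [Set.disjoint_left]
      rintro x ⟨n, rfl⟩ hx
      exact hwP (hz.mem_of_pow_mem n hx)
    have hprime : (P.map (algebraMap A (Localization.Away (a * s * s')))).IsPrime :=
      IsLocalization.isPrime_of_isPrime_disjoint (Submonoid.powers (a * s * s')) _ P hz hdisj
    have heq : Ideal.span {algebraMap A (Localization.Away (a * s * s')) t} =
        P.map (algebraMap A (Localization.Away (a * s * s'))) := by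
      apply le_antisymm
      · rw [Ideal.span_le]
        rintro x rfl
        exact Ideal.mem_map_of_mem _ htP
      · rw [Ideal.map_le_iff_le_comap]
        intro g hg
        rw [Ideal.mem_comap, ← Ideal.mul_unit_mem_iff_mem _ hs'u, ← map_mul]
        obtain ⟨b, hb⟩ := Ideal.mem_span_singleton'.mp (hall g hg)
        rw [← hb, map_mul]
        exact Ideal.mul_mem_left _ _ (Ideal.subset_span rfl)
    rw [heq]
    exact hprime

end Groth.Agent.S18391
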