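import Groth.Statements.S18392
-- import your own Groth.Agent.* helpers here
import Mathlib

set_option autoImplicit false
universe u
open LVCorr

namespace Groth.Agent.S18392

/-- Let A be a normal (integrally closed) Noetherian domain and z an element of A such that the radical
of (z) is prime. Then for every non-empty open subset V of Spec A contained in the basic open set
D(z) (that is, every non-empty open subset of Spec A[1/z]) there is an element x of A, not in the
radical of (z), such that the basic open set D(xz) = Spec A[1/xz] is contained in V. -/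
theorem result (A : Type u) [CommRing A]
    [IsDomain A] [IsNoetherianRing A] [IsIntegrallyClosed A] (z : A)
    (hz : (Ideal.span {z}).radical.IsPrime) (V : Set (PrimeSpectrum A)) (hV : IsOpen V)
    (hVz : V ⊆ (PrimeSpectrum.basicOpen z : Set (PrimeSpectrum A))) (hne : V.Nonempty) :
    ∃ x : A, x ∉ (Ideal.span {z}).radical ∧
      ((PrimeSpectrum.basicOpen (x * z) : TopologicalSpace.Opens (PrimeSpectrum A)) :
        Set (PrimeSpectrum A)) ⊆ V := by
  classical
  obtain ⟨P, hP⟩ : ∃ P : Ideal A, P = (Ideal.span {z}).radical := ⟨_, rfl⟩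
  rw [← hP] at hz ⊢
  have hzP : z ∈ P := by rw [hP]; exact Ideal.le_radical (Ideal.subset_span rfl)
  obtain ⟨I, hI⟩ := (PrimeSpectrum.isClosed_iff_zeroLocus_ideal _).mp hV.isClosed_compl
  have hPmin : P ∈ (Ideal.span {z}).minimalPrimes := by
    refine ⟨⟨hz, ?_⟩, ?_⟩
    · rw [hP]; exact Ideal.le_radical
    · intro Q hQ hQP
      rw [hP]
      exact (Ideal.IsPrime.radical_le_iff hQ.1).mpr hQ.2
  have hPht : P.height ≤ 1 :=
    Ideal.height_le_one_of_isPrincipal_of_mem_minimalPrimes (Ideal.span {z}) P hPmin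
  have hIne : I ≠ ⊥ := by
    rintro rfl
    obtain ⟨v, hv⟩ := hne
    have : v ∈ Vᶜ := by rw [hI]; simp
    exact this hv
  have key : ∀ Q ∈ I.minimalPrimes, z ∉ Q → ∃ x ∈ Q, x ∉ P := by
    intro Q hQ hzQ
    have hQprime : Q.IsPrime := hQ.1.1
    by_contra hcon
    push Not at hcon
    have hQP : Q ≤ P := fun x hx => hcon x hx
    have hQltP : Q < P := lt_of_le_of_ne hQP (fun h => hzQ (h ▸ hzP))
    have h1 : Q.height < P.height := Ideal.height_strict_mono_of_isPrime hQltP
    have h2 : Q.height = 0 := by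
      have : Q.height < 1 := lt_of_lt_of_le h1 hPht
      exact Order.lt_one_iff.mp this
    have h3 : Q = ⊥ := Ideal.height_eq_zero_iff_eq_bot.mp h2
    apply hIne
    rw [eq_bot_iff, ← h3]
    exact hQ.1.2
  have hfin := Ideal.finite_minimalPrimes_of_isNoetherianRing A I
  let f : Ideal A → A := fun Q =>
    if h : Q ∈ I.minimalPrimes ∧ z ∉ Q then Classical.choose (key Q h.1 h.2) else 1
  have hf1 : ∀ Q, f Q ∉ P := by
    intro Q
    by_cases h : Q ∈ I.minimalPrimes ∧ z ∉ Q
    · simp only [f, dif_pos h]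
      exact (Classical.choose_spec (key Q h.1 h.2)).2
    · simp only [f, dif_neg h]
      exact fun h1 => hz.ne_top ((Ideal.eq_top_iff_one _).mpr h1)
  have hf2 : ∀ Q, Q ∈ I.minimalPrimes → z ∉ Q → f Q ∈ Q := by
    intro Q hQ hzQ
    have h : Q ∈ I.minimalPrimes ∧ z ∉ Q := ⟨hQ, hzQ⟩
    simp only [f, dif_pos h]
    exact (Classical.choose_spec (key Q h.1 h.2)).1
  refine ⟨∏ Q ∈ hfin.toFinset, f Q, ?_, ?_⟩
  · intro hmem
    obtain ⟨Q, _, hQ⟩ := (Ideal.IsPrime.prod_mem_iff).mp hmem
    exact hf1 Q hQ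
  · intro v hv
    by_contra hvV
    have hvI : v ∈ PrimeSpectrum.zeroLocus (I : Set A) := by rw [← hI]; exact hvV
    rw [PrimeSpectrum.mem_zeroLocus] at hvI
    -- pick a minimal prime below v
    obtain ⟨Q, hQmin, hQv⟩ := Ideal.exists_minimalPrimes_le (J := v.asIdeal) hvI
    apply hv
    show (∏ Q ∈ hfin.toFinset, f Q) * z ∈ v.asIdeal
    apply hQv
    by_cases hzQ : z ∈ Q
    · exact Q.mul_mem_left _ hzQ
    · apply Q.mul_mem_right
      have hQmem : Q ∈ hfin.toFinset := hfin.mem_toFinset.mpr hQmin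
      rw [← Finset.mul_prod_erase _ _ hQmem]
      exact Q.mul_mem_right _ (hf2 Q hQmin hzQ)

end Groth.Agent.S18392
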