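import Groth.Statements.S18393
-- import your own Groth.Agent.* helpers here
import Mathlib

set_option autoImplicit false
universe u v
open LVCorr

namespace Groth.Agent.S18393

/-- Stated for the underlying continuous maps. Let c₁, c₂ : C → X be continuous maps with C a Noetherian
topological space, let Z be a closed subset of X and B the closure in C of c₂⁻¹(Z) ∖ c₁⁻¹(Z). Call Z
locally invariant when every point x of Z has an open neighbourhood U such that every y in C with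
c₂(y) ∈ Z ∩ U and c₁(y) ∈ U satisfies c₁(y) ∈ Z. Then Z is locally invariant if and only if for
every irreducible subset T of B the closures of c₁(T) and of c₂(T) in X are disjoint. (The source
states this for a correspondence c = (c₁, c₂) : C → X × X of separated schemes of finite type over
an algebraically closed field and for the irreducible components of B; the condition for all
irreducible subsets of B is the same condition.) -/
theorem result {C : Type u} {X : Type v}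
    [TopologicalSpace C] [TopologicalSpace X] [TopologicalSpace.NoetherianSpace C]
    (c₁ c₂ : C → X) (hc₁ : Continuous c₁) (hc₂ : Continuous c₂) (Z : Set X) (hZ : IsClosed Z) :
    (∀ x ∈ Z, ∃ U : Set X, IsOpen U ∧ x ∈ U ∧
        ∀ y : C, c₂ y ∈ Z → c₂ y ∈ U → c₁ y ∈ U → c₁ y ∈ Z) ↔
      ∀ T : Set C, T ⊆ closure (c₂ ⁻¹' Z \ c₁ ⁻¹' Z) → IsIrreducible T →
        closure (c₁ '' T) ∩ closure (c₂ '' T) = ∅ := by
  have hBsub : closure (c₂ ⁻¹' Z \ c₁ ⁻¹' Z) ⊆ c₂ ⁻¹' Z := by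
    apply closure_minimal Set.sdiff_subset (hZ.preimage hc₂)
  constructor
  · intro hLI T hT hTirr
    by_contra hne
    obtain ⟨x, hx1, hx2⟩ := Set.nonempty_iff_ne_empty.mpr hne
    have hc₂T : c₂ '' T ⊆ Z := by
      rintro _ ⟨t, ht, rfl⟩
      exact hBsub (hT ht)
    have hxZ : x ∈ Z := closure_minimal hc₂T hZ hx2
    obtain ⟨U, hUo, hxU, hU⟩ := hLI x hxZ
    obtain ⟨_, ht1U, ⟨t1, ht1, rfl⟩⟩ := mem_closure_iff.mp hx1 U hUo hxU
    obtain ⟨_, ht2U, ⟨t2, ht2, rfl⟩⟩ := mem_closure_iff.mp hx2 U hUo hxU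
    obtain ⟨t, htT, ht1', ht2'⟩ := hTirr.isPreirreducible (c₁ ⁻¹' U) (c₂ ⁻¹' U)
      (hUo.preimage hc₁) (hUo.preimage hc₂) ⟨t1, ht1, ht1U⟩ ⟨t2, ht2, ht2U⟩
    have htcl := hT htT
    obtain ⟨y, hyU, hyW⟩ := mem_closure_iff.mp htcl (c₁ ⁻¹' U ∩ c₂ ⁻¹' U)
      ((hUo.preimage hc₁).inter (hUo.preimage hc₂)) ⟨ht1', ht2'⟩
    exact hyW.2 (hU y hyW.1 hyU.2 hyU.1)
  · intro hirr x hxZ
    obtain ⟨S, hSf, hSc, hSi, hSU⟩ := TopologicalSpace.NoetherianSpace.exists_finite_set_isClosed_irreducible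
      (isClosed_closure (s := c₂ ⁻¹' Z \ c₁ ⁻¹' Z))
    -- for each T in S choose an open nbhd
    have hchoice : ∀ T ∈ S, ∃ U : Set X, IsOpen U ∧ x ∈ U ∧
        ∀ y ∈ T, ¬ (c₁ y ∈ U ∧ c₂ y ∈ U) := by
      intro T hTS
      have hTsub : T ⊆ closure (c₂ ⁻¹' Z \ c₁ ⁻¹' Z) := by
        rw [hSU]; exact Set.subset_sUnion_of_mem hTS
      have hempty := hirr T hTsub (hSi T hTS)
      by_cases hx1 : x ∈ closure (c₁ '' T)
      · have hx2 : x ∉ closure (c₂ '' T) := by
          intro hx2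
          have : x ∈ closure (c₁ '' T) ∩ closure (c₂ '' T) := ⟨hx1, hx2⟩
          rw [hempty] at this
          exact this
        refine ⟨(closure (c₂ '' T))ᶜ, isClosed_closure.isOpen_compl, hx2, ?_⟩
        intro y hy h
        exact h.2 (subset_closure ⟨y, hy, rfl⟩)
      · refine ⟨(closure (c₁ '' T))ᶜ, isClosed_closure.isOpen_compl, hx1, ?_⟩
        intro y hy h
        exact h.1 (subset_closure ⟨y, hy, rfl⟩)
    choose! V hVo hxV hV using hchoice
    refine ⟨⋂ T ∈ S, V T, hSf.isOpen_biInter hVo, Set.mem_iInter₂.mpr hxV, ?_⟩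
    intro y hy2Z hy2U hy1U
    by_contra hy1Z
    have hyW : y ∈ closure (c₂ ⁻¹' Z \ c₁ ⁻¹' Z) := subset_closure ⟨hy2Z, hy1Z⟩
    rw [hSU] at hyW
    obtain ⟨T, hTS, hyT⟩ := hyW
    exact hV T hTS y hyT ⟨Set.mem_iInter₂.mp hy1U T hTS, Set.mem_iInter₂.mp hy2U T hTS⟩

end Groth.Agent.S18393
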