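import Groth.Statements.S18407
-- import your own Groth.Agent.* helpers here
import Groth.Agent.Lib.Helper27.CubicG

set_option autoImplicit false
universe u
open Cubic

namespace Groth.Agent.S18407

open MvPolynomial in
/-- Let f be a nonzero homogeneous cubic in four variables over ℂ whose surface S = V_+(f) ⊂ P³ is
smooth (at every nonzero zero of f some partial derivative is nonzero); a line on S is a
2-dimensional subspace of ℂ⁴ on which f vanishes, and an Eckardt point of S is a nonzero vector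
lying on three distinct lines on S. If e is an Eckardt point of S, there is exactly one involutory
matrix A (A² = 1) whose +1-eigenspace is a hyperplane and with A·e = −e, such that the substitution
X_i ↦ Σ_j A_ij X_j multiplies f by a constant — that is, a projective involution preserving S whose
fixed locus is the disjoint union of a plane and the point of e. (Normalising A² = 1 and A·e = −e
singles out one matrix in the class of the involution.) -/
theorem result (f : MvPolynomial (Fin 4) ℂ) (hf : f.IsHomogeneous 3)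
    (hf0 : f ≠ 0) (hsm : ∀ v : Fin 4 → ℂ, v ≠ 0 → eval v f = 0 → ∃ i : Fin 4, eval v (pderiv i f) ≠ 0)
    (e : Fin 4 → ℂ) (he : e ≠ 0)
    (hE : (∃ U : Fin 3 → Submodule ℂ (Fin 4 → ℂ), Function.Injective U ∧
        ∀ i : Fin 3, Module.finrank ℂ ↥(U i) = 2 ∧ e ∈ U i ∧ ∀ u ∈ U i, eval u f = 0)) :
    ∃! A : Matrix (Fin 4) (Fin 4) ℂ, A * A = 1 ∧ Module.finrank ℂ ↥(LinearMap.ker (Matrix.toLin' A - LinearMap.id)) = 3 ∧
        A.mulVec e = -e ∧ ∃ c : ℂ, aeval (fun i : Fin 4 => ∑ j : Fin 4, C (A i j) * X j) f = C c * f := by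
  open Groth.Agent.Helper27.Cubic in
  have hsmT := ofPoly_smooth hf hsm
  obtain ⟨U, hUinj, hU⟩ := hE
  have hU' : ∀ i : Fin 3, Module.finrank ℂ ↥(U i) = 2 ∧ e ∈ U i ∧ ∀ u ∈ U i, (ofPoly f).f u = 0 := by
    intro i
    refine ⟨(hU i).1, (hU i).2.1, fun u hu => ?_⟩
    rw [ofPoly_f hf]
    exact (hU i).2.2 u hu
  obtain ⟨m, hstr⟩ := str_of_eckardt (ofPoly f) hsmT e he U hUinj hU'
  refine ⟨reflM m e, ⟨reflM_sq m e hstr.1, reflM_finrank m e hstr.1, reflM_p m e hstr.1, 1, ?_⟩, ?_⟩
  · rw [bridge]
    intro v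
    rw [reflM_mulVec, ← ofPoly_f hf, ← ofPoly_f hf, hstr.inv, one_mul]
  · rintro A' ⟨_, hfr', hA'e, c, hc⟩
    obtain ⟨m', hm'p, hA'v⟩ := refl_form A' hfr' e he hA'e
    have hinv : ∀ v, (ofPoly f).f (v - (2 * m' v) • e) = c * (ofPoly f).f v := by
      intro v
      rw [ofPoly_f hf, ofPoly_f hf, ← hA'v]
      exact (bridge A' f c).mp hc v
    have hstr' := (ofPoly f).str_of_inv hsmT e he hstr.f_p m' hm'p c hinv
    have hmm : m' = m := (ofPoly f).str_unique hsmT e he m' m hstr' hstr
    apply matrix_eq_of_mulVec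
    intro v
    rw [hA'v, reflM_mulVec, hmm]

end Groth.Agent.S18407
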