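import Groth.Statements.S18409
-- import your own Groth.Agent.* helpers here
import Groth.Agent.Lib.Helper27.CubicI

set_option autoImplicit false
universe u
open Cubic

namespace Groth.Agent.S18409

open MvPolynomial in
/-- Let f be a nonzero homogeneous cubic in four variables over ℂ whose surface S = V_+(f) ⊂ P³ is
smooth (at every nonzero zero of f some partial derivative is nonzero); a line on S is a
2-dimensional subspace of ℂ⁴ on which f vanishes, and an Eckardt point of S is a nonzero vector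
lying on three distinct lines on S. Let e and e′ be Eckardt points of S that are not proportional
and let L be their span, a plane in ℂ⁴, i.e. the line of P³ through the two points. Then exactly one
of the two cases occurs: either f vanishes identically on L (the line lies on S), or L contains a
third Eckardt point e″, proportional to neither e nor e′, and every zero of f in L is proportional
to e, e′ or e″ (the line meets S in exactly three points, all Eckardt points). -/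
theorem result (f : MvPolynomial (Fin 4) ℂ) (hf : f.IsHomogeneous 3)
    (hf0 : f ≠ 0) (hsm : ∀ v : Fin 4 → ℂ, v ≠ 0 → eval v f = 0 → ∃ i : Fin 4, eval v (pderiv i f) ≠ 0)
    (e e' : Fin 4 → ℂ) (he : e ≠ 0) (he' : e' ∉ Submodule.span ℂ {e})
    (hE : (∃ U : Fin 3 → Submodule ℂ (Fin 4 → ℂ), Function.Injective U ∧
        ∀ i : Fin 3, Module.finrank ℂ ↥(U i) = 2 ∧ e ∈ U i ∧ ∀ u ∈ U i, eval u f = 0))
    (hE' : (∃ U : Fin 3 → Submodule ℂ (Fin 4 → ℂ), Function.Injective U ∧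
        ∀ i : Fin 3, Module.finrank ℂ ↥(U i) = 2 ∧ e' ∈ U i ∧ ∀ u ∈ U i, eval u f = 0)) :
    Xor (∀ u ∈ Submodule.span ℂ {e, e'}, eval u f = 0)
      (∃ e'' : Fin 4 → ℂ, e'' ∈ Submodule.span ℂ {e, e'} ∧ e'' ∉ Submodule.span ℂ {e} ∧ e'' ∉ Submodule.span ℂ {e'} ∧
        (∃ U : Fin 3 → Submodule ℂ (Fin 4 → ℂ), Function.Injective U ∧
        ∀ i : Fin 3, Module.finrank ℂ ↥(U i) = 2 ∧ e'' ∈ U i ∧ ∀ u ∈ U i, eval u f = 0) ∧
        ∀ u ∈ Submodule.span ℂ {e, e'}, eval u f = 0 →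
          u ∈ Submodule.span ℂ {e} ∨ u ∈ Submodule.span ℂ {e'} ∨ u ∈ Submodule.span ℂ {e''}) := by
  open Groth.Agent.Helper27.Cubic in
  have hsmT := ofPoly_smooth hf hsm
  have he'0 : e' ≠ 0 := by
    rintro rfl
    exact he' (Submodule.zero_mem _)
  have conv : ∀ p : Fin 4 → ℂ, p ≠ 0 →
      ((∃ U : Fin 3 → Submodule ℂ (Fin 4 → ℂ), Function.Injective U ∧
        ∀ i : Fin 3, Module.finrank ℂ ↥(U i) = 2 ∧ p ∈ U i ∧ ∀ u ∈ U i, eval u f = 0) ↔
      ∃ m : (Fin 4 → ℂ) →ₗ[ℂ] ℂ, (ofPoly f).Str p m) := by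
    intro p hp
    constructor
    · rintro ⟨U, hUinj, hU⟩
      exact str_of_eckardt (ofPoly f) hsmT p hp U hUinj (fun i =>
        ⟨(hU i).1, (hU i).2.1, fun u hu => by rw [ofPoly_f hf]; exact (hU i).2.2 u hu⟩)
    · rintro ⟨m, hm⟩
      obtain ⟨U, hUinj, hU⟩ := eckardt_of_str (ofPoly f) hsmT p hp m hm
      exact ⟨U, hUinj, fun i =>
        ⟨(hU i).1, (hU i).2.1, fun u hu => by rw [← ofPoly_f hf]; exact (hU i).2.2 u hu⟩⟩
  obtain ⟨m, hs⟩ := (conv e he).mp hE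
  obtain ⟨m', hs'⟩ := (conv e' he'0).mp hE'
  have key := two_eckardt (ofPoly f) e e' he he' m m' hs hs'
  have hne : ∀ e'' : Fin 4 → ℂ, e'' ∉ Submodule.span ℂ {e} → e'' ≠ 0 := by
    rintro e'' h rfl
    exact h (Submodule.zero_mem _)
  have hP : (∀ u ∈ Submodule.span ℂ {e, e'}, eval u f = 0) ↔
      (∀ u ∈ Submodule.span ℂ {e, e'}, (ofPoly f).f u = 0) := by
    constructor
    · intro h u hu; rw [ofPoly_f hf]; exact h u hu
    · intro h u hu; rw [← ofPoly_f hf]; exact h u hu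
  have hQ : (∃ e'' : Fin 4 → ℂ, e'' ∈ Submodule.span ℂ {e, e'} ∧ e'' ∉ Submodule.span ℂ {e} ∧ e'' ∉ Submodule.span ℂ {e'} ∧
        (∃ U : Fin 3 → Submodule ℂ (Fin 4 → ℂ), Function.Injective U ∧
        ∀ i : Fin 3, Module.finrank ℂ ↥(U i) = 2 ∧ e'' ∈ U i ∧ ∀ u ∈ U i, eval u f = 0) ∧
        ∀ u ∈ Submodule.span ℂ {e, e'}, eval u f = 0 →
          u ∈ Submodule.span ℂ {e} ∨ u ∈ Submodule.span ℂ {e'} ∨ u ∈ Submodule.span ℂ {e''}) ↔
      (∃ e'' : Fin 4 → ℂ, e'' ∈ Submodule.span ℂ {e, e'} ∧ e'' ∉ Submodule.span ℂ {e} ∧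
        e'' ∉ Submodule.span ℂ {e'} ∧ (∃ m'' : (Fin 4 → ℂ) →ₗ[ℂ] ℂ, (ofPoly f).Str e'' m'') ∧
        ∀ u ∈ Submodule.span ℂ {e, e'}, (ofPoly f).f u = 0 →
          u ∈ Submodule.span ℂ {e} ∨ u ∈ Submodule.span ℂ {e'} ∨ u ∈ Submodule.span ℂ {e''}) := by
    constructor
    · rintro ⟨e'', h1, h2, h3, h4, h5⟩
      exact ⟨e'', h1, h2, h3, (conv e'' (hne e'' h2)).mp h4,
        fun u hu hfu => h5 u hu (by rw [← ofPoly_f hf]; exact hfu)⟩
    · rintro ⟨e'', h1, h2, h3, h4, h5⟩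
      exact ⟨e'', h1, h2, h3, (conv e'' (hne e'' h2)).mpr h4,
        fun u hu hfu => h5 u hu (by rw [ofPoly_f hf]; exact hfu)⟩
  rw [hP, hQ]
  exact key

end Groth.Agent.S18409
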