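import Groth.Statements.S18410
-- import your own Groth.Agent.* helpers here
import Groth.Agent.Lib.Helper27.CubicJ

set_option autoImplicit false
universe u
open Cubic

namespace Groth.Agent.S18410

open MvPolynomial in
/-- Let f be a nonzero homogeneous cubic in four variables over ℂ whose surface S = V_+(f) ⊂ P³ is
smooth (at every nonzero zero of f some partial derivative is nonzero); a line on S is a
2-dimensional subspace of ℂ⁴ on which f vanishes, and an Eckardt point of S is a nonzero vector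
lying on three distinct lines on S. Let e, e′ be non-proportional Eckardt points of S such that f
vanishes on their span (the line joining them lies on S), and let A, A′ be their Eckardt
involutions: an involutory matrix A (A² = 1) whose +1-eigenspace is a hyperplane and with A·e = −e,
such that the substitution X_i ↦ Σ_j A_ij X_j multiplies f by a constant — that is, a projective
involution preserving S whose fixed locus is the disjoint union of a plane and the point of e, and
likewise A′ for e′. Then the two involutions commute as projective transformations (A·A′ is a scalar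
multiple of A′·A) and each fixes the other point (A·e′ is proportional to e′ and A′·e to e). -/
theorem result (f : MvPolynomial (Fin 4) ℂ) (hf : f.IsHomogeneous 3)
    (hf0 : f ≠ 0) (hsm : ∀ v : Fin 4 → ℂ, v ≠ 0 → eval v f = 0 → ∃ i : Fin 4, eval v (pderiv i f) ≠ 0)
    (e e' : Fin 4 → ℂ) (he : e ≠ 0) (he' : e' ∉ Submodule.span ℂ {e})
    (hE : (∃ U : Fin 3 → Submodule ℂ (Fin 4 → ℂ), Function.Injective U ∧
        ∀ i : Fin 3, Module.finrank ℂ ↥(U i) = 2 ∧ e ∈ U i ∧ ∀ u ∈ U i, eval u f = 0))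
    (hE' : (∃ U : Fin 3 → Submodule ℂ (Fin 4 → ℂ), Function.Injective U ∧
        ∀ i : Fin 3, Module.finrank ℂ ↥(U i) = 2 ∧ e' ∈ U i ∧ ∀ u ∈ U i, eval u f = 0))
    (hL : ∀ u ∈ Submodule.span ℂ {e, e'}, eval u f = 0)
    (A A' : Matrix (Fin 4) (Fin 4) ℂ)
    (hA : A * A = 1 ∧ Module.finrank ℂ ↥(LinearMap.ker (Matrix.toLin' A - LinearMap.id)) = 3 ∧
        A.mulVec e = -e ∧ ∃ c : ℂ, aeval (fun i : Fin 4 => ∑ j : Fin 4, C (A i j) * X j) f = C c * f)
    (hA' : A' * A' = 1 ∧ Module.finrank ℂ ↥(LinearMap.ker (Matrix.toLin' A' - LinearMap.id)) = 3 ∧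
        A'.mulVec e' = -e' ∧ ∃ c : ℂ, aeval (fun i : Fin 4 => ∑ j : Fin 4, C (A' i j) * X j) f = C c * f) :
    (∃ c : ℂ, A * A' = c • (A' * A)) ∧ (∃ d : ℂ, A.mulVec e' = d • e') ∧ (∃ d : ℂ, A'.mulVec e = d • e) := by
  open Groth.Agent.Helper27.Cubic Matrix in
  have hsmT := ofPoly_smooth hf hsm
  obtain ⟨hAA, hfr, hAe, c, hc⟩ := hA
  obtain ⟨hAA', hfr', hAe', c', hc'⟩ := hA'
  have he'0 : e' ≠ 0 := by
    rintro rfl
    exact he' (Submodule.zero_mem _)
  obtain ⟨m, hmp, hAv⟩ := refl_form A hfr e he hAe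
  obtain ⟨m', hm'p, hA'v⟩ := refl_form A' hfr' e' he'0 hAe'
  have hfe : (ofPoly f).f e = 0 := by
    rw [ofPoly_f hf]; exact hL e (Submodule.subset_span (by simp))
  have hfe' : (ofPoly f).f e' = 0 := by
    rw [ofPoly_f hf]; exact hL e' (Submodule.subset_span (by simp))
  have hinv : ∀ v, (ofPoly f).f (v - (2 * m v) • e) = c * (ofPoly f).f v := by
    intro v
    rw [ofPoly_f hf, ofPoly_f hf, ← hAv]
    exact (bridge A f c).mp hc v
  have hinv' : ∀ v, (ofPoly f).f (v - (2 * m' v) • e') = c' * (ofPoly f).f v := by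
    intro v
    rw [ofPoly_f hf, ofPoly_f hf, ← hA'v]
    exact (bridge A' f c').mp hc' v
  have hs := (ofPoly f).str_of_inv hsmT e he hfe m hmp c hinv
  have hs' := (ofPoly f).str_of_inv hsmT e' he'0 hfe' m' hm'p c' hinv'
  obtain ⟨h1, h2⟩ := line_on_surface (ofPoly f) hsmT e e' he he' m m' hs hs'
    (fun u hu => by rw [ofPoly_f hf]; exact hL u hu)
  refine ⟨⟨1, ?_⟩, ⟨1, ?_⟩, ⟨1, ?_⟩⟩
  · rw [one_smul]
    apply matrix_eq_of_mulVec
    intro v
    rw [← Matrix.mulVec_mulVec, ← Matrix.mulVec_mulVec, hAv (A' *ᵥ v), hA'v (A *ᵥ v), hA'v v, hAv v]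
    simp only [map_sub, map_smul, h1, h2, smul_eq_mul, mul_zero, sub_zero]
    module
  · show A *ᵥ e' = (1 : ℂ) • e'
    rw [hAv, h1]; simp
  · show A' *ᵥ e = (1 : ℂ) • e
    rw [hA'v, h2]; simp

end Groth.Agent.S18410
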