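import Groth.Statements.S18411
-- import your own Groth.Agent.* helpers here
import Groth.Agent.Lib.Helper27.CubicJ

set_option autoImplicit false
universe u
open Cubic

namespace Groth.Agent.S18411

open MvPolynomial in
/-- Let f be a nonzero homogeneous cubic in four variables over ℂ whose surface S = V_+(f) ⊂ P³ is
smooth (at every nonzero zero of f some partial derivative is nonzero); a line on S is a
2-dimensional subspace of ℂ⁴ on which f vanishes, and an Eckardt point of S is a nonzero vector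
lying on three distinct lines on S. Let e, e′, e″ be pairwise non-proportional Eckardt points of S
spanning a single plane L = span(e, e′) of ℂ⁴ on which f does not vanish identically (three
collinear Eckardt points whose line is not on S), and let A, A′, A″ be their Eckardt involutions: an
involutory matrix A (A² = 1) whose +1-eigenspace is a hyperplane and with A·e = −e, such that the
substitution X_i ↦ Σ_j A_ij X_j multiplies f by a constant — that is, a projective involution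
preserving S whose fixed locus is the disjoint union of a plane and the point of e, and likewise for
e′ and e″. Then the three involutions generate, as projective transformations, a group isomorphic to
the symmetric group on three letters: the product A·A′ is not a scalar matrix, its cube is, and A″
is a scalar multiple of A·A′·A. -/
theorem result (f : MvPolynomial (Fin 4) ℂ) (hf : f.IsHomogeneous 3)
    (hf0 : f ≠ 0) (hsm : ∀ v : Fin 4 → ℂ, v ≠ 0 → eval v f = 0 → ∃ i : Fin 4, eval v (pderiv i f) ≠ 0)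
    (e e' e'' : Fin 4 → ℂ) (he : e ≠ 0) (he' : e' ∉ Submodule.span ℂ {e})
    (he''1 : e'' ∉ Submodule.span ℂ {e}) (he''2 : e'' ∉ Submodule.span ℂ {e'}) (he''L : e'' ∈ Submodule.span ℂ {e, e'})
    (hE : (∃ U : Fin 3 → Submodule ℂ (Fin 4 → ℂ), Function.Injective U ∧
        ∀ i : Fin 3, Module.finrank ℂ ↥(U i) = 2 ∧ e ∈ U i ∧ ∀ u ∈ U i, eval u f = 0))
    (hE' : (∃ U : Fin 3 → Submodule ℂ (Fin 4 → ℂ), Function.Injective U ∧
        ∀ i : Fin 3, Module.finrank ℂ ↥(U i) = 2 ∧ e' ∈ U i ∧ ∀ u ∈ U i, eval u f = 0))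
    (hE'' : (∃ U : Fin 3 → Submodule ℂ (Fin 4 → ℂ), Function.Injective U ∧
        ∀ i : Fin 3, Module.finrank ℂ ↥(U i) = 2 ∧ e'' ∈ U i ∧ ∀ u ∈ U i, eval u f = 0))
    (hL : ¬ ∀ u ∈ Submodule.span ℂ {e, e'}, eval u f = 0)
    (A A' A'' : Matrix (Fin 4) (Fin 4) ℂ)
    (hA : A * A = 1 ∧ Module.finrank ℂ ↥(LinearMap.ker (Matrix.toLin' A - LinearMap.id)) = 3 ∧
        A.mulVec e = -e ∧ ∃ c : ℂ, aeval (fun i : Fin 4 => ∑ j : Fin 4, C (A i j) * X j) f = C c * f)
    (hA' : A' * A' = 1 ∧ Module.finrank ℂ ↥(LinearMap.ker (Matrix.toLin' A' - LinearMap.id)) = 3 ∧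
        A'.mulVec e' = -e' ∧ ∃ c : ℂ, aeval (fun i : Fin 4 => ∑ j : Fin 4, C (A' i j) * X j) f = C c * f)
    (hA'' : A'' * A'' = 1 ∧ Module.finrank ℂ ↥(LinearMap.ker (Matrix.toLin' A'' - LinearMap.id)) = 3 ∧
        A''.mulVec e'' = -e'' ∧ ∃ c : ℂ, aeval (fun i : Fin 4 => ∑ j : Fin 4, C (A'' i j) * X j) f = C c * f) :
    (¬ ∃ c : ℂ, A * A' = c • (1 : Matrix (Fin 4) (Fin 4) ℂ)) ∧ (∃ c : ℂ, (A * A') ^ 3 = c • (1 : Matrix (Fin 4) (Fin 4) ℂ)) ∧
      ∃ c : ℂ, A'' = c • (A * A' * A) := by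
  open Groth.Agent.Helper27.Cubic Matrix in
  have hsmT := ofPoly_smooth hf hsm
  obtain ⟨hAA, hfr, hAe, c, hc⟩ := hA
  obtain ⟨hAA', hfr', hAe', c', hc'⟩ := hA'
  obtain ⟨hAA'', hfr'', hAe'', c'', hc''⟩ := hA''
  have he'0 : e' ≠ 0 := by
    rintro rfl
    exact he' (Submodule.zero_mem _)
  have he''0 : e'' ≠ 0 := by
    rintro rfl
    exact he''1 (Submodule.zero_mem _)
  obtain ⟨m, hmp, hAv⟩ := refl_form A hfr e he hAe
  obtain ⟨m', hm'p, hA'v⟩ := refl_form A' hfr' e' he'0 hAe'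
  obtain ⟨m'', hm''p, hA''v⟩ := refl_form A'' hfr'' e'' he''0 hAe''
  have hfe : (ofPoly f).f e = 0 := by
    obtain ⟨U, _, hU⟩ := hE
    rw [ofPoly_f hf]; exact (hU 0).2.2 e (hU 0).2.1
  have hfe' : (ofPoly f).f e' = 0 := by
    obtain ⟨U, _, hU⟩ := hE'
    rw [ofPoly_f hf]; exact (hU 0).2.2 e' (hU 0).2.1
  have hfe'' : (ofPoly f).f e'' = 0 := by
    obtain ⟨U, _, hU⟩ := hE''
    rw [ofPoly_f hf]; exact (hU 0).2.2 e'' (hU 0).2.1
  have hinv : ∀ v, (ofPoly f).f (v - (2 * m v) • e) = c * (ofPoly f).f v := by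
    intro v
    rw [ofPoly_f hf, ofPoly_f hf, ← hAv]
    exact (bridge A f c).mp hc v
  have hinv' : ∀ v, (ofPoly f).f (v - (2 * m' v) • e') = c' * (ofPoly f).f v := by
    intro v
    rw [ofPoly_f hf, ofPoly_f hf, ← hA'v]
    exact (bridge A' f c').mp hc' v
  have hinv'' : ∀ v, (ofPoly f).f (v - (2 * m'' v) • e'') = c'' * (ofPoly f).f v := by
    intro v
    rw [ofPoly_f hf, ofPoly_f hf, ← hA''v]
    exact (bridge A'' f c'').mp hc'' v
  have hs := (ofPoly f).str_of_inv hsmT e he hfe m hmp c hinv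
  have hs' := (ofPoly f).str_of_inv hsmT e' he'0 hfe' m' hm'p c' hinv'
  have hs'' := (ofPoly f).str_of_inv hsmT e'' he''0 hfe'' m'' hm''p c'' hinv''
  have hLT : ¬ ∀ u ∈ Submodule.span ℂ {e, e'}, (ofPoly f).f u = 0 := by
    intro h
    apply hL
    intro u hu
    rw [← ofPoly_f hf]; exact h u hu
  obtain ⟨ha, key1⟩ := three_collinear (ofPoly f) hsmT e e' e'' he he' he''1 he''2 he''L hLT
    m m' m'' hs hs' hs''
  have hind := pair_ind (ofPoly f) e e' he he' m hs
  have he_sw : e ∉ Submodule.span ℂ {e'} := by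
    intro hmem
    obtain ⟨d, hd⟩ := Submodule.mem_span_singleton.mp hmem
    have := hind 1 (-d) (by rw [one_smul, neg_smul, hd]; simp)
    exact one_ne_zero this.1
  have hpair : ({e', e} : Set (Fin 4 → ℂ)) = {e, e'} := Set.pair_comm e' e
  obtain ⟨ha', key2⟩ := three_collinear (ofPoly f) hsmT e' e e'' he'0 he_sw he''2 he''1
    (by rw [hpair]; exact he''L) (by rw [hpair]; exact hLT) m' m m'' hs' hs hs''
  have hAr : ∀ x, A *ᵥ x = reflL m e x := by intro x; rw [hAv, reflL_apply]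
  have hA'r : ∀ x, A' *ᵥ x = reflL m' e' x := by intro x; rw [hA'v, reflL_apply]
  -- A A' A = A''
  have h3 : A * A' * A = A'' := by
    apply matrix_eq_of_mulVec
    intro v
    rw [← Matrix.mulVec_mulVec, ← Matrix.mulVec_mulVec, hAr v, hA'r, hAr, hA''v]
    rw [reflL_apply m' e', map_sub, map_smul, Cub.reflL_reflL hmp, mul_smul, mul_smul, key1]
  have h3' : A' * A * A' = A'' := by
    apply matrix_eq_of_mulVec
    intro v
    rw [← Matrix.mulVec_mulVec, ← Matrix.mulVec_mulVec, hA'r v, hAr, hA'r, hA''v]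
    rw [reflL_apply m e, map_sub, map_smul, Cub.reflL_reflL hm'p, mul_smul, mul_smul, key2]
  refine ⟨?_, ⟨1, ?_⟩, ⟨1, ?_⟩⟩
  · rintro ⟨d, hd⟩
    have hA'eq : A' = d • A := by
      have : A * (A * A') = A * (d • (1 : Matrix (Fin 4) (Fin 4) ℂ)) := by rw [hd]
      rw [← Matrix.mul_assoc, hAA, Matrix.one_mul, Matrix.mul_smul, Matrix.mul_one] at this
      exact this
    have h1 : A' *ᵥ e' = (d • A) *ᵥ e' := by rw [hA'eq]
    rw [hAe', Matrix.smul_mulVec, hAv] at h1
    have h2 : A' *ᵥ e = (d • A) *ᵥ e := by rw [hA'eq]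
    rw [hA'v, Matrix.smul_mulVec, hAe] at h2
    have g2 := hind (1 + d) (-(2 * m' e)) (by rw [← sub_eq_zero] at h2; rw [← h2]; module)
    have hd1 : d = -1 := by linear_combination g2.1
    rw [hd1] at h1
    have g1 := hind (2 * m e') 0 (by
      have : (2 * m e') • e + (0 : ℂ) • e' = (-1 : ℂ) • (e' - (2 * m e') • e) - (-e') := by module
      rw [this, ← h1]; simp)
    exact ha ((mul_eq_zero.mp g1.1).resolve_left two_ne_zero)
  · rw [one_smul]
    have : (A * A') ^ 3 = (A * A' * A) * (A' * A * A') := by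
      rw [pow_succ, pow_two]; simp only [Matrix.mul_assoc]
    rw [this, h3, h3', hAA'']
  · rw [one_smul, h3]

end Groth.Agent.S18411
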