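import Groth.Statements.S18418
import Groth.Agent.Lib.Helper20.FonLaf4

set_option autoImplicit false
universe u v
open FonLaf

namespace Groth.Agent.S18418

open Groth.Agent.Helper20.FonLaf in

theorem result (p : ℕ) [Fact p.Prime]
    (k : Type u) [Field k] [CharP k p] [PerfectRing k p] (r : ℕ)
    (N : ℕ → Type v) [∀ i, AddCommGroup (N i)] [∀ i, Module (WittVector p k) (N i)]
    (hfl : ∀ i, IsFiniteLength (WittVector p k) (N i))
    (α : ∀ i, N (i + 1) →ₗ[WittVector p k] N i)
    (φ : ∀ i, N i →ₛₗ[(WittVector.frobenius : WittVector p k →+* WittVector p k)] N 0)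
    (hφ : ∀ i, i < r → ∀ y : N (i + 1), φ i (α i y) = (p : WittVector p k) • φ (i + 1) y)
    (hsurj : ∀ m : N 0, ∃ y : (i : ℕ) → N i, (∀ i, r < i → y i = 0) ∧
      (Finset.range (r + 1)).sum (fun i => φ i (y i)) = m)
    (hker : ∀ y : (i : ℕ) → N i, (∀ i, r < i → y i = 0) →
      (Finset.range (r + 1)).sum (fun i => φ i (y i)) = 0 →
        ∃ z : (i : ℕ) → N (i + 1), (∀ i, r ≤ i → z i = 0) ∧
          y 0 = α 0 (z 0) ∧ ∀ i, y (i + 1) = α (i + 1) (z (i + 1)) - (p : WittVector p k) • z i)
    (i : ℕ) (hi : i < r) :
    Function.Injective (α i) ∧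
      ∃ Q : Submodule (WittVector p k) (N i), IsCompl (LinearMap.range (α i)) Q := by
  have hσs : RingHomSurjective (WittVector.frobenius : WittVector p k →+* WittVector p k) :=
    ⟨(WittVector.frobenius_bijective p k).2⟩
  have hσc : (WittVector.frobenius : WittVector p k →+* WittVector p k) (p : WittVector p k) =
      (p : WittVector p k) := map_natCast _ p
  have hirr : Irreducible (p : WittVector p k) := WittVector.irreducible p
  have hcm : (p : WittVector p k) ∈ IsLocalRing.maximalIdeal (WittVector p k) := by
    rw [IsLocalRing.mem_maximalIdeal]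
    exact hirr.not_isUnit
  have key := eq_zero_of_map_eq_zero_of_smul_eq_zero
    (WittVector.frobenius : WittVector p k →+* WittVector p k) (p : WittVector p k) r N α φ hfl
    hsurj hker i hi
  constructor
  · obtain ⟨n, hn⟩ := exists_pow_smul_eq_zero (p : WittVector p k) hcm (N (i + 1)) (hfl (i + 1))
    have claim : ∀ (m : ℕ) (x : N (i + 1)), α i x = 0 → (p : WittVector p k) ^ m • x = 0 →
        x = 0 := by
      intro m
      induction m with
      | zero =>
        intro x _ hx
        simpa using hx
      | succ m ih =>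
        intro x hx hm
        refine ih x hx ?_
        refine key ((p : WittVector p k) ^ m • x) ?_ ?_
        · rw [map_smul, hx, smul_zero]
        · rw [← mul_smul, ← pow_succ']
          exact hm
    rw [injective_iff_map_eq_zero]
    intro x hx
    exact claim n x hx (hn x)
  · refine exists_isCompl_of_pure (p : WittVector p k) hirr (N i) (hfl i) (LinearMap.range (α i)) ?_
    intro j b hb
    obtain ⟨x, hx⟩ := hb
    obtain ⟨x', hx'⟩ := pure (WittVector.frobenius : WittVector p k →+* WittVector p k)
      (p : WittVector p k) r N α φ hσc hfl hsurj hker i hi j x b hx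
    refine ⟨α i x', ⟨x', rfl⟩, ?_⟩
    rw [← map_smul, ← hx', hx]

end Groth.Agent.S18418
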