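import Groth.Statements.S18423
import Mathlib
import Groth.Agent.S2195

set_option autoImplicit false
universe u v
open Pi1

namespace Groth.Agent.S18423

/-- Let A be a Noetherian local ring of Krull dimension at least 2 and B a finite flat commutative
A-algebra. If B is etale over A at every prime of B lying over a non-maximal prime of A (that is,
Spec B is etale over the punctured spectrum of A), then B is etale over A. -/
theorem result (A : Type u) (B : Type v) [CommRing A] [CommRing B]
    [Algebra A B] [IsNoetherianRing A] [IsLocalRing A] (hdim : (2 : WithBot ℕ∞) ≤ ringKrullDim A)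
    [Module.Finite A B] [Module.Flat A B]
    (h : ∀ q : PrimeSpectrum B, q.asIdeal.comap (algebraMap A B) ≠ IsLocalRing.maximalIdeal A →
      Algebra.IsEtaleAt A q.asIdeal) :
    Algebra.Etale A B := by
  classical
  have hfree : Module.Free A B := Module.free_of_flat_of_isLocalRing
  let b : Module.Basis (Fin (Fintype.card (Module.Free.ChooseBasisIndex A B))) A B :=
    (Module.Free.chooseBasis A B).reindex (Fintype.equivFin _)
  rw [Groth.Agent.S2195.result b]
  by_contra hd
  have hne : Ideal.span {Algebra.discr A b} ≠ ⊤ := by
    rw [Ne, Ideal.span_singleton_eq_top]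
    exact hd
  obtain ⟨p, hp⟩ := Ideal.nonempty_minimalPrimes hne
  have hpprime : p.IsPrime := hp.1.1
  have hdp : Algebra.discr A b ∈ p := hp.1.2 (Ideal.mem_span_singleton_self _)
  have hht : p.height ≤ 1 :=
    Ideal.height_le_one_of_isPrincipal_of_mem_minimalPrimes (Ideal.span {Algebra.discr A b}) p hp
  have hpm : p ≠ IsLocalRing.maximalIdeal A := by
    intro h
    have h3 : ((p.height : ℕ∞) : WithBot ℕ∞) = ringKrullDim A := by
      rw [h, IsLocalRing.maximalIdeal_height_eq_ringKrullDim]
    rw [← h3] at hdim
    have h4 : (2 : ℕ∞) ≤ p.height := by
      rwa [show (2 : WithBot ℕ∞) = ((2 : ℕ∞) : WithBot ℕ∞) from rfl, WithBot.coe_le_coe] at hdim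
    exact absurd (h4.trans hht) (by norm_num)
  obtain ⟨x, hxm, hxp⟩ := SetLike.exists_of_lt
    (lt_of_le_of_ne (IsLocalRing.le_maximalIdeal hpprime.ne_top) hpm)
  -- localize at p
  have hEtA : Algebra.FormallyEtale A
      (Localization (Algebra.algebraMapSubmonoid B p.primeCompl)) := by
    rw [← Algebra.etaleLocus_eq_univ_iff, Set.eq_univ_iff_forall]
    intro Q
    rw [Algebra.mem_etaleLocus_iff]
    have hq : (Q.asIdeal.comap (algebraMap B
        (Localization (Algebra.algebraMapSubmonoid B p.primeCompl)))).comap (algebraMap A B) ≠
        IsLocalRing.maximalIdeal A := by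
      intro hcon
      have hx1 : x ∈ (Q.asIdeal.comap (algebraMap B
        (Localization (Algebra.algebraMapSubmonoid B p.primeCompl)))).comap (algebraMap A B) := by
        rw [hcon]; exact hxm
      rw [Ideal.mem_comap, Ideal.mem_comap] at hx1
      have hu : IsUnit (algebraMap B (Localization (Algebra.algebraMapSubmonoid B p.primeCompl))
          (algebraMap A B x)) :=
        IsLocalization.map_units _
          (⟨algebraMap A B x, Algebra.mem_algebraMapSubmonoid_of_mem ⟨x, hxp⟩⟩ :
            Algebra.algebraMapSubmonoid B p.primeCompl)
      exact Q.isPrime.ne_top (Ideal.eq_top_of_isUnit_mem _ hx1 hu)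
    have h1 : Algebra.FormallyEtale A (Localization.AtPrime (Q.asIdeal.comap (algebraMap B
        (Localization (Algebra.algebraMapSubmonoid B p.primeCompl))))) :=
      h ⟨_, Ideal.comap_isPrime _ _⟩ hq
    have hst : IsScalarTower A B (Localization.AtPrime Q.asIdeal) := by
      refine IsScalarTower.of_algebraMap_eq fun a => ?_
      rw [IsScalarTower.algebraMap_apply A
          (Localization (Algebra.algebraMapSubmonoid B p.primeCompl))
          (Localization.AtPrime Q.asIdeal),
        IsScalarTower.algebraMap_apply A B
          (Localization (Algebra.algebraMapSubmonoid B p.primeCompl)),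
        ← IsScalarTower.algebraMap_apply B
          (Localization (Algebra.algebraMapSubmonoid B p.primeCompl))
          (Localization.AtPrime Q.asIdeal)]
    exact Algebra.FormallyEtale.of_equiv
      ((IsLocalization.localizationLocalizationAtPrimeIsoLocalization
        (Algebra.algebraMapSubmonoid B p.primeCompl) Q.asIdeal).restrictScalars A)
  have hEt : Algebra.FormallyEtale (Localization.AtPrime p)
      (Localization (Algebra.algebraMapSubmonoid B p.primeCompl)) :=
    Algebra.FormallyEtale.localization_base p.primeCompl
  let b' : Module.Basis (Fin (Fintype.card (Module.Free.ChooseBasisIndex A B)))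
      (Localization.AtPrime p) (Localization (Algebra.algebraMapSubmonoid B p.primeCompl)) :=
    b.localizationLocalization (Localization.AtPrime p) p.primeCompl
      (Localization (Algebra.algebraMapSubmonoid B p.primeCompl))
  have hfin' : Module.Finite (Localization.AtPrime p)
      (Localization (Algebra.algebraMapSubmonoid B p.primeCompl)) := Module.Finite.of_basis b'
  have hfp : Algebra.FinitePresentation (Localization.AtPrime p)
      (Localization (Algebra.algebraMapSubmonoid B p.primeCompl)) :=
    Algebra.FinitePresentation.of_finiteType.mp inferInstance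
  have hEtale : Algebra.Etale (Localization.AtPrime p)
      (Localization (Algebra.algebraMapSubmonoid B p.primeCompl)) := ⟨hEt, hfp⟩
  have hu := (Groth.Agent.S2195.result b').mp hEtale
  rw [Algebra.discr_localizationLocalization A p.primeCompl
    (Localization (Algebra.algebraMapSubmonoid B p.primeCompl)) b] at hu
  exact (IsLocalization.AtPrime.isUnit_to_map_iff (Localization.AtPrime p) p _).mp hu hdp

end Groth.Agent.S18423
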