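import Groth.Statements.S18429
-- import your own Groth.Agent.* helpers here
import Mathlib

set_option autoImplicit false
universe u
open SpinCurv

namespace Groth.Agent.S18429

theorem key30 (N : ℕ) (r : ℤ) (e : ℕ → ℤ)
    (hdiv : ∀ j : ℕ, 1 ≤ j → j < N → r ∣ e (j - 1) - 2 * e j + e (j + 1)) :
    ∀ j : ℕ, j ≤ N → r ∣ e j - e 0 - j * (e 1 - e 0) := by
  have key : ∀ j : ℕ, (j ≤ N → r ∣ e j - e 0 - j * (e 1 - e 0)) ∧
      (j + 1 ≤ N → r ∣ e (j + 1) - e 0 - (j + 1 : ℕ) * (e 1 - e 0)) := by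
    intro j
    induction j with
    | zero => 
      refine ⟨fun _ => by simp, fun _ => by simp⟩
    | succ j ih =>
      refine ⟨ih.2, fun h => ?_⟩
      have h1 := ih.1 (by omega)
      have h2 := ih.2 (by omega)
      have h3 := hdiv (j + 1) (by omega) (by omega)
      simp only [Nat.add_sub_cancel] at h3
      have : e (j + 1 + 1) - e 0 - ((j + 1 + 1 : ℕ) : ℤ) * (e 1 - e 0) =
          (e j - 2 * e (j + 1) + e (j + 1 + 1)) + 2 * (e (j + 1) - e 0 - ((j + 1 : ℕ) : ℤ) * (e 1 - e 0))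
            - (e j - e 0 - (j : ℤ) * (e 1 - e 0)) := by
        push_cast; ring
      rw [this]
      exact dvd_sub (dvd_add h3 (Dvd.dvd.mul_left h2 2)) h1
  exact fun j hj => (key j).1 hj


/-- Let n ≥ 1 and r ≥ 2 be integers and let e_0, …, e_{nr} be integers with e_0 = e_{nr} = 0 (the
coefficients of a chain of nr - 1 exceptional curves joining two non-exceptional components with
coefficient zero) such that at every interior index 1 ≤ j ≤ nr - 1 the second difference e_{j-1} - 2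
e_j + e_{j+1} (the degree of the divisor Σ e_i E_i on the j-th curve of the chain) is divisible by
r. Then there are integers e'_0, …, e'_{nr}, with e'_j ≡ e_j modulo r for every interior j, with
e'_0 = e'_{nr} = 0 and every e'_j ≤ 0, whose second differences at the interior indices are each 0
or r, and are nonzero at no two distinct interior indices. -/
theorem result (n r : ℕ) (hn : 1 ≤ n) (hr : 2 ≤ r)
    (e : ℕ → ℤ) (he0 : e 0 = 0) (henr : e (n * r) = 0)
    (hdiv : ∀ j : ℕ, 1 ≤ j → j < n * r → (r : ℤ) ∣ e (j - 1) - 2 * e j + e (j + 1)) :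
    ∃ e' : ℕ → ℤ, e' 0 = 0 ∧ e' (n * r) = 0 ∧
      (∀ j : ℕ, 1 ≤ j → j < n * r → (r : ℤ) ∣ e' j - e j) ∧
      (∀ j : ℕ, j ≤ n * r → e' j ≤ 0) ∧
      (∀ j : ℕ, 1 ≤ j → j < n * r →
        (e' (j - 1) - 2 * e' j + e' (j + 1) = 0 ∨ e' (j - 1) - 2 * e' j + e' (j + 1) = r)) ∧
      (∀ j j' : ℕ, 1 ≤ j → j < n * r → 1 ≤ j' → j' < n * r →
        e' (j - 1) - 2 * e' j + e' (j + 1) ≠ 0 → e' (j' - 1) - 2 * e' j' + e' (j' + 1) ≠ 0 → j = j') := by
  have hkey := key30 (n * r) (r : ℤ) e hdiv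
  set δ : ℤ := e 1 with hδ
  -- c = (-δ) mod r
  set c : ℤ := (-δ) % (r : ℤ) with hc
  have hr0 : (0 : ℤ) < r := by exact_mod_cast (by omega : 0 < r)
  have hc0 : 0 ≤ c := Int.emod_nonneg _ hr0.ne'
  have hcr : c < r := Int.emod_lt_of_pos _ hr0
  have hcδ : (r : ℤ) ∣ c + δ := by
    have : (r : ℤ) ∣ (-δ) - (-δ) % (r : ℤ) := Int.dvd_self_sub_emod
    have h2 : c + δ = -((-δ) - (-δ) % (r : ℤ)) := by rw [hc]; ring
    rw [h2]; exact (dvd_neg).mpr this
  -- m = n (r - c), as an integer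
  set m : ℤ := n * (r - c) with hm
  have hn0 : (1 : ℤ) ≤ n := by exact_mod_cast hn
  have hm_pos : 0 < m := by rw [hm]; nlinarith
  have hmN : m ≤ (n : ℤ) * r := by rw [hm]; nlinarith
  -- the function
  let e' : ℕ → ℤ := fun j => if (j : ℤ) ≤ m then -(c * j) else (r - c) * ((j : ℤ) - n * r)
  -- both formulas agree at m
  have hagree : ∀ j : ℕ, (j : ℤ) = m → -(c * j) = (r - c) * ((j : ℤ) - n * r) := by
    intro j hj; rw [hj, hm]; ring
  have he'1 : ∀ j : ℕ, (j : ℤ) ≤ m → e' j = -(c * j) := fun j hj => if_pos hj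
  have he'2 : ∀ j : ℕ, m ≤ (j : ℤ) → e' j = (r - c) * ((j : ℤ) - n * r) := by
    intro j hj
    rcases hj.eq_or_lt with h | h
    · rw [he'1 j h.symm.le, hagree j h.symm]
    · exact if_neg (not_le.mpr h)
  -- second differences
  have hsd : ∀ j : ℕ, 1 ≤ j → 
      (e' (j - 1) - 2 * e' j + e' (j + 1) = if (j : ℤ) = m then (r : ℤ) else 0) := by
    intro j hj
    have hj1 : ((j - 1 : ℕ) : ℤ) = (j : ℤ) - 1 := by push_cast [Nat.cast_sub hj]; ring
    have hj2 : ((j + 1 : ℕ) : ℤ) = (j : ℤ) + 1 := by push_cast; ring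
    rcases lt_trichotomy (j : ℤ) m with h | h | h
    · rw [if_neg h.ne, he'1 (j - 1) (by rw [hj1]; linarith), he'1 j h.le, he'1 (j + 1) (by rw [hj2]; linarith), hj1, hj2]
      ring
    · rw [if_pos h, he'1 (j - 1) (by rw [hj1]; linarith), he'1 j h.le, he'2 (j + 1) (by rw [hj2]; linarith), hj1, hj2, h, hm]
      ring
    · rw [if_neg h.ne', he'2 (j - 1) (by rw [hj1]; linarith), he'2 j h.le, he'2 (j + 1) (by rw [hj2]; linarith), hj1, hj2]
      ring
  refine ⟨e', ?_, ?_, ?_, ?_, ?_, ?_⟩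
  · rw [he'1 0 (by simpa using hm_pos.le)]; simp
  · rw [he'2 (n * r) (by push_cast; exact hmN)]; push_cast; ring
  · intro j hj1 hjN
    have h1 := hkey j hjN.le
    rw [he0] at h1
    simp only [sub_zero] at h1
    by_cases hjm : (j : ℤ) ≤ m
    · rw [he'1 j hjm]
      have : -(c * j) - e j = -((c + δ) * j) - (e j - j * δ) := by ring
      rw [this]
      exact dvd_sub ((dvd_neg).mpr (Dvd.dvd.mul_right hcδ _)) h1
    · rw [he'2 j (not_le.mp hjm).le]
      have : (r - c) * ((j : ℤ) - n * r) - e j = (r : ℤ) * ((j : ℤ) - n * r + c * n) - (c + δ) * j - (e j - j * δ) := by ring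
      rw [this]
      exact dvd_sub (dvd_sub (Dvd.intro _ rfl) (Dvd.dvd.mul_right hcδ _)) h1
  · intro j hjN
    have hjN' : (j : ℤ) ≤ n * r := by exact_mod_cast hjN
    by_cases hjm : (j : ℤ) ≤ m
    · rw [he'1 j hjm]
      have : 0 ≤ c * j := mul_nonneg hc0 (by positivity)
      linarith
    · rw [he'2 j (not_le.mp hjm).le]
      have : 0 ≤ ((r : ℤ) - c) * ((n : ℤ) * r - j) := mul_nonneg (by linarith) (by linarith)
      nlinarith
  · intro j hj1 hjN
    rw [hsd j hj1]
    split_ifs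
    · right; rfl
    · left; rfl
  · intro j j' hj1 hjN hj'1 hj'N h h'
    rw [hsd j hj1] at h
    rw [hsd j' hj'1] at h'
    have h1 : (j : ℤ) = m := by
      by_contra hne; rw [if_neg hne] at h; exact h rfl
    have h2 : (j' : ℤ) = m := by
      by_contra hne; rw [if_neg hne] at h'; exact h' rfl
    exact_mod_cast h1.trans h2.symm

end Groth.Agent.S18429
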