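import Groth.Statements.S18431
-- import your own Groth.Agent.* helpers here
import Mathlib

set_option autoImplicit false
universe u
open SpinCurv

namespace Groth.Agent.S18431

/-- Let R be a Noetherian local ring in which the natural number r is invertible and let ξ, ζ ∈ R
satisfy ξ^r = 1 and ζ^r = 1. Then either ξ = ζ, or ξ - ζ is a unit of R. (Consequently an element of
R annihilated by ξ - ζ is zero unless ξ = ζ. In the published setting R is moreover complete; the
step does not use completeness.) -/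
theorem result (R : Type u) [CommRing R] [IsNoetherianRing R] [IsLocalRing R]
    (r : ℕ) (hr : IsUnit (r : R)) (ξ ζ : R) (hξ : ξ ^ r = 1) (hζ : ζ ^ r = 1) :
    ξ = ζ ∨ IsUnit (ξ - ζ) := by
  by_cases hu : IsUnit (ξ - ζ)
  · exact Or.inr hu
  left
  have hr0 : r ≠ 0 := by
    rintro rfl
    simp at hr
  -- ξ - ζ ∈ maximal ideal
  have hmem : ξ - ζ ∈ IsLocalRing.maximalIdeal R := by
    rwa [IsLocalRing.mem_maximalIdeal, mem_nonunits_iff]
  -- geometric sum
  have hgeom : (ξ - ζ) * ∑ i ∈ Finset.range r, ξ ^ i * ζ ^ (r - 1 - i) = 0 := by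
    have := (Commute.all ξ ζ).mul_geom_sum₂ r
    rw [this, hξ, hζ, sub_self]
  -- the sum is congruent to r * ζ^(r-1) modulo maximal ideal, hence a unit
  have hsum : IsUnit (∑ i ∈ Finset.range r, ξ ^ i * ζ ^ (r - 1 - i)) := by
    have hζu : IsUnit ζ := IsUnit.of_pow_eq_one hζ hr0
    have : (∑ i ∈ Finset.range r, ξ ^ i * ζ ^ (r - 1 - i)) - (r : R) * ζ ^ (r - 1) ∈ IsLocalRing.maximalIdeal R := by
      have : (∑ i ∈ Finset.range r, ξ ^ i * ζ ^ (r - 1 - i)) - (r : R) * ζ ^ (r - 1) = 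
          ∑ i ∈ Finset.range r, (ξ ^ i - ζ ^ i) * ζ ^ (r - 1 - i) := by
        have h1 : ∀ i ∈ Finset.range r, (ξ ^ i - ζ ^ i) * ζ ^ (r - 1 - i) = 
            ξ ^ i * ζ ^ (r - 1 - i) - ζ ^ (r - 1) := by
          intro i hi
          rw [sub_mul, ← pow_add, show i + (r - 1 - i) = r - 1 by 
            have := Finset.mem_range.mp hi; omega]
        rw [Finset.sum_congr rfl h1, Finset.sum_sub_distrib]
        simp
      rw [this]
      refine Ideal.sum_mem _ (fun i _ => Ideal.mul_mem_right _ _ ?_)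
      obtain ⟨c, hc⟩ := sub_dvd_pow_sub_pow ξ ζ i
      rw [hc]
      exact Ideal.mul_mem_right _ _ hmem
    have hu2 : IsUnit ((r : R) * ζ ^ (r - 1)) := hr.mul (hζu.pow _)
    by_contra hnu
    have h1 : (∑ i ∈ Finset.range r, ξ ^ i * ζ ^ (r - 1 - i)) ∈ IsLocalRing.maximalIdeal R := by
      rwa [IsLocalRing.mem_maximalIdeal, mem_nonunits_iff]
    have h2 := Ideal.sub_mem _ h1 this
    rw [sub_sub_cancel] at h2
    exact (IsLocalRing.mem_maximalIdeal _).mp h2 hu2
  have := hsum.mul_left_eq_zero.mp hgeom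
  exact sub_eq_zero.mp this

end Groth.Agent.S18431
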