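import Groth.Statements.S18457
-- import your own Groth.Agent.* helpers here
import Mathlib

set_option autoImplicit false
open Finset
open Surf

namespace Groth.Agent.S18457

/-- In the Picard lattice of the plane blown up at n ≤ 8 points, with basis h, e_1, …, e_n, form h² = 1,
e_i² = −1, all other products 0, and anticanonical class D = 3h − Σ e_i, let d·h − Σ a_i e_i be a
class with all a_i ≥ 0 (the class of the strict transform of a degree-d plane curve having
multiplicity a_i at the i-th point) which is a (−2)-class orthogonal to D, that is d² − Σ a_i² = −2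
and 3d = Σ a_i. Then one of the following holds: d = 1 and every a_i is 0 or 1 with exactly three
equal to 1; d = 2 and every a_i is 0 or 1 with exactly six equal to 1; d = 3, n = 8, and one a_i
equals 2 while the remaining seven equal 1. The published statement is geometric: under the
general-position hypotheses on the points, no smooth rational curve on the blown-up plane is
orthogonal to D; this row is the lattice enumeration its proof carries out (a line through three of
the points, a conic through six, a cubic through all eight and singular at one). -/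
theorem result (n : ℕ) (hn : n ≤ 8)
    (d : ℤ) (a : Fin n → ℤ) (ha : ∀ i, 0 ≤ a i)
    (hsq : d ^ 2 - ∑ i, (a i) ^ 2 = -2) (hK : 3 * d = ∑ i, a i) :
    (d = 1 ∧ (∀ i, a i = 0 ∨ a i = 1) ∧ (Finset.univ.filter (fun i => a i = 1)).card = 3) ∨
      (d = 2 ∧ (∀ i, a i = 0 ∨ a i = 1) ∧ (Finset.univ.filter (fun i => a i = 1)).card = 6) ∨
      (d = 3 ∧ n = 8 ∧ ∃ j, a j = 2 ∧ ∀ i, i ≠ j → a i = 1) := by
  have hd0 : 0 ≤ d := by
    have : 0 ≤ ∑ i, a i := Finset.sum_nonneg (fun i _ => ha i)
    linarith
  have hsq' : ∑ i, (a i) ^ 2 = d ^ 2 + 2 := by linarith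
  -- Cauchy-Schwarz
  have hcs : (∑ i, a i) ^ 2 ≤ (n : ℤ) * ∑ i, (a i) ^ 2 := by
    have := sq_sum_le_card_mul_sum_sq (s := (Finset.univ : Finset (Fin n))) (f := a)
    simpa using this
  have hn' : (n : ℤ) ≤ 8 := by exact_mod_cast hn
  have hd4 : d ≤ 4 := by
    rw [← hK, hsq'] at hcs
    nlinarith
  -- sum of a_i (a_i - 1)
  have hsum1 : ∑ i, a i * (a i - 1) = d ^ 2 + 2 - 3 * d := by
    have : ∑ i, a i * (a i - 1) = ∑ i, (a i) ^ 2 - ∑ i, a i := by
      rw [← Finset.sum_sub_distrib]
      exact Finset.sum_congr rfl (fun i _ => by ring)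
    rw [this, hsq', ← hK]
  have hterm : ∀ i, 0 ≤ a i * (a i - 1) := by
    intro i
    rcases (ha i).eq_or_lt with h | h
    · rw [← h]; simp
    · exact mul_nonneg (ha i) (by omega)
  have h01 : d ^ 2 + 2 - 3 * d = 0 → ∀ i, a i = 0 ∨ a i = 1 := by
    intro h0 i
    rw [h0] at hsum1
    have := (Finset.sum_eq_zero_iff_of_nonneg (fun i _ => hterm i)).mp hsum1 i (Finset.mem_univ i)
    rcases mul_eq_zero.mp this with h | h
    · exact Or.inl h
    · exact Or.inr (by omega)
  have hcard : (∀ i, a i = 0 ∨ a i = 1) → ((Finset.univ.filter (fun i => a i = 1)).card : ℤ) = 3 * d := by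
    intro h
    rw [hK, Finset.card_filter]
    push_cast
    refine Finset.sum_congr rfl (fun i _ => ?_)
    rcases h i with h0 | h1
    · simp [h0]
    · simp [h1]
  interval_cases d
  · -- d = 0
    exfalso
    have hz : ∀ i, a i = 0 := by
      intro i
      have hs : ∑ i, a i = 0 := by linarith
      exact (Finset.sum_eq_zero_iff_of_nonneg (fun i _ => ha i)).mp hs i (Finset.mem_univ i)
    have : ∑ i, (a i) ^ 2 = 0 := Finset.sum_eq_zero (fun i _ => by rw [hz i]; ring)
    omega
  · left
    have h := h01 (by norm_num)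
    refine ⟨rfl, h, ?_⟩
    have := hcard h
    omega
  · right; left
    have h := h01 (by norm_num)
    refine ⟨rfl, h, ?_⟩
    have := hcard h
    omega
  · right; right
    norm_num at hsum1 hK hsq'
    -- exists j with a_j (a_j - 1) > 0
    obtain ⟨j, -, hj⟩ : ∃ j ∈ Finset.univ, 0 < a j * (a j - 1) := by
      by_contra hcon
      push Not at hcon
      have : ∑ i, a i * (a i - 1) ≤ 0 := Finset.sum_nonpos (fun i hi => hcon i hi)
      omega
    have hsplit : a j * (a j - 1) + ∑ i ∈ Finset.univ.erase j, a i * (a i - 1) = 2 := by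
      rw [Finset.add_sum_erase Finset.univ (fun i => a i * (a i - 1)) (Finset.mem_univ j)]; exact hsum1
    have hrest : 0 ≤ ∑ i ∈ Finset.univ.erase j, a i * (a i - 1) := 
      Finset.sum_nonneg (fun i _ => hterm i)
    have haj2 : a j = 2 := by
      have h1 : 2 ≤ a j := by
        by_contra h
        have : a j = 0 ∨ a j = 1 := by have := ha j; omega
        rcases this with h | h <;> rw [h] at hj <;> simp at hj
      have h2 : a j * (a j - 1) ≤ 2 := by linarith
      nlinarith
    have hrest0 : ∑ i ∈ Finset.univ.erase j, a i * (a i - 1) = 0 := by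
      rw [haj2] at hsplit; linarith
    have hothers : ∀ i, i ≠ j → a i = 0 ∨ a i = 1 := by
      intro i hij
      have := (Finset.sum_eq_zero_iff_of_nonneg (fun i _ => hterm i)).mp hrest0 i 
        (Finset.mem_erase.mpr ⟨hij, Finset.mem_univ i⟩)
      rcases mul_eq_zero.mp this with h | h
      · exact Or.inl h
      · exact Or.inr (by omega)
    -- sum of others = 7
    have hsum7 : ∑ i ∈ Finset.univ.erase j, a i = 7 := by
      have := Finset.add_sum_erase Finset.univ a (Finset.mem_univ j)
      rw [haj2] at this; linarith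
    have hcard_erase : ((Finset.univ.erase j).card : ℤ) = n - 1 := by
      rw [Finset.card_erase_of_mem (Finset.mem_univ j)]
      simp
      have : 1 ≤ n := by
        have := j.isLt; omega
      push_cast [Nat.cast_sub this]; ring
    have hsum_one_sub : ∑ i ∈ Finset.univ.erase j, (1 - a i) = (n : ℤ) - 8 := by
      rw [Finset.sum_sub_distrib, hsum7]
      simp only [Finset.sum_const, nsmul_eq_mul, mul_one]
      rw [hcard_erase]; ring
    have hnonneg : ∀ i ∈ Finset.univ.erase j, 0 ≤ 1 - a i := by
      intro i hi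
      rcases hothers i (Finset.mem_erase.mp hi).1 with h | h <;> rw [h] <;> norm_num
    have hge : 0 ≤ ∑ i ∈ Finset.univ.erase j, (1 - a i) := Finset.sum_nonneg hnonneg
    have hn8 : n = 8 := by omega
    refine ⟨rfl, hn8, j, haj2, fun i hij => ?_⟩
    have hzero : ∑ i ∈ Finset.univ.erase j, (1 - a i) = 0 := by rw [hsum_one_sub, hn8]; norm_num
    have := (Finset.sum_eq_zero_iff_of_nonneg hnonneg).mp hzero i 
        (Finset.mem_erase.mpr ⟨hij, Finset.mem_univ i⟩)
    omega
  · exfalso
    norm_num at hsum1 hK hsq' hcs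
    rw [← hK, hsq'] at hcs
    have hn8 : n = 8 := by omega
    have h0 : ∑ i, (2 * a i - 3) ^ 2 = 0 := by
      have : ∑ i, (2 * a i - 3) ^ 2 = 4 * ∑ i, (a i) ^ 2 - 12 * ∑ i, a i + 9 * (n : ℤ) := by
        rw [Finset.mul_sum, Finset.mul_sum, ← Finset.sum_sub_distrib]
        have : (9 : ℤ) * n = ∑ i : Fin n, 9 := by simp; ring
        rw [this, ← Finset.sum_add_distrib]
        exact Finset.sum_congr rfl (fun i _ => by ring)
      rw [this, hsq', ← hK, hn8]; norm_num
    have hi : 0 < n := by omega
    have := (Finset.sum_eq_zero_iff_of_nonneg (fun i _ => sq_nonneg (2 * a i - 3))).mp h0 ⟨0, hi⟩ (Finset.mem_univ _)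
    have := pow_eq_zero_iff (n := 2) (by norm_num) |>.mp this
    omega

end Groth.Agent.S18457
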