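import Groth.Statements.S18483
import Groth.Agent.Lib.Helper12.WeilG

set_option autoImplicit false
set_option linter.style.haveILetI false
universe u
open CategoryTheory CategoryTheory.Limits AlgebraicGeometry MonObj
open Neron

namespace Groth.Agent.S18483

/-- Let R be a Dedekind domain with fraction field K and N a proper smooth group scheme over Spec R,
with no connectedness condition on its fibres. Then N is a Néron model of its generic fibre N_K: N
is smooth, separated and of finite type over Spec R, and for every smooth Spec R-scheme Y
restriction to generic fibres is a bijection from R-morphisms Y → N onto K-morphisms Y_K → N_K. (The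
source allows any connected Dedekind scheme as base; the affine case is stated.) -/
theorem result (R : Type u) [CommRing R] [IsDedekindDomain R]
    (N : Over (Spec (CommRingCat.of R))) [GrpObj N] [IsProper N.hom] [Smooth N.hom] :
    Neron.IsNeronModelOf R N ((Neron.genericFibre R).obj N) (Iso.refl _) := by
  haveI : IsSeparated N.hom := inferInstance
  refine ⟨inferInstance, inferInstance, inferInstance, inferInstance, ?_⟩
  intro Y hY
  haveI : Smooth Y.hom := hY
  haveI : Flat Y.hom := inferInstance
  constructor
  · intro g₁ g₂ h12
    have h12' : (Neron.genericFibre R).map g₁ = (Neron.genericFibre R).map g₂ := by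
      simpa using h12
    have hfst : pullback.fst Y.hom (Neron.genPt R) ≫ g₁.left =
        pullback.fst Y.hom (Neron.genPt R) ≫ g₂.left := by
      have h := congrArg (fun φ => φ.left ≫ pullback.fst N.hom (Neron.genPt R)) h12'
      simp only [Over.pullback_map_left] at h
      rw [pullback.lift_fst, pullback.lift_fst] at h
      exact h
    exact Over.OverMorphism.ext
      (Groth.Agent.Helper12.WeilG.nmp_unique R g₁.left g₂.left (Over.w g₁) (Over.w g₂) hfst)
  · intro u
    have huw : u.left ≫ pullback.snd N.hom (Neron.genPt R) =
        pullback.snd Y.hom (Neron.genPt R) := Over.w u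
    have hu' : (u.left ≫ pullback.fst N.hom (Neron.genPt R)) ≫ N.hom =
        pullback.fst Y.hom (Neron.genPt R) ≫ Y.hom := by
      rw [Category.assoc, pullback.condition, reassoc_of% huw, pullback.condition]
    obtain ⟨h, hh1, hh2⟩ := Groth.Agent.Helper12.WeilG.nmp_ext R
      (u.left ≫ pullback.fst N.hom (Neron.genPt R)) hu'
    refine ⟨Over.homMk h hh1, ?_⟩
    apply Over.OverMorphism.ext
    show ((Neron.genericFibre R).map (Over.homMk h hh1) ≫ 𝟙 _).left = u.left
    rw [Category.comp_id]
    simp only [Over.pullback_map_left]
    apply pullback.hom_ext
    · rw [pullback.lift_fst]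
      simp only [Over.homMk_left]
      exact hh2
    · rw [pullback.lift_snd]
      exact huw.symm

end Groth.Agent.S18483
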