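import Groth.Statements.S19964
import Mathlib
import Groth.Prelude.Def_ActBC
import Groth.Agent.Lib.Helper4.FlatClosure3
import Groth.Agent.Lib.Helper18.SubGrpObj
-- import your own Groth.Agent.* helpers here

set_option autoImplicit false
universe u
open CategoryTheory MonoidalCategory CartesianMonoidalCategory MonObj GrpObj AlgebraicGeometry CategoryTheory.Limits
open Neron

namespace Groth.Agent.S19964

section

open CategoryTheory CategoryTheory.Limits AlgebraicGeometry MonoidalCategory CartesianMonoidalCategory
  MonObj GrpObj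
open Groth.Agent.Helper4.FlatClosure

set_option linter.style.haveILetI false

/-- a morphism from a flat `S`-scheme into `G` whose generic fibre factors through `HK` factors
through the schematic closure `H` of `HK` -/
theorem exists_lift_of_generic {S S' : Scheme.{u}} (gK : S' ⟶ S) [QuasiCompact gK]
    [IsSchemeTheoreticallyDominant gK]
    {G H T : Over S} (j : H ⟶ G) [IsClosedImmersion j.left] (hT : Flat T.hom) (a : T ⟶ G)
    {HK : Over S'} (i : HK ⟶ Red.bc gK G) (φ : HK.left ⟶ H.left)
    (hφ : φ ≫ j.left = i.left ≫ pullback.fst G.hom gK)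
    (b : Red.bc gK T ⟶ HK) (hb : b ≫ i = (Over.pullback gK).map a) : ∃ a' : T ⟶ H, a' ≫ j = a := by
  haveI := hT
  let τ : (Red.bc gK T).left ⟶ T.left := pullback.fst T.hom gK
  haveI : IsSchemeTheoreticallyDominant τ := IsSchemeTheoreticallyDominant.pullbackFst T.hom gK
  have key : τ ≫ a.left = (b.left ≫ φ) ≫ j.left := by
    rw [Category.assoc, hφ, ← Category.assoc, ← Over.comp_left, hb]
    exact (ActBC.pullback_map_left_fst gK a).symm
  have hker : j.left.ker ≤ a.left.ker := by
    have h1 : (τ ≫ a.left).ker = a.left.ker := by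
      rw [Scheme.Hom.ker_comp, τ.ker_eq_bot, Scheme.IdealSheafData.map_bot]
    rw [← h1, key]
    exact Scheme.Hom.le_ker_comp _ _
  refine ⟨Over.homMk (IsClosedImmersion.lift j.left a.left hker) ?_, ?_⟩
  · rw [← Over.w j, ← Category.assoc, IsClosedImmersion.lift_fac, Over.w a]
  · ext
    simp [IsClosedImmersion.lift_fac]

theorem main (R : Type u) [CommRing R] [IsDedekindDomain R]
    (G : Over (Spec (CommRingCat.of R))) [GrpObj G]
    (HK : Over (Spec (CommRingCat.of (FractionRing R)))) [GrpObj HK]
    (i : HK ⟶ Red.bc (Neron.genPt R) G) [IsMonHom i] [IsClosedImmersion i.left] :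
    ∃ (H : Over (Spec (CommRingCat.of R))) (_ : GrpObj H) (j : H ⟶ G) (φ : HK.left ⟶ H.left),
      IsMonHom j ∧ IsClosedImmersion j.left ∧ Flat H.hom ∧
      IsPullback φ HK.hom H.hom (Neron.genPt R) ∧
      φ ≫ j.left = i.left ≫ pullback.fst G.hom (Neron.genPt R) ∧
      φ.ker = ⊥ := by
  let gK := Neron.genPt R
  let F := Over.pullback gK
  haveI : QuasiCompact gK := inferInstance
  haveI : IsDominant gK := by
    rw [isDominant_iff]
    have h1 : RingHom.ker (algebraMap R (FractionRing R)) ≤ nilradical R := by
      rw [(RingHom.injective_iff_ker_eq_bot _).1 (IsFractionRing.injective R (FractionRing R))]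
      exact bot_le
    exact (PrimeSpectrum.denseRange_comap_iff_ker_le_nilRadical _).2 h1
  haveI : IsSchemeTheoreticallyDominant gK := .of_isDominant gK
  haveI : Flat gK := by
    rw [HasRingHomProperty.Spec_iff (P := @Flat)]
    exact RingHom.flat_algebraMap_iff.mpr (IsLocalization.flat _ (nonZeroDivisors R))
  haveI : IsPreimmersion gK := IsPreimmersion.of_isLocalization (nonZeroDivisors R)
  let gG : (Red.bc gK G).left ⟶ G.left := pullback.fst G.hom gK
  haveI : IsPreimmersion gG := inferInstanceAs (IsPreimmersion (pullback.fst G.hom gK))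
  haveI : Flat gG := inferInstanceAs (Flat (pullback.fst G.hom gK))
  haveI : QuasiCompact gG := inferInstanceAs (QuasiCompact (pullback.fst G.hom gK))
  let ψ : HK.left ⟶ G.left := i.left ≫ gG
  haveI : QuasiCompact ψ := inferInstance
  haveI := isSchemeTheoreticallyDominant_toImage ψ
  let H : Over (Spec (CommRingCat.of R)) := Over.mk (ψ.imageι ≫ G.hom)
  let j : H ⟶ G := Over.homMk ψ.imageι rfl
  let φ : HK.left ⟶ H.left := ψ.toImage
  have hφj : φ ≫ j.left = i.left ≫ gG := ψ.toImage_imageι
  haveI : IsClosedImmersion j.left := inferInstanceAs (IsClosedImmersion ψ.imageι)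
  -- the closure meets the generic fibre in `HK`
  have sq1 : IsPullback φ i.left ψ.imageι gG := by
    let p₁ := pullback.fst ψ.imageι gG
    let p₂ := pullback.snd ψ.imageι gG
    let c : HK.left ⟶ pullback ψ.imageι gG := pullback.lift ψ.toImage i.left ψ.toImage_imageι
    have hc1 : c ≫ p₁ = ψ.toImage := pullback.lift_fst _ _ _
    have hc2 : c ≫ p₂ = i.left := pullback.lift_snd _ _ _
    haveI : IsClosedImmersion (c ≫ p₂) := by rw [hc2]; infer_instance
    haveI : IsClosedImmersion c := IsClosedImmersion.of_comp c p₂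
    haveI : IsSchemeTheoreticallyDominant c := by
      have hout : IsPullback (c ≫ p₂) (𝟙 HK.left) gG (ψ.toImage ≫ ψ.imageι) := by
        rw [hc2, ψ.toImage_imageι]
        exact isPullback_of_mono _ _
      have hright : IsPullback p₂ p₁ gG ψ.imageι := (IsPullback.of_hasPullback _ _).flip
      have hleft : IsPullback c (𝟙 HK.left) p₁ ψ.toImage :=
        IsPullback.of_right hout (by rw [hc1, Category.id_comp]) hright
      exact IsSchemeTheoreticallyDominant.of_isPullback hleft.flip
    haveI := isIso_of_isClosedImmersion_of_isSchemeTheoreticallyDominant c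
    exact IsPullback.of_iso_pullback ⟨ψ.toImage_imageι⟩ (asIso c) hc1 hc2
  have sq2 : IsPullback gG (Red.bc gK G).hom G.hom gK := IsPullback.of_hasPullback G.hom gK
  have sq : IsPullback φ HK.hom H.hom gK := by
    have h := sq1.paste_vert sq2
    rwa [Over.w i] at h
  have hflat : Flat H.hom := flat_of_dominant_of_dedekind R H.hom φ HK.hom sq.w
  -- the generic fibre of `H` is `HK`
  let e₂ : HK ≅ F.obj H := Over.isoMk sq.isoPullback (sq.isoPullback_hom_snd)
  have he₂ : e₂.hom ≫ F.map j = i := by
    ext
    apply pullback.hom_ext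
    · rw [Over.comp_left, Category.assoc, ActBC.pullback_map_left_fst]
      show sq.isoPullback.hom ≫ pullback.fst H.hom gK ≫ j.left = _
      rw [← Category.assoc, sq.isoPullback_hom_fst]
      exact hφj
    · exact (Over.w _).trans (Over.w _).symm
  have he₂' : e₂.inv ≫ i = F.map j := by rw [← he₂, Iso.inv_hom_id_assoc]
  haveI : Mono j.left := inferInstance
  haveI : Mono j := Over.mono_of_mono_left j
  -- unit
  have h1 : ∃ e : 𝟙_ (Over (Spec (CommRingCat.of R))) ⟶ H, e ≫ j = η[G] := by
    refine exists_lift_of_generic gK j ?_ η[G] i φ hφj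
      (inv (Functor.LaxMonoidal.ε F) ≫ η[HK]) ?_
    · show Flat (𝟙 _)
      infer_instance
    · have hgK : η[Red.bc gK G] = Functor.LaxMonoidal.ε F ≫ F.map η[G] := rfl
      rw [Category.assoc, IsMonHom.one_hom, hgK, IsIso.inv_hom_id_assoc]
  -- multiplication
  have h2 : ∃ m : H ⊗ H ⟶ H, m ≫ j = (j ⊗ₘ j) ≫ μ[G] := by
    refine exists_lift_of_generic gK j ?_ ((j ⊗ₘ j) ≫ μ[G]) i φ hφj
      (inv (Functor.LaxMonoidal.μ F H H) ≫ (e₂.inv ⊗ₘ e₂.inv) ≫ μ[HK]) ?_
    · rw [Over.tensorObj_hom]
      haveI := hflat
      infer_instance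
    · have hμ : μ[Red.bc gK G] = Functor.LaxMonoidal.μ F G G ≫ F.map μ[G] := rfl
      rw [Category.assoc, Category.assoc, IsMonHom.mul_hom, hμ, tensorHom_comp_tensorHom_assoc,
        he₂', Functor.LaxMonoidal.μ_natural_assoc, IsIso.inv_hom_id_assoc, Functor.map_comp]
  -- inverse
  have h3 : ∃ inv' : H ⟶ H, inv' ≫ j = j ≫ ι[G] := by
    refine exists_lift_of_generic gK j hflat (j ≫ ι[G]) i φ hφj (e₂.inv ≫ ι[HK]) ?_
    have hι : ι[Red.bc gK G] = F.map ι[G] := rfl
    rw [Category.assoc, GrpObj.inv_hom, hι, ← Category.assoc, he₂', Functor.map_comp]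
  obtain ⟨instH, hmon⟩ := Groth.Agent.Helper18.SubGrpObj.exists_grpObj_of_mono j h1 h2 h3
  exact ⟨H, instH, j, φ, hmon, inferInstance, hflat, sq, hφj, φ.ker_eq_bot⟩

end

/-- Let R be a Dedekind domain with fraction field K, G a group scheme over Spec R and i : H_K → G_K a
closed subgroup scheme of the generic fibre G_K = G ×_R K (a homomorphism which is a closed
immersion). Then there are a group scheme H over Spec R, flat over Spec R, and a homomorphism j : H
→ G which is a closed immersion, together with a morphism H_K → H presenting H_K as the generic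
fibre H ×_R K compatibly with i and the embedding G_K → G, and with trivial kernel ideal sheaf (H_K
is schematically dense in H). In words: the schematic closure in G of a closed K-subgroup of the
generic fibre is a flat closed R-subgroup scheme of G. (The source states this for group algebraic
spaces over a connected Dedekind scheme; the case of schemes over an affine base is stated.) -/
theorem result
    (R : Type u) [CommRing R] [IsDedekindDomain R]
    (G : Over (Spec (CommRingCat.of R))) [GrpObj G]
    (HK : Over (Spec (CommRingCat.of (FractionRing R)))) [GrpObj HK]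
    (i : HK ⟶ Red.bc (Neron.genPt R) G) [IsMonHom i] [IsClosedImmersion i.left] :
    ∃ (H : Over (Spec (CommRingCat.of R))) (_ : GrpObj H) (j : H ⟶ G) (φ : HK.left ⟶ H.left),
      IsMonHom j ∧ IsClosedImmersion j.left ∧ Flat H.hom ∧
      IsPullback φ HK.hom H.hom (Neron.genPt R) ∧
      φ ≫ j.left = i.left ≫ pullback.fst G.hom (Neron.genPt R) ∧
      φ.ker = ⊥ := by
  exact main R G HK i

end Groth.Agent.S19964
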