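import Groth.Statements.S18484
import Mathlib
import Groth.Agent.S19964
-- import your own Groth.Agent.* helpers here

set_option autoImplicit false
universe u
open CategoryTheory CategoryTheory.Limits AlgebraicGeometry MonObj
open Neron

namespace Groth.Agent.S18484

section

set_option linter.style.haveILetI false

theorem main (R : Type u) [CommRing R] [IsDedekindDomain R]
    (X G : Over (Spec (CommRingCat.of R)))
    (hX : Neron.IsNeronModelOf R X ((Neron.genericFibre R).obj X) (Iso.refl _))
    (i : G ⟶ X) [IsClosedImmersion i.left] [Smooth G.hom] :
    Neron.IsNeronModelOf R G ((Neron.genericFibre R).obj G) (Iso.refl _) := by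
  obtain ⟨-, hsep, hlft, hqc, hmap⟩ := hX
  let gK := Neron.genPt R
  let F := Neron.genericFibre R
  haveI : QuasiCompact gK := inferInstance
  haveI : IsDominant gK := by
    rw [isDominant_iff]
    have h1 : RingHom.ker (algebraMap R (FractionRing R)) ≤ nilradical R := by
      rw [(RingHom.injective_iff_ker_eq_bot _).1 (IsFractionRing.injective R (FractionRing R))]
      exact bot_le
    exact (PrimeSpectrum.denseRange_comap_iff_ker_le_nilRadical _).2 h1
  haveI : IsSchemeTheoreticallyDominant gK := .of_isDominant gK
  have hw : i.left ≫ X.hom = G.hom := Over.w i
  refine ⟨inferInstance, ?_, ?_, ?_, ?_⟩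
  · rw [← hw]
    haveI := hsep
    infer_instance
  · infer_instance
  · rw [← hw]
    haveI := hqc
    infer_instance
  · intro Y hY
    haveI := hY
    haveI : Mono i.left := inferInstance
    haveI : Mono i := Over.mono_of_mono_left i
    haveI : Mono (F.map i) := inferInstance
    have hbij := hmap Y hY
    constructor
    · intro g₁ g₂ h
      simp only [Iso.refl_hom, Category.comp_id] at h
      have h2 : g₁ ≫ i = g₂ ≫ i := by
        apply hbij.1
        simp only [Iso.refl_hom, Category.comp_id, Functor.map_comp]
        rw [h]
      exact (cancel_mono i).1 h2
    · intro u
      obtain ⟨v, hv⟩ := hbij.2 (u ≫ F.map i)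
      simp only [Iso.refl_hom, Category.comp_id] at hv
      obtain ⟨a', ha'⟩ := Groth.Agent.S19964.exists_lift_of_generic gK i
        (inferInstance : Flat Y.hom) v (F.map i) (pullback.fst G.hom gK)
        (ActBC.pullback_map_left_fst gK i).symm u hv.symm
      refine ⟨a', ?_⟩
      simp only [Iso.refl_hom, Category.comp_id]
      rw [← cancel_mono (F.map i), ← Functor.map_comp, ha', hv]

end

/-- Let R be a Dedekind domain with fraction field K, X a Spec R-scheme which is a Néron model of its
generic fibre X_K, and i : G → X a closed immersion with G smooth over Spec R. Then G is a Néron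
model of its generic fibre G_K: smooth, separated, of finite type, and for every smooth Spec
R-scheme Y restriction to generic fibres is a bijection from R-morphisms Y → G onto K-morphisms Y_K
→ G_K. (The source states this for a closed subgroup scheme of a Néron model; the group laws play no
part and are not assumed. The converse direction of the source, that a Néron model is a closed
subgroup of a Néron model, is immediate and not stated.) -/
theorem result (R : Type u) [CommRing R] [IsDedekindDomain R]
    (X G : Over (Spec (CommRingCat.of R))) (hX : Neron.IsNeronModelOf R X ((Neron.genericFibre R).obj X) (Iso.refl _))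
    (i : G ⟶ X) [IsClosedImmersion i.left] [Smooth G.hom] :
    Neron.IsNeronModelOf R G ((Neron.genericFibre R).obj G) (Iso.refl _) := by
  exact main R X G hX i

end Groth.Agent.S18484
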