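import Groth.Statements.S18485
import Mathlib
import Groth.Agent.Lib.Helper14.DedekindQF
-- import your own Groth.Agent.* helpers here

set_option autoImplicit false
universe u
open CategoryTheory CategoryTheory.Limits AlgebraicGeometry MonObj
open Neron

namespace Groth.Agent.S18485

/-- Let R be a Dedekind domain with fraction field K and H a Spec R-scheme which is flat and locally of
finite type over Spec R. If the generic fibre H_K is locally quasi-finite over K, then H is locally
quasi-finite over Spec R. (The published statement is about the schematic closure, in an S-group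
algebraic space of finite type over a connected Dedekind scheme S, of a finite subgroup of the
generic fibre, which it asserts to be a quasi-finite S-group; this row is the statement about flat
schemes locally of finite type over an affine Dedekind base on which that rests. Locally
quasi-finite is meant here without a finite type clause, which is assumed separately.) -/
theorem result (R : Type u) [CommRing R]
    [IsDedekindDomain R] (H : Over (Spec (CommRingCat.of R))) [Flat H.hom] [LocallyOfFiniteType H.hom]
    [LocallyQuasiFinite ((Neron.genericFibre R).obj H).hom] : LocallyQuasiFinite H.hom := by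
  classical
  apply Groth.Agent.Helper14.DedekindQF.main R H.hom
  intro y₁ y₂ h₁ h₂ hsp
  -- the unique point of `Spec K`
  let ξ : Spec (CommRingCat.of (FractionRing R)) := (⊥ : PrimeSpectrum (FractionRing R))
  have hξ : ((Neron.genPt R) ξ).asIdeal = ⊥ := by
    show Ideal.comap (algebraMap R (FractionRing R)) ⊥ = ⊥
    rw [← RingHom.ker_eq_comap_bot, (RingHom.injective_iff_ker_eq_bot _).mp
      (IsFractionRing.injective R (FractionRing R))]
  have e₁ : H.hom y₁ = (Neron.genPt R) ξ := PrimeSpectrum.ext (h₁.trans hξ.symm)
  have e₂ : H.hom y₂ = (Neron.genPt R) ξ := PrimeSpectrum.ext (h₂.trans hξ.symm)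
  obtain ⟨w₁, hw₁, hw₁'⟩ := Scheme.Pullback.exists_preimage_pullback (f := H.hom)
    (g := Neron.genPt R) y₁ ξ e₁
  obtain ⟨w₂, hw₂, hw₂'⟩ := Scheme.Pullback.exists_preimage_pullback (f := H.hom)
    (g := Neron.genPt R) y₂ ξ e₂
  haveI : IsPreimmersion (Neron.genPt R) :=
    IsPreimmersion.of_isLocalization (nonZeroDivisors R)
  have hsp' : w₁ ⤳ w₂ := by
    rw [← (pullback.fst H.hom (Neron.genPt R)).isEmbedding.isInducing.specializes_iff, hw₁, hw₂]
    exact hsp
  have hdisc := Scheme.Hom.isDiscrete_preimage_singleton
    ((Neron.genericFibre R).obj H).hom ξ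
  have hm₁ : w₁ ∈ ((Neron.genericFibre R).obj H).hom ⁻¹' {ξ} := hw₁'
  have hm₂ : w₂ ∈ ((Neron.genericFibre R).obj H).hom ⁻¹' {ξ} := hw₂'
  haveI := hdisc.to_subtype
  have hsp'' : (⟨w₁, hm₁⟩ : ↥(((Neron.genericFibre R).obj H).hom ⁻¹' {ξ})) ⤳ ⟨w₂, hm₂⟩ :=
    (subtype_specializes_iff _ _).mpr hsp'
  have := congrArg Subtype.val hsp''.eq
  rw [← hw₁, ← hw₂]
  exact congrArg _ this

end Groth.Agent.S18485
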