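import Groth.Statements.S18486
import Groth.Agent.Lib.Helper7.NeronExt4
import Groth.Agent.Lib.Helper18.FpqcTorsor
import Groth.Agent.Lib.Helper12.NeronFinEt
import Groth.Agent.S0079
import Groth.Agent.S0081

set_option autoImplicit false
universe u
open CategoryTheory CategoryTheory.Limits AlgebraicGeometry MonObj
open Neron

namespace Groth.Agent.S18486

/-- Let R be a Dedekind domain with fraction field K, X a group scheme over Spec R which is a Néron
model of its generic fibre, and P a Spec R-scheme with an action of X making it an X-torsor for the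
fppf topology (a pseudo-torsor which acquires sections on the members of some fppf covering family
of Spec R). Then P is smooth, separated and of finite type over Spec R and has the Néron mapping
property: for every smooth Spec R-scheme Y restriction to generic fibres is a bijection from
R-morphisms Y → P onto K-morphisms Y_K → P_K; that is, P is a Néron model of P_K. (The source treats
Néron lft models, torsors that are algebraic spaces and the mapping property towards smooth
algebraic spaces; the case of a Néron model of finite type and a torsor which is a scheme is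
stated.) -/
theorem result (R : Type u) [CommRing R] [IsDedekindDomain R]
    (X : Over (Spec (CommRingCat.of R))) [GrpObj X] (hX : Neron.IsNeronModelOf R X ((Neron.genericFibre R).obj X) (Iso.refl _))
    (P : NonAbH1.TorsorSch X Scheme.fppfPrecoverage) :
    Neron.IsNeronModelOf R P.X ((Neron.genericFibre R).obj P.X) (Iso.refl _) := by
  obtain ⟨hXsm, hXsep, hXlft, hXqc, hXnmp⟩ := hX
  have hfpqc : NonAbH1.IsTorsorFor Scheme.fpqcPrecoverage P.act := by
    obtain ⟨hps, R', hR', hsec⟩ := P.isTorsor
    exact ⟨hps, R', Scheme.fppfPrecoverage_le_fpqcPrecoverage _ hR', hsec⟩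
  have i1 := Groth.Agent.S0081.result.{u}
  have i2 := Groth.Agent.S0079.result.{u}
  have h1 : Smooth P.X.hom :=
    Groth.Agent.Helper18.FpqcTorsor.prop_of_isTorsorFor @Smooth X P.X P.act hfpqc hXsm
  have h2 : IsSeparated P.X.hom :=
    Groth.Agent.Helper18.FpqcTorsor.prop_of_isTorsorFor @IsSeparated X P.X P.act hfpqc hXsep
  have h3 : LocallyOfFiniteType P.X.hom :=
    Groth.Agent.Helper18.FpqcTorsor.prop_of_isTorsorFor @LocallyOfFiniteType X P.X P.act hfpqc hXlft
  have h4 : QuasiCompact P.X.hom :=
    Groth.Agent.Helper18.FpqcTorsor.prop_of_isTorsorFor @QuasiCompact X P.X P.act hfpqc hXqc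
  have h5 : Surjective P.X.hom :=
    Groth.Agent.Helper18.FpqcTorsor.prop_of_isTorsorFor @Surjective X P.X P.act hfpqc
      (Groth.Agent.Helper18.FpqcTorsor.surjective_hom_of_monObj X)
  refine ⟨h1, h2, h3, h4, ?_⟩
  intro Y hY
  have hps : IsIso (CartesianMonoidalCategory.lift P.act.act
      (CartesianMonoidalCategory.snd X P.X)) := hfpqc.1
  have hb := Groth.Agent.Helper7.NeronExt.torsor_nmp (Neron.genPt R) X P.X P.act.act hps
    (fun Z hZ => by
      intro ψ
      obtain ⟨g, hg⟩ := (hXnmp Z hZ).2 ψ
      refine ⟨g, ?_⟩
      dsimp only at hg ⊢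
      rw [Iso.refl_hom, Category.comp_id] at hg
      exact hg) Y hY
  have e : (fun g : Y ⟶ P.X => (Neron.genericFibre R).map g ≫ (Iso.refl _).hom) =
      fun g : Y ⟶ P.X => (Over.pullback (Neron.genPt R)).map g := by
    funext g
    rw [Iso.refl_hom, Category.comp_id]
  rw [e]
  exact hb

end Groth.Agent.S18486
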