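import Groth.Statements.S18491
import Groth.Agent.Lib.Helper6.GrpSchEtA
import Groth.Agent.Lib.Helper15.UnramifiedFibers

set_option autoImplicit false
universe u
open CategoryTheory CategoryTheory.Limits AlgebraicGeometry MonObj
open GrpSch

namespace Groth.Agent.S18491

/-- Let S be a scheme and G an S-group scheme whose structure morphism is locally quasi-finite, of
finite type, flat and locally of finite presentation (a quasi-finite fppf group scheme). Suppose
that for every point s of S the fibre G_s, a finite group scheme over the residue field k(s), has
order non-zero in k(s): the rank of G_s → Spec k(s) at the point of Spec k(s) is not divisible by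
the characteristic. Then G → S is étale. -/
theorem result {S : Scheme.{u}} (G : Over S) [GrpObj G]
    [LocallyQuasiFinite G.hom] [QuasiCompact G.hom] [Flat G.hom] [LocallyOfFinitePresentation G.hom]
    (h : ∀ (s : S) (x : ↥(Spec (S.residueField s))),
      ((pullback.snd G.hom (S.fromSpecResidueField s)).finrank x : S.residueField s) ≠ 0) :
    Etale G.hom := by
  rw [Etale.iff_flat_and_formallyUnramified]
  refine ⟨inferInstance, ?_, inferInstance⟩
  haveI : LocallyOfFiniteType G.hom := inferInstance
  apply Groth.Agent.Helper15.formallyUnramified_of_fibers
  intro s
  haveI : GrpObj (Over.mk G.hom) := inferInstanceAs (GrpObj G)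
  letI inst : GrpObj (Over.mk (pullback.snd G.hom (S.fromSpecResidueField s))) :=
    Over.grpObjMkPullbackSnd
  have hfin : IsFinite (pullback.snd G.hom (S.fromSpecResidueField s)) :=
    (inferInstance : IsFinite (G.hom.fiberToSpecResidueField s))
  have hflat : Flat (pullback.snd G.hom (S.fromSpecResidueField s)) := inferInstance
  have hfp : LocallyOfFinitePresentation (pullback.snd G.hom (S.fromSpecResidueField s)) :=
    inferInstance
  have het : Etale (pullback.snd G.hom (S.fromSpecResidueField s)) := by
    refine @Groth.Agent.Helper6.GrpSchEt.etale_of_affine' _ ⟨_, rfl⟩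
      (Over.mk (pullback.snd G.hom (S.fromSpecResidueField s))) inst hfin hflat hfp (fun x => ?_)
    exact Groth.Agent.Helper6.GrpSchEt.natCast_ne_zero_of_ringHom
      ((Scheme.ΓSpecIso (S.residueField s)).inv ≫
        (Spec (S.residueField s)).evaluation ⊤ x trivial).hom _ (h s x)
  exact (inferInstance : FormallyUnramified (pullback.snd G.hom (S.fromSpecResidueField s)))

end Groth.Agent.S18491
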