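import Groth.Statements.S18502
import Groth.Agent.Lib.Helper18.GeomQuot

set_option autoImplicit false
universe u
open CategoryTheory MonoidalCategory CartesianMonoidalCategory MonObj GrpObj AlgebraicGeometry Topology
open EqInt

namespace Groth.Agent.S18502

/-- Over a field k, let an affine group scheme G of finite type act on X, let X and Y be separated and
of finite type over k, and let φ : X → Y be G-invariant, flat and surjective with (σ, p₂) : G × X →
X ×_Y X an isomorphism (X is a principal G-bundle over Y). Conclusion: the pair (Y, φ) realizes Y as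
a geometric quotient of X under G, and G acts freely, meaning (σ, p₂) : G × X → X × X is a closed
immersion. (The source takes X and Y integral; integrality plays no role. A geometric quotient is
taken here with φ universally submersive.) -/
theorem result (k : Type u) [Field k]
    (G X Y : Over (Spec (CommRingCat.of k))) [GrpObj G] [IsAffine G.left] [LocallyOfFiniteType G.hom]
    [LocallyOfFiniteType X.hom] [QuasiCompact X.hom] [IsSeparated X.hom]
    [LocallyOfFiniteType Y.hom] [QuasiCompact Y.hom] [IsSeparated Y.hom]
    (a : AlgGrp.Action G X) (φ : X ⟶ Y) (hinv : GIT.IsInvariant a φ) [Flat φ.left] [Surjective φ.left]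
    (hcart : IsIso (GIT.PsiY a φ hinv)) :
    GIT.IsGeomQuot a φ ∧ IsClosedImmersion (GIT.psi a (𝟙 X)).left := by
  -- the kernel pair
  have hpb : IsPullback a.act.left (snd G X).left φ.left φ.left := by
    haveI := hcart
    refine IsPullback.of_iso_pullback ⟨hinv.left⟩ (asIso (GIT.PsiY a φ hinv)) ?_ ?_
    · exact Limits.pullback.lift_fst _ _ _
    · exact Limits.pullback.lift_snd _ _ _
  have hkp : IsPullback a.act (snd G X) φ φ :=
    IsPullback.of_map_of_faithful (Over.forget _) hpb
  -- `φ` is an fpqc covering
  haveI : QuasiCompact (φ.left ≫ Y.hom) := by rw [Over.w φ]; infer_instance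
  haveI : QuasiCompact φ.left := QuasiCompact.of_comp φ.left Y.hom
  have hsec := Groth.Agent.Helper18.QSh.secSieve_mem_of_singleton Scheme.fpqcPrecoverage φ
    φ.left.singleton_mem_fpqcPrecoverage
  have hq : QuotSh.IsQuotient Scheme.fpqcPrecoverage a.act (snd G X) φ :=
    Groth.Agent.Helper18.QSh.isQuotient_of_isKernelPair Scheme.fpqcPrecoverage hkp hsec
  refine ⟨Groth.Agent.Helper18.GeomQuot.isGeomQuot_of_isQuotient Scheme.fpqcPrecoverage a φ le_rfl hq, ?_⟩
  -- freeness
  have hm : IsClosedImmersion (Limits.pullback.map φ.left φ.left (φ.left ≫ Y.hom) (φ.left ≫ Y.hom) (𝟙 _) (𝟙 _)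
      Y.hom (Category.id_comp _).symm (Category.id_comp _).symm) :=
    MorphismProperty.of_isPullback (P := @IsClosedImmersion)
      (Limits.pullback_map_diagonal_isPullback φ.left φ.left Y.hom) inferInstance
  have e : (GIT.psi a (𝟙 X)).left = GIT.PsiY a φ hinv ≫
      Limits.pullback.map φ.left φ.left (φ.left ≫ Y.hom) (φ.left ≫ Y.hom) (𝟙 _) (𝟙 _)
        Y.hom (Category.id_comp _).symm (Category.id_comp _).symm ≫
      (Limits.pullback.congrHom (Over.w φ) (Over.w φ)).hom := by
    have h1 : (GIT.psi a (𝟙 X)) ≫ fst X X = a.act := by
      unfold GIT.psi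
      rw [lift_fst, MonoidalCategory.whiskerLeft_id, Category.id_comp]
    have h2 : (GIT.psi a (𝟙 X)) ≫ snd X X = snd G X := by
      unfold GIT.psi
      rw [lift_snd]
    apply Limits.pullback.hom_ext
    · have := congrArg (fun m => m.left) h1
      refine Eq.trans this ?_
      unfold GIT.PsiY
      simp only [Limits.pullback.congrHom_hom, Category.assoc, Limits.pullback.lift_fst,
        Limits.pullback.lift_fst_assoc, Category.comp_id]
    · have := congrArg (fun m => m.left) h2
      refine Eq.trans this ?_
      unfold GIT.PsiY
      simp only [Limits.pullback.congrHom_hom, Category.assoc, Limits.pullback.lift_snd,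
        Limits.pullback.lift_snd_assoc, Category.comp_id]
  rw [e]
  haveI := hcart
  haveI := hm
  infer_instance

end Groth.Agent.S18502
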