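import Groth.Statements.S18508
import Groth.Agent.Lib.Helper18.StabFib6

set_option autoImplicit false
universe u
open CategoryTheory MonoidalCategory CartesianMonoidalCategory MonObj GrpObj AlgebraicGeometry Topology
open EqInt

namespace Groth.Agent.S18508

/-- Over a field k, let an affine group scheme G of finite type act on a separated scheme X of finite
type over k, with stabilizer group scheme S = (G × X) ×_{X × X} X → X (the pullback of (σ, p₂) along
the diagonal). Assume that k has characteristic zero or that G is finite étale over k. Then the
action is set-theoretically free (S → X is universally injective: the stabilizer of every geometric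
point inside the group of geometric points is trivial) if and only if it is geometrically free (for
every point x of X the fibre of S over x is Spec κ(x) through its structure map). (The source takes
X integral and tests geometric points with values in an algebraic closure of k; the statement here
is over all points, which is what the argument gives pointwise.) -/
theorem result (k : Type u) [Field k]
    (G X : Over (Spec (CommRingCat.of k))) [GrpObj G] [IsAffine G.left] [LocallyOfFiniteType G.hom]
    [LocallyOfFiniteType X.hom] [QuasiCompact X.hom] [IsSeparated X.hom]
    (hG : CharZero k ∨ (IsFinite G.hom ∧ Etale G.hom)) (a : AlgGrp.Action G X) :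
    UniversallyInjective (Limits.pullback.snd (GIT.psi a (𝟙 X)).left (CartesianMonoidalCategory.lift (𝟙 X) (𝟙 X)).left) ↔
      ∀ x : ↥X.left, IsIso ((Limits.pullback.snd (GIT.psi a (𝟙 X)).left (CartesianMonoidalCategory.lift (𝟙 X) (𝟙 X)).left).fiberToSpecResidueField x) := by
  haveI : IsAffineHom G.hom := inferInstance
  constructor
  · intro h x
    haveI : UniversallyInjective (Groth.Agent.Helper18.StabFib.p a) := h
    rcases hG with h0 | ⟨_, het⟩
    · exact Groth.Agent.Helper18.StabFib.isIso_fibre_of_charZero a x
    · exact Groth.Agent.Helper18.StabFib.isIso_fibre_of_etale a x
  · intro h
    haveI := Groth.Agent.Helper18.StabFib.lft_p a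
    haveI : Mono (Groth.Agent.Helper18.StabFib.p a) :=
      Groth.Agent.Helper23.MonoFib.mono_of_fibMono _ (fun x => by
        haveI := h x
        infer_instance)
    infer_instance

end Groth.Agent.S18508
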