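import Groth.Statements.S18509
import Groth.Agent.Lib.Helper18.StabFib6
import Groth.Agent.Lib.Helper18.StabFib7

set_option autoImplicit false
universe u
open CategoryTheory MonoidalCategory CartesianMonoidalCategory MonObj GrpObj AlgebraicGeometry Topology
open EqInt

namespace Groth.Agent.S18509

/-- Over a field k, let an affine group scheme G of finite type act on a separated scheme X of finite
type over k, and assume that k has characteristic zero or that G is finite étale over k. Then the
action is (schematically) free, i.e. (σ, p₂) : G × X → X × X is a closed immersion, if and only if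
it is proper ((σ, p₂) is proper) and set-theoretically free (the stabilizer group scheme (G × X)
×_{X × X} X → X is universally injective). (The source takes X integral and tests geometric points
with values in an algebraic closure of k; see the companion statement on stabilizers.) -/
theorem result (k : Type u) [Field k]
    (G X : Over (Spec (CommRingCat.of k))) [GrpObj G] [IsAffine G.left] [LocallyOfFiniteType G.hom]
    [LocallyOfFiniteType X.hom] [QuasiCompact X.hom] [IsSeparated X.hom]
    (hG : CharZero k ∨ (IsFinite G.hom ∧ Etale G.hom)) (a : AlgGrp.Action G X) :
    IsClosedImmersion (GIT.psi a (𝟙 X)).left ↔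
      IsProper (GIT.psi a (𝟙 X)).left ∧ UniversallyInjective (Limits.pullback.snd (GIT.psi a (𝟙 X)).left (CartesianMonoidalCategory.lift (𝟙 X) (𝟙 X)).left) := by
  haveI : IsAffineHom G.hom := inferInstance
  constructor
  · intro h
    refine ⟨inferInstance, ?_⟩
    haveI : IsClosedImmersion (Groth.Agent.Helper18.StabFib.p a) :=
      MorphismProperty.pullback_snd (P := @IsClosedImmersion) _ _ h
    infer_instance
  · rintro ⟨hp, hinj⟩
    haveI : UniversallyInjective (Groth.Agent.Helper18.StabFib.p a) := hinj
    haveI := Groth.Agent.Helper18.StabFib.lft_p a
    have hfib : ∀ x : ↥X.left,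
        IsIso ((Groth.Agent.Helper18.StabFib.p a).fiberToSpecResidueField x) := by
      intro x
      rcases hG with h0 | ⟨_, het⟩
      · exact Groth.Agent.Helper18.StabFib.isIso_fibre_of_charZero a x
      · exact Groth.Agent.Helper18.StabFib.isIso_fibre_of_etale a x
    haveI : Mono (Groth.Agent.Helper18.StabFib.p a) :=
      Groth.Agent.Helper23.MonoFib.mono_of_fibMono _ (fun x => by
        haveI := hfib x
        infer_instance)
    haveI := Groth.Agent.Helper18.StabFib.mono_psi a
    haveI : Mono (GIT.psi a (𝟙 X)).left := inferInstance
    exact (IsClosedImmersion.iff_isProper_and_mono _).mpr ⟨hp, inferInstance⟩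

end Groth.Agent.S18509
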