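import Groth.Statements.S18527
import Mathlib
import Groth.Agent.Lib.Helper6.ParCoeff

set_option autoImplicit false
universe u
open CategoryTheory CategoryTheory.Limits AlgebraicGeometry Polynomial
open ParSh

namespace Groth.Agent.S18527

/-- An upper and a lower bound for the second coefficient of the parabolic Hilbert polynomial. Let X be
a scheme proper over a field k with an ample invertible sheaf L, I the ideal of an effective Cartier
divisor D on X, and E a coherent O_X-module with a finite weighted filtration 𝓔 along I by coherent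
pieces E = E₀ ⊇ ⋯ ⊇ E_l ⊇ E_{l+1} = I·E, weights 0 ≤ w₀ < ⋯ < w_l < 1. Let d ≥ 1 be a natural number
with Supp E ∩ Supp D of topological Krull dimension less than d, P the Hilbert polynomial of E with
respect to L and P_j that of E_j (0 ≤ j ≤ l+1). Then the coefficient of degree d − 1 of the
parabolic Hilbert polynomial P_{l+1} + Σ_{j ≤ l} w_j (P_j − P_{j+1}) is at least the coefficient of
degree d − 1 of P_{l+1} and at most that of P. For E pure of dimension d this says that the
parabolic slope lies between the slope of E(−D) and the slope of E; the published statement also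
gives a lower bound μ(E) − b with b depending only on a bound for the multiplicity of E, on d, D and
L, which is not part of this row. -/
theorem result (k : Type u) [Field k] (X : Scheme.{u})
    [X.Over (Spec (CommRingCat.of k))] [IsProper (X ↘ Spec (CommRingCat.of k))]
    (L : X.Modules) (hL : CohB1.IsAmple L) (I : X.IdealSheafData) (hD : FGA.IsEffCartier I)
    (E : X.Modules) (hE : Coh.IsCoh E) (𝓔 : ParSh.Str E) (h𝓔 : 𝓔.Along I)
    (hcoh : ∀ j, Coh.IsCoh ((𝓔.pieceX j : Subobject E) : X.Modules)) (d : ℕ) (hd : 1 ≤ d)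
    (hsupp : topologicalKrullDim ↥(CohB1.support E ∩ (I.support : Set X)) < (d : WithBot ℕ∞))
    (P : ℚ[X]) (hP : ShStab.IsHilbPoly k X L E P) (PX : Fin (𝓔.l + 2) → ℚ[X])
    (hPX : ∀ j, ShStab.IsHilbPoly k X L ((𝓔.pieceX j : Subobject E) : X.Modules) (PX j)) :
    (W4swparbununimod.rpoly (PX (Fin.last (𝓔.l + 1)))).coeff (d - 1) ≤ (W4swparbununimod.parPoly 𝓔 PX).coeff (d - 1) ∧
      (W4swparbununimod.parPoly 𝓔 PX).coeff (d - 1) ≤ (W4swparbununimod.rpoly P).coeff (d - 1) := by
  obtain ⟨ha, hmono⟩ := Groth.Agent.Helper6.ParCoeff.par_coeff_data k X L hL I hE 𝓔 h𝓔 hcoh d hd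
    hsupp P hP PX hPX
  have hw0 : ∀ j, 0 ≤ 𝓔.wt j := fun j =>
    le_trans 𝓔.wt_nonneg (𝓔.wt_strictMono.monotone (Fin.zero_le j))
  have hw1 : ∀ j, 𝓔.wt j ≤ 1 := fun j =>
    le_trans (𝓔.wt_strictMono.monotone (Fin.le_last j)) 𝓔.wt_lt_one.le
  have key := Groth.Agent.Helper6.ParCoeff.par_bounds 𝓔.l 𝓔.wt hw0 hw1
    ((P.coeff (d - 1) : ℚ) : ℝ) (fun j => (((P - PX j).coeff (d - 1) : ℚ) : ℝ))
    (by exact_mod_cast ha 0) (fun j => by exact_mod_cast hmono j)
  have hq : ∀ j, ((P.coeff (d - 1) : ℚ) : ℝ) - (((P - PX j).coeff (d - 1) : ℚ) : ℝ) =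
      (((PX j).coeff (d - 1) : ℚ) : ℝ) := by
    intro j
    rw [Polynomial.coeff_sub]
    push_cast
    ring
  simp only [hq] at key
  unfold W4swparbununimod.parPoly
  simp only [Polynomial.coeff_add, Polynomial.finsetSum_coeff, Polynomial.coeff_C_mul,
    Polynomial.coeff_sub, W4swparbununimod.rpoly, Polynomial.coeff_map, eq_ratCast]
  exact key

end Groth.Agent.S18527
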