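import Groth.Statements.S18528
import Mathlib
import Groth.Agent.Lib.Helper6.ParInduced

set_option autoImplicit false
universe u
open CategoryTheory CategoryTheory.Limits AlgebraicGeometry Polynomial
open ParSh

namespace Groth.Agent.S18528

/-- Reduced parabolic Hilbert polynomials versus parabolic slopes, for one test subsheaf. Let X be a
scheme proper over a field k with an ample invertible sheaf L, I the ideal of an effective Cartier
divisor D on X, and E a nonzero coherent O_X-module, pure of dimension d ≥ 1, with Supp E ∩ Supp D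
of topological Krull dimension less than d, carrying a finite weighted filtration 𝓔 along I by
coherent pieces E = E₀ ⊇ ⋯ ⊇ E_{l+1} = I·E with weights 0 ≤ w₀ < ⋯ < w_l < 1. Let P be the Hilbert
polynomial of E and P_j that of E_j. Let ι : W → E be a monomorphism from a coherent module W, give
W the induced filtration (pieces the preimages of the E_j, same weights) with Hilbert polynomials Q
of W and Q_j of its pieces, and write Par_E = P_{l+1} + Σ_j w_j (P_j − P_{j+1}), Par_W = Q_{l+1} +
Σ_j w_j (Q_j − Q_{j+1}), α_d for d! times the coefficient of degree d. Then: (i) if Par_W(m)·α_d(P)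
≤ Par_E(m)·α_d(Q) for all large natural numbers m, the coefficients of degree d − 1 satisfy
coeff(Par_W)·α_d(P) ≤ coeff(Par_E)·α_d(Q); (ii) if this coefficient inequality is strict, then
Par_W(m)·α_d(P) < Par_E(m)·α_d(Q) for all large m. With W running over the saturated nonzero proper
subsheaves this is the published implication: parabolic semistability for the reduced parabolic
Hilbert polynomial implies parabolic slope-semistability, and parabolic slope-stability implies
stability for the reduced parabolic Hilbert polynomial. -/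
theorem result (k : Type u) [Field k] (X : Scheme.{u})
    [X.Over (Spec (CommRingCat.of k))] [IsProper (X ↘ Spec (CommRingCat.of k))]
    (L : X.Modules) (hL : CohB1.IsAmple L) (I : X.IdealSheafData) (hD : FGA.IsEffCartier I)
    (E : X.Modules) (hE : Coh.IsCoh E) (h0 : ¬ IsZero E) (d : ℕ) (hd : 1 ≤ d)
    (hpure : ShStab.IsPure X E d) (𝓔 : ParSh.Str E) (h𝓔 : 𝓔.Along I)
    (hcoh : ∀ j, Coh.IsCoh ((𝓔.pieceX j : Subobject E) : X.Modules))
    (hsupp : topologicalKrullDim ↥(CohB1.support E ∩ (I.support : Set X)) < (d : WithBot ℕ∞))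
    (P : ℚ[X]) (hP : ShStab.IsHilbPoly k X L E P) (PX : Fin (𝓔.l + 2) → ℚ[X])
    (hPX : ∀ j, ShStab.IsHilbPoly k X L ((𝓔.pieceX j : Subobject E) : X.Modules) (PX j))
    {W : X.Modules} (ι : W ⟶ E) [Mono ι] (hW : Coh.IsCoh W)
    (Q : ℚ[X]) (hQ : ShStab.IsHilbPoly k X L W Q) (QX : Fin (𝓔.l + 2) → ℚ[X])
    (hQX : ∀ j, ShStab.IsHilbPoly k X L (((𝓔.induced ι).pieceX j : Subobject W) : X.Modules) (QX j)) :
    ((∃ M : ℕ, ∀ m : ℕ, M ≤ m →
        (W4swparbununimod.parPoly (𝓔.induced ι) QX).eval (m : ℝ) * (StabCat.alpha d P : ℝ) ≤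
          (W4swparbununimod.parPoly 𝓔 PX).eval (m : ℝ) * (StabCat.alpha d Q : ℝ)) →
      (W4swparbununimod.parPoly (𝓔.induced ι) QX).coeff (d - 1) * (StabCat.alpha d P : ℝ) ≤
        (W4swparbununimod.parPoly 𝓔 PX).coeff (d - 1) * (StabCat.alpha d Q : ℝ)) ∧
    ((W4swparbununimod.parPoly (𝓔.induced ι) QX).coeff (d - 1) * (StabCat.alpha d P : ℝ) <
        (W4swparbununimod.parPoly 𝓔 PX).coeff (d - 1) * (StabCat.alpha d Q : ℝ) →
      ∃ M : ℕ, ∀ m : ℕ, M ≤ m →
        (W4swparbununimod.parPoly (𝓔.induced ι) QX).eval (m : ℝ) * (StabCat.alpha d P : ℝ) <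
          (W4swparbununimod.parPoly 𝓔 PX).eval (m : ℝ) * (StabCat.alpha d Q : ℝ)) := by
  have hLinv := hL.1
  have hdimE : topologicalKrullDim ↥(CohB1.support E) = (d : WithBot ℕ∞) :=
    hpure E (𝟙 E) inferInstance hE h0
  have hlt1 : ∀ Y : Set X, topologicalKrullDim ↥Y ≤ (d : WithBot ℕ∞) →
      topologicalKrullDim ↥Y < ((d + 1 : ℕ) : WithBot ℕ∞) := by
    intro Y hY
    push_cast
    exact ENat.WithBot.lt_add_one_iff.mpr hY
  have hPhigh : ∀ n, d + 1 ≤ n → P.coeff n = 0 := fun n hn =>
    Groth.Agent.Helper6.HilbDeg.coeff_eq_zero_of_dim_lt k X L hLinv E hE (d + 1)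
      (hlt1 _ hdimE.le) P hP n hn
  have hsubW : CohB1.support W ⊆ CohB1.support E :=
    Groth.Agent.Helper6.ParCoeff.support_subset_of_mono ι
  have hQhigh : ∀ n, d + 1 ≤ n → Q.coeff n = 0 := fun n hn =>
    Groth.Agent.Helper6.HilbDeg.coeff_eq_zero_of_dim_lt k X L hLinv W hW (d + 1)
      (hlt1 _ (le_trans (Topology.IsEmbedding.inclusion hsubW).isInducing.topologicalKrullDim_le
        hdimE.le)) Q hQ n hn
  have hcE : ∀ n, d ≤ n →
      (W4swparbununimod.parPoly 𝓔 PX).coeff n = ((P.coeff n : ℚ) : ℝ) := fun n hn =>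
    Groth.Agent.Helper6.ParInduced.parPoly_coeff_eq 𝓔 PX P n
      (Groth.Agent.Helper6.ParInduced.pieces_coeff_eq k X L hLinv I hE 𝓔 h𝓔 hcoh d hsupp P hP
        PX hPX n hn)
  have hcW : ∀ n, d ≤ n →
      (W4swparbununimod.parPoly (𝓔.induced ι) QX).coeff n = ((Q.coeff n : ℚ) : ℝ) := fun n hn =>
    Groth.Agent.Helper6.ParInduced.parPoly_coeff_eq (𝓔.induced ι) QX Q n
      (Groth.Agent.Helper6.ParInduced.induced_coeff_eq k X L hLinv I hE 𝓔 h𝓔 hcoh d hsupp ι hW
        Q hQ QX hQX n hn)
  refine Groth.Agent.Helper6.ParInduced.cross_compare (W4swparbununimod.parPoly 𝓔 PX)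
    (W4swparbununimod.parPoly (𝓔.induced ι) QX) (StabCat.alpha d P : ℝ) (StabCat.alpha d Q : ℝ)
    (d - 1) ?_
  intro n hn
  have hn' : d ≤ n := by omega
  rw [hcE n hn', hcW n hn']
  rcases Nat.eq_or_lt_of_le hn' with h | h
  · subst h
    unfold StabCat.alpha
    push_cast
    ring
  · rw [hPhigh n h, hQhigh n h]
    simp

end Groth.Agent.S18528
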