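import Groth.Statements.S18530
import Mathlib
import Groth.Agent.Lib.Helper6.ParOne

set_option autoImplicit false
universe u
open CategoryTheory CategoryTheory.Limits AlgebraicGeometry Polynomial
open ParSh

namespace Groth.Agent.S18530

/-- The two leading coefficients of the first modified parabolic Hilbert polynomial. Let X be a scheme
proper over a field k with an ample invertible sheaf L, I the ideal of an effective Cartier divisor
D on X, and E a coherent O_X-module with a finite weighted filtration 𝓔 along I by coherent pieces E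
= E₀ ⊇ ⋯ ⊇ E_{l+1} = I·E, weights 0 ≤ w₀ < ⋯ < w_l < 1 and w_{l+1} := 1. Let d ≥ 1 with Supp E ∩
Supp D of topological Krull dimension less than d, and let H_j be the Hilbert polynomial of E/E_j,
with α_{d−1}(H_j) ≠ 0 for 1 ≤ j ≤ l+1 (α_i(H) = i!·coefficient of degree i), the numerical type of
𝓔. Let ι : W → E be a monomorphism from a coherent module W, with induced filtration W_j = W ∩ E_j,
Q the Hilbert polynomial of W, Q_j that of W_j and K_j that of W/W_j. Then the first modified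
parabolic polynomial par-P₁(W ⊂ E) := Q − Σ_{j=1}^{l+1} (w_j −
w_{j−1})·(α_{d−1}(K_j)/α_{d−1}(H_j))·H_j and the parabolic polynomial par-P₀(W) := Q_{l+1} + Σ_{j ≤
l} w_j (Q_j − Q_{j+1}) have the same coefficient in degree d and the same coefficient in degree d −
1. The published statement adds the consequences that p₁-semistability implies parabolic
slope-semistability and parabolic slope-stability implies p₁-stability, which are not part of this
row. -/
theorem result (k : Type u) [Field k] (X : Scheme.{u})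
    [X.Over (Spec (CommRingCat.of k))] [IsProper (X ↘ Spec (CommRingCat.of k))]
    (L : X.Modules) (hL : CohB1.IsAmple L) (I : X.IdealSheafData) (hD : FGA.IsEffCartier I)
    (E : X.Modules) (hE : Coh.IsCoh E) (𝓔 : ParSh.Str E) (h𝓔 : 𝓔.Along I)
    (hcoh : ∀ j, Coh.IsCoh ((𝓔.pieceX j : Subobject E) : X.Modules)) (d : ℕ) (hd : 1 ≤ d)
    (hsupp : topologicalKrullDim ↥(CohB1.support E ∩ (I.support : Set X)) < (d : WithBot ℕ∞))
    (H : Fin (𝓔.l + 2) → ℚ[X]) (hH : ∀ j, ShStab.IsHilbPoly k X L (cokernel (𝓔.pieceX j).arrow) (H j))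
    (hHa : ∀ j : Fin (𝓔.l + 1), StabCat.alpha (d - 1) (H j.succ) ≠ 0)
    {W : X.Modules} (ι : W ⟶ E) [Mono ι] (hW : Coh.IsCoh W)
    (Q : ℚ[X]) (hQ : ShStab.IsHilbPoly k X L W Q) (QX : Fin (𝓔.l + 2) → ℚ[X])
    (hQX : ∀ j, ShStab.IsHilbPoly k X L (((𝓔.induced ι).pieceX j : Subobject W) : X.Modules) (QX j))
    (QH : Fin (𝓔.l + 2) → ℚ[X])
    (hQH : ∀ j, ShStab.IsHilbPoly k X L (cokernel ((𝓔.induced ι).pieceX j).arrow) (QH j)) :
    (W4swparbununimod.parPolyOne 𝓔 d Q QH H).coeff d = (W4swparbununimod.parPoly (𝓔.induced ι) QX).coeff d ∧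
      (W4swparbununimod.parPolyOne 𝓔 d Q QH H).coeff (d - 1) =
        (W4swparbununimod.parPoly (𝓔.induced ι) QX).coeff (d - 1) := by
  have hLinv := hL.1
  haveI : IsLocallyNoetherian X :=
    LocallyOfFiniteType.isLocallyNoetherian (X ↘ Spec (CommRingCat.of k))
  have hcW : ∀ j, Coh.IsCoh (((𝓔.induced ι).pieceX j : Subobject W) : X.Modules) := fun j =>
    Groth.Agent.Helper6.ParInduced.induced_isCoh hW hE ι 𝓔 hcoh j
  have hqE : ∀ j, Coh.IsCoh (cokernel (𝓔.pieceX j).arrow) := fun j =>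
    (Groth.Agent.S9514.result X (hcoh j) hE _).2
  have hqW : ∀ j, Coh.IsCoh (cokernel ((𝓔.induced ι).pieceX j).arrow) := fun j =>
    (Groth.Agent.S9514.result X (hcW j) hW _).2
  have hdE : ∀ j, topologicalKrullDim ↥(CohB1.support (cokernel (𝓔.pieceX j).arrow)) <
      (d : WithBot ℕ∞) := fun j =>
    lt_of_le_of_lt (Topology.IsEmbedding.inclusion
      (Groth.Agent.Helper6.TwistSupp.support_cokernel_pieceX_subset I 𝓔 h𝓔
        j)).isInducing.topologicalKrullDim_le hsupp
  have hdW : ∀ j, topologicalKrullDim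
      ↥(CohB1.support (cokernel ((𝓔.induced ι).pieceX j).arrow)) < (d : WithBot ℕ∞) := fun j =>
    lt_of_le_of_lt (Topology.IsEmbedding.inclusion
      ((Groth.Agent.Helper6.ParInduced.induced_support_subset ι 𝓔 j).trans
        (Groth.Agent.Helper6.TwistSupp.support_cokernel_pieceX_subset I 𝓔 h𝓔
          j))).isInducing.topologicalKrullDim_le hsupp
  have hH0 : ∀ j n, d ≤ n → (H j).coeff n = 0 := fun j n hn =>
    Groth.Agent.Helper6.HilbDeg.coeff_eq_zero_of_dim_lt k X L hLinv _ (hqE j) d (hdE j) (H j)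
      (hH j) n hn
  have hQXeq : ∀ j, QX j = Q - QH j := by
    intro j
    obtain ⟨_, hp⟩ := Groth.Agent.Helper6.HilbDeg.isHilbPoly_cokernel k X L hLinv (hcW j) hW
      ((𝓔.induced ι).pieceX j).arrow (QX j) Q (hQX j) hQ
    have h1 := Groth.Agent.Helper6.ParOne.hilbPoly_unique k X L _ _ _ hp (hQH j)
    rw [← h1]
    ring
  have hQH00 : QH 0 = 0 := by
    refine Groth.Agent.Helper6.ParOne.hilbPoly_eq_zero_of_isZero k X L _ ?_ _ (hQH 0)
    have htop : (𝓔.induced ι).pieceX 0 = ⊤ := by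
      have h1 := (𝓔.induced ι).pieceX_castSucc 0
      rw [(𝓔.induced ι).piece_zero] at h1
      exact h1
    rw [htop]
    exact isZero_cokernel_of_epi _
  constructor
  · rw [Groth.Agent.Helper6.ParOne.parPolyOne_coeff,
      Groth.Agent.Helper6.ParInduced.parPoly_coeff_eq (𝓔.induced ι) QX Q d
        (Groth.Agent.Helper6.ParInduced.induced_coeff_eq k X L hLinv I hE 𝓔 h𝓔 hcoh d hsupp ι hW
          Q hQ QX hQX d le_rfl)]
    simp only [hH0 _ d le_rfl]
    simp
  · rw [Groth.Agent.Helper6.ParOne.parPolyOne_coeff]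
    have hps : (W4swparbununimod.parPoly (𝓔.induced ι) QX).coeff (d - 1) =
        Groth.Agent.Helper6.ParHilb.psum 𝓔.l 𝓔.wt
          (fun j => (((QX j).coeff (d - 1) : ℚ) : ℝ)) :=
      Groth.Agent.Helper6.ParOne.parPoly_coeff_psum (𝓔.induced ι) QX (d - 1)
    rw [hps]
    have hfun : (fun j : Fin (𝓔.l + 2) => (((QX j).coeff (d - 1) : ℚ) : ℝ)) =
        fun j => ((Q.coeff (d - 1) : ℚ) : ℝ) - (((QH j).coeff (d - 1) : ℚ) : ℝ) := by
      funext j
      rw [hQXeq j, Polynomial.coeff_sub]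
      push_cast
      rfl
    rw [hfun, Groth.Agent.Helper6.ParHilb.psum_const_sub 𝓔.l 𝓔.wt 𝓔.wtX
      (fun j => 𝓔.wtX_castSucc j) 𝓔.wtX_last _ _
      (by show (((QH 0).coeff (d - 1) : ℚ) : ℝ) = 0; rw [hQH00]; simp)]
    congr 1
    apply Finset.sum_congr rfl
    intro j _
    rw [mul_assoc, ← Rat.cast_mul,
      Groth.Agent.Helper6.ParOne.alpha_ratio_mul (d - 1) (QH j.succ) (H j.succ) (hHa j)]

end Groth.Agent.S18530
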