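import Groth.Statements.S18532
import Mathlib
import Groth.Agent.Lib.Helper6.ParLim

set_option autoImplicit false
universe u
open CategoryTheory CategoryTheory.Limits AlgebraicGeometry Polynomial
open ParSh

namespace Groth.Agent.S18532

/-- The comparison of the second and first modified parabolic Hilbert polynomials for one test subsheaf.
Let X be a scheme proper over a field k with an ample invertible sheaf L, I the ideal of an
effective Cartier divisor D on X, d ≥ 1, and E a nonzero coherent O_X-module, pure of dimension d,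
with Supp E ∩ Supp D of topological Krull dimension less than d, carrying a finite weighted
filtration 𝓔 along I by coherent pieces E = E₀ ⊇ ⋯ ⊇ E_{l+1} = I·E, weights 0 ≤ w₀ < ⋯ < w_l < 1,
w_{l+1} := 1. Let P be the Hilbert polynomial of E, P_j of E_j, H_j of E/E_j with α_{d−1}(H_j) ≠ 0
for 1 ≤ j ≤ l+1, and Par_E = P_{l+1} + Σ_j w_j (P_j − P_{j+1}). Let ι : W → E be a monomorphism from
a coherent module W with induced filtration W_j = W ∩ E_j, Q the Hilbert polynomial of W and K_j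
that of W/W_j; put par-P₁(W ⊂ E) = Q − Σ_{j=1}^{l+1} (w_j − w_{j−1})·(α_{d−1}(K_j)/α_{d−1}(H_j))·H_j
and par-P₂(W ⊂ E)(x, y) = Q(x) − Σ_{j=1}^{l+1} (w_j − w_{j−1})·(K_j(y)/H_j(y))·H_j(x). Then: (i) if
there is M such that for every m ≥ M there is N with par-P₂(W ⊂ E)(m, n)·P(n) ≤ Par_E(m)·Q(n) for
all n ≥ N, then par-P₁(W ⊂ E)(m)·α_d(P) ≤ Par_E(m)·α_d(Q) for all large m; (ii) if par-P₁(W ⊂
E)(m)·α_d(P) < Par_E(m)·α_d(Q) for all large m, then there is M such that for every m ≥ M there is N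
with par-P₂(W ⊂ E)(m, n)·P(n) < Par_E(m)·Q(n) for all n ≥ N. With W running over the nonzero
saturated (proper) sub-modules this is the published implication p₂-semistable ⇒ p₁-semistable,
p₁-stable ⇒ p₂-stable; the further implications to and from parabolic slope-(semi)stability in the
published statement are not part of this row. -/
theorem result (k : Type u) [Field k] (X : Scheme.{u})
    [X.Over (Spec (CommRingCat.of k))] [IsProper (X ↘ Spec (CommRingCat.of k))]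
    (L : X.Modules) (hL : CohB1.IsAmple L) (I : X.IdealSheafData) (hD : FGA.IsEffCartier I)
    (E : X.Modules) (hE : Coh.IsCoh E) (𝓔 : ParSh.Str E) (h𝓔 : 𝓔.Along I)
    (hcoh : ∀ j, Coh.IsCoh ((𝓔.pieceX j : Subobject E) : X.Modules)) (d : ℕ) (hd : 1 ≤ d)
    (hsupp : topologicalKrullDim ↥(CohB1.support E ∩ (I.support : Set X)) < (d : WithBot ℕ∞))
    (h0 : ¬ IsZero E) (hpure : ShStab.IsPure X E d)
    (P : ℚ[X]) (hP : ShStab.IsHilbPoly k X L E P) (PX : Fin (𝓔.l + 2) → ℚ[X])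
    (hPX : ∀ j, ShStab.IsHilbPoly k X L ((𝓔.pieceX j : Subobject E) : X.Modules) (PX j))
    (H : Fin (𝓔.l + 2) → ℚ[X]) (hH : ∀ j, ShStab.IsHilbPoly k X L (cokernel (𝓔.pieceX j).arrow) (H j))
    (hHa : ∀ j : Fin (𝓔.l + 1), StabCat.alpha (d - 1) (H j.succ) ≠ 0)
    {W : X.Modules} (ι : W ⟶ E) [Mono ι] (hW : Coh.IsCoh W)
    (Q : ℚ[X]) (hQ : ShStab.IsHilbPoly k X L W Q) (QH : Fin (𝓔.l + 2) → ℚ[X])
    (hQH : ∀ j, ShStab.IsHilbPoly k X L (cokernel ((𝓔.induced ι).pieceX j).arrow) (QH j)) :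
    ((∃ M : ℕ, ∀ m : ℕ, M ≤ m → ∃ N : ℕ, ∀ n : ℕ, N ≤ n →
        (((Q.eval (m : ℚ) : ℚ) : ℝ) -
            ∑ j : Fin (𝓔.l + 1), (𝓔.wtX j.succ - 𝓔.wtX j.castSucc) *
              ((((QH j.succ).eval (n : ℚ) / (H j.succ).eval (n : ℚ) : ℚ) : ℝ) * (((H j.succ).eval (m : ℚ) : ℚ) : ℝ))) *
          ((P.eval (n : ℚ) : ℚ) : ℝ) ≤
        (W4swparbununimod.parPoly 𝓔 PX).eval (m : ℝ) * ((Q.eval (n : ℚ) : ℚ) : ℝ)) →
      ∃ M : ℕ, ∀ m : ℕ, M ≤ m →
        (W4swparbununimod.parPolyOne 𝓔 d Q QH H).eval (m : ℝ) * (StabCat.alpha d P : ℝ) ≤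
          (W4swparbununimod.parPoly 𝓔 PX).eval (m : ℝ) * (StabCat.alpha d Q : ℝ)) ∧
    ((∃ M : ℕ, ∀ m : ℕ, M ≤ m →
        (W4swparbununimod.parPolyOne 𝓔 d Q QH H).eval (m : ℝ) * (StabCat.alpha d P : ℝ) <
          (W4swparbununimod.parPoly 𝓔 PX).eval (m : ℝ) * (StabCat.alpha d Q : ℝ)) →
      ∃ M : ℕ, ∀ m : ℕ, M ≤ m → ∃ N : ℕ, ∀ n : ℕ, N ≤ n →
        (((Q.eval (m : ℚ) : ℚ) : ℝ) -
            ∑ j : Fin (𝓔.l + 1), (𝓔.wtX j.succ - 𝓔.wtX j.castSucc) *
              ((((QH j.succ).eval (n : ℚ) / (H j.succ).eval (n : ℚ) : ℚ) : ℝ) * (((H j.succ).eval (m : ℚ) : ℚ) : ℝ))) *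
          ((P.eval (n : ℚ) : ℚ) : ℝ) <
        (W4swparbununimod.parPoly 𝓔 PX).eval (m : ℝ) * ((Q.eval (n : ℚ) : ℚ) : ℝ)) := by
  have hLinv := hL.1
  haveI : IsLocallyNoetherian X :=
    LocallyOfFiniteType.isLocallyNoetherian (X ↘ Spec (CommRingCat.of k))
  have hdimE : topologicalKrullDim ↥(CohB1.support E) = (d : WithBot ℕ∞) :=
    hpure E (𝟙 E) inferInstance hE h0
  have hlt1 : ∀ Y : Set X, topologicalKrullDim ↥Y ≤ (d : WithBot ℕ∞) →
      topologicalKrullDim ↥Y < ((d + 1 : ℕ) : WithBot ℕ∞) := by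
    intro Y hY
    push_cast
    exact ENat.WithBot.lt_add_one_iff.mpr hY
  have hPhigh : ∀ n, d + 1 ≤ n → P.coeff n = 0 := fun n hn =>
    Groth.Agent.Helper6.HilbDeg.coeff_eq_zero_of_dim_lt k X L hLinv E hE (d + 1)
      (hlt1 _ hdimE.le) P hP n hn
  have hsubW : CohB1.support W ⊆ CohB1.support E :=
    Groth.Agent.Helper6.ParCoeff.support_subset_of_mono ι
  have hQhigh : ∀ n, d + 1 ≤ n → Q.coeff n = 0 := fun n hn =>
    Groth.Agent.Helper6.HilbDeg.coeff_eq_zero_of_dim_lt k X L hLinv W hW (d + 1)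
      (hlt1 _ (le_trans (Topology.IsEmbedding.inclusion hsubW).isInducing.topologicalKrullDim_le
        hdimE.le)) Q hQ n hn
  have hPdeg : P.natDegree ≤ d :=
    Polynomial.natDegree_le_iff_coeff_eq_zero.mpr (fun n hn => hPhigh n hn)
  have hQdeg : Q.natDegree ≤ d :=
    Polynomial.natDegree_le_iff_coeff_eq_zero.mpr (fun n hn => hQhigh n hn)
  have hcW : ∀ j, Coh.IsCoh (((𝓔.induced ι).pieceX j : Subobject W) : X.Modules) := fun j =>
    Groth.Agent.Helper6.ParInduced.induced_isCoh hW hE ι 𝓔 hcoh j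
  have hqE : ∀ j, Coh.IsCoh (cokernel (𝓔.pieceX j).arrow) := fun j =>
    (Groth.Agent.S9514.result X (hcoh j) hE _).2
  have hqW : ∀ j, Coh.IsCoh (cokernel ((𝓔.induced ι).pieceX j).arrow) := fun j =>
    (Groth.Agent.S9514.result X (hcW j) hW _).2
  have hdE : ∀ j, topologicalKrullDim ↥(CohB1.support (cokernel (𝓔.pieceX j).arrow)) <
      (d : WithBot ℕ∞) := fun j =>
    lt_of_le_of_lt (Topology.IsEmbedding.inclusion
      (Groth.Agent.Helper6.TwistSupp.support_cokernel_pieceX_subset I 𝓔 h𝓔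
        j)).isInducing.topologicalKrullDim_le hsupp
  have hdW : ∀ j, topologicalKrullDim
      ↥(CohB1.support (cokernel ((𝓔.induced ι).pieceX j).arrow)) < (d : WithBot ℕ∞) := fun j =>
    lt_of_le_of_lt (Topology.IsEmbedding.inclusion
      ((Groth.Agent.Helper6.ParInduced.induced_support_subset ι 𝓔 j).trans
        (Groth.Agent.Helper6.TwistSupp.support_cokernel_pieceX_subset I 𝓔 h𝓔
          j))).isInducing.topologicalKrullDim_le hsupp
  have hH0 : ∀ j n, d ≤ n → (H j).coeff n = 0 := fun j n hn =>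
    Groth.Agent.Helper6.HilbDeg.coeff_eq_zero_of_dim_lt k X L hLinv _ (hqE j) d (hdE j) (H j)
      (hH j) n hn
  have hQH0 : ∀ j n, d ≤ n → (QH j).coeff n = 0 := fun j n hn =>
    Groth.Agent.Helper6.HilbDeg.coeff_eq_zero_of_dim_lt k X L hLinv _ (hqW j) d (hdW j) (QH j)
      (hQH j) n hn
  have hHdeg : ∀ j, (H j).natDegree ≤ d - 1 := fun j =>
    Polynomial.natDegree_le_iff_coeff_eq_zero.mpr (fun n hn => hH0 j n (by omega))
  have hQHdeg : ∀ j, (QH j).natDegree ≤ d - 1 := fun j =>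
    Polynomial.natDegree_le_iff_coeff_eq_zero.mpr (fun n hn => hQH0 j n (by omega))
  have hHc : ∀ j : Fin (𝓔.l + 1), (H j.succ).coeff (d - 1) ≠ 0 := by
    intro j h0
    apply hHa j
    unfold StabCat.alpha
    rw [h0, mul_zero]
  have hratio : ∀ j : Fin (𝓔.l + 1),
      StabCat.alpha (d - 1) (QH j.succ) / StabCat.alpha (d - 1) (H j.succ) =
        (QH j.succ).coeff (d - 1) / (H j.succ).coeff (d - 1) := by
    intro j
    unfold StabCat.alpha
    exact mul_div_mul_left _ _ (Nat.cast_ne_zero.mpr (Nat.factorial_ne_zero _))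
  have hg : ∀ j : Fin (𝓔.l + 1), Filter.Tendsto
      (fun n : ℕ => (((QH j.succ).eval (n : ℚ) / (H j.succ).eval (n : ℚ) : ℚ) : ℝ)) Filter.atTop
      (nhds (((StabCat.alpha (d - 1) (QH j.succ) / StabCat.alpha (d - 1) (H j.succ) : ℚ)) : ℝ)) := by
    intro j
    rw [hratio j]
    exact Groth.Agent.Helper6.ParLim.tendsto_rat_ratio _ _ (d - 1) (hQHdeg _) (hHdeg _) (hHc j)
  have hp := Groth.Agent.Helper6.ParLim.tendsto_rat_eval_div_pow P d hPdeg
  have hq := Groth.Agent.Helper6.ParLim.tendsto_rat_eval_div_pow Q d hQdeg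
  have hfpos : (0 : ℝ) < ((d.factorial : ℕ) : ℝ) := by exact_mod_cast Nat.factorial_pos d
  have key := fun m : ℕ => Groth.Agent.Helper6.ParLim.lim_compare 𝓔.l
    (fun j => 𝓔.wtX j.succ - 𝓔.wtX j.castSucc)
    (fun j => (((H j.succ).eval (m : ℚ) : ℚ) : ℝ)) ((Q.eval (m : ℚ) : ℚ) : ℝ)
    ((W4swparbununimod.parPoly 𝓔 PX).eval (m : ℝ))
    (fun j n => (((QH j.succ).eval (n : ℚ) / (H j.succ).eval (n : ℚ) : ℚ) : ℝ))
    (fun j => (((StabCat.alpha (d - 1) (QH j.succ) / StabCat.alpha (d - 1) (H j.succ) : ℚ)) : ℝ))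
    hg (fun n => ((P.eval (n : ℚ) : ℚ) : ℝ)) (fun n => ((Q.eval (n : ℚ) : ℚ) : ℝ)) d
    ((P.coeff d : ℚ) : ℝ) ((Q.coeff d : ℚ) : ℝ) hp hq
  have hαP : (StabCat.alpha d P : ℝ) = ((d.factorial : ℕ) : ℝ) * ((P.coeff d : ℚ) : ℝ) := by
    unfold StabCat.alpha
    push_cast
    ring
  have hαQ : (StabCat.alpha d Q : ℝ) = ((d.factorial : ℕ) : ℝ) * ((Q.coeff d : ℚ) : ℝ) := by
    unfold StabCat.alpha
    push_cast
    ring
  constructor
  · rintro ⟨M, hM⟩
    refine ⟨M, fun m hm => ?_⟩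
    have h1 := (key m).1 (hM m hm)
    rw [Groth.Agent.Helper6.ParLim.parPolyOne_eval, hαP, hαQ]
    exact Groth.Agent.Helper6.ParLim.scale_le hfpos h1
  · rintro ⟨M, hM⟩
    refine ⟨M, fun m hm => ?_⟩
    have h2 := hM m hm
    rw [Groth.Agent.Helper6.ParLim.parPolyOne_eval, hαP, hαQ] at h2
    exact (key m).2 (Groth.Agent.Helper6.ParLim.scale_lt hfpos h2)

end Groth.Agent.S18532
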