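import Groth.Statements.S18533
import Mathlib
import Groth.Agent.Lib.Helper6.ParStab
import Groth.Agent.Lib.Helper6.SPosMain
import Groth.Agent.S9514

set_option autoImplicit false
universe u
open CategoryTheory CategoryTheory.Limits AlgebraicGeometry Polynomial
open ParSh

namespace Groth.Agent.S18533

/-- Stability for the reduced parabolic Hilbert polynomial together with stable flag quotients gives
stability for the first modified polynomial. Let X be a scheme proper over a field k with an ample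
invertible sheaf L, I the ideal of an effective Cartier divisor D on X, d ≥ 1, and E a nonzero
coherent O_X-module, pure of dimension d, with Supp E ∩ Supp D of topological Krull dimension less
than d, carrying a finite weighted filtration 𝓔 along I by coherent pieces E = E₀ ⊇ ⋯ ⊇ E_{l+1} =
I·E, weights 0 ≤ w₀ < ⋯ < w_l < 1, w_{l+1} := 1. Let P be the Hilbert polynomial of E, P_j that of
E_j, H_j that of E/E_j with α_{d−1}(H_j) ≠ 0 for 1 ≤ j ≤ l+1, and Par_E = P_{l+1} + Σ_j w_j (P_j −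
P_{j+1}); α_i(H) = i!·coefficient of degree i. Assume: (i) for every nonzero coherent sub-module W →
E that is not an isomorphism onto E and whose cokernel is pure of dimension d, with its induced
filtration and Hilbert polynomials Q of W and Q_j of the pieces, Par_W(m)·α_d(P) < Par_E(m)·α_d(Q)
for all large natural m; (ii) for 1 ≤ j ≤ l+1 the quotient E/E_j is stable of dimension d − 1 with
respect to L. Then for every nonzero coherent sub-module ι : W → E that is not an isomorphism and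
whose cokernel is pure of dimension d, with induced filtration W_j = W ∩ E_j and Hilbert polynomials
Q of W and K_j of W/W_j, one has par-P₁(W ⊂ E)(m)·α_d(P) < Par_E(m)·α_d(Q) for all large natural m,
where par-P₁(W ⊂ E) = Q − Σ_{j=1}^{l+1} (w_j − w_{j−1})·(α_{d−1}(K_j)/α_{d−1}(H_j))·H_j. Stability
is tested on saturated proper sub-modules with the induced filtration (a sub-module of full rank
with the induced filtration can have the same reduced parabolic polynomial when the smallest weight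
is 0, so the strict test is the saturated one). -/
theorem result (k : Type u) [Field k] (X : Scheme.{u})
    [X.Over (Spec (CommRingCat.of k))] [IsProper (X ↘ Spec (CommRingCat.of k))]
    (L : X.Modules) (hL : CohB1.IsAmple L) (I : X.IdealSheafData) (hD : FGA.IsEffCartier I)
    (E : X.Modules) (hE : Coh.IsCoh E) (𝓔 : ParSh.Str E) (h𝓔 : 𝓔.Along I)
    (hcoh : ∀ j, Coh.IsCoh ((𝓔.pieceX j : Subobject E) : X.Modules)) (d : ℕ) (hd : 1 ≤ d)
    (hsupp : topologicalKrullDim ↥(CohB1.support E ∩ (I.support : Set X)) < (d : WithBot ℕ∞))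
    (h0 : ¬ IsZero E) (hpure : ShStab.IsPure X E d)
    (P : ℚ[X]) (hP : ShStab.IsHilbPoly k X L E P) (PX : Fin (𝓔.l + 2) → ℚ[X])
    (hPX : ∀ j, ShStab.IsHilbPoly k X L ((𝓔.pieceX j : Subobject E) : X.Modules) (PX j))
    (H : Fin (𝓔.l + 2) → ℚ[X]) (hH : ∀ j, ShStab.IsHilbPoly k X L (cokernel (𝓔.pieceX j).arrow) (H j))
    (hHa : ∀ j : Fin (𝓔.l + 1), StabCat.alpha (d - 1) (H j.succ) ≠ 0)
    (hst : (∀ (W : X.Modules) (ι : W ⟶ E), Mono ι → Coh.IsCoh W → ¬ IsZero W → ¬ IsIso ι → ShStab.IsPure X (cokernel ι) d →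
        ∀ (Q : ℚ[X]) (QX : Fin (𝓔.l + 2) → ℚ[X]), ShStab.IsHilbPoly k X L W Q →
          (∀ j, ShStab.IsHilbPoly k X L (((𝓔.induced ι).pieceX j : Subobject W) : X.Modules) (QX j)) →
          ∃ M : ℕ, ∀ m : ℕ, M ≤ m →
            (W4swparbununimod.parPoly (𝓔.induced ι) QX).eval (m : ℝ) * (StabCat.alpha d P : ℝ) <
              (W4swparbununimod.parPoly 𝓔 PX).eval (m : ℝ) * (StabCat.alpha d Q : ℝ)))
    (hq : ∀ j : Fin (𝓔.l + 1), ShStab.IsStable k X L (cokernel (𝓔.pieceX j.succ).arrow) (d - 1))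
    {W : X.Modules} (ι : W ⟶ E) [Mono ι] (hW : Coh.IsCoh W)
    (Q : ℚ[X]) (hQ : ShStab.IsHilbPoly k X L W Q) (QH : Fin (𝓔.l + 2) → ℚ[X])
    (hQH : ∀ j, ShStab.IsHilbPoly k X L (cokernel ((𝓔.induced ι).pieceX j).arrow) (QH j)) (hW0 : ¬ IsZero W) (hWp : ¬ IsIso ι) (hWsat : ShStab.IsPure X (cokernel ι) d) :
    ∃ M : ℕ, ∀ m : ℕ, M ≤ m →
      (W4swparbununimod.parPolyOne 𝓔 d Q QH H).eval (m : ℝ) * (StabCat.alpha d P : ℝ) <
        (W4swparbununimod.parPoly 𝓔 PX).eval (m : ℝ) * (StabCat.alpha d Q : ℝ) := by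
  have hLinv := hL.1
  haveI : IsLocallyNoetherian X :=
    LocallyOfFiniteType.isLocallyNoetherian (X ↘ Spec (CommRingCat.of k))
  have hdimE : topologicalKrullDim ↥(CohB1.support E) = (d : WithBot ℕ∞) :=
    hpure E (𝟙 E) inferInstance hE h0
  have hcW : ∀ j, Coh.IsCoh (((𝓔.induced ι).pieceX j : Subobject W) : X.Modules) := fun j =>
    Groth.Agent.Helper6.ParInduced.induced_isCoh hW hE ι 𝓔 hcoh j
  have hqW : ∀ j, Coh.IsCoh (cokernel ((𝓔.induced ι).pieceX j).arrow) := fun j =>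
    (Groth.Agent.S9514.result X (hcW j) hW _).2
  have hsubW : CohB1.support W ⊆ CohB1.support E :=
    Groth.Agent.Helper6.ParCoeff.support_subset_of_mono ι
  -- Hilbert polynomials of the pieces of the induced filtration
  have hexQX : ∀ j, ∃ q : ℚ[X],
      ShStab.IsHilbPoly k X L (((𝓔.induced ι).pieceX j : Subobject W) : X.Modules) q := by
    intro j
    have hsub : CohB1.support (((𝓔.induced ι).pieceX j : Subobject W) : X.Modules) ⊆
        CohB1.support E :=
      (Groth.Agent.Helper6.ParCoeff.support_subset_of_mono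
        ((𝓔.induced ι).pieceX j).arrow).trans hsubW
    obtain ⟨q, hq, -⟩ := Groth.Agent.Helper6.SPos.exists_hilbPoly k X L hLinv _ (hcW j) d
      ((Topology.IsEmbedding.inclusion hsub).isInducing.topologicalKrullDim_le.trans hdimE.le)
    exact ⟨q, hq⟩
  choose QX hQX using hexQX
  have hQXeq : ∀ j, QX j = Q - QH j := by
    intro j
    obtain ⟨_, hp⟩ := Groth.Agent.Helper6.HilbDeg.isHilbPoly_cokernel k X L hLinv (hcW j) hW
      ((𝓔.induced ι).pieceX j).arrow (QX j) Q (hQX j) hQ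
    have h1 := Groth.Agent.Helper6.ParOne.hilbPoly_unique k X L _ _ _ hp (hQH j)
    rw [← h1]
    ring
  have hQH00 : QH 0 = 0 := by
    refine Groth.Agent.Helper6.ParOne.hilbPoly_eq_zero_of_isZero k X L _ ?_ _ (hQH 0)
    have htop : (𝓔.induced ι).pieceX 0 = ⊤ := by
      have h1 := (𝓔.induced ι).pieceX_castSucc 0
      rw [(𝓔.induced ι).piece_zero] at h1
      exact h1
    rw [htop]
    exact isZero_cokernel_of_epi _
  -- the hypothesis on saturated submodules
  obtain ⟨M₁, hM₁⟩ := hst W ι inferInstance hW hW0 hWp hWsat Q QX hQ hQX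
  have hParW : ∀ m : ℕ, (W4swparbununimod.parPoly (𝓔.induced ι) QX).eval (m : ℝ) =
      ((Q.eval (m : ℚ) : ℚ) : ℝ) - ∑ j : Fin (𝓔.l + 1),
        (𝓔.wtX j.succ - 𝓔.wtX j.castSucc) * (((QH j.succ).eval (m : ℚ) : ℚ) : ℝ) := by
    intro m
    have h1 : (W4swparbununimod.parPoly (𝓔.induced ι) QX).eval (m : ℝ) =
        Groth.Agent.Helper6.ParHilb.psum 𝓔.l 𝓔.wt
          (fun j => (((QX j).eval (m : ℚ) : ℚ) : ℝ)) :=
      Groth.Agent.Helper6.ParStab.parPoly_eval_psum (𝓔.induced ι) QX m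
    rw [h1]
    have hfun : (fun j : Fin (𝓔.l + 2) => (((QX j).eval (m : ℚ) : ℚ) : ℝ)) =
        fun j => ((Q.eval (m : ℚ) : ℚ) : ℝ) - (((QH j).eval (m : ℚ) : ℚ) : ℝ) := by
      funext j
      rw [hQXeq j, Polynomial.eval_sub]
      push_cast
      rfl
    rw [hfun, Groth.Agent.Helper6.ParHilb.psum_const_sub 𝓔.l 𝓔.wt 𝓔.wtX
      (fun j => 𝓔.wtX_castSucc j) 𝓔.wtX_last _ _
      (by show (((QH 0).eval (m : ℚ) : ℚ) : ℝ) = 0; rw [hQH00]; simp)]
  -- positivity
  have hαP : 0 < StabCat.alpha d P := Groth.Agent.Helper6.SPos.sp k X L hL E d hE hdimE P hP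
  have hαH : ∀ j : Fin (𝓔.l + 1), 0 < StabCat.alpha (d - 1) (H j.succ) := by
    intro j
    have hB := hq j
    have hdimB : topologicalKrullDim ↥(CohB1.support (cokernel (𝓔.pieceX j.succ).arrow)) =
        ((d - 1 : ℕ) : WithBot ℕ∞) := hB.2.2.1 _ (𝟙 _) inferInstance hB.1 hB.2.1
    exact Groth.Agent.Helper6.SPos.sp k X L hL _ (d - 1) hB.1 hdimB (H j.succ) (hH j.succ)
  -- comparison of `W / W_j` with `E / E_j`
  have hcmp : ∀ j : Fin (𝓔.l + 1), ∃ N : ℕ, ∀ m : ℕ, N ≤ m →
      (QH j.succ).eval (m : ℚ) ≤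
        (StabCat.alpha (d - 1) (QH j.succ) / StabCat.alpha (d - 1) (H j.succ)) *
          (H j.succ).eval (m : ℚ) := fun j =>
    Groth.Agent.Helper6.ParStab.stable_pb_compare k X L (d - 1) ι (𝓔.pieceX j.succ)
      ((𝓔.induced ι).pieceX j.succ) (Groth.Agent.Helper6.ParHilb.induced_pieceX 𝓔 ι j.succ)
      (hq j) (hqW j.succ) (QH j.succ) (H j.succ) (hQH j.succ) (hH j.succ) (hαH j)
  choose Nf hNf using hcmp
  refine ⟨max M₁ (Finset.univ.sup Nf), fun m hm => ?_⟩
  have hm1 : M₁ ≤ m := (le_max_left _ _).trans hm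
  have hm2 : ∀ j, Nf j ≤ m := fun j =>
    (Finset.le_sup (f := Nf) (Finset.mem_univ j)).trans ((le_max_right _ _).trans hm)
  have h1 := hM₁ m hm1
  rw [hParW m] at h1
  rw [Groth.Agent.Helper6.ParLim.parPolyOne_eval]
  have hsum : ∑ j : Fin (𝓔.l + 1),
      (𝓔.wtX j.succ - 𝓔.wtX j.castSucc) * (((QH j.succ).eval (m : ℚ) : ℚ) : ℝ) ≤
      ∑ j : Fin (𝓔.l + 1), (𝓔.wtX j.succ - 𝓔.wtX j.castSucc) *
        (((StabCat.alpha (d - 1) (QH j.succ) / StabCat.alpha (d - 1) (H j.succ) : ℚ) : ℝ) *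
          (((H j.succ).eval (m : ℚ) : ℚ) : ℝ)) := by
    apply Finset.sum_le_sum
    intro j _
    apply mul_le_mul_of_nonneg_left _ (Groth.Agent.Helper6.ParStab.wtX_step_nonneg 𝓔 j)
    have := hNf j m (hm2 j)
    exact_mod_cast this
  have hαP' : (0 : ℝ) < (StabCat.alpha d P : ℝ) := by exact_mod_cast hαP
  exact lt_of_le_of_lt
    (mul_le_mul_of_nonneg_right (sub_le_sub_left hsum _) hαP'.le) h1

end Groth.Agent.S18533
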