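import Groth.Statements.S18538
-- import your own Groth.Agent.* helpers here
import Mathlib

set_option autoImplicit false
universe u
open EtAlg

namespace Groth.Agent.S18538

/-- Let A ⊆ B be an injective finite extension of integrally closed domains, with fraction fields K ⊆ L
and L separable over K. Then A → B → B ⊗_A B is exact, the second map being b ↦ b ⊗ 1 - 1 ⊗ b: every
element of B whose two images in B ⊗_A B agree comes from A. -/
theorem result
    (A B K L : Type u) [CommRing A] [CommRing B] [IsDomain A] [IsDomain B]
    [IsIntegrallyClosed A] [IsIntegrallyClosed B] [Algebra A B] [FaithfulSMul A B] [Module.Finite A B]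
    [Field K] [Field L] [Algebra A K] [IsFractionRing A K] [Algebra B L] [IsFractionRing B L]
    [Algebra K L] [Algebra A L] [IsScalarTower A K L] [IsScalarTower A B L]
    [Algebra.IsSeparable K L] :
    Algebra.IsEffective A B := by
  open TensorProduct in
  intro b
  constructor
  swap
  · exact Algebra.TensorProduct.includeLeftSubRight_zero_of_mem_range
  intro hb
  -- the comparison map
  let ι : B →ₗ[A] L := (IsScalarTower.toAlgHom A B L).toLinearMap
  let Φ : B ⊗[A] B →ₗ[A] L ⊗[K] L :=
    TensorProduct.lift
      { toFun := fun x =>
          { toFun := fun y => ι x ⊗ₜ[K] ι y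
            map_add' := by intro y y'; rw [map_add, TensorProduct.tmul_add]
            map_smul' := by
              intro a y
              rw [map_smul, RingHom.id_apply, TensorProduct.tmul_smul] }
        map_add' := by
          intro x x'; ext y
          simp only [LinearMap.coe_mk, AddHom.coe_mk, LinearMap.add_apply, map_add,
            TensorProduct.add_tmul]
        map_smul' := by
          intro a x; ext y
          simp only [LinearMap.coe_mk, AddHom.coe_mk, LinearMap.smul_apply, map_smul,
            RingHom.id_apply, TensorProduct.smul_tmul'] }
  have hΦ : ∀ x y : B, Φ (x ⊗ₜ[A] y) = algebraMap B L x ⊗ₜ[K] algebraMap B L y := fun x y => rfl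
  have h1 := congrArg Φ hb
  rw [Algebra.TensorProduct.includeLeftSubRight_apply, map_sub, hΦ, hΦ, map_zero, map_one] at h1
  have hKL : Algebra.IsEffective K L := Algebra.IsEffective.of_faithfullyFlat K L
  have h2 : Algebra.TensorProduct.includeLeftSubRight K L (algebraMap B L b) = 0 := by
    rw [Algebra.TensorProduct.includeLeftSubRight_apply]; exact h1
  obtain ⟨k, hk⟩ := (hKL _).mp h2
  rw [Algebra.linearMap_apply] at hk
  -- k is integral over A
  have hbint : IsIntegral A b := Algebra.IsIntegral.isIntegral b
  have hkint : IsIntegral A k := by
    have h3 : IsIntegral A (algebraMap B L b) := hbint.map (IsScalarTower.toAlgHom A B L)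
    rw [← hk] at h3
    exact (isIntegral_algHom_iff (IsScalarTower.toAlgHom A K L) (algebraMap K L).injective).mp h3
  obtain ⟨a, ha⟩ := IsIntegrallyClosed.isIntegral_iff.mp hkint
  refine ⟨a, ?_⟩
  rw [Algebra.linearMap_apply]
  apply IsFractionRing.injective B L
  rw [← hk, ← ha, ← IsScalarTower.algebraMap_apply, ← IsScalarTower.algebraMap_apply]

end Groth.Agent.S18538
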