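import Groth.Statements.S18539
-- import your own Groth.Agent.* helpers here
import Mathlib

set_option autoImplicit false
universe u v w
open CAlg

namespace Groth.Agent.S18539

/-- For a commutative ring R, R-modules M and N and elements r₁, r₂ of R such that r₁ is a
non-zero-divisor on N and r₂ is a non-zero-divisor on N/r₁N, the element r₁ is a non-zero-divisor on
the module Hom_R(M, N) and r₂ is a non-zero-divisor on Hom_R(M, N)/r₁Hom_R(M, N). (Weak regularity
on both sides: no condition that the quotient by (r₁, r₂) is nonzero, which would fail for M = 0.) -/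
theorem result
    (R : Type u) [CommRing R] (M : Type v) (N : Type w)
    [AddCommGroup M] [Module R M] [AddCommGroup N] [Module R N]
    (r₁ r₂ : R) (h : RingTheory.Sequence.IsWeaklyRegular N [r₁, r₂]) :
    RingTheory.Sequence.IsWeaklyRegular (M →ₗ[R] N) [r₁, r₂] := by
  open scoped Pointwise in
  rw [RingTheory.Sequence.isWeaklyRegular_cons_iff, 
    RingTheory.Sequence.isWeaklyRegular_singleton_iff] at h ⊢
  obtain ⟨h1, h2⟩ := h
  have h2' := (isSMulRegular_quotient_iff_mem_of_smul_mem _ _).mp h2
  refine ⟨?_, (isSMulRegular_quotient_iff_mem_of_smul_mem _ _).mpr ?_⟩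
  · intro φ ψ hφψ
    ext m
    apply h1
    have := congrArg (fun f : M →ₗ[R] N => f m) hφψ
    simpa using this
  · intro φ hφ
    rw [Submodule.mem_smul_pointwise_iff_exists] at hφ ⊢
    obtain ⟨ψ, -, hψ⟩ := hφ
    -- for each m, φ m ∈ r₁ • ⊤
    have hm : ∀ m : M, ∃ n : N, r₁ • n = φ m := by
      intro m
      have : r₂ • φ m ∈ r₁ • (⊤ : Submodule R N) := by
        rw [Submodule.mem_smul_pointwise_iff_exists]
        refine ⟨ψ m, trivial, ?_⟩
        have := congrArg (fun f : M →ₗ[R] N => f m) hψ
        simpa using this
      have := h2' _ this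
      rw [Submodule.mem_smul_pointwise_iff_exists] at this
      obtain ⟨n, -, hn⟩ := this
      exact ⟨n, hn⟩
    choose χ hχ using hm
    refine ⟨{ toFun := χ, map_add' := ?_, map_smul' := ?_ }, trivial, ?_⟩
    · intro a b
      apply h1
      simp only [smul_add, hχ, map_add]
    · intro c a
      apply h1
      simp only [RingHom.id_apply, hχ, map_smul]
      rw [smul_comm, hχ]
    · ext m
      simp [hχ]

end Groth.Agent.S18539
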