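import Groth.Statements.S18548
-- import your own Groth.Agent.* helpers here
import Mathlib

set_option autoImplicit false
open scoped TensorProduct
universe u v w
open GalCoh

namespace Groth.Agent.S18548

/-- Let G be a group acting linearly on a vector space V over the field 𝔽₂ with two elements, and
suppose V is a permutation module: G permutes the vectors of some basis of V. Then the short exact
sequence of G-modules 0 → V → S²V → Λ²V → 0 (v ↦ v·v, x·y ↦ x ∧ y) splits G-equivariantly. Here, for
a vector space V over the field with two elements carrying a linear action ρ of a group G, write N_a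
⊆ V ⊗ V for the span of the tensors v ⊗ v and N_s ⊆ N_a for the span of the tensors x ⊗ y + y ⊗ x,
so that S²V = (V ⊗ V)/N_s, Λ²V = (V ⊗ V)/N_a and the surjection S²V → Λ²V, x·y ↦ x ∧ y, is
G-equivariant for the diagonal action; a G-equivariant linear section of this surjection is the same
thing as a G-stable subspace W of V ⊗ V with W ∩ N_a = N_s and W + N_a = V ⊗ V, which is how the
splitting is stated. (The source has the absolute Galois group of a field acting continuously; any
group and any basis index set are allowed here.) -/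
theorem result (G : Type u) [Group G] (V : Type v)
    [AddCommGroup V] [Module (ZMod 2) V] (ρ : Representation (ZMod 2) G V)
    (ι : Type w) (b : Module.Basis ι (ZMod 2) V) (hb : ∀ g : G, ∀ i : ι, ∃ j : ι, ρ g (b i) = b j) :
    ∃ W : Submodule (ZMod 2) (V ⊗[ZMod 2] V),
      (∀ g : G, ∀ w ∈ W, ρ.tprod ρ g w ∈ W) ∧
      W ⊓ Submodule.span (ZMod 2) (Set.range fun v : V => v ⊗ₜ[ZMod 2] v) =
        Submodule.span (ZMod 2) (Set.range fun p : V × V => p.1 ⊗ₜ[ZMod 2] p.2 + p.2 ⊗ₜ[ZMod 2] p.1) ∧
      W ⊔ Submodule.span (ZMod 2) (Set.range fun v : V => v ⊗ₜ[ZMod 2] v) = ⊤ := by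
  classical
  obtain ⟨T, hT⟩ : ∃ T : Module.Basis (ι × ι) (ZMod 2) (V ⊗[ZMod 2] V), T = b.tensorProduct b :=
    ⟨_, rfl⟩
  have hTapp : ∀ i j, T (i, j) = b i ⊗ₜ[ZMod 2] b j := by
    intro i j; rw [hT, Module.Basis.tensorProduct_apply]
  have hTrepr : ∀ (x y : V) (i j : ι), T.repr (x ⊗ₜ[ZMod 2] y) (i, j) = b.repr x i * b.repr y j := by
    intro x y i j; rw [hT, Module.Basis.tensorProduct_repr_tmul_apply, smul_eq_mul, mul_comm]
  set W : Submodule (ZMod 2) (V ⊗[ZMod 2] V) :=
    Submodule.span (ZMod 2) (T '' {p : ι × ι | p.1 ≠ p.2}) with hW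
  set D : Submodule (ZMod 2) (V ⊗[ZMod 2] V) :=
    Submodule.span (ZMod 2) (T '' {p : ι × ι | p.1 = p.2}) with hD
  set Na := Submodule.span (ZMod 2) (Set.range fun v : V => v ⊗ₜ[ZMod 2] v) with hNa
  set Ns := Submodule.span (ZMod 2)
    (Set.range fun p : V × V => p.1 ⊗ₜ[ZMod 2] p.2 + p.2 ⊗ₜ[ZMod 2] p.1) with hNs
  have two : ∀ a : ZMod 2, a + a = 0 := by decide
  have memW : ∀ z, z ∈ W ↔ ∀ i, T.repr z (i, i) = 0 := by
    intro z
    rw [hW, Module.Basis.mem_span_image]
    constructor
    · intro h i
      by_contra hne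
      have : (i, i) ∈ (T.repr z).support := Finsupp.mem_support_iff.mpr hne
      exact (h this) rfl
    · intro h p hp
      have hp' := Finsupp.mem_support_iff.mp hp
      intro heq
      apply hp'
      obtain ⟨i, j⟩ := p
      simp only at heq
      subst heq
      exact h i
  have hNsW : Ns ≤ W := by
    rw [hNs, Submodule.span_le]
    rintro _ ⟨⟨x, y⟩, rfl⟩
    rw [SetLike.mem_coe, memW]
    intro i
    simp only [map_add, Finsupp.add_apply, hTrepr]
    rw [mul_comm (b.repr y i)]
    exact two _
  have hNsNa : Ns ≤ Na := by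
    rw [hNs, Submodule.span_le]
    rintro _ ⟨⟨x, y⟩, rfl⟩
    have e : x ⊗ₜ[ZMod 2] y + y ⊗ₜ[ZMod 2] x =
        (x + y) ⊗ₜ[ZMod 2] (x + y) - x ⊗ₜ[ZMod 2] x - y ⊗ₜ[ZMod 2] y := by
      rw [TensorProduct.add_tmul, TensorProduct.tmul_add, TensorProduct.tmul_add]; abel
    simp only [SetLike.mem_coe]
    rw [e]
    refine Submodule.sub_mem _ (Submodule.sub_mem _ ?_ ?_) ?_ <;>
      exact Submodule.subset_span ⟨_, rfl⟩
  have hNaD : Na ≤ Ns ⊔ D := by
    rw [hNa, Submodule.span_le]
    rintro _ ⟨v, rfl⟩
    simp only [SetLike.mem_coe]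
    have hv := b.mem_span v
    induction hv using Submodule.span_induction with
    | mem x hx =>
      obtain ⟨i, rfl⟩ := hx
      apply Submodule.mem_sup_right
      rw [← hTapp]
      exact Submodule.subset_span ⟨(i, i), rfl, rfl⟩
    | zero => rw [TensorProduct.zero_tmul]; exact Submodule.zero_mem _
    | add x y _ _ hx hy =>
      have e : (x + y) ⊗ₜ[ZMod 2] (x + y) =
          x ⊗ₜ[ZMod 2] x + y ⊗ₜ[ZMod 2] y + (x ⊗ₜ[ZMod 2] y + y ⊗ₜ[ZMod 2] x) := by
        rw [TensorProduct.add_tmul, TensorProduct.tmul_add, TensorProduct.tmul_add]; abel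
      rw [e]
      refine Submodule.add_mem _ (Submodule.add_mem _ hx hy) (Submodule.mem_sup_left ?_)
      exact Submodule.subset_span ⟨(x, y), rfl⟩
    | smul c x _ hx =>
      rw [TensorProduct.smul_tmul_smul]
      exact Submodule.smul_mem _ _ hx
  refine ⟨W, ?_, ?_, ?_⟩
  · intro g
    have : W ≤ W.comap (ρ.tprod ρ g) := by
      rw [hW, Submodule.span_le]
      rintro _ ⟨⟨i, j⟩, hij, rfl⟩
      simp only [Set.mem_setOf_eq] at hij
      obtain ⟨i', hi'⟩ := hb g i
      obtain ⟨j', hj'⟩ := hb g j
      simp only [SetLike.mem_coe, Submodule.mem_comap, Representation.tprod_apply]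
      rw [hTapp, TensorProduct.map_tmul, hi', hj', ← hTapp]
      apply Submodule.subset_span
      refine ⟨(i', j'), ?_, rfl⟩
      simp only [Set.mem_setOf_eq]
      intro h
      apply hij
      subst h
      have h1 : ρ g (b i) = ρ g (b j) := by rw [hi', hj']
      have h2 : b i = b j := by
        have := congrArg (ρ g⁻¹) h1
        simpa [← Module.End.mul_apply, ← map_mul] using this
      exact b.injective h2
    exact fun w hw => this hw
  · apply le_antisymm
    · rintro z ⟨hzW, hzNa⟩
      obtain ⟨n, hn, d, hd, rfl⟩ := Submodule.mem_sup.mp (hNaD hzNa)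
      have hdW : d ∈ W := by
        have := W.sub_mem hzW (hNsW hn)
        rwa [add_sub_cancel_left] at this
      have hd0 : d = 0 := by
        apply T.repr.injective
        rw [map_zero]
        ext ⟨i, j⟩
        rw [Finsupp.zero_apply]
        by_cases hij : i = j
        · subst hij; exact (memW d).mp hdW i
        · by_contra hne
          rw [hD, Module.Basis.mem_span_image] at hd
          have : (i, j) ∈ (T.repr d).support := Finsupp.mem_support_iff.mpr hne
          exact hij (hd this)
      rw [hd0, add_zero]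
      exact hn
    · exact le_inf hNsW hNsNa
  · rw [eq_top_iff, ← T.span_eq, Submodule.span_le]
    rintro _ ⟨⟨i, j⟩, rfl⟩
    by_cases hij : i = j
    · subst hij
      apply Submodule.mem_sup_right
      rw [hTapp]
      exact Submodule.subset_span ⟨_, rfl⟩
    · apply Submodule.mem_sup_left
      exact Submodule.subset_span ⟨(i, j), hij, rfl⟩

end Groth.Agent.S18548
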