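import Groth.Statements.S18560
-- import your own Groth.Agent.* helpers here
import Mathlib

set_option autoImplicit false
universe u v
open PtQuiv

namespace Groth.Agent.S18560

/-- Let K be a field and s i ∈ K² (i in a finite index type) nonzero vectors, regarded as a
representation of the quiver with a central vertex carrying the plane and one vertex per i carrying
a line that maps to the plane by 1 ↦ s i. For a weight θ in the hypersimplex (0 ≤ θ i ≤ 1, Σ θ i =
2, central weight -1) the representation is θ-semistable if and only if, for every vector v, the
indices i with s i on the line K ∙ v have total weight at most 1. (The published statement is over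
an algebraically closed field, assumes semistability for some interior weight instead of s i ≠ 0,
and phrases the bound through the classes of pairwise proportional s i; any field is allowed here.
Its further assertion that the bounding walls, where the total weight of one proportionality class
equals 1, do not meet in the interior of the hypersimplex is not part of this row.) -/
theorem result (K : Type u) [Field K] (ι : Type v) [Fintype ι]
    (s : ι → (Fin 2 → K)) (hs : ∀ i, s i ≠ 0) (θ : ι → ℚ) (h0 : ∀ i, 0 ≤ θ i)
    (h1 : ∀ i, θ i ≤ 1) (h2 : ∑ i, θ i = 2) :
    PtQuiv.QSemistable (-1) θ s ↔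
      ∀ (J : Finset ι) (v : Fin 2 → K), (∀ i ∈ J, s i ∈ K ∙ v) → ∑ i ∈ J, θ i ≤ 1 := by
  constructor
  · rintro ⟨-, hss⟩ J v hJ
    rcases J.eq_empty_or_nonempty with rfl | ⟨i, hi⟩
    · simp
    · have hv : v ≠ 0 := by
        rintro rfl
        have := hJ i hi
        simp at this
        exact hs i this
      have := hss (K ∙ v) J hJ
      unfold PtQuiv.QWt at this
      rw [finrank_span_singleton hv] at this
      simp at this
      linarith
  · intro hJ
    refine ⟨by rw [h2]; norm_num, fun L I hLI => ?_⟩
    unfold PtQuiv.QWt
    have hle : Module.finrank K L ≤ 2 := by
      have := Submodule.finrank_le L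
      simpa using this
    have hsumI : ∑ i ∈ I, θ i ≤ 2 := by
      rw [← h2]
      exact Finset.sum_le_univ_sum_of_nonneg h0
    interval_cases hfr : Module.finrank K L
    · -- L = ⊥
      have hL : L = ⊥ := Submodule.finrank_eq_zero.mp hfr
      have hI : I = ∅ := by
        rw [Finset.eq_empty_iff_forall_notMem]
        intro i hi
        have := hLI i hi
        rw [hL] at this
        exact hs i (by simpa using this)
      simp [hI]
    · obtain ⟨v, hv, hspan⟩ := finrank_eq_one_iff'.mp hfr
      have : ∑ i ∈ I, θ i ≤ 1 := by
        apply hJ I v.1
        intro i hi
        obtain ⟨c, hc⟩ := hspan ⟨s i, hLI i hi⟩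
        rw [Submodule.mem_span_singleton]
        exact ⟨c, by simpa using congrArg Subtype.val hc⟩
      push_cast
      linarith
    · push_cast
      linarith

end Groth.Agent.S18560
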