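import Groth.Statements.S18573
import Groth.Agent.Lib.Helper23.P1Irr

set_option autoImplicit false
universe u
open CategoryTheory AlgebraicGeometry
open REq

namespace Groth.Agent.S18573

open Groth.Agent.Helper23.P1Irr in
theorem inV_of_elemLink {k : Type u} [Field k] {Y : Scheme.{u}}
    (g : Y ⟶ Spec (CommRingCat.of k)) (K : Type u) [Field K] [Algebra k K]
    (V W : Set Y) (hV : IsClosed V) (hW : IsClosed W) (hVW : V ∪ W = Set.univ)
    (hT : ∀ z : REq.Pts g K, ¬ (Set.range z.1.base ⊆ V ∩ W))
    (A B : REq.Pts g K) (hAB : REq.ElemLink g K A B) (hA : Set.range A.1.base ⊆ V) :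
    Set.range B.1.base ⊆ V := by
  obtain ⟨U, h, a, b, -, -, -, ha, hb⟩ := hAB
  haveI : IrreducibleSpace ↥(REq.P1K K) := irreducibleSpace_projSpaceOver 1 _
  have hpre : IsPreirreducible (U : Set ↥(REq.P1K K)) :=
    (PreirreducibleSpace.isPreirreducible_univ).open_subset U.isOpen (Set.subset_univ _)
  haveI : PreirreducibleSpace ↥(U : Set ↥(REq.P1K K)) := Subtype.preirreducibleSpace hpre
  have hT' : IsPreirreducible (Set.univ : Set ↥(U : Scheme.{u})) :=
    PreirreducibleSpace.isPreirreducible_univ (X := ↥(U : Set ↥(REq.P1K K)))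
  have hc1 : IsClosed (h ⁻¹' V) := hV.preimage h.continuous
  have hc2 : IsClosed (h ⁻¹' W) := hW.preimage h.continuous
  have hcov : (Set.univ : Set ↥(U : Scheme.{u})) ⊆ (h ⁻¹' V) ∪ (h ⁻¹' W) := by
    intro x _
    have : h x ∈ V ∪ W := by rw [hVW]; trivial
    exact this
  rcases (isPreirreducible_iff_isClosed_union_isClosed.1 hT') _ _ hc1 hc2 hcov with h1 | h2
  · rintro _ ⟨x, rfl⟩
    rw [← hb]
    exact h1 (Set.mem_univ (b x))
  · exfalso
    apply hT A
    rintro _ ⟨x, rfl⟩
    refine ⟨hA ⟨x, rfl⟩, ?_⟩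
    rw [← ha]
    exact h2 (Set.mem_univ (a x))

theorem elemLink_symm {k : Type u} [Field k] {Y : Scheme.{u}}
    (g : Y ⟶ Spec (CommRingCat.of k)) (K : Type u) [Field K] [Algebra k K]
    (A B : REq.Pts g K) (hAB : REq.ElemLink g K A B) : REq.ElemLink g K B A := by
  obtain ⟨U, h, a, b, h0, h1, h2, ha, hb⟩ := hAB
  exact ⟨U, h, b, a, h0, h2, h1, hb, ha⟩

/-- Let Y be a scheme over a field k and K a field containing k. Let V and W be closed subsets of Y with
V ∪ W = Y such that no K-point of Y has its image in V ∩ W. If p is a K-point of Y lying in V and q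
a K-point of Y lying in W, then p and q are not R-equivalent on Y. (The published step concerns
k-points of the special fibre of a proper flat scheme over a discrete valuation ring, that is K = k;
this row is stated for any scheme Y over k and K-points for any field K containing k.) -/
theorem result (k : Type u) [Field k] (Y : Scheme.{u})
    (g : Y ⟶ Spec (CommRingCat.of k)) (K : Type u) [Field K] [Algebra k K]
    (V W : Set Y) (hV : IsClosed V) (hW : IsClosed W) (hVW : V ∪ W = Set.univ)
    (hT : ∀ z : REq.Pts g K, ¬ (Set.range z.1.base ⊆ V ∩ W))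
    (p q : REq.Pts g K) (hp : Set.range p.1.base ⊆ V) (hq : Set.range q.1.base ⊆ W) :
    ¬ REq.REquiv g K p q := by
  intro hpq
  have key : ∀ A B : REq.Pts g K, REq.REquiv g K A B →
      (Set.range A.1.base ⊆ V ↔ Set.range B.1.base ⊆ V) := by
    intro A B hAB
    induction hAB with
    | rel A B hAB =>
      exact ⟨inV_of_elemLink g K V W hV hW hVW hT A B hAB,
        inV_of_elemLink g K V W hV hW hVW hT B A (elemLink_symm g K A B hAB)⟩
    | refl A => exact Iff.rfl
    | symm A B _ ih => exact ih.symm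
    | trans A B C _ _ ih1 ih2 => exact ih1.trans ih2
  exact hT q (fun x hx => ⟨((key p q hpq).1 hp) hx, hq hx⟩)

end Groth.Agent.S18573
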