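import Groth.Statements.S18590
-- import your own Groth.Agent.* helpers here
import Groth.Agent.Lib.Helper27.WittHomog

set_option autoImplicit false
universe u
open CAlg

namespace Groth.Agent.S18590

/-- Let p be a prime, A a commutative ring, K a commutative A-algebra of characteristic p and M_0, M_1,
M_2, … A-submodules of K with M_i · M_j ⊆ M_(i+j) for all i, j. Then the subset of the ring W(K) of
p-typical Witt vectors consisting of the vectors whose n-th coordinate lies in M_(p^n) for every n
is closed under addition and under multiplication by the image of W(A) under W of the structure map;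
in other words it is a W(A)-submodule of W(K). (The published statement is the case of an integral
normal noetherian scheme X of characteristic p with function field K, an affine open subset U with
coordinate ring A, and M_k the module of sections over U of the divisorial sheaf of k·D for a real
Weil divisor D on X; these form such a multiplicative family, and the subset is then the module of
sections over U of the Witt divisorial sheaf of D inside W(K). Only the two stated properties of
that family enter.) -/
theorem result
    (p : ℕ) [Fact p.Prime] (A K : Type u) [CommRing A] [CommRing K] [Algebra A K] [CharP K p]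
    (M : ℕ → Submodule A K)
    (hmul : ∀ (i j : ℕ) (a b : K), a ∈ M i → b ∈ M j → a * b ∈ M (i + j)) :
    (∀ φ ψ : WittVector p K, (∀ n : ℕ, φ.coeff n ∈ M (p ^ n)) → (∀ n : ℕ, ψ.coeff n ∈ M (p ^ n)) →
        ∀ n : ℕ, (φ + ψ).coeff n ∈ M (p ^ n)) ∧
      (∀ (x : WittVector p A) (φ : WittVector p K), (∀ n : ℕ, φ.coeff n ∈ M (p ^ n)) →
        ∀ n : ℕ, (WittVector.map (algebraMap A K) x * φ).coeff n ∈ M (p ^ n)) := by
  classical
  have hp : p.Prime := Fact.out
  let N : ℕ → Submodule A K := fun k => if k = 0 then M 0 ⊔ Submodule.span A {1} else M k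
  have hN0 : N 0 = M 0 ⊔ Submodule.span A {1} := by simp [N]
  have hNpos : ∀ k, k ≠ 0 → N k = M k := fun k hk => by simp [N, hk]
  have hML : ∀ k, M k ≤ N k := by
    intro k
    by_cases hk : k = 0
    · subst hk; rw [hN0]; exact le_sup_left
    · rw [hNpos k hk]
  have h1 : (1:K) ∈ N 0 := by
    rw [hN0]; exact Submodule.mem_sup_right (Submodule.subset_span rfl)
  have h0 : ∀ (j : ℕ) (a b : K), a ∈ N 0 → b ∈ N j → a * b ∈ N j := by
    intro j a b ha hb
    rw [hN0] at ha
    obtain ⟨a₀, ha₀, a₁, ha₁, rfl⟩ := Submodule.mem_sup.mp ha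
    obtain ⟨r, rfl⟩ := Submodule.mem_span_singleton.mp ha₁
    rw [add_mul]
    apply Submodule.add_mem
    · by_cases hj : j = 0
      · subst hj
        rw [hN0] at hb ⊢
        obtain ⟨b₀, hb₀, b₁, hb₁, rfl⟩ := Submodule.mem_sup.mp hb
        obtain ⟨t, rfl⟩ := Submodule.mem_span_singleton.mp hb₁
        rw [mul_add]
        apply Submodule.add_mem
        · exact Submodule.mem_sup_left (hmul 0 0 _ _ ha₀ hb₀)
        · rw [mul_smul_comm, mul_one]
          exact Submodule.mem_sup_left (Submodule.smul_mem _ _ ha₀)
      · rw [hNpos j hj] at hb ⊢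
        have := hmul 0 j _ _ ha₀ hb
        rwa [zero_add] at this
    · rw [smul_mul_assoc, one_mul]; exact Submodule.smul_mem _ _ hb
  have hNmul : ∀ (i j : ℕ) (a b : K), a ∈ N i → b ∈ N j → a * b ∈ N (i + j) := by
    intro i j a b ha hb
    by_cases hi : i = 0
    · subst hi; rw [zero_add]; exact h0 j a b ha hb
    by_cases hj : j = 0
    · subst hj; rw [add_zero, mul_comm]; exact h0 i b a hb ha
    rw [hNpos i hi] at ha
    rw [hNpos j hj] at hb
    rw [hNpos (i + j) (by omega)]
    exact hmul i j a b ha hb
  let N' : ℕ → AddSubgroup K := fun k => (N k).toAddSubgroup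
  have key : ∀ {w : Fin 2 × ℕ → ℕ} {n : ℕ} {f : MvPolynomial (Fin 2 × ℕ) ℤ},
      MvPolynomial.IsWeightedHomogeneous w f (p ^ n) → ∀ x : Fin 2 × ℕ → K,
      (∀ s, x s ∈ N (w s)) → MvPolynomial.aeval x f ∈ M (p ^ n) := by
    intro w n f hf x hx
    have := Groth.Agent.Helper27.aeval_mem_of_isWeightedHomogeneous N' h1 hNmul hf x hx
    have h2 : MvPolynomial.aeval x f ∈ N (p ^ n) := this
    rwa [hNpos _ (pow_ne_zero n hp.ne_zero)] at h2
  refine ⟨?_, ?_⟩
  · intro φ ψ hφ hψ n
    rw [WittVector.add_coeff, WittVector.peval]
    apply key (Groth.Agent.Helper27.wittAdd_isWeightedHomogeneous p n)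
    rintro ⟨b, i⟩
    fin_cases b
    · exact hML _ (hφ i)
    · exact hML _ (hψ i)
  · intro x φ hφ n
    rw [WittVector.mul_coeff, WittVector.peval]
    apply key (Groth.Agent.Helper27.wittMul_isWeightedHomogeneous_snd p n)
    rintro ⟨b, i⟩
    fin_cases b
    · simp only [Function.uncurry]
      show (WittVector.map (algebraMap A K) x).coeff i ∈ N (0 * p ^ i)
      rw [zero_mul, WittVector.map_coeff, hN0, Algebra.algebraMap_eq_smul_one]
      exact Submodule.mem_sup_right (Submodule.smul_mem _ _ (Submodule.subset_span rfl))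
    · show φ.coeff i ∈ N (1 * p ^ i)
      rw [one_mul]
      exact hML _ (hφ i)

end Groth.Agent.S18590
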