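import Groth.Statements.S18598
-- import your own Groth.Agent.* helpers here
import Mathlib

set_option autoImplicit false
universe u
open SSRed

namespace Groth.Agent.S18598

namespace T598
open Polynomial

variable {O : Type u} [CommRing O] [IsDomain O] [CharZero O]

/-- divisibility of natural numbers in `O` descends to `ℕ` -/
theorem nat_dvd_of_cast_dvd (A B : ℕ) (hA : 0 < A)
    (hO : ∀ q : ℕ, q.Prime → q ∣ A → ¬ IsUnit (q : O)) (h : (A : O) ∣ (B : O)) : A ∣ B := by
  set g := Nat.gcd A B with hg
  have hgpos : 0 < g := Nat.gcd_pos_of_pos_left B hA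
  obtain ⟨A', hA'⟩ : g ∣ A := Nat.gcd_dvd_left A B
  have hbez : ((g : ℤ) : O) = (A : O) * ((Nat.gcdA A B : ℤ) : O) + (B : O) * ((Nat.gcdB A B : ℤ) : O) := by
    have := Nat.gcd_eq_gcd_ab A B
    have h2 := congrArg (fun z : ℤ => (z : O)) this
    simpa using h2
  have hAg : (A : O) ∣ (g : O) := by
    have : ((g : ℤ) : O) = (g : O) := by simp
    rw [← this, hbez]
    exact dvd_add (Dvd.intro _ rfl) (Dvd.dvd.mul_right h _)
  have hA'unit : IsUnit (A' : O) := by
    have : (g : O) * (A' : O) ∣ (g : O) * 1 := by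
      rw [mul_one]
      have : (A : O) = (g : O) * (A' : O) := by rw [hA']; push_cast; ring
      rwa [← this]
    have hg0 : (g : O) ≠ 0 := by exact_mod_cast hgpos.ne'
    exact isUnit_of_dvd_one ((mul_dvd_mul_iff_left hg0).mp this)
  have hA'1 : A' = 1 := by
    by_contra hne
    obtain ⟨q, hq, hqd⟩ := Nat.exists_prime_and_dvd hne
    apply hO q hq (hA' ▸ Dvd.dvd.mul_left hqd g)
    obtain ⟨c, hc⟩ := hqd
    apply isUnit_of_dvd_unit _ hA'unit
    exact ⟨(c : O), by rw [hc]; push_cast; ring⟩
  rw [hA'1, mul_one] at hA'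
  rw [hA']
  exact Nat.gcd_dvd_right A B

/-- `(1-α)^φ(m)` divides `Φ_m(1)` -/
theorem one_sub_pow_totient_dvd {α : O} {m : ℕ} (hα : IsPrimitiveRoot α m) :
    (1 - α) ^ (Nat.totient m) ∣ eval 1 (cyclotomic m O) := by
  rw [cyclotomic_eq_prod_X_sub_primitiveRoots hα, eval_prod, ← hα.card_primitiveRoots,
    ← Finset.prod_const]
  apply Finset.prod_dvd_prod_of_dvd
  intro ζ hζ
  simp only [eval_sub, eval_X, eval_C]
  by_cases hm : m = 0
  · subst hm
    simp at hζ
  rw [mem_primitiveRoots (Nat.pos_of_ne_zero hm)] at hζ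
  haveI : NeZero m := ⟨hm⟩
  obtain ⟨j, _, rfl⟩ := hα.eq_pow_of_pow_eq_one hζ.pow_eq_one
  exact Dvd.intro _ (mul_neg_geom_sum α j)

end T598



/-- Let O be a commutative integral domain of characteristic zero, n a positive integer such that no
prime number dividing n is a unit in O, and α an element of O of finite multiplicative order such
that (α − 1)² is divisible by n in O. Then α = 1 if n ≥ 5, α² = 1 if n = 4, α³ = 1 if n = 3, and α⁴
= 1 if n = 2. -/
theorem result (O : Type u) [CommRing O] [IsDomain O] [CharZero O]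
    (n : ℕ) (hn : 0 < n) (hO : ∀ p : ℕ, p.Prime → p ∣ n → ¬ IsUnit (p : O))
    (α : O) (hα : IsOfFinOrder α) (h : (n : O) ∣ (α - 1) ^ 2) :
    (5 ≤ n → α = 1) ∧ (n = 4 → α ^ 2 = 1) ∧ (n = 3 → α ^ 3 = 1) ∧ (n = 2 → α ^ 4 = 1) := by
  open Polynomial in
  set m := orderOf α with hmdef
  have hmpos : 0 < m := hα.orderOf_pos
  have hprim : IsPrimitiveRoot α m := IsPrimitiveRoot.orderOf α
  have hαm : α ^ m = 1 := pow_orderOf_eq_one α
  by_cases hm1 : m = 1
  · have : α = 1 := by rw [hm1, pow_one] at hαm; exact hαm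
    subst this
    simp
  have hm2 : 1 < m := by omega
  have hφpos : 0 < Nat.totient m := Nat.totient_pos.mpr hmpos
  -- key divisibility in O
  have hkey : ((n ^ Nat.totient m : ℕ) : O) ∣ (eval 1 (cyclotomic m O)) ^ 2 := by
    have h1 := T598.one_sub_pow_totient_dvd hprim
    have h2 : ((n : O)) ^ Nat.totient m ∣ ((α - 1) ^ 2) ^ Nat.totient m := pow_dvd_pow_of_dvd h _
    have h3 : ((α - 1) ^ 2) ^ Nat.totient m = ((1 - α) ^ Nat.totient m) ^ 2 := by
      rw [show (α - 1) ^ 2 = (1 - α) ^ 2 by ring, ← pow_mul, ← pow_mul, mul_comm]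
    rw [h3] at h2
    push_cast
    exact h2.trans (pow_dvd_pow_of_dvd h1 2)
  have hOpow : ∀ q : ℕ, q.Prime → q ∣ n ^ Nat.totient m → ¬ IsUnit (q : O) :=
    fun q hq hqd => hO q hq (hq.dvd_of_dvd_pow hqd)
  by_cases hpp : ∃ p k : ℕ, p.Prime ∧ p ^ k = m
  · obtain ⟨p, k, hp, hpk⟩ := hpp
    have hk0 : k ≠ 0 := by
      rintro rfl
      rw [pow_zero] at hpk
      omega
    obtain ⟨k, rfl⟩ := Nat.exists_eq_succ_of_ne_zero hk0
    have : Fact p.Prime := ⟨hp⟩
    have hev : eval 1 (cyclotomic m O) = (p : O) := by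
      rw [← hpk]; exact eval_one_cyclotomic_prime_pow k
    rw [hev] at hkey
    have hdvd : n ^ Nat.totient m ∣ p ^ 2 := by
      apply T598.nat_dvd_of_cast_dvd (O := O) _ _ (pow_pos hn _) hOpow
      push_cast at hkey ⊢
      exact hkey
    have hφ : Nat.totient m = p ^ k * (p - 1) := by
      rw [← hpk]; exact Nat.totient_prime_pow_succ hp k
    have hnd : n ∣ p ^ 2 := (dvd_pow_self n hφpos.ne').trans hdvd
    obtain ⟨j, hj, rfl⟩ := (Nat.dvd_prime_pow hp).mp hnd
    rw [← pow_mul] at hdvd
    have hle : j * Nat.totient m ≤ 2 := (Nat.pow_dvd_pow_iff_le_right hp.one_lt).mp hdvd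
    have hp2 : 2 ≤ p := hp.two_le
    -- analyse
    have hj0 : j ≠ 0 ∨ True := Or.inr trivial
    refine ⟨?_, ?_, ?_, ?_⟩
    · intro h5
      exfalso
      interval_cases j
      · simp at h5
      · -- n = p, totient ≤ 2
        rw [hφ] at hle
        have : p - 1 ≤ 2 := by
          have : 1 ≤ p ^ k := Nat.one_le_pow _ _ hp.pos
          nlinarith
        simp at h5
        omega
      · -- n = p^2, totient ≤ 1
        rw [hφ] at hle
        have : p - 1 ≤ 1 := by
          have : 1 ≤ p ^ k := Nat.one_le_pow _ _ hp.pos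
          nlinarith
        have hp2' : p = 2 := by omega
        subst hp2'
        norm_num at h5
    · intro h4
      -- p^j = 4
      have hp2' : p = 2 ∧ j = 2 := by
        interval_cases j
        · simp at h4
        · simp at h4; subst h4; exact absurd hp (by decide)
        · have : p = 2 := by nlinarith
          exact ⟨this, rfl⟩
      obtain ⟨rfl, rfl⟩ := hp2'
      rw [hφ] at hle
      have hk : k = 0 := by
        by_contra hk
        have : 2 ≤ 2 ^ k := by
          calc 2 = 2 ^ 1 := rfl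
            _ ≤ 2 ^ k := Nat.pow_le_pow_right (by norm_num) (Nat.one_le_iff_ne_zero.mpr hk)
        omega
      subst hk
      rw [← hpk] at hαm
      simpa using hαm
    · intro h3
      have hp3 : p = 3 ∧ j = 1 := by
        interval_cases j
        · simp at h3
        · simp at h3; exact ⟨h3, rfl⟩
        · exfalso
          have : p < 2 := by nlinarith
          omega
      obtain ⟨rfl, rfl⟩ := hp3
      rw [hφ] at hle
      have hk : k = 0 := by
        by_contra hk
        have : 3 ≤ 3 ^ k := by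
          calc 3 = 3 ^ 1 := rfl
            _ ≤ 3 ^ k := Nat.pow_le_pow_right (by norm_num) (Nat.one_le_iff_ne_zero.mpr hk)
        omega
      subst hk
      rw [← hpk] at hαm
      simpa using hαm
    · intro h2
      have hp2'' : p = 2 ∧ j = 1 := by
        interval_cases j
        · simp at h2
        · simp at h2; exact ⟨h2, rfl⟩
        · exfalso
          have : p < 2 := by nlinarith
          omega
      obtain ⟨rfl, rfl⟩ := hp2''
      rw [hφ] at hle
      have hk : k ≤ 1 := by
        by_contra hk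
        have : 4 ≤ 2 ^ k := by
          calc 4 = 2 ^ 2 := rfl
            _ ≤ 2 ^ k := Nat.pow_le_pow_right (by norm_num) (by omega)
        omega
      interval_cases k
      · rw [← hpk] at hαm
        have : α ^ 2 = 1 := by simpa using hαm
        calc α ^ 4 = (α ^ 2) ^ 2 := by ring
          _ = 1 := by rw [this, one_pow]
      · rw [← hpk] at hαm
        simpa using hαm
  · -- not a prime power
    have hev : eval 1 (cyclotomic m O) = 1 := by
      apply eval_one_cyclotomic_not_prime_pow
      intro p hp k hpk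
      exact hpp ⟨p, k, hp, hpk⟩
    rw [hev, one_pow] at hkey
    have hdvd : n ^ Nat.totient m ∣ 1 := by
      apply T598.nat_dvd_of_cast_dvd (O := O) _ _ (pow_pos hn _) hOpow
      simpa using hkey
    have hn1 : n = 1 := by
      have := Nat.dvd_one.mp hdvd
      exact (Nat.pow_eq_one.mp this).resolve_right hφpos.ne'
    subst hn1
    refine ⟨fun h => ?_, fun h => ?_, fun h => ?_, fun h => ?_⟩ <;> omega

end Groth.Agent.S18598
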