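import Groth.Statements.S18600
import Mathlib
-- import your own Groth.Agent.* helpers here

set_option autoImplicit false
universe v
open SSRed

namespace Groth.Agent.S18600

section
open Polynomial Matrix

variable {R : Type*} [CommRing R] {ι : Type*} [Fintype ι] [DecidableEq ι]

lemma det_comp (N : Matrix ι ι R[X]) (q : R[X]) :
    (det N).comp q = det (N.map (fun p => p.comp q)) := by
  have h := RingHom.map_det (Polynomial.compRingHom q) N
  rw [RingHom.mapMatrix_apply] at h
  exact h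

lemma charpoly_smul_comp (c : R) (M : Matrix ι ι R) :
    (charpoly (c • M)).comp (C c * X) = C (c ^ Fintype.card ι) * charpoly M := by
  rw [charpoly, det_comp]
  have h : (charmatrix (c • M)).map (fun p => p.comp (C c * X)) = (C c) • charmatrix M := by
    ext i j : 1
    rw [Matrix.map_apply, Matrix.smul_apply, charmatrix_apply, charmatrix_apply, smul_eq_mul]
    by_cases hij : i = j
    · subst hij
      simp [mul_sub]
    · simp [hij, mul_sub]
  rw [h, Matrix.det_smul, charpoly, C_pow]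

lemma coeff_charpoly_smul [IsDomain R] (c : R) (hc : c ≠ 0) (M : Matrix ι ι R) (k : ℕ)
    (hk : k ≤ Fintype.card ι) :
    (charpoly (c • M)).coeff k = c ^ (Fintype.card ι - k) * (charpoly M).coeff k := by
  have h := congrArg (fun p => p.coeff k) (charpoly_smul_comp c M)
  simp only [comp_C_mul_X_coeff, ← C_pow, coeff_C_mul] at h
  have h2 : c ^ Fintype.card ι = c ^ (Fintype.card ι - k) * c ^ k := by
    rw [← pow_add, Nat.sub_add_cancel hk]
  rw [h2] at h
  have h3 : c ^ k ≠ 0 := pow_ne_zero _ hc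
  apply mul_right_cancel₀ h3
  rw [h]
  ring


lemma charmatrix_eq (M : Matrix ι ι R) :
    charmatrix M = (X : R[X]) • (1 : Matrix ι ι R[X]) - M.map C := by
  ext i j : 1
  rw [charmatrix_apply, Matrix.sub_apply, Matrix.smul_apply, Matrix.map_apply, Matrix.one_apply,
    Matrix.diagonal_apply]
  split_ifs <;> simp

lemma expand_charpoly_sq (N : Matrix ι ι R) :
    expand R 2 (charpoly (N * N)) = charpoly N * charpoly (-N) := by
  rw [expand_eq_comp_X_pow, charpoly, det_comp, charpoly, charpoly, ← Matrix.det_mul]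
  congr 1
  rw [charmatrix_eq N, charmatrix_eq (-N)]
  have h1 : (charmatrix (N * N)).map (fun p => p.comp (X ^ 2)) =
      ((X : R[X]) ^ 2) • (1 : Matrix ι ι R[X]) - (N.map C) * (N.map C) := by
    ext i j : 1
    rw [Matrix.map_apply, charmatrix_apply, Matrix.sub_apply, Matrix.smul_apply, Matrix.one_apply,
      Matrix.diagonal_apply, ← Matrix.map_mul, Matrix.map_apply]
    split_ifs <;> simp
  rw [h1]
  have h2 : (-N).map (C : R → R[X]) = -(N.map C) := by
    ext i j : 1
    simp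
  rw [h2, sub_neg_eq_add]
  simp only [sub_mul, mul_add, smul_mul_assoc, mul_smul_comm, one_mul, mul_one, smul_smul,
    smul_add, smul_sub]
  rw [pow_two]
  abel

lemma charpoly_neg' (N : Matrix ι ι R) :
    charpoly (-N) = C ((-1) ^ Fintype.card ι) * (charpoly N).comp (-X) := by
  have h := charpoly_smul_comp (-1 : R) N
  rw [neg_one_smul] at h
  have h2 := congrArg (fun p => p.comp (-X)) h
  simp only [mul_comp, C_comp] at h2
  rw [← h2, comp_assoc]
  have : (C (-1 : R) * X).comp (-X) = X := by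
    simp
  rw [this, comp_X]


section poly
variable {S : Type*} [CommRing S]

/-- the even polynomial `(-1)^g f(1+X) f(1-X)` -/
noncomputable def PP (g : ℕ) (f : S[X]) : S[X] :=
  (-1) ^ g * f.comp (X + 1) * f.comp (1 - X)

lemma PP_map {T : Type*} [CommRing T] (φ : S →+* T) (g : ℕ) (f : S[X]) :
    (PP g f).map φ = PP g (f.map φ) := by
  simp only [PP, Polynomial.map_mul, Polynomial.map_comp, Polynomial.map_add, Polynomial.map_sub,
    Polynomial.map_one, Polynomial.map_X, Polynomial.map_pow, Polynomial.map_neg]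

lemma PP_even (g : ℕ) (f : S[X]) : (PP g f).comp (-X) = PP g f := by
  simp only [PP, mul_comp, pow_comp, neg_comp, comp_assoc, add_comp, sub_comp, X_comp, one_comp]
  have h1 : (-X + 1 : S[X]) = 1 - X := by ring
  have h2 : (1 - -X : S[X]) = X + 1 := by ring
  rw [h1, h2]
  ring

lemma PP_coeff_odd (g : ℕ) (f : ℤ[X]) (k : ℕ) (hk : ¬ 2 ∣ k) : (PP g f).coeff k = 0 := by
  have h := congrArg (fun p => p.coeff k) (PP_even g f)
  have h1 : (-X : ℤ[X]) = C (-1) * X := by simp
  simp only [h1, comp_C_mul_X_coeff] at h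
  have hodd : Odd k := Nat.odd_iff.mpr (by omega)
  rw [hodd.neg_one_pow] at h
  linarith

/-- the polynomial `h` with `h(X²) = P(X)` -/
noncomputable def hh (g : ℕ) (f : ℤ[X]) : ℤ[X] := contract 2 (PP g f)

lemma expand_hh (g : ℕ) (f : ℤ[X]) : expand ℤ 2 (hh g f) = PP g f := by
  ext k
  rw [coeff_expand (by norm_num : 0 < 2)]
  split_ifs with h
  · rw [hh, coeff_contract (by norm_num : (2:ℕ) ≠ 0), Nat.div_mul_cancel h]
  · exact (PP_coeff_odd g f k h).symm

end poly


section step3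
variable {R : Type*} [CommRing R]

lemma expand_charpoly_sub_one_sq (g : ℕ) (A : Matrix (Fin g) (Fin g) R) :
    expand R 2 (charpoly ((A - 1) * (A - 1))) = PP g (charpoly A) := by
  rw [expand_charpoly_sq, charpoly_neg']
  have h1 : (A - 1 : Matrix (Fin g) (Fin g) R) = A - Matrix.scalar (Fin g) (1 : R) := by
    rw [map_one]
  rw [h1, Matrix.charpoly_sub_scalar, Fintype.card_fin, PP]
  simp only [map_one, comp_assoc, add_comp, X_comp, one_comp, C_comp, map_pow, map_neg]
  have h2 : (-X + 1 : R[X]) = 1 - X := by ring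
  rw [h2]
  ring

lemma coeff_of_expand_eq [IsDomain R] (g : ℕ) (A B : Matrix (Fin g) (Fin g) R) (c : R)
    (hc : c ≠ 0) (hAB : (A - 1) ^ 2 = c • B) (q : R[X])
    (hq : expand R 2 q = PP g (charpoly A)) (k : ℕ) (hk : k ≤ g) :
    q.coeff k = c ^ (g - k) * (charpoly B).coeff k := by
  have h1 : q = charpoly (c • B) := by
    apply expand_injective (by norm_num : 0 < 2)
    rw [hq, ← hAB, pow_two, expand_charpoly_sub_one_sq]
  rw [h1]
  have := coeff_charpoly_smul c hc B k (by rw [Fintype.card_fin]; exact hk)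
  rw [Fintype.card_fin] at this
  exact this

end step3


section step4

lemma dvd_of_padic (a : ℕ) (ha : 0 < a) (b : ℤ)
    (H : ∀ (ℓ : ℕ) [Fact ℓ.Prime], ℓ ∣ a → ((a : ℤ) : ℤ_[ℓ]) ∣ (b : ℤ_[ℓ])) : (a : ℤ) ∣ b := by
  by_cases hb : b = 0
  · rw [hb]; exact dvd_zero _
  have hb' : b.natAbs ≠ 0 := Int.natAbs_ne_zero.mpr hb
  rw [← Int.natAbs_dvd_natAbs, Int.natAbs_natCast]
  rw [← Nat.factorization_le_iff_dvd ha.ne' hb']
  intro ℓ
  by_cases hℓ : ℓ.Prime
  · haveI : Fact ℓ.Prime := ⟨hℓ⟩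
    by_cases hk : a.factorization ℓ = 0
    · rw [hk]; exact Nat.zero_le _
    · have hℓa : ℓ ∣ a := Nat.dvd_of_factorization_pos hk
      rw [← hℓ.pow_dvd_iff_le_factorization hb']
      have h1 : ℓ ^ a.factorization ℓ ∣ a := Nat.ordProj_dvd a ℓ
      have h2 : ((ℓ : ℤ_[ℓ]) ^ a.factorization ℓ) ∣ ((a : ℤ) : ℤ_[ℓ]) := by
        obtain ⟨c, hc⟩ := h1
        refine ⟨(c : ℤ_[ℓ]), ?_⟩
        conv_lhs => rw [hc]
        push_cast
        rfl
      have h3 := (PadicInt.pow_p_dvd_int_iff (p := ℓ) (a.factorization ℓ) b).mp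
        (h2.trans (H ℓ hℓa))
      rw [← Int.natAbs_dvd_natAbs] at h3
      simpa [Int.natAbs_pow] using h3
  · rw [Nat.factorization_eq_zero_of_not_prime a hℓ]
    exact Nat.zero_le _

end step4


section final

lemma eq_charpoly_of_expand_eq {R : Type*} [CommRing R] (g : ℕ) (A B : Matrix (Fin g) (Fin g) R)
    (c : R) (hAB : (A - 1) ^ 2 = c • B) (q : R[X])
    (hq : expand R 2 q = PP g (charpoly A)) : q = charpoly (c • B) := by
  apply expand_injective (by norm_num : 0 < 2)
  rw [hq, ← hAB, pow_two, expand_charpoly_sub_one_sq]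

lemma aeval_PP {K : Type*} [Field K] (g : ℕ) (f : ℤ[X]) (α : K) (hα : aeval α f = 0) :
    aeval (α - 1) (PP g f) = 0 := by
  rw [PP, map_mul, map_mul, aeval_comp]
  have : aeval (α - 1) (X + 1 : ℤ[X]) = α := by simp
  rw [this, hα, mul_zero, zero_mul]

theorem main (n : ℕ) (hn : 0 < n) (g : ℕ) (f : Polynomial ℤ)
    (hf : f.Monic)
    (hA : ∀ (ℓ : ℕ) [Fact ℓ.Prime], ℓ ∣ n → ∃ A : Matrix (Fin g) (Fin g) ℤ_[ℓ],
      A.charpoly = f.map (Int.castRingHom ℤ_[ℓ]) ∧
        ∃ B : Matrix (Fin g) (Fin g) ℤ_[ℓ], (A - 1) ^ 2 = (n : ℤ_[ℓ]) • B)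
    (K : Type v) [Field K] [CharZero K] (α s : K) (hα : Polynomial.aeval α f = 0) (hs : s ^ 2 = (n : K)) :
    IsIntegral ℤ ((α - 1) / s) := by
  have hαint : IsIntegral ℤ α := ⟨f, hf, hα⟩
  by_cases hn1 : n = 1
  · subst hn1
    rw [Nat.cast_one, pow_two, mul_self_eq_one_iff] at hs
    rcases hs with rfl | rfl
    · rw [div_one]
      exact hαint.sub isIntegral_one
    · rw [div_neg, div_one]
      exact (hαint.sub isIntegral_one).neg
  obtain ⟨ℓ₀, hℓ₀, hℓ₀n⟩ := Nat.exists_prime_and_dvd hn1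
  set h := hh g f with hh_def
  -- divisibility of coefficients
  have hdiv : ∀ k, k ≤ g → ((n ^ (g - k) : ℕ) : ℤ) ∣ h.coeff k := by
    intro k hk
    apply dvd_of_padic (n ^ (g - k)) (pow_pos hn _)
    intro ℓ _ hℓ
    have hℓn : ℓ ∣ n := (Nat.Prime.dvd_of_dvd_pow Fact.out hℓ)
    obtain ⟨A, hAf, B, hAB⟩ := hA ℓ hℓn
    have hq : expand ℤ_[ℓ] 2 (h.map (Int.castRingHom ℤ_[ℓ])) = PP g (charpoly A) := by
      rw [← map_expand, expand_hh, PP_map, hAf]
    have hn0 : (n : ℤ_[ℓ]) ≠ 0 := Nat.cast_ne_zero.mpr hn.ne'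
    have h1 := coeff_of_expand_eq g A B (n : ℤ_[ℓ]) hn0 hAB _ hq k hk
    rw [coeff_map] at h1
    refine ⟨(charpoly B).coeff k, ?_⟩
    rw [eq_intCast] at h1
    rw [h1]
    push_cast
    rfl
  -- h is monic of degree g
  haveI : Fact ℓ₀.Prime := ⟨hℓ₀⟩
  obtain ⟨A₀, hAf₀, B₀, hAB₀⟩ := hA ℓ₀ hℓ₀n
  have hq₀ : expand ℤ_[ℓ₀] 2 (h.map (Int.castRingHom ℤ_[ℓ₀])) = PP g (charpoly A₀) := by
    rw [← map_expand, expand_hh, PP_map, hAf₀]
  have hcp := eq_charpoly_of_expand_eq g A₀ B₀ _ hAB₀ _ hq₀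
  have hmon : ((n : ℤ_[ℓ₀]) • B₀).charpoly.Monic := Matrix.charpoly_monic _
  have hdeg : ((n : ℤ_[ℓ₀]) • B₀).charpoly.natDegree = g := by
    rw [Matrix.charpoly_natDegree_eq_dim, Fintype.card_fin]
  have hinj : Function.Injective (Int.castRingHom ℤ_[ℓ₀]) := by
    intro a b hab
    simpa using hab
  have hcoeffg : h.coeff g = 1 := by
    apply hinj
    rw [← coeff_map, hcp, map_one]
    have := hmon.coeff_natDegree
    rw [hdeg] at this
    exact this
  have hcoeffgt : ∀ k, g < k → h.coeff k = 0 := by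
    intro k hk
    apply hinj
    rw [← coeff_map, hcp, map_zero]
    exact coeff_eq_zero_of_natDegree_lt (by rw [hdeg]; exact hk)
  have hnatdeg : h.natDegree < g + 1 := by
    rw [Nat.lt_succ_iff, natDegree_le_iff_coeff_eq_zero]
    exact hcoeffgt
  -- the integral polynomial
  set χ : ℤ[X] := ∑ k ∈ Finset.range (g + 1), C (h.coeff k / ((n ^ (g - k) : ℕ) : ℤ)) * X ^ k with hχ
  have hχmonic : χ.Monic := by
    apply monic_of_natDegree_le_of_coeff_eq_one g
    · rw [hχ]
      apply natDegree_sum_le_of_forall_le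
      intro k hk
      exact le_trans (natDegree_C_mul_X_pow_le _ _) (Nat.lt_succ_iff.mp (Finset.mem_range.mp hk))
    · rw [hχ, finsetSum_coeff]
      simp only [coeff_C_mul_X_pow]
      rw [Finset.sum_ite_eq]
      rw [if_pos (Finset.mem_range.mpr (Nat.lt_succ_self g)), Nat.sub_self, pow_zero, Nat.cast_one,
        Int.ediv_one, hcoeffg]
  set γ : K := (α - 1) ^ 2 / (n : K) with hγ
  have hnK : (n : K) ≠ 0 := Nat.cast_ne_zero.mpr hn.ne'
  have hχγ : aeval γ χ = 0 := by
    have h1 : (n : K) ^ g * aeval γ χ = aeval ((α - 1) ^ 2) h := by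
      rw [aeval_eq_sum_range' hnatdeg, hχ, map_sum, Finset.mul_sum]
      refine Finset.sum_congr rfl (fun k hk => ?_)
      have hk' : k ≤ g := Nat.lt_succ_iff.mp (Finset.mem_range.mp hk)
      obtain ⟨c, hc⟩ := hdiv k hk'
      have hpos : ((n ^ (g - k) : ℕ) : ℤ) ≠ 0 := by
        exact_mod_cast (pow_pos hn _).ne'
      rw [hc, Int.mul_ediv_cancel_left _ hpos]
      simp only [map_mul, map_pow, aeval_C, aeval_X, zsmul_eq_mul, Int.cast_mul, Int.cast_natCast,
        Nat.cast_pow, eq_intCast, Int.cast_pow, map_intCast]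
      rw [hγ, div_pow]
      have h2 : (n : K) ^ g = (n : K) ^ (g - k) * (n : K) ^ k := by
        rw [← pow_add, Nat.sub_add_cancel hk']
      rw [h2]
      field_simp
    have h2 : aeval ((α - 1) ^ 2) h = 0 := by
      rw [← expand_aeval, expand_hh]
      exact aeval_PP g f α hα
    rw [h2] at h1
    rcases mul_eq_zero.mp h1 with h3 | h3
    · exact absurd h3 (pow_ne_zero _ hnK)
    · exact h3
  have hγint : IsIntegral ℤ γ := ⟨χ, hχmonic, hχγ⟩
  apply IsIntegral.of_pow (by norm_num : 0 < 2)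
  rw [div_pow, hs]
  exact hγint

end final

end

/-- Let n be a positive integer, g a natural number and f ∈ ℤ[x] a monic polynomial such that for every
prime ℓ dividing n there is a g × g matrix A_ℓ over ℤ_ℓ whose characteristic polynomial is f and
such that (A_ℓ − 1)² lies in n·M_g(ℤ_ℓ). Then for every root α of f in a field of characteristic
zero and every square root s of n in that field, (α − 1)/s is integral over ℤ. (The published
statement is for matrices of size 2d and speaks of the eigenvalues of the A_ℓ, which are the roots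
of their common characteristic polynomial f; the parity of the size plays no role.) -/
theorem result (n : ℕ) (hn : 0 < n) (g : ℕ) (f : Polynomial ℤ)
    (hf : f.Monic)
    (hA : ∀ (ℓ : ℕ) [Fact ℓ.Prime], ℓ ∣ n → ∃ A : Matrix (Fin g) (Fin g) ℤ_[ℓ],
      A.charpoly = f.map (Int.castRingHom ℤ_[ℓ]) ∧
        ∃ B : Matrix (Fin g) (Fin g) ℤ_[ℓ], (A - 1) ^ 2 = (n : ℤ_[ℓ]) • B)
    (K : Type v) [Field K] [CharZero K] (α s : K) (hα : Polynomial.aeval α f = 0) (hs : s ^ 2 = (n : K)) :
    IsIntegral ℤ ((α - 1) / s) := by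
  exact Groth.Agent.S18600.main n hn g f hf hA K α s hα hs

end Groth.Agent.S18600
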