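import Groth.Statements.S18614
-- import your own Groth.Agent.* helpers here
import Mathlib

set_option autoImplicit false
universe u v
open LinTop

namespace Groth.Agent.S18614

theorem lt_cont (k : Type*) (M : Type*) [Field k]
    [TopologicalSpace k] [DiscreteTopology k] [AddCommGroup M] [Module k M] [TopologicalSpace M]
    [IsTopologicalAddGroup M] (φ : M →ₗ[k] k) (U : Submodule k M) (hU : (U : Set M) ∈ nhds (0 : M))
    (h : U ≤ LinearMap.ker φ) : Continuous φ := by
  apply continuous_of_continuousAt_zero φ.toAddMonoidHom
  rw [ContinuousAt]
  intro V hV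
  rw [Filter.mem_map]
  refine Filter.mem_of_superset hU ?_
  intro u hu
  have : φ u = 0 := h hu
  simp only [LinearMap.toAddMonoidHom_coe, Set.mem_preimage, this]
  have := mem_of_mem_nhds hV
  simpa using this


/-- Let k be a field carrying the discrete topology and M a separated topological k-module with a
k-linear topology (the open k-submodules form a basis of neighbourhoods of zero and M is a
topological additive group). For a closed submodule M₁, the perpendicular of the perpendicular of
M₁, both taken with respect to the pairing of M with its continuous dual (the continuous k-linear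
maps M → k), is M₁ itself: an element killed by every continuous functional vanishing on M₁ belongs
to M₁. -/
theorem result (k : Type u) (M : Type v) [Field k]
    [TopologicalSpace k] [DiscreteTopology k] [AddCommGroup M] [Module k M] [TopologicalSpace M]
    [IsTopologicalAddGroup M] [IsLinearTopology k M] [T2Space M]
    (M₁ : Submodule k M) (hM₁ : IsClosed (M₁ : Set M)) (x : M)
    (hx : ∀ φ : M →L[k] k, (∀ m ∈ M₁, φ m = 0) → φ x = 0) : x ∈ M₁ := by
  by_contra hxM
  -- the set {y | x + y ∉ M₁} is a neighbourhood of 0
  have hnhd : {y : M | x + y ∉ M₁} ∈ nhds (0 : M) := by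
    have hcont : Continuous (fun y : M => x + y) := continuous_const.add continuous_id
    have hopen : IsOpen {y : M | x + y ∉ M₁} := hM₁.isOpen_compl.preimage hcont
    exact hopen.mem_nhds (by simpa using hxM)
  obtain ⟨U, hU, hUsub⟩ := (IsLinearTopology.hasBasis_submodule k).mem_iff.mp hnhd
  -- x ∉ M₁ ⊔ U
  have hxN : x ∉ M₁ ⊔ U := by
    intro hmem
    obtain ⟨m, hm, u, hu, hmu⟩ := Submodule.mem_sup.mp hmem
    have h1 : -u ∈ U := U.neg_mem hu
    have h2 := hUsub h1
    apply h2
    have : x + -u = m := by rw [← hmu]; abel
    rw [this]; exact hm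
  obtain ⟨f, hfx, hfN⟩ := Submodule.exists_dual_map_eq_bot_of_notMem hxN inferInstance
  have hker : M₁ ⊔ U ≤ LinearMap.ker f := by
    intro y hy
    have : f y ∈ (M₁ ⊔ U).map f := ⟨y, hy, rfl⟩
    rw [hfN] at this
    simpa using this
  have hcont : Continuous f := lt_cont k M f U hU (le_trans le_sup_right hker)
  have := hx ⟨f, hcont⟩ (fun m hm => hker (le_sup_left (a := M₁) (b := U) hm))
  exact hfx this

end Groth.Agent.S18614
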