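import Groth.Statements.S18615
-- import your own Groth.Agent.* helpers here
import Mathlib

set_option autoImplicit false
universe u v
open LinTop

namespace Groth.Agent.S18615

theorem lt_cont (k : Type*) (M : Type*) [Field k]
    [TopologicalSpace k] [DiscreteTopology k] [AddCommGroup M] [Module k M] [TopologicalSpace M]
    [IsTopologicalAddGroup M] (φ : M →ₗ[k] k) (U : Submodule k M) (hU : (U : Set M) ∈ nhds (0 : M))
    (h : U ≤ LinearMap.ker φ) : Continuous φ := by
  apply continuous_of_continuousAt_zero φ.toAddMonoidHom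
  rw [ContinuousAt]
  intro V hV
  rw [Filter.mem_map]
  refine Filter.mem_of_superset hU ?_
  intro u hu
  have : φ u = 0 := h hu
  simp only [LinearMap.toAddMonoidHom_coe, Set.mem_preimage, this]
  have := mem_of_mem_nhds hV
  simpa using this


/-- Let k be a field carrying the discrete topology and M a separated topological k-module with a
k-linear topology (open k-submodules form a basis of neighbourhoods of zero, M a topological
additive group). For closed submodules M₁ ⊆ M₂ there is a short exact sequence 0 → M₂^⊥ → M₁^⊥ →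
(M₂/M₁)^* → 0 of plain k-modules, where ⊥ denotes the annihilator in the continuous dual of M and *
the continuous dual. Stated here as its one non-formal part, surjectivity on the right: every
continuous functional on M₂ (subspace topology) that vanishes on M₁ is the restriction of a
continuous functional on M vanishing on M₁ (continuous functionals on M₂/M₁ being the continuous
functionals on M₂ that kill M₁). -/
theorem result (k : Type u) (M : Type v) [Field k]
    [TopologicalSpace k] [DiscreteTopology k] [AddCommGroup M] [Module k M] [TopologicalSpace M]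
    [IsTopologicalAddGroup M] [IsLinearTopology k M] [T2Space M]
    (M₁ M₂ : Submodule k M) (h₁₂ : M₁ ≤ M₂) (hM₁ : IsClosed (M₁ : Set M))
    (hM₂ : IsClosed (M₂ : Set M)) (ψ : M₂ →L[k] k)
    (hψ : ∀ m : M₂, (m : M) ∈ M₁ → ψ m = 0) :
    ∃ φ : M →L[k] k, (∀ m ∈ M₁, φ m = 0) ∧ ∀ m : M₂, φ (m : M) = ψ m := by
  -- ker ψ is a neighbourhood of 0 in M₂
  have hker : {m : M₂ | ψ m = 0} ∈ nhds (0 : M₂) := by
    have : IsOpen {m : M₂ | ψ m = 0} := (isOpen_discrete ({0} : Set k)).preimage ψ.continuous
    exact this.mem_nhds (by simp)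
  rw [nhds_subtype_eq_comap, Filter.mem_comap] at hker
  obtain ⟨V, hV, hVsub⟩ := hker
  obtain ⟨U, hU, hUV⟩ := (IsLinearTopology.hasBasis_submodule k).mem_iff.mp hV
  have hUker : ∀ m : M₂, (m : M) ∈ U → ψ m = 0 := fun m hm => hVsub (hUV hm)
  -- g : M₂ → M ⧸ U
  let g : M₂ →ₗ[k] (M ⧸ U) := U.mkQ.comp M₂.subtype
  have hgker : LinearMap.ker g ≤ LinearMap.ker (ψ : M₂ →ₗ[k] k) := by
    intro m hm
    rw [LinearMap.mem_ker] at hm ⊢
    have : (m : M) ∈ U := by
      simpa [g, Submodule.Quotient.mk_eq_zero] using hm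
    exact hUker m this
  let ψbar : (M₂ ⧸ LinearMap.ker g) →ₗ[k] k := (LinearMap.ker g).liftQ (ψ : M₂ →ₗ[k] k) hgker
  let gbar : (M₂ ⧸ LinearMap.ker g) →ₗ[k] (M ⧸ U) := (LinearMap.ker g).liftQ g le_rfl
  have hginj : Function.Injective gbar := by
    rw [← LinearMap.ker_eq_bot]
    exact Submodule.ker_liftQ_eq_bot _ _ _ le_rfl
  obtain ⟨r, hr⟩ := LinearMap.exists_leftInverse_of_injective gbar (LinearMap.ker_eq_bot.mpr hginj)
  let φ : M →ₗ[k] k := ψbar.comp (r.comp U.mkQ)
  have hφU : U ≤ LinearMap.ker φ := by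
    intro u hu
    rw [LinearMap.mem_ker]
    simp only [φ, LinearMap.comp_apply]
    have : U.mkQ u = 0 := by simpa [Submodule.Quotient.mk_eq_zero] using hu
    rw [this, map_zero, map_zero]
  have hφM₂ : ∀ m : M₂, φ (m : M) = ψ m := by
    intro m
    have h1 : U.mkQ (m : M) = gbar ((LinearMap.ker g).mkQ m) := by
      simp [gbar, g]
    simp only [φ, LinearMap.comp_apply]
    rw [h1]
    have h2 : r (gbar ((LinearMap.ker g).mkQ m)) = (LinearMap.ker g).mkQ m := by
      have := LinearMap.congr_fun hr ((LinearMap.ker g).mkQ m)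
      simpa using this
    rw [h2]
    simp [ψbar]
  refine ⟨⟨φ, lt_cont k M φ U hU hφU⟩, ?_, hφM₂⟩
  intro m hm
  have := hφM₂ ⟨m, h₁₂ hm⟩
  simp only [ContinuousLinearMap.coe_mk'] at this ⊢
  rw [this]
  exact hψ ⟨m, h₁₂ hm⟩ hm

end Groth.Agent.S18615
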