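import Groth.Statements.S18616
import Mathlib
import Groth.Agent.Lib.Helper23.DRLieG

set_option autoImplicit false
universe u
open DeRham

namespace Groth.Agent.S18616

set_option linter.style.haveILetI false
set_option linter.unusedVariables false
set_option linter.unusedSectionVars false
open exteriorPower
open Groth.Agent.Helper23.DRContr Groth.Agent.Helper23.DRLieG

section PS
variable {k : Type u} [Field k] [CharZero k] {σ : Type u} [Fintype σ]

/-- the contraction with the Euler vector field -/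
noncomputable def θ : Module.Dual (MvPowerSeries σ k) (σ → MvPowerSeries σ k) :=
  ∑ i, (MvPowerSeries.X i : MvPowerSeries σ k) • LinearMap.proj i

theorem θ_apply (v : σ → MvPowerSeries σ k) :
    θ v = ∑ i, (MvPowerSeries.X i : MvPowerSeries σ k) * v i := by
  simp [θ]

theorem coeff_X_mul_pderiv (i : σ) (f : MvPowerSeries σ k) (m : σ →₀ ℕ) :
    MvPowerSeries.coeff m (MvPowerSeries.X i * MvPowerSeries.pderiv k i f) =
      (m i : k) * MvPowerSeries.coeff m f := by
  classical
  rw [MvPowerSeries.X_def, MvPowerSeries.coeff_monomial_mul]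
  split_ifs with h
  · rw [one_mul, MvPowerSeries.coeff_pderiv]
    have h1 : 1 ≤ m i := by simpa using h i
    have h2 : m - Finsupp.single i 1 + Finsupp.single i 1 = m := tsub_add_cancel_of_le h
    rw [h2]
    have h3 : ((((m - Finsupp.single i 1 : σ →₀ ℕ) i : ℕ)) : k) + 1 = m i := by
      rw [Finsupp.tsub_apply, Finsupp.single_eq_same, Nat.cast_sub h1]
      simp
    rw [h3, mul_comm]
  · have h0 : m i = 0 := by
      by_contra h0
      apply h
      rw [Finsupp.single_le_iff]
      omega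
    rw [h0]
    simp

/-- the weight operator `f ↦ E f + q f` -/
noncomputable def Φ (q : ℕ) (f : MvPowerSeries σ k) : MvPowerSeries σ k :=
  ((q : ℕ) : MvPowerSeries σ k) * f + ∑ i, (MvPowerSeries.X i : MvPowerSeries σ k) *
    MvPowerSeries.pderiv k i f

theorem coeff_Φ (q : ℕ) (f : MvPowerSeries σ k) (m : σ →₀ ℕ) :
    MvPowerSeries.coeff m (Φ q f) = ((q : k) + ∑ i, (m i : k)) * MvPowerSeries.coeff m f := by
  unfold Φ
  rw [map_add, map_sum]
  simp only [coeff_X_mul_pderiv]
  rw [← Finset.sum_mul, add_mul]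
  congr 1
  have : ((q : ℕ) : MvPowerSeries σ k) = MvPowerSeries.C (q : k) := by
    simp
  rw [this, MvPowerSeries.coeff_C_mul]

/-- coefficientwise inverse of `Φ q` -/
noncomputable def T (q : ℕ) (f : MvPowerSeries σ k) : MvPowerSeries σ k :=
  fun m => MvPowerSeries.coeff m f / ((q : k) + ∑ i, (m i : k))

theorem coeff_T (q : ℕ) (f : MvPowerSeries σ k) (m : σ →₀ ℕ) :
    MvPowerSeries.coeff m (T q f) = MvPowerSeries.coeff m f / ((q : k) + ∑ i, (m i : k)) := rfl

theorem wt_ne_zero (q : ℕ) (hq : 0 < q) (m : σ →₀ ℕ) : ((q : k) + ∑ i, (m i : k)) ≠ 0 := by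
  have : ((q : k) + ∑ i, (m i : k)) = ((q + ∑ i, m i : ℕ) : k) := by push_cast; rfl
  rw [this, Nat.cast_ne_zero]
  omega

theorem Φ_T (q : ℕ) (hq : 0 < q) (f : MvPowerSeries σ k) : Φ q (T q f) = f := by
  ext m
  rw [coeff_Φ, coeff_T, mul_div_cancel₀ _ (wt_ne_zero q hq m)]

theorem Φ_eq_zero (q : ℕ) (hq : 0 < q) (f : MvPowerSeries σ k) (h : Φ q f = 0) : f = 0 := by
  ext m
  have := congrArg (MvPowerSeries.coeff m) h
  rw [coeff_Φ, map_zero, mul_eq_zero] at this
  rcases this with h1 | h1
  · exact absurd h1 (wt_ne_zero q hq m)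
  · rw [h1, map_zero]

theorem Φ_add (q : ℕ) (f g : MvPowerSeries σ k) : Φ q (f + g) = Φ q f + Φ q g := by
  ext m
  simp only [coeff_Φ, map_add, mul_add]

theorem Φ_zero (q : ℕ) : Φ q (0 : MvPowerSeries σ k) = 0 := by
  ext m
  simp only [coeff_Φ, map_zero, mul_zero]

theorem Φ_sum {ι : Type*} (q : ℕ) (s : Finset ι) (f : ι → MvPowerSeries σ k) :
    Φ q (∑ j ∈ s, f j) = ∑ j ∈ s, Φ q (f j) := by
  classical
  induction s using Finset.induction_on with
  | empty => simp [Φ_zero]
  | insert a s ha ih => rw [Finset.sum_insert ha, Finset.sum_insert ha, Φ_add, ih]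

end PS

section Main
open Set.powersetCard

variable {k : Type u} [Field k] [CharZero k] {σ : Type u} [Fintype σ] [LinearOrder σ]
  (δ : Derivation k (MvPowerSeries σ k) (σ → MvPowerSeries σ k))
  (hδ : ∀ (f : MvPowerSeries σ k) (i : σ), δ f i = MvPowerSeries.pderiv k i f)
  (hgen : Submodule.span (MvPowerSeries σ k) (Set.range δ) = ⊤)
  (d : ∀ p : ℕ, ↥(⋀[MvPowerSeries σ k]^p (σ → MvPowerSeries σ k)) →ₗ[k]
      ↥(⋀[MvPowerSeries σ k]^(p + 1) (σ → MvPowerSeries σ k)))
  (hd : DeRham.IsRule δ d)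

include hδ in
theorem δ_X (i : σ) : δ (MvPowerSeries.X i) = Pi.basisFun (MvPowerSeries σ k) σ i := by
  classical
  funext j
  rw [hδ, MvPowerSeries.pderiv_X, Pi.basisFun_apply]
  simp [Pi.single_apply, eq_comm]

include hδ in
theorem θ_δ (f : MvPowerSeries σ k) :
    θ (δ f) = ∑ i, (MvPowerSeries.X i : MvPowerSeries σ k) * MvPowerSeries.pderiv k i f := by
  rw [θ_apply]
  simp only [hδ]

include hδ in
theorem θ_δ_X (i : σ) :
    θ (δ (MvPowerSeries.X i)) = ((1 : ℕ) : MvPowerSeries σ k) * MvPowerSeries.X i := by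
  classical
  rw [θ_apply, δ_X δ hδ, Nat.cast_one, one_mul]
  simp [Pi.basisFun_apply, Pi.single_apply]

/-- the basis of the `q`-th exterior power -/
noncomputable def Bq (q : ℕ) : Module.Basis (Set.powersetCard σ q) (MvPowerSeries σ k)
    ↥(⋀[MvPowerSeries σ k]^q (σ → MvPowerSeries σ k)) :=
  (Pi.basisFun (MvPowerSeries σ k) σ).exteriorPower q

include hδ in
theorem Bq_eq (q : ℕ) (s : Set.powersetCard σ q) :
    Bq (k := k) q s = w δ q (fun j => MvPowerSeries.X (ofFinEmbEquiv.symm s j)) := by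
  unfold Bq w
  rw [basis_apply, ιMulti_family]
  congr 1
  funext j
  rw [Function.comp_apply, δ_X δ hδ]

include hδ hgen hd in
theorem LE_basis (q : ℕ) (f : MvPowerSeries σ k) (s : Set.powersetCard σ q) :
    LE d θ q (f • Bq (k := k) q s) = Φ q f • Bq (k := k) q s := by
  rw [Bq_eq δ hδ, LE_gen δ hgen d hd θ q f _ (fun _ => 1) (fun i => θ_δ_X δ hδ _), θ_δ δ hδ]
  unfold Φ
  simp only [Finset.sum_const, Finset.card_univ, Fintype.card_fin, smul_eq_mul, mul_one]
  rw [add_smul, mul_smul]

include hδ hgen hd in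
theorem LE_apply (q : ℕ) (ω : ↥(⋀[MvPowerSeries σ k]^q (σ → MvPowerSeries σ k))) :
    LE d θ q ω = ∑ s, Φ q ((Bq (k := k) q).repr ω s) • Bq (k := k) q s := by
  conv_lhs => rw [← (Bq (k := k) q).sum_repr ω]
  rw [map_sum]
  refine Finset.sum_congr rfl (fun s _ => ?_)
  exact LE_basis δ hδ hgen d hd q _ s

include hδ hgen hd in
theorem LE_surj (q : ℕ) (hq : 0 < q) (ω : ↥(⋀[MvPowerSeries σ k]^q (σ → MvPowerSeries σ k))) :
    ∃ η, LE d θ q η = ω := by
  refine ⟨∑ s, T q ((Bq (k := k) q).repr ω s) • Bq (k := k) q s, ?_⟩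
  rw [map_sum]
  conv_rhs => rw [← (Bq (k := k) q).sum_repr ω]
  refine Finset.sum_congr rfl (fun s _ => ?_)
  rw [LE_basis δ hδ hgen d hd q _ s, Φ_T q hq]

include hδ hgen hd in
theorem LE_inj (q : ℕ) (hq : 0 < q) (ω : ↥(⋀[MvPowerSeries σ k]^q (σ → MvPowerSeries σ k)))
    (h : LE d θ q ω = 0) : ω = 0 := by
  rw [LE_apply δ hδ hgen d hd] at h
  have h1 := Fintype.linearIndependent_iff.mp (Bq (k := k) q).linearIndependent _ h
  apply (Bq (k := k) q).ext_elem
  intro s
  rw [Φ_eq_zero q hq _ (h1 s)]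
  simp

include hδ hgen in
theorem main' (hd : DeRham.IsDiff δ d) (p : ℕ)
    (ω : ↥(⋀[MvPowerSeries σ k]^(p + 1) (σ → MvPowerSeries σ k))) (hω : d (p + 1) ω = 0) :
    ∃ η, d p η = ω := by
  obtain ⟨η, hη⟩ := LE_surj δ hδ hgen d hd.1 (p + 1) (Nat.succ_pos p) ω
  have h0 : LE d θ (p + 1 + 1) (d (p + 1) η) = 0 := by
    rw [LE_d d θ hd.2, hη, hω]
  have h1 : d (p + 1) η = 0 :=
    LE_inj δ hδ hgen d hd.1 (p + 1 + 1) (Nat.succ_pos _) _ h0
  have h2 : LE d θ (p + 1) η = d p (contr θ p η) + contr θ (p + 1) (d (p + 1) η) :=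
    LE_succ d θ p η
  rw [h1, LinearMap.map_zero, add_zero] at h2
  rw [hη] at h2
  exact ⟨_, h2.symm⟩

end Main

theorem main (k : Type u) [Field k] [CharZero k]
    (σ : Type u) [Finite σ]
    (δ : Derivation k (MvPowerSeries σ k) (σ → MvPowerSeries σ k))
    (hδ : ∀ (f : MvPowerSeries σ k) (i : σ), δ f i = MvPowerSeries.pderiv k i f)
    (hgen : Submodule.span (MvPowerSeries σ k) (Set.range δ) = ⊤)
    (d : ∀ p : ℕ, ↥(⋀[MvPowerSeries σ k]^p (σ → MvPowerSeries σ k)) →ₗ[k]
      ↥(⋀[MvPowerSeries σ k]^(p + 1) (σ → MvPowerSeries σ k)))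
    (hd : DeRham.IsDiff δ d) (p : ℕ) :
    DeRham.cocycles d (p + 1) ≤ DeRham.coboundaries d (p + 1) := by
  cases nonempty_fintype σ
  letI : LinearOrder σ := by
    classical
    exact linearOrderOfSTO WellOrderingRel
  intro ω hω
  exact main' δ hδ hgen d hd p ω hω

open exteriorPower in
/-- The formal Poincaré lemma. The published statement is that for a complete separated linearly
topologized commutative algebra K over a field k of characteristic zero the inclusion of the
separated de Rham complex of K into that of K[[t_1, ..., t_n]] is a quasi-isomorphism; this row is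
the case K = k in positive degrees. Concretely: k is a field of characteristic 0, σ is finite, A =
k[[σ]]; the separated differentials are modelled by the free A-module of functions σ → A (the
coordinate dt_i being the i-th basis vector) with the derivation δ whose components are the formal
partial derivatives, so that δ(A) generates it; d is any family of k-linear maps between consecutive
exterior powers of this module over A satisfying the de Rham rule with d ∘ d = 0. Then for every p ≥
1 the closed p-forms are exact. (Degree zero, that a power series with all partial derivatives zero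
is constant, is omitted.) -/
theorem result (k : Type u) [Field k] [CharZero k]
    (σ : Type u) [Finite σ]
    (δ : Derivation k (MvPowerSeries σ k) (σ → MvPowerSeries σ k))
    (hδ : ∀ (f : MvPowerSeries σ k) (i : σ), δ f i = MvPowerSeries.pderiv k i f)
    (hgen : Submodule.span (MvPowerSeries σ k) (Set.range δ) = ⊤)
    (d : ∀ p : ℕ, ↥(⋀[MvPowerSeries σ k]^p (σ → MvPowerSeries σ k)) →ₗ[k]
      ↥(⋀[MvPowerSeries σ k]^(p + 1) (σ → MvPowerSeries σ k)))
    (hd : DeRham.IsDiff δ d) (p : ℕ) :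
    DeRham.cocycles d (p + 1) ≤ DeRham.coboundaries d (p + 1) := by
  exact main k σ δ hδ hgen d hd p

end Groth.Agent.S18616
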