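import Groth.Statements.S18634
import Groth.Agent.Lib.Helper20.GrTw6

set_option autoImplicit false
universe u
open GrLC

namespace Groth.Agent.S18634


theorem result (R : Type u) [CommRing R] [IsNoetherianRing R] (𝒜 : ℤ → AddSubgroup R) [GradedRing 𝒜] (M : Type u) [AddCommGroup M] [Module R M] (ℳ : ℤ → AddSubgroup M) [DirectSum.Decomposition ℳ] [SetLike.GradedSMul 𝒜 ℳ] (hM : GrLC.IsStarInj 𝒜 ℳ) : CategoryTheory.HasInjectiveDimensionLT (ModuleCat.of R M) 2 := by
  exact Groth.Agent.Helper20.GrTw.hasInjectiveDimensionLT_two_of_isStarInj 𝒜 ℳ hM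

end Groth.Agent.S18634
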