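import Groth.Statements.S18642
import Groth.Agent.Lib.Helper20.GrDual6

set_option autoImplicit false
universe u
open GrLC

namespace Groth.Agent.S18642


theorem result (R : Type u) [CommRing R] [LocCoh.IsCohenMacaulayRing R] (𝒜 : ℤ → AddSubgroup R) [GradedRing 𝒜] (hpos : ∀ n : ℤ, n < 0 → 𝒜 n = ⊥) (h0 : IsField (GrLC.deg0 𝒜)) (m : HomogeneousIdeal 𝒜) (hm : GrLC.IsStarLocal 𝒜 m) (hmsp : m.toIdeal = Ideal.span (⋃ n ∈ Set.Ioi (0 : ℤ), (𝒜 n : Set R))) (hstd : Ideal.span (⋃ n ∈ Set.Ioi (0 : ℤ), (𝒜 n : Set R)) = Ideal.span ((𝒜 1 : AddSubgroup R) : Set R)) (n : ℕ) (hn : ringKrullDim R = n) (h2 : 2 ≤ n) (I : GrLC.StarInjRes 𝒜 𝒜) (q : ℕ) (hq : 0 < q) (R' : Type u) [CommRing R'] (𝒜' : ℤ → AddSubgroup R') [GradedRing 𝒜'] (φ : R' →+* R) (hφ : Function.Injective φ) (hdeg : ∀ j : ℤ, (𝒜' j).map (φ : R' →+ R) = 𝒜 (j * q)) [LocCoh.IsGorensteinRing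 R'] : LocCoh.IsGorensteinRing R ∧ ∃ a : ℤ, GrLC.endDeg (I.Hgr m n) = ((a : WithTop ℤ) : WithBot (WithTop ℤ)) ∧ (q : ℤ) ∣ a := by
  have h1 : ∀ (j : ℤ) (r' : R'), r' ∈ 𝒜' j → φ r' ∈ 𝒜 (j * q) := by
    intro j r' hr'
    rw [← hdeg j]
    exact AddSubgroup.mem_map_of_mem _ hr'
  have h2' : ∀ (j : ℤ) (r : R), r ∈ 𝒜 (j * q) → ∃ r' ∈ 𝒜' j, φ r' = r := by
    intro j r hr
    rw [← hdeg j] at hr
    exact AddSubgroup.mem_map.1 hr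
  haveI : IsNoetherianRing R := inferInstance
  exact Groth.Agent.Helper20.GrDual.isGorensteinRing_of_veronese_gorenstein hpos h0 m hm hmsp hstd
    n hn h2 I (⟨φ, q, hq, hφ, h1, h2'⟩ : Groth.Agent.Helper20.GrInj.VerRing 𝒜 𝒜')

end Groth.Agent.S18642
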