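import Groth.Statements.S18645
import Mathlib
import Groth.Agent.Lib.Helper23.AInv2
import Groth.Agent.Lib.Helper23.AInv3

set_option autoImplicit false
universe u
open GrLC

namespace Groth.Agent.S18645

set_option linter.style.haveILetI false
set_option linter.unusedVariables false
set_option linter.unusedSectionVars false
open Groth.Agent.Helper23.AInv Groth.Agent.Helper20.GrInj

theorem ne_zero_of_isRegular {R : Type u} [CommRing R] {t : ℕ} (f : Fin t → R)
    (hreg : RingTheory.Sequence.IsRegular R (List.ofFn f)) (i : Fin t) : f i ≠ 0 := by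
  intro h0
  have hi : (i : ℕ) < (List.ofFn f).length := by
    rw [List.length_ofFn]
    exact i.2
  have h1 := hreg.toIsWeaklyRegular.regular_mod_prev i hi
  have h2 : (List.ofFn f)[(i : ℕ)] = 0 := by
    rw [List.getElem_ofFn]
    exact h0
  rw [h2, IsSMulRegular.zero_iff_subsingleton] at h1
  have h3 : (Ideal.ofList (List.take (↑i) (List.ofFn f)) • (⊤ : Submodule R R)) = ⊤ :=
    Submodule.Quotient.subsingleton_iff.1 h1
  have h4 : Ideal.ofList (List.take (↑i) (List.ofFn f)) ≤ Ideal.ofList (List.ofFn f) := by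
    apply Ideal.span_mono
    intro r hr
    exact List.mem_of_mem_take hr
  have h5 : (Ideal.ofList (List.take (↑i) (List.ofFn f)) • (⊤ : Submodule R R)) ≤
      Ideal.ofList (List.ofFn f) • (⊤ : Submodule R R) := Submodule.smul_mono_left h4
  rw [h3] at h5
  exact hreg.top_ne_smul (le_antisymm h5 le_top)

theorem main (R : Type u) [CommRing R] [LocCoh.IsCohenMacaulayRing R] (𝒜 : ℤ → AddSubgroup R) [GradedRing 𝒜] (hpos : ∀ n : ℤ, n < 0 → 𝒜 n = ⊥) (h0 : IsField (GrLC.deg0 𝒜)) (m : HomogeneousIdeal 𝒜) (hm : GrLC.IsStarLocal 𝒜 m) (hmsp : m.toIdeal = Ideal.span (⋃ n ∈ Set.Ioi (0 : ℤ), (𝒜 n : Set R))) (n : ℕ) (hn : ringKrullDim R = n) (I : GrLC.StarInjRes 𝒜 𝒜) (t : ℕ) (htn : t ≤ n) (f : Fin t → R) (deg : Fin t → ℤ) (hfdeg : ∀ i, f i ∈ 𝒜 (deg i)) (hfm : ∀ i, f i ∈ m.toIdeal) (hreg : RingTheory.Sequence.IsRegular R (List.ofFn f)) (N : Type u) [AddCommGroup N] [Module R N] (𝒩 : ℤ → AddSubgroup N) [DirectSum.Decomposition 𝒩] [SetLike.GradedSMul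 𝒜 𝒩] (π : R →ₗ[R] N) (hπ : GrLC.IsGrHom 𝒜 𝒩 π) (hπs : Function.Surjective π) (hπk : LinearMap.ker π = Ideal.span (Set.range f)) (F : GrLC.StarInjRes 𝒜 𝒩) : GrLC.endDeg (F.Hgr m (n - t)) = GrLC.endDeg (I.Hgr m n) + ((((Finset.univ : Finset (Fin t)).sum deg : ℤ) : WithTop ℤ) : WithBot (WithTop ℤ)) := by
  have hnn : ∀ i, 0 ≤ deg i := by
    intro i
    by_contra hneg
    push Not at hneg
    have := hfdeg i
    rw [hpos _ hneg] at this
    exact ne_zero_of_isRegular f hreg i ((AddSubgroup.mem_bot).1 this)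
  have hvan : ∀ i < n, ∀ E : GrLC.StarInjRes 𝒜 (GrLC.GMod.of 𝒜 R 𝒜).gr, ∀ w : E.H m i, w = 0 :=
    fun i hi E => H_eq_zero_of_CM hpos m hm n hn E i hi
  have hπk' : LinearMap.ker π =
      Ideal.span (Set.range f) • (⊤ : Submodule R (GrLC.GMod.of 𝒜 R 𝒜).carrier) := by
    rw [hπk]
    exact (Ideal.mul_top _).symm
  exact (seq_main m t (GrLC.GMod.of 𝒜 R 𝒜) f deg hfdeg hnn hfm hreg.toIsWeaklyRegular n htn hvan
    (GrLC.GMod.of 𝒜 N 𝒩) π hπ hπs hπk' I F).2

/-- Let R be a graded ring defined over a field which is Cohen–Macaulay, of dimension n, and let f_1, …,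
f_t be an R-regular sequence of homogeneous elements of positive degrees d_1, …, d_t, with S =
R/(f_1, …, f_t). The canonical module of S is (K_R/(f_1, …, f_t)K_R)(d_1 + ⋯ + d_t); consequently —
this is the form stated here — the a-invariants satisfy a(S) = a(R) + d_1 + ⋯ + d_t, where a(S) is
the largest nonzero degree of H^{n−t}_m(S) and a(R) that of H^n_m(R), both graded local cohomologies
over R with support in m = R_+ computed from *injective resolutions in the graded category, and S is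
presented as a graded R-module N with a degree-preserving surjection π : R → N whose kernel is (f_1,
…, f_t). Here 'graded ring defined over a field' means R = ⊕_{n ≥ 0} R_n is Noetherian with R_0 a
field, and m = R_+ is its unique graded maximal ideal. -/
theorem result (R : Type u) [CommRing R] [LocCoh.IsCohenMacaulayRing R] (𝒜 : ℤ → AddSubgroup R) [GradedRing 𝒜] (hpos : ∀ n : ℤ, n < 0 → 𝒜 n = ⊥) (h0 : IsField (GrLC.deg0 𝒜)) (m : HomogeneousIdeal 𝒜) (hm : GrLC.IsStarLocal 𝒜 m) (hmsp : m.toIdeal = Ideal.span (⋃ n ∈ Set.Ioi (0 : ℤ), (𝒜 n : Set R))) (n : ℕ) (hn : ringKrullDim R = n) (I : GrLC.StarInjRes 𝒜 𝒜) (t : ℕ) (htn : t ≤ n) (f : Fin t → R) (deg : Fin t → ℤ) (hfdeg : ∀ i, f i ∈ 𝒜 (deg i)) (hfm : ∀ i, f i ∈ m.toIdeal) (hreg : RingTheory.Sequence.IsRegular R (List.ofFn f)) (N : Type u) [AddCommGroup N] [Module R N] (𝒩 : ℤ → AddSubgroup N) [DirectSum.Decomposition 𝒩] [SetLike.GradedSMul 𝒜 𝒩] (π : R →ₗ[R] N) (hπ : GrLC.IsGrHom 𝒜 𝒩 π)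 (hπs : Function.Surjective π) (hπk : LinearMap.ker π = Ideal.span (Set.range f)) (F : GrLC.StarInjRes 𝒜 𝒩) : GrLC.endDeg (F.Hgr m (n - t)) = GrLC.endDeg (I.Hgr m n) + ((((Finset.univ : Finset (Fin t)).sum deg : ℤ) : WithTop ℤ) : WithBot (WithTop ℤ)) := by
  exact main R 𝒜 hpos h0 m hm hmsp n hn I t htn f deg hfdeg hfm hreg N 𝒩 π hπ hπs hπk F

end Groth.Agent.S18645
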