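import Groth.Statements.S18650
import Groth.Agent.Lib.Helper20.GrNH10

set_option autoImplicit false
universe u
open GrLC

namespace Groth.Agent.S18650


theorem result (R : Type u) [CommRing R] [LocCoh.IsCohenMacaulayRing R] (𝒜 : ℤ → AddSubgroup R) [GradedRing 𝒜] (m : HomogeneousIdeal 𝒜) (hm : GrLC.IsStarLocal 𝒜 m) (n : ℕ) (hn : m.toIdeal.height = n) (I : GrLC.StarInjRes 𝒜 𝒜) : LocCoh.IsGorensteinRing R ↔ ∃ (X : GrLC.GMod.{u} 𝒜) (φ : I.H m n ≃ₗ[R] X.carrier), GrLC.IsStarInj 𝒜 X.gr ∧ GrLC.IsGrHom (I.Hgr m n) X.gr φ.toLinearMap := by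
  exact Groth.Agent.Helper20.GrNH.isGorensteinRing_iff_H_starInj 𝒜 m hm n hn I

end Groth.Agent.S18650
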