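import Groth.Statements.S18656
import Groth.Agent.Lib.Helper20.GrTop1

set_option autoImplicit false
universe u
open GrLC

namespace Groth.Agent.S18656


theorem result (R : Type u) [CommRing R] [IsNoetherianRing R] (𝒜 : ℤ → AddSubgroup R) [GradedRing 𝒜] (hpos : ∀ n : ℤ, n < 0 → 𝒜 n = ⊥) (h0 : IsField (GrLC.deg0 𝒜)) (m : HomogeneousIdeal 𝒜) (hm : GrLC.IsStarLocal 𝒜 m) (hmsp : m.toIdeal = Ideal.span (⋃ n ∈ Set.Ioi (0 : ℤ), (𝒜 n : Set R))) (hstd : Ideal.span (⋃ n ∈ Set.Ioi (0 : ℤ), (𝒜 n : Set R)) = Ideal.span ((𝒜 1 : AddSubgroup R) : Set R)) (r : ℕ) (hr : ringKrullDim R = r) (h1 : 1 ≤ r) (I : GrLC.StarInjRes 𝒜 𝒜) (a : ℤ) (ha : GrLC.endDeg (I.Hgr m r) = ((a : WithTop ℤ) : WithBot (WithTop ℤ))) (n : ℤ) (hn : n ≤ a) : I.Hcomp m r n ≠ ⊥ := by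
  haveI := Groth.Agent.Helper20.GrInj.isMaximal_of_isStarLocal hpos m hm
  obtain ⟨f, hfm, hs⟩ := Groth.Agent.Helper20.GrInj.exists_smul_surjective_H_top I m r hr h1
  have hf1 : f ∈ Ideal.span ((𝒜 1 : AddSubgroup R) : Set R) := by
    rw [← hstd, ← hmsp]
    exact hfm
  intro hbot
  have hprop : ∀ k : ℕ, I.Hcomp m r (n + k) = ⊥ := by
    intro k
    induction k with
    | zero => simpa using hbot
    | succ k ih =>
      have := Groth.Agent.Helper20.GrInj.Hcomp_succ_eq_bot_of_smul_surjective I m r hf1 hs (n + k) ih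
      rw [add_assoc] at this
      exact_mod_cast this
  have hle : GrLC.endDeg (I.Hgr m r) ≤ (((n - 1 : ℤ) : WithTop ℤ) : WithBot (WithTop ℤ)) := by
    rw [Groth.Agent.Helper20.GrInj.endDeg_Hgr_le_iff]
    intro j hj
    obtain ⟨k, rfl⟩ : ∃ k : ℕ, j = n + k := ⟨(j - n).toNat, by omega⟩
    exact hprop k
  rw [ha] at hle
  rw [WithBot.coe_le_coe, WithTop.coe_le_coe] at hle
  omega

end Groth.Agent.S18656
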