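import Groth.Statements.S18657
import Mathlib
import Groth.Agent.Lib.Helper23.KDim1
import Groth.Agent.Lib.Helper23.KDim2
import Groth.Agent.Lib.Helper23.KDim4

set_option autoImplicit false
universe u
open GrLC

namespace Groth.Agent.S18657

set_option linter.style.haveILetI false
set_option linter.unusedVariables false
set_option linter.unusedSectionVars false
open Groth.Agent.Helper23.KDim Groth.Agent.Helper20.GrInj

attribute [local instance] Hgr_gradedSMul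

theorem main (R : Type u) [CommRing R] [LocCoh.IsCohenMacaulayRing R] (𝒜 : ℤ → AddSubgroup R) [GradedRing 𝒜] (hpos : ∀ n : ℤ, n < 0 → 𝒜 n = ⊥) (h0 : IsField (GrLC.deg0 𝒜)) (m : HomogeneousIdeal 𝒜) (hm : GrLC.IsStarLocal 𝒜 m) (hmsp : m.toIdeal = Ideal.span (⋃ n ∈ Set.Ioi (0 : ℤ), (𝒜 n : Set R))) (hstd : Ideal.span (⋃ n ∈ Set.Ioi (0 : ℤ), (𝒜 n : Set R)) = Ideal.span ((𝒜 1 : AddSubgroup R) : Set R)) (n : ℕ) (hn : ringKrullDim R = n) (h2 : 2 ≤ n) (I : GrLC.StarInjRes 𝒜 𝒜) (a : ℤ) (ha : GrLC.endDeg (I.Hgr m n) = ((a : WithTop ℤ) : WithBot (WithTop ℤ))) (E' : Type u) [AddCommGroup E'] [Module R E'] (𝓔 : ℤ → AddSubgroup E') [DirectSum.Decomposition 𝓔] [SetLike.GradedSMul 𝒜 𝓔] (e : (R ⧸ m.toIdeal) →ₗ[R] E') (he : GrLC.IsStarInjHull 𝒜 (GrLC.quotGr 𝒜 m) 𝓔 e) (C : Type u) [AddCommGroup C] [Module R C] (𝒞 : ℤ → AddSubgroup C) [DirectSum.Decomposition 𝒞] [SetLike.GradedSMul 𝒜 𝒞] (hC : GrLC.IsStarCanonical 𝒜 𝒞 𝓔 m n I) (j : ℤ)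 (hj : -a < j) : 2 ≤ Module.finrank (GrLC.deg0 𝒜) (GrLC.comp 𝒜 𝒞 j) := by
  classical
  haveI : IsNoetherianRing R := inferInstance
  obtain ⟨P⟩ := exists_grPairing_of_isStarCanonical hpos h0 m hmsp e he n I hC
  obtain ⟨d, e', x, y, hd, he', hx, hy, hsurj, hker⟩ := exists_pair hpos m hm hmsp n hn h2 I
  have hxreg := smul_injective_of_surjective P hx hsurj
  have hyreg := smul_quot_injective P h0 hx hy hker
  -- the end of `H^n_m(R)`
  have hle : ∀ i : ℤ, a < i → I.Hgr m n i = ⊥ :=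
    (endDeg_le_coe_iff (I.Hgr m n) a).1 (le_of_eq ha)
  have hane : I.Hgr m n a ≠ ⊥ := by
    intro hbot
    have h1 : GrLC.endDeg (I.Hgr m n) ≤ (((a - 1 : ℤ) : WithTop ℤ) : WithBot (WithTop ℤ)) := by
      rw [endDeg_le_coe_iff]
      intro i hi
      rcases eq_or_lt_of_le (show a ≤ i by omega) with h | h
      · rw [← h]
        exact hbot
      · exact hle i h
    rw [ha, WithBot.coe_le_coe, WithTop.coe_le_coe] at h1
    omega
  -- low degrees of `C`
  have hlow : ∀ i : ℤ, i < -a → ∀ c ∈ 𝒞 i, c = 0 := by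
    intro i hi c hc
    apply P.nondeg i c hc
    intro w hw
    rw [hle (-i) (by omega)] at hw
    rw [AddSubgroup.mem_bot.1 hw, β_zero_right]
  -- a nonzero element of degree `-a`
  obtain ⟨w, hw, hw0⟩ : ∃ w ∈ 𝒞 (-a), w ≠ 0 := by
    obtain ⟨v, hv, hv0⟩ : ∃ v ∈ I.Hgr m n a, v ≠ 0 := by
      by_contra hcon
      push Not at hcon
      apply hane
      rw [eq_bot_iff]
      intro v hv
      exact AddSubgroup.mem_bot.2 (hcon v hv)
    have hv' : v ∈ I.Hgr m n (-(-a)) := by rwa [neg_neg]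
    obtain ⟨c, hc, hcβ⟩ := exists_β_ne_zero P h0 hv' hv0
    refine ⟨c, hc, ?_⟩
    rintro rfl
    exact hcβ (β_zero_left P v)
  -- finite-dimensionality
  haveI : Module.Finite R C := hC.1
  haveI : IsNoetherian R C := isNoetherian_of_isNoetherianRing_of_finite R C
  haveI : IsNoetherian (GrLC.deg0 𝒜) (GrLC.comp 𝒜 𝒞 j) := comp_isNoetherian (𝒜 := 𝒜) (ℳ := 𝒞) j
  letI : Field (GrLC.deg0 𝒜) := h0.toField
  by_contra hlt
  have h1 : Module.finrank (GrLC.deg0 𝒜) (GrLC.comp 𝒜 𝒞 j) ≤ 1 := by omega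
  obtain ⟨u₀, hu₀⟩ := finrank_le_one_iff.1 h1
  have ht : ((j + a).toNat : ℤ) = j + a := Int.toNat_of_nonneg (by omega)
  have hjt : -a + ((j + a).toNat : ℤ) = j := by rw [ht]; ring
  apply core (𝒞 := 𝒞) h0 hstd hd he' hx hy hxreg hyreg (-a) hlow w hw hw0 (j + a).toNat (by omega)
    u₀.1
  intro c hc
  rw [hjt] at hc
  obtain ⟨s, hs⟩ := hu₀ ⟨c, hc⟩
  exact ⟨s.1, s.2, (congrArg Subtype.val hs).symm⟩

/-- Let R be a graded ring defined over a field k = R_0 which is Cohen–Macaulay and generated over k by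
R_1, of dimension r ≥ 2, with canonical module K_R and a-invariant a(R). Then dim_k (K_R)_n ≥ 2 for
every n > −a(R). Here 'graded ring defined over a field' means R = ⊕_{n ≥ 0} R_n is Noetherian with
R_0 a field (so R is finitely generated over R_0), m = R_+ is its unique graded maximal ideal and n
= dim R; the canonical module K_R (the graded dual of H^n_m(R)) is represented by a finitely
generated graded module C together with a homogeneous isomorphism from Hom_R(C, E) onto H^n_m(R),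
where E is a *injective envelope of R/m and H^n_m(R) is computed from a *injective resolution of R
in the graded category; by graded Matlis duality this says exactly that C ≅ K_R as graded modules.
The a-invariant a(R) is the largest degree in which the graded local cohomology H^n_m(R) (n = dim R,
m = R_+), computed from a *injective resolution of R in the graded category, is nonzero. -/
theorem result (R : Type u) [CommRing R] [LocCoh.IsCohenMacaulayRing R] (𝒜 : ℤ → AddSubgroup R) [GradedRing 𝒜] (hpos : ∀ n : ℤ, n < 0 → 𝒜 n = ⊥) (h0 : IsField (GrLC.deg0 𝒜)) (m : HomogeneousIdeal 𝒜) (hm : GrLC.IsStarLocal 𝒜 m) (hmsp : m.toIdeal = Ideal.span (⋃ n ∈ Set.Ioi (0 : ℤ), (𝒜 n : Set R))) (hstd : Ideal.span (⋃ n ∈ Set.Ioi (0 : ℤ), (𝒜 n : Set R)) = Ideal.span ((𝒜 1 : AddSubgroup R) : Set R)) (n : ℕ) (hn : ringKrullDim R = n) (h2 : 2 ≤ n) (I : GrLC.StarInjRes 𝒜 𝒜) (a : ℤ) (ha : GrLC.endDeg (I.Hgr m n) = ((a : WithTop ℤ) : WithBot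 (WithTop ℤ))) (E' : Type u) [AddCommGroup E'] [Module R E'] (𝓔 : ℤ → AddSubgroup E') [DirectSum.Decomposition 𝓔] [SetLike.GradedSMul 𝒜 𝓔] (e : (R ⧸ m.toIdeal) →ₗ[R] E') (he : GrLC.IsStarInjHull 𝒜 (GrLC.quotGr 𝒜 m) 𝓔 e) (C : Type u) [AddCommGroup C] [Module R C] (𝒞 : ℤ → AddSubgroup C) [DirectSum.Decomposition 𝒞] [SetLike.GradedSMul 𝒜 𝒞] (hC : GrLC.IsStarCanonical 𝒜 𝒞 𝓔 m n I) (j : ℤ) (hj : -a < j) : 2 ≤ Module.finrank (GrLC.deg0 𝒜) (GrLC.comp 𝒜 𝒞 j) := by
  exact main R 𝒜 hpos h0 m hm hmsp hstd n hn h2 I a ha E' 𝓔 e he C 𝒞 hC j hj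

end Groth.Agent.S18657
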