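import Groth.Statements.S18661
import Groth.Agent.Lib.Helper20.GrCx13

set_option autoImplicit false
universe u
open GrLC

namespace Groth.Agent.S18661

open Groth.Agent.Helper20.GrInj

theorem result (R : Type u) [CommRing R] [IsNoetherianRing R] (𝒜 : ℤ → AddSubgroup R) [GradedRing 𝒜] (hpos : ∀ n : ℤ, n < 0 → 𝒜 n = ⊥) (h0 : IsField (GrLC.deg0 𝒜)) (m : HomogeneousIdeal 𝒜) (hm : GrLC.IsStarLocal 𝒜 m) (hmsp : m.toIdeal = Ideal.span (⋃ n ∈ Set.Ioi (0 : ℤ), (𝒜 n : Set R))) (M : Type u) [AddCommGroup M] [Module R M] (ℳ : ℤ → AddSubgroup M) [DirectSum.Decomposition ℳ] [SetLike.GradedSMul 𝒜 ℳ] (hstar : ∀ x : M, x ≠ 0 → ((Submodule.span R {x}).annihilator).IsPrimary ∧ ((Submodule.span R {x}).annihilator).radical = m.toIdeal) : GrLC.gam m.toIdeal M = ⊤ ∧ ∀ (E : GrLC.StarInjRes 𝒜 ℳ) (q : ℕ), 1 ≤ q → Subsingleton (E.H m q) := by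
  have hgam : GrLC.gam m.toIdeal M = ⊤ := by
    rw [eq_top_iff]
    intro x _
    by_cases hx : x = 0
    · rw [hx]; exact Submodule.zero_mem _
    · obtain ⟨_, hrad⟩ := hstar x hx
      have hfg : m.toIdeal.FG := IsNoetherian.noetherian _
      obtain ⟨n, hn⟩ := Ideal.exists_pow_le_of_le_radical_of_fg (le_of_eq hrad.symm) hfg
      refine ⟨n, fun r hr => ?_⟩
      have := hn hr
      rwa [Submodule.mem_annihilator_span_singleton] at this
  refine ⟨hgam, fun E q hq => ?_⟩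
  obtain ⟨i, rfl⟩ : ∃ i, q = i + 1 := ⟨q - 1, by omega⟩
  exact H_subsingleton_of_gam_eq_top m i ℳ hgam E

end Groth.Agent.S18661
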