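import Groth.Statements.S18666
import Groth.Agent.Lib.Helper23.ProjGor4
import Groth.Agent.Lib.Helper20.GorFlat3

set_option autoImplicit false
universe u
open GrProj

namespace Groth.Agent.S18666

open AlgebraicGeometry Pointwise in
/-- Let A = ⊕_{n ≥ 0} A_n be a commutative Noetherian graded ring satisfying condition (#) — there is an
integer d_0 such that for every d ≥ d_0 the Veronese subring A^(d) is generated by A_d over A_0,
equivalently A_{(n+1)d} is additively generated by the products A_d A_{nd} for every n ≥ 1 — and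
assume A is a Gorenstein ring. Then X = Proj A is a Gorenstein scheme: all of its local rings are
Gorenstein local rings. (The Cohen–Macaulay case of the same lemma is stated separately.) -/
theorem result (A : Type u) [CommRing A] (𝒜 : ℕ → AddSubgroup A) [GradedRing 𝒜] [LocCoh.IsGorensteinRing A] (hsharp : ∃ d₀ : ℕ, ∀ d : ℕ, d₀ ≤ d → ∀ n : ℕ, 1 ≤ n → 𝒜 ((n + 1) * d) = AddSubgroup.closure ((𝒜 d : Set A) * (𝒜 (n * d) : Set A))) (x : Proj 𝒜) : LocCoh.IsGorensteinLocalRing ((Proj 𝒜).presheaf.stalk x) := by
  classical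
  obtain ⟨h, e, hh, he, hhp⟩ := Groth.Agent.Helper23.ProjGor.exists_pos_degree_not_mem (𝒜 := 𝒜) x
  haveI hp : x.asHomogeneousIdeal.toIdeal.IsPrime := x.isPrime
  obtain ⟨D⟩ := Groth.Agent.Helper23.ProjGor.exists_data_of_sharp hsharp
    x.asHomogeneousIdeal.toIdeal he hh hhp
  haveI : IsNoetherianRing A := inferInstance
  haveI hAp : LocCoh.IsGorensteinLocalRing (Localization.AtPrime x.asHomogeneousIdeal.toIdeal) :=
    LocCoh.IsGorensteinRing.isGorensteinLocalRing_localization x.asHomogeneousIdeal.toIdeal
  haveI : IsNoetherianRing (Localization.AtPrime x.asHomogeneousIdeal.toIdeal) :=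
    IsLocalization.isNoetherianRing x.asHomogeneousIdeal.toIdeal.primeCompl _ inferInstance
  haveI : IsNoetherianRing (HomogeneousLocalization.AtPrime 𝒜 x.asHomogeneousIdeal.toIdeal) :=
    Groth.Agent.Helper23.ProjGor.isNoetherianRing_homogeneousLocalization D
  haveI : Module.Flat (HomogeneousLocalization.AtPrime 𝒜 x.asHomogeneousIdeal.toIdeal)
      (Localization.AtPrime x.asHomogeneousIdeal.toIdeal) :=
    Groth.Agent.Helper23.ProjGor.flat_homogeneousLocalization D
  have hmap := Groth.Agent.Helper23.ProjGor.map_maximalIdeal D x.asHomogeneousIdeal.isHomogeneous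
  haveI hB : LocCoh.IsGorensteinLocalRing
      (HomogeneousLocalization.AtPrime 𝒜 x.asHomogeneousIdeal.toIdeal) :=
    (Groth.Agent.Helper20.GorFlat.gorenstein_iff_of_map_eq _ _ hmap).2 hAp
  exact Groth.Agent.Helper20.GorFlat.isGorensteinLocalRing_of_ringEquiv
    (Proj.stalkIso 𝒜 x).commRingCatIsoToRingEquiv.symm

end Groth.Agent.S18666
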