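import Groth.Statements.S18667
import Groth.Agent.Lib.Helper20.GrLD5
import Groth.Agent.Lib.Helper20.GrLD8
import Groth.Agent.Lib.Helper20.GrCoind4
import Groth.Agent.Lib.Helper23.BassC3
import Groth.Agent.Lib.Helper21.IntDim

set_option autoImplicit false
universe u
open GrLC

namespace Groth.Agent.S18667

open Groth.Agent.Helper20.GrInj in

theorem result (R : Type u) [CommRing R] [LocCoh.IsCohenMacaulayRing R] (𝒜 : ℤ → AddSubgroup R) [GradedRing 𝒜] (hpos : ∀ n : ℤ, n < 0 → 𝒜 n = ⊥) (h0 : IsField (GrLC.deg0 𝒜)) (m : HomogeneousIdeal 𝒜) (hm : GrLC.IsStarLocal 𝒜 m) (hmsp : m.toIdeal = Ideal.span (⋃ n ∈ Set.Ioi (0 : ℤ), (𝒜 n : Set R))) (n : ℕ) (hn : ringKrullDim R = n) (I : GrLC.StarInjRes 𝒜 𝒜) (E' : Type u) [AddCommGroup E'] [Module R E'] (𝓔 : ℤ → AddSubgroup E') [DirectSum.Decomposition 𝓔] [SetLike.GradedSMul 𝒜 𝓔] (e : (R ⧸ m.toIdeal) →ₗ[R] E')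 (he : GrLC.IsStarInjHull 𝒜 (GrLC.quotGr 𝒜 m) 𝓔 e) (C : Type u) [AddCommGroup C] [Module R C] (𝒞 : ℤ → AddSubgroup C) [DirectSum.Decomposition 𝒞] [SetLike.GradedSMul 𝒜 𝒞] (hC : GrLC.IsStarCanonical 𝒜 𝒞 𝓔 m n I) (S : Type u) [CommRing S] [IsNoetherianRing S] [Algebra R S] [Module.Finite R S] (𝒜' : ℤ → AddSubgroup S) [GradedRing 𝒜'] (hf : ∀ j : ℤ, (𝒜 j).map (algebraMap R S : R →+ S) ≤ 𝒜' j) (hf0 : (𝒜 0).map (algebraMap R S : R →+ S) = 𝒜' 0) (hpos' : ∀ j : ℤ, j < 0 → 𝒜' j = ⊥) (h0' : IsField (GrLC.deg0 𝒜')) (m' : HomogeneousIdeal 𝒜') (hm' : GrLC.IsStarLocal 𝒜' m') (hm'sp : m'.toIdeal = Ideal.span (⋃ j ∈ Set.Ioi (0 : ℤ), (𝒜' j : Set S))) (n' : ℕ) (hn' : ringKrullDim S = n') (I' : GrLC.StarInjRes 𝒜' 𝒜') (E'' : Type u) [AddCommGroup E''] [Module S E''] (𝓔'' : ℤ → AddSubgroup E'') [DirectSum.Decomposition 𝓔''] [SetLike.GradedSMul 𝒜' 𝓔''] (e' : (S ⧸ m'.toIdeal)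 →ₗ[S] E'') (he' : GrLC.IsStarInjHull 𝒜' (GrLC.quotGr 𝒜' m') 𝓔'' e') (C' : Type u) [AddCommGroup C'] [Module S C'] [Module R C'] [IsScalarTower R S C'] (𝒞' : ℤ → AddSubgroup C') [DirectSum.Decomposition 𝒞'] [SetLike.GradedSMul 𝒜' 𝒞'] (hC' : GrLC.IsStarCanonical 𝒜' 𝒞' 𝓔'' m' n' I') : Nonempty (C' ≃ₗ[R] CategoryTheory.Abelian.Ext.{u} (ModuleCat.of R S) (ModuleCat.of R C) (n - n')) := by
  classical
  have hf' : ∀ (j : ℤ) (r : R), r ∈ 𝒜 j → algebraMap R S r ∈ 𝒜' j :=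
    fun j r hr => hf j ⟨r, hr, rfl⟩
  have hf0' : ∀ s ∈ 𝒜' 0, ∃ r ∈ 𝒜 0, algebraMap R S r = s := by
    intro s hs
    rw [← hf0] at hs
    obtain ⟨r, hr, hrs⟩ := hs
    exact ⟨r, hr, hrs⟩
  haveI : Nontrivial S := by
    by_contra hS
    rw [not_nontrivial_iff_subsingleton] at hS
    rw [ringKrullDim_eq_bot_of_subsingleton] at hn'
    exact absurd hn' (by simp)
  haveI : SetLike.GradedSMul 𝒜 𝒜' := gradedSMul_of_algebra hf'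
  haveI : SetLike.GradedSMul 𝒜 𝒞' := gradedSMul_restrict hf' 𝒞'
  have hle : n' ≤ n := by
    have h := Groth.Agent.Helper21.ID.ringKrullDim_le_of_isIntegral (algebraMap R S)
      (algebraMap_isIntegral_iff.2 inferInstance)
    rw [hn, hn'] at h
    exact_mod_cast h
  have hrad := radical_map_irrelevant_eq hf' m hmsp m' hm'sp
  let Y : GrLC.GMod.{u} 𝒜 := GrLC.GMod.of 𝒜 S 𝒜'
  haveI : Module.Finite R Y.carrier := (inferInstance : Module.Finite R S)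
  let ES : GrLC.StarInjRes 𝒜 𝒜' := starInjRes 𝒜 𝒜'
  obtain ⟨Θ, hΘ, hΘgr⟩ := exists_semilinear_equiv_of_radical_eq hf' I' m m' hrad ES n'
  obtain ⟨PS⟩ := exists_grPairing_of_isStarCanonical hpos' h0' m' hm'sp e' he' n' I' hC'
  let PK : GrPairing 𝒜 𝒞' (ES.Hgr m n') := PS.restrictBase hf' h0 hf0' Θ hΘ hΘgr
  obtain ⟨PR, horth⟩ := Groth.Agent.Helper23.BassC.exists_grPairing_orth hpos h0 m hmsp e he n I hC
  exact nonempty_equiv_ext_of_pairing hpos h0 m hm n hn I PR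
    (fun i l c ξ hc hξ hne => horth l i c ξ hc hξ hne) (n - n') n' (by omega) Y ES C' 𝒞' PK

end Groth.Agent.S18667
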