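import Groth.Statements.S18669
import Groth.Agent.Lib.Helper20.GrKz7

set_option autoImplicit false
universe u
open GrSect

namespace Groth.Agent.S18669


theorem result (k : Type u) [Field k] [IsAlgClosed k] (K : Type u) [Field K] [Algebra k K] (hK : FunFld.IsFunctionField k K) (hg : 1 ≤ FunFld.genus k K) (P : FunFld.Place k K) : LocCoh.IsGorensteinRing ↥(W4c6gradedringsgw.sectRing (Finsupp.single P 1 : FunFld.Divisor k K)) ↔ W4c6gradedringsgw.IsSymmetric (W4c6gradedringsgw.poleOrders P) := by
  exact Groth.Agent.Helper20.GrKz.gorenstein_RP_iff hK hg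
    (Groth.Agent.Helper16.FF.Place.deg_eq_one hK P)

end Groth.Agent.S18669
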