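import Groth.Statements.S1867
import Mathlib
import Groth.Agent.Lib.Helper14.PointwiseDim
import Groth.Agent.Lib.Helper14.EquidimAt
import Groth.Agent.Lib.Helper14.GenFibBound
import Groth.Agent.Lib.Helper14.FibreComp
import Groth.Agent.Lib.Helper15.FibDim0
import Groth.Agent.Lib.Helper16.Sch.QFCodim
-- import your own Groth.Agent.* helpers here

set_option autoImplicit false
universe u
open CategoryTheory AlgebraicGeometry
open Cyc

namespace Groth.Agent.S1867

/-- Let f : X → Y be a proper morphism of integral schemes with Y locally Noetherian, mapping the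
generic point to the generic point with finite extension of function fields, and let ξ be a point of
Y whose local ring has dimension 1. Then f is finite over some open neighbourhood of ξ. -/
theorem result (X Y : Scheme.{u}) [IsIntegral X] [IsIntegral Y] [IsLocallyNoetherian Y] (f : X ⟶ Y) [IsProper f] (hgen : f (genericPoint X) = genericPoint Y) (hfin : (f.residueFieldMap (genericPoint X)).hom.Finite) (ξ : Y) (hξ : ringKrullDim (Y.presheaf.stalk ξ) = 1) : ∃ V : Y.Opens, ξ ∈ V ∧ IsFinite (f ∣_ V) := by
  haveI : LocallyOfFiniteType f := inferInstance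
  haveI : QuasiCompact f := inferInstance
  apply exists_isFinite_morphismRestrict_of_finite_preimage_singleton f ξ
  set η := genericPoint X with hη
  have hηY : ringKrullDim (Y.presheaf.stalk (genericPoint Y)) = 0 := by
    apply Groth.Agent.Helper14.FibreComp.ringKrullDim_stalk_of_maximal
    intro z hz
    exact ((genericPoint_specializes z).antisymm hz).eq.symm
  have hξne : ξ ≠ genericPoint Y := by
    rintro rfl
    rw [hηY] at hξ
    exact zero_ne_one hξ
  have key : ∀ y : X, f y = ξ → f.QuasiFiniteAt y := by
    intro y hy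
    rw [← Groth.Agent.Helper15.FibDim.fibreDimAt_eq_zero_iff_quasiFiniteAt]
    obtain ⟨z, n, hzy, hfz, hzmax, hn, hdim⟩ :=
      Groth.Agent.Helper14.EquidimAt.exists_maximal_trdeg_eq_fibreDimAt f y
    rw [hdim]
    have hηz : η ⤳ z := genericPoint_specializes z
    have hne : η ≠ z := by
      intro h
      apply hξne
      rw [← hy, ← hfz, ← h, hgen]
    have h1 := Groth.Agent.Helper14.GenFibBound.one_le_dim_locQuot z η hηz hne
    have hE : @Algebra.trdeg (Y.residueField (f η)) (X.residueField η) _ _
        (f.residueFieldMap η).hom.toAlgebra = ((0 : ℕ) : Cardinal) := by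
      letI := (f.residueFieldMap η).hom.toAlgebra
      haveI : Module.Finite (Y.residueField (f η)) (X.residueField η) := hfin
      have hint : Algebra.IsIntegral (Y.residueField (f η)) (X.residueField η) :=
        Algebra.IsIntegral.of_finite _ _
      have : Algebra.IsAlgebraic (Y.residueField (f η)) (X.residueField η) := inferInstance
      rw [trdeg_eq_zero]
      simp
    have h4 := (Groth.Agent.Helper14.PointwiseDim.formula_aux f z η hηz n 0 hn hE).1
    have h5 : ringKrullDim (Cyc.LocQuot (f z) (f η) (hηz.map f.continuous)) ≤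
        ringKrullDim (Y.presheaf.stalk (f z)) := ringKrullDim_quotient_le _
    have h6 : ringKrullDim (Y.presheaf.stalk (f z)) ≤ 1 := by
      rw [Groth.Agent.Helper14.GenFibBound.stalk_dim_congr (hfz.trans hy)]
      exact hξ.le
    have h7 : (1 : WithBot ℕ∞) + (n : WithBot ℕ∞) ≤ 1 := by
      calc (1 : WithBot ℕ∞) + (n : WithBot ℕ∞)
          ≤ ringKrullDim (Cyc.LocQuot z η hηz) + (n : WithBot ℕ∞) := by gcongr
        _ ≤ ringKrullDim (Cyc.LocQuot (f z) (f η) (hηz.map f.continuous)) + ((0 : ℕ) : WithBot ℕ∞) := h4
        _ = ringKrullDim (Cyc.LocQuot (f z) (f η) (hηz.map f.continuous)) := by simp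
        _ ≤ 1 := h5.trans h6
    have h8 : ((1 + n : ℕ) : WithBot ℕ∞) ≤ ((1 : ℕ) : WithBot ℕ∞) := by
      push_cast; exact h7
    have h9 : 1 + n ≤ 1 := by exact_mod_cast h8
    have : n = 0 := by omega
    subst this
    simp
  have hc : IsCompact (f ⁻¹' {ξ}) := f.isCompact_preimage_singleton ξ
  refine hc.finite ⟨?_⟩
  rw [discreteTopology_iff_isOpen_singleton]
  rintro ⟨y, hy⟩
  have hy1 : f y = ξ := hy
  subst hy1
  exact (Groth.Agent.Helper16.QFCodim.quasiFiniteAt_iff_isOpen_singleton f y).mp (key y rfl)

end Groth.Agent.S1867
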