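import Groth.Statements.S18671
import Groth.Agent.Lib.Helper20.GrVer10

set_option autoImplicit false
universe u
open GrLC

namespace Groth.Agent.S18671


theorem result (R : Type u) [CommRing R] [IsNoetherianRing R] (𝒜 : ℤ → AddSubgroup R) [GradedRing 𝒜] (hpos : ∀ n : ℤ, n < 0 → 𝒜 n = ⊥) (h0 : IsField (GrLC.deg0 𝒜)) (m : HomogeneousIdeal 𝒜) (hm : GrLC.IsStarLocal 𝒜 m) (hmsp : m.toIdeal = Ideal.span (⋃ n ∈ Set.Ioi (0 : ℤ), (𝒜 n : Set R))) (M : Type u) [AddCommGroup M] [Module R M] (ℳ : ℤ → AddSubgroup M) [DirectSum.Decomposition ℳ] [SetLike.GradedSMul 𝒜 ℳ] [Module.Finite R M] (E : GrLC.StarInjRes 𝒜 ℳ) (q : ℕ) (hq : 0 < q) (R' : Type u) [CommRing R'] (𝒜' : ℤ → AddSubgroup R') [GradedRing 𝒜'] (φ : R' →+* R) (hφ : Function.Injective φ) (hdeg : ∀ j : ℤ, (𝒜' j).map (φ : R' →+ R) = 𝒜 (j * q)) (m' : HomogeneousIdeal 𝒜') (hm' : GrLC.IsStarLocal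 𝒜' m') (hm'sp : m'.toIdeal = Ideal.span (⋃ j ∈ Set.Ioi (0 : ℤ), (𝒜' j : Set R'))) (M' : Type u) [AddCommGroup M'] [Module R' M'] (ℳ' : ℤ → AddSubgroup M') [DirectSum.Decomposition ℳ'] [SetLike.GradedSMul 𝒜' ℳ'] (g : M' →ₛₗ[φ] M) (hg : Function.Injective g) (hgdeg : ∀ j : ℤ, (ℳ' j).map (g : M' →+ M) = ℳ (j * q)) (F : GrLC.StarInjRes 𝒜' ℳ') (p : ℕ) (j : ℤ) : Module.finrank (GrLC.deg0 𝒜') (F.Hcomp m' p j) = Module.finrank (GrLC.deg0 𝒜) (E.Hcomp m p (j * q)) := by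
  have h1 : ∀ (j : ℤ) (r' : R'), r' ∈ 𝒜' j → φ r' ∈ 𝒜 (j * q) := by
    intro j r' hr'
    rw [← hdeg j]
    exact AddSubgroup.mem_map_of_mem _ hr'
  have h2 : ∀ (j : ℤ) (r : R), r ∈ 𝒜 (j * q) → ∃ r' ∈ 𝒜' j, φ r' = r := by
    intro j r hr
    rw [← hdeg j] at hr
    exact AddSubgroup.mem_map.1 hr
  have hg1 : ∀ (j : ℤ) (y : M'), y ∈ ℳ' j → g y ∈ ℳ (j * q) := by
    intro j y hy
    rw [← hgdeg j]
    exact AddSubgroup.mem_map_of_mem _ hy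
  have hg2 : ∀ (j : ℤ) (x : M), x ∈ ℳ (j * q) → ∃ y ∈ ℳ' j, g y = x := by
    intro j x hx
    rw [← hgdeg j] at hx
    exact AddSubgroup.mem_map.1 hx
  have hle : m'.toIdeal.map φ ≤ m.toIdeal := by
    rw [hmsp, hm'sp]
    exact Groth.Agent.Helper20.GrInj.map_irrelevant_le 𝒜 𝒜' φ q hq h1
  have hrad : m.toIdeal ≤ (m'.toIdeal.map φ).radical := by
    rw [hmsp, hm'sp]
    exact Groth.Agent.Helper20.GrInj.irrelevant_le_radical_map 𝒜 𝒜' φ q h2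
  exact Groth.Agent.Helper20.GrInj.finrank_Hcomp_veronese
    (⟨φ, q, hq, hφ, h1, h2⟩ : Groth.Agent.Helper20.GrInj.VerRing 𝒜 𝒜') g hg hg1 hg2 E F m m'
    hle hrad p j

end Groth.Agent.S18671
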