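import Groth.Statements.S18699
import Mathlib
import Groth.Agent.Lib.Lead.Depth16
open Groth.Agent.Lead.Depth

set_option autoImplicit false
universe u
open QGor

namespace Groth.Agent.S18699

/-- Affine form. Let A be a Noetherian ring, M a finite A-module with Serre's condition (S_k), and I an
ideal of A such that dim Supp(M_p) ≥ k for every prime p ⊇ I in the support of M (the closed set
V(I) meets Supp M in codimension at least k). Then the I-depth of M is at least k. -/
theorem result (k : ℕ) (A : Type u) [CommRing A] [IsNoetherianRing A]
    (M : Type u) [AddCommGroup M] [Module A M] [Module.Finite A M] (I : Ideal A)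
    (hS : LocCoh.HasSk k A M)
    (hcodim : ∀ p : PrimeSpectrum A, I ≤ p.asIdeal → p ∈ Module.support A M →
      (k : WithBot ℕ∞) ≤ Module.supportDim (Localization.AtPrime p.asIdeal) (LocalizedModule p.asIdeal.primeCompl M)) :
    (k : ℕ∞) ≤ LocCoh.idealDepth I M := by
  rw [idealDepth_eq_iInf_depth_localizedModule]
  refine le_iInf₂ fun p hIp => ?_
  by_cases hp : p ∈ Module.support A M
  · have h1 := hS p.asIdeal
    have h2 := hcodim p hIp hp
    rw [min_eq_left h2] at h1
    have h3 : ((k : ℕ∞) : WithBot ℕ∞) ≤
        ((LocCoh.depth (Localization.AtPrime p.asIdeal)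
          (LocalizedModule p.asIdeal.primeCompl M) : ℕ∞) : WithBot ℕ∞) := by
      rw [WithBot.coe_natCast]
      exact h1
    exact WithBot.coe_le_coe.1 h3
  · have hsub : Subsingleton (LocalizedModule p.asIdeal.primeCompl M) := by
      rw [Module.mem_support_iff, not_nontrivial_iff_subsingleton] at hp
      exact hp
    rw [depth_eq_top_of_subsingleton]
    exact le_top

end Groth.Agent.S18699
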