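import Groth.Statements.S1870
import Mathlib
import Groth.Agent.S1869
-- import your own Groth.Agent.* helpers here

set_option autoImplicit false
universe u v
open CycAlg

namespace Groth.Agent.S1870

section
open CycAlg

variable {R : Type u} [CommRing R]

/-- finite length complexes have Herbrand quotient zero -/
theorem herbrand_finlen {M : Type v} [AddCommGroup M] [Module R M] (φ ψ : M →ₗ[R] M)
    (h : IsPeriodic φ ψ) (hfin : Module.length R M < ⊤) :
    FinCoh R φ ψ ∧ herbrand R φ ψ = 0 := by
  -- lengths of kernels and ranges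
  have hkφ : Module.length R (LinearMap.ker φ) ≤ Module.length R M :=
    Module.length_le_of_injective (LinearMap.ker φ).subtype (Submodule.subtype_injective _)
  have hkψ : Module.length R (LinearMap.ker ψ) ≤ Module.length R M :=
    Module.length_le_of_injective (LinearMap.ker ψ).subtype (Submodule.subtype_injective _)
  have hrφ : Module.length R (LinearMap.range φ) ≤ Module.length R M :=
    Module.length_le_of_injective (LinearMap.range φ).subtype (Submodule.subtype_injective _)
  have hrψ : Module.length R (LinearMap.range ψ) ≤ Module.length R M :=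
    Module.length_le_of_injective (LinearMap.range ψ).subtype (Submodule.subtype_injective _)
  -- M = ker + range
  have hMφ : Module.length R M = Module.length R (LinearMap.ker φ) + Module.length R (LinearMap.range φ) :=
    Module.length_eq_add_of_exact (LinearMap.ker φ).subtype φ.rangeRestrict
      (Submodule.subtype_injective _) φ.surjective_rangeRestrict (by
        intro q
        constructor
        · intro hq
          exact ⟨⟨q, congrArg Subtype.val hq⟩, rfl⟩
        · rintro ⟨⟨q', hq'⟩, rfl⟩
          exact Subtype.ext hq')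
  have hMψ : Module.length R M = Module.length R (LinearMap.ker ψ) + Module.length R (LinearMap.range ψ) :=
    Module.length_eq_add_of_exact (LinearMap.ker ψ).subtype ψ.rangeRestrict
      (Submodule.subtype_injective _) ψ.surjective_rangeRestrict (by
        intro q
        constructor
        · intro hq
          exact ⟨⟨q, congrArg Subtype.val hq⟩, rfl⟩
        · rintro ⟨⟨q', hq'⟩, rfl⟩
          exact Subtype.ext hq')
  -- ker φ = range ψ + H⁰
  have key : ∀ (a b : M →ₗ[R] M), a ∘ₗ b = 0 →
      Module.length R (LinearMap.ker a) =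
        Module.length R (LinearMap.range b) + Module.length R (perH a b) := by
    intro a b hab
    have hle : LinearMap.range b ≤ LinearMap.ker a := by
      rintro _ ⟨x, rfl⟩
      rw [LinearMap.mem_ker, ← LinearMap.comp_apply, hab, LinearMap.zero_apply]
    have h1 := Module.length_eq_add_of_exact
      ((LinearMap.range b).submoduleOf (LinearMap.ker a)).subtype
      (Submodule.mkQ ((LinearMap.range b).submoduleOf (LinearMap.ker a)))
      (Submodule.subtype_injective _) (Submodule.mkQ_surjective _)
      (LinearMap.exact_subtype_mkQ _)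
    rw [h1, (Submodule.submoduleOfEquivOfLe hle).length_eq]
  have k0 := key φ ψ h.1
  have k1 := key ψ φ h.2
  have f0 : Module.length R (perH φ ψ) < ⊤ :=
    lt_of_le_of_lt (le_trans (by rw [k0]; exact le_add_self) hkφ) hfin
  have f1 : Module.length R (perH ψ φ) < ⊤ :=
    lt_of_le_of_lt (le_trans (by rw [k1]; exact le_add_self) hkψ) hfin
  refine ⟨⟨f0, f1⟩, ?_⟩
  unfold herbrand
  have gkφ := lt_of_le_of_lt hkφ hfin
  have gkψ := lt_of_le_of_lt hkψ hfin
  have grφ := lt_of_le_of_lt hrφ hfin
  have grψ := lt_of_le_of_lt hrψ hfin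
  lift Module.length R M to ℕ using hfin.ne with m
  lift Module.length R (LinearMap.ker φ) to ℕ using gkφ.ne with a
  lift Module.length R (LinearMap.ker ψ) to ℕ using gkψ.ne with b
  lift Module.length R (LinearMap.range φ) to ℕ using grφ.ne with c
  lift Module.length R (LinearMap.range ψ) to ℕ using grψ.ne with d
  lift Module.length R (perH φ ψ) to ℕ using f0.ne with x
  lift Module.length R (perH ψ φ) to ℕ using f1.ne with y
  have e1 : m = a + c := by exact_mod_cast hMφ
  have e2 : m = b + d := by exact_mod_cast hMψ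
  have e3 : a = d + x := by exact_mod_cast k0
  have e4 : b = c + y := by exact_mod_cast k1
  simp only [ENat.toNat_natCast]
  omega

theorem main {R : Type u} [CommRing R] {M M' : Type v} [AddCommGroup M] [Module R M] [AddCommGroup M'] [Module R M'] (φ ψ : M →ₗ[R] M) (φ' ψ' : M' →ₗ[R] M') (h : CycAlg.IsPeriodic φ ψ) (h' : CycAlg.IsPeriodic φ' ψ') (f : M →ₗ[R] M') (cφ : φ' ∘ₗ f = f ∘ₗ φ) (cψ : ψ' ∘ₗ f = f ∘ₗ ψ) (hfin : CycAlg.FinCoh R φ ψ) (hfin' : CycAlg.FinCoh R φ' ψ') (hker : Module.length R (LinearMap.ker f) < ⊤) (hcoker : Module.length R (M' ⧸ LinearMap.range f) < ⊤) : CycAlg.herbrand R φ ψ = CycAlg.herbrand R φ' ψ' := by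
  -- kernel complex
  have hKφ : ∀ x ∈ LinearMap.ker f, φ x ∈ LinearMap.ker f := by
    intro x hx
    rw [LinearMap.mem_ker] at hx ⊢
    rw [← LinearMap.comp_apply, ← cφ, LinearMap.comp_apply, hx, map_zero]
  have hKψ : ∀ x ∈ LinearMap.ker f, ψ x ∈ LinearMap.ker f := by
    intro x hx
    rw [LinearMap.mem_ker] at hx ⊢
    rw [← LinearMap.comp_apply, ← cψ, LinearMap.comp_apply, hx, map_zero]
  let φK : LinearMap.ker f →ₗ[R] LinearMap.ker f := φ.restrict hKφ
  let ψK : LinearMap.ker f →ₗ[R] LinearMap.ker f := ψ.restrict hKψ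
  have hK : IsPeriodic φK ψK := by
    constructor
    · ext x
      simp only [φK, ψK, LinearMap.comp_apply, LinearMap.coe_restrict_apply, LinearMap.zero_apply,
        ZeroMemClass.coe_zero]
      rw [← LinearMap.comp_apply, h.1, LinearMap.zero_apply]
    · ext x
      simp only [φK, ψK, LinearMap.comp_apply, LinearMap.coe_restrict_apply, LinearMap.zero_apply,
        ZeroMemClass.coe_zero]
      rw [← LinearMap.comp_apply, h.2, LinearMap.zero_apply]
  -- image complex
  have hIφ : ∀ x ∈ LinearMap.range f, φ' x ∈ LinearMap.range f := by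
    rintro _ ⟨x, rfl⟩
    exact ⟨φ x, by rw [← LinearMap.comp_apply, ← cφ, LinearMap.comp_apply]⟩
  have hIψ : ∀ x ∈ LinearMap.range f, ψ' x ∈ LinearMap.range f := by
    rintro _ ⟨x, rfl⟩
    exact ⟨ψ x, by rw [← LinearMap.comp_apply, ← cψ, LinearMap.comp_apply]⟩
  let φI : LinearMap.range f →ₗ[R] LinearMap.range f := φ'.restrict hIφ
  let ψI : LinearMap.range f →ₗ[R] LinearMap.range f := ψ'.restrict hIψ
  have hI : IsPeriodic φI ψI := by
    constructor
    · ext x
      simp only [φI, ψI, LinearMap.comp_apply, LinearMap.coe_restrict_apply, LinearMap.zero_apply,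
        ZeroMemClass.coe_zero]
      rw [← LinearMap.comp_apply, h'.1, LinearMap.zero_apply]
    · ext x
      simp only [φI, ψI, LinearMap.comp_apply, LinearMap.coe_restrict_apply, LinearMap.zero_apply,
        ZeroMemClass.coe_zero]
      rw [← LinearMap.comp_apply, h'.2, LinearMap.zero_apply]
  -- cokernel complex
  have hCφ : LinearMap.range f ≤ (LinearMap.range f).comap φ' := fun x hx => hIφ x hx
  have hCψ : LinearMap.range f ≤ (LinearMap.range f).comap ψ' := fun x hx => hIψ x hx
  let φC : (M' ⧸ LinearMap.range f) →ₗ[R] (M' ⧸ LinearMap.range f) :=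
    Submodule.mapQ _ _ φ' hCφ
  let ψC : (M' ⧸ LinearMap.range f) →ₗ[R] (M' ⧸ LinearMap.range f) :=
    Submodule.mapQ _ _ ψ' hCψ
  have hC : IsPeriodic φC ψC := by
    constructor
    · apply LinearMap.ext
      intro x
      obtain ⟨x, rfl⟩ := Submodule.mkQ_surjective _ x
      simp only [φC, ψC, LinearMap.comp_apply, Submodule.mkQ_apply, Submodule.mapQ_apply,
        LinearMap.zero_apply]
      rw [← LinearMap.comp_apply, h'.1, LinearMap.zero_apply, Submodule.Quotient.mk_zero]
    · apply LinearMap.ext
      intro x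
      obtain ⟨x, rfl⟩ := Submodule.mkQ_surjective _ x
      simp only [φC, ψC, LinearMap.comp_apply, Submodule.mkQ_apply, Submodule.mapQ_apply,
        LinearMap.zero_apply]
      rw [← LinearMap.comp_apply, h'.2, LinearMap.zero_apply, Submodule.Quotient.mk_zero]
  obtain ⟨fK, eK⟩ := herbrand_finlen φK ψK hK hker
  obtain ⟨fC, eC⟩ := herbrand_finlen φC ψC hC hcoker
  -- first sequence 0 → K → M → I → 0
  have s1 := Groth.Agent.S1869.main φK ψK φ ψ φI ψI hK h hI
    (LinearMap.ker f).subtype (LinearMap.ker f).subtype f.rangeRestrict f.rangeRestrict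
    (by ext x; rfl) (by ext x; rfl)
    (by
      ext x
      change φ' (f x) = f (φ x)
      rw [← LinearMap.comp_apply, cφ, LinearMap.comp_apply])
    (by
      ext x
      change ψ' (f x) = f (ψ x)
      rw [← LinearMap.comp_apply, cψ, LinearMap.comp_apply])
    (Submodule.subtype_injective _) (Submodule.subtype_injective _)
    f.surjective_rangeRestrict f.surjective_rangeRestrict
    (by rw [Submodule.range_subtype, LinearMap.ker_rangeRestrict])
    (by rw [Submodule.range_subtype, LinearMap.ker_rangeRestrict])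
    (Or.inl ⟨fK, hfin⟩)
  obtain ⟨-, -, fI, e1⟩ := s1
  -- second sequence 0 → I → M' → C → 0
  have s2 := Groth.Agent.S1869.main φI ψI φ' ψ' φC ψC hI h' hC
    (LinearMap.range f).subtype (LinearMap.range f).subtype
    (LinearMap.range f).mkQ (LinearMap.range f).mkQ
    (by ext x; rfl) (by ext x; rfl)
    (by ext x; rfl) (by ext x; rfl)
    (Submodule.subtype_injective _) (Submodule.subtype_injective _)
    (Submodule.mkQ_surjective _) (Submodule.mkQ_surjective _)
    (by rw [Submodule.range_subtype, Submodule.ker_mkQ])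
    (by rw [Submodule.range_subtype, Submodule.ker_mkQ])
    (Or.inl ⟨fI, hfin'⟩)
  obtain ⟨-, -, -, e2⟩ := s2
  rw [e1, e2, eK, eC]
  ring

end

/-- A morphism of (2,1)-periodic complexes, both with finite-length cohomology, whose kernel and
cokernel have finite length does not change the additive Herbrand quotient: e_R(M, φ, ψ) = e_R(M',
φ', ψ'). -/
theorem result {R : Type u} [CommRing R] {M M' : Type v} [AddCommGroup M] [Module R M] [AddCommGroup M'] [Module R M'] (φ ψ : M →ₗ[R] M) (φ' ψ' : M' →ₗ[R] M') (h : CycAlg.IsPeriodic φ ψ) (h' : CycAlg.IsPeriodic φ' ψ') (f : M →ₗ[R] M') (cφ : φ' ∘ₗ f = f ∘ₗ φ) (cψ : ψ' ∘ₗ f = f ∘ₗ ψ) (hfin : CycAlg.FinCoh R φ ψ) (hfin' : CycAlg.FinCoh R φ' ψ') (hker : Module.length R (LinearMap.ker f) < ⊤) (hcoker : Module.length R (M' ⧸ LinearMap.range f) < ⊤) : CycAlg.herbrand R φ ψ = CycAlg.herbrand R φ' ψ' := by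
  exact Groth.Agent.S1870.main φ ψ φ' ψ' h h' f cφ cψ hfin hfin' hker hcoker

end Groth.Agent.S1870
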