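import Groth.Statements.S18700
import Mathlib
import Groth.Agent.Lib.Lead.Depth16
open Groth.Agent.Lead.Depth

set_option autoImplicit false
universe u
open QGor

namespace Groth.Agent.S18700

/-- Affine form. Let A be a Noetherian ring, I an ideal, and G the kernel of a linear map u : E⁰ → E¹ of
finite A-modules. If depth_I E⁰ ≥ 1 then depth_I G ≥ 1; if depth_I E⁰ ≥ 2 and depth_I E¹ ≥ 1 then
depth_I G ≥ 2. -/
theorem result (A : Type u) [CommRing A] [IsNoetherianRing A] (I : Ideal A)
    (E0 E1 : Type u) [AddCommGroup E0] [Module A E0] [Module.Finite A E0] [AddCommGroup E1] [Module A E1]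
    [Module.Finite A E1] (u : E0 →ₗ[A] E1) :
    (1 ≤ LocCoh.idealDepth I E0 → 1 ≤ LocCoh.idealDepth I (LinearMap.ker u)) ∧
    (2 ≤ LocCoh.idealDepth I E0 → 1 ≤ LocCoh.idealDepth I E1 → 2 ≤ LocCoh.idealDepth I (LinearMap.ker u)) := by
  haveI : IsNoetherian A E0 := isNoetherian_of_isNoetherianRing_of_finite A E0
  haveI : IsNoetherian A E1 := isNoetherian_of_isNoetherianRing_of_finite A E1
  have hA := idealDepth_shortExact I (LinearMap.ker u) E0 (LinearMap.range u)
    (LinearMap.ker u).subtype u.rangeRestrict (LinearMap.ker u).injective_subtype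
    u.surjective_rangeRestrict (by
      intro x
      constructor
      · intro hx
        refine ⟨⟨x, ?_⟩, rfl⟩
        have := congrArg Subtype.val hx
        simpa using this
      · rintro ⟨y, rfl⟩
        apply Subtype.ext
        simpa using y.2)
  have hB := idealDepth_shortExact I (LinearMap.range u) E1 (E1 ⧸ LinearMap.range u)
    (LinearMap.range u).subtype (LinearMap.range u).mkQ (LinearMap.range u).injective_subtype
    (LinearMap.range u).mkQ_surjective (LinearMap.exact_subtype_mkQ _)
  constructor
  · intro h0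
    refine le_trans ?_ hA.2.2
    rw [le_min_iff]
    exact ⟨h0, le_add_self⟩
  · intro h0 h1
    have hr : 1 ≤ LocCoh.idealDepth I (LinearMap.range u) := by
      refine le_trans ?_ hB.2.2
      rw [le_min_iff]
      exact ⟨h1, le_add_self⟩
    refine le_trans ?_ hA.2.2
    rw [le_min_iff]
    refine ⟨h0, ?_⟩
    have : (2 : ℕ∞) = 1 + 1 := by norm_num
    rw [this]
    gcongr

end Groth.Agent.S18700
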