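import Groth.Statements.S18701
import Mathlib
import Groth.Agent.Lib.Helper28.ReflDepth
open Groth.Agent.Helper28.ReflDepth Groth.Agent.Lead.Depth

set_option autoImplicit false
universe u
open QGor

namespace Groth.Agent.S18701

/-- Affine form. Let A be a Noetherian ring and G the kernel of a linear map u : E⁰ → E¹ of finite
A-modules. If E⁰ has (S_1) then G has (S_1). If Supp G ⊆ Supp E¹, E¹ has (S_1) and E⁰ has (S_2),
then G has (S_2). -/
theorem result (A : Type u) [CommRing A] [IsNoetherianRing A]
    (E0 E1 : Type u) [AddCommGroup E0] [Module A E0] [Module.Finite A E0] [AddCommGroup E1] [Module A E1]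
    [Module.Finite A E1] (u : E0 →ₗ[A] E1) :
    (LocCoh.HasSk 1 A E0 → LocCoh.HasSk 1 A (LinearMap.ker u)) ∧
    (Module.support A (LinearMap.ker u) ⊆ Module.support A E1 → LocCoh.HasSk 1 A E1 → LocCoh.HasSk 2 A E0 →
      LocCoh.HasSk 2 A (LinearMap.ker u)) := by
  haveI : IsNoetherian A E0 := isNoetherian_of_isNoetherianRing_of_finite A E0
  haveI : IsNoetherian A E1 := isNoetherian_of_isNoetherianRing_of_finite A E1
  -- the two localized depth inequalities
  have hexA : Function.Exact (LinearMap.ker u).subtype u.rangeRestrict := by
    intro x
    constructor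
    · intro hx
      refine ⟨⟨x, ?_⟩, rfl⟩
      have := congrArg Subtype.val hx
      simpa using this
    · rintro ⟨y, rfl⟩
      apply Subtype.ext
      simp
  have hA : ∀ (p : Ideal A) [p.IsPrime],
      min (LocCoh.depth (Localization.AtPrime p) (LocalizedModule p.primeCompl E0))
        (LocCoh.depth (Localization.AtPrime p) (LocalizedModule p.primeCompl (LinearMap.range u)) + 1) ≤
      LocCoh.depth (Localization.AtPrime p) (LocalizedModule p.primeCompl (LinearMap.ker u)) :=
    fun p _ => depth_localized_shortExact p (LinearMap.ker u) E0 (LinearMap.range u)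
      (LinearMap.ker u).subtype u.rangeRestrict (LinearMap.ker u).injective_subtype
      u.surjective_rangeRestrict hexA
  have hB : ∀ (p : Ideal A) [p.IsPrime],
      min (LocCoh.depth (Localization.AtPrime p) (LocalizedModule p.primeCompl E1))
        (LocCoh.depth (Localization.AtPrime p)
          (LocalizedModule p.primeCompl (E1 ⧸ LinearMap.range u)) + 1) ≤
      LocCoh.depth (Localization.AtPrime p) (LocalizedModule p.primeCompl (LinearMap.range u)) :=
    fun p _ => depth_localized_shortExact p (LinearMap.range u) E1 (E1 ⧸ LinearMap.range u)
      (LinearMap.range u).subtype (LinearMap.range u).mkQ (LinearMap.range u).injective_subtype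
      (LinearMap.range u).mkQ_surjective (LinearMap.exact_subtype_mkQ _)
  have hsd : ∀ (p : Ideal A) [p.IsPrime],
      Module.supportDim (Localization.AtPrime p) (LocalizedModule p.primeCompl (LinearMap.ker u)) ≤
      Module.supportDim (Localization.AtPrime p) (LocalizedModule p.primeCompl E0) :=
    fun p _ => supportDim_localizedModule_mono p _ _
      (Module.support_subset_of_injective (LinearMap.ker u).subtype
        (LinearMap.ker u).injective_subtype)
  constructor
  · intro hS p hp
    have h1 := hS p
    have h2 : min (LocCoh.depth (Localization.AtPrime p) (LocalizedModule p.primeCompl E0)) 1 ≤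
        LocCoh.depth (Localization.AtPrime p) (LocalizedModule p.primeCompl (LinearMap.ker u)) :=
      le_trans (min_le_min le_rfl le_add_self) (hA p)
    refine le_trans ?_ (WithBot.coe_le_coe.2 h2)
    rw [WithBot.coe_min]
    refine le_min ?_ ?_
    · exact le_trans (min_le_min le_rfl (hsd p)) h1
    · exact min_le_left _ _
  · intro hsupp hS1 hS2 p hp
    have h0 := hS2 p
    have h1 := hS1 p
    have hsd1 : Module.supportDim (Localization.AtPrime p)
        (LocalizedModule p.primeCompl (LinearMap.ker u)) ≤
        Module.supportDim (Localization.AtPrime p) (LocalizedModule p.primeCompl E1) :=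
      supportDim_localizedModule_mono p _ _ hsupp
    by_cases hc : (1 : WithBot ℕ∞) ≤ Module.supportDim (Localization.AtPrime p)
        (LocalizedModule p.primeCompl (LinearMap.ker u))
    · -- then depth E1_p ≥ 1
      have hE1 : (1 : ℕ∞) ≤ LocCoh.depth (Localization.AtPrime p)
          (LocalizedModule p.primeCompl E1) := by
        have h3 : min ((1 : ℕ) : WithBot ℕ∞) (Module.supportDim (Localization.AtPrime p)
            (LocalizedModule p.primeCompl E1)) = ((1 : ℕ∞) : WithBot ℕ∞) := by
          rw [min_eq_left]
          · rfl
          · exact le_trans (by exact_mod_cast hc) hsd1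
        rw [h3] at h1
        exact WithBot.coe_le_coe.1 h1
      have hR : (1 : ℕ∞) ≤ LocCoh.depth (Localization.AtPrime p)
          (LocalizedModule p.primeCompl (LinearMap.range u)) :=
        le_trans (le_min hE1 le_add_self) (hB p)
      have h2 : min (LocCoh.depth (Localization.AtPrime p) (LocalizedModule p.primeCompl E0)) 2 ≤
          LocCoh.depth (Localization.AtPrime p) (LocalizedModule p.primeCompl (LinearMap.ker u)) := by
        refine le_trans (min_le_min le_rfl ?_) (hA p)
        have : (2 : ℕ∞) = 1 + 1 := by norm_num
        rw [this]
        gcongr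
      refine le_trans ?_ (WithBot.coe_le_coe.2 h2)
      rw [WithBot.coe_min]
      refine le_min ?_ ?_
      · exact le_trans (min_le_min le_rfl (hsd p)) h0
      · exact min_le_left _ _
    · -- support dimension ≤ 0
      have hle : Module.supportDim (Localization.AtPrime p)
          (LocalizedModule p.primeCompl (LinearMap.ker u)) ≤ 0 := by
        push Not at hc
        generalize Module.supportDim (Localization.AtPrime p)
          (LocalizedModule p.primeCompl (LinearMap.ker u)) = x at hc ⊢
        induction x using WithBot.recBotCoe with
        | bot => exact bot_le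
        | coe n =>
          have h4 : n < 1 := by exact_mod_cast hc
          have h5 : n = 0 := Order.lt_one_iff.1 h4
          rw [h5]
          rfl
      refine le_trans (min_le_right _ _) (le_trans hle ?_)
      exact WithBot.coe_le_coe.2 (zero_le (a := _))

end Groth.Agent.S18701
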