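import Groth.Statements.S18702
import Mathlib
import Groth.Agent.Lib.Helper28.ReflDepth
open Groth.Agent.Helper28.ReflDepth Groth.Agent.Lead.Depth

set_option autoImplicit false
universe u
open QGor

namespace Groth.Agent.S18702

/-- Affine form, for an arbitrary Noetherian ring A (not assumed to be a domain). Let I be an ideal and
G a finite reflexive A-module (the evaluation map into the double dual is bijective). For k = 1 and
k = 2: if depth_I A ≥ k then depth_I G ≥ k; and if A satisfies (S_k) then G satisfies (S_k). -/
theorem result (A : Type u) [CommRing A] [IsNoetherianRing A] (I : Ideal A)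
    (G : Type u) [AddCommGroup G] [Module A G] [Module.Finite A G] [Module.IsReflexive A G] :
    (1 ≤ LocCoh.idealDepth I A → 1 ≤ LocCoh.idealDepth I G) ∧
    (2 ≤ LocCoh.idealDepth I A → 2 ≤ LocCoh.idealDepth I G) ∧
    (LocCoh.HasSk 1 A A → LocCoh.HasSk 1 A G) ∧ (LocCoh.HasSk 2 A A → LocCoh.HasSk 2 A G) := by
  have e := Module.evalEquiv A G
  refine ⟨fun h => ?_, fun h => ?_, fun h => hasSk_of_isReflexive G 1 (Or.inl rfl) h,
    fun h => hasSk_of_isReflexive G 2 (Or.inr rfl) h⟩
  · rw [idealDepth_congr I e]
    exact one_le_idealDepth_hom I _ h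
  · rw [idealDepth_congr I e]
    exact two_le_idealDepth_hom I _ h

end Groth.Agent.S18702
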