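import Groth.Statements.S18703
import Mathlib
import Groth.Agent.Lib.Helper28.ReflDepth
open Groth.Agent.Helper28.ReflDepth Groth.Agent.Lead.Depth

set_option autoImplicit false
universe u
open QGor

namespace Groth.Agent.S18703

/-- Affine form. Let A be a Noetherian ring and I an ideal with depth_I A ≥ 1. Let G be a finite
A-module such that G_p is a reflexive A_p-module for every prime p not containing I (G is reflexive
off V(I)). If depth_I G ≥ 2, then G is reflexive. -/
theorem result (A : Type u) [CommRing A] [IsNoetherianRing A] (I : Ideal A)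
    (hA : 1 ≤ LocCoh.idealDepth I A)
    (G : Type u) [AddCommGroup G] [Module A G] [Module.Finite A G]
    (hU : ∀ p : PrimeSpectrum A, ¬ I ≤ p.asIdeal →
      Module.IsReflexive (Localization.AtPrime p.asIdeal) (LocalizedModule p.asIdeal.primeCompl G))
    (hG : 2 ≤ LocCoh.idealDepth I G) : Module.IsReflexive A G := by
  have hG1 : 1 ≤ LocCoh.idealDepth I G := le_trans (by norm_num) hG
  have hG0 := (one_le_idealDepth_iff I G).1 hG1
  have hinj : Function.Injective (Module.Dual.eval A G) := by
    rw [injective_iff_map_eq_zero]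
    intro x hx
    obtain ⟨n, hn⟩ := exists_pow_smul_eq_zero I x (fun p hp hIp => by
      haveI := hp
      haveI := hU ⟨p, hp⟩ hIp
      obtain ⟨s, hs⟩ := exists_smul_eq_zero_of_eval_eq_zero p.primeCompl G
        (Module.bijective_dual_eval (Localization.AtPrime p) (LocalizedModule p.primeCompl G)).1 x hx
      exact ⟨s.1, s.2, hs⟩)
    exact eq_zero_of_pow_smul I hG0 n x hn
  constructor
  refine ⟨hinj, ?_⟩
  have hdepth := idealDepth_shortExact I G (Module.Dual A (Module.Dual A G))
    ((Module.Dual A (Module.Dual A G)) ⧸ LinearMap.range (Module.Dual.eval A G))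
    (Module.Dual.eval A G) (LinearMap.range (Module.Dual.eval A G)).mkQ hinj
    (Submodule.mkQ_surjective _) (LinearMap.exact_map_mkQ_range _)
  have hDD1 : 1 ≤ LocCoh.idealDepth I (Module.Dual A (Module.Dual A G)) :=
    one_le_idealDepth_hom I (Module.Dual A G) hA
  have hC1 : 1 ≤ LocCoh.idealDepth I
      ((Module.Dual A (Module.Dual A G)) ⧸ LinearMap.range (Module.Dual.eval A G)) := by
    refine le_trans ?_ hdepth.2.1
    rw [le_min_iff]
    refine ⟨hDD1, ?_⟩
    apply ENat.le_sub_of_add_le_right (by simp)
    have : (1 : ℕ∞) + 1 = 2 := by norm_num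
    rw [this]
    exact hG
  have hC0 := (one_le_idealDepth_iff I _).1 hC1
  intro φ
  have hφ : (LinearMap.range (Module.Dual.eval A G)).mkQ φ = 0 := by
    obtain ⟨n, hn⟩ := exists_pow_smul_eq_zero I
      ((LinearMap.range (Module.Dual.eval A G)).mkQ φ) (fun p hp hIp => by
      haveI := hp
      haveI := hU ⟨p, hp⟩ hIp
      obtain ⟨s, hs⟩ := exists_smul_mem_range_eval p.primeCompl G
        (Module.bijective_dual_eval (Localization.AtPrime p) (LocalizedModule p.primeCompl G)).2 φ
      refine ⟨s.1, s.2, ?_⟩
      rw [← map_smul, Submodule.mkQ_apply, Submodule.Quotient.mk_eq_zero]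
      exact hs)
    exact eq_zero_of_pow_smul I hC0 n _ hn
  rw [Submodule.mkQ_apply, Submodule.Quotient.mk_eq_zero] at hφ
  exact hφ

end Groth.Agent.S18703
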