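import Groth.Statements.S18704
import Mathlib
import Groth.Agent.Lib.Helper28.ReflDepth
import Groth.Agent.S18699
import Groth.Agent.S18702
import Groth.Agent.S18703
import Groth.Agent.S18724
open Groth.Agent.Helper28.ReflDepth Groth.Agent.Lead.Depth

set_option autoImplicit false
universe u
open QGor

namespace Groth.Agent.S18704

/-- Affine form. Let A be a Noetherian ring with Serre's condition (S_2), I an ideal with ht I ≥ 2
(every prime containing I has height ≥ 2), and G a finite A-module with G_p reflexive for every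
prime p not containing I. Then the following are equivalent: (i) G has (S_2) and dim Supp(G_p) ≥ 2
for every prime p ⊇ I in Supp G; (ii) depth_I G ≥ 2; (iii) G is reflexive. -/
theorem result (A : Type u) [CommRing A] [IsNoetherianRing A]
    (hA : LocCoh.HasSk 2 A A) (I : Ideal A) (hI : 2 ≤ I.height)
    (G : Type u) [AddCommGroup G] [Module A G] [Module.Finite A G]
    (hU : ∀ p : PrimeSpectrum A, ¬ I ≤ p.asIdeal →
      Module.IsReflexive (Localization.AtPrime p.asIdeal) (LocalizedModule p.asIdeal.primeCompl G)) :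
    ((LocCoh.HasSk 2 A G ∧ ∀ p : PrimeSpectrum A, I ≤ p.asIdeal → p ∈ Module.support A G →
        (2 : WithBot ℕ∞) ≤ Module.supportDim (Localization.AtPrime p.asIdeal) (LocalizedModule p.asIdeal.primeCompl G)) ↔
      2 ≤ LocCoh.idealDepth I G) ∧
    (2 ≤ LocCoh.idealDepth I G ↔ Module.IsReflexive A G) := by
  have hAI : 2 ≤ LocCoh.idealDepth I A := by
    have h := Groth.Agent.S18699.result 2 A A I hA (by
      intro p hIp _
      rw [supportDim_localizedModule_self]
      have h1 : (2 : ℕ∞) ≤ p.asIdeal.height := hI.trans (Ideal.height_mono hIp)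
      have h2 : ((2 : ℕ∞) : WithBot ℕ∞) ≤ ((p.asIdeal.height : ℕ∞) : WithBot ℕ∞) :=
        WithBot.coe_le_coe.2 h1
      exact h2)
    exact_mod_cast h
  have hA1 : 1 ≤ LocCoh.idealDepth I A := le_trans (by norm_num) hAI
  have h23 : 2 ≤ LocCoh.idealDepth I G → Module.IsReflexive A G :=
    fun h => Groth.Agent.S18703.result A I hA1 G hU h
  have h32 : Module.IsReflexive A G → 2 ≤ LocCoh.idealDepth I G := by
    intro h
    haveI := h
    exact (Groth.Agent.S18702.result A I G).2.1 hAI
  refine ⟨⟨?_, ?_⟩, ⟨h23, h32⟩⟩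
  · rintro ⟨hS, hcodim⟩
    have h := Groth.Agent.S18699.result 2 A G I hS (by
      intro p hIp hp
      exact_mod_cast hcodim p hIp hp)
    exact_mod_cast h
  · intro h
    haveI := h23 h
    refine ⟨(Groth.Agent.S18702.result A I G).2.2.2 hA, ?_⟩
    intro p hIp hp
    have h1 := Groth.Agent.S18724.result A G I p hIp hp
    refine le_trans ?_ h1
    have h2 : ((2 : ℕ∞) : WithBot ℕ∞) ≤ ((LocCoh.idealDepth I G : ℕ∞) : WithBot ℕ∞) :=
      WithBot.coe_le_coe.2 h
    exact h2

end Groth.Agent.S18704
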