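import Groth.Statements.S18705
import Groth.Agent.Lib.Helper1.LocalCriterion
import Groth.Agent.Lib.Helper28.ReflDepth
import Groth.Agent.Lib.Lead.Flat6

set_option autoImplicit false
set_option linter.style.haveILetI false
set_option linter.unusedSectionVars false
universe u
open QGor

namespace Groth.Agent.S18705

open TensorProduct Function IsLocalRing

section Killed

variable {B : Type u} [CommRing B] (J : Ideal B) {X : Type*} [AddCommGroup X] [Module B X]

/-- If no nonzero element of `X` is killed by `J`, none is killed by a power of `J`. -/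
theorem eq_zero_of_pow_smul (hX : ∀ y : X, (∀ b ∈ J, b • y = 0) → y = 0) (k : ℕ) :
    ∀ z : X, (∀ b ∈ J ^ k, b • z = 0) → z = 0 := by
  induction k with
  | zero =>
    intro z hz
    have := hz 1 (by rw [pow_zero, Ideal.one_eq_top]; exact Submodule.mem_top)
    rwa [one_smul] at this
  | succ k ih =>
    intro z hz
    apply ih
    intro b hb
    apply hX
    intro a ha
    rw [smul_smul]
    apply hz
    rw [pow_succ']
    exact Ideal.mul_mem_mul ha hb

end Killed

section ResidueBasis

variable {A : Type u} [CommRing A] [IsLocalRing A]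

/-- An element of `M ⊗ Q`, `Q` a finite-dimensional vector space over the residue field, is zero as
soon as all its "coordinates" in `M ⊗ k` vanish. -/
theorem eq_zero_of_forall_lTensor_eq_zero (M : Type u) [AddCommGroup M] [Module A M]
    (Q : Type u) [AddCommGroup Q] [Module A Q] [Module.Finite A Q]
    (hQ : ∀ a ∈ maximalIdeal A, ∀ q : Q, a • q = 0)
    (z : M ⊗[A] Q)
    (h : ∀ π : Q →ₗ[A] (A ⧸ maximalIdeal A), π.lTensor M z = 0) : z = 0 := by
  classical
  have hT : Module.IsTorsionBySet A Q (maximalIdeal A : Set A) := fun q a => hQ a.1 a.2 q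
  letI : Module (A ⧸ maximalIdeal A) Q := hT.module
  haveI : IsScalarTower A (A ⧸ maximalIdeal A) Q := hT.isScalarTower
  letI : Field (A ⧸ maximalIdeal A) := Ideal.Quotient.field (maximalIdeal A)
  haveI : Module.Finite (A ⧸ maximalIdeal A) Q :=
    Module.Finite.of_restrictScalars_finite A (A ⧸ maximalIdeal A) Q
  let b := Module.Free.chooseBasis (A ⧸ maximalIdeal A) Q
  letI : Fintype (Module.Free.ChooseBasisIndex (A ⧸ maximalIdeal A) Q) :=
    Module.Free.ChooseBasisIndex.fintype (A ⧸ maximalIdeal A) Q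
  let π : Module.Free.ChooseBasisIndex (A ⧸ maximalIdeal A) Q → (Q →ₗ[A] (A ⧸ maximalIdeal A)) :=
    fun i => (b.coord i).restrictScalars A
  let ι : Module.Free.ChooseBasisIndex (A ⧸ maximalIdeal A) Q → ((A ⧸ maximalIdeal A) →ₗ[A] Q) :=
    fun i => (LinearMap.toSpanSingleton (A ⧸ maximalIdeal A) Q (b i)).restrictScalars A
  have key : (LinearMap.id : M ⊗[A] Q →ₗ[A] M ⊗[A] Q) =
      ∑ i, ((ι i).lTensor M) ∘ₗ ((π i).lTensor M) := by
    apply TensorProduct.ext'
    intro x q
    simp only [LinearMap.id_apply, LinearMap.sum_apply, LinearMap.comp_apply,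
      LinearMap.lTensor_tmul]
    rw [← TensorProduct.tmul_sum]
    congr 1
    have hq : ∑ i, (b.repr q i) • b i = q := b.sum_repr q
    exact hq.symm
  have hz := LinearMap.congr_fun key z
  simp only [LinearMap.id_apply, LinearMap.sum_apply, LinearMap.comp_apply] at hz
  rw [hz]
  apply Finset.sum_eq_zero
  intro i _
  rw [h (π i), map_zero]

end ResidueBasis

section Main

variable (A B : Type u) [CommRing A] [CommRing B] [IsNoetherianRing A] [IsNoetherianRing B]
  [IsLocalRing A] [IsLocalRing B] [Algebra A B] [IsLocalHom (algebraMap A B)] (J : Ideal B)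
  (M : Type u) [AddCommGroup M] [Module B M] [Module A M] [IsScalarTower A B M]
  [Module.Finite B M]

/-- An element of the kernel of `M ⊗ N → M ⊗ N'` (`N → N'` injective) is killed by a power of `J`,
if `M` is `A`-flat at all primes not containing `J`. -/
theorem exists_pow_smul_eq_zero
    (hU : ∀ q : PrimeSpectrum B, ¬ J ≤ q.asIdeal →
      Module.Flat A (LocalizedModule q.asIdeal.primeCompl M))
    {N N' : Type u} [AddCommGroup N] [Module A N] [AddCommGroup N'] [Module A N']
    (f : N →ₗ[A] N') (hf : Injective f) (x : M ⊗[A] N) (hx : f.lTensor M x = 0) :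
    ∃ k : ℕ, ∀ b ∈ J ^ k, b • x = 0 := by
  obtain ⟨𝔞, h𝔞⟩ : ∃ 𝔞 : Ideal B, ∀ b, b ∈ 𝔞 ↔ b • x = 0 :=
    ⟨LinearMap.ker (LinearMap.toSpanSingleton B (M ⊗[A] N) x), fun b => by
      rw [LinearMap.mem_ker, LinearMap.toSpanSingleton_apply]⟩
  have hJ : J ≤ 𝔞.radical := by
    rw [Ideal.radical_eq_sInf]
    refine le_sInf ?_
    rintro q ⟨h𝔞q, hq⟩
    by_contra hJq
    haveI := hq
    haveI : Module.Flat A (LocalizedModule q.primeCompl M) := hU ⟨q, hq⟩ hJq
    have hcomm : ∀ y : M ⊗[A] N,
        f.lTensor (LocalizedModule q.primeCompl M)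
          ((AlgebraTensorModule.rTensor A N (LocalizedModule.mkLinearMap q.primeCompl M)) y) =
        (AlgebraTensorModule.rTensor A N' (LocalizedModule.mkLinearMap q.primeCompl M))
          (f.lTensor M y) := by
      intro y
      induction y using TensorProduct.induction_on with
      | zero => simp only [map_zero]
      | tmul m n => rfl
      | add y z hy hz => simp only [map_add, hy, hz]
    have h0 : (AlgebraTensorModule.rTensor A N
        (LocalizedModule.mkLinearMap q.primeCompl M)) x = 0 := by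
      apply Module.Flat.lTensor_preserves_injective_linearMap
        (M := LocalizedModule q.primeCompl M) f hf
      rw [map_zero, hcomm, hx, map_zero]
    obtain ⟨s, hs⟩ := (IsLocalizedModule.eq_zero_iff q.primeCompl
      (AlgebraTensorModule.rTensor A N (LocalizedModule.mkLinearMap q.primeCompl M))).mp h0
    have hs' : (s : B) • x = 0 := hs
    exact s.2 (h𝔞q ((h𝔞 _).mpr hs'))
  obtain ⟨k, hk⟩ := Ideal.exists_pow_le_of_le_radical_of_fg hJ (IsNoetherian.noetherian J)
  exact ⟨k, fun b hb => (h𝔞 b).mp (hk hb)⟩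

/-- `M ⊗ Q` has no `J`-torsion when `Q` is a finite-dimensional vector space over the residue
field and `M / m M` has no `J`-torsion. -/
theorem eq_zero_of_smul_eq_zero_tensor
    (h1 : ∀ y : EGA4.FibMod A B M, (∀ b ∈ J, b • y = 0) → y = 0)
    (Q : Type u) [AddCommGroup Q] [Module A Q] [Module.Finite A Q]
    (hQ : ∀ a ∈ maximalIdeal A, ∀ q : Q, a • q = 0)
    (z : M ⊗[A] Q) (hz : ∀ b ∈ J, b • z = 0) : z = 0 := by
  apply eq_zero_of_forall_lTensor_eq_zero M Q hQ z
  intro π
  have hw : ∀ b ∈ J, b • (π.lTensor M z) = 0 := by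
    intro b hb
    have h2 : (AlgebraTensorModule.lTensor B M π) (b • z) = 0 := by rw [hz b hb, map_zero]
    rw [map_smul] at h2
    exact h2
  obtain ⟨e⟩ : Nonempty (EGA4.FibMod A B M ≃ₗ[B] M ⊗[A] (A ⧸ maximalIdeal A)) :=
    ⟨Groth.Agent.Lead.FlatDepth.fibreEquiv (S := B) (maximalIdeal A) M⟩
  have h3 : e.symm (π.lTensor M z) = 0 := by
    apply h1
    intro b hb
    rw [← map_smul, hw b hb, map_zero]
  exact e.symm.map_eq_zero_iff.mp h3

/-- Elements of `M ⊗ N` killed by a power of `J` come from `M ⊗ N'` when `N / N'` is killed by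
the maximal ideal. -/
theorem mem_range_lTensor_of_pow_smul
    (h1 : ∀ y : EGA4.FibMod A B M, (∀ b ∈ J, b • y = 0) → y = 0)
    {N' N : Type u} [AddCommGroup N'] [Module A N'] [AddCommGroup N] [Module A N]
    [Module.Finite A N]
    (f : N' →ₗ[A] N) (hf : ∀ a ∈ maximalIdeal A, ∀ n : N, a • n ∈ LinearMap.range f)
    (y : M ⊗[A] N) (k : ℕ) (hy : ∀ b ∈ J ^ k, b • y = 0) :
    ∃ y' : M ⊗[A] N', f.lTensor M y' = y := by
  have hex : Function.Exact (f.lTensor M) ((LinearMap.range f).mkQ.lTensor M) :=
    lTensor_exact M (LinearMap.exact_map_mkQ_range f) (Submodule.mkQ_surjective _)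
  have hQ : ∀ a ∈ maximalIdeal A, ∀ q : N ⧸ LinearMap.range f, a • q = 0 := by
    intro a ha q
    obtain ⟨n, rfl⟩ := Submodule.Quotient.mk_surjective _ q
    rw [← Submodule.Quotient.mk_smul, Submodule.Quotient.mk_eq_zero]
    exact hf a ha n
  have hz : (LinearMap.range f).mkQ.lTensor M y = 0 := by
    apply eq_zero_of_pow_smul J
      (fun z hz => eq_zero_of_smul_eq_zero_tensor A B J M h1 (N ⧸ LinearMap.range f) hQ z hz) k
    intro b hb
    have h2 : (AlgebraTensorModule.lTensor B M (LinearMap.range f).mkQ) (b • y) = 0 := by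
      rw [hy b hb, map_zero]
    rw [map_smul] at h2
    exact h2
  exact (hex y).mp hz

/-- `Tor₁(k, M) = 0`. -/
theorem lTensor_subtype_injective
    (hU : ∀ q : PrimeSpectrum B, ¬ J ≤ q.asIdeal →
      Module.Flat A (LocalizedModule q.asIdeal.primeCompl M))
    (h1 : ∀ y : EGA4.FibMod A B M, (∀ b ∈ J, b • y = 0) → y = 0) :
    Injective ((maximalIdeal A).subtype.lTensor M) := by
  rw [injective_iff_map_eq_zero]
  intro x hx
  have hle : ∀ n : ℕ, maximalIdeal A ^ (n + 1) ≤ maximalIdeal A :=
    fun n => Ideal.pow_le_self (Nat.succ_ne_zero n)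
  have hP : ∀ n : ℕ, ∃ y : M ⊗[A] ↥(maximalIdeal A ^ (n + 1)),
      (Submodule.inclusion (hle n)).lTensor M y = x := by
    intro n
    induction n with
    | zero =>
      have h0 : maximalIdeal A ≤ maximalIdeal A ^ (0 + 1) := by rw [zero_add, pow_one]
      refine ⟨(Submodule.inclusion h0).lTensor M x, ?_⟩
      have hc : Submodule.inclusion (hle 0) ∘ₗ Submodule.inclusion h0 = LinearMap.id :=
        LinearMap.ext fun c => Subtype.ext rfl
      rw [← LinearMap.comp_apply, ← LinearMap.lTensor_comp, hc, LinearMap.lTensor_id,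
        LinearMap.id_apply]
    | succ n ih =>
      obtain ⟨y, hy⟩ := ih
      have hy0 : (maximalIdeal A ^ (n + 1)).subtype.lTensor M y = 0 := by
        have hc : (maximalIdeal A ^ (n + 1)).subtype =
            (maximalIdeal A).subtype ∘ₗ Submodule.inclusion (hle n) :=
          LinearMap.ext fun c => rfl
        rw [hc, LinearMap.lTensor_comp, LinearMap.comp_apply, hy, hx]
      obtain ⟨k, hk⟩ := exists_pow_smul_eq_zero A B J M hU
        (maximalIdeal A ^ (n + 1)).subtype (Submodule.injective_subtype _) y hy0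
      have hstep : maximalIdeal A ^ (n + 1 + 1) ≤ maximalIdeal A ^ (n + 1) :=
        Ideal.pow_le_pow_right (Nat.le_succ _)
      have hkill : ∀ a ∈ maximalIdeal A, ∀ c : ↥(maximalIdeal A ^ (n + 1)),
          a • c ∈ LinearMap.range (Submodule.inclusion hstep) := by
        intro a ha c
        have hmem : a * (c : A) ∈ maximalIdeal A ^ (n + 1 + 1) := by
          rw [pow_succ']
          exact Ideal.mul_mem_mul ha c.2
        exact ⟨⟨a * (c : A), hmem⟩, Subtype.ext rfl⟩
      obtain ⟨y', hy'⟩ := mem_range_lTensor_of_pow_smul A B J M h1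
        (Submodule.inclusion hstep) hkill y k hk
      refine ⟨y', ?_⟩
      have hc2 : Submodule.inclusion (hle (n + 1)) =
          Submodule.inclusion (hle n) ∘ₗ Submodule.inclusion hstep :=
        LinearMap.ext fun c => rfl
      rw [hc2, LinearMap.lTensor_comp, LinearMap.comp_apply, hy', hy]
  -- every element of the kernel lies in `m^n (M ⊗ m)` for all `n`
  have hmemA : ∀ n : ℕ, x ∈ maximalIdeal A ^ n •
      (⊤ : Submodule A (M ⊗[A] ↥(maximalIdeal A))) := by
    intro n
    obtain ⟨y, hy⟩ := hP n
    obtain ⟨L, hLdef⟩ : ∃ L : Submodule A ↥(maximalIdeal A),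
        L = Submodule.comap (maximalIdeal A).subtype (maximalIdeal A ^ (n + 1)) := ⟨_, rfl⟩
    have hcod : ∀ c : ↥(maximalIdeal A ^ (n + 1)), Submodule.inclusion (hle n) c ∈ L := by
      intro c
      rw [hLdef]
      exact c.2
    have hfac : Submodule.inclusion (hle n) =
        L.subtype ∘ₗ LinearMap.codRestrict L (Submodule.inclusion (hle n)) hcod :=
      LinearMap.ext fun c => rfl
    have hL : ∀ c ∈ L, ((c : ↥(maximalIdeal A)) : A) ∈ maximalIdeal A ^ n • maximalIdeal A := by
      intro c hc
      rw [hLdef] at hc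
      have hc' : ((c : ↥(maximalIdeal A)) : A) ∈ maximalIdeal A ^ (n + 1) := hc
      rw [pow_succ] at hc'
      exact hc'
    have hrange := Groth.Agent.Helper1.range_lTensor_le_smul_top (M := M) (maximalIdeal A ^ n)
      (maximalIdeal A) L hL
    apply hrange
    rw [← hy, hfac, LinearMap.lTensor_comp, LinearMap.comp_apply]
    exact LinearMap.mem_range_self _ _
  haveI : Module.Finite B (M ⊗[A] ↥(maximalIdeal A)) :=
    Module.Finite.equiv (AlgebraTensorModule.cancelBaseChange A B B M ↥(maximalIdeal A))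
  have hI : (maximalIdeal A).map (algebraMap A B) ≤ Ideal.jacobson ⊥ := by
    rw [IsLocalRing.jacobson_eq_maximalIdeal ⊥ bot_ne_top]
    exact IsLocalRing.map_maximalIdeal_le (algebraMap A B)
  have hkrull := Ideal.iInf_pow_smul_eq_bot_of_le_jacobson (R := B)
    (M := M ⊗[A] ↥(maximalIdeal A)) ((maximalIdeal A).map (algebraMap A B)) hI
  have hmem : x ∈ (⨅ i : ℕ, ((maximalIdeal A).map (algebraMap A B)) ^ i • ⊤ :
      Submodule B (M ⊗[A] ↥(maximalIdeal A))) := by
    rw [Submodule.mem_iInf]
    intro n
    have hrs : ((((maximalIdeal A).map (algebraMap A B)) ^ n •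
        (⊤ : Submodule B (M ⊗[A] ↥(maximalIdeal A)))).restrictScalars A) =
        maximalIdeal A ^ n • (⊤ : Submodule A (M ⊗[A] ↥(maximalIdeal A))) := by
      rw [← Ideal.map_pow, Ideal.smul_restrictScalars, Submodule.restrictScalars_top]
    have h2 : x ∈ ((((maximalIdeal A).map (algebraMap A B)) ^ n •
        (⊤ : Submodule B (M ⊗[A] ↥(maximalIdeal A)))).restrictScalars A) := by
      rw [hrs]
      exact hmemA n
    exact h2
  rw [hkrull] at hmem
  exact (Submodule.mem_bot _).mp hmem

end Main

/-- Affine-local form. Let A → B be a local homomorphism of Noetherian local rings, m the maximal ideal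
of A, J an ideal of B and M a finite B-module whose localizations M_q are flat over A at all primes
q not containing J (M is flat over A off V(J)). If depth_J (M/mM) ≥ 1 (the restriction map of the
closed fibre of M to the complement of V(J) is injective), then M is flat over A. -/
theorem result (A B : Type u) [CommRing A] [CommRing B]
    [IsNoetherianRing A] [IsNoetherianRing B] [IsLocalRing A] [IsLocalRing B] [Algebra A B]
    [IsLocalHom (algebraMap A B)] (J : Ideal B)
    (M : Type u) [AddCommGroup M] [Module B M] [Module A M] [IsScalarTower A B M] [Module.Finite B M]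
    (hU : ∀ q : PrimeSpectrum B, ¬ J ≤ q.asIdeal → FlatCA.FlatAt A q.asIdeal M)
    (h1 : 1 ≤ LocCoh.idealDepth J (EGA4.FibMod A B M)) : Module.Flat A M := by
  have h1' : ∀ y : EGA4.FibMod A B M, (∀ b ∈ J, b • y = 0) → y = 0 :=
    (Groth.Agent.Helper28.ReflDepth.one_le_idealDepth_iff J (EGA4.FibMod A B M)).mp h1
  have hinj := lTensor_subtype_injective A B J M (fun q hq => hU q hq) h1'
  letI : Field (A ⧸ maximalIdeal A) := Ideal.Quotient.field (maximalIdeal A)
  have H1 : Injective ((maximalIdeal A).subtype.rTensor M) := by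
    rw [← LinearMap.lTensor_inj_iff_rTensor_inj]
    exact hinj
  have hI : (maximalIdeal A).map (algebraMap A B) ≤ Ideal.jacobson ⊥ := by
    rw [IsLocalRing.jacobson_eq_maximalIdeal ⊥ bot_ne_top]
    exact IsLocalRing.map_maximalIdeal_le (algebraMap A B)
  exact Groth.Agent.Helper1.flat_of_flat_quotient_pow (S := B) (maximalIdeal A) hI
    (fun n _ => Groth.Agent.Helper1.flat_quotient_pow (maximalIdeal A) H1 n)

end Groth.Agent.S18705
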