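import Groth.Statements.S18708
import Groth.Agent.Lib.Helper1.LocalCriterion
import Groth.Agent.Lib.Helper28.ReflDepth
import Groth.Agent.Lib.Helper28.BlowFlat
import Groth.Agent.Lib.Helper5.HS5
import Groth.Agent.Lib.Lead.Flat6
import Groth.Agent.Lib.Lead.Depth4
import Groth.Agent.S6918
import Groth.Agent.S18705

set_option autoImplicit false
set_option linter.style.haveILetI false
set_option linter.unusedSectionVars false
set_option linter.unusedVariables false
universe u
open QGor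

namespace Groth.Agent.S18708

open TensorProduct Function IsLocalRing

theorem one_le_sub_one {a : ℕ∞} (h : 2 ≤ a) : 1 ≤ a - 1 := by
  have h1 : (1 : ℕ∞) ≤ a := le_trans one_le_two h
  have h2 : (1 : ℕ∞) + 1 ≤ (a - 1) + 1 := by
    rw [tsub_add_cancel_of_le h1, one_add_one_eq_two]
    exact h
  exact (ENat.add_le_add_iff_right ENat.one_ne_top).mp h2

theorem two_le_of_min {a b c : ℕ∞} (ha : 2 ≤ a) (hb : 1 ≤ b) (h : min a (b + 1) ≤ c) : 2 ≤ c := by
  refine le_trans (le_min ha ?_) h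
  calc (2 : ℕ∞) = 1 + 1 := one_add_one_eq_two.symm
    _ ≤ b + 1 := by gcongr

theorem isFiniteLength_quot_pow (A : Type u) [CommRing A] [IsNoetherianRing A] [IsLocalRing A]
    (n : ℕ) : IsFiniteLength A (A ⧸ maximalIdeal A ^ n) := by
  have h := Groth.Agent.Helper5.HS.isFiniteLength_quot_jacobson_pow_smul A A n
  rw [IsLocalRing.ringJacobson_eq_maximalIdeal] at h
  have h' : (maximalIdeal A ^ n • (⊤ : Submodule A A) : Submodule A A) = maximalIdeal A ^ n := by
    rw [Ideal.smul_eq_mul, Ideal.mul_top]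
  exact (Submodule.quotEquivOfEq _ _ h').isFiniteLength h

/-- `g ⊗ Q` for a `B`-linear map `g` and an `A`-module `Q`, as a `B`-linear map. -/
noncomputable abbrev rT (A : Type u) {B : Type u} [CommRing A] [CommRing B] [Algebra A B]
    {X Y : Type u} [AddCommGroup X] [Module B X] [Module A X]
    [IsScalarTower A B X] [AddCommGroup Y] [Module B Y] [Module A Y] [IsScalarTower A B Y]
    (Q : Type u) [AddCommGroup Q] [Module A Q] (g : X →ₗ[B] Y) : X ⊗[A] Q →ₗ[B] Y ⊗[A] Q :=
  AlgebraTensorModule.rTensor A Q g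

section General

variable {A B : Type u} [CommRing A] [CommRing B] [IsNoetherianRing B] [Algebra A B] (J : Ideal B)

section rT

variable {X Y Z : Type u} [AddCommGroup X] [Module B X] [Module A X] [IsScalarTower A B X]
    [AddCommGroup Y] [Module B Y] [Module A Y] [IsScalarTower A B Y]
    [AddCommGroup Z] [Module B Z] [Module A Z] [IsScalarTower A B Z]
    (Q : Type u) [AddCommGroup Q] [Module A Q]

theorem rT_eq (g : X →ₗ[B] Y) (y : X ⊗[A] Q) :
    rT A Q g y = (g.restrictScalars A).rTensor Q y := by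
  induction y using TensorProduct.induction_on with
  | zero => simp only [map_zero]
  | tmul a c => rfl
  | add a b ha hb => simp only [map_add, ha, hb]

theorem rT_comp (g : X →ₗ[B] Y) (h : Y →ₗ[B] Z) (y : X ⊗[A] Q) :
    rT A Q h (rT A Q g y) = rT A Q (h ∘ₗ g) y := by
  induction y using TensorProduct.induction_on with
  | zero => simp only [map_zero]
  | tmul a c => rfl
  | add a b ha hb => simp only [map_add, ha, hb]

theorem rT_exact (g : X →ₗ[B] Y) (h : Y →ₗ[B] Z) (hgh : Function.Exact g h)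
    (hh : Surjective h) : Function.Exact (rT A Q g) (rT A Q h) := by
  have h1 : Function.Exact ((g.restrictScalars A).rTensor Q) ((h.restrictScalars A).rTensor Q) :=
    rTensor_exact Q (f := g.restrictScalars A) (g := h.restrictScalars A) hgh hh
  intro y
  rw [rT_eq, h1 y]
  constructor
  · rintro ⟨z, hz⟩
    exact ⟨z, by rw [rT_eq]; exact hz⟩
  · rintro ⟨z, hz⟩
    exact ⟨z, by rw [← rT_eq]; exact hz⟩

theorem rT_surjective (h : Y →ₗ[B] Z) (hh : Surjective h) : Surjective (rT A Q h) := by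
  intro y
  obtain ⟨z, hz⟩ := LinearMap.rTensor_surjective Q (g := h.restrictScalars A) hh y
  exact ⟨z, by rw [rT_eq]; exact hz⟩

theorem rT_injective_of_flat (g : X →ₗ[B] Y) (h : Y →ₗ[B] Z) (hg : Injective g)
    (hgh : Function.Exact g h) (hh : Surjective h) [Module.Flat A Z] : Injective (rT A Q g) := by
  have h1 : Injective ((g.restrictScalars A).lTensor Q) :=
    Groth.Agent.Helper1.lTensor_injective_of_exact_of_flat (g.restrictScalars A)
      (h.restrictScalars A) hg hgh hh Q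
  rw [LinearMap.lTensor_inj_iff_rTensor_inj] at h1
  intro a b hab
  apply h1
  rw [← rT_eq, ← rT_eq]
  exact hab

end rT

theorem finite_tensor (X : Type u) [AddCommGroup X] [Module B X] [Module A X]
    [IsScalarTower A B X] [Module.Finite B X] (Q : Type u) [AddCommGroup Q] [Module A Q]
    [Module.Finite A Q] : Module.Finite B (X ⊗[A] Q) :=
  Module.Finite.equiv (AlgebraTensorModule.cancelBaseChange A B B X Q)

theorem one_le_idealDepth_of_injective {X Y : Type u} [AddCommGroup X] [Module B X]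
    [Module.Finite B X] [AddCommGroup Y] [Module B Y] [Module.Finite B Y]
    (φ : X →ₗ[B] Y) (hφ : Injective φ) (hY : 1 ≤ LocCoh.idealDepth J Y) :
    1 ≤ LocCoh.idealDepth J X := by
  rw [Groth.Agent.Helper28.ReflDepth.one_le_idealDepth_iff] at hY ⊢
  intro x hx
  apply hφ
  rw [map_zero]
  apply hY
  intro a ha
  rw [← map_smul, hx a ha, map_zero]

/-- An element of the kernel of `g ⊗ Q` (`g` injective with cokernel `Z`) is killed by a power of
`J`, if `Z` is `A`-flat at all primes not containing `J`. -/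
theorem exists_pow_smul_eq_zero_of_exact
    {X Y Z : Type u} [AddCommGroup X] [Module B X] [Module A X] [IsScalarTower A B X]
    [AddCommGroup Y] [Module B Y] [Module A Y] [IsScalarTower A B Y]
    [AddCommGroup Z] [Module B Z] [Module A Z] [IsScalarTower A B Z]
    (g : X →ₗ[B] Y) (h : Y →ₗ[B] Z) (hg : Injective g) (hgh : Function.Exact g h)
    (hh : Surjective h)
    (hZ : ∀ q : PrimeSpectrum B, ¬ J ≤ q.asIdeal →
      Module.Flat A (LocalizedModule q.asIdeal.primeCompl Z))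
    (Q : Type u) [AddCommGroup Q] [Module A Q]
    (x : X ⊗[A] Q) (hx : rT A Q g x = 0) :
    ∃ n : ℕ, ∀ b ∈ J ^ n, b • x = 0 := by
  obtain ⟨𝔞, h𝔞⟩ : ∃ 𝔞 : Ideal B, ∀ b, b ∈ 𝔞 ↔ b • x = 0 :=
    ⟨LinearMap.ker (LinearMap.toSpanSingleton B (X ⊗[A] Q) x), fun b => by
      rw [LinearMap.mem_ker, LinearMap.toSpanSingleton_apply]⟩
  have hJ : J ≤ 𝔞.radical := by
    rw [Ideal.radical_eq_sInf]
    refine le_sInf ?_
    rintro q ⟨h𝔞q, hq⟩
    by_contra hJq
    haveI := hq
    haveI : Module.Flat A (LocalizedModule q.primeCompl Z) := hZ ⟨q, hq⟩ hJq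
    obtain ⟨gq, hgq⟩ : ∃ gq : LocalizedModule q.primeCompl X →ₗ[B]
        LocalizedModule q.primeCompl Y,
        gq = IsLocalizedModule.map q.primeCompl (LocalizedModule.mkLinearMap q.primeCompl X)
          (LocalizedModule.mkLinearMap q.primeCompl Y) g := ⟨_, rfl⟩
    obtain ⟨hq', hhq'⟩ : ∃ hq' : LocalizedModule q.primeCompl Y →ₗ[B]
        LocalizedModule q.primeCompl Z,
        hq' = IsLocalizedModule.map q.primeCompl (LocalizedModule.mkLinearMap q.primeCompl Y)
          (LocalizedModule.mkLinearMap q.primeCompl Z) h := ⟨_, rfl⟩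
    have hgq_inj : Injective gq := by
      rw [hgq]
      exact IsLocalizedModule.map_injective q.primeCompl _ _ g hg
    have hhq_surj : Surjective hq' := by
      rw [hhq']
      exact IsLocalizedModule.map_surjective q.primeCompl _ _ h hh
    have hex : Function.Exact gq hq' := by
      rw [hgq, hhq']
      exact IsLocalizedModule.map_exact q.primeCompl _ _ _ g h hgh
    have hinj2 : Injective (rT A Q gq) := rT_injective_of_flat Q gq hq' hgq_inj hex hhq_surj
    have hcomm : ∀ y : X ⊗[A] Q,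
        rT A Q gq (rT A Q (LocalizedModule.mkLinearMap q.primeCompl X) y) =
          rT A Q (LocalizedModule.mkLinearMap q.primeCompl Y) (rT A Q g y) := by
      intro y
      rw [rT_comp, rT_comp]
      have hc : gq ∘ₗ LocalizedModule.mkLinearMap q.primeCompl X =
          LocalizedModule.mkLinearMap q.primeCompl Y ∘ₗ g := by
        rw [hgq]
        exact IsLocalizedModule.map_comp q.primeCompl _ _ g
      rw [hc]
    have h0 : rT A Q (LocalizedModule.mkLinearMap q.primeCompl X) x = 0 := by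
      apply hinj2
      rw [map_zero, hcomm, hx, map_zero]
    obtain ⟨s, hs⟩ := (IsLocalizedModule.eq_zero_iff q.primeCompl
      (AlgebraTensorModule.rTensor A Q (LocalizedModule.mkLinearMap q.primeCompl X))).mp h0
    have hs' : (s : B) • x = 0 := hs
    exact s.2 (h𝔞q ((h𝔞 _).mpr hs'))
  obtain ⟨n, hn⟩ := Ideal.exists_pow_le_of_le_radical_of_fg hJ (IsNoetherian.noetherian J)
  exact ⟨n, fun b hb => (h𝔞 b).mp (hn hb)⟩

/-- The kernel of a surjection between modules flat at a multiplicative set is flat there. -/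
theorem flat_localizedModule_of_exact
    {X Y Z : Type u} [AddCommGroup X] [Module B X] [Module A X] [IsScalarTower A B X]
    [AddCommGroup Y] [Module B Y] [Module A Y] [IsScalarTower A B Y]
    [AddCommGroup Z] [Module B Z] [Module A Z] [IsScalarTower A B Z]
    (g : X →ₗ[B] Y) (h : Y →ₗ[B] Z) (hg : Injective g) (hgh : Function.Exact g h)
    (hh : Surjective h) (S : Submonoid B)
    [Module.Flat A (LocalizedModule S Y)] [Module.Flat A (LocalizedModule S Z)] :
    Module.Flat A (LocalizedModule S X) :=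
  Groth.Agent.Helper28.BlowFlat.flat_of_exact
    ((IsLocalizedModule.map S (LocalizedModule.mkLinearMap S X)
      (LocalizedModule.mkLinearMap S Y) g).restrictScalars A)
    ((IsLocalizedModule.map S (LocalizedModule.mkLinearMap S Y)
      (LocalizedModule.mkLinearMap S Z) h).restrictScalars A)
    (IsLocalizedModule.map_injective S _ _ g hg)
    (IsLocalizedModule.map_surjective S _ _ h hh)
    (IsLocalizedModule.map_exact S _ _ _ g h hgh)

end General

section LocalBase

variable {A B : Type u} [CommRing A] [CommRing B] [IsNoetherianRing A] [IsNoetherianRing B]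
  [IsLocalRing A] [Algebra A B] (J : Ideal B)

/-- For `E` flat over `A`, the `J`-depth of `E ⊗ Q` (`Q` of finite length) is at least that of
`E ⊗ k`. -/
theorem le_idealDepth_tensor_of_isFiniteLength
    (E : Type u) [AddCommGroup E] [Module B E] [Module A E] [IsScalarTower A B E]
    [Module.Finite B E] [Module.Flat A E] (d : ℕ∞)
    (hd : d ≤ LocCoh.idealDepth J (E ⊗[A] (A ⧸ maximalIdeal A)))
    (Q : Type u) [AddCommGroup Q] [Module A Q] (hQ : IsFiniteLength A Q) :
    d ≤ LocCoh.idealDepth J (E ⊗[A] Q) := by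
  induction hQ with
  | @of_subsingleton M _ _ _ =>
    have hsub : ∀ z : E ⊗[A] M, z = 0 := by
      intro z
      induction z using TensorProduct.induction_on with
      | zero => rfl
      | tmul a c => rw [Subsingleton.elim c 0, tmul_zero]
      | add a b ha hb => rw [ha, hb, add_zero]
    rw [Groth.Agent.Lead.Depth.idealDepth_of_eq_top J (E ⊗[A] M)
      (eq_top_iff.mpr (fun z _ => by rw [hsub z]; exact Submodule.zero_mem _))]
    exact le_top
  | @of_simple_quotient M _ _ N _ hN ih =>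
    have hMfl : IsFiniteLength A M := IsFiniteLength.of_simple_quotient hN
    haveI : IsNoetherian A M := (isFiniteLength_iff_isNoetherian_isArtinian.mp hMfl).1
    haveI : Module.Finite B (E ⊗[A] ↥N) := finite_tensor E ↥N
    haveI : Module.Finite B (E ⊗[A] M) := finite_tensor E M
    haveI : Module.Finite B (E ⊗[A] (M ⧸ N)) := finite_tensor E (M ⧸ N)
    obtain ⟨I', hI', ⟨e⟩⟩ := isSimpleModule_iff_quot_maximal.mp
      (inferInstance : IsSimpleModule A (M ⧸ N))
    obtain rfl := IsLocalRing.eq_maximalIdeal hI'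
    have hinj : Injective (AlgebraTensorModule.lTensor B E N.subtype) :=
      Module.Flat.lTensor_preserves_injective_linearMap (M := E) N.subtype
        (Submodule.injective_subtype N)
    have hsurj : Surjective (AlgebraTensorModule.lTensor B E N.mkQ) :=
      LinearMap.lTensor_surjective E (Submodule.mkQ_surjective N)
    have hex : Function.Exact (AlgebraTensorModule.lTensor B E N.subtype)
        (AlgebraTensorModule.lTensor B E N.mkQ) :=
      lTensor_exact E (LinearMap.exact_subtype_mkQ N) (Submodule.mkQ_surjective N)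
    have h3 := (Groth.Agent.Lead.Depth.idealDepth_shortExact J (E ⊗[A] ↥N) (E ⊗[A] M)
      (E ⊗[A] (M ⧸ N)) (AlgebraTensorModule.lTensor B E N.subtype)
      (AlgebraTensorModule.lTensor B E N.mkQ) hinj hsurj hex).1
    have h4 : LocCoh.idealDepth J (E ⊗[A] (M ⧸ N)) =
        LocCoh.idealDepth J (E ⊗[A] (A ⧸ maximalIdeal A)) :=
      Groth.Agent.Lead.Depth.idealDepth_congr J
        (AlgebraTensorModule.congr (LinearEquiv.refl B E) e)
    rw [h4] at h3
    exact le_trans (le_min ih hd) h3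

end LocalBase

section Local

variable (A B : Type u) [CommRing A] [CommRing B]
    [IsNoetherianRing A] [IsNoetherianRing B] [IsLocalRing A] [IsLocalRing B] [Algebra A B]
    [IsLocalHom (algebraMap A B)] (J : Ideal B)
    (F E0 E1 G : Type u) [AddCommGroup F] [Module B F] [Module A F] [IsScalarTower A B F]
    [Module.Finite B F]
    [AddCommGroup E0] [Module B E0] [Module A E0] [IsScalarTower A B E0] [Module.Finite B E0]
    [Module.Flat A E0]
    [AddCommGroup E1] [Module B E1] [Module A E1] [IsScalarTower A B E1] [Module.Finite B E1]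
    [Module.Flat A E1]
    [AddCommGroup G] [Module B G] [Module A G] [IsScalarTower A B G] [Module.Finite B G]
    (f : F →ₗ[B] E0) (u : E0 →ₗ[B] E1) (v : E1 →ₗ[B] G)

/-- Splitting the four-term sequence at the image of `u`. -/
theorem setup (hfu : Function.Exact f u) (huv : Function.Exact u v) :
    ∃ (I : Submodule B E1) (π : E0 →ₗ[B] ↥I), Surjective π ∧ Function.Exact f π ∧
      Function.Exact I.subtype v ∧ I.subtype ∘ₗ π = u := by
  have hmemI : ∀ y, u y ∈ LinearMap.range u := fun y => LinearMap.mem_range_self u y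
  refine ⟨LinearMap.range u, LinearMap.codRestrict (LinearMap.range u) u hmemI, ?_, ?_, ?_, ?_⟩
  · rintro ⟨w, hw⟩
    obtain ⟨y, hy⟩ := LinearMap.mem_range.mp hw
    exact ⟨y, Subtype.ext hy⟩
  · intro y
    rw [← hfu y]
    constructor
    · intro h
      exact congrArg Subtype.val h
    · intro h
      exact Subtype.ext h
  · intro y
    rw [huv y]
    constructor
    · rintro ⟨w, rfl⟩
      exact ⟨⟨u w, hmemI w⟩, rfl⟩
    · rintro ⟨⟨w, hw⟩, rfl⟩
      exact LinearMap.mem_range.mp hw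
  · exact LinearMap.ext fun y => rfl

theorem fibMod_depth_iff (X : Type u) [AddCommGroup X] [Module B X] [Module A X]
    [IsScalarTower A B X] (𝔞 : Ideal A) :
    LocCoh.idealDepth J (X ⧸ (𝔞.map (algebraMap A B)) • (⊤ : Submodule B X)) =
      LocCoh.idealDepth J (X ⊗[A] (A ⧸ 𝔞)) :=
  Groth.Agent.Lead.Depth.idealDepth_congr J
    (Groth.Agent.Lead.FlatDepth.fibreEquiv (S := B) 𝔞 X)

/-- `depth_J (F/mF) ≥ 2` implies that `G` is flat. -/
theorem flat_of_two_le
    (hf : Injective f) (hfu : Function.Exact f u) (huv : Function.Exact u v) (hv : Surjective v)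
    (hGU : ∀ q : PrimeSpectrum B, ¬ J ≤ q.asIdeal →
      Module.Flat A (LocalizedModule q.asIdeal.primeCompl G))
    (h0 : 2 ≤ LocCoh.idealDepth J (EGA4.FibMod A B E0))
    (h1 : 1 ≤ LocCoh.idealDepth J (EGA4.FibMod A B E1))
    (h2 : 2 ≤ LocCoh.idealDepth J (EGA4.FibMod A B F)) : Module.Flat A G := by
  obtain ⟨I, π, hπ_surj, hfπ, hιv, hιπ⟩ := setup B F E0 E1 G f u v hfu huv
  -- notation
  obtain ⟨k, hk⟩ : ∃ k : Ideal A, k = maximalIdeal A := ⟨_, rfl⟩
  have hE0 : 2 ≤ LocCoh.idealDepth J (E0 ⊗[A] (A ⧸ maximalIdeal A)) := by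
    rw [← fibMod_depth_iff A B J E0 (maximalIdeal A)]
    exact h0
  have hE1 : 1 ≤ LocCoh.idealDepth J (E1 ⊗[A] (A ⧸ maximalIdeal A)) := by
    rw [← fibMod_depth_iff A B J E1 (maximalIdeal A)]
    exact h1
  have hF2 : 2 ≤ LocCoh.idealDepth J (F ⊗[A] (A ⧸ maximalIdeal A)) := by
    rw [← fibMod_depth_iff A B J F (maximalIdeal A)]
    exact h2
  haveI : Module.Finite B (F ⊗[A] (A ⧸ maximalIdeal A)) := finite_tensor F _
  haveI : Module.Finite B (E0 ⊗[A] (A ⧸ maximalIdeal A)) := finite_tensor E0 _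
  haveI : Module.Finite B (E1 ⊗[A] (A ⧸ maximalIdeal A)) := finite_tensor E1 _
  -- `I` is flat off `V(J)`
  have hIU : ∀ q : PrimeSpectrum B, ¬ J ≤ q.asIdeal →
      Module.Flat A (LocalizedModule q.asIdeal.primeCompl ↥I) := by
    intro q hq
    haveI : Module.Flat A (LocalizedModule q.asIdeal.primeCompl G) := hGU q hq
    haveI : Module.Flat A (LocalizedModule q.asIdeal.primeCompl E1) :=
      Groth.Agent.S6918.flat_localizedModule q.asIdeal.primeCompl E1
    exact flat_localizedModule_of_exact I.subtype v (Submodule.injective_subtype I) hιv hv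
      q.asIdeal.primeCompl
  -- the maps mod `m`
  obtain ⟨Tf, hTf⟩ : ∃ Tf : F ⊗[A] (A ⧸ maximalIdeal A) →ₗ[B] E0 ⊗[A] (A ⧸ maximalIdeal A),
      Tf = rT A (A ⧸ maximalIdeal A) f := ⟨_, rfl⟩
  obtain ⟨Tπ, hTπ⟩ : ∃ Tπ : E0 ⊗[A] (A ⧸ maximalIdeal A) →ₗ[B] ↥I ⊗[A] (A ⧸ maximalIdeal A),
      Tπ = rT A (A ⧸ maximalIdeal A) π := ⟨_, rfl⟩
  obtain ⟨Tι, hTι⟩ : ∃ Tι : ↥I ⊗[A] (A ⧸ maximalIdeal A) →ₗ[B] E1 ⊗[A] (A ⧸ maximalIdeal A),
      Tι = rT A (A ⧸ maximalIdeal A) I.subtype := ⟨_, rfl⟩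
  obtain ⟨Tu, hTu'⟩ : ∃ Tu : E0 ⊗[A] (A ⧸ maximalIdeal A) →ₗ[B] E1 ⊗[A] (A ⧸ maximalIdeal A),
      Tu = rT A (A ⧸ maximalIdeal A) u := ⟨_, rfl⟩
  have hTu : ∀ y, Tu y = Tι (Tπ y) := by
    intro y
    rw [hTu', hTι, hTπ, rT_comp, hιπ]
  have hfπT : Function.Exact Tf Tπ := by
    rw [hTf, hTπ]
    exact rT_exact _ f π hfπ hπ_surj
  have hTπ_surj : Surjective Tπ := by
    rw [hTπ]
    exact rT_surjective _ π hπ_surj
  -- Claim A: `Tf` is injective
  have hF_tors := (Groth.Agent.Helper28.ReflDepth.one_le_idealDepth_iff J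
    (F ⊗[A] (A ⧸ maximalIdeal A))).mp (le_trans one_le_two hF2)
  have hTf_inj : Injective Tf := by
    rw [injective_iff_map_eq_zero]
    intro z hz
    rw [hTf] at hz
    obtain ⟨n, hn⟩ := exists_pow_smul_eq_zero_of_exact J f π hf hfπ hπ_surj hIU
      (A ⧸ maximalIdeal A) z hz
    exact Groth.Agent.S18705.eq_zero_of_pow_smul J hF_tors n z hn
  -- kernel and image of `Tu`
  obtain ⟨K0, hK0⟩ : ∃ K0 : Submodule B (E0 ⊗[A] (A ⧸ maximalIdeal A)),
      K0 = LinearMap.ker Tu := ⟨_, rfl⟩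
  obtain ⟨R0, hR0⟩ : ∃ R0 : Submodule B (E1 ⊗[A] (A ⧸ maximalIdeal A)),
      R0 = LinearMap.range Tu := ⟨_, rfl⟩
  have hR0_depth : 1 ≤ LocCoh.idealDepth J ↥R0 :=
    one_le_idealDepth_of_injective J R0.subtype (Submodule.injective_subtype R0) hE1
  have hmemR0 : ∀ y, Tu y ∈ R0 := fun y => (le_of_eq hR0.symm) (LinearMap.mem_range_self Tu y)
  obtain ⟨ρ, hρ⟩ : ∃ ρ : E0 ⊗[A] (A ⧸ maximalIdeal A) →ₗ[B] ↥R0,
      ∀ y, ((ρ y : ↥R0) : E1 ⊗[A] (A ⧸ maximalIdeal A)) = Tu y :=
    ⟨LinearMap.codRestrict R0 Tu hmemR0, fun y => rfl⟩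
  have hρ_surj : Surjective ρ := by
    rintro ⟨w, hw⟩
    obtain ⟨y, hy⟩ := LinearMap.mem_range.mp ((le_of_eq hR0) hw)
    exact ⟨y, Subtype.ext ((hρ y).trans hy)⟩
  have hKρ : Function.Exact K0.subtype ρ := by
    intro y
    constructor
    · intro h
      have h' : Tu y = 0 := by rw [← hρ y, h, Submodule.coe_zero]
      have hy : y ∈ K0 := (le_of_eq hK0.symm) (LinearMap.mem_ker.mpr h')
      exact ⟨⟨y, hy⟩, rfl⟩
    · rintro ⟨⟨w, hw⟩, rfl⟩
      have hw' : w ∈ LinearMap.ker Tu := (le_of_eq hK0) hw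
      exact Subtype.ext ((hρ w).trans (LinearMap.mem_ker.mp hw'))
  have hK0_depth : 2 ≤ LocCoh.idealDepth J ↥K0 :=
    two_le_of_min hE0 hR0_depth
      (Groth.Agent.Lead.Depth.idealDepth_shortExact J ↥K0 (E0 ⊗[A] (A ⧸ maximalIdeal A)) ↥R0
        K0.subtype ρ (Submodule.injective_subtype K0) hρ_surj hKρ).2.2
  -- the image of `Tf`
  obtain ⟨N0, hN0⟩ : ∃ N0 : Submodule B (E0 ⊗[A] (A ⧸ maximalIdeal A)),
      N0 = LinearMap.range Tf := ⟨_, rfl⟩
  have hN0_depth : 2 ≤ LocCoh.idealDepth J ↥N0 := by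
    subst hN0
    rw [← Groth.Agent.Lead.Depth.idealDepth_congr J (LinearEquiv.ofInjective Tf hTf_inj)]
    exact hF2
  have hNK : N0 ≤ K0 := by
    rw [hN0, hK0]
    rintro _ ⟨z, rfl⟩
    rw [LinearMap.mem_ker, hTu, hfπT.apply_apply_eq_zero, map_zero]
  obtain ⟨j, hj⟩ : ∃ j : ↥N0 →ₗ[B] ↥K0,
      ∀ w, ((j w : ↥K0) : E0 ⊗[A] (A ⧸ maximalIdeal A)) = (w : E0 ⊗[A] (A ⧸ maximalIdeal A)) :=
    ⟨Submodule.inclusion hNK, fun w => rfl⟩
  have hj_inj : Injective j := by
    intro a b hab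
    apply Subtype.ext
    rw [← hj a, ← hj b, hab]
  have hC_depth : 1 ≤ LocCoh.idealDepth J (↥K0 ⧸ LinearMap.range j) := by
    have h3 := (Groth.Agent.Lead.Depth.idealDepth_shortExact J ↥N0 ↥K0
      (↥K0 ⧸ LinearMap.range j) j (LinearMap.range j).mkQ hj_inj
      (Submodule.mkQ_surjective _) (LinearMap.exact_map_mkQ_range j)).2.1
    exact le_trans (le_min (le_trans one_le_two hK0_depth) (one_le_sub_one hN0_depth)) h3
  have hC_tors := (Groth.Agent.Helper28.ReflDepth.one_le_idealDepth_iff J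
    (↥K0 ⧸ LinearMap.range j)).mp hC_depth
  -- Claim B: the kernel of `Tu` is the image of `Tf`
  have hKN : ∀ y : E0 ⊗[A] (A ⧸ maximalIdeal A), Tu y = 0 → ∃ z, Tf z = y := by
    intro y hy
    have hyK : y ∈ K0 := (le_of_eq hK0.symm) (LinearMap.mem_ker.mpr hy)
    have hx : rT A (A ⧸ maximalIdeal A) I.subtype (Tπ y) = 0 := by
      rw [← hTι, ← hTu]
      exact hy
    obtain ⟨n, hn⟩ := exists_pow_smul_eq_zero_of_exact J I.subtype v
      (Submodule.injective_subtype I) hιv hv hGU (A ⧸ maximalIdeal A) (Tπ y) hx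
    have hc : (LinearMap.range j).mkQ (⟨y, hyK⟩ : ↥K0) = 0 := by
      apply Groth.Agent.S18705.eq_zero_of_pow_smul J hC_tors n
      intro b hb
      have hsm : b • (LinearMap.range j).mkQ (⟨y, hyK⟩ : ↥K0) =
          (LinearMap.range j).mkQ (b • (⟨y, hyK⟩ : ↥K0)) := (map_smul _ b _).symm
      rw [hsm, Submodule.mkQ_apply, Submodule.Quotient.mk_eq_zero]
      have h1 : Tπ (b • y) = 0 := by rw [map_smul, hn b hb]
      obtain ⟨z, hz⟩ := (hfπT (b • y)).mp h1
      have hzN : Tf z ∈ N0 := (le_of_eq hN0.symm) (LinearMap.mem_range_self Tf z)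
      refine ⟨⟨Tf z, hzN⟩, ?_⟩
      apply Subtype.ext
      rw [hj]
      exact hz
    rw [Submodule.mkQ_apply, Submodule.Quotient.mk_eq_zero] at hc
    obtain ⟨w, hw⟩ := hc
    have hwN : (w : E0 ⊗[A] (A ⧸ maximalIdeal A)) ∈ LinearMap.range Tf := (le_of_eq hN0) w.2
    obtain ⟨z, hz⟩ := LinearMap.mem_range.mp hwN
    refine ⟨z, hz.trans ?_⟩
    rw [← hj w, hw]
  -- `I ⊗ k → E1 ⊗ k` is injective
  have hTι_inj : Injective Tι := by
    rw [injective_iff_map_eq_zero]
    intro x hx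
    obtain ⟨y, rfl⟩ := hTπ_surj x
    obtain ⟨z, rfl⟩ := hKN y (by rw [hTu]; exact hx)
    exact hfπT.apply_apply_eq_zero z
  have hTι_inj' : Injective ((I.subtype.restrictScalars A).rTensor (A ⧸ maximalIdeal A)) := by
    intro a b hab
    apply hTι_inj
    rw [hTι, rT_eq, rT_eq]
    exact hab
  -- `Tor₁(k, G) = 0`
  have hinjG : Injective ((maximalIdeal A).subtype.lTensor G) := by
    refine lTensor_injective_of_exact_of_exact_of_rTensor_injective
      (f₁ := I.subtype.restrictScalars A) (f₂ := v.restrictScalars A)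
      (g₁ := (maximalIdeal A).subtype) (g₂ := (maximalIdeal A).mkQ)
      hιv hv (LinearMap.exact_subtype_mkQ _) (Submodule.mkQ_surjective _) hTι_inj' ?_
    exact Module.Flat.lTensor_preserves_injective_linearMap _ (Submodule.injective_subtype _)
  letI : Field (A ⧸ maximalIdeal A) := Ideal.Quotient.field (maximalIdeal A)
  have H1 : Injective ((maximalIdeal A).subtype.rTensor G) := by
    rw [← LinearMap.lTensor_inj_iff_rTensor_inj]
    exact hinjG
  have hI : (maximalIdeal A).map (algebraMap A B) ≤ Ideal.jacobson ⊥ := by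
    rw [IsLocalRing.jacobson_eq_maximalIdeal ⊥ bot_ne_top]
    exact IsLocalRing.map_maximalIdeal_le (algebraMap A B)
  exact Groth.Agent.Helper1.flat_of_flat_quotient_pow (S := B) (maximalIdeal A) hI
    (fun n _ => Groth.Agent.Helper1.flat_quotient_pow (maximalIdeal A) H1 n)

/-- If `G` is flat then `depth_J (F ⊗ A/𝔞) ≥ 2` for every `𝔞` with `A/𝔞` of finite length, and `F`
is flat. -/
theorem two_le_of_flat [Module.Flat A G]
    (hf : Injective f) (hfu : Function.Exact f u) (huv : Function.Exact u v) (hv : Surjective v)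
    (h0 : 2 ≤ LocCoh.idealDepth J (EGA4.FibMod A B E0))
    (h1 : 1 ≤ LocCoh.idealDepth J (EGA4.FibMod A B E1)) :
    Module.Flat A F ∧ ∀ 𝔞 : Ideal A, IsFiniteLength A (A ⧸ 𝔞) →
      2 ≤ LocCoh.idealDepth J (F ⧸ (𝔞.map (algebraMap A B)) • (⊤ : Submodule B F)) := by
  obtain ⟨I, π, hπ_surj, hfπ, hιv, hιπ⟩ := setup B F E0 E1 G f u v hfu huv
  have hE0 : 2 ≤ LocCoh.idealDepth J (E0 ⊗[A] (A ⧸ maximalIdeal A)) := by
    rw [← fibMod_depth_iff A B J E0 (maximalIdeal A)]
    exact h0
  have hE1 : 1 ≤ LocCoh.idealDepth J (E1 ⊗[A] (A ⧸ maximalIdeal A)) := by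
    rw [← fibMod_depth_iff A B J E1 (maximalIdeal A)]
    exact h1
  haveI : Module.Flat A ↥I :=
    Groth.Agent.Helper28.BlowFlat.flat_of_exact (I.subtype.restrictScalars A)
      (v.restrictScalars A) (Submodule.injective_subtype I) hv hιv
  refine ⟨Groth.Agent.Helper28.BlowFlat.flat_of_exact (f.restrictScalars A)
    (π.restrictScalars A) hf hπ_surj hfπ, ?_⟩
  intro 𝔞 h𝔞
  haveI : Module.Finite B (F ⊗[A] (A ⧸ 𝔞)) := finite_tensor F _
  haveI : Module.Finite B (E0 ⊗[A] (A ⧸ 𝔞)) := finite_tensor E0 _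
  haveI : Module.Finite B (E1 ⊗[A] (A ⧸ 𝔞)) := finite_tensor E1 _
  haveI : Module.Finite B (↥I ⊗[A] (A ⧸ 𝔞)) := finite_tensor ↥I _
  have hTf_inj : Injective (rT A (A ⧸ 𝔞) f) := rT_injective_of_flat _ f π hf hfπ hπ_surj
  have hTι_inj : Injective (rT A (A ⧸ 𝔞) I.subtype) :=
    rT_injective_of_flat _ I.subtype v (Submodule.injective_subtype I) hιv hv
  have hE0Q : 2 ≤ LocCoh.idealDepth J (E0 ⊗[A] (A ⧸ 𝔞)) :=
    le_idealDepth_tensor_of_isFiniteLength J E0 2 hE0 (A ⧸ 𝔞) h𝔞
  have hE1Q : 1 ≤ LocCoh.idealDepth J (E1 ⊗[A] (A ⧸ 𝔞)) :=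
    le_idealDepth_tensor_of_isFiniteLength J E1 1 hE1 (A ⧸ 𝔞) h𝔞
  have hIQ : 1 ≤ LocCoh.idealDepth J (↥I ⊗[A] (A ⧸ 𝔞)) :=
    one_le_idealDepth_of_injective J (rT A (A ⧸ 𝔞) I.subtype) hTι_inj hE1Q
  have h3 := (Groth.Agent.Lead.Depth.idealDepth_shortExact J (F ⊗[A] (A ⧸ 𝔞))
    (E0 ⊗[A] (A ⧸ 𝔞)) (↥I ⊗[A] (A ⧸ 𝔞)) (rT A (A ⧸ 𝔞) f) (rT A (A ⧸ 𝔞) π) hTf_inj
    (rT_surjective _ π hπ_surj) (rT_exact _ f π hfπ hπ_surj)).2.2
  rw [fibMod_depth_iff A B J F 𝔞]
  exact two_le_of_min hE0Q hIQ h3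

end Local

/-- Affine-local form at a point of the equivalence (b) ⇔ (c) ⇔ (b″) and of the note after it. Let A → B
be a local homomorphism of Noetherian local rings, m the maximal ideal of A, J an ideal of B and 0 →
F → E⁰ → E¹ → G → 0 an exact sequence of finite B-modules with E⁰, E¹ flat over A, G_q flat over A
for every prime q not containing J, depth_J (E⁰/mE⁰) ≥ 2 and depth_J (E¹/mE¹) ≥ 1. Then depth_J
(F/mF) ≥ 2 (the restriction map of the closed fibre of F off V(J) is bijective) if and only if G is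
flat over A, if and only if depth_J (F/m^(n+1)F) ≥ 2 for all n; and when G is flat over A so is F. -/
theorem result (A B : Type u) [CommRing A] [CommRing B]
    [IsNoetherianRing A] [IsNoetherianRing B] [IsLocalRing A] [IsLocalRing B] [Algebra A B]
    [IsLocalHom (algebraMap A B)] (J : Ideal B)
    (F E0 E1 G : Type u) [AddCommGroup F] [Module B F] [Module A F] [IsScalarTower A B F] [Module.Finite B F]
    [AddCommGroup E0] [Module B E0] [Module A E0] [IsScalarTower A B E0] [Module.Finite B E0] [Module.Flat A E0]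
    [AddCommGroup E1] [Module B E1] [Module A E1] [IsScalarTower A B E1] [Module.Finite B E1] [Module.Flat A E1]
    [AddCommGroup G] [Module B G] [Module A G] [IsScalarTower A B G] [Module.Finite B G]
    (f : F →ₗ[B] E0) (u : E0 →ₗ[B] E1) (v : E1 →ₗ[B] G)
    (hf : Function.Injective f) (hfu : Function.Exact f u) (huv : Function.Exact u v) (hv : Function.Surjective v)
    (hGU : ∀ q : PrimeSpectrum B, ¬ J ≤ q.asIdeal → FlatCA.FlatAt A q.asIdeal G)
    (h0 : 2 ≤ LocCoh.idealDepth J (EGA4.FibMod A B E0)) (h1 : 1 ≤ LocCoh.idealDepth J (EGA4.FibMod A B E1)) :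
    (2 ≤ LocCoh.idealDepth J (EGA4.FibMod A B F) ↔ Module.Flat A G) ∧
    (Module.Flat A G ↔ ∀ n : ℕ, 2 ≤ LocCoh.idealDepth J (F ⧸ ((EGA4.mB A B) ^ (n + 1) • (⊤ : Submodule B F)))) ∧
    (Module.Flat A G → Module.Flat A F) := by
  have hGU' : ∀ q : PrimeSpectrum B, ¬ J ≤ q.asIdeal →
      Module.Flat A (LocalizedModule q.asIdeal.primeCompl G) := fun q hq => hGU q hq
  have P1 : 2 ≤ LocCoh.idealDepth J (EGA4.FibMod A B F) → Module.Flat A G := fun h2 =>
    flat_of_two_le A B J F E0 E1 G f u v hf hfu huv hv hGU' h0 h1 h2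
  have P2 : Module.Flat A G → Module.Flat A F ∧ ∀ 𝔞 : Ideal A, IsFiniteLength A (A ⧸ 𝔞) →
      2 ≤ LocCoh.idealDepth J (F ⧸ (𝔞.map (algebraMap A B)) • (⊤ : Submodule B F)) := by
    intro hG
    haveI := hG
    exact two_le_of_flat A B J F E0 E1 G f u v hf hfu huv hv h0 h1
  have hfl1 : IsFiniteLength A (A ⧸ maximalIdeal A) := by
    have h := isFiniteLength_quot_pow A 1
    rwa [pow_one] at h
  refine ⟨⟨P1, fun hG => (P2 hG).2 (maximalIdeal A) hfl1⟩, ⟨fun hG n => ?_, fun h => P1 ?_⟩,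
    fun hG => (P2 hG).1⟩
  · have h := (P2 hG).2 (maximalIdeal A ^ (n + 1)) (isFiniteLength_quot_pow A (n + 1))
    have heq : ((maximalIdeal A ^ (n + 1)).map (algebraMap A B)) • (⊤ : Submodule B F) =
        (EGA4.mB A B) ^ (n + 1) • (⊤ : Submodule B F) := by
      rw [Ideal.map_pow]
    rw [← Groth.Agent.Lead.Depth.idealDepth_congr J (Submodule.quotEquivOfEq _ _ heq)]
    exact h
  · have h := h 0
    have heq : (EGA4.mB A B) ^ (0 + 1) • (⊤ : Submodule B F) =
        (EGA4.mB A B) • (⊤ : Submodule B F) := by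
      rw [zero_add, pow_one]
    rw [← Groth.Agent.Lead.Depth.idealDepth_congr J (Submodule.quotEquivOfEq _ _ heq)]
    exact h

end Groth.Agent.S18708
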