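import Groth.Statements.S18707
import Groth.Agent.Lib.Lead.FibLoc1
import Groth.Agent.S18708

set_option autoImplicit false
universe u
open QGor

namespace Groth.Agent.S18707

/-- Affine form. Let A → B be a homomorphism of Noetherian rings, J an ideal of B, and 0 → F → E⁰ → E¹ →
G → 0 an exact sequence of finite B-modules such that E⁰ and E¹ are flat over A and G_q is flat over
A for every prime q not containing J. Assume that for every prime q ⊇ J with contraction p to A the
fibre stalk (E⁰)_q / p(E⁰)_q has depth ≥ 2 and (E¹)_q / p(E¹)_q has depth ≥ 1 over the fibre local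
ring B_q / pB_q. Then depth_J F ≥ 2 (the restriction map from F to its sections off V(J) is
bijective). -/
theorem result (A B : Type u) [CommRing A] [CommRing B]
    [IsNoetherianRing A] [IsNoetherianRing B] [Algebra A B] (J : Ideal B)
    (F E0 E1 G : Type u) [AddCommGroup F] [Module B F] [Module.Finite B F]
    [AddCommGroup E0] [Module B E0] [Module A E0] [IsScalarTower A B E0] [Module.Finite B E0] [Module.Flat A E0]
    [AddCommGroup E1] [Module B E1] [Module A E1] [IsScalarTower A B E1] [Module.Finite B E1] [Module.Flat A E1]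
    [AddCommGroup G] [Module B G] [Module A G] [IsScalarTower A B G] [Module.Finite B G]
    (f : F →ₗ[B] E0) (u : E0 →ₗ[B] E1) (v : E1 →ₗ[B] G)
    (hf : Function.Injective f) (hfu : Function.Exact f u) (huv : Function.Exact u v) (hv : Function.Surjective v)
    (hGU : ∀ q : PrimeSpectrum B, ¬ J ≤ q.asIdeal → FlatCA.FlatAt A q.asIdeal G)
    (h0 : ∀ q : PrimeSpectrum B, J ≤ q.asIdeal →
      2 ≤ LocCoh.idealDepth (q.asIdeal.map (algebraMap B (EGA4.FibLocRing A B q.asIdeal))) (EGA4.FibLocMod A B q.asIdeal E0))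
    (h1 : ∀ q : PrimeSpectrum B, J ≤ q.asIdeal →
      1 ≤ LocCoh.idealDepth (q.asIdeal.map (algebraMap B (EGA4.FibLocRing A B q.asIdeal))) (EGA4.FibLocMod A B q.asIdeal E1)) :
    2 ≤ LocCoh.idealDepth J F := by
  have hE0 : 2 ≤ LocCoh.idealDepth J E0 :=
    Groth.Agent.Lead.FibLoc.le_idealDepth_of_fibre A B J E0 2 h0
  have hE1 : 1 ≤ LocCoh.idealDepth J E1 :=
    Groth.Agent.Lead.FibLoc.le_idealDepth_of_fibre A B J E1 1 h1
  have hmemI : ∀ y, u y ∈ LinearMap.range u := fun y => LinearMap.mem_range_self u y
  obtain ⟨π, hπ⟩ : ∃ π : E0 →ₗ[B] ↥(LinearMap.range u),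
      π = LinearMap.codRestrict (LinearMap.range u) u hmemI := ⟨_, rfl⟩
  have hπ_surj : Function.Surjective π := by
    rintro ⟨w, hw⟩
    obtain ⟨y, rfl⟩ := LinearMap.mem_range.mp hw
    exact ⟨y, by rw [hπ]; rfl⟩
  have hfπ : Function.Exact f π := by
    intro y
    rw [← hfu y]
    constructor
    · intro h
      have h2 : ((π y : ↥(LinearMap.range u)) : E1) = 0 := by rw [h]; rfl
      rw [hπ] at h2
      exact h2
    · intro h
      apply Subtype.ext
      rw [hπ]
      exact h
  have hI : 1 ≤ LocCoh.idealDepth J ↥(LinearMap.range u) :=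
    Groth.Agent.S18708.one_le_idealDepth_of_injective J (LinearMap.range u).subtype
      (Submodule.injective_subtype _) hE1
  exact Groth.Agent.S18708.two_le_of_min hE0 hI
    (Groth.Agent.Lead.Depth.idealDepth_shortExact J F E0 ↥(LinearMap.range u) f π hf hπ_surj
      hfπ).2.2

end Groth.Agent.S18707
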