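import Groth.Statements.S18710
import Groth.Agent.Lib.Lead.Depth16
import Groth.Agent.Lib.Lead.Fib4
import Groth.Agent.Lib.Lead.FEq1

set_option autoImplicit false
universe u
open QGor

namespace Groth.Agent.S18710

theorem enat_eq_zero_of_eq_add {a b : ℕ∞} (ha : a ≠ ⊤) (h : a = a + b) : b = 0 := by
  obtain ⟨n, rfl⟩ := ENat.ne_top_iff_exists.mp ha
  induction b using ENat.recTopCoe with
  | top => simp at h
  | coe m =>
    have h' : n = n + m := by exact_mod_cast h
    have h'' : m = 0 := by omega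
    rw [h'']; rfl

open TensorProduct in
/-- Affine form. Let A → B be a flat homomorphism of Noetherian rings and I an ideal of A with V(I)
contained in the image of Spec B → Spec A (every prime containing I is a contraction of a prime of
B). Then ht(IB) = ht(I) (codimension of the preimage equals codimension), and for every finite
A-module G one has depth_{IB} (B ⊗_A G) = depth_I G. -/
theorem result (A B : Type u) [CommRing A] [CommRing B]
    [IsNoetherianRing A] [IsNoetherianRing B] [Algebra A B] [Module.Flat A B] (I : Ideal A)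
    (hI : ∀ p : PrimeSpectrum A, I ≤ p.asIdeal → ∃ q : PrimeSpectrum B, q.asIdeal.comap (algebraMap A B) = p.asIdeal)
    (G : Type u) [AddCommGroup G] [Module A G] [Module.Finite A G] :
    (I.map (algebraMap A B)).height = I.height ∧
    LocCoh.idealDepth (I.map (algebraMap A B)) (B ⊗[A] G) = LocCoh.idealDepth I G := by
  refine ⟨le_antisymm ?_ ?_, le_antisymm ?_ ?_⟩
  · -- ht(IB) ≤ ht(I)
    rw [Ideal.height_eq_inf_minimalPrimes I]
    refine le_iInf₂ fun p hp => ?_
    haveI : p.IsPrime := hp.1.1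
    obtain ⟨q, hq⟩ := hI ⟨p, inferInstance⟩ hp.1.2
    have hpq : p.map (algebraMap A B) ≤ q.asIdeal :=
      Ideal.map_le_iff_le_comap.mpr (le_of_eq hq.symm)
    obtain ⟨Q, hQ, -⟩ := Ideal.exists_minimalPrimes_le hpq
    rw [← Groth.Agent.Lead.FEq.height_eq_of_mem_minimalPrimes_map p Q hQ]
    exact Ideal.height_mono ((Ideal.map_mono hp.1.2).trans hQ.1.2)
  · -- ht(I) ≤ ht(IB)
    rw [Ideal.height_eq_inf_minimalPrimes (I.map (algebraMap A B))]
    refine le_iInf₂ fun Q hQ => ?_
    haveI : Q.IsPrime := hQ.1.1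
    have hQ' := Groth.Agent.Lead.FEq.mem_minimalPrimes_map_under I Q hQ
    rw [Groth.Agent.Lead.FEq.height_eq_of_mem_minimalPrimes_map (Q.under A) Q hQ']
    exact Ideal.height_mono (Ideal.map_le_iff_le_comap.mp hQ.1.2)
  · -- depth_{IB}(B ⊗ G) ≤ depth_I G
    rw [Groth.Agent.Lead.Depth.idealDepth_eq_iInf_depth_localizedModule I G]
    refine le_iInf₂ fun p hp => ?_
    obtain ⟨q, hq⟩ := hI p hp
    have hpq : p.asIdeal.map (algebraMap A B) ≤ q.asIdeal :=
      Ideal.map_le_iff_le_comap.mpr (le_of_eq hq.symm)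
    obtain ⟨Q, hQ, -⟩ := Ideal.exists_minimalPrimes_le hpq
    haveI : Q.IsPrime := hQ.1.1
    have hQp : Q.under A = p.asIdeal :=
      Groth.Agent.Lead.FEq.under_eq_of_mem_minimalPrimes_map p.asIdeal Q hQ
    haveI : Q.LiesOver p.asIdeal := ⟨hQp.symm⟩
    have hIQ : I.map (algebraMap A B) ≤ Q := (Ideal.map_mono hp).trans hQ.1.2
    have h1 := Groth.Agent.Lead.Depth.idealDepth_le_depth_localizedModule
      (I.map (algebraMap A B)) Q hIQ (B ⊗[A] G)
    have h2 := Groth.Agent.Lead.Fib.depth_module_eq (R := A) (S := B) G p.asIdeal Q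
    have h3 := (Groth.Agent.Lead.Fib.depth_dim_eq (R := A) (S := B) p.asIdeal Q).1
    have h4 := (Groth.Agent.Lead.Fib.depth_dim_eq_of_mem_minimalPrimes (R := A) (S := B)
      p.asIdeal Q hQ hQp.symm).1
    have h5 : LocCoh.depth (Localization.AtPrime p.asIdeal) (Localization.AtPrime p.asIdeal)
        ≠ ⊤ :=
      Groth.Agent.Lead.Depth.depth_ne_top (R := Localization.AtPrime p.asIdeal)
        (Localization.AtPrime p.asIdeal)
    have h6 : LocCoh.depth (Groth.Agent.Lead.Fib.FL p.asIdeal Q)
        (Groth.Agent.Lead.Fib.FL p.asIdeal Q) = 0 :=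
      enat_eq_zero_of_eq_add h5 (h4.symm.trans h3)
    rw [h2, h6, add_zero] at h1
    exact h1
  · -- depth_I G ≤ depth_{IB}(B ⊗ G)
    rw [Groth.Agent.Lead.Depth.idealDepth_eq_iInf_depth_localizedModule
      (I.map (algebraMap A B)) (B ⊗[A] G)]
    refine le_iInf₂ fun q hq => ?_
    have hIp : I ≤ q.asIdeal.under A := Ideal.map_le_iff_le_comap.mp hq
    haveI : q.asIdeal.LiesOver (q.asIdeal.under A) := ⟨rfl⟩
    have h1 := Groth.Agent.Lead.Depth.idealDepth_le_depth_localizedModule I
      (q.asIdeal.under A) hIp G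
    have h2 := Groth.Agent.Lead.Fib.depth_module_eq (R := A) (S := B) G
      (q.asIdeal.under A) q.asIdeal
    rw [h2]
    exact h1.trans le_self_add

end Groth.Agent.S18710
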