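import Groth.Statements.S18721
import Groth.Agent.Lib.Helper8.GSk2
import Groth.Agent.Lib.Helper8.LD12

set_option autoImplicit false
universe u
open CategoryTheory
attribute [local instance] HasDerivedCategory.standard
open QGor

namespace Groth.Agent.S18721

/-- Affine form. Let k be a field and A a finitely generated k-algebra, equidimensional of Krull
dimension n, and let ω be a dualizing complex of A normalized at every maximal ideal m (no nonzero
morphisms A/m → ω[i] in D(A) for i ≠ 0 — the canonical dualizing complex of Spec A over k). Put Z_i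
= Supp H^{-i}(ω). Then H^{-i}(ω) = 0 for every i > n, and for every k′ ≥ 1: A satisfies (S_{k′}) if
and only if dim Z_i ≤ i − k′ for all i ≠ n, where for i < k′ this means H^{-i}(ω) = 0. -/
theorem result (k A : Type u) [Field k] [CommRing A]
    [Algebra k A] (hft : Algebra.FiniteType k A) [IsNoetherianRing A]
    (hEq : EGA4.IsEquidim A) (n : ℕ) (hd : ringKrullDim A = n)
    (ω : Dual.D A) (hω : Dual.IsDualizing A ω)
    (hnorm : ∀ (m : Ideal A) (_ : m.IsMaximal) (i : ℤ), i ≠ 0 → Subsingleton (Dual.inD A (A ⧸ m) ⟶ ω⟦i⟧)) :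
    (∀ i : ℕ, n < i → Subsingleton (Dual.HD A ω (-(i : ℤ)))) ∧
    ∀ k' : ℕ, 1 ≤ k' →
      (LocCoh.HasSk k' A A ↔
        ∀ i : ℕ, i ≠ n →
          (i < k' → Subsingleton (Dual.HD A ω (-(i : ℤ)))) ∧
          (k' ≤ i → Module.supportDim A (Dual.HD A ω (-(i : ℤ))) ≤ ((i - k' : ℕ) : WithBot ℕ∞))) := by
  have h0 := Groth.Agent.Helper8.GSk.degAt_eq_zero_of_normalized ω hω hnorm
  have hδ : Module.supportDim A A = n := by
    rw [Module.supportDim_self_eq_ringKrullDim, hd]
  have hann : Module.annihilator A A = ⊥ := by
    rw [eq_bot_iff]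
    intro x hx
    have := Module.mem_annihilator.mp hx (1 : A)
    rw [smul_eq_mul, mul_one] at this
    exact this
  have hM : EGA4.IsEquidimModule A A := by
    intro p hp
    rw [hann] at hp
    rw [hδ, ← hd]
    exact hEq p hp
  have hrange : ∀ j : ℤ, Nontrivial (Dual.HD A ω j) → -(n : ℤ) ≤ j ∧ j ≤ 0 := by
    intro j hnt
    let e := Groth.Agent.Helper8.LD.homSelfEquiv ω j
    haveI : Nontrivial (Dual.inD A A ⟶ (CategoryTheory.shiftFunctor (Dual.D A) j).obj ω) :=
      e.toEquiv.nontrivial
    obtain ⟨p, hp⟩ : (Module.support A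
        (Dual.inD A A ⟶ (CategoryTheory.shiftFunctor (Dual.D A) j).obj ω)).Nonempty := by
      rw [Set.nonempty_iff_ne_empty, Ne, Module.support_eq_empty_iff,
        not_subsingleton_iff_nontrivial]
      infer_instance
    exact Groth.Agent.Helper8.GSk.range_of_mem_support_hom ω hω h0 A n hδ j p hp
  refine ⟨fun i hi => ?_, fun k' hk' => ?_⟩
  · by_contra hcon
    rw [not_subsingleton_iff_nontrivial] at hcon
    have := (hrange _ hcon).1
    omega
  · rw [Groth.Agent.Helper8.GSk.hasSk_iff_of_equidim ω hω h0 A hM n hδ k']
    constructor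
    · intro h i hi
      obtain ⟨h1, h2⟩ := h (-(i : ℤ)) (by omega)
      let e := Groth.Agent.Helper8.LD.homSelfEquiv ω (-(i : ℤ))
      constructor
      · intro hik
        haveI := h1 (by omega)
        exact e.symm.toEquiv.subsingleton
      · intro hik
        have h3 := h2 (by omega)
        rw [Module.supportDim_eq_of_equiv e] at h3
        have h4 : (-(-(i : ℤ)) - (k' : ℤ)).toNat = i - k' := by omega
        rw [h4] at h3
        exact h3
    · intro h j hj
      by_cases hjpos : 0 < j
      · have hsub : Subsingleton (Dual.inD A A ⟶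
            (CategoryTheory.shiftFunctor (Dual.D A) j).obj ω) := by
          by_contra hcon
          rw [not_subsingleton_iff_nontrivial] at hcon
          have hnt : Nontrivial (Dual.HD A ω j) :=
            (Groth.Agent.Helper8.LD.homSelfEquiv ω j).symm.toEquiv.nontrivial
          have := (hrange j hnt).2
          omega
        exact ⟨fun _ => hsub, fun h' => by omega⟩
      · obtain ⟨i, rfl⟩ : ∃ i : ℕ, j = -(i : ℤ) := ⟨(-j).toNat, by omega⟩
        have hin : i ≠ n := by omega
        obtain ⟨h1, h2⟩ := h i hin
        let e := Groth.Agent.Helper8.LD.homSelfEquiv ω (-(i : ℤ))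
        constructor
        · intro hik
          haveI := h1 (by omega)
          exact e.toEquiv.subsingleton
        · intro hik
          rw [Module.supportDim_eq_of_equiv e]
          have h4 : (-(-(i : ℤ)) - (k' : ℤ)).toNat = i - k' := by omega
          rw [h4]
          exact h2 (by omega)

end Groth.Agent.S18721
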