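import Groth.Statements.S18722
import Groth.Agent.S18702
import Groth.Agent.S18703
import Groth.Agent.Lib.Lead.Fib1
import Groth.Agent.Lib.Lead.Depth16

set_option autoImplicit false
set_option linter.style.haveILetI false
set_option linter.unusedSectionVars false
universe u
open QGor

namespace Groth.Agent.S18722

open LocCoh IsLocalRing Groth.Agent.Lead.Depth Groth.Agent.Lead.Fib

section Aux

variable (A B : Type u) [CommRing A] [CommRing B] [Algebra A B]

instance liesOver_comap (q : Ideal B) : q.LiesOver (q.comap (algebraMap A B)) := ⟨rfl⟩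

theorem map_fib_eq (q : Ideal B) [q.IsPrime] :
    q.map (algebraMap B (EGA4.FibLocRing A B q)) =
      maximalIdeal (FL (q.comap (algebraMap A B)) q) := by
  have h1 : algebraMap B (EGA4.FibLocRing A B q) =
      (Ideal.Quotient.mk ((q.comap (algebraMap A B)).map
        (algebraMap A (Localization.AtPrime q)))).comp (algebraMap B (Localization.AtPrime q)) :=
    rfl
  rw [h1, ← Ideal.map_map, Localization.AtPrime.map_eq_maximalIdeal]
  exact IsLocalRing.map_maximalIdeal_of_surjective
    (Ideal.Quotient.mk ((q.comap (algebraMap A B)).map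
        (algebraMap A (Localization.AtPrime q)))) Ideal.Quotient.mk_surjective

theorem le_idealDepth_self [IsNoetherianRing A] [IsNoetherianRing B] [Module.Flat A B]
    (J : Ideal B) (k : ℕ∞)
    (hk : ∀ q : PrimeSpectrum B, J ≤ q.asIdeal →
      k ≤ LocCoh.idealDepth (q.asIdeal.map (algebraMap B (EGA4.FibLocRing A B q.asIdeal)))
        (EGA4.FibLocRing A B q.asIdeal)) :
    k ≤ LocCoh.idealDepth J B := by
  rw [idealDepth_eq_iInf_depth_localizedModule J B]
  refine le_iInf₂ fun q hq => ?_
  have h := hk q hq
  rw [map_fib_eq] at h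
  have h2 := (depth_dim_eq (q.asIdeal.comap (algebraMap A B)) q.asIdeal).1
  rw [depth_localizedModule_self, h2]
  exact h.trans le_add_self

end Aux

/-- Affine form. Let A → B be a flat homomorphism of Noetherian rings and J an ideal of B such that the
fibre local ring B_q/pB_q has depth ≥ 1 at every prime q ⊇ J (p the contraction of q); let F be a
finite B-module. (1) If F_q is reflexive for every prime q not containing J and depth_J F ≥ 2 (F is
the module of sections of its restriction off V(J)), then F is reflexive. (2) If F is reflexive and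
the fibre local rings at primes q ⊇ J have depth ≥ 2, then depth_J F ≥ 2. -/
theorem result (A B : Type u) [CommRing A] [CommRing B]
    [IsNoetherianRing A] [IsNoetherianRing B] [Algebra A B] [Module.Flat A B] (J : Ideal B)
    (hZ1 : ∀ q : PrimeSpectrum B, J ≤ q.asIdeal →
      1 ≤ LocCoh.idealDepth (q.asIdeal.map (algebraMap B (EGA4.FibLocRing A B q.asIdeal))) (EGA4.FibLocRing A B q.asIdeal))
    (F : Type u) [AddCommGroup F] [Module B F] [Module.Finite B F] :
    ((∀ q : PrimeSpectrum B, ¬ J ≤ q.asIdeal →
        Module.IsReflexive (Localization.AtPrime q.asIdeal) (LocalizedModule q.asIdeal.primeCompl F)) →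
      2 ≤ LocCoh.idealDepth J F → Module.IsReflexive B F) ∧
    (Module.IsReflexive B F →
      (∀ q : PrimeSpectrum B, J ≤ q.asIdeal →
        2 ≤ LocCoh.idealDepth (q.asIdeal.map (algebraMap B (EGA4.FibLocRing A B q.asIdeal))) (EGA4.FibLocRing A B q.asIdeal)) →
      2 ≤ LocCoh.idealDepth J F) := by
  refine ⟨fun hU hF => ?_, fun hR hZ2 => ?_⟩
  · exact Groth.Agent.S18703.result B J (le_idealDepth_self A B J 1 hZ1) F hU hF
  · haveI := hR
    exact (Groth.Agent.S18702.result B J F).2.1 (le_idealDepth_self A B J 2 hZ2)

end Groth.Agent.S18722
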