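import Groth.Statements.S18731
import Mathlib
import Groth.Agent.Lib.Helper28.EffCartierOld

set_option autoImplicit false
universe u
open CategoryTheory CategoryTheory.Limits AlgebraicGeometry TopologicalSpace
open ModPair

namespace Groth.Agent.S18731

/-- Let I on X and J on Y be quasi-coherent ideal sheaves of effective Cartier divisors and f : X ⟶ Y a
morphism satisfying the modulus condition I ≤ J.comap f (the closed subscheme J ×_Y X of X lies
inside the closed subscheme cut out by I). Then the pull-back of the divisor of J along f is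
defined: J.comap f is the ideal sheaf of an effective Cartier divisor on X. -/
theorem result {X Y : Scheme.{u}} (I : X.IdealSheafData)
    (J : Y.IdealSheafData) (hI : BlowUp.IsEffCartierIdeal I) (hJ : BlowUp.IsEffCartierIdeal J)
    (f : X ⟶ Y) (hf : ModPair.IsAmbient I J f) : BlowUp.IsEffCartierIdeal (J.comap f) := by
  intro x
  obtain ⟨V, hyV, g, hg, hJg⟩ := hJ (f x)
  obtain ⟨U, hxU, hUV, t, ht, hIt⟩ :=
    Groth.Agent.Helper28.EffCartierOld.exists_chart_le hI x (f ⁻¹ᵁ V.1) hyV
  have hcomap := Groth.Agent.Helper28.IdealComapOld.ideal_comap f J V U hUV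
  rw [hJg, Ideal.map_span, Set.image_singleton] at hcomap
  refine ⟨U, hxU, (f.appLE V.1 U.1 hUV).hom g, ?_, hcomap⟩
  have hle : I.ideal U ≤ (J.comap f).ideal U := hf U
  rw [hcomap, hIt] at hle
  have hmem : t ∈ Ideal.span {(f.appLE V.1 U.1 hUV).hom g} := hle (Ideal.mem_span_singleton_self t)
  obtain ⟨a, ha⟩ := Ideal.mem_span_singleton'.mp hmem
  rw [mem_nonZeroDivisors_iff_right]
  intro z hz
  apply (mem_nonZeroDivisors_iff_right.mp ht) z
  rw [← ha, ← mul_assoc, mul_comm z a, mul_assoc, hz, mul_zero]

end Groth.Agent.S18731
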