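import Groth.Statements.S18743
import Mathlib
import Groth.Agent.Lib.Helper28.EffCartierDense
import Groth.Agent.S18731

set_option autoImplicit false
universe u
open CategoryTheory CategoryTheory.Limits AlgebraicGeometry TopologicalSpace
open ModPair

namespace Groth.Agent.S18743

/-- Let (S, I_S), (T, I_T), (X, I_X) be schemes equipped with quasi-coherent ideal sheaves of effective
Cartier divisors, p : X ⟶ S a morphism with the modulus condition I_X ≤ I_S.comap p, and f : T ⟶ S a
minimal morphism (I_T = I_S.comap f) which is flat. Then the ambient product of (T, I_T) and (X,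
I_X) over (S, I_S) has total space all of X ×_S T with modulus pulled back from X: the open
pr₁⁻¹(X°) ∩ pr₂⁻¹(T°) (X°, T° the complements of the supports) is scheme-theoretically dominant in X
×_S T, the closed immersion of its scheme-theoretic image is an isomorphism, and I_X.comap pr₁ is
the ideal sheaf of an effective Cartier divisor. -/
theorem result {S T X : Scheme.{u}} (IS : S.IdealSheafData)
    (IT : T.IdealSheafData) (IX : X.IdealSheafData) (hS : BlowUp.IsEffCartierIdeal IS)
    (hT : BlowUp.IsEffCartierIdeal IT) (hX : BlowUp.IsEffCartierIdeal IX)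
    (p : X ⟶ S) (hp : ModPair.IsAmbient IX IS p) (f : T ⟶ S) (hf : ModPair.IsMinimal IT IS f) [Flat f] :
    IsSchemeTheoreticallyDominant (ModPair.prodInterior p f IX IT).ι ∧
      IsIso (ModPair.mprodι p f IX IT) ∧
      BlowUp.IsEffCartierIdeal (IX.comap (pullback.fst p f)) := by
  haveI : Flat (pullback.fst p f) := inferInstance
  have h₁ : BlowUp.IsEffCartierIdeal (IX.comap (pullback.fst p f)) :=
    Groth.Agent.Helper28.EffCartierDense.isEffCartierIdeal_comap_of_flat _ IX hX
  have h₂ : BlowUp.IsEffCartierIdeal (IT.comap (pullback.snd p f)) := by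
    have hf' : IT = IS.comap f := hf
    rw [hf', ← Scheme.IdealSheafData.comap_comp, ← pullback.condition]
    apply Groth.Agent.S18731.result (IX.comap (pullback.fst p f)) IS h₁ hS (pullback.fst p f ≫ p)
    show IX.comap (pullback.fst p f) ≤ IS.comap (pullback.fst p f ≫ p)
    rw [Scheme.IdealSheafData.comap_comp]
    exact Scheme.IdealSheafData.comap_mono _ hp
  have hker : (ModPair.prodInterior p f IX IT).ι.ker = ⊥ := by
    apply Groth.Agent.Helper28.EffCartierDense.ker_ι_eq_bot
    unfold ModPair.prodInterior ModPair.interior
    rw [Groth.Agent.Helper28.EffCartierDense.preimage_compl_support,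
      Groth.Agent.Helper28.EffCartierDense.preimage_compl_support]
    exact (Groth.Agent.Helper28.EffCartierDense.isLocallyBasicNZD_compl_support _ h₁).inf
      (Groth.Agent.Helper28.EffCartierDense.isLocallyBasicNZD_compl_support _ h₂)
  exact ⟨⟨hker⟩, Groth.Agent.Helper28.EffCartierDense.isIso_imageι_of_ker_eq_bot _ hker, h₁⟩

end Groth.Agent.S18743
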