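import Groth.Statements.S18745
import Mathlib
import Groth.Agent.Lib.Helper28.LimHom
import Groth.Agent.Lib.Helper28.LimModulus


set_option autoImplicit false
universe u
open CategoryTheory CategoryTheory.Limits AlgebraicGeometry TopologicalSpace
open ModPair

namespace Groth.Agent.S18745

/-- Let S be a quasi-compact quasi-separated scheme, (X_i, I_i) a cofiltered system of S-schemes, all
quasi-compact and quasi-separated, carrying quasi-coherent ideal sheaves of effective Cartier
divisors, with affine and minimal transition morphisms, and let X be its limit (as an S-scheme) with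
projections π_i and modulus I = I_i.comap π_i for every i. Let Y ⟶ S be locally of finite type with
Y quasi-compact and quasi-separated, carrying the ideal sheaf I_Y of an effective Cartier divisor.
Assume that either every transition morphism is scheme-theoretically dominant, or Y ⟶ S is locally
of finite presentation. Then every S-morphism φ : X ⟶ Y satisfying the modulus condition I ≤
I_Y.comap φ descends: for some i there is an S-morphism φ_i : X_i ⟶ Y satisfying the modulus
condition I_i ≤ I_Y.comap φ_i with π_i ≫ φ_i = φ. (The base is taken to be a scheme, that is the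
base modulus pair with empty modulus; morphisms over an arbitrary base modulus pair are among
these.) -/
theorem result {S : Scheme.{u}}
    [CompactSpace S] [QuasiSeparatedSpace S] {I : Type u} [SmallCategory I] [IsCofiltered I]
    (D : I ⥤ Over S) (c : Cone D) (hc : IsLimit c)
    [∀ (i j : I) (t : i ⟶ j), IsAffineHom (D.map t).left]
    [∀ i, CompactSpace (D.obj i).left] [∀ i, QuasiSeparatedSpace (D.obj i).left]
    (J : ∀ i, (D.obj i).left.IdealSheafData) (hJ : ∀ i, BlowUp.IsEffCartierIdeal (J i))
    (hmin : ∀ (i j : I) (t : i ⟶ j), ModPair.IsMinimal (J i) (J j) (D.map t).left)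
    (IX : c.pt.left.IdealSheafData) (hIX : ∀ i, IX = (J i).comap (c.π.app i).left)
    (Y : Over S) [CompactSpace Y.left] [QuasiSeparatedSpace Y.left] [LocallyOfFiniteType Y.hom]
    (IY : Y.left.IdealSheafData) (hY : BlowUp.IsEffCartierIdeal IY)
    (h : (∀ (i j : I) (t : i ⟶ j), IsSchemeTheoreticallyDominant (D.map t).left) ∨
      LocallyOfFinitePresentation Y.hom)
    (φ : c.pt ⟶ Y) (hφ : ModPair.IsAmbient IX IY φ.left) :
    ∃ (i : I) (φi : D.obj i ⟶ Y), ModPair.IsAmbient (J i) IY φi.left ∧ c.π.app i ≫ φi = φ := by

  have hC (i : I) : CompactSpace ((D ⋙ Over.forget S).obj i) :=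
    inferInstanceAs (CompactSpace (D.obj i).left)
  have hQ (i : I) : QuasiSeparatedSpace ((D ⋙ Over.forget S).obj i) :=
    inferInstanceAs (QuasiSeparatedSpace (D.obj i).left)
  have hAff {i j : I} (f : i ⟶ j) : IsAffineHom ((D ⋙ Over.forget S).map f) :=
    inferInstanceAs (IsAffineHom (D.map f).left)
  have hdesc : ∃ (i : I) (φi : D.obj i ⟶ Y), c.π.app i ≫ φi = φ := by
    rcases h with hdom | hfp
    · have hDom {i j : I} (f : i ⟶ j) :
          IsSchemeTheoreticallyDominant ((D ⋙ Over.forget S).map f) := hdom i j f
      obtain ⟨k, u, h1, h2⟩ :=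
        Groth.Agent.Helper28.LimHom.exists_π_app_comp_eq_of_locallyOfFiniteType
          (D ⋙ Over.forget _) (.mk (fun _ ↦ (D.obj _).hom)) Y.hom _ (isLimitOfPreserves _ hc)
          φ.left (by ext; simp)
      refine ⟨k, Over.homMk u h2, ?_⟩
      ext
      exact h1
    · obtain ⟨k, u, h1, h2⟩ := Scheme.exists_π_app_comp_eq_of_locallyOfFinitePresentation
        (D ⋙ Over.forget _) (.mk (fun _ ↦ (D.obj _).hom)) Y.hom _ (isLimitOfPreserves _ hc)
        φ.left (by ext; simp)
      refine ⟨k, Over.homMk u h2, ?_⟩
      ext
      exact h1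
  obtain ⟨i, φi, hφi⟩ := hdesc
  have hle : (J i).comap (((Over.forget S).mapCone c).π.app i) ≤
      IY.comap (((Over.forget S).mapCone c).π.app i ≫ φi.left) := by
    have h3 : ((Over.forget S).mapCone c).π.app i ≫ φi.left = φ.left := congr($(hφi).left)
    rw [h3]
    have h4 : (J i).comap (((Over.forget S).mapCone c).π.app i) = IX := (hIX i).symm
    rw [h4]
    exact hφ
  obtain ⟨j, f, hj⟩ := Groth.Agent.Helper28.LimModulus.exists_ambient (D ⋙ Over.forget S)
    ((Over.forget S).mapCone c) (isLimitOfPreserves _ hc) J hJ hmin IY hY i φi.left hle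
  refine ⟨j, D.map f ≫ φi, hj, ?_⟩
  rw [← Category.assoc, c.w, hφi]


end Groth.Agent.S18745
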