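import Groth.Statements.S18754
import Mathlib
import Groth.Agent.Lib.Helper28.LimClosed
import Groth.Agent.Lib.Helper28.EffCartierDense


set_option autoImplicit false
universe u
open CategoryTheory CategoryTheory.Limits AlgebraicGeometry TopologicalSpace
open ModPair

namespace Groth.Agent.S18754

/-- Let (Y, I_Y) be a modulus pair with Y quasi-compact and quasi-separated, and let (X_i ⟶ Y) be a
cofiltered system of Y-schemes with affine transition morphisms such that every X_i is quasi-compact
and quasi-separated, the pulled-back ideal I_Y.comap (X_i ⟶ Y) is the ideal of an effective Cartier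
divisor, and X_i ⟶ Y is an abstract admissible blow-up of modulus pairs which is locally of finite
presentation. Let X be the limit of the system over Y and suppose that X ⟶ Y, with the pulled-back
modulus (assumed effective Cartier), is also an abstract admissible blow-up. Then X ⟶ Y is locally
of finite presentation: an abstract admissible blow-up of quasi-compact quasi-separated modulus
pairs which is not of finite presentation is never a limit of finitely presented ones. -/
theorem result {Y : Scheme.{u}}
    [CompactSpace Y] [QuasiSeparatedSpace Y] (IY : Y.IdealSheafData) (hY : BlowUp.IsEffCartierIdeal IY)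
    {I : Type u} [SmallCategory I] [IsCofiltered I] (D : I ⥤ Over Y) (c : Cone D) (hc : IsLimit c)
    [∀ (i j : I) (t : i ⟶ j), IsAffineHom (D.map t).left]
    [∀ i, CompactSpace (D.obj i).left] [∀ i, QuasiSeparatedSpace (D.obj i).left]
    (hI : ∀ i, BlowUp.IsEffCartierIdeal (IY.comap (D.obj i).hom))
    (hadm : ∀ i, ModPair.IsAdmBlowup (IY.comap (D.obj i).hom) IY (D.obj i).hom)
    [∀ i, LocallyOfFinitePresentation (D.obj i).hom]
    (hX : BlowUp.IsEffCartierIdeal (IY.comap c.pt.hom))
    (hXadm : ModPair.IsAdmBlowup (IY.comap c.pt.hom) IY c.pt.hom) :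
    LocallyOfFinitePresentation c.pt.hom := by

  classical
  let D' : I ⥤ Scheme.{u} := D ⋙ Over.forget Y
  let c' : Cone D' := (Over.forget Y).mapCone c
  have hc' : IsLimit c' := isLimitOfPreserves (Over.forget Y) hc
  haveI hAff : ∀ {i j : I} (f : i ⟶ j), IsAffineHom (D'.map f) := fun f => by
    dsimp [D']; infer_instance
  haveI hCpt : ∀ i, CompactSpace (D'.obj i) := fun i => inferInstanceAs (CompactSpace (D.obj i).left)
  let t : D' ⟶ (Functor.const I).obj Y :=
    { app := fun i => (D.obj i).hom
      naturality := fun i j g => by simp [D'] }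
  haveI hprop : IsProper c.pt.hom := hXadm.2.1
  haveI hlft : LocallyOfFiniteType c.pt.hom := inferInstance
  have hf : ∀ i, c'.π.app i ≫ t.app i = c.pt.hom := fun i => Over.w (c.π.app i)
  have hker : ∀ i, (c'.π.app i).ker = ⊥ := by
    intro i
    show (c.π.app i).left.ker = ⊥
    have hw : (c.π.app i).left ≫ (D.obj i).hom = c.pt.hom := Over.w (c.π.app i)
    have h1 : IsIso ((D.obj i).hom ∣_ ModPair.interior IY) := (hadm i).2.2
    have h2 : IsIso (c.pt.hom ∣_ ModPair.interior IY) := hXadm.2.2
    have h2' : IsIso (((c.π.app i).left ≫ (D.obj i).hom) ∣_ ModPair.interior IY) := by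
      rw [hw]; exact h2
    rw [morphismRestrict_comp] at h2'
    have h3 : IsIso ((c.π.app i).left ∣_ ((D.obj i).hom ⁻¹ᵁ ModPair.interior IY)) :=
      @IsIso.of_isIso_comp_right _ _ _ _ _ _ ((D.obj i).hom ∣_ ModPair.interior IY) h1 h2'
    have hU : (D.obj i).hom ⁻¹ᵁ ModPair.interior IY =
        ((IY.comap (D.obj i).hom).support.compl : (D.obj i).left.Opens) :=
      Groth.Agent.Helper28.EffCartierDense.preimage_compl_support (D.obj i).hom IY
    have hk : ((D.obj i).hom ⁻¹ᵁ ModPair.interior IY).ι.ker = ⊥ := by
      rw [hU]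
      exact Groth.Agent.Helper28.EffCartierDense.ker_ι_eq_bot _
        (Groth.Agent.Helper28.EffCartierDense.isLocallyBasicNZD_compl_support _ (hI i))
    have hfac : ((D.obj i).hom ⁻¹ᵁ ModPair.interior IY).ι =
        (inv ((c.π.app i).left ∣_ ((D.obj i).hom ⁻¹ᵁ ModPair.interior IY)) ≫
          ((c.π.app i).left ⁻¹ᵁ ((D.obj i).hom ⁻¹ᵁ ModPair.interior IY)).ι) ≫
            (c.π.app i).left := by
      rw [Category.assoc, ← morphismRestrict_ι, IsIso.inv_hom_id_assoc]
    have hle := Scheme.Hom.le_ker_comp
      (inv ((c.π.app i).left ∣_ ((D.obj i).hom ⁻¹ᵁ ModPair.interior IY)) ≫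
          ((c.π.app i).left ⁻¹ᵁ ((D.obj i).hom ⁻¹ᵁ ModPair.interior IY)).ι) (c.π.app i).left
    rw [← hfac, hk] at hle
    exact le_bot_iff.mp hle
  obtain ⟨j, hj⟩ := @Groth.Agent.Helper28.LimClosed.exists_isIso I _ _ Y D' c' hc' t @hAff hCpt c.pt.hom hlft hf hker
  have hj' : IsIso (c.π.app j).left := hj
  have hw : c.pt.hom = (c.π.app j).left ≫ (D.obj j).hom := (Over.w (c.π.app j)).symm
  rw [hw]
  infer_instance


end Groth.Agent.S18754
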