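import Groth.Statements.S18755
import Mathlib
import Groth.Agent.Lib.Helper28.AmbProd2
open Groth.Agent.Helper28.EffCartierDense Groth.Agent.Helper28.AdmCalc Groth.Agent.Helper28.EffCartierOld Groth.Agent.Helper28.AmbProd

set_option autoImplicit false
universe u
open CategoryTheory CategoryTheory.Limits AlgebraicGeometry TopologicalSpace
open ModPair

namespace Groth.Agent.S18755

/-- Let (S₀, I₀), (S₁, I₁), (T, J), (X, I) be schemes with quasi-coherent ideal sheaves of effective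
Cartier divisors, f : X ⟶ S₁, g : T ⟶ S₁ and σ : S₁ ⟶ S₀ morphisms satisfying the modulus condition,
and let (Y₁, K₁) with π₁ and (Y₀, K₀) with π₀ be ambient products of (X, I) and (T, J) over S₁ and
over S₀ (the latter for f ≫ σ and g ≫ σ): blow-ups of the scheme-theoretic image of the product of
the interiors inside X ×_{S₁} T, resp. X ×_{S₀} T, in the intersection of the pulled-back moduli,
with K·E = D_X·D_T. Then the ambient product is functorial in the base: there is a unique morphism φ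
: Y₁ ⟶ Y₀ compatible with the maps to X ×_{S₀} T (through the canonical X ×_{S₁} T ⟶ X ×_{S₀} T),
and every such φ is minimal, K₁ = K₀.comap φ. -/
theorem result {S₀ S₁ T X Y₁ Y₀ : Scheme.{u}} (I₀ : S₀.IdealSheafData)
    (I₁ : S₁.IdealSheafData) (J : T.IdealSheafData) (I : X.IdealSheafData)
    (h₀ : BlowUp.IsEffCartierIdeal I₀) (h₁ : BlowUp.IsEffCartierIdeal I₁)
    (hT : BlowUp.IsEffCartierIdeal J) (hX : BlowUp.IsEffCartierIdeal I)
    (f : X ⟶ S₁) (hf : ModPair.IsAmbient I I₁ f) (g : T ⟶ S₁) (hg : ModPair.IsAmbient J I₁ g)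
    (σ : S₁ ⟶ S₀) (hσ : ModPair.IsAmbient I₁ I₀ σ)
    (π₁ : Y₁ ⟶ ModPair.mprod f g I J) (K₁ : Y₁.IdealSheafData) (hY₁ : ModPair.IsAmbProd f g I J π₁ K₁)
    (π₀ : Y₀ ⟶ ModPair.mprod (f ≫ σ) (g ≫ σ) I J) (K₀ : Y₀.IdealSheafData)
    (hY₀ : ModPair.IsAmbProd (f ≫ σ) (g ≫ σ) I J π₀ K₀) :
    (∃! φ : Y₁ ⟶ Y₀, φ ≫ π₀ ≫ ModPair.mprodι (f ≫ σ) (g ≫ σ) I J =
        π₁ ≫ ModPair.mprodι f g I J ≫ pullback.mapDesc f g σ) ∧
      ∀ φ : Y₁ ⟶ Y₀, φ ≫ π₀ ≫ ModPair.mprodι (f ≫ σ) (g ≫ σ) I J =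
          π₁ ≫ ModPair.mprodι f g I J ≫ pullback.mapDesc f g σ →
        ModPair.IsMinimal K₁ K₀ φ := by
  classical
  obtain ⟨hπ₁, hK₁⟩ := hY₁
  obtain ⟨hπ₀, hK₀⟩ := hY₀
  set c := pullback.mapDesc f g σ with hc
  have hc1 : c ≫ pullback.fst (f ≫ σ) (g ≫ σ) = pullback.fst f g := by
    rw [hc]; unfold pullback.mapDesc pullback.map; rw [pullback.lift_fst, Category.comp_id]
  have hc2 : c ≫ pullback.snd (f ≫ σ) (g ≫ σ) = pullback.snd f g := by
    rw [hc]; unfold pullback.mapDesc pullback.map; rw [pullback.lift_snd, Category.comp_id]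
  set W₁ := prodInterior f g I J with hW₁
  set W₀ := prodInterior (f ≫ σ) (g ≫ σ) I J with hW₀
  haveI q1 : QuasiCompact ((pullback.fst f g) ⁻¹ᵁ interior I).ι :=
    quasiCompact_ι_preimage_compl_support I hX _
  haveI q2 : QuasiCompact ((pullback.snd f g) ⁻¹ᵁ interior J).ι :=
    quasiCompact_ι_preimage_compl_support J hT _
  haveI qW : QuasiCompact W₁.ι := quasiCompact_ι_inf _ _
  have hle : W₁ ≤ c ⁻¹ᵁ W₀ := by
    intro z hz
    refine ⟨?_, ?_⟩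
    · show (c ≫ pullback.fst (f ≫ σ) (g ≫ σ)) z ∈ interior I
      rw [hc1]; exact hz.1
    · show (c ≫ pullback.snd (f ≫ σ) (g ≫ σ)) z ∈ interior J
      rw [hc2]; exact hz.2
  let r := c.resLE W₀ W₁ hle
  have hr : r ≫ W₀.ι = W₁.ι ≫ c := Scheme.Hom.resLE_comp_ι _ _
  obtain ⟨m, hm⟩ := exists_factor_closed (mprodι (f ≫ σ) (g ≫ σ) I J) (mprodι f g I J ≫ c)
    W₁.ι.toImage (ker_toImage_eq_bot W₁.ι) (r ≫ W₀.ι.toImage) (by
      rw [Category.assoc, Scheme.Hom.toImage_imageι, hr, Scheme.Hom.toImage_imageι_assoc])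
  -- pulled back centres
  have hA : (I.comap (mprodι (f ≫ σ) (g ≫ σ) I J ≫ pullback.fst (f ≫ σ) (g ≫ σ))).comap m =
      I.comap (mprodι f g I J ≫ pullback.fst f g) := by
    rw [← Scheme.IdealSheafData.comap_comp, reassoc_of% hm, hc1]
  have hB : (J.comap (mprodι (f ≫ σ) (g ≫ σ) I J ≫ pullback.snd (f ≫ σ) (g ≫ σ))).comap m =
      J.comap (mprodι f g I J ≫ pullback.snd f g) := by
    rw [← Scheme.IdealSheafData.comap_comp, reassoc_of% hm, hc2]
  have hC : (prodCentre (f ≫ σ) (g ≫ σ) I J).comap m = prodCentre f g I J := by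
    unfold prodCentre
    rw [Scheme.IdealSheafData.comap_sup, hA, hB]
  have hEff : BlowUp.IsEffCartierIdeal ((prodCentre (f ≫ σ) (g ≫ σ) I J).comap (π₁ ≫ m)) := by
    rw [Scheme.IdealSheafData.comap_comp, hC]
    exact hπ₁.1
  have hiff : ∀ φ : Y₁ ⟶ Y₀, (φ ≫ π₀ ≫ mprodι (f ≫ σ) (g ≫ σ) I J =
      π₁ ≫ mprodι f g I J ≫ c) ↔ φ ≫ π₀ = π₁ ≫ m := by
    intro φ
    rw [← cancel_mono (mprodι (f ≫ σ) (g ≫ σ) I J), Category.assoc, Category.assoc, hm]
  obtain ⟨φ₀, hφ₀, hφ₀u⟩ := hπ₀.2 Y₁ (π₁ ≫ m) hEff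
  refine ⟨⟨φ₀, (hiff φ₀).2 hφ₀, fun φ hφ => hφ₀u φ ((hiff φ).1 hφ)⟩, ?_⟩
  intro φ hφ
  have hφ' := (hiff φ).1 hφ
  show K₁ = K₀.comap φ
  have key : ∀ (L : (mprod (f ≫ σ) (g ≫ σ) I J).IdealSheafData),
      (L.comap π₀).comap φ = (L.comap m).comap π₁ := by
    intro L
    rw [← Scheme.IdealSheafData.comap_comp, ← Scheme.IdealSheafData.comap_comp, hφ']
  have h2 := congrArg (fun L => Scheme.IdealSheafData.comap L φ) hK₀
  simp only [Groth.Agent.Helper28.EffCartierOld.comap_mul, key, hA, hB, hC] at h2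
  rw [← hK₁] at h2
  exact (eq_of_mul_eq_mul _ _ _ hπ₁.1 h2).symm


end Groth.Agent.S18755
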