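import Groth.Statements.S18758
import Mathlib
import Groth.Agent.Lib.Helper28.SubLoc
import Groth.Agent.Lib.Helper28.OverLoc
import Groth.Agent.Lib.Helper28.AdmCalc

set_option autoImplicit false
universe w v u
open CategoryTheory CategoryTheory.Limits AlgebraicGeometry TopologicalSpace
open ModPair

namespace Groth.Agent.S18758

/-- Let S be a modulus pair and PSch_S the full subcategory of the slice category of modulus pairs over
S on the objects whose structure morphism is of finite type (locally of finite type and
quasi-compact); let Σ_ft be the class of morphisms of PSch_S whose underlying morphism of modulus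
pairs is an abstract admissible blow-up, and Q the localization functor of modulus pairs at all
abstract admissible blow-ups. Then the canonical functor from the localization of PSch_S at Σ_ft to
the slice category over Q S is fully faithful, so that it identifies the localization with the full
subcategory MSch_S of objects isomorphic to finite type ones: for every localization functor L' of
PSch_S at Σ_ft and every functor Φ to the slice over Q S through which the inclusion followed by Q
on slices factors up to isomorphism, Φ is full and faithful. -/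
theorem result (S : ModPair.Pair.{u})
    {E : Type v} [Category.{w} E]
    (L' : (ObjectProperty.FullSubcategory
        ((fun X : Over S => LocallyOfFiniteType X.hom.hom ∧ QuasiCompact X.hom.hom) :
          ObjectProperty (Over S))) ⥤ E)
    [L'.IsLocalization ((((ModPair.Pair.admBlowup.{u}).inverseImage (Over.forget S)).inverseImage
      (ObjectProperty.ι ((fun X : Over S => LocallyOfFiniteType X.hom.hom ∧ QuasiCompact X.hom.hom) :
          ObjectProperty (Over S)))))]
    (Φ : E ⥤ Over ((ModPair.Pair.admBlowup.{u}).Q.obj S))
    (e : L' ⋙ Φ ≅ ObjectProperty.ι ((fun X : Over S => LocallyOfFiniteType X.hom.hom ∧ QuasiCompact X.hom.hom) :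
          ObjectProperty (Over S)) ⋙ Over.post (ModPair.Pair.admBlowup.{u}).Q) :
    Φ.Full ∧ Φ.Faithful := by
  haveI hcalc : (ModPair.Pair.admBlowup.{u}).HasRightCalculusOfFractions :=
    Groth.Agent.Helper28.AdmCalc.hasRightCalculusOfFractions.{u}
  haveI hcalcS : ((ModPair.Pair.admBlowup.{u}).inverseImage
      (Over.forget S)).HasRightCalculusOfFractions :=
    Groth.Agent.Helper28.OverLoc.hasRightCalc _ S
  have hinv : ((ModPair.Pair.admBlowup.{u}).inverseImage (Over.forget S)).IsInvertedBy
      (Over.post (ModPair.Pair.admBlowup.{u}).Q) := by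
    intro X Y s hs
    haveI : IsIso ((Over.forget _).map ((Over.post (ModPair.Pair.admBlowup.{u}).Q).map s)) :=
      Localization.inverts (ModPair.Pair.admBlowup.{u}).Q _ s.left hs
    exact isIso_of_reflects_iso _ (Over.forget _)
  let Φ'' := Localization.lift (Over.post (ModPair.Pair.admBlowup.{u}).Q) hinv
    ((ModPair.Pair.admBlowup.{u}).inverseImage (Over.forget S)).Q
  let fac : ((ModPair.Pair.admBlowup.{u}).inverseImage (Over.forget S)).Q ⋙ Φ'' ≅
      Over.post (ModPair.Pair.admBlowup.{u}).Q := Localization.fac _ hinv _
  haveI : Φ''.IsEquivalence :=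
    Groth.Agent.Helper28.OverLoc.isEquivalence (ModPair.Pair.admBlowup.{u}) S
      (ModPair.Pair.admBlowup.{u}).Q _ Φ'' fac
  haveI : (Over.post (ModPair.Pair.admBlowup.{u}).Q).IsLocalization
      ((ModPair.Pair.admBlowup.{u}).inverseImage (Over.forget S)) :=
    Functor.IsLocalization.of_equivalence_target
      ((ModPair.Pair.admBlowup.{u}).inverseImage (Over.forget S)).Q _
      (Over.post (ModPair.Pair.admBlowup.{u}).Q) Φ''.asEquivalence fac
  refine Groth.Agent.Helper28.SubLoc.full_faithful
    ((ModPair.Pair.admBlowup.{u}).inverseImage (Over.forget S)) _ ?_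
    (Over.post (ModPair.Pair.admBlowup.{u}).Q) L' Φ e
  intro X' X s hs hX
  obtain ⟨hs1, hs2, hs3⟩ := hs
  obtain ⟨hX1, hX2⟩ := hX
  have hw : X'.hom.hom = s.left.hom ≫ X.hom.hom := by
    rw [← Over.w s]; rfl
  haveI : IsProper s.left.hom := hs2
  haveI := hX1
  haveI := hX2
  refine ⟨?_, ?_⟩
  · show LocallyOfFiniteType X'.hom.hom
    rw [hw]; infer_instance
  · show QuasiCompact X'.hom.hom
    rw [hw]; infer_instance


end Groth.Agent.S18758
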