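import Groth.Statements.S18763
import Mathlib
import Groth.Agent.Lib.Helper28.AlgGrpShear
import Groth.Agent.Lib.Helper28.RestrictPB
open Groth.Agent.Helper28.AlgGrpShear Groth.Agent.Helper28.RestrictPB

set_option autoImplicit false
universe u
open CategoryTheory CategoryTheory.Limits MonoidalCategory CartesianMonoidalCategory MonObj GrpObj AlgebraicGeometry
open AlgGrp

namespace Groth.Agent.S18763

/-- Let G be a finite group scheme over a field k and H a closed subgroup scheme of G, and let (Q, q₀)
with its G-action be the homogeneous space G/H for the fppf topology (the orbit map of q₀ is an fppf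
H-torsor onto Q). Let N be a closed subgroup scheme of G which is the kernel of the action of G on
Q: a point g of G with values in a k-scheme T factors through N exactly when g acts as the identity
on all points of Q with values in T-schemes. Then N (the core of H in G) is normal in G, is
contained in H, and contains every closed normal subgroup scheme of G which is contained in H. (The
published definition takes the core to be the kernel of the linear representation of G on the
coordinate ring of G/H; this is the same subgroup as the kernel of the action on G/H used here.) -/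
theorem result
    (k : Type u) [Field k]
    (G : Over (Spec (CommRingCat.of k))) [GrpObj G] [IsFinite G.hom]
    (H : Over (Spec (CommRingCat.of k))) [GrpObj H] (i : H ⟶ G) [IsMonHom i] [IsClosedImmersion i.left]
    (Q : Over (Spec (CommRingCat.of k))) (aQ : AlgGrp.Action G Q) (q₀ : 𝟙_ (Over (Spec (CommRingCat.of k))) ⟶ Q)
    (hQ : ChGrp.IsHomog Scheme.fppfPrecoverage i aQ q₀)
    (N : Over (Spec (CommRingCat.of k))) [GrpObj N] (n : N ⟶ G) [IsMonHom n] [IsClosedImmersion n.left]
    (hN : ∀ (T : Over (Spec (CommRingCat.of k))) (g : T ⟶ G),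
      (∃ g' : T ⟶ N, g' ≫ n = g) ↔
        ∀ (T' : Over (Spec (CommRingCat.of k))) (v : T' ⟶ T) (q : T' ⟶ Q), lift (v ≫ g) q ≫ aQ.act = q) :
    AlgGrp.IsNormalHom n ∧ (∃ m : N ⟶ H, m ≫ i = n) ∧
      ∀ (N' : Over (Spec (CommRingCat.of k))) [GrpObj N'] (n' : N' ⟶ G) [IsMonHom n'] [IsClosedImmersion n'.left],
        AlgGrp.IsNormalHom n' → (∃ m' : N' ⟶ H, m' ≫ i = n') → ∃ r : N' ⟶ N, r ≫ n = n' := by
  obtain ⟨-, hpb, R, hR, hsec⟩ := hQ
  set π := aQ.orbitMap q₀ with hπ
  have hπg : ∀ {T : Over (Spec (CommRingCat.of k))} (g : T ⟶ G),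
      g ≫ π = lift g (toUnit T ≫ q₀) ≫ aQ.act := by
    intro T g
    rw [hπ, AlgGrp.Action.orbitMap, ← Category.assoc, comp_lift, Category.comp_id,
      ← Category.assoc]
    congr 3
    exact toUnit_unique _ _
  -- H stabilises q₀
  have hstab : ∀ {T : Over (Spec (CommRingCat.of k))} (h : T ⟶ H),
      lift (h ≫ i) (toUnit T ≫ q₀) ≫ aQ.act = toUnit T ≫ q₀ := by
    intro T h
    have hw := hpb.w
    have h1 := congrArg (fun φ => lift (1 : T ⟶ G) h ≫ φ) hw
    simp only [← Category.assoc] at h1
    rw [lift_fst] at h1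
    have h2 : (lift (1 : T ⟶ G) h ≫ (G ◁ i)) ≫ μ[G] = h ≫ i := by
      rw [lift_whiskerLeft, ← Hom.mul_def, _root_.one_mul]
    rw [h2, hπg, hπg, act_one] at h1
    exact h1.symm
  -- N acts trivially
  have hNtriv : ∀ {T : Over (Spec (CommRingCat.of k))} (x : T ⟶ N) (q : T ⟶ Q),
      lift (x ≫ n) q ≫ aQ.act = q := by
    intro T x q
    have := (hN T (x ≫ n)).mp ⟨x, rfl⟩ T (𝟙 T) q
    simpa using this
  refine ⟨?_, ?_, ?_⟩
  · -- normality
    intro T g x
    have key : ∀ (T' : Over (Spec (CommRingCat.of k))) (v : T' ⟶ T) (q : T' ⟶ Q),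
        lift (v ≫ (g * (x ≫ n) * g⁻¹)) q ≫ aQ.act = q := by
      intro T' v q
      rw [MonObj.comp_mul, MonObj.comp_mul, GrpObj.comp_inv, act_mul, act_mul]
      rw [← Category.assoc v x n, hNtriv, ← act_mul, mul_inv_cancel, act_one]
    obtain ⟨g', hg'⟩ := (hN T _).mpr key
    exact ⟨g', hg'.symm⟩
  · -- N ≤ H
    have hcond : (1 : N ⟶ G) ≫ π = n ≫ π := by
      rw [hπg, hπg, act_one]
      have := hNtriv (𝟙 N) (toUnit N ≫ q₀)
      rw [Category.id_comp] at this
      exact this.symm
    obtain ⟨w, hw1, hw2⟩ := hpb.exists_lift (1 : N ⟶ G) n hcond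
    refine ⟨w ≫ snd G H, ?_⟩
    have h3 : w = lift (w ≫ fst G H) (w ≫ snd G H) := by
      apply CartesianMonoidalCategory.hom_ext <;> simp
    rw [h3, ← Category.assoc, lift_whiskerLeft, ← Hom.mul_def] at hw2
    rw [hw1, _root_.one_mul] at hw2
    exact hw2
  · -- largest
    intro N' _ n' _ _ hn' hm'
    obtain ⟨m', hm'⟩ := hm'
    apply (hN N' n').mpr
    intro T' v q
    -- group computation
    have C3 : ∀ {W : Over (Spec (CommRingCat.of k))} (y : W ⟶ N') (g : W ⟶ G),
        lift (y ≫ n') (g ≫ π) ≫ aQ.act = g ≫ π := by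
      intro W y g
      obtain ⟨y', hy'⟩ := hn' W g⁻¹ y
      rw [_root_.inv_inv] at hy'
      have e1 : (y ≫ n') * g = g * (y' ≫ n') := by
        rw [← hy']; group
      rw [hπg, ← act_mul, e1, act_mul]
      have e2 : y' ≫ n' = (y' ≫ m') ≫ i := by rw [Category.assoc, hm']
      rw [e2, hstab]
    apply Over.OverMorphism.ext
    refine ext_of_covering (J := Scheme.fppfTopology)
      ((Sieve.generate R).pullback q.left)
      (Scheme.fppfTopology.pullback_stable q.left (Precoverage.generate_mem_toGrothendieck hR))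
      _ _ ?_
    intro W f hf
    obtain ⟨S', w, r, hr, hwr⟩ := hf
    obtain ⟨s, hs⟩ := hsec r hr
    have hs' : s ≫ π.left = r := hs
    let W' : Over (Spec (CommRingCat.of k)) := Over.mk (f ≫ T'.hom)
    let f' : W' ⟶ T' := Over.homMk f rfl
    have hG : (w ≫ s) ≫ G.hom = W'.hom := by
      have e1 : G.hom = π.left ≫ Q.hom := (Over.w π).symm
      have e2 : T'.hom = q.left ≫ Q.hom := (Over.w q).symm
      show (w ≫ s) ≫ G.hom = f ≫ T'.hom
      rw [e1, e2, Category.assoc, reassoc_of% hs', reassoc_of% hwr]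
    let gW : W' ⟶ G := Over.homMk (w ≫ s) hG
    have key : f' ≫ q = gW ≫ π := by
      apply Over.OverMorphism.ext
      show f ≫ q.left = (w ≫ s) ≫ π.left
      rw [Category.assoc, hs', hwr]
    have goal : f' ≫ lift (v ≫ n') q ≫ aQ.act = f' ≫ q := by
      rw [← Category.assoc, comp_lift, key, ← Category.assoc]
      exact C3 (f' ≫ v) gW
    exact congrArg (fun φ => φ.left) goal

end Groth.Agent.S18763
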