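import Groth.Statements.S18778
import Groth.Agent.Lib.Helper20.H0Rank
import Groth.Agent.Lib.Helper28.H0Const
import Groth.Agent.Lib.Helper18.CurveH0

set_option autoImplicit false
universe u
open CategoryTheory CategoryTheory.Limits AlgebraicGeometry
open VBCurve

namespace Groth.Agent.S18778


theorem result (k : Type u) [Field k] [Finite k] (X : Scheme.{u}) [X.Over (Spec (CommRingCat.of k))]
    [IsProper (X ↘ Spec (CommRingCat.of k))] [Smooth (X ↘ Spec (CommRingCat.of k))]
    [GeometricallyIntegral (X ↘ Spec (CommRingCat.of k))] (hdim : topologicalKrullDim ↥X = 1)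
    (hg : Curv2.genus k X = 1) (O : Spec (CommRingCat.of k) ⟶ X) (hO : O ≫ (X ↘ Spec (CommRingCat.of k)) = 𝟙 _)
    (G : X.Modules) (r : ℕ) (hr : 0 < r) (hG : FlatMod.IsFinLocFreeOfRank r G)
    (hdeg : Curv2.deg k X G r = 0)
    (hGss : (∀ (H : X.Modules) (r' : ℕ) (i : H ⟶ G), Mono i → 0 < r' → FlatMod.IsFinLocFreeOfRank r' H →
      Curv2.deg k X H r' * (r : ℤ) ≤ Curv2.deg k X G r * (r' : ℤ))) :
    Module.finrank k (Coh.HH X G 0) ≤ r := by
  haveI : IsIntegral X :=
    GeometricallyIntegral.isIntegral_of_subsingleton (X ↘ Spec (CommRingCat.of k))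
  haveI : GeometricallyConnected (X ↘ Spec (CommRingCat.of k)) :=
    Groth.Agent.Helper18.CurveH0.geometricallyConnected_of_integral _
  have hO1 : Module.finrank k (Coh.HH X (Coh.structureModule X) 0) = 1 :=
    Groth.Agent.Helper28.H0Const.finrank_h0 k X
  refine Groth.Agent.Helper20.H0Rank.h0_le_rank k hdim hO1 r G hG hdeg ?_
  intro H r' i hi hr' hH
  have h1 := hGss H r' i hi hr' hH
  rw [hdeg, zero_mul] at h1
  have hrZ : (0 : ℤ) < r := by exact_mod_cast hr
  by_contra hpos
  push Not at hpos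
  have := mul_pos hpos hrZ
  linarith

end Groth.Agent.S18778
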