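import Groth.Statements.S1879
import Groth.Agent.Lib.Helper18.IntInv
import Groth.Agent.Lib.Helper18.GrpdNorm

set_option autoImplicit false
universe u
open CategoryTheory CategoryTheory.Limits AlgebraicGeometry
open Grpd

namespace Groth.Agent.S1879

/-- Let (U, R, s, t, c) be a groupoid scheme with U, R affine and s, t finite locally free. Then Γ(U) is
integral over the subring C of R-invariant functions. (A groupoid scheme carries U, R, s, t, c, e, i
over S with the groupoid axioms on T-points; 'finite locally free' is finite, flat and locally of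
finite presentation; C ⊂ Γ(U) is the ring of functions a with s♯(a) = t♯(a) and M = Spec C.) -/
theorem result (S : Scheme.{u}) (G : Grpd.GroupoidScheme S) [IsAffine G.U] [IsAffine G.R] [IsFinite G.s] [Flat G.s] [LocallyOfFinitePresentation G.s] [IsFinite G.t] [Flat G.t] [LocallyOfFinitePresentation G.t] : Algebra.IsIntegral G.invariants Γ(G.U, ⊤) := by
  letI := G.s.appTop.hom.toAlgebra
  haveI hfin : Module.Finite Γ(G.U, ⊤) Γ(G.R, ⊤) := G.s.finite_appTop
  haveI hflat : Module.Flat Γ(G.U, ⊤) Γ(G.R, ⊤) := G.s.flat_appTop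
  haveI hfp : Algebra.FinitePresentation Γ(G.U, ⊤) Γ(G.R, ⊤) := G.s.finitePresentation_appTop
  haveI : Module.FinitePresentation Γ(G.U, ⊤) Γ(G.R, ⊤) :=
    Module.FinitePresentation.of_finite_of_finitePresentation _ _
  haveI : Module.Projective Γ(G.U, ⊤) Γ(G.R, ⊤) := Module.Flat.projective_of_finitePresentation
  have hes : ∀ a, G.e.appTop.hom (algebraMap Γ(G.U, ⊤) Γ(G.R, ⊤) a) = a := by
    intro a
    have h2 := congrArg (fun φ => φ.appTop.hom a) G.e_s
    simp only [Scheme.Hom.comp_appTop] at h2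
    exact h2.trans (by simp)
  have het : ∀ a, G.e.appTop.hom (G.t.appTop.hom a) = a := by
    intro a
    have h2 := congrArg (fun φ => φ.appTop.hom a) G.e_t
    simp only [Scheme.Hom.comp_appTop] at h2
    exact h2.trans (by simp)
  have hct : ∀ a, G.c.appTop.hom (G.t.appTop.hom a) =
      (pullback.fst G.s G.t).appTop.hom (G.t.appTop.hom a) := by
    intro a
    have h1 : G.c ≫ G.t = pullback.fst G.s G.t ≫ G.t := by
      rw [Groth.Agent.Helper18.GrpdOm.c_eq, Groth.Agent.Helper18.GrpdOm.cmp_t]
    have h2 := congrArg (fun φ => φ.appTop.hom a) h1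
    simp only [Scheme.Hom.comp_appTop] at h2
    exact h2
  have hsq_t : IsPushout (CommRingCat.ofHom G.t.appTop.hom)
      (CommRingCat.ofHom (algebraMap Γ(G.U, ⊤) Γ(G.R, ⊤)))
      (CommRingCat.ofHom (pullback.snd G.s G.t).appTop.hom)
      (CommRingCat.ofHom (pullback.fst G.s G.t).appTop.hom) :=
    (isPushout_appTop_of_isPullback (IsPullback.of_hasPullback G.s G.t)).flip
  have hsq_s : IsPushout (CommRingCat.ofHom (algebraMap Γ(G.U, ⊤) Γ(G.R, ⊤)))
      (CommRingCat.ofHom (algebraMap Γ(G.U, ⊤) Γ(G.R, ⊤)))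
      (CommRingCat.ofHom (pullback.snd G.s G.t).appTop.hom)
      (CommRingCat.ofHom G.c.appTop.hom) :=
    (isPushout_appTop_of_isPullback (Groth.Agent.Helper18.GrpdNorm.isPullback_c' G)).flip
  refine ⟨fun f => ?_⟩
  exact Groth.Agent.Lib.Helper18.IntInv.isIntegral_of_groupoid G.t.appTop.hom G.e.appTop.hom
    (pullback.fst G.s G.t).appTop.hom (pullback.snd G.s G.t).appTop.hom G.c.appTop.hom
    hes het hct hsq_t hsq_s f

end Groth.Agent.S1879
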