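import Groth.Statements.S18791
import Mathlib

set_option autoImplicit false
universe u v w x
open TorusGr

namespace Groth.Agent.S18791

open DirectSum in
theorem map_decompose
    {k : Type u} [Field k] {M : Type v} [AddCommGroup M] [DecidableEq M]
    {A : Type w} [CommRing A] [Algebra k A] (𝒜 : M → Submodule k A) [GradedAlgebra 𝒜]
    {B : Type x} [CommRing B] [Algebra k B] (ℬ : M → Submodule k B) [GradedAlgebra ℬ]
    (φ : B →ₐ[k] A) (hφ : ∀ i : M, ∀ b ∈ ℬ i, φ b ∈ 𝒜 i) (b : B) (i : M) :
    φ (decompose ℬ b i : B) = (decompose 𝒜 (φ b) i : A) := by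
  classical
  conv_rhs => rw [← DirectSum.sum_support_decompose ℬ b]
  rw [map_sum, DirectSum.decompose_sum, DFinsupp.finsetSum_apply,
    AddSubmonoidClass.coe_finsetSum]
  by_cases hi : i ∈ (decompose ℬ b).support
  · rw [Finset.sum_eq_single i]
    · rw [DirectSum.decompose_of_mem_same 𝒜 (hφ i _ (SetLike.coe_mem _))]
    · intro j _ hji
      exact DirectSum.decompose_of_mem_ne 𝒜 (hφ j _ (SetLike.coe_mem _)) hji
    · intro h; exact absurd hi h
  · have h0 : decompose ℬ b i = 0 := by
      simpa [DFinsupp.mem_support_iff] using hi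
    rw [h0, ZeroMemClass.coe_zero, map_zero]
    symm
    apply Finset.sum_eq_zero
    intro j hj
    have hji : j ≠ i := fun h => hi (h ▸ hj)
    exact DirectSum.decompose_of_mem_ne 𝒜 (hφ j _ (SetLike.coe_mem _)) hji

/-- Let `φ : B → A` be a degree-preserving homomorphism of commutative algebras over a field `k` graded
by an additive commutative group `M` (for `M` the character group of a split torus, an equivariant
morphism `Spec A → Spec B`), and let `m` be a maximal ideal of `A` containing all homogeneous
elements of non-zero degree (a fixed point). Then the ideal of those `b` whose image is zero in the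
local ring `A_m` is homogeneous: the homogeneous (weight) components of such a `b` again die in
`A_m`. Since `A_m` embeds in its completion when `A` is Noetherian, these are the elements of `B`
that die in the completed local ring. (The published lemma asserts moreover that, for `B = k[Y_1, …,
Y_d]` mapping the `Y_i` to semi-invariant lifts of a basis of `m/m²`, the kernel of the induced
surjection of completions `k[[Y]] → Â_m` is generated by semi-invariant polynomials; generation of
that kernel by polynomials can fail, so only the statement about polynomial elements of the kernel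
is recorded here. The published statement has `M ≅ ℤ^r` (a split torus) and `B` the polynomial ring
on the lifts; here `M` is any additive commutative group and `B` any `M`-graded `k`-algebra.) -/
theorem result
    {k : Type u} [Field k] {M : Type v} [AddCommGroup M] [DecidableEq M]
    {A : Type w} [CommRing A] [Algebra k A] (𝒜 : M → Submodule k A) [GradedAlgebra 𝒜]
    {B : Type x} [CommRing B] [Algebra k B] (ℬ : M → Submodule k B) [GradedAlgebra ℬ]
    (φ : B →ₐ[k] A) (hφ : ∀ i : M, ∀ b ∈ ℬ i, φ b ∈ 𝒜 i)
    (m : Ideal A) [m.IsMaximal] (hfix : ∀ i : M, i ≠ 0 → ∀ a ∈ 𝒜 i, a ∈ m) :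
    (RingHom.ker ((algebraMap A (Localization.AtPrime m)).comp (φ : B →+* A))).IsHomogeneous ℬ := by
  classical
  intro d b hb
  rw [RingHom.mem_ker, RingHom.comp_apply] at hb ⊢
  rw [IsLocalization.map_eq_zero_iff m.primeCompl] at hb ⊢
  obtain ⟨⟨s, hs⟩, hsb⟩ := hb
  simp only at hsb
  -- the element x = φ b
  set xx : A := φ b with hxx
  have hcomp : ∀ i, (φ : B →+* A) (DirectSum.decompose ℬ b i : B) = (DirectSum.decompose 𝒜 xx i : A) :=
    fun i => map_decompose 𝒜 ℬ φ hφ b i
  rw [hcomp d]
  set F : Finset M := (DirectSum.decompose 𝒜 xx).support with hF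
  by_cases hdF : d ∈ F
  swap
  · refine ⟨⟨s, hs⟩, ?_⟩
    have : DirectSum.decompose 𝒜 xx d = 0 := by
      simpa [hF, DFinsupp.mem_support_iff] using hdF
    rw [this]; simp
  -- matrix
  let Mx : Matrix F F A := fun e i => (DirectSum.decompose 𝒜 s (e.1 - i.1) : A)
  let X : F → A := fun i => (DirectSum.decompose 𝒜 xx i.1 : A)
  have hMX : Mx.mulVec X = 0 := by
    ext e
    simp only [Matrix.mulVec, dotProduct, Pi.zero_apply, Mx, X]
    -- degree e component of s * xx
    have hsb' : s * xx = 0 := hsb
    have h1 : (DirectSum.decompose 𝒜 (s * xx) e.1 : A) = 0 := by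
      rw [hsb']; simp
    rw [← h1]
    conv_rhs => rw [← DirectSum.sum_support_decompose 𝒜 xx, Finset.mul_sum,
      DirectSum.decompose_sum, DFinsupp.finsetSum_apply, AddSubmonoidClass.coe_finsetSum]
    rw [← Finset.sum_coe_sort F]
    refine Finset.sum_congr rfl fun i _ => ?_
    have h2 := DirectSum.coe_decompose_mul_add_of_right_mem 𝒜 (i := e.1 - i.1) (j := i.1) (a := s)
      (SetLike.coe_mem (DirectSum.decompose 𝒜 xx i.1))
    rw [sub_add_cancel] at h2
    exact h2.symm
  have hdet : Mx.det • X = 0 := by
    have := congrArg (fun v => Mx.adjugate.mulVec v) hMX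
    simp only [Matrix.mulVec_mulVec, Matrix.adjugate_mul, Matrix.mulVec_zero] at this
    rw [Matrix.smul_mulVec, Matrix.one_mulVec] at this
    exact this
  have hdetm : Mx.det ∉ m := by
    intro hmem
    have h0 : Ideal.Quotient.mk m Mx.det = 0 := Ideal.Quotient.eq_zero_iff_mem.2 hmem
    rw [RingHom.map_det] at h0
    have hdiag : (Ideal.Quotient.mk m).mapMatrix Mx =
        Matrix.diagonal (fun _ : F => Ideal.Quotient.mk m (DirectSum.decompose 𝒜 s 0 : A)) := by
      ext e i
      rw [RingHom.mapMatrix_apply, Matrix.map_apply, Matrix.diagonal_apply]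
      by_cases hei : e = i
      · subst hei
        have hj : ∀ j : M, j = 0 → (DirectSum.decompose 𝒜 s j : A) = (DirectSum.decompose 𝒜 s 0 : A) := by
          rintro j rfl; rfl
        simp only [Mx, if_true]
        rw [hj _ (sub_self _)]
      · rw [if_neg hei]
        apply Ideal.Quotient.eq_zero_iff_mem.2
        apply hfix (e.1 - i.1) _ _ (SetLike.coe_mem _)
        intro h
        apply hei
        exact Subtype.ext (sub_eq_zero.mp h)
    rw [hdiag, Matrix.det_diagonal, Finset.prod_const] at h0
    have h00 := (pow_eq_zero_iff (n := Finset.univ.card (α := F)) (a := Ideal.Quotient.mk m (DirectSum.decompose 𝒜 s 0 : A)) ?_).1 h0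
    · have hs0 : (DirectSum.decompose 𝒜 s 0 : A) ∈ m := Ideal.Quotient.eq_zero_iff_mem.1 h00
      apply hs
      rw [← DirectSum.sum_support_decompose 𝒜 s]
      apply Ideal.sum_mem
      intro i _
      by_cases hi : i = 0
      · subst hi; exact hs0
      · exact hfix i hi _ (SetLike.coe_mem _)
    · exact (Finset.card_pos.2 ⟨⟨d, hdF⟩, Finset.mem_univ _⟩).ne'
  refine ⟨⟨Mx.det, hdetm⟩, ?_⟩
  have := congrFun hdet ⟨d, hdF⟩
  simpa [X] using this

end Groth.Agent.S18791
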