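import Groth.Statements.S18794
import Mathlib

set_option autoImplicit false
universe u v w
open scoped TensorProduct
open DefMod

namespace Groth.Agent.S18794

section aux

variable {K : Type u} [Field K] {E : Type w} [AddCommGroup E] [Module K E]

/-- `x ↦ 1 ⊗ x` is injective over a field. -/
lemma one_tmul_injective (L : Type*) [Field L] [Algebra K L] (z : E)
    (hz : (1 : L) ⊗ₜ[K] z = 0) : z = 0 := by
  rw [← Module.forall_dual_apply_eq_zero_iff K]
  intro ℓ
  have h1 : (TensorProduct.rid K L) ((ℓ.lTensor L) ((1 : L) ⊗ₜ[K] z)) = ℓ z • (1 : L) := by simp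
  rw [hz, map_zero, map_zero] at h1
  have h2 : algebraMap K L (ℓ z) = 0 := by
    rw [Algebra.algebraMap_eq_smul_one]; exact h1.symm
  exact (map_eq_zero _).mp h2

lemma nontrivial_of_nontrivial_tensor (L : Type*) [Field L] [Algebra K L]
    (h : Nontrivial (L ⊗[K] E)) : Nontrivial E := by
  by_contra hcon
  rw [not_nontrivial_iff_subsingleton] at hcon
  exact not_subsingleton (L ⊗[K] E) inferInstance

lemma nontrivial_tensor_of_nontrivial (L : Type*) [Field L] [Algebra K L]
    [Nontrivial E] : Nontrivial (L ⊗[K] E) := by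
  obtain ⟨x, hx⟩ := exists_ne (0 : E)
  exact ⟨⟨(1 : L) ⊗ₜ[K] x, 0, fun h => hx (one_tmul_injective L x h)⟩⟩

variable {L L' : Type*} [Field L] [Field L'] [Algebra K L] [Algebra K L']

/-- the comparison map `L ⊗ E → L' ⊗ E` -/
noncomputable def jmap (ι : L →ₐ[K] L') : L ⊗[K] E →ₗ[K] L' ⊗[K] E :=
  ι.toLinearMap.rTensor E

@[simp] lemma jmap_tmul (ι : L →ₐ[K] L') (l : L) (e : E) :
    jmap ι (l ⊗ₜ[K] e) = ι l ⊗ₜ[K] e := rfl

lemma jmap_injective (ι : L →ₐ[K] L') : Function.Injective (jmap (E := E) ι) :=
  Module.Flat.rTensor_preserves_injective_linearMap _ ι.injective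

lemma jmap_smul (ι : L →ₐ[K] L') (l : L) (x : L ⊗[K] E) :
    jmap ι (l • x) = ι l • jmap ι x := by
  induction x using TensorProduct.induction_on with
  | zero => simp
  | add x y hx hy => rw [smul_add, map_add, map_add, smul_add, hx, hy]
  | tmul a e => simp [TensorProduct.smul_tmul']

lemma jmap_baseChange (ι : L →ₐ[K] L') (f : E →ₗ[K] E) (x : L ⊗[K] E) :
    f.baseChange L' (jmap ι x) = jmap ι (f.baseChange L x) := by
  induction x using TensorProduct.induction_on with
  | zero => simp
  | add x y hx hy => rw [map_add, map_add, map_add, map_add, hx, hy]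
  | tmul a e => simp

end aux

section main

variable {K : Type u} [Field K]
    {D : Type v} [Ring D] [Algebra K D]
    {E : Type w} [AddCommGroup E] [Module K E] [Module D E] [IsScalarTower K D E]

variable (K D E) in
/-- irreducibility of the base change to `L` -/
def Irr (L : Type*) [Field L] [Algebra K L] : Prop :=
  Nontrivial (L ⊗[K] E) ∧ ∀ N : Submodule L (L ⊗[K] E),
    (∀ (d : D) (x : L ⊗[K] E), x ∈ N → (DistribSMul.toLinearMap K E d).baseChange L x ∈ N) →
      N = ⊥ ∨ N = ⊤

/-- descent of irreducibility along a field extension -/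
theorem Irr_descent {L L' : Type*} [Field L] [Field L'] [Algebra K L] [Algebra K L']
    (ι : L →ₐ[K] L') (h : Irr K D E L') : Irr K D E L := by
  obtain ⟨hnt, hirr⟩ := h
  haveI : Nontrivial E := nontrivial_of_nontrivial_tensor L' hnt
  refine ⟨nontrivial_tensor_of_nontrivial L, ?_⟩
  intro N hN
  -- the `L`-structure on `L'`
  letI : Algebra L L' := ι.toRingHom.toAlgebra
  haveI : IsScalarTower K L L' := IsScalarTower.of_algebraMap_eq (fun x => (ι.commutes x).symm)
  obtain ⟨π, hπ⟩ := LinearMap.exists_leftInverse_of_injective (Algebra.linearMap L L')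
    (LinearMap.ker_eq_bot.mpr (algebraMap L L').injective)
  have hπι : ∀ l : L, π (ι l) = l := fun l => DFunLike.congr_fun hπ l
  have hπmul : ∀ (a : L') (l : L), π (a * ι l) = π a * l := by
    intro a l
    have : a * ι l = l • a := by rw [Algebra.smul_def, mul_comm]; rfl
    rw [this, map_smul, smul_eq_mul, mul_comm]
  let q : L' ⊗[K] E →ₗ[K] L ⊗[K] E := (π.restrictScalars K).rTensor E
  have hq : ∀ (a : L') (x : L ⊗[K] E), q (a • jmap ι x) = π a • x := by
    intro a x
    induction x using TensorProduct.induction_on with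
    | zero => simp
    | add x y hx hy => rw [map_add, smul_add, map_add, smul_add, hx, hy]
    | tmul l e =>
      simp only [jmap_tmul, TensorProduct.smul_tmul', smul_eq_mul, q, LinearMap.rTensor_tmul,
        LinearMap.coe_restrictScalars, hπmul]
  let N' : Submodule L' (L' ⊗[K] E) := Submodule.span L' (jmap ι '' (N : Set (L ⊗[K] E)))
  have hN' : ∀ (d : D) (x : L' ⊗[K] E), x ∈ N' →
      (DistribSMul.toLinearMap K E d).baseChange L' x ∈ N' := by
    intro d x hx
    induction hx using Submodule.span_induction with
    | mem z hz =>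
      obtain ⟨n, hn, rfl⟩ := hz
      rw [jmap_baseChange]
      exact Submodule.subset_span ⟨_, hN d n hn, rfl⟩
    | zero => rw [map_zero]; exact N'.zero_mem
    | add z w _ _ hz hw => rw [map_add]; exact N'.add_mem hz hw
    | smul a z _ hz => rw [map_smul]; exact N'.smul_mem a hz
  rcases hirr N' hN' with h | h
  · left
    rw [Submodule.eq_bot_iff]
    intro n hn
    have : jmap ι n ∈ N' := Submodule.subset_span ⟨n, hn, rfl⟩
    rw [h, Submodule.mem_bot] at this
    exact jmap_injective ι (by rw [this, map_zero])
  · right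
    rw [Submodule.eq_top_iff']
    intro x
    have key : ∀ z ∈ N', ∀ a : L', q (a • z) ∈ N := by
      intro z hz
      induction hz using Submodule.span_induction with
      | mem z hz =>
        obtain ⟨n, hn, rfl⟩ := hz
        intro a
        rw [hq]
        exact N.smul_mem _ hn
      | zero => intro a; simp
      | add z w _ _ hz hw => intro a; rw [smul_add, map_add]; exact N.add_mem (hz a) (hw a)
      | smul b z _ hz => intro a; rw [smul_smul]; exact hz (a * b)
    have h1 := key (jmap ι x) (by rw [h]; trivial) 1
    rw [hq, ← map_one ι, hπι, one_smul] at h1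
    exact h1

/-- ascent of irreducibility from finite subextensions of the algebraic closure -/
theorem Irr_ascent
    (h : ∀ L : IntermediateField K (AlgebraicClosure K), FiniteDimensional K L →
      Irr K D E L) :
    Irr K D E (AlgebraicClosure K) := by
  have hbot := h ⊥ inferInstance
  haveI : Nontrivial E := nontrivial_of_nontrivial_tensor _ hbot.1
  refine ⟨nontrivial_tensor_of_nontrivial _, ?_⟩
  intro N hN
  by_cases hNbot : N = ⊥
  · exact Or.inl hNbot
  right
  obtain ⟨n, hnN, hn0⟩ := (Submodule.ne_bot_iff N).mp hNbot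
  -- every element comes from a finite subextension
  have hmono : ∀ (L₁ L₂ : IntermediateField K (AlgebraicClosure K)) (hle : L₁ ≤ L₂)
      (x : L₁ ⊗[K] E), ∃ y : L₂ ⊗[K] E, jmap L₂.val y = jmap L₁.val x := by
    intro L₁ L₂ hle x
    refine ⟨jmap (IntermediateField.inclusion hle) x, ?_⟩
    induction x using TensorProduct.induction_on with
    | zero => simp
    | add x y hx hy => rw [map_add, map_add, map_add, hx, hy]
    | tmul a e => simp
  have hfin : ∀ z : AlgebraicClosure K ⊗[K] E,
      ∃ (L : IntermediateField K (AlgebraicClosure K)) (_ : FiniteDimensional K L)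
        (y : L ⊗[K] E), jmap L.val y = z := by
    intro z
    induction z using TensorProduct.induction_on with
    | zero => exact ⟨⊥, inferInstance, 0, map_zero _⟩
    | tmul a e =>
      have ha : IsIntegral K a := (Algebra.IsAlgebraic.isAlgebraic a).isIntegral
      refine ⟨IntermediateField.adjoin K {a}, IntermediateField.adjoin.finiteDimensional ha,
        (⟨a, IntermediateField.mem_adjoin_simple_self K a⟩ : IntermediateField.adjoin K {a})
          ⊗ₜ[K] e, ?_⟩
      simp
    | add z w hz hw =>
      obtain ⟨L₁, hL₁, y₁, rfl⟩ := hz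
      obtain ⟨L₂, hL₂, y₂, rfl⟩ := hw
      obtain ⟨y₁', hy₁⟩ := hmono L₁ (L₁ ⊔ L₂) le_sup_left y₁
      obtain ⟨y₂', hy₂⟩ := hmono L₂ (L₁ ⊔ L₂) le_sup_right y₂
      refine ⟨L₁ ⊔ L₂, inferInstance, y₁' + y₂', ?_⟩
      rw [map_add, hy₁, hy₂]
  obtain ⟨L, hL, n', rfl⟩ := hfin n
  obtain ⟨_, hirrL⟩ := h L hL
  let NL : Submodule L (L ⊗[K] E) :=
    { carrier := {x | jmap L.val x ∈ N}
      zero_mem' := by simp
      add_mem' := by
        intro x y hx hy
        simp only [Set.mem_ofPred_eq, map_add] at hx hy ⊢
        exact N.add_mem hx hy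
      smul_mem' := by
        intro l x hx
        simp only [Set.mem_ofPred_eq] at hx ⊢
        rw [jmap_smul]
        exact N.smul_mem _ hx }
  have hNL : ∀ (d : D) (x : L ⊗[K] E), x ∈ NL →
      (DistribSMul.toLinearMap K E d).baseChange L x ∈ NL := by
    intro d x hx
    show jmap L.val _ ∈ N
    rw [← jmap_baseChange]
    exact hN d _ hx
  have hNLtop : NL = ⊤ := by
    rcases hirrL NL hNL with h1 | h1
    · exfalso
      have : n' ∈ NL := hnN
      rw [h1, Submodule.mem_bot] at this
      exact hn0 (by rw [this, map_zero])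
    · exact h1
  rw [Submodule.eq_top_iff']
  intro z
  induction z using TensorProduct.induction_on with
  | zero => exact N.zero_mem
  | add z w hz hw => exact N.add_mem hz hw
  | tmul a e =>
    have h1 : ((1 : L) ⊗ₜ[K] e) ∈ NL := by rw [hNLtop]; trivial
    have h2 : jmap L.val ((1 : L) ⊗ₜ[K] e) ∈ N := h1
    have h3 : a ⊗ₜ[K] e = a • jmap L.val ((1 : L) ⊗ₜ[K] e) := by
      simp [TensorProduct.smul_tmul']
    rw [h3]
    exact N.smul_mem a h2

end main

/-- Let E be a left module over an associative algebra D over a field K of characteristic zero. For a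
field extension L of K, the base change L ⊗_K E is a module over L ⊗_K D, i.e. an L-vector space
with a commuting action of D; call it irreducible when it is nonzero and its only L-subspaces stable
under every element of D are 0 and the whole space. Then E is absolutely irreducible (its base
change to an algebraic closure of K is irreducible) if and only if L ⊗_K E is irreducible for every
finite extension L of K. (Finite extensions are taken in the universe of K.) -/
theorem result
    {K : Type u} [Field K] [CharZero K]
    {D : Type v} [Ring D] [Algebra K D]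
    {E : Type w} [AddCommGroup E] [Module K E] [Module D E] [IsScalarTower K D E] :
    (Nontrivial (AlgebraicClosure K ⊗[K] E) ∧ ∀ N : Submodule (AlgebraicClosure K) (AlgebraicClosure K ⊗[K] E), (∀ (d : D) (x : AlgebraicClosure K ⊗[K] E), x ∈ N → (DistribSMul.toLinearMap K E d).baseChange (AlgebraicClosure K) x ∈ N) → N = ⊥ ∨ N = ⊤) ↔
      ∀ (L : Type u) [Field L] [Algebra K L] [FiniteDimensional K L],
        (Nontrivial (L ⊗[K] E) ∧ ∀ N : Submodule (L) (L ⊗[K] E), (∀ (d : D) (x : L ⊗[K] E), x ∈ N → (DistribSMul.toLinearMap K E d).baseChange (L) x ∈ N) → N = ⊥ ∨ N = ⊤) := by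
  constructor
  · intro h L _ _ _
    have ι : L →ₐ[K] AlgebraicClosure K := IsAlgClosed.lift
    exact Irr_descent (D := D) (E := E) ι h
  · intro h
    exact Irr_ascent (D := D) (E := E) (fun L hL => h L)

end Groth.Agent.S18794
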