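import Groth.Statements.S18795
import Mathlib

set_option autoImplicit false
universe u v w
open scoped TensorProduct
open DefMod

namespace Groth.Agent.S18795

open Polynomial in
/-- an endomorphism of a nontrivial module over an algebraically closed field which is killed by a
monic polynomial has an eigenvector. -/
theorem exists_eigenvector {F : Type*} [Field F] [IsAlgClosed F] {V : Type*} [AddCommGroup V]
    [Module F V] [Nontrivial V] (f : Module.End F V) (p : F[X]) (hp : p.Monic)
    (h : aeval f p = 0) : ∃ (μ : F) (v : V), v ≠ 0 ∧ f v = μ • v := by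
  by_contra hcon
  push Not at hcon
  have hinj : ∀ μ : F, Function.Injective (f - algebraMap F (Module.End F V) μ) := by
    intro μ
    rw [← LinearMap.ker_eq_bot, LinearMap.ker_eq_bot']
    intro v hv
    by_contra hv0
    apply hcon μ v hv0
    have : f v - μ • v = 0 := by simpa [Module.algebraMap_end_apply] using hv
    exact sub_eq_zero.mp this
  rw [(IsAlgClosed.splits p).eq_prod_roots_of_monic hp, ← Multiset.prod_toList,
    map_list_prod] at h
  have key : ∀ l : List F[X], (∀ q ∈ l, ∃ r : F, q = X - C r) →
      Function.Injective (List.map (aeval f) l).prod := by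
    intro l
    induction l with
    | nil => intro _; rw [List.map_nil, List.prod_nil]; exact Function.injective_id
    | cons q l ih =>
      intro hq
      rw [List.map_cons, List.prod_cons]
      obtain ⟨r, rfl⟩ := hq _ List.mem_cons_self
      have h1 : Function.Injective (aeval f (X - C r)) := by
        simpa using hinj r
      have h2 := ih (fun q' hq' => hq q' (List.mem_cons_of_mem _ hq'))
      exact h1.comp h2
  have h3 := key (Multiset.map (fun x => X - C x) p.roots).toList (by
    intro q hq
    rw [Multiset.mem_toList, Multiset.mem_map] at hq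
    obtain ⟨r, _, rfl⟩ := hq
    exact ⟨r, rfl⟩)
  rw [h] at h3
  obtain ⟨x, y, hxy⟩ := exists_pair_ne V
  exact hxy (h3 (by simp))

/-- Let E be a left module over an associative algebra D over a field K of characteristic zero. Assume
that the D-linear endomorphisms of E form a finite-dimensional K-vector space, that E has a finite
presentation over D, and that E is absolutely irreducible: its base change K̄ ⊗_K E to an algebraic
closure K̄ of K is nonzero and its only K̄-subspaces stable under every element of D are 0 and the
whole space. Then End_D(E) = K: every D-linear endomorphism of E is multiplication by a scalar from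
K. -/
theorem result
    {K : Type u} [Field K] [CharZero K]
    {D : Type v} [Ring D] [Algebra K D]
    {E : Type w} [AddCommGroup E] [Module K E] [Module D E] [IsScalarTower K D E]
    [Module.Finite K (E →ₗ[D] E)] [Module.FinitePresentation D E]
    (habs : (Nontrivial (AlgebraicClosure K ⊗[K] E) ∧ ∀ N : Submodule (AlgebraicClosure K) (AlgebraicClosure K ⊗[K] E), (∀ (d : D) (x : AlgebraicClosure K ⊗[K] E), x ∈ N → (DistribSMul.toLinearMap K E d).baseChange (AlgebraicClosure K) x ∈ N) → N = ⊥ ∨ N = ⊤))
    (φ : E →ₗ[D] E) : ∃ c : K, ∀ x : E, φ x = c • x := by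
  obtain ⟨hnt, hirr⟩ := habs
  -- `φ` is integral over `K`
  have hint : IsIntegral K (φ : Module.End D E) := Algebra.IsIntegral.isIntegral φ
  set P := minpoly K (φ : Module.End D E) with hP
  have hPm : P.Monic := minpoly.monic hint
  have hPφ : Polynomial.aeval (φ : Module.End D E) P = 0 := minpoly.aeval K _
  -- restriction of scalars as an algebra map
  let ρ : Module.End D E →ₐ[K] Module.End K E :=
    { toFun := fun g => g.restrictScalars K
      map_one' := rfl
      map_mul' := fun _ _ => rfl
      map_zero' := rfl
      map_add' := fun _ _ => rfl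
      commutes' := fun c => by ext x; rfl }
  let β : Module.End K E →ₐ[K] Module.End (AlgebraicClosure K) (AlgebraicClosure K ⊗[K] E) :=
    Module.End.baseChangeHom K (AlgebraicClosure K) E
  set f : Module.End (AlgebraicClosure K) (AlgebraicClosure K ⊗[K] E) := β (ρ φ) with hf
  have hfP : Polynomial.aeval f (P.map (algebraMap K (AlgebraicClosure K))) = 0 := by
    rw [Polynomial.aeval_map_algebraMap, hf, ← AlgHom.comp_apply,
      Polynomial.aeval_algHom_apply, hPφ, map_zero]
  obtain ⟨μ, v, hv0, hv⟩ := exists_eigenvector f _ (hPm.map _) hfP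
  -- the eigenspace is stable
  have hfx : ∀ x : E, f ((1 : AlgebraicClosure K) ⊗ₜ[K] x) = (1 : AlgebraicClosure K) ⊗ₜ[K] φ x :=
    fun x => rfl
  let N : Submodule (AlgebraicClosure K) (AlgebraicClosure K ⊗[K] E) :=
    LinearMap.ker (f - μ • LinearMap.id)
  have hN : ∀ x, x ∈ N ↔ f x = μ • x := by
    intro x
    simp only [N, LinearMap.mem_ker, LinearMap.sub_apply, LinearMap.smul_apply,
      LinearMap.id_apply, sub_eq_zero]
  have hstab : ∀ (d : D) (x : AlgebraicClosure K ⊗[K] E), x ∈ N →
      (DistribSMul.toLinearMap K E d).baseChange (AlgebraicClosure K) x ∈ N := by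
    intro d x hx
    rw [hN] at hx ⊢
    have hcomm : f.comp ((DistribSMul.toLinearMap K E d).baseChange (AlgebraicClosure K))
        = ((DistribSMul.toLinearMap K E d).baseChange (AlgebraicClosure K)).comp f := by
      show ((ρ φ).baseChange (AlgebraicClosure K)).comp _ =
        LinearMap.comp _ ((ρ φ).baseChange (AlgebraicClosure K))
      rw [← LinearMap.baseChange_comp, ← LinearMap.baseChange_comp]
      congr 1
      ext y
      simp [ρ]
    have := DFunLike.congr_fun hcomm x
    rw [LinearMap.comp_apply, LinearMap.comp_apply, hx, map_smul] at this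
    exact this
  have hNtop : N = ⊤ := by
    rcases hirr N hstab with h | h
    · exfalso
      apply hv0
      have : v ∈ N := (hN v).mpr hv
      rw [h] at this
      exact (Submodule.mem_bot _).mp this
    · exact h
  have hall : ∀ x, f x = μ • x := fun x => (hN x).mp (by rw [hNtop]; trivial)
  -- functionals
  have hfun : ∀ (ℓ : Module.Dual K E) (a : AlgebraicClosure K) (x : E),
      (TensorProduct.rid K (AlgebraicClosure K)) ((ℓ.lTensor (AlgebraicClosure K)) (a ⊗ₜ[K] x))
        = ℓ x • a := by
    intro ℓ a x
    simp
  have hinj : ∀ z : E, (1 : AlgebraicClosure K) ⊗ₜ[K] z = 0 → z = 0 := by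
    intro z hz
    rw [← Module.forall_dual_apply_eq_zero_iff K]
    intro ℓ
    have := hfun ℓ 1 z
    rw [hz, map_zero, map_zero] at this
    have h1 : algebraMap K (AlgebraicClosure K) (ℓ z) = 0 := by
      rw [Algebra.algebraMap_eq_smul_one]; exact this.symm
    exact (map_eq_zero _).mp h1
  -- `E` is nontrivial
  obtain ⟨x0, hx0⟩ : ∃ x0 : E, x0 ≠ 0 := by
    by_contra hcon
    push Not at hcon
    have : Subsingleton E := ⟨fun a b => by rw [hcon a, hcon b]⟩
    exact not_subsingleton (AlgebraicClosure K ⊗[K] E) inferInstance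
  obtain ⟨ℓ, hℓ⟩ : ∃ ℓ : Module.Dual K E, ℓ x0 ≠ 0 := by
    by_contra hcon
    push Not at hcon
    exact hx0 ((Module.forall_dual_apply_eq_zero_iff K x0).mp hcon)
  -- `μ` comes from `K`
  have hμ : μ = algebraMap K (AlgebraicClosure K) (ℓ (φ x0) / ℓ x0) := by
    have h1 := hall ((1 : AlgebraicClosure K) ⊗ₜ[K] x0)
    rw [hfx, TensorProduct.smul_tmul', smul_eq_mul, mul_one] at h1
    have h2 := congrArg (fun t => (TensorProduct.rid K (AlgebraicClosure K))
      ((ℓ.lTensor (AlgebraicClosure K)) t)) h1
    simp only [hfun] at h2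
    rw [map_div₀, eq_div_iff ((map_ne_zero _).mpr hℓ)]
    rw [Algebra.algebraMap_eq_smul_one, Algebra.algebraMap_eq_smul_one, h2, mul_smul_comm,
      mul_one]
  refine ⟨ℓ (φ x0) / ℓ x0, fun x => ?_⟩
  have h1 := hall ((1 : AlgebraicClosure K) ⊗ₜ[K] x)
  rw [hfx, hμ, algebraMap_smul, ← TensorProduct.tmul_smul] at h1
  have h2 : (1 : AlgebraicClosure K) ⊗ₜ[K] (φ x - (ℓ (φ x0) / ℓ x0) • x) = 0 := by
    rw [TensorProduct.tmul_sub, h1, sub_self]
  exact sub_eq_zero.mp (hinj _ h2)

end Groth.Agent.S18795
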