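import Groth.Statements.S18796
import Mathlib

set_option autoImplicit false
universe u v w w' u'
open scoped TensorProduct
open DefMod

namespace Groth.Agent.S18796

/-- Let K be a field of characteristic zero, D an associative K-algebra, E a left D-module that is
finitely presented over D, F a left D-module and P a commutative K-algebra. The canonical P-linear
map Φ : P ⊗_K Hom_D(E, F) → Hom_P(P ⊗_K E, P ⊗_K F), determined by p ⊗ f ↦ p · (1_P ⊗ f), is
injective, and its image consists exactly of the P-linear maps that commute with the action of every
element of D; in other words Φ identifies P ⊗_K Hom_D(E, F) with the module of homomorphisms P ⊗_K E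
→ P ⊗_K F over P ⊗_K D. The map Φ is pinned here by its values on pure tensors. -/
theorem result
    {K : Type u} [Field K] [CharZero K]
    {D : Type v} [Ring D] [Algebra K D]
    {E : Type w} [AddCommGroup E] [Module K E] [Module D E] [IsScalarTower K D E]
    [Module.FinitePresentation D E]
    {F : Type w'} [AddCommGroup F] [Module K F] [Module D F] [IsScalarTower K D F]
    (P : Type u') [CommRing P] [Algebra K P]
    (Φ : P ⊗[K] (E →ₗ[D] F) →ₗ[P] (P ⊗[K] E →ₗ[P] P ⊗[K] F))
    (hΦ : ∀ (p : P) (f : E →ₗ[D] F), Φ (p ⊗ₜ[K] f) = p • (f.restrictScalars K).baseChange P) :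
    Function.Injective Φ ∧
      ∀ g : P ⊗[K] E →ₗ[P] P ⊗[K] F,
        g ∈ LinearMap.range Φ ↔
          ∀ d : D, g ∘ₗ (DistribSMul.toLinearMap K E d).baseChange P =
            (DistribSMul.toLinearMap K F d).baseChange P ∘ₗ g := by
  classical
  -- a basis of `P` over `K`
  let ι := Module.Free.ChooseBasisIndex K P
  let b : Module.Basis ι K P := Module.Free.chooseBasis K P
  let φF : P ⊗[K] F ≃ₗ[K] ι →₀ F := TensorProduct.equivFinsuppOfBasisLeft b
  let φH : P ⊗[K] (E →ₗ[D] F) ≃ₗ[K] ι →₀ (E →ₗ[D] F) := TensorProduct.equivFinsuppOfBasisLeft b
  -- evaluation of `Φ t` at `1 ⊗ e`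
  have hΦ1 : ∀ (p : P) (f : E →ₗ[D] F) (e : E),
      Φ (p ⊗ₜ[K] f) ((1 : P) ⊗ₜ[K] e) = p ⊗ₜ[K] f e := by
    intro p f e
    rw [hΦ, LinearMap.smul_apply, LinearMap.baseChange_tmul, TensorProduct.smul_tmul',
      smul_eq_mul, mul_one]
    rfl
  have hcoord : ∀ (t : P ⊗[K] (E →ₗ[D] F)) (e : E) (i : ι),
      φF (Φ t ((1 : P) ⊗ₜ[K] e)) i = (φH t i) e := by
    intro t e i
    induction t using TensorProduct.induction_on with
    | zero => simp
    | add s t hs ht =>
      rw [map_add, LinearMap.add_apply, map_add, Finsupp.add_apply, hs, ht, map_add,
        Finsupp.add_apply, LinearMap.add_apply]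
    | tmul p f =>
      rw [hΦ1]
      simp only [φF, φH, TensorProduct.equivFinsuppOfBasisLeft_apply_tmul_apply,
        LinearMap.smul_apply]
  constructor
  · -- injectivity
    rw [injective_iff_map_eq_zero]
    intro t ht
    apply φH.injective
    rw [map_zero]
    ext i e
    rw [← hcoord, ht]
    simp
  · intro g
    constructor
    · rintro ⟨t, rfl⟩ d
      induction t using TensorProduct.induction_on with
      | zero => simp
      | add s t hs ht => rw [map_add, LinearMap.add_comp, LinearMap.comp_add, hs, ht]
      | tmul p f =>
        rw [hΦ]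
        apply TensorProduct.AlgebraTensorModule.ext
        intro q e
        simp only [LinearMap.comp_apply, LinearMap.baseChange_tmul, LinearMap.smul_apply,
          DistribSMul.toLinearMap_apply, LinearMap.coe_restrictScalars, map_smul]
    · intro hg
      -- commutation on elements
      have hg' : ∀ (d : D) (x : P ⊗[K] E),
          g ((DistribSMul.toLinearMap K E d).baseChange P x) =
            (DistribSMul.toLinearMap K F d).baseChange P (g x) := by
        intro d x
        exact DFunLike.congr_fun (hg d) x
      -- coordinates commute with the `D`-action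
      have hcd : ∀ (d : D) (z : P ⊗[K] F) (i : ι),
          φF ((DistribSMul.toLinearMap K F d).baseChange P z) i = d • φF z i := by
        intro d z i
        induction z using TensorProduct.induction_on with
        | zero => simp
        | add z w hz hw => rw [map_add, map_add, Finsupp.add_apply, hz, hw, map_add,
            Finsupp.add_apply, smul_add]
        | tmul p y =>
          simp only [LinearMap.baseChange_tmul, φF,
            TensorProduct.equivFinsuppOfBasisLeft_apply_tmul_apply, DistribSMul.toLinearMap_apply]
          rw [smul_comm]
      -- the coordinate maps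
      let gi : ι → (E →ₗ[D] F) := fun i =>
        { toFun := fun e => φF (g ((1 : P) ⊗ₜ[K] e)) i
          map_add' := by
            intro x y
            simp only [TensorProduct.tmul_add, map_add, Finsupp.add_apply]
          map_smul' := by
            intro d e
            have : (1 : P) ⊗ₜ[K] (d • e) =
                (DistribSMul.toLinearMap K E d).baseChange P ((1 : P) ⊗ₜ[K] e) := by
              simp
            rw [this, hg', hcd]
            rfl }
      have hgi : ∀ i e, gi i e = φF (g ((1 : P) ⊗ₜ[K] e)) i := fun i e => rfl
      -- finitely many nonzero coordinates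
      have : Module.Finite D E := inferInstance
      obtain ⟨s, hs⟩ := (Module.Finite.fg_top (R := D) (M := E))
      let S : Finset ι := s.biUnion fun e => (φF (g ((1 : P) ⊗ₜ[K] e))).support
      have hS : ∀ i, i ∉ S → gi i = 0 := by
        intro i hi
        apply LinearMap.ext_on_range (v := fun e : (s : Set E) => (e : E))
        · simpa using hs
        · rintro ⟨e, he⟩
          rw [hgi, LinearMap.zero_apply]
          by_contra hne
          apply hi
          rw [Finset.mem_biUnion]
          exact ⟨e, he, Finsupp.mem_support_iff.mpr hne⟩
      refine ⟨∑ j ∈ S, b j ⊗ₜ[K] gi j, ?_⟩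
      apply TensorProduct.AlgebraTensorModule.ext
      intro p e
      have hp : p ⊗ₜ[K] e = p • ((1 : P) ⊗ₜ[K] e) := by
        rw [TensorProduct.smul_tmul', smul_eq_mul, mul_one]
      rw [hp, map_smul, map_smul]
      congr 1
      apply φF.injective
      ext i
      rw [hcoord, map_sum, Finsupp.finsetSum_apply]
      simp only [φH, TensorProduct.equivFinsuppOfBasisLeft_apply_tmul_apply,
        Module.Basis.repr_self, LinearMap.smul_apply]
      rw [Finset.sum_eq_single i]
      · simp [hgi]
      · intro j _ hji
        rw [Finsupp.single_eq_of_ne hji.symm, zero_smul]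
      · intro hi
        rw [Finsupp.single_eq_same, one_smul, hS i hi]

end Groth.Agent.S18796
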