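import Groth.Statements.S18802
import Mathlib

set_option autoImplicit false
universe u v w w' w''
open DefMod

namespace Groth.Agent.S18802

/-- Let K be a field of characteristic zero, D an associative K-algebra and E, F left D-modules. A
K-linear map s : D → Hom_K(E, F) with s(ab)(e) = a s(b)(e) + s(a)(b e) (a derivation into the
bimodule Hom_K(E, F), i.e. a Hochschild 1-cocycle) defines the twisted sum F ⊕_s E = F × E with a ·
(f, e) = (a f + s(a) e, a e), an extension of E by F. Every extension of left D-modules 0 → F → Q →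
E → 0 arises this way: there are such an s and a D-linear isomorphism Q ≅ F ⊕_s E carrying the given
map F → Q to the inclusion f ↦ (f, 0) and compatible with the two projections onto E. (Together with
the splitting criterion this identifies derivations modulo principal derivations with Ext¹_D(E, F);
the compatibility of that identification with addition and scalars is not restated.) -/
theorem result
    {K : Type u} [Field K] [CharZero K]
    {D : Type v} [Ring D] [Algebra K D]
    {E : Type w} [AddCommGroup E] [Module K E] [Module D E] [IsScalarTower K D E]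
    {F : Type w'} [AddCommGroup F] [Module K F] [Module D F] [IsScalarTower K D F]
    {Q : Type w''} [AddCommGroup Q] [Module D Q]
    (i : F →ₗ[D] Q) (p : Q →ₗ[D] E) (hi : Function.Injective i) (hp : Function.Surjective p)
    (hex : Function.Exact i p) :
    ∃ (s : D →ₗ[K] E →ₗ[K] F) (hs : W4c6defoisocp1.IsHomDerivation s) (Φ : Q ≃ₗ[D] W4c6defoisocp1.TwistExt s hs),
      (∀ f : F, Φ (i f) = W4c6defoisocp1.TwistExt.inl f) ∧ ∀ q : Q, W4c6defoisocp1.TwistExt.snd (Φ q) = p q := by
  classical
  let _ : Module K Q := Module.compHom Q (algebraMap K D)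
  have hKQ : ∀ (c : K) (q : Q), c • q = algebraMap K D c • q := fun c q => rfl
  have : IsScalarTower K D Q := ⟨fun c a q => by
    rw [hKQ, Algebra.smul_def, mul_smul]⟩
  let iK : F →ₗ[K] Q := i.restrictScalars K
  let pK : Q →ₗ[K] E := p.restrictScalars K
  obtain ⟨σ, hσ⟩ := LinearMap.exists_rightInverse_of_surjective pK
    (LinearMap.range_eq_top.mpr hp)
  obtain ⟨lam, hlam⟩ := LinearMap.exists_leftInverse_of_injective iK
    (LinearMap.ker_eq_bot.mpr hi)
  have hpσ : ∀ e : E, p (σ e) = e := fun e => DFunLike.congr_fun hσ e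
  have hlami : ∀ f : F, lam (i f) = f := fun f => DFunLike.congr_fun hlam f
  have hpi : ∀ f : F, p (i f) = 0 := fun f => hex.apply_apply_eq_zero f
  let ρ : Q →ₗ[K] F := lam ∘ₗ (LinearMap.id - σ ∘ₗ pK)
  have hρdef : ∀ q : Q, ρ q = lam (q - σ (p q)) := fun q => rfl
  have hρi : ∀ f : F, ρ (i f) = f := by
    intro f
    rw [hρdef, hpi, map_zero, sub_zero, hlami]
  have hρσ : ∀ e : E, ρ (σ e) = 0 := by
    intro e
    rw [hρdef, hpσ, sub_self, map_zero]
  have hdecomp : ∀ q : Q, i (ρ q) + σ (p q) = q := by
    intro q
    have hmem : q - σ (p q) ∈ Set.range i := by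
      rw [← hex (q - σ (p q)), map_sub, hpσ, sub_self]
    obtain ⟨f, hf⟩ := hmem
    rw [hρdef, ← hf, hlami, hf]
    abel
  have hρsmul : ∀ (a : D) (q : Q), ρ (a • q) = a • ρ q + ρ (a • σ (p q)) := by
    intro a q
    conv_lhs => rw [← hdecomp q]
    rw [smul_add, map_add, ← map_smul i, hρi]
  let s : D →ₗ[K] E →ₗ[K] F := LinearMap.mk₂ K (fun a e => ρ (a • σ e))
    (fun a b e => by simp only [add_smul, map_add])
    (fun c a e => by simp only [smul_assoc, map_smul])
    (fun a e e' => by simp only [map_add, smul_add])
    (fun c a e => by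
      simp only [map_smul]
      rw [smul_comm, map_smul])
  have hsdef : ∀ (a : D) (e : E), s a e = ρ (a • σ e) := fun a e => rfl
  have hs : W4c6defoisocp1.IsHomDerivation s := by
    intro a b e
    rw [hsdef, hsdef, hsdef, mul_smul, hρsmul a (b • σ e), LinearMap.map_smul p b (σ e), hpσ]
  let Φ : Q ≃ₗ[D] W4c6defoisocp1.TwistExt s hs :=
    { toFun := fun q => W4c6defoisocp1.TwistExt.mk (ρ q, p q)
      map_add' := by
        intro q q'
        show W4c6defoisocp1.TwistExt.mk (ρ (q + q'), p (q + q')) =
          W4c6defoisocp1.TwistExt.mk (ρ q, p q) + W4c6defoisocp1.TwistExt.mk (ρ q', p q')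
        rw [map_add, map_add]
        rfl
      map_smul' := by
        intro a q
        apply W4c6defoisocp1.TwistExt.ext
        · show ρ (a • q) = a • ρ q + s a (p q)
          rw [hρsmul, hsdef]
        · show p (a • q) = a • p q
          rw [map_smul]
      invFun := fun x => i (W4c6defoisocp1.TwistExt.val x).1 + σ (W4c6defoisocp1.TwistExt.val x).2
      left_inv := by
        intro q
        simp only [W4c6defoisocp1.TwistExt.val_mk]
        exact hdecomp q
      right_inv := by
        intro x
        apply W4c6defoisocp1.TwistExt.ext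
        · simp only [W4c6defoisocp1.TwistExt.val_mk, map_add, hρi, hρσ, add_zero]
        · simp only [W4c6defoisocp1.TwistExt.val_mk, map_add, hpi, hpσ, zero_add] }
  refine ⟨s, hs, Φ, fun f => ?_, fun q => rfl⟩
  apply W4c6defoisocp1.TwistExt.ext
  · show ρ (i f) = f
    exact hρi f
  · show p (i f) = 0
    exact hpi f

end Groth.Agent.S18802
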