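import Groth.Statements.S18803
import Mathlib

set_option autoImplicit false
universe u v w w'
open DefMod

namespace Groth.Agent.S18803

/-- Let K be a field of characteristic zero, D an associative K-algebra, E and F left D-modules, and s :
D → Hom_K(E, F) a K-linear map with s(ab)(e) = a s(b)(e) + s(a)(b e). The twisted sum F ⊕_s E (that
is F × E with a · (f, e) = (a f + s(a) e, a e)) is a trivial extension of E by F — there is a
D-linear isomorphism F ⊕_s E ≅ F × E with the direct-sum module structure, carrying the inclusion f
↦ (f, 0) to itself and compatible with the second projections — if and only if s is principal: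
s(a)(e) = a σ(e) − σ(a e) for some K-linear σ : E → F (a Hochschild 1-coboundary). -/
theorem result
    {K : Type u} [Field K] [CharZero K]
    {D : Type v} [Ring D] [Algebra K D]
    {E : Type w} [AddCommGroup E] [Module K E] [Module D E] [IsScalarTower K D E]
    {F : Type w'} [AddCommGroup F] [Module K F] [Module D F] [IsScalarTower K D F]
    (s : D →ₗ[K] E →ₗ[K] F) (hs : W4c6defoisocp1.IsHomDerivation s) :
    (∃ Ψ : W4c6defoisocp1.TwistExt s hs ≃ₗ[D] F × E,
        (∀ f : F, Ψ (W4c6defoisocp1.TwistExt.inl f) = (f, 0)) ∧ ∀ x : W4c6defoisocp1.TwistExt s hs, (Ψ x).2 = W4c6defoisocp1.TwistExt.snd x) ↔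
      W4c6defoisocp1.IsPrincipal s := by
  constructor
  · rintro ⟨Ψ, hΨ1, hΨ2⟩
    have hs1 : s 1 = 0 := W4c6defoisocp1.TwistExt.map_one_eq_zero hs
    have halg : ∀ c : K, s (algebraMap K D c) = 0 := by
      intro c
      rw [Algebra.algebraMap_eq_smul_one, map_smul, hs1, smul_zero]
    -- the second component of Ψ
    have hsnd : ∀ (f : F) (e : E), (Ψ (W4c6defoisocp1.TwistExt.mk (f, e))).2 = e := by
      intro f e
      rw [hΨ2]; rfl
    let τ0 : E → F := fun e => (Ψ (W4c6defoisocp1.TwistExt.mk ((0 : F), e))).1
    have hadd : ∀ e e' : E, τ0 (e + e') = τ0 e + τ0 e' := by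
      intro e e'
      have : (W4c6defoisocp1.TwistExt.mk ((0 : F), e + e') : W4c6defoisocp1.TwistExt s hs) =
          W4c6defoisocp1.TwistExt.mk ((0 : F), e) + W4c6defoisocp1.TwistExt.mk ((0 : F), e') := by
        apply W4c6defoisocp1.TwistExt.ext <;> simp
      simp only [τ0]
      rw [this, map_add, Prod.fst_add]
    have hsmulD : ∀ (a : D) (e : E), τ0 (a • e) = a • τ0 e - s a e := by
      intro a e
      have h1 : a • (W4c6defoisocp1.TwistExt.mk ((0 : F), e) : W4c6defoisocp1.TwistExt s hs) =
          W4c6defoisocp1.TwistExt.mk ((0 : F), a • e) + W4c6defoisocp1.TwistExt.inl (s a e) := by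
        apply W4c6defoisocp1.TwistExt.ext <;> simp
      have h2 := congrArg Ψ h1
      rw [map_smul, map_add, hΨ1] at h2
      have h3 := congrArg Prod.fst h2
      simp only [Prod.smul_fst, Prod.fst_add] at h3
      simp only [τ0]
      rw [h3]; abel
    let τ : E →ₗ[K] F :=
      { toFun := τ0
        map_add' := hadd
        map_smul' := by
          intro c e
          have h1 : c • e = algebraMap K D c • e := (algebraMap_smul D c e).symm
          simp only [RingHom.id_apply]
          rw [h1, hsmulD, halg, LinearMap.zero_apply, sub_zero, algebraMap_smul] }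
    refine ⟨τ, fun a e => ?_⟩
    show s a e = a • τ0 e - τ0 (a • e)
    rw [hsmulD]; abel
  · rintro ⟨σ, hσ⟩
    let Ψ : W4c6defoisocp1.TwistExt s hs ≃ₗ[D] F × E :=
      { toFun := fun x => ((W4c6defoisocp1.TwistExt.val x).1 + σ (W4c6defoisocp1.TwistExt.val x).2,
          (W4c6defoisocp1.TwistExt.val x).2)
        map_add' := by
          intro x y
          ext
          · simp only [W4c6defoisocp1.TwistExt.val_add, Prod.fst_add, Prod.snd_add, map_add]; abel
          · simp
        map_smul' := by
          intro a x
          ext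
          · simp only [W4c6defoisocp1.TwistExt.val_smul, RingHom.id_apply, Prod.smul_fst, smul_add,
              hσ]
            abel
          · simp
        invFun := fun y => W4c6defoisocp1.TwistExt.mk (y.1 - σ y.2, y.2)
        left_inv := by
          intro x
          apply W4c6defoisocp1.TwistExt.ext <;> simp
        right_inv := by
          intro y
          ext <;> simp }
    refine ⟨Ψ, fun f => ?_, fun x => rfl⟩
    show ((W4c6defoisocp1.TwistExt.val (W4c6defoisocp1.TwistExt.inl f : W4c6defoisocp1.TwistExt s hs)).1
      + σ (W4c6defoisocp1.TwistExt.val (W4c6defoisocp1.TwistExt.inl f : W4c6defoisocp1.TwistExt s hs)).2,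
      (W4c6defoisocp1.TwistExt.val (W4c6defoisocp1.TwistExt.inl f : W4c6defoisocp1.TwistExt s hs)).2) = (f, 0)
    simp

end Groth.Agent.S18803
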