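import Groth.Statements.S18806
import Mathlib


set_option autoImplicit false
universe u v v' w w' x
open TensorProduct
open HopfRep

namespace Groth.Agent.S18806

/-- Let k be a field, i : C → D an injective morphism of k-coalgebras and V a right D-comodule with
coaction ρ : V → V ⊗ D. If ρ(v) lies in the image of V ⊗ C → V ⊗ D (induced by i) for every v, then
V comes from a C-comodule: there is a C-comodule structure on V whose coaction, followed by V ⊗ C →
V ⊗ D, is ρ. (The source states this for left comodules over the coordinate bialgebras of an affine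
monoid scheme over k and of its group of units, assumed open and schematically dense, and uses that
assumption only through the injectivity of the restriction map of coordinate rings; the row is the
right-comodule mirror image for any injective coalgebra map. The converse direction is immediate.) -/
theorem result (k : Type u) [Field k]
    (C : Type v) [AddCommGroup C] [Module k C] [Coalgebra k C]
    (D : Type v') [AddCommGroup D] [Module k D] [Coalgebra k D]
    (i : C →ₗc[k] D) (hi : Function.Injective i)
    (V : Type w) [AddCommGroup V] [Module k V] [HopfRep.Comod k D V]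
    (h : ∀ v : V, HopfRep.Comod.coact (k := k) (A := D) v ∈ LinearMap.range ((i : C →ₗ[k] D).lTensor V)) :
    ∃ c : HopfRep.Comod k C V,
      (i : C →ₗ[k] D).lTensor V ∘ₗ c.coact = HopfRep.Comod.coact (k := k) (A := D) := by
  classical
  set iL : C →ₗ[k] D := (i : C →ₗ[k] D) with hiL
  have hiLinj : Function.Injective iL := hi
  set ρ : V →ₗ[k] V ⊗[k] D := HopfRep.Comod.coact (k := k) (A := D) with hρ
  have hj : Function.Injective (iL.lTensor V) :=
    Module.Flat.lTensor_preserves_injective_linearMap _ hiLinj
  -- the coaction
  let coact : V →ₗ[k] V ⊗[k] C :=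
    (LinearEquiv.ofInjective (iL.lTensor V) hj).symm.toLinearMap ∘ₗ
      (ρ.codRestrict (LinearMap.range (iL.lTensor V)) h)
  have hjc : ∀ v, (iL.lTensor V) (coact v) = ρ v := by
    intro v
    show (iL.lTensor V) ((LinearEquiv.ofInjective (iL.lTensor V) hj).symm
      (ρ.codRestrict (LinearMap.range (iL.lTensor V)) h v)) = ρ v
    have := LinearEquiv.apply_symm_apply (LinearEquiv.ofInjective (iL.lTensor V) hj)
      (ρ.codRestrict (LinearMap.range (iL.lTensor V)) h v)
    have h2 := congrArg Subtype.val this
    rw [LinearEquiv.ofInjective_apply] at h2
    exact h2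
  have hjc' : iL.lTensor V ∘ₗ coact = ρ := LinearMap.ext hjc
  have hcounit : CoalgebraStruct.counit (R := k) (A := D) ∘ₗ iL = CoalgebraStruct.counit :=
    CoalgHomClass.counit_comp i
  have hcomul : TensorProduct.map iL iL ∘ₗ CoalgebraStruct.comul =
      CoalgebraStruct.comul ∘ₗ iL := CoalgHomClass.map_comp_comul i
  have hΦ : Function.Injective ((TensorProduct.map iL iL).lTensor V) :=
    Module.Flat.lTensor_preserves_injective_linearMap _
      (TensorProduct.map_injective_of_flat_flat _ _ hiLinj hiLinj)
  refine ⟨{ coact := coact, coassoc := ?_, counit_comp := ?_ }, hjc'⟩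
  · ext v
    apply hΦ
    simp only [LinearMap.comp_apply, LinearEquiv.coe_coe]
    have hD := LinearMap.congr_fun (HopfRep.Comod.coassoc (k := k) (A := D) (V := V)) v
    simp only [LinearMap.comp_apply, LinearEquiv.coe_coe] at hD
    -- left side
    have hL : ((TensorProduct.map iL iL).lTensor V)
        ((TensorProduct.assoc k V C C) ((coact.rTensor C) (coact v))) =
        (TensorProduct.assoc k V D D) ((ρ.rTensor D) (ρ v)) := by
      rw [LinearMap.lTensor_def, TensorProduct.map_map_assoc, LinearMap.rTensor_def,
        TensorProduct.map_map]
      congr 1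
      have h3' : TensorProduct.map (LinearMap.id : V →ₗ[k] V) iL ∘ₗ coact = ρ := hjc'
      rw [h3', LinearMap.comp_id]
      rw [← hjc v, LinearMap.rTensor_def, LinearMap.lTensor_def, TensorProduct.map_map,
        LinearMap.comp_id, LinearMap.id_comp]
    have hR : ((TensorProduct.map iL iL).lTensor V)
        ((CoalgebraStruct.comul (R := k) (A := C)).lTensor V (coact v)) =
        (CoalgebraStruct.comul (R := k) (A := D)).lTensor V (ρ v) := by
      rw [← LinearMap.lTensor_comp_apply, hcomul, LinearMap.lTensor_comp_apply, hjc v]
    rw [hL, hR]
    exact hD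
  · rw [← hcounit, LinearMap.lTensor_comp, LinearMap.comp_assoc, hjc']
    exact HopfRep.Comod.counit_comp (k := k) (A := D) (V := V)

end Groth.Agent.S18806
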