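import Groth.Statements.S18808
import Mathlib
import Groth.Agent.Lib.Helper28.SliceLemmas

set_option autoImplicit false
universe u v v' w w' x
open TensorProduct
open HopfRep

namespace Groth.Agent.S18808

/-- Let k be a field, i : C → D an injective morphism of k-coalgebras and V a right D-comodule with
coaction ρ. Call a D-subcomodule K of V admissible when the induced coaction of V/K, namely ρ
followed by the projection V ⊗ D → (V/K) ⊗ D, takes all its values in the image of (V/K) ⊗ C → (V/K)
⊗ D (so that V/K comes from a C-comodule). Then there is a least admissible D-subcomodule of V: V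
has a largest quotient D-comodule coming from C, through which every D-comodule map from V to a
comodule coming from C factors. (The source states this for left comodules over the coordinate
bialgebras of an affine monoid scheme and its open schematically dense group of units, as the
existence of a universal map from a representation of the unit group to a representation of the
monoid; it uses that assumption only through the injectivity of the restriction map.) -/
theorem result (k : Type u) [Field k]
    (C : Type v) [AddCommGroup C] [Module k C] [Coalgebra k C]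
    (D : Type v') [AddCommGroup D] [Module k D] [Coalgebra k D]
    (i : C →ₗc[k] D) (hi : Function.Injective i)
    (V : Type w) [AddCommGroup V] [Module k V] [HopfRep.Comod k D V] :
    ∃ K : Submodule k V, HopfRep.IsSubcomod (k := k) (A := D) K ∧
      (∀ v : V, K.mkQ.rTensor D (HopfRep.Comod.coact (k := k) (A := D) v) ∈
        LinearMap.range ((i : C →ₗ[k] D).lTensor (V ⧸ K))) ∧
      ∀ K' : Submodule k V, HopfRep.IsSubcomod (k := k) (A := D) K' →
        (∀ v : V, K'.mkQ.rTensor D (HopfRep.Comod.coact (k := k) (A := D) v) ∈
          LinearMap.range ((i : C →ₗ[k] D).lTensor (V ⧸ K'))) → K ≤ K' := by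
  classical
  set iL : C →ₗ[k] D := (i : C →ₗ[k] D) with hiL
  set ρ : V →ₗ[k] V ⊗[k] D := HopfRep.Comod.coact (k := k) (A := D) with hρ
  -- slice criterion for subcomodules
  have hsub_iff : ∀ K : Submodule k V, HopfRep.IsSubcomod (k := k) (A := D) K ↔
      ∀ (l : D →ₗ[k] k) (w : V), w ∈ K → Groth.Agent.Helper12.slice l (ρ w) ∈ K := by
    intro K
    constructor
    · intro hK l w hw
      exact Groth.Agent.Helper12.slice_mem_of_mem_range K l _ (hK w hw)
    · intro h w hw
      apply Groth.Agent.Helper12.mem_range_rTensor_of_slice_mem (Module.Basis.ofVectorSpace k D)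
      intro j
      exact h _ w hw
  -- slice criterion for admissibility
  have hadm_iff : ∀ K : Submodule k V,
      (∀ v : V, K.mkQ.rTensor D (ρ v) ∈ LinearMap.range (iL.lTensor (V ⧸ K))) ↔
      ∀ (μ : D →ₗ[k] k), μ ∘ₗ iL = 0 → ∀ v : V, Groth.Agent.Helper12.slice μ (ρ v) ∈ K := by
    intro K
    constructor
    · intro h μ hμ v
      have h1 := (Groth.Agent.Helper28.SliceLemmas.mem_range_lTensor_iff iL _).1 (h v) μ hμ
      rw [Groth.Agent.Helper12.slice_rTensor] at h1
      exact (Submodule.Quotient.mk_eq_zero K).1 h1
    · intro h v
      rw [Groth.Agent.Helper28.SliceLemmas.mem_range_lTensor_iff]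
      intro μ hμ
      rw [Groth.Agent.Helper12.slice_rTensor]
      exact (Submodule.Quotient.mk_eq_zero K).2 (h μ hμ v)
  let 𝒮 : Set (Submodule k V) := {K' | HopfRep.IsSubcomod (k := k) (A := D) K' ∧
    ∀ (μ : D →ₗ[k] k), μ ∘ₗ iL = 0 → ∀ v : V, Groth.Agent.Helper12.slice μ (ρ v) ∈ K'}
  refine ⟨sInf 𝒮, ?_, ?_, ?_⟩
  · rw [hsub_iff]
    intro l w hw
    rw [Submodule.mem_sInf] at hw ⊢
    intro K' hK'
    exact (hsub_iff K').1 hK'.1 l w (hw K' hK')
  · rw [hadm_iff]
    intro μ hμ v
    rw [Submodule.mem_sInf]
    intro K' hK'
    exact hK'.2 μ hμ v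
  · intro K' hK' hadm
    exact sInf_le ⟨hK', (hadm_iff K').1 hadm⟩

end Groth.Agent.S18808
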