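import Groth.Statements.S18809
import Mathlib
import Groth.Agent.S18807

set_option autoImplicit false
universe u v v' w w' x
open TensorProduct
open HopfRep

namespace Groth.Agent.S18809

/-- Let k be a field and i : C → D an injective morphism of k-coalgebras. If every right D-comodule is
semisimple (every subcomodule has a complementary subcomodule), then every right C-comodule is
semisimple. (The source states this for the coordinate bialgebras of an affine monoid scheme over k
and of its open schematically dense group of units, through the injectivity of the restriction map,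
with semisimple meaning that every representation is a sum of irreducible subrepresentations;
D-comodules are quantified in the universe of the given C-comodule.) -/
theorem result (k : Type u) [Field k]
    (C : Type v) [AddCommGroup C] [Module k C] [Coalgebra k C]
    (D : Type v') [AddCommGroup D] [Module k D] [Coalgebra k D]
    (i : C →ₗc[k] D) (hi : Function.Injective i)
    (hD : ∀ (W : Type w) [AddCommGroup W] [Module k W] [HopfRep.Comod k D W], HopfRep.IsSemisimpleComod k D W)
    (V : Type w) [AddCommGroup V] [Module k V] [HopfRep.Comod k C V] :
    HopfRep.IsSemisimpleComod k C V := by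
  classical
  set iL : C →ₗ[k] D := (i : C →ₗ[k] D) with hiL
  set ρ : V →ₗ[k] V ⊗[k] C := HopfRep.Comod.coact (k := k) (A := C) with hρ
  have hcounit : CoalgebraStruct.counit (R := k) (A := D) ∘ₗ iL = CoalgebraStruct.counit :=
    CoalgHomClass.counit_comp i
  have hcomul : TensorProduct.map iL iL ∘ₗ CoalgebraStruct.comul =
      CoalgebraStruct.comul ∘ₗ iL := CoalgHomClass.map_comp_comul i
  -- the induced `D`-comodule structure
  let cD : HopfRep.Comod k D V :=
    { coact := iL.lTensor V ∘ₗ ρ
      coassoc := by
        ext v
        simp only [LinearMap.comp_apply, LinearEquiv.coe_coe]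
        have hC := LinearMap.congr_fun (HopfRep.Comod.coassoc (k := k) (A := C) (V := V)) v
        simp only [LinearMap.comp_apply, LinearEquiv.coe_coe] at hC
        have hR : (CoalgebraStruct.comul (R := k) (A := D)).lTensor V ((iL.lTensor V) (ρ v)) =
            ((TensorProduct.map iL iL).lTensor V)
              ((TensorProduct.assoc k V C C) ((ρ.rTensor C) (ρ v))) := by
          rw [hC, ← LinearMap.lTensor_comp_apply, ← LinearMap.lTensor_comp_apply, hcomul]
        have hL : (TensorProduct.assoc k V D D)
            (((iL.lTensor V ∘ₗ ρ).rTensor D) ((iL.lTensor V) (ρ v))) =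
            ((TensorProduct.map iL iL).lTensor V)
              ((TensorProduct.assoc k V C C) ((ρ.rTensor C) (ρ v))) := by
          have e1 : ∀ x, ((TensorProduct.map iL iL).lTensor V) ((TensorProduct.assoc k V C C) x) =
              (TensorProduct.assoc k V D D)
                (TensorProduct.map (TensorProduct.map LinearMap.id iL) iL x) := by
            intro x
            rw [LinearMap.lTensor_def]
            exact TensorProduct.map_map_assoc _ _ _ _
          rw [e1]
          congr 1
          simp only [LinearMap.lTensor_def, LinearMap.rTensor_def, TensorProduct.map_map,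
            LinearMap.comp_id, LinearMap.id_comp]
        rw [hL, hR]
      counit_comp := by
        rw [← LinearMap.comp_assoc, ← LinearMap.lTensor_comp, hcounit]
        exact HopfRep.Comod.counit_comp (k := k) (A := C) (V := V) }
  have hss := @hD V _ _ cD
  intro W hW
  -- `W` is a `D`-subcomodule
  have hWD : @HopfRep.IsSubcomod k D _ _ _ _ V _ _ cD W := by
    intro w hw
    obtain ⟨y, hy⟩ := hW w hw
    refine ⟨(iL.lTensor W) y, ?_⟩
    show (W.subtype.rTensor D) ((iL.lTensor W) y) = (iL.lTensor V) (ρ w)
    rw [← hy, ← LinearMap.comp_apply, ← LinearMap.comp_apply, LinearMap.rTensor_comp_lTensor,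
      LinearMap.lTensor_comp_rTensor]
  obtain ⟨W', hW', hc⟩ := hss W hWD
  refine ⟨W', ?_, hc⟩
  exact @Groth.Agent.S18807.result k _ C _ _ _ D _ _ _ i hi V _ _ _ cD rfl W' hW' 

end Groth.Agent.S18809
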