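import Groth.Statements.S18810
import Mathlib
import Groth.Agent.Lib.Helper22.DualAct

set_option autoImplicit false
universe u v v' w w' x
open TensorProduct
open HopfRep

namespace Groth.Agent.S18810

/-- Let k be a field, C a k-coalgebra, V a right C-comodule and (S_j) a family of simple C-comodules
which are pairwise non-isomorphic (for j ≠ j' no k-linear isomorphism S_j ≃ S_j' commutes with the
coactions). For each j let V[j] be the isotypic component of type S_j: the sum of the images of all
comodule maps S_j → V (equivalently of all simple subcomodules of V isomorphic to S_j, a nonzero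
such map being injective). Then the family j ↦ V[j] is independent, so that the socle of V is the
direct sum of its isotypic components. (The source states this for representations of an affine
monoid scheme over k, i.e. left comodules over its coordinate bialgebra; the row is the
right-comodule form over any coalgebra.) -/
theorem result (k : Type u) [Field k]
    (C : Type v) [AddCommGroup C] [Module k C] [Coalgebra k C]
    (V : Type w) [AddCommGroup V] [Module k V] [HopfRep.Comod k C V]
    {ι : Type x} (S : ι → Type w') [∀ j, AddCommGroup (S j)] [∀ j, Module k (S j)]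
    [∀ j, HopfRep.Comod k C (S j)] (hS : ∀ j, HopfRep.IsSimpleComod k C (S j))
    (hne : ∀ j j', j ≠ j' → ∀ e : S j ≃ₗ[k] S j', ¬ Hoch.IsComodHom C (e : S j →ₗ[k] S j')) :
    iSupIndep (fun j => ⨆ f : {f : S j →ₗ[k] V // Hoch.IsComodHom C f}, LinearMap.range f.1) := by
  classical
  have hS' : ∀ j, IsSimpleModule (WithConv (C →ₗ[k] k))
      (Groth.Agent.Helper22.DualAct.AsMod k C (S j)) :=
    fun j => (Groth.Agent.Helper22.DualAct.isSimpleModule_iff (S j)).2 (hS j)
  -- isotypic components over the dual algebra
  let T : ι → Submodule (WithConv (C →ₗ[k] k)) (Groth.Agent.Helper22.DualAct.AsMod k C V) :=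
    fun j => isotypicComponent (WithConv (C →ₗ[k] k)) (Groth.Agent.Helper22.DualAct.AsMod k C V)
      (Groth.Agent.Helper22.DualAct.AsMod k C (S j))
  -- Claim 1
  have h1 : ∀ j, (⨆ f : {f : S j →ₗ[k] V // Hoch.IsComodHom C f}, LinearMap.range f.1) ≤
      Groth.Agent.Helper22.DualAct.ofSub V (T j) := by
    intro j
    apply iSup_le
    rintro ⟨f, hf⟩
    rw [← Groth.Agent.Helper22.DualAct.ofSub_range_toModHom f hf,
      Groth.Agent.Helper22.DualAct.ofSub_le_iff]
    haveI := hS' j
    rcases LinearMap.injective_or_eq_zero
      (Groth.Agent.Helper22.DualAct.toModHom (k := k) (C := C) f hf) with hinj | h0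
    · exact le_sSup ⟨(LinearEquiv.ofInjective _ hinj).symm⟩
    · rw [h0, LinearMap.range_zero]; exact bot_le
  -- Claim 2
  have h2 : iSupIndep T := by
    intro j
    by_cases hTj : T j = ⊥
    · rw [hTj]; exact disjoint_bot_left
    · -- `T j` is a nonzero isotypic component
      have hne' : {m : Submodule (WithConv (C →ₗ[k] k)) (Groth.Agent.Helper22.DualAct.AsMod k C V) |
          Nonempty (m ≃ₗ[WithConv (C →ₗ[k] k)] Groth.Agent.Helper22.DualAct.AsMod k C (S j))}.Nonempty := by
        by_contra hemp
        rw [Set.not_nonempty_iff_eq_empty] at hemp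
        apply hTj
        show sSup _ = ⊥
        rw [hemp, sSup_empty]
      obtain ⟨m, ⟨e⟩⟩ := hne'
      haveI := hS' j
      haveI hm : IsSimpleModule (WithConv (C →ₗ[k] k)) m := IsSimpleModule.congr e
      have hTm : T j = isotypicComponent (WithConv (C →ₗ[k] k))
          (Groth.Agent.Helper22.DualAct.AsMod k C V) m := (e.isotypicComponent_eq).symm
      have hmem : T j ∈ isotypicComponents (WithConv (C →ₗ[k] k))
          (Groth.Agent.Helper22.DualAct.AsMod k C V) := ⟨m, hm, hTm⟩
      have hmle : m ≤ T j := le_sSup ⟨e⟩
      have hind := sSupIndep_isotypicComponents (WithConv (C →ₗ[k] k))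
        (Groth.Agent.Helper22.DualAct.AsMod k C V) hmem
      refine hind.mono_right ?_
      apply iSup_le
      intro j'
      apply iSup_le
      intro hj'
      by_cases hTj' : T j' = ⊥
      · rw [hTj']; exact bot_le
      · have hne'' : {m : Submodule (WithConv (C →ₗ[k] k)) (Groth.Agent.Helper22.DualAct.AsMod k C V) |
            Nonempty (m ≃ₗ[WithConv (C →ₗ[k] k)] Groth.Agent.Helper22.DualAct.AsMod k C (S j'))}.Nonempty := by
          by_contra hemp
          rw [Set.not_nonempty_iff_eq_empty] at hemp
          apply hTj'
          show sSup _ = ⊥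
          rw [hemp, sSup_empty]
        obtain ⟨m', ⟨e'⟩⟩ := hne''
        haveI := hS' j'
        haveI hm' : IsSimpleModule (WithConv (C →ₗ[k] k)) m' := IsSimpleModule.congr e'
        have hTm' : T j' = isotypicComponent (WithConv (C →ₗ[k] k))
            (Groth.Agent.Helper22.DualAct.AsMod k C V) m' := (e'.isotypicComponent_eq).symm
        apply le_sSup
        refine ⟨⟨m', hm', hTm'⟩, ?_⟩
        intro heq
        rw [Set.mem_singleton_iff] at heq
        -- then `m ≤ T j'`, so `m ≃ S j'`
        have hmle' : m ≤ T j' := heq ▸ hmle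
        have hiso := isIsotypicOfType_submodule_iff.mp
          (IsIsotypicOfType.isotypicComponent (WithConv (C →ₗ[k] k))
            (Groth.Agent.Helper22.DualAct.AsMod k C V)
            (Groth.Agent.Helper22.DualAct.AsMod k C (S j'))) m hmle'
        obtain ⟨e2⟩ := hiso
        exact hne j' j hj' (Groth.Agent.Helper22.DualAct.ofModEquiv (e2.symm.trans e))
          (Groth.Agent.Helper22.DualAct.isComodHom_ofModEquiv (e2.symm.trans e))
  -- Claim 3
  have h3 : iSupIndep (fun j => Groth.Agent.Helper22.DualAct.ofSub V (T j)) := by
    intro j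
    rw [disjoint_iff]
    have := disjoint_iff.1 (h2 j)
    have e1 : (⨆ (j') (_ : j' ≠ j), Groth.Agent.Helper22.DualAct.ofSub V (T j')) =
        Groth.Agent.Helper22.DualAct.ofSub V (⨆ (j') (_ : j' ≠ j), T j') := by
      rw [Groth.Agent.Helper22.DualAct.ofSub_iSup]
      refine iSup_congr fun j' => ?_
      rw [Groth.Agent.Helper22.DualAct.ofSub_iSup]
    rw [e1, ← Groth.Agent.Helper22.DualAct.ofSub_inf, this, Groth.Agent.Helper22.DualAct.ofSub_bot]
  exact h3.mono h1

end Groth.Agent.S18810
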