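import Groth.Statements.S18811
import Mathlib


set_option autoImplicit false
universe u
open CategoryTheory CategoryTheory.Limits AlgebraicGeometry
open Variety

namespace Groth.Agent.S18811

/-- Let k be a field and X, Y quasi-compact k-schemes whose diagonal morphisms over k are affine
(semi-separated; for instance X and Y separated over k). Then the canonical map Γ(X, O_X) ⊗_k Γ(Y,
O_Y) → Γ(X ×_k Y, O) is an isomorphism: the commutative square of rings of global sections formed by
Spec k, X, Y and X ×_k Y with the pullback maps along the structure morphisms and the two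
projections is a pushout square of commutative rings. -/
theorem result (k : Type u) [Field k]
    (X : Scheme.{u}) [X.Over (Spec (CommRingCat.of k))] [CompactSpace ↥X]
    [IsAffineHom (pullback.diagonal (X ↘ (Spec (CommRingCat.of k))))]
    (Y : Scheme.{u}) [Y.Over (Spec (CommRingCat.of k))] [CompactSpace ↥Y]
    [IsAffineHom (pullback.diagonal (Y ↘ (Spec (CommRingCat.of k))))] :
    IsPushout (X ↘ (Spec (CommRingCat.of k))).appTop (Y ↘ (Spec (CommRingCat.of k))).appTop
      (pullback.fst (X ↘ (Spec (CommRingCat.of k))) (Y ↘ (Spec (CommRingCat.of k)))).appTop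
      (pullback.snd (X ↘ (Spec (CommRingCat.of k))) (Y ↘ (Spec (CommRingCat.of k)))).appTop := by
  have hfield : IsField Γ(Spec (CommRingCat.of k), ⊤) :=
    MulEquiv.isField (Field.toIsField k)
      (Scheme.ΓSpecIso (CommRingCat.of k)).commRingCatIsoToRingEquiv.toMulEquiv
  have hflat : ∀ (Z : Scheme.{u}) (h : Z ⟶ Spec (CommRingCat.of k)), Flat h := by
    intro Z h
    rw [HasRingHomProperty.iff_of_source_openCover (P := @Flat) Z.affineCover]
    intro i
    exact RingHom.Flat.of_isField hfield _
  have : Flat (Y ↘ Spec (CommRingCat.of k)) := hflat _ _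
  have hqs : ∀ (Z : Scheme.{u}) (h : Z ⟶ Spec (CommRingCat.of k))
      [IsAffineHom (pullback.diagonal h)], QuasiSeparatedSpace Z := by
    intro Z h _
    have : QuasiSeparated h := ⟨inferInstance⟩
    exact quasiSeparatedSpace_of_quasiSeparated h
  have := hqs X (X ↘ Spec (CommRingCat.of k))
  have := hqs Y (Y ↘ Spec (CommRingCat.of k))
  have H : IsPullback (pullback.fst (X ↘ Spec (CommRingCat.of k)) (Y ↘ Spec (CommRingCat.of k)))
      (pullback.snd (X ↘ Spec (CommRingCat.of k)) (Y ↘ Spec (CommRingCat.of k)))
      (X ↘ Spec (CommRingCat.of k)) (Y ↘ Spec (CommRingCat.of k)) := IsPullback.of_hasPullback _ _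
  have hiso := isIso_pushoutSection_of_isCompact_of_flat_right_of_ringHomFlat H
    (US := ⊤) (UT := ⊤) (UX := ⊤) (UY := ⊤) le_top le_top (by simp)
    (isAffineOpen_top _) (by simpa using isCompact_univ)
    (by simpa using isQuasiSeparated_univ) (by simpa using isCompact_univ)
    (by simpa using isQuasiSeparated_univ)
    (RingHom.Flat.of_isField hfield _)
  have := (isIso_pushoutSection_iff H (US := ⊤) (UT := ⊤) (UX := ⊤) (UY := ⊤) le_top le_top
    (by simp)).mp hiso
  convert this using 1 <;> simp [Scheme.Hom.appLE, Scheme.Hom.appTop]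


end Groth.Agent.S18811
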