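import Groth.Statements.S18813
import Mathlib
import Groth.Agent.Lib.Helper28.IntegralDescent
import Groth.Agent.S18812
open Groth.Agent.Helper28.IntegralDescent

set_option autoImplicit false
universe u
open scoped TensorProduct
open HopfRep

namespace Groth.Agent.S18813

/-- Let k be a field, K a field extension of k and A a commutative Hopf algebra over k, the coordinate
ring of an affine group scheme G (no finiteness assumed). Then G is linearly reductive (every
finite-dimensional A-comodule is semisimple) if and only if the base change G_K is (every
finite-dimensional comodule over the K-Hopf algebra K ⊗_k A is semisimple). (The source phrases both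
sides as semisimplicity of all representations, which over a field is equivalent to semisimplicity
of the finite-dimensional ones since every comodule is the union of its finite-dimensional
subcomodules.) -/
theorem result (k K A : Type u) [Field k] [Field K]
    [Algebra k K] [CommRing A] [HopfAlgebra k A] :
    HopfRep.IsLinearlyReductive k A ↔ HopfRep.IsLinearlyReductive K (K ⊗[k] A) := by
  have hr : ∃ r : K →ₗ[k] k, r 1 = 1 := by
    obtain ⟨g, hg⟩ := LinearMap.exists_leftInverse_of_injective (Algebra.linearMap k K)
      (LinearMap.ker_eq_bot.2 (algebraMap k K).injective)
    refine ⟨g, ?_⟩
    have := LinearMap.congr_fun hg 1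
    simpa using this
  constructor
  · intro h
    obtain ⟨α, hα, h1⟩ := exists_integral_of_LR h
    intro V _ _ _ _
    exact Groth.Agent.S18812.result K (K ⊗[k] A) (bc α) (baseChange_isInt α hα) (bc_one α h1) V
  · intro h
    obtain ⟨β, hβ, h1⟩ := exists_integral_of_LR h
    obtain ⟨r, hr1⟩ := hr
    intro V _ _ _ _
    exact Groth.Agent.S18812.result k A (desc β r) (descent_isInt β hβ r) (desc_one β h1 r hr1) V

end Groth.Agent.S18813
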