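import Groth.Statements.S18814
import Mathlib
import Groth.Agent.Lib.Helper12.Comod

set_option autoImplicit false
universe u v v' w w'
open TensorProduct
open HopfRep

namespace Groth.Agent.S18814

/-- Let k be a field, C and D commutative bialgebras over k (coordinate rings of affine monoid schemes M
and N) and V a k-vector space carrying a right C-comodule structure with coaction ρ_C : V → V ⊗ C
and a right D-comodule structure with coaction ρ_D : V → V ⊗ D which commute: (ρ_C ⊗ id_D) ∘ ρ_D and
(ρ_D ⊗ id_C) ∘ ρ_C agree in V ⊗ C ⊗ D after reassociating and swapping the last two factors (the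
actions of M and N on V commute). Assume V is semisimple as a D-comodule. Then for every simple
D-comodule S the isotypic component of V of type S, the sum of the images of all D-comodule maps S →
V, is a C-subcomodule of V. (The source works with left comodules; this is the right-comodule form.) -/
theorem result (k : Type u) [Field k]
    (C : Type v) [CommRing C] [Bialgebra k C] (D : Type v') [CommRing D] [Bialgebra k D]
    (V : Type w) [AddCommGroup V] [Module k V] [HopfRep.Comod k C V] [HopfRep.Comod k D V]
    (hcomm : (TensorProduct.assoc k V C D).toLinearMap ∘ₗ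
        (HopfRep.Comod.coact (k := k) (A := C) (V := V)).rTensor D ∘ₗ HopfRep.Comod.coact (k := k) (A := D) =
      (TensorProduct.comm k D C).toLinearMap.lTensor V ∘ₗ (TensorProduct.assoc k V D C).toLinearMap ∘ₗ
        (HopfRep.Comod.coact (k := k) (A := D) (V := V)).rTensor C ∘ₗ HopfRep.Comod.coact (k := k) (A := C))
    (hV : HopfRep.IsSemisimpleComod k D V)
    (S : Type w') [AddCommGroup S] [Module k S] [HopfRep.Comod k D S] (hS : HopfRep.IsSimpleComod k D S) :
    HopfRep.IsSubcomod (k := k) (A := C)
      (⨆ f : {f : S →ₗ[k] V // Hoch.IsComodHom D f}, LinearMap.range f.1) := by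
  classical
  set ρC : V →ₗ[k] V ⊗[k] C := HopfRep.Comod.coact (k := k) (A := C) with hρC
  set ρD : V →ₗ[k] V ⊗[k] D := HopfRep.Comod.coact (k := k) (A := D) with hρD
  -- slices of the `C`-coaction are `D`-comodule maps
  have hT : ∀ l : C →ₗ[k] k, Hoch.IsComodHom D (Groth.Agent.Helper12.slice l ∘ₗ ρC) := by
    intro l
    let Ξ : V ⊗[k] (C ⊗[k] D) →ₗ[k] V ⊗[k] D :=
      LinearMap.lTensor V ((TensorProduct.lid k D).toLinearMap ∘ₗ l.rTensor D)
    have L1 : ∀ (x : V ⊗[k] C) (d : D),
        Ξ ((TensorProduct.assoc k V C D) (x ⊗ₜ[k] d)) = Groth.Agent.Helper12.slice l x ⊗ₜ[k] d := by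
      intro x d
      induction x using TensorProduct.induction_on with
      | zero => simp
      | tmul u c =>
        simp only [Ξ, TensorProduct.assoc_tmul, LinearMap.lTensor_tmul, LinearMap.comp_apply,
          LinearMap.rTensor_tmul, LinearEquiv.coe_coe, TensorProduct.lid_tmul,
          Groth.Agent.Helper12.slice_tmul]
        rw [TensorProduct.tmul_smul, TensorProduct.smul_tmul']
      | add x y hx hy => rw [TensorProduct.add_tmul, map_add, map_add, hx, hy, map_add,
          TensorProduct.add_tmul]
    have L1' : ∀ y : V ⊗[k] D, Ξ ((TensorProduct.assoc k V C D) ((ρC.rTensor D) y)) =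
        ((Groth.Agent.Helper12.slice l ∘ₗ ρC).rTensor D) y := by
      intro y
      induction y using TensorProduct.induction_on with
      | zero => simp
      | tmul u d =>
        rw [LinearMap.rTensor_tmul, L1, LinearMap.rTensor_tmul, LinearMap.comp_apply]
      | add y z hy hz => rw [map_add, map_add, map_add, hy, hz, map_add]
    have L2 : ∀ (z : V ⊗[k] D) (c : C),
        Ξ (((TensorProduct.comm k D C).toLinearMap.lTensor V)
          ((TensorProduct.assoc k V D C) (z ⊗ₜ[k] c))) = l c • z := by
      intro z c
      induction z using TensorProduct.induction_on with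
      | zero => simp
      | tmul u d =>
        simp only [Ξ, TensorProduct.assoc_tmul, LinearMap.lTensor_tmul, LinearMap.comp_apply,
          LinearMap.rTensor_tmul, LinearEquiv.coe_coe, TensorProduct.lid_tmul,
          TensorProduct.comm_tmul]
        rw [TensorProduct.tmul_smul]
      | add x y hx hy => rw [TensorProduct.add_tmul, map_add, map_add, map_add, hx, hy, smul_add]
    have L2' : ∀ x : V ⊗[k] C,
        Ξ (((TensorProduct.comm k D C).toLinearMap.lTensor V)
          ((TensorProduct.assoc k V D C) ((ρD.rTensor C) x))) =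
        ρD (Groth.Agent.Helper12.slice l x) := by
      intro x
      induction x using TensorProduct.induction_on with
      | zero => simp
      | tmul u c =>
        rw [LinearMap.rTensor_tmul, L2, Groth.Agent.Helper12.slice_tmul, map_smul]
      | add y z hy hz => rw [map_add, map_add, map_add, map_add, hy, hz, map_add, map_add]
    show ρD ∘ₗ (Groth.Agent.Helper12.slice l ∘ₗ ρC) =
      (Groth.Agent.Helper12.slice l ∘ₗ ρC).rTensor D ∘ₗ ρD
    ext v
    have h := LinearMap.congr_fun hcomm v
    simp only [LinearMap.comp_apply, LinearEquiv.coe_coe] at h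
    have h' := congrArg Ξ h
    rw [L1', L2'] at h'
    simp only [LinearMap.comp_apply]
    exact h'.symm
  -- the isotypic part is stable under the slices
  set W : Submodule k V := ⨆ f : {f : S →ₗ[k] V // Hoch.IsComodHom D f}, LinearMap.range f.1 with hW
  have hstab : ∀ (l : C →ₗ[k] k) (w : V), w ∈ W → Groth.Agent.Helper12.slice l (ρC w) ∈ W := by
    intro l w hw
    have hle : W.map (Groth.Agent.Helper12.slice l ∘ₗ ρC) ≤ W := by
      rw [hW, Submodule.map_iSup]
      apply iSup_le
      rintro ⟨f, hf⟩
      rw [← LinearMap.range_comp]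
      have hcomp : Hoch.IsComodHom D ((Groth.Agent.Helper12.slice l ∘ₗ ρC) ∘ₗ f) := by
        have h1 : ρD ∘ₗ (Groth.Agent.Helper12.slice l ∘ₗ ρC) =
            (Groth.Agent.Helper12.slice l ∘ₗ ρC).rTensor D ∘ₗ ρD := hT l
        have h2 : ρD ∘ₗ f = f.rTensor D ∘ₗ HopfRep.Comod.coact (k := k) (A := D) := hf
        show ρD ∘ₗ ((Groth.Agent.Helper12.slice l ∘ₗ ρC) ∘ₗ f) =
          ((Groth.Agent.Helper12.slice l ∘ₗ ρC) ∘ₗ f).rTensor D ∘ₗ
            HopfRep.Comod.coact (k := k) (A := D)
        rw [← LinearMap.comp_assoc, h1, LinearMap.comp_assoc, h2, ← LinearMap.comp_assoc,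
          ← LinearMap.rTensor_comp]
      exact le_iSup (fun f : {f : S →ₗ[k] V // Hoch.IsComodHom D f} => LinearMap.range f.1)
        ⟨_, hcomp⟩
    exact hle (Submodule.mem_map_of_mem hw)
  intro w hw
  apply Groth.Agent.Helper12.mem_range_rTensor_of_slice_mem (Module.Basis.ofVectorSpace k C)
  intro i
  exact hstab _ w hw

end Groth.Agent.S18814
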