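import Groth.Statements.S18815
import Mathlib
import Groth.Agent.Lib.Helper22.DualAct

set_option autoImplicit false
universe u v w w'
open TensorProduct
open HopfRep

namespace Groth.Agent.S18815

/-- Let k be a field, C a k-coalgebra and V, W simple right C-comodules (nonzero, with no subcomodules
other than 0 and the whole space). Then every k-linear map V → W commuting with the coactions is
either zero or bijective. (The source states this for irreducible representations of an affine
monoid scheme over k, i.e. left comodules over its coordinate bialgebra.) -/
theorem result (k : Type u) [Field k]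
    (C : Type v) [AddCommGroup C] [Module k C] [Coalgebra k C]
    (V : Type w) [AddCommGroup V] [Module k V] [HopfRep.Comod k C V] (hV : HopfRep.IsSimpleComod k C V)
    (W : Type w') [AddCommGroup W] [Module k W] [HopfRep.Comod k C W] (hW : HopfRep.IsSimpleComod k C W)
    (f : V →ₗ[k] W) (hf : Hoch.IsComodHom C f) :
    f = 0 ∨ Function.Bijective f := by
  have h1 : IsSimpleModule (WithConv (C →ₗ[k] k)) (Groth.Agent.Helper22.DualAct.AsMod k C V) :=
    (Groth.Agent.Helper22.DualAct.isSimpleModule_iff V).2 hV
  have h2 : IsSimpleModule (WithConv (C →ₗ[k] k)) (Groth.Agent.Helper22.DualAct.AsMod k C W) :=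
    (Groth.Agent.Helper22.DualAct.isSimpleModule_iff W).2 hW
  rcases LinearMap.bijective_or_eq_zero
      (Groth.Agent.Helper22.DualAct.toModHom (k := k) (C := C) f hf) with h | h
  · right
    constructor
    · intro a b hab
      apply (Groth.Agent.Helper22.DualAct.toMod (k := k) (C := C) V).injective
      apply h.1
      rw [Groth.Agent.Helper22.DualAct.toModHom_apply, Groth.Agent.Helper22.DualAct.toModHom_apply,
        LinearEquiv.symm_apply_apply, LinearEquiv.symm_apply_apply, hab]
    · intro b
      obtain ⟨a, ha⟩ := h.2 (Groth.Agent.Helper22.DualAct.toMod (k := k) (C := C) W b)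
      refine ⟨(Groth.Agent.Helper22.DualAct.toMod (k := k) (C := C) V).symm a, ?_⟩
      rw [Groth.Agent.Helper22.DualAct.toModHom_apply] at ha
      exact (Groth.Agent.Helper22.DualAct.toMod (k := k) (C := C) W).injective ha
  · left
    ext v
    have := congrArg (fun g => g (Groth.Agent.Helper22.DualAct.toMod (k := k) (C := C) V v)) h
    simp only [Groth.Agent.Helper22.DualAct.toModHom_apply, LinearEquiv.symm_apply_apply,
      LinearMap.zero_apply] at this
    rw [LinearMap.zero_apply]
    exact (Groth.Agent.Helper22.DualAct.toMod (k := k) (C := C) W).map_eq_zero_iff.1 this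

end Groth.Agent.S18815
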