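import Groth.Statements.S18818
import Mathlib
import Groth.Agent.Lib.Helper22.DualAct

set_option autoImplicit false
universe u v w
open TensorProduct
open HopfRep

namespace Groth.Agent.S18818

/-- Let k be a field, C a k-coalgebra and V a right C-comodule which is semisimple in the sense that
every subcomodule has a complementary subcomodule (equivalently every injective comodule map into V
splits). Then V is completely reducible: V is the sum of its simple subcomodules, the nonzero
subcomodules W whose only subcomodules are 0 and W. (The source states this for representations of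
an affine monoid scheme over k, i.e. left comodules over its coordinate bialgebra; the converse
implication and the stability of the class under subobjects and quotients are not part of this row.) -/
theorem result (k : Type u) [Field k]
    (C : Type v) [AddCommGroup C] [Module k C] [Coalgebra k C]
    (V : Type w) [AddCommGroup V] [Module k V] [HopfRep.Comod k C V] (hV : HopfRep.IsSemisimpleComod k C V) :
    (⨆ W : {W : Submodule k V // HopfRep.IsSubcomod (k := k) (A := C) W ∧ W ≠ ⊥ ∧
        ∀ W' : Submodule k V, HopfRep.IsSubcomod (k := k) (A := C) W' → W' ≤ W → W' = ⊥ ∨ W' = W},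
      (W.1 : Submodule k V)) = ⊤ := by
  have h1 : IsSemisimpleModule (WithConv (C →ₗ[k] k)) (Groth.Agent.Helper22.DualAct.AsMod k C V) :=
    (Groth.Agent.Helper22.DualAct.isSemisimpleModule_iff V).2 hV
  have h2 := IsSemisimpleModule.sSup_simples_eq_top (WithConv (C →ₗ[k] k))
    (Groth.Agent.Helper22.DualAct.AsMod k C V)
  have h3 := congrArg (Groth.Agent.Helper22.DualAct.ofSub (k := k) (C := C) V) h2
  rw [Groth.Agent.Helper22.DualAct.ofSub_sSup, Groth.Agent.Helper22.DualAct.ofSub_top] at h3
  rw [eq_top_iff, ← h3]
  apply sSup_le
  rintro _ ⟨N, hN, rfl⟩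
  have hN' : IsSimpleModule (WithConv (C →ₗ[k] k)) N := hN
  rw [isSimpleModule_iff_isAtom] at hN'
  refine le_iSup_of_le ⟨Groth.Agent.Helper22.DualAct.ofSub V N,
    Groth.Agent.Helper22.DualAct.ofSub_isSubcomod V N, ?_, ?_⟩ le_rfl
  · rw [Ne, Groth.Agent.Helper22.DualAct.ofSub_eq_bot]
    exact hN'.1
  · intro W' hW' hle
    have h4 : Groth.Agent.Helper22.DualAct.toSub V W' hW' ≤ N := by
      rw [← Groth.Agent.Helper22.DualAct.ofSub_le_iff V,
        Groth.Agent.Helper22.DualAct.ofSub_toSub]
      exact hle
    rcases h4.lt_or_eq with h5 | h5
    · left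
      have h6 := hN'.2 _ h5
      rw [← Groth.Agent.Helper22.DualAct.ofSub_toSub V W' hW', h6,
        Groth.Agent.Helper22.DualAct.ofSub_bot]
    · right
      rw [← Groth.Agent.Helper22.DualAct.ofSub_toSub V W' hW', h5]

end Groth.Agent.S18818
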