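import Groth.Statements.S18819
import Mathlib
import Groth.Agent.Lib.Helper22.DualAct

set_option autoImplicit false
universe u v w w'
open TensorProduct
open HopfRep

namespace Groth.Agent.S18819

/-- Let k be a field, C a k-coalgebra and V a right C-comodule which is the sum of finitely many simple
subcomodules, given as the images of comodule maps g_i : K_i → V (i < n) from simple comodules K_i.
If S is a simple comodule and f : S → V a nonzero comodule map (so that its image is a simple
subcomodule of V), then S is isomorphic as a comodule to some K_i: there is a k-linear isomorphism S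
≃ K_i commuting with the coactions. (The source states this for representations of an affine monoid
scheme over k with the subrepresentations given as subspaces; here the simple subcomodules are
presented as images of maps from simple comodules.) -/
theorem result (k : Type u) [Field k]
    (C : Type v) [AddCommGroup C] [Module k C] [Coalgebra k C]
    (V : Type w) [AddCommGroup V] [Module k V] [HopfRep.Comod k C V]
    {n : ℕ} (K : Fin n → Type w') [∀ i, AddCommGroup (K i)] [∀ i, Module k (K i)] [∀ i, HopfRep.Comod k C (K i)]
    (hK : ∀ i, HopfRep.IsSimpleComod k C (K i)) (g : ∀ i, K i →ₗ[k] V) (hg : ∀ i, Hoch.IsComodHom C (g i))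
    (hsum : (⨆ i, LinearMap.range (g i)) = ⊤)
    (S : Type w') [AddCommGroup S] [Module k S] [HopfRep.Comod k C S] (hS : HopfRep.IsSimpleComod k C S)
    (f : S →ₗ[k] V) (hf : Hoch.IsComodHom C f) (hf0 : f ≠ 0) :
    ∃ (i : Fin n) (e : S ≃ₗ[k] K i), Hoch.IsComodHom C (e : S →ₗ[k] K i) := by
  classical
  -- dictionary with modules over the dual algebra
  have hS' : IsSimpleModule (WithConv (C →ₗ[k] k)) (Groth.Agent.Helper22.DualAct.AsMod k C S) :=
    (Groth.Agent.Helper22.DualAct.isSimpleModule_iff S).2 hS
  have hK' : ∀ i, IsSimpleModule (WithConv (C →ₗ[k] k))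
      (Groth.Agent.Helper22.DualAct.AsMod k C (K i)) :=
    fun i => (Groth.Agent.Helper22.DualAct.isSimpleModule_iff (K i)).2 (hK i)
  let f' := Groth.Agent.Helper22.DualAct.toModHom (k := k) (C := C) f hf
  let g' := fun i => Groth.Agent.Helper22.DualAct.toModHom (k := k) (C := C) (g i) (hg i)
  have hsum' : (⨆ i, LinearMap.range (g' i)) = ⊤ := by
    apply Groth.Agent.Helper22.DualAct.ofSub_injective (k := k) (C := C) V
    rw [Groth.Agent.Helper22.DualAct.ofSub_iSup, Groth.Agent.Helper22.DualAct.ofSub_top, ← hsum]
    exact iSup_congr fun i => Groth.Agent.Helper22.DualAct.ofSub_range_toModHom (g i) (hg i)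
  have hss : IsSemisimpleModule (WithConv (C →ₗ[k] k))
      (Groth.Agent.Helper22.DualAct.AsMod k C V) :=
    isSemisimpleModule_of_isSemisimpleModule_submodule' (fun i => .range _) hsum'
  have hf'0 : f' ≠ 0 := by
    intro h0
    apply hf0
    ext v
    have := congrArg (fun q => q (Groth.Agent.Helper22.DualAct.toMod (k := k) (C := C) S v)) h0
    simp only [f', Groth.Agent.Helper22.DualAct.toModHom_apply, LinearEquiv.symm_apply_apply,
      LinearMap.zero_apply] at this
    rw [LinearMap.zero_apply]
    exact (Groth.Agent.Helper22.DualAct.toMod (k := k) (C := C) V).map_eq_zero_iff.1 this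
  have hf'inj : Function.Injective f' := (LinearMap.injective_or_eq_zero f').resolve_right hf'0
  -- a retraction of `f'`
  obtain ⟨N', hN'⟩ := exists_isCompl (LinearMap.range f')
  let π : Groth.Agent.Helper22.DualAct.AsMod k C V →ₗ[WithConv (C →ₗ[k] k)]
      Groth.Agent.Helper22.DualAct.AsMod k C S :=
    (LinearEquiv.ofInjective f' hf'inj).symm.toLinearMap ∘ₗ
      Submodule.linearProjOfIsCompl (LinearMap.range f') N' hN'
  have hπf : ∀ s, π (f' s) = s := by
    intro s
    show (LinearEquiv.ofInjective f' hf'inj).symm
      (Submodule.linearProjOfIsCompl (LinearMap.range f') N' hN' (f' s)) = s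
    have h1 : Submodule.linearProjOfIsCompl (LinearMap.range f') N' hN' (f' s) =
        ⟨f' s, LinearMap.mem_range_self f' s⟩ :=
      Submodule.linearProjOfIsCompl_apply_left hN' ⟨f' s, LinearMap.mem_range_self f' s⟩
    rw [h1]
    apply (LinearEquiv.ofInjective f' hf'inj).injective
    rw [LinearEquiv.apply_symm_apply]
    rfl
  have hex : ∃ i, π ∘ₗ g' i ≠ 0 := by
    by_contra hcon
    push Not at hcon
    have hπ0 : π = 0 := by
      have hle : (⊤ : Submodule _ (Groth.Agent.Helper22.DualAct.AsMod k C V)) ≤ LinearMap.ker π := by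
        rw [← hsum']
        apply iSup_le
        rintro i _ ⟨x, rfl⟩
        rw [LinearMap.mem_ker]
        exact LinearMap.congr_fun (hcon i) x
      ext x
      exact hle (Submodule.mem_top (x := x))
    have hnt := IsSimpleModule.nontrivial (WithConv (C →ₗ[k] k))
      (Groth.Agent.Helper22.DualAct.AsMod k C S)
    obtain ⟨s, hs⟩ := exists_ne (0 : Groth.Agent.Helper22.DualAct.AsMod k C S)
    apply hs
    rw [← hπf s, hπ0, LinearMap.zero_apply]
  obtain ⟨i, hi⟩ := hex
  have := hK' i
  have hbij : Function.Bijective (π ∘ₗ g' i) :=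
    (LinearMap.bijective_or_eq_zero (π ∘ₗ g' i)).resolve_right hi
  let e' : Groth.Agent.Helper22.DualAct.AsMod k C (K i) ≃ₗ[WithConv (C →ₗ[k] k)]
      Groth.Agent.Helper22.DualAct.AsMod k C S := LinearEquiv.ofBijective _ hbij
  exact ⟨i, Groth.Agent.Helper22.DualAct.ofModEquiv e'.symm,
    Groth.Agent.Helper22.DualAct.isComodHom_ofModEquiv e'.symm⟩

end Groth.Agent.S18819
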