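import Groth.Statements.S18820
import Mathlib


set_option autoImplicit false
universe u
open CategoryTheory MonoidalCategory CartesianMonoidalCategory AlgebraicGeometry
open AlgGrp

namespace Groth.Agent.S18820

/-- Let k be a field, M a k-scheme (in the source a monoid k-scheme) acting on a k-scheme X through a :
M ×_k X → X, and z : Z → X a closed immersion which is surjective (a closed subscheme defined by an
ideal all of whose sections are nilpotent, e.g. the reduction of X), stable under the action: a_Z :
M ×_k Z → Z satisfies (id_M × z) followed by a = a_Z followed by z. For an open subset U of X the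
following are equivalent: (i) U is stable, i.e. a maps M ×_k U into U; (ii) U ∩ Z is stable, i.e.
a_Z maps M ×_k (U ∩ Z) into U ∩ Z. (The monoid axioms of the source play no role and are not
assumed.) -/
theorem result (k : Type u) [Field k]
    (M X Z : Over (Spec (CommRingCat.of k))) (a : M ⊗ X ⟶ X) (aZ : M ⊗ Z ⟶ Z) (z : Z ⟶ X)
    [IsClosedImmersion z.left] [Surjective z.left] (hz : (M ◁ z) ≫ a = aZ ≫ z) (U : X.left.Opens) :
    (CartesianMonoidalCategory.snd M X).left ⁻¹ᵁ U ≤ a.left ⁻¹ᵁ U ↔
      (CartesianMonoidalCategory.snd M Z).left ⁻¹ᵁ (z.left ⁻¹ᵁ U) ≤ aZ.left ⁻¹ᵁ (z.left ⁻¹ᵁ U) := by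
  -- the base change square
  have hsq : IsPullback (snd M Z) (M ◁ z) z (snd M X) := by
    refine ⟨⟨by simp⟩, ⟨Limits.PullbackCone.IsLimit.mk _ (fun s => lift (s.snd ≫ fst M X) s.fst) ?_ ?_ ?_⟩⟩
    · intro s
      simp
    · intro s
      apply CartesianMonoidalCategory.hom_ext
      · simp
      · simp only [Category.assoc, whiskerLeft_snd, lift_snd_assoc]
        exact s.condition
    · intro s m h1 h2
      apply CartesianMonoidalCategory.hom_ext
      · simp only [lift_fst]
        rw [← h2]
        simp
      · simp only [lift_snd]
        exact h1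
  have hsq' := hsq.map (Over.forget (Spec (CommRingCat.of k)))
  have hsurj : Surjective (M ◁ z).left :=
    MorphismProperty.of_isPullback (P := @Surjective) hsq' (inferInstanceAs (Surjective z.left))
  have e1 : ∀ w : (M ⊗ Z).left, a.left.base ((M ◁ z).left.base w) = z.left.base (aZ.left.base w) := by
    intro w
    have := congrArg (fun f => f.left.base w) hz
    simpa using this
  have e2 : ∀ w : (M ⊗ Z).left,
      (snd M X).left.base ((M ◁ z).left.base w) = z.left.base ((snd M Z).left.base w) := by
    intro w
    have h : (M ◁ z) ≫ snd M X = snd M Z ≫ z := by simp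
    show ((M ◁ z).left ≫ (snd M X).left).base w = ((snd M Z).left ≫ z.left).base w
    rw [← Over.comp_left, ← Over.comp_left, h]
  constructor
  · intro h w hw
    have hw' : (snd M X).left.base ((M ◁ z).left.base w) ∈ U := by rw [e2]; exact hw
    have := h hw'
    show z.left.base (aZ.left.base w) ∈ U
    rw [← e1]
    exact this
  · intro h w' hw'
    obtain ⟨w, rfl⟩ := hsurj.surj w'
    have hw : (snd M Z).left.base w ∈ z.left ⁻¹ᵁ U := by
      show z.left.base ((snd M Z).left.base w) ∈ U
      rw [← e2]; exact hw'
    have := h hw
    show a.left.base ((M ◁ z).left.base w) ∈ U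
    rw [e1]
    exact this

end Groth.Agent.S18820
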