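import Groth.Statements.S18821
import Mathlib


set_option autoImplicit false
universe u
open CategoryTheory MonoidalCategory CartesianMonoidalCategory MonObj AlgebraicGeometry
open AlgGrp

namespace Groth.Agent.S18821

/-- Let k be a commutative ring and M a monoid k-scheme (a monoid object in k-schemes). Then the group
k-functor of units T ↦ M(T)^× is representable by a k-scheme: there are a k-scheme G and a
monomorphism i : G → M such that, for every k-scheme T, a T-valued point of M factors through i if
and only if it is invertible in the monoid M(T). If moreover M is affine then G is affine. -/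
theorem result (k : Type u) [CommRing k]
    (M : Over (Spec (CommRingCat.of k))) [MonObj M] :
    ∃ (G : Over (Spec (CommRingCat.of k))) (i : G ⟶ M), Mono i ∧
      (∀ (T : Over (Spec (CommRingCat.of k))) (m : T ⟶ M), (∃ g : T ⟶ G, g ≫ i = m) ↔ IsUnit m) ∧
      (IsAffine M.left → IsAffine G.left) := by
  -- the unit group as a fibre product
  let φ : M ⊗ M ⟶ M ⊗ M := lift μ[M] (lift (snd M M) (fst M M) ≫ μ[M])
  let ψ : 𝟙_ (Over (Spec (CommRingCat.of k))) ⟶ M ⊗ M := lift η[M] η[M]
  let G := Limits.pullback φ ψ
  let i : G ⟶ M := Limits.pullback.fst φ ψ ≫ fst M M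
  have hpt : ∀ {T : Over (Spec (CommRingCat.of k))} (p : T ⟶ M ⊗ M),
      p ≫ φ = toUnit T ≫ ψ ↔ ((p ≫ fst M M) * (p ≫ snd M M) = 1 ∧ (p ≫ snd M M) * (p ≫ fst M M) = 1) := by
    intro T p
    constructor
    · intro h
      have h1 := congrArg (fun q => q ≫ fst M M) h
      have h2 := congrArg (fun q => q ≫ snd M M) h
      simp only [φ, ψ, Category.assoc, lift_fst, lift_snd] at h1 h2
      constructor
      · rw [Hom.mul_def, Hom.one_def]
        rw [← h1]
        congr 1
        apply CartesianMonoidalCategory.hom_ext <;> simp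
      · rw [Hom.mul_def, Hom.one_def]
        rw [← h2, ← Category.assoc]
        congr 1
        apply CartesianMonoidalCategory.hom_ext <;> simp
    · rintro ⟨h1, h2⟩
      rw [Hom.mul_def, Hom.one_def] at h1 h2
      apply CartesianMonoidalCategory.hom_ext
      · simp only [φ, ψ, Category.assoc, lift_fst]
        rw [← h1]
        congr 1
        apply CartesianMonoidalCategory.hom_ext <;> simp
      · simp only [φ, ψ, Category.assoc, lift_snd]
        rw [← h2, ← Category.assoc]
        congr 1
        apply CartesianMonoidalCategory.hom_ext <;> simp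
  have hcond : ∀ {T : Over (Spec (CommRingCat.of k))} (g : T ⟶ G),
      (g ≫ Limits.pullback.fst φ ψ) ≫ φ = toUnit T ≫ ψ := by
    intro T g
    rw [Category.assoc, Limits.pullback.condition, ← Category.assoc]
    congr 1
    exact toUnit_unique _ _
  refine ⟨G, i, ?_, ?_, ?_⟩
  · constructor
    intro T g h hgh
    obtain ⟨g1, g2⟩ := (hpt _).1 (hcond g)
    obtain ⟨h1, h2⟩ := (hpt _).1 (hcond h)
    have hfst : (g ≫ Limits.pullback.fst φ ψ) ≫ fst M M = (h ≫ Limits.pullback.fst φ ψ) ≫ fst M M := by
      simpa [i, Category.assoc] using hgh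
    have hsnd : (g ≫ Limits.pullback.fst φ ψ) ≫ snd M M = (h ≫ Limits.pullback.fst φ ψ) ≫ snd M M := by
      calc (g ≫ Limits.pullback.fst φ ψ) ≫ snd M M
          = ((g ≫ Limits.pullback.fst φ ψ) ≫ snd M M) *
              (((h ≫ Limits.pullback.fst φ ψ) ≫ fst M M) * ((h ≫ Limits.pullback.fst φ ψ) ≫ snd M M)) := by
            rw [h1, _root_.mul_one]
        _ = (((g ≫ Limits.pullback.fst φ ψ) ≫ snd M M) * ((g ≫ Limits.pullback.fst φ ψ) ≫ fst M M)) *
              ((h ≫ Limits.pullback.fst φ ψ) ≫ snd M M) := by
            rw [← hfst, _root_.mul_assoc]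
        _ = (h ≫ Limits.pullback.fst φ ψ) ≫ snd M M := by rw [g2, _root_.one_mul]
    apply Limits.pullback.hom_ext
    · apply CartesianMonoidalCategory.hom_ext
      · exact hfst
      · exact hsnd
    · exact toUnit_unique _ _
  · intro T m
    constructor
    · rintro ⟨g, rfl⟩
      obtain ⟨g1, g2⟩ := (hpt _).1 (hcond g)
      refine ⟨⟨(g ≫ Limits.pullback.fst φ ψ) ≫ fst M M, (g ≫ Limits.pullback.fst φ ψ) ≫ snd M M, g1, g2⟩, ?_⟩
      simp [i, Category.assoc]
    · rintro ⟨u, rfl⟩
      refine ⟨Limits.pullback.lift (lift (u : T ⟶ M) ((↑u⁻¹ : (T ⟶ M)ˣ) : T ⟶ M)) (toUnit T)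
        ((hpt _).2 ⟨by simp, by simp⟩), ?_⟩
      show Limits.pullback.lift _ _ _ ≫ Limits.pullback.fst φ ψ ≫ fst M M = _
      rw [← Category.assoc, Limits.pullback.lift_fst, lift_fst]
  · intro hM
    haveI : IsAffine (M ⊗ M).left := by
      show IsAffine (Limits.pullback M.hom M.hom)
      infer_instance
    haveI : IsAffine (𝟙_ (Over (Spec (CommRingCat.of k)))).left := by
      show IsAffine (Spec (CommRingCat.of k))
      infer_instance
    let e := Limits.PreservesPullback.iso (Over.forget (Spec (CommRingCat.of k))) φ ψ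
    haveI : IsAffine (Limits.pullback ((Over.forget (Spec (CommRingCat.of k))).map φ)
        ((Over.forget (Spec (CommRingCat.of k))).map ψ)) := by
      show IsAffine (Limits.pullback φ.left ψ.left)
      infer_instance
    exact IsAffine.of_isIso e.hom

end Groth.Agent.S18821
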