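import Groth.Statements.S18824
import Mathlib


set_option autoImplicit false
universe u
open CategoryTheory MonoidalCategory CartesianMonoidalCategory MonObj AlgebraicGeometry
open AlgGrp

namespace Groth.Agent.S18824

/-- Let k be a field, G a locally algebraic group over k (a group k-scheme locally of finite type)
acting on a k-scheme X through a : G ×_k X → X, and U an open subset of X. Let G·U ⊆ X be the image
under a of G ×_k U (the preimage of U under the projection). Then G·U is open in X, contains U, is
G-stable in the sense that a maps G ×_k (G·U) into G·U, and is the smallest such set: every G-stable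
open subset of X containing U contains G·U. -/
theorem result (k : Type u) [Field k]
    (G X : Over (Spec (CommRingCat.of k))) [GrpObj G] [LocallyOfFiniteType G.hom] (a : AlgGrp.Action G X)
    (U : Set ↥X.left) (hU : IsOpen U) :
    IsOpen (a.act.left.base '' ((CartesianMonoidalCategory.snd G X).left.base ⁻¹' U)) ∧
      U ⊆ a.act.left.base '' ((CartesianMonoidalCategory.snd G X).left.base ⁻¹' U) ∧
      a.act.left.base '' ((CartesianMonoidalCategory.snd G X).left.base ⁻¹'
          (a.act.left.base '' ((CartesianMonoidalCategory.snd G X).left.base ⁻¹' U))) ⊆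
        a.act.left.base '' ((CartesianMonoidalCategory.snd G X).left.base ⁻¹' U) ∧
      ∀ W : Set ↥X.left, IsOpen W → U ⊆ W →
        a.act.left.base '' ((CartesianMonoidalCategory.snd G X).left.base ⁻¹' W) ⊆ W →
          a.act.left.base '' ((CartesianMonoidalCategory.snd G X).left.base ⁻¹' U) ⊆ W := by
  -- action axioms on generalized points
  have act_mul : ∀ {T : Over (Spec (CommRingCat.of k))} (g h : T ⟶ G) (x : T ⟶ X),
      lift (g * h) x ≫ a.act = lift g (lift h x ≫ a.act) ≫ a.act := by
    intro T g h x
    have h1 : lift (lift g h) x ≫ (μ[G] ▷ X) ≫ a.act =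
        lift (lift g h) x ≫ (α_ G G X).hom ≫ (G ◁ a.act) ≫ a.act := by rw [a.mul_act]
    simpa [Hom.mul_def] using h1
  have act_one : ∀ {T : Over (Spec (CommRingCat.of k))} (x : T ⟶ X), lift (1 : T ⟶ G) x ≫ a.act = x := by
    intro T x
    have h1 : lift (toUnit T) x ≫ (η[G] ▷ X) ≫ a.act = lift (toUnit T) x ≫ (λ_ X).hom := by
      rw [a.one_act]
    simpa [Hom.one_def] using h1
  let σ : G ⊗ X ⟶ G ⊗ X := lift (fst G X) a.act
  let τ : G ⊗ X ⟶ G ⊗ X := lift (fst G X) (lift ((fst G X)⁻¹) (snd G X) ≫ a.act)
  have hστ : σ ≫ τ = 𝟙 _ := by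
    apply CartesianMonoidalCategory.hom_ext
    · simp [σ, τ]
    · simp only [σ, τ, comp_lift, lift_fst, lift_snd, Category.id_comp]
      rw [← Category.assoc, comp_lift, lift_snd]
      have e1 : lift (fst G X) a.act ≫ (fst G X)⁻¹ = (fst G X)⁻¹ := by
        rw [Hom.inv_def, ← Category.assoc, lift_fst]
      rw [e1]
      have e2 := act_mul ((fst G X)⁻¹) (fst G X) (snd G X)
      rw [lift_fst_snd, Category.id_comp, inv_mul_cancel] at e2
      rw [← e2, act_one]
  have hτσ : τ ≫ σ = 𝟙 _ := by
    apply CartesianMonoidalCategory.hom_ext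
    · simp [σ, τ]
    · simp only [σ, τ, comp_lift, lift_fst, lift_snd, Category.id_comp]
      have e2 := act_mul (fst G X) ((fst G X)⁻¹) (snd G X)
      rw [mul_inv_cancel, act_one] at e2
      have e3 : lift (fst G X) (lift (fst G X)⁻¹ (snd G X) ≫ a.act) ≫ a.act = snd G X := e2.symm
      exact e3
  haveI : IsIso σ := ⟨τ, hστ, hτσ⟩
  haveI : IsIso σ.left := (Over.forget (Spec (CommRingCat.of k))).map_isIso σ
  have hfac : a.act.left = σ.left ≫ (snd G X).left := by
    rw [← Over.comp_left]
    congr 1
    exact (lift_snd _ _).symm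
  have hsnd : (snd G X).left = Limits.pullback.snd G.hom X.hom := rfl
  haveI : UniversallyOpen G.hom := inferInstance
  haveI : UniversallyOpen (snd G X).left := by
    rw [hsnd]; infer_instance
  haveI : UniversallyOpen a.act.left := by
    rw [hfac]; infer_instance
  -- the unit section
  let e : X ⟶ G ⊗ X := lift (1 : X ⟶ G) (𝟙 X)
  have he1 : e ≫ snd G X = 𝟙 X := by simp [e]
  have he2 : e ≫ a.act = 𝟙 X := act_one _
  have pt1 : ∀ x : X.left, (snd G X).left.base (e.left.base x) = x := by
    intro x
    show (e.left ≫ (snd G X).left).base x = x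
    rw [← Over.comp_left, he1]; rfl
  have pt2 : ∀ x : X.left, a.act.left.base (e.left.base x) = x := by
    intro x
    show (e.left ≫ a.act.left).base x = x
    rw [← Over.comp_left, he2]; rfl
  -- the base change square
  have hsq : IsPullback (snd G (G ⊗ X)) (G ◁ a.act) a.act (snd G X) := by
    refine ⟨⟨by simp⟩, ⟨Limits.PullbackCone.IsLimit.mk _ (fun s => lift (s.snd ≫ fst G X) s.fst) ?_ ?_ ?_⟩⟩
    · intro s
      simp
    · intro s
      apply CartesianMonoidalCategory.hom_ext
      · simp
      · simp only [Category.assoc, whiskerLeft_snd, lift_snd_assoc]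
        exact s.condition
    · intro s m h1 h2
      apply CartesianMonoidalCategory.hom_ext
      · simp only [lift_fst]
        rw [← h2]
        simp
      · simp only [lift_snd]
        exact h1
  have hsq' : IsPullback (snd G (G ⊗ X)).left (G ◁ a.act).left a.act.left (snd G X).left :=
    hsq.map (Over.forget (Spec (CommRingCat.of k)))
  refine ⟨?_, ?_, ?_, ?_⟩
  · exact a.act.left.isOpenMap _ (hU.preimage (snd G X).left.base.hom.continuous)
  · intro x hx
    refine ⟨e.left.base x, ?_, pt2 x⟩
    show (snd G X).left.base (e.left.base x) ∈ U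
    rw [pt1]; exact hx
  · rintro _ ⟨w, ⟨w', hw', hww'⟩, rfl⟩
    -- w, w' : G ⊗ X with snd w = act w', snd w' ∈ U
    obtain ⟨z, hz1, hz2⟩ := Scheme.Pullback.exists_preimage_pullback (f := a.act.left)
      (g := (snd G X).left) w' w hww'
    let v := hsq'.isoPullback.inv.base z
    have hv1 : (snd G (G ⊗ X)).left.base v = w' := by
      rw [← hz1]
      show (hsq'.isoPullback.inv ≫ (snd G (G ⊗ X)).left).base z = _
      rw [hsq'.isoPullback_inv_fst]
    have hv2 : (G ◁ a.act).left.base v = w := by
      rw [← hz2]
      show (hsq'.isoPullback.inv ≫ (G ◁ a.act).left).base z = _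
      rw [hsq'.isoPullback_inv_snd]
    let m : G ⊗ (G ⊗ X) ⟶ G ⊗ X := (α_ G G X).inv ≫ (μ[G] ▷ X)
    have hm1 : m ≫ a.act = (G ◁ a.act) ≫ a.act := by
      simp only [m, Category.assoc]
      rw [a.mul_act]
      simp
    have hm2 : m ≫ snd G X = snd G (G ⊗ X) ≫ snd G X := by
      simp [m]
    refine ⟨m.left.base v, ?_, ?_⟩
    · show (snd G X).left.base (m.left.base v) ∈ U
      have : (snd G X).left.base (m.left.base v) = (snd G X).left.base w' := by
        rw [← hv1]
        show (m.left ≫ (snd G X).left).base v = ((snd G (G ⊗ X)).left ≫ (snd G X).left).base v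
        rw [← Over.comp_left, ← Over.comp_left, hm2]
      rw [this]; exact hw'
    · rw [← hv2]
      show (m.left ≫ a.act.left).base v = ((G ◁ a.act).left ≫ a.act.left).base v
      rw [← Over.comp_left, ← Over.comp_left, hm1]
  · intro W hW hUW hstab
    refine subset_trans (Set.image_mono (Set.preimage_mono hUW)) hstab

end Groth.Agent.S18824
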