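import Groth.Statements.S18826
import Mathlib
import Groth.Agent.Lib.Helper28.AlgGrpShear
import Groth.Agent.Lib.Helper28.RestrictPB
open Groth.Agent.Helper28.AlgGrpShear Groth.Agent.Helper28.RestrictPB

set_option autoImplicit false
universe u
open CategoryTheory MonoidalCategory CartesianMonoidalCategory MonObj AlgebraicGeometry
open AlgGrp

namespace Groth.Agent.S18826

/-- Let k be a field, G a locally algebraic group over k (a group k-scheme locally of finite type)
acting on k-schemes X and Y, and f : X → Y a G-equivariant k-morphism. Let P be a property of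
morphisms of schemes which is local on the target for the Zariski topology, stable under base
change, and descends along flat surjective universally open morphisms (the published hypothesis is
descent along fpqc morphisms; the printed argument descends only along the restriction G ×_k U → G·U
of the action, which is flat, surjective and universally open). Then there is a largest open subset
V of Y such that the restriction f⁻¹(V) → V of f has P, and this V is G-stable: the action G ×_k Y →
Y maps G ×_k V into V. -/
theorem result (k : Type u) [Field k]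
    (G X Y : Over (Spec (CommRingCat.of k))) [GrpObj G] [LocallyOfFiniteType G.hom]
    (aX : AlgGrp.Action G X) (aY : AlgGrp.Action G Y) (f : X ⟶ Y) (hf : (G ◁ f) ≫ aY.act = aX.act ≫ f)
    (P : MorphismProperty Scheme.{u}) [IsZariskiLocalAtTarget P] [P.IsStableUnderBaseChange]
    [P.DescendsAlong (@Flat ⊓ @Surjective ⊓ @UniversallyOpen)] :
    ∃ V : Y.left.Opens, P (f.left ∣_ V) ∧ (∀ V' : Y.left.Opens, P (f.left ∣_ V') → V' ≤ V) ∧
      (CartesianMonoidalCategory.snd G Y).left ⁻¹ᵁ V ≤ aY.act.left ⁻¹ᵁ V := by
  classical
  have hsnd : (snd G Y).left = Limits.pullback.snd G.hom Y.hom := rfl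
  haveI : UniversallyOpen G.hom := inferInstance
  haveI : Flat G.hom := inferInstance
  haveI : UniversallyOpen (snd G Y).left := by rw [hsnd]; infer_instance
  haveI : Flat (snd G Y).left := by rw [hsnd]; infer_instance
  haveI : IsIso (shear aY).hom.left :=
    (Over.forget (Spec (CommRingCat.of k))).map_isIso (shear aY).hom
  haveI : UniversallyOpen aY.act.left := by rw [act_left]; infer_instance
  haveI : Flat aY.act.left := by rw [act_left]; infer_instance
  set S : Set Y.left.Opens := {V' | P (f.left ∣_ V')} with hS
  set V := sSup S with hVdef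
  have hV : P (f.left ∣_ V) := restrict_sSup f.left S (fun V' h => h)
  refine ⟨V, hV, fun V' h => le_sSup h, ?_⟩
  let W : Y.left.Opens := ⟨⇑aY.act.left '' (⇑(snd G Y).left ⁻¹' (V : Set Y.left)),
    aY.act.left.isOpenMap _ (V.isOpen.preimage (snd G Y).left.continuous)⟩
  let V' : (G ⊗ Y).left.Opens := (snd G Y).left ⁻¹ᵁ V
  have h : V' ≤ aY.act.left ⁻¹ᵁ W := fun w hw => ⟨w, hw, rfl⟩
  have sqX : IsPullback aX.act.left (G ◁ f).left f.left aY.act.left :=
    (isPullback_act aX aY f hf).map (Over.forget (Spec (CommRingCat.of k)))
  have sq2 : IsPullback (snd G X).left (G ◁ f).left f.left (snd G Y).left :=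
    (isPullback_snd G f).map (Over.forget (Spec (CommRingCat.of k)))
  obtain ⟨q', q, hq, pb⟩ := restrict_isPullback sqX W V' h
  obtain ⟨r', r, hr, pb2⟩ := restrict_isPullback sq2 V V' le_rfl
  have hP1 : P ((G ◁ f).left ∣_ V') := P.of_isPullback pb2 hV
  have hflat : Flat q := by
    have : Flat (q ≫ W.ι) := by rw [hq]; infer_instance
    exact MorphismProperty.of_postcomp (W := @Flat) (W' := @IsOpenImmersion) q W.ι inferInstance this
  have huo : UniversallyOpen q := by
    have : UniversallyOpen (q ≫ W.ι) := by rw [hq]; infer_instance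
    exact MorphismProperty.of_postcomp (W := @UniversallyOpen) (W' := @IsOpenImmersion) q W.ι
      inferInstance this
  have hsurj : Surjective q := by
    refine ⟨fun y => ?_⟩
    obtain ⟨w, hw, hwy⟩ := y.2
    refine ⟨⟨w, hw⟩, ?_⟩
    apply Subtype.ext
    have := congrArg (fun φ => φ.base ⟨w, hw⟩) hq
    simp only [Scheme.Hom.comp_base, TopCat.hom_comp, ContinuousMap.comp_apply] at this
    exact this.trans hwy
  have hPW : P (f.left ∣_ W) :=
    MorphismProperty.of_isPullback_of_descendsAlong (Q := @Flat ⊓ @Surjective ⊓ @UniversallyOpen)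
      pb.flip ⟨⟨hflat, hsurj⟩, huo⟩ hP1
  have hWV : W ≤ V := le_sSup hPW
  intro w hw
  exact hWV ⟨w, hw, rfl⟩

end Groth.Agent.S18826
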