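import Groth.Statements.S18827
import Mathlib
import Groth.Agent.Lib.Helper12.ComodSub

set_option autoImplicit false
universe u v w
open TensorProduct
open HopfRep

namespace Groth.Agent.S18827

/-- Let k be a field, C a k-coalgebra, V a right C-comodule which is semisimple (every subcomodule has a
complementary subcomodule, which over a field is the same as being the sum of its simple
subcomodules) and W a subcomodule of V. Then the subcomodule W with its induced structure and the
quotient comodule V/W are again semisimple. (The source states this for representations of an affine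
monoid scheme over k.) -/
theorem result (k : Type u) [Field k]
    (C : Type v) [AddCommGroup C] [Module k C] [Coalgebra k C]
    (V : Type w) [AddCommGroup V] [Module k V] [c : HopfRep.Comod k C V] (hV : HopfRep.IsSemisimpleComod k C V)
    (W : Submodule k V) (hW : HopfRep.IsSubcomod (k := k) (A := C) W) :
    @HopfRep.IsSemisimpleComod k C _ _ _ _ ↥W _ _ (ComodSub.Comod.restr c W hW) ∧
      @HopfRep.IsSemisimpleComod k C _ _ _ _ (V ⧸ W) _ _ (ComodSub.Comod.quot c W hW) := by
  classical
  constructor
  · -- the subcomodule
    letI cW : HopfRep.Comod k C ↥W := ComodSub.Comod.restr c W hW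
    have hsub : Hoch.IsComodHom C W.subtype := ComodSub.isComodHom_subtype c W hW
    intro U hU
    have hU' : HopfRep.IsSubcomod (k := k) (A := C) (U.map W.subtype) :=
      Groth.Agent.Helper12.map_isSubcomod hsub U hU
    obtain ⟨T, hT, hc⟩ := hV _ hU'
    refine ⟨T.comap W.subtype, Groth.Agent.Helper12.comap_isSubcomod hsub T hT, ?_⟩
    constructor
    · rw [disjoint_iff, eq_bot_iff]
      intro x hx
      rw [Submodule.mem_inf, Submodule.mem_comap] at hx
      have h1 : (x : V) ∈ U.map W.subtype ⊓ T :=
        ⟨Submodule.mem_map_of_mem hx.1, hx.2⟩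
      rw [hc.inf_eq_bot, Submodule.mem_bot] at h1
      rw [Submodule.mem_bot]
      exact Subtype.ext h1
    · rw [codisjoint_iff, eq_top_iff]
      intro x _
      have h1 : (x : V) ∈ U.map W.subtype ⊔ T := by rw [hc.sup_eq_top]; trivial
      obtain ⟨u, hu, t, ht, hut⟩ := Submodule.mem_sup.1 h1
      obtain ⟨u', hu', rfl⟩ := hu
      have htW : t ∈ W := by
        have : t = (x : V) - (u' : V) := by rw [← hut]; simp
        rw [this]
        exact W.sub_mem x.2 u'.2
      rw [Submodule.mem_sup]
      refine ⟨u', hu', ⟨t, htW⟩, ?_, ?_⟩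
      · rw [Submodule.mem_comap]; exact ht
      · apply Subtype.ext
        simpa using hut
  · -- the quotient
    letI cQ : HopfRep.Comod k C (V ⧸ W) := ComodSub.Comod.quot c W hW
    have hq : Hoch.IsComodHom C W.mkQ := ComodSub.isComodHom_mkQ c W hW
    intro U hU
    have hU' : HopfRep.IsSubcomod (k := k) (A := C) (U.comap W.mkQ) :=
      Groth.Agent.Helper12.comap_isSubcomod hq U hU
    obtain ⟨T, hT, hc⟩ := hV _ hU'
    refine ⟨T.map W.mkQ, Groth.Agent.Helper12.map_isSubcomod hq T hT, ?_⟩
    constructor
    · rw [disjoint_iff, eq_bot_iff]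
      intro x hx
      rw [Submodule.mem_inf] at hx
      obtain ⟨t, ht, rfl⟩ := hx.2
      have h1 : t ∈ U.comap W.mkQ ⊓ T := ⟨hx.1, ht⟩
      rw [hc.inf_eq_bot, Submodule.mem_bot] at h1
      rw [h1, map_zero]
      exact Submodule.zero_mem _
    · rw [codisjoint_iff, eq_top_iff]
      intro x _
      obtain ⟨v, rfl⟩ := W.mkQ_surjective x
      have h1 : v ∈ U.comap W.mkQ ⊔ T := by rw [hc.sup_eq_top]; trivial
      obtain ⟨u, hu, t, ht, rfl⟩ := Submodule.mem_sup.1 h1
      rw [map_add]
      exact Submodule.add_mem _ (Submodule.mem_sup_left hu)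
        (Submodule.mem_sup_right (Submodule.mem_map_of_mem ht))

end Groth.Agent.S18827
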