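import Groth.Statements.S18828
import Groth.Agent.Lib.Helper16.Alg.QuotLevels
import Groth.Agent.Lib.Helper16.Sch.HomFibB
import Groth.Agent.Lib.Helper12.TanK

set_option autoImplicit false
universe u
open CategoryTheory MonoidalCategory CartesianMonoidalCategory MonObj AlgebraicGeometry
open AlgGrp

namespace Groth.Agent.S18828

/-- Let k be a field and f : H → G a homomorphism of locally algebraic groups over k (group k-schemes
locally of finite type). Write e_H for the unit point of H (the image under the unit section of the
point pt of the base Spec k) and φ : O_{G,f(e_H)} → O_{H,e_H} for the induced local homomorphism of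
local rings. Assume (1) φ induces an isomorphism of completed local rings, stated here as: for every
n, φ followed by reduction modulo the (n+1)-st power of the maximal ideal of O_{H,e_H} is
surjective, and an element of O_{G,f(e_H)} maps into that power exactly when it lies in the (n+1)-st
power of the maximal ideal of O_{G,f(e_H)}; and (2) f is a monomorphism of schemes. Then f is an
open immersion. -/
theorem result (k : Type u) [Field k]
    (H G : Over (Spec (CommRingCat.of k))) [GrpObj H] [GrpObj G]
    [LocallyOfFiniteType H.hom] [LocallyOfFiniteType G.hom] (f : H ⟶ G) [IsMonHom f] [Mono f.left]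
    (pt : ↥(𝟙_ (Over (Spec (CommRingCat.of k)))).left)
    (h : ∀ n : ℕ,
      Function.Surjective ((Ideal.Quotient.mk (IsLocalRing.maximalIdeal
          ↑(H.left.presheaf.stalk (η[H].left.base pt)) ^ (n + 1))).comp
        (f.left.stalkMap (η[H].left.base pt)).hom) ∧
      ∀ a : ↑(G.left.presheaf.stalk (f.left.base (η[H].left.base pt))),
        (f.left.stalkMap (η[H].left.base pt)).hom a ∈
            IsLocalRing.maximalIdeal ↑(H.left.presheaf.stalk (η[H].left.base pt)) ^ (n + 1) ↔
          a ∈ IsLocalRing.maximalIdeal ↑(G.left.presheaf.stalk (f.left.base (η[H].left.base pt))) ^ (n + 1)) :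
    IsOpenImmersion f.left := by
  classical
  have : Subsingleton ↥(Spec (CommRingCat.of k)) :=
    inferInstanceAs (Subsingleton (PrimeSpectrum k))
  have : IsLocallyNoetherian H.left := LocallyOfFiniteType.isLocallyNoetherian H.hom
  have : IsLocallyNoetherian G.left := LocallyOfFiniteType.isLocallyNoetherian G.hom
  have : LocallyOfFinitePresentation H.hom :=
    LocallyOfFinitePresentation.iff_locallyOfFiniteType.mpr inferInstance
  have : Flat H.hom := Groth.Agent.Helper12.Tan.flat_over_field H.hom
  have : LocallyOfFinitePresentation f.left :=
    Groth.Agent.Helper16.HomFibCrit.lfp_of_comp f.left H.hom G.hom (Over.w f)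
  set e : ↥H.left := η[H].left.base pt with he
  -- flatness at the unit
  have hflat_e : (f.left.stalkMap e).hom.Flat := by
    refine Groth.Agent.Helper16.QuotLevels.flat_of_levels (f.left.stalkMap e).hom ?_ ?_
    · intro n
      rcases n with _ | n
      · intro y
        refine ⟨0, ?_⟩
        have : Subsingleton (↑(H.left.presheaf.stalk e) ⧸
            IsLocalRing.maximalIdeal ↑(H.left.presheaf.stalk e) ^ 0) := by
          rw [pow_zero, Ideal.one_eq_top]
          exact Ideal.Quotient.subsingleton_iff.mpr rfl
        exact Subsingleton.elim _ _
      · exact (h n).1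
    · intro n
      rcases n with _ | n
      · have h0 : IsLocalRing.maximalIdeal ↑(G.left.presheaf.stalk (f.left.base e)) ^ 0 = ⊤ := by
          rw [pow_zero, Ideal.one_eq_top]
        rw [h0, eq_top_iff]
        intro a _
        rw [RingHom.mem_ker]
        have : Subsingleton (↑(H.left.presheaf.stalk e) ⧸
            IsLocalRing.maximalIdeal ↑(H.left.presheaf.stalk e) ^ 0) := by
          rw [pow_zero, Ideal.one_eq_top]
          exact Ideal.Quotient.subsingleton_iff.mpr rfl
        exact Subsingleton.elim _ _
      · ext a
        rw [RingHom.mem_ker, RingHom.comp_apply, Ideal.Quotient.eq_zero_iff_mem]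
        exact (h n).2 a
  -- flat everywhere by homogeneity
  have hflat : Flat f.left := by
    rw [Flat.iff_flat_stalkMap]
    intro x
    exact Groth.Agent.Helper16.HomFibCrit.homog f
      (fun {X Y} g x => (g.stalkMap x).hom.Flat)
      (fun Hp hg _ x' => Groth.Agent.Helper16.HomFibCrit.hP_flat Hp hg x') e x hflat_e
  exact IsOpenImmersion.of_flat_of_mono f.left

end Groth.Agent.S18828
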