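import Groth.Statements.S18829
import Mathlib
import Groth.Agent.Lib.Helper28.IntegralDescent
import Groth.Agent.S18812
open Groth.Agent.Helper28.IntegralDescent

set_option autoImplicit false
universe u
open scoped TensorProduct
open HopfRep

namespace Groth.Agent.S18829

/-- Let k be a field and A a finitely generated commutative Hopf algebra over k, the coordinate ring of
an affine algebraic group T. Suppose T is a torus: for some algebraically closed field extension K
of k the base change K ⊗_k A is isomorphic as a K-bialgebra to the group algebra over K of a free
abelian group ℤ^n (T_K is a split torus of rank n). Then T is linearly reductive in the sense that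
every finite-dimensional A-comodule is semisimple. (The source's definition of a torus asks for such
an isomorphism over every algebraically closed extension; one suffices for the printed argument. The
source's notion of a linearly reductive algebraic group also includes smoothness of T over k, which
this row does not assert.) -/
theorem result (k K A : Type u) [Field k] [Field K]
    [Algebra k K] [IsAlgClosed K] [CommRing A] [HopfAlgebra k A] [Algebra.FiniteType k A] (n : ℕ)
    (e : (K ⊗[k] A) ≃ₐc[K] MonoidAlgebra K (Multiplicative (Fin n → ℤ))) :
    HopfRep.IsLinearlyReductive k A := by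
  obtain ⟨r, hr1⟩ : ∃ r : K →ₗ[k] k, r 1 = 1 := by
    obtain ⟨g, hg⟩ := LinearMap.exists_leftInverse_of_injective (Algebra.linearMap k K)
      (LinearMap.ker_eq_bot.2 (algebraMap k K).injective)
    refine ⟨g, ?_⟩
    have := LinearMap.congr_fun hg 1
    simpa using this
  have hβ : IsInt ((coeffOne (K := K) (M := Multiplicative (Fin n → ℤ))) ∘ₗ
      (e : (K ⊗[k] A) →ₗ[K] MonoidAlgebra K (Multiplicative (Fin n → ℤ)))) :=
    transport_isInt e coeffOne monoidAlgebra_isInt
  have hβ1 : ((coeffOne (K := K) (M := Multiplicative (Fin n → ℤ))) ∘ₗ
      (e : (K ⊗[k] A) →ₗ[K] MonoidAlgebra K (Multiplicative (Fin n → ℤ)))) 1 = 1 := by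
    rw [LinearMap.comp_apply]
    have : (e : (K ⊗[k] A) →ₗ[K] MonoidAlgebra K (Multiplicative (Fin n → ℤ))) 1 = 1 := map_one e
    rw [this, coeffOne_one]
  intro V _ _ _ _
  exact Groth.Agent.S18812.result k A (desc _ r) (descent_isInt _ hβ r) (desc_one _ hβ1 r hr1) V

end Groth.Agent.S18829
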