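import Groth.Statements.S18830
import Mathlib
import Groth.Agent.Lib.Helper28.MonUnits
open Groth.Agent.Helper28.MonUnits

set_option autoImplicit false
universe u
open CategoryTheory MonoidalCategory CartesianMonoidalCategory MonObj AlgebraicGeometry
open AlgGrp

namespace Groth.Agent.S18830

/-- Let k be a field and M an algebraic monoid over k (a monoid k-scheme of finite type). Let i : G → M
be its group of units: a monomorphism of k-schemes through which a T-valued point of M factors if
and only if it is invertible in the monoid M(T). Then G is of finite type over k, i.e. the unit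
group is an algebraic group. -/
theorem result (k : Type u) [Field k]
    (M G : Over (Spec (CommRingCat.of k))) [MonObj M] [LocallyOfFiniteType M.hom] [QuasiCompact M.hom]
    (i : G ⟶ M) [Mono i]
    (hi : ∀ (T : Over (Spec (CommRingCat.of k))) (m : T ⟶ M), (∃ g : T ⟶ G, g ≫ i = m) ↔ IsUnit m) :
    LocallyOfFiniteType G.hom ∧ QuasiCompact G.hom := by
  obtain ⟨e, he⟩ := exists_iso M G i hi
  have hG : G.hom = e.hom.left ≫ (Limits.pullback (uφ M) (uψ M)).hom := (Over.w e.hom).symm
  have hG' : (Limits.pullback (uφ M) (uψ M)).hom =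
      (Limits.pullback.fst (uφ M) (uψ M)).left ≫ (M ⊗ M).hom := (Over.w _).symm
  haveI hMM1 : LocallyOfFiniteType (M ⊗ M).hom := by
    rw [Over.tensorObj_hom]; infer_instance
  haveI hMM2 : QuasiCompact (M ⊗ M).hom := by
    rw [Over.tensorObj_hom]; infer_instance
  haveI : IsLocallyNoetherian (M ⊗ M).left := LocallyOfFiniteType.isLocallyNoetherian (M ⊗ M).hom
  haveI : QuasiSeparated (M ⊗ M).hom := inferInstance
  have hψ : (uψ M).left ≫ (M ⊗ M).hom = 𝟙 _ := Over.w (uψ M)
  haveI : LocallyOfFiniteType ((uψ M).left ≫ (M ⊗ M).hom) := by rw [hψ]; infer_instance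
  haveI : QuasiCompact ((uψ M).left ≫ (M ⊗ M).hom) := by rw [hψ]; infer_instance
  haveI h1 : LocallyOfFiniteType (uψ M).left := locallyOfFiniteType_of_comp _ (M ⊗ M).hom
  haveI h2 : QuasiCompact (uψ M).left := QuasiCompact.of_comp _ (M ⊗ M).hom
  have hfst : (Limits.pullback.fst (uφ M) (uψ M)).left =
      (Limits.PreservesPullback.iso (Over.forget (Spec (CommRingCat.of k))) (uφ M) (uψ M)).hom ≫
        Limits.pullback.fst ((Over.forget (Spec (CommRingCat.of k))).map (uφ M))
          ((Over.forget (Spec (CommRingCat.of k))).map (uψ M)) :=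
    (Limits.PreservesPullback.iso_hom_fst (Over.forget (Spec (CommRingCat.of k))) (uφ M) (uψ M)).symm
  haveI hf1 : LocallyOfFiniteType (Limits.pullback.fst ((Over.forget (Spec (CommRingCat.of k))).map (uφ M))
          ((Over.forget (Spec (CommRingCat.of k))).map (uψ M))) :=
    MorphismProperty.pullback_fst (P := @LocallyOfFiniteType) _ _ h1
  haveI hf2 : QuasiCompact (Limits.pullback.fst ((Over.forget (Spec (CommRingCat.of k))).map (uφ M))
          ((Over.forget (Spec (CommRingCat.of k))).map (uψ M))) :=
    MorphismProperty.pullback_fst (P := @QuasiCompact) _ _ h2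
  haveI : IsIso e.hom.left := (Over.forget _).map_isIso e.hom
  rw [hG, hG', hfst]
  have aux : ∀ {A B C D S : Scheme.{u}} (a : A ⟶ B) (_ : IsIso a) (b : B ⟶ C) (_ : IsIso b) (c : C ⟶ D) (d : D ⟶ S)
      (_ : LocallyOfFiniteType c) (_ : LocallyOfFiniteType d) (_ : QuasiCompact c) (_ : QuasiCompact d),
      LocallyOfFiniteType (a ≫ (b ≫ c) ≫ d) ∧ QuasiCompact (a ≫ (b ≫ c) ≫ d) := by
    intro A B C D S a _ b _ c d _ _ _ _
    exact ⟨inferInstance, inferInstance⟩
  exact aux e.hom.left ((Over.forget _).map_isIso e.hom)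
    (Limits.PreservesPullback.iso (Over.forget (Spec (CommRingCat.of k))) (uφ M) (uψ M)).hom inferInstance
    (Limits.pullback.fst ((Over.forget (Spec (CommRingCat.of k))).map (uφ M))
          ((Over.forget (Spec (CommRingCat.of k))).map (uψ M))) (M ⊗ M).hom hf1 hMM1 hf2 hMM2

end Groth.Agent.S18830
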