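import Groth.Statements.S18834
import Mathlib
import Groth.Agent.Lib.Helper29.Reynolds

set_option autoImplicit false
universe u
open TensorProduct
open GIT

namespace Groth.Agent.S18834

/-- Let k be an algebraically closed field of characteristic zero, G = Spec A a linearly reductive
affine group over k (A a commutative Hopf algebra whose finite-dimensional comodules are semisimple)
acting on an affine k-scheme Spec R of finite type (a multiplicative coaction of A on R), and R^G
the ring of invariants. Then for every ideal I of R^G the ideal I·R of R generated by I satisfies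
(I·R) ∩ R^G = I. (The section also assumes Spec R irreducible; that hypothesis plays no role here
and is not carried.) -/
theorem result (k : Type u) [Field k] [IsAlgClosed k] [CharZero k]
    (A : Type u) [CommRing A] [HopfAlgebra k A] (hG : HopfRep.IsLinearlyReductive k A)
    (R : Type u) [CommRing R] [Algebra k R] [Algebra.FiniteType k R]
    [HopfRep.Comod k A R] [GLin.IsCoactAlg k A R]
    (I : Ideal (GLin.invariants k A R)) :
    Ideal.comap (GLin.invariants k A R).val.toRingHom
        (Ideal.map (GLin.invariants k A R).val.toRingHom I) = I := by
  classical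
  obtain ⟨E, hE⟩ := Groth.Agent.Helper29.Reynolds.exists_reynolds (k := k) (A := A) R hG
  have hEinv : ∀ s : GLin.invariants k A R, E (s : R) = (s : R) := fun s => (hE.2.2 _).2 s.2
  have hEmem : ∀ r : R, E r ∈ GLin.invariants k A R := fun r => Groth.Agent.Helper29.Reynolds.IsReynolds.apply_mem hE r
  apply le_antisymm
  · intro x hx
    rw [Ideal.mem_comap] at hx
    have key : ∀ y ∈ Ideal.map (GLin.invariants k A R).val.toRingHom I, ∀ r : R, ∃ a ∈ I, (a : R) = E (r * y) := by
      intro y hy
      unfold Ideal.map at hy
      induction hy using Submodule.span_induction with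
      | mem y hy =>
        obtain ⟨a₀, ha₀, rfl⟩ := hy
        intro r
        refine ⟨⟨E r, hEmem r⟩ * a₀, I.mul_mem_left _ ha₀, ?_⟩
        have := Groth.Agent.Helper29.Reynolds.reynolds_mul hG hE r (a₀ : R) a₀.2
        rw [show (GLin.invariants k A R).val.toRingHom a₀ = (a₀ : R) from rfl, this]
        rfl
      | zero =>
        intro r
        exact ⟨0, I.zero_mem, by simp⟩
      | add y z _ _ hy hz =>
        intro r
        obtain ⟨a, ha, hay⟩ := hy r
        obtain ⟨b, hb, hbz⟩ := hz r
        refine ⟨a + b, I.add_mem ha hb, ?_⟩
        rw [mul_add, map_add, ← hay, ← hbz]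
        rfl
      | smul s y _ hy =>
        intro r
        obtain ⟨a, ha, hay⟩ := hy (r * s)
        refine ⟨a, ha, ?_⟩
        rw [hay, smul_eq_mul, mul_assoc]
    obtain ⟨a, ha, hax⟩ := key _ hx 1
    rw [one_mul] at hax
    have : a = x := by
      apply Subtype.ext
      rw [hax]
      exact hEinv x
    rw [← this]
    exact ha
  · exact Ideal.le_comap_map

end Groth.Agent.S18834
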