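import Groth.Statements.S18861
import Mathlib


set_option autoImplicit false
universe u
open CategoryTheory MonoidalCategory CartesianMonoidalCategory MonObj GrpObj AlgebraicGeometry
open AlgGrp

namespace Groth.Agent.S18861

/-- Let S be a scheme and G a group scheme over S acting on an S-scheme X, with action morphism G ×_S X
→ X. If G → S is surjective, resp. flat, resp. affine, resp. proper, resp. finite, resp. smooth,
then so is the action morphism. (The source works over a field, where G → S is automatically
faithfully flat, with G and X of finite type, and concludes that the action morphism is faithfully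
flat, and smooth, affine, proper or finite when G is; the base and the finiteness conditions play no
role.) -/
theorem result {S : Scheme.{u}} {G X : Over S} [GrpObj G]
    (a : AlgGrp.Action G X) :
    (Surjective G.hom → Surjective a.act.left) ∧ (Flat G.hom → Flat a.act.left) ∧
      (IsAffineHom G.hom → IsAffineHom a.act.left) ∧ (IsProper G.hom → IsProper a.act.left) ∧
      (IsFinite G.hom → IsFinite a.act.left) ∧ (Smooth G.hom → Smooth a.act.left) := by
  -- action axioms on generalized points
  have act_mul : ∀ {T : Over S} (g h : T ⟶ G) (x : T ⟶ X),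
      lift (g * h) x ≫ a.act = lift g (lift h x ≫ a.act) ≫ a.act := by
    intro T g h x
    have h1 : lift (lift g h) x ≫ (μ[G] ▷ X) ≫ a.act =
        lift (lift g h) x ≫ (α_ G G X).hom ≫ (G ◁ a.act) ≫ a.act := by rw [a.mul_act]
    simpa [Hom.mul_def] using h1
  have act_one : ∀ {T : Over S} (x : T ⟶ X), lift (1 : T ⟶ G) x ≫ a.act = x := by
    intro T x
    have h1 : lift (toUnit T) x ≫ (η[G] ▷ X) ≫ a.act = lift (toUnit T) x ≫ (λ_ X).hom := by
      rw [a.one_act]
    simpa [Hom.one_def] using h1
  let σ : G ⊗ X ⟶ G ⊗ X := lift (fst G X) a.act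
  let τ : G ⊗ X ⟶ G ⊗ X := lift (fst G X) (lift ((fst G X)⁻¹) (snd G X) ≫ a.act)
  have hact : a.act = lift (fst G X) (snd G X) ≫ a.act := by simp
  have hστ : σ ≫ τ = 𝟙 _ := by
    apply CartesianMonoidalCategory.hom_ext
    · simp [σ, τ]
    · simp only [σ, τ, comp_lift, lift_fst, lift_snd, Category.id_comp]
      rw [← Category.assoc, comp_lift, lift_snd]
      have e1 : lift (fst G X) a.act ≫ (fst G X)⁻¹ = (fst G X)⁻¹ := by
        rw [Hom.inv_def, ← Category.assoc, lift_fst]
      rw [e1]
      have e2 := act_mul ((fst G X)⁻¹) (fst G X) (snd G X)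
      rw [lift_fst_snd, Category.id_comp, inv_mul_cancel] at e2
      rw [← e2, act_one]
  have hτσ : τ ≫ σ = 𝟙 _ := by
    apply CartesianMonoidalCategory.hom_ext
    · simp [σ, τ]
    · simp only [σ, τ, comp_lift, lift_fst, lift_snd, Category.id_comp]
      have e2 := act_mul (fst G X) ((fst G X)⁻¹) (snd G X)
      rw [mul_inv_cancel, act_one] at e2
      have e3 : lift (fst G X) (lift (fst G X)⁻¹ (snd G X) ≫ a.act) ≫ a.act = snd G X := e2.symm
      exact e3
  haveI : IsIso σ := ⟨τ, hστ, hτσ⟩
  haveI : IsIso σ.left := (Over.forget S).map_isIso σ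
  have hfac : a.act.left = σ.left ≫ (snd G X).left := by
    rw [← Over.comp_left]
    congr 1
    exact (lift_snd _ _).symm
  have hsnd : (snd G X).left = Limits.pullback.snd G.hom X.hom := rfl
  rw [hfac, hsnd]
  refine ⟨?_, ?_, ?_, ?_, ?_, ?_⟩
  · intro h
    rw [MorphismProperty.cancel_left_of_respectsIso (P := @Surjective)]
    exact MorphismProperty.pullback_snd _ _ h
  · intro h
    rw [MorphismProperty.cancel_left_of_respectsIso (P := @Flat)]
    exact MorphismProperty.pullback_snd _ _ h
  · intro h
    rw [MorphismProperty.cancel_left_of_respectsIso (P := @IsAffineHom)]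
    exact MorphismProperty.pullback_snd _ _ h
  · intro h
    rw [MorphismProperty.cancel_left_of_respectsIso (P := @IsProper)]
    exact MorphismProperty.pullback_snd _ _ h
  · intro h
    rw [MorphismProperty.cancel_left_of_respectsIso (P := @IsFinite)]
    exact MorphismProperty.pullback_snd _ _ h
  · intro h
    rw [MorphismProperty.cancel_left_of_respectsIso (P := @Smooth)]
    exact MorphismProperty.pullback_snd _ _ h

end Groth.Agent.S18861
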