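import Groth.Statements.S18864
import Mathlib

set_option autoImplicit false
universe u v w
open HopfRep

namespace Groth.Agent.S18864

open TensorProduct Coalgebra in
/-- Let k be a field and G = lim G_i a pro-algebraic group scheme over k, so that G = Spec A with A the
direct limit of the Hopf algebras A_i of the affine group schemes G_i of finite type; assume
moreover that the maps A_i → A are injective, so that A is the directed union of the A_i, here given
as injective bialgebra maps A_i → A with directed, jointly covering images. Then every homomorphism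
from G to an affine group scheme H = Spec B of finite type over k factors through some projection G
→ G_i: every bialgebra map f : B → A with B finitely generated as a k-algebra is the composite of
A_i → A with a bialgebra map B → A_i for some i. (The published statement allows arbitrary
transition maps in the system; this row assumes each A_i → A injective, the case the printed
argument treats. The source also states the pro-finite variant with H finite, which is the case of
finite-dimensional A_i and B; finite generation of the A_i is not used.) -/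
theorem result (k : Type u) [Field k]
    (A : Type v) [CommRing A] [HopfAlgebra k A] {ι : Type v} (Aι : ι → Type v)
    [∀ i, CommRing (Aι i)] [∀ i, HopfAlgebra k (Aι i)] (emb : ∀ i, Aι i →ₐc[k] A)
    (hinj : ∀ i, Function.Injective (emb i))
    (hdir : ∀ i j, ∃ l, Set.range (emb i) ⊆ Set.range (emb l) ∧ Set.range (emb j) ⊆ Set.range (emb l))
    (hcov : ∀ a : A, ∃ i, a ∈ Set.range (emb i))
    (B : Type w) [CommRing B] [HopfAlgebra k B] [Algebra.FiniteType k B] (f : B →ₐc[k] A) :
    ∃ (i : ι) (g : B →ₐc[k] Aι i), (emb i).comp g = f := by
  classical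
  obtain ⟨s, hs⟩ := (Algebra.FiniteType.out : (⊤ : Subalgebra k B).FG)
  -- common index
  have hfin : ∀ t : Finset A, ∃ l, ∀ a ∈ t, a ∈ Set.range (emb l) := by
    intro t
    induction t using Finset.induction_on with
    | empty =>
      obtain ⟨i, _⟩ := hcov 0
      exact ⟨i, by simp⟩
    | insert a t _ ih =>
      obtain ⟨l, hl⟩ := ih
      obtain ⟨i, hi⟩ := hcov a
      obtain ⟨m, hm1, hm2⟩ := hdir i l
      refine ⟨m, ?_⟩
      intro x hx
      rw [Finset.mem_insert] at hx
      rcases hx with rfl | hx
      · exact hm1 hi
      · exact hm2 (hl x hx)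
  obtain ⟨l, hl⟩ := hfin (s.image f)
  have hrange : ∀ b : B, f b ∈ ((emb l : Aι l →ₐ[k] A).range) := by
    have hle : Algebra.adjoin k (s : Set B) ≤ ((emb l : Aι l →ₐ[k] A).range).comap (f : B →ₐ[k] A) := by
      rw [Algebra.adjoin_le_iff]
      intro b hb
      have := hl (f b) (Finset.mem_image_of_mem f hb)
      obtain ⟨x, hx⟩ := this
      exact ⟨x, hx⟩
    intro b
    have hb : b ∈ Algebra.adjoin k (s : Set B) := by rw [hs]; trivial
    exact hle hb
  let e := AlgEquiv.ofInjective (emb l : Aι l →ₐ[k] A) (hinj l)
  let g0 : B →ₐ[k] Aι l := (e.symm : _ →ₐ[k] Aι l).comp ((f : B →ₐ[k] A).codRestrict _ hrange)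
  have hg0 : ∀ b : B, emb l (g0 b) = f b := by
    intro b
    have h1 : e (g0 b) = ⟨f b, hrange b⟩ := by
      show e (e.symm _) = _
      rw [AlgEquiv.apply_symm_apply]
      rfl
    have h2 := congrArg Subtype.val h1
    simpa [e] using h2
  have hmapinj : Function.Injective (TensorProduct.map (emb l : Aι l →ₗ[k] A) (emb l : Aι l →ₗ[k] A)) :=
    TensorProduct.map_injective_of_flat_flat _ _ (hinj l) (hinj l)
  have hz : ∀ z : B ⊗[k] B, TensorProduct.map (emb l : Aι l →ₗ[k] A) (emb l : Aι l →ₗ[k] A)
      (Algebra.TensorProduct.map g0 g0 z) = TensorProduct.map (f : B →ₗ[k] A) (f : B →ₗ[k] A) z := by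
    intro z
    induction z using TensorProduct.induction_on with
    | zero => simp
    | tmul x y => simp [hg0]
    | add x y hx hy => simp only [map_add, hx, hy]
  refine ⟨l, BialgHom.ofAlgHom g0 ?_ ?_, ?_⟩
  · ext b
    simp only [AlgHom.comp_apply, Bialgebra.counitAlgHom_apply]
    rw [← CoalgHomClass.counit_comp_apply (emb l) (g0 b), hg0,
      CoalgHomClass.counit_comp_apply f b]
  · ext b
    simp only [AlgHom.comp_apply, Bialgebra.comulAlgHom_apply]
    apply hmapinj
    rw [hz]
    have h1 := CoalgHomClass.map_comp_comul_apply (emb l) (g0 b)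
    have h2 := CoalgHomClass.map_comp_comul_apply f b
    rw [hg0] at h1
    exact h2.trans h1.symm
  · ext b
    simp [hg0]

end Groth.Agent.S18864
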