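import Groth.Statements.S18865
import Mathlib
import Groth.Agent.Lib.Helper12.Liaison1

set_option autoImplicit false
universe u
open Liaison

namespace Groth.Agent.S18865

open MvPolynomial Groth.Agent.Helper12.ProjHilb Groth.Agent.Helper12.Liaison


/-- Let K be a field, R = K[x_0, …, x_n] graded by degree, c ≥ 2 an integer, 𝔠 ⊂ R a homogeneous ideal
of height c such that R/𝔠 is a Gorenstein ring, and I ⊂ R a homogeneous ideal with I ⊄ 𝔠. Then the
ideal quotient 𝔠 : I is unmixed of codimension c: it has height c and every associated prime of R/(𝔠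
: I) has height c. (A Gorenstein ideal of the notes, one whose quotient is Cohen–Macaulay with last
graded Betti number 1, is rendered as: the quotient ring is Gorenstein.) -/
theorem result (K : Type u) [Field K] (n c : ℕ) (hc : 2 ≤ c)
    (𝔠 I : Ideal (MvPolynomial (Fin (n + 1)) K))
    (h𝔠 : 𝔠.IsHomogeneous (GrSyz.stdGr K (Fin (n + 1)))) (hI : I.IsHomogeneous (GrSyz.stdGr K (Fin (n + 1))))
    [LocCoh.IsGorensteinRing (MvPolynomial (Fin (n + 1)) K ⧸ 𝔠)] (h𝔠c : 𝔠.height = c) (hI𝔠 : ¬ I ≤ 𝔠) :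
    (𝔠.colon (I : Set (MvPolynomial (Fin (n + 1)) K))).height = c ∧
      ∀ p ∈ associatedPrimes (MvPolynomial (Fin (n + 1)) K) (MvPolynomial (Fin (n + 1)) K ⧸ 𝔠.colon (I : Set (MvPolynomial (Fin (n + 1)) K))), p.height = c := by
  classical
  have h𝔠' := isHomogeneous_of_stdGr 𝔠 h𝔠
  have hCM : ∀ (p : Ideal (MvPolynomial (Fin (n + 1)) K ⧸ 𝔠)) [p.IsPrime],
      LocCoh.IsCohenMacaulayLocalRing (Localization.AtPrime p) :=
    fun p _ => Groth.Agent.Helper28.GorLink.isCM_of_isGorensteinRing _ p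
  have hass : ∀ p ∈ associatedPrimes (MvPolynomial (Fin (n + 1)) K)
      (MvPolynomial (Fin (n + 1)) K ⧸ 𝔠.colon (I : Set (MvPolynomial (Fin (n + 1)) K))),
      p.height = c := by
    intro p hp
    have h1 := associatedPrimes_quotient_colon_subset 𝔠 I hp
    have h2 := Groth.Agent.Helper28.GorLink.mem_minimalPrimes_of_mem_associatedPrimes _ 𝔠 hCM p h1
    rw [height_eq_of_mem_minimalPrimes 𝔠 h𝔠' hCM p h2, h𝔠c]
  refine ⟨?_, hass⟩
  have hJtop : 𝔠.colon (I : Set (MvPolynomial (Fin (n + 1)) K)) ≠ ⊤ := by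
    intro h
    apply hI𝔠
    intro a ha
    have h1 : (1 : MvPolynomial (Fin (n + 1)) K) ∈
        𝔠.colon (I : Set (MvPolynomial (Fin (n + 1)) K)) := by rw [h]; trivial
    rw [Submodule.mem_colon] at h1
    have := h1 a ha
    rwa [one_smul] at this
  have hnt : Nontrivial (MvPolynomial (Fin (n + 1)) K ⧸
      𝔠.colon (I : Set (MvPolynomial (Fin (n + 1)) K))) := Ideal.Quotient.nontrivial_iff.mpr hJtop
  obtain ⟨p, hp⟩ := associatedPrimes.nonempty (MvPolynomial (Fin (n + 1)) K)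
    (MvPolynomial (Fin (n + 1)) K ⧸ 𝔠.colon (I : Set (MvPolynomial (Fin (n + 1)) K)))
  have hJp : 𝔠.colon (I : Set (MvPolynomial (Fin (n + 1)) K)) ≤ p := by
    obtain ⟨-, z, hz⟩ := (isAssociatedPrime_iff (R := MvPolynomial (Fin (n + 1)) K)
      (M := MvPolynomial (Fin (n + 1)) K ⧸
        𝔠.colon (I : Set (MvPolynomial (Fin (n + 1)) K)))).mp hp
    intro r hr
    rw [hz, Submodule.mem_colon_singleton, Submodule.mem_bot]
    obtain ⟨x, rfl⟩ := Ideal.Quotient.mk_surjective z
    have h1 : r • (Ideal.Quotient.mk (𝔠.colon (I : Set (MvPolynomial (Fin (n + 1)) K)))) x =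
        Ideal.Quotient.mk (𝔠.colon (I : Set (MvPolynomial (Fin (n + 1)) K))) (r * x) := by
      rw [map_mul]; rfl
    rw [h1, Ideal.Quotient.eq_zero_iff_mem]
    exact Ideal.mul_mem_right _ _ hr
  have h𝔠J : 𝔠 ≤ 𝔠.colon (I : Set (MvPolynomial (Fin (n + 1)) K)) := by
    intro r hr
    rw [Submodule.mem_colon]
    intro a _
    exact Ideal.mul_mem_right _ _ hr
  apply le_antisymm
  · rw [← hass p hp]
    exact Ideal.height_mono hJp
  · rw [← h𝔠c]
    exact Ideal.height_mono h𝔠J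

end Groth.Agent.S18865
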