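import Groth.Statements.S18867
import Mathlib
import Groth.Agent.Lib.Helper12.Liaison3

set_option autoImplicit false
universe u
open Liaison

namespace Groth.Agent.S18867

open MvPolynomial Groth.Agent.Helper12.Liaison


/-- Let K be a field, R = K[x_0, …, x_n] graded by degree, c ≥ 2, 𝔠 ⊂ R a homogeneous ideal of height c
such that R/𝔠 is a Gorenstein ring, and I ⊂ R a homogeneous ideal of height c which is unmixed
(every associated prime of R/I has height c) and properly contains 𝔠. Then 𝔠 : (𝔠 : I) = I, so that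
I and 𝔠 : I are directly linked by 𝔠. -/
theorem result (K : Type u) [Field K] (n c : ℕ) (hc : 2 ≤ c)
    (𝔠 I : Ideal (MvPolynomial (Fin (n + 1)) K))
    (h𝔠 : 𝔠.IsHomogeneous (GrSyz.stdGr K (Fin (n + 1)))) (hI : I.IsHomogeneous (GrSyz.stdGr K (Fin (n + 1))))
    [LocCoh.IsGorensteinRing (MvPolynomial (Fin (n + 1)) K ⧸ 𝔠)] (h𝔠c : 𝔠.height = c) (hIc : I.height = c)
    (hIu : ∀ p ∈ associatedPrimes (MvPolynomial (Fin (n + 1)) K) (MvPolynomial (Fin (n + 1)) K ⧸ I), p.height = c) (hlt : 𝔠 < I) :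
    𝔠.colon ((𝔠.colon (I : Set (MvPolynomial (Fin (n + 1)) K)) : Ideal (MvPolynomial (Fin (n + 1)) K)) : Set (MvPolynomial (Fin (n + 1)) K)) = I := by
  classical
  apply le_antisymm
  · apply colon_colon_le 𝔠 I hlt.le
    intro P hP
    have hPp : P.IsPrime := hP.isPrime
    have hIP : I ≤ P := le_of_mem_associatedPrimes_quotient I P hP
    have h𝔠P : 𝔠 ≤ P := hlt.le.trans hIP
    obtain ⟨Q, hQ, hQP⟩ := Ideal.exists_minimalPrimes_le h𝔠P
    have hQp : Q.IsPrime := hQ.1.1
    have h1 : 𝔠.height ≤ Q.height := Ideal.height_mono hQ.1.2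
    have h2 : P.height ≤ Q.height := by rw [hIu P hP, ← h𝔠c]; exact h1
    have : Q = P := Ideal.eq_of_le_of_height_le Q hQP h2
    rw [← this]
    exact hQ
  · intro x hx
    rw [Submodule.mem_colon]
    intro y hy
    rw [SetLike.mem_coe, Submodule.mem_colon] at hy
    have := hy x hx
    rw [smul_eq_mul] at this ⊢
    rw [mul_comm]
    exact this

end Groth.Agent.S18867
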