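import Groth.Statements.S18868
import Groth.Agent.Lib.Helper20.Link6
import Groth.Agent.Lib.Helper12.GorFib
import Groth.Agent.Lib.Helper28.GorUnmixed
import Groth.Agent.Lib.Helper28.GorLink
import Groth.Agent.S18865
import Groth.Agent.S18867

set_option autoImplicit false
universe u
open Liaison

namespace Groth.Agent.S18868


theorem result (K : Type u) [Field K] (n c : ℕ) (hc : 2 ≤ c)
    (g : Fin c → MvPolynomial (Fin (n + 1)) K) (f : MvPolynomial (Fin (n + 1)) K) (𝔠 I : Ideal (MvPolynomial (Fin (n + 1)) K)) (h𝔠g : Ideal.span (Set.range g) = 𝔠)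
    (h𝔠 : 𝔠.IsHomogeneous (GrSyz.stdGr K (Fin (n + 1)))) (hI : I.IsHomogeneous (GrSyz.stdGr K (Fin (n + 1))))
    (h𝔠c : 𝔠.height = c) (hIc : I.height = c) [LocCoh.IsCohenMacaulayRing (MvPolynomial (Fin (n + 1)) K ⧸ I)]
    (hlt : 𝔠 < I) (hIf : I = 𝔠 ⊔ Ideal.span {f}) :
    (𝔠.colon (I : Set (MvPolynomial (Fin (n + 1)) K))).height = c ∧
      LocCoh.IsGorensteinRing (MvPolynomial (Fin (n + 1)) K ⧸ 𝔠.colon (I : Set (MvPolynomial (Fin (n + 1)) K))) := by
  classical
  haveI hGR : LocCoh.IsGorensteinRing (MvPolynomial (Fin (n + 1)) K) :=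
    Groth.Agent.Helper12.GorFib.isGorensteinRing_of_isRegularRing _
  -- `R/𝔠` is Gorenstein
  have h𝔠list : Ideal.ofList (List.ofFn g) = 𝔠 := by
    rw [← h𝔠g, Ideal.ofList]
    congr 1
    ext x
    simp [List.mem_ofFn]
  haveI hG : LocCoh.IsGorensteinRing (MvPolynomial (Fin (n + 1)) K ⧸ 𝔠) := by
    have := Groth.Agent.Helper20.Link.isGorensteinRing_quotient_ofList
      (R := MvPolynomial (Fin (n + 1)) K) (List.ofFn g) (by
        rw [h𝔠list, h𝔠c, List.length_ofFn])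
    rwa [h𝔠list] at this
  have hnle : ¬ I ≤ 𝔠 := not_le_of_gt hlt
  have h1 := Groth.Agent.S18865.result K n c hc 𝔠 I h𝔠 hI h𝔠c hnle
  refine ⟨h1.1, ?_⟩
  -- `I` is unmixed
  have hCMI : ∀ (p : Ideal (MvPolynomial (Fin (n + 1)) K ⧸ I)) [p.IsPrime],
      LocCoh.IsCohenMacaulayLocalRing (Localization.AtPrime p) := fun p _ =>
    LocCoh.IsCohenMacaulayRing.isCohenMacaulayLocalRing_localization p
  have hIu : ∀ p ∈ associatedPrimes (MvPolynomial (Fin (n + 1)) K)
      (MvPolynomial (Fin (n + 1)) K ⧸ I), p.height = c := by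
    intro p hp
    have hmin := Groth.Agent.Helper28.GorLink.mem_minimalPrimes_of_mem_associatedPrimes
      (MvPolynomial (Fin (n + 1)) K) I hCMI p hp
    rw [Groth.Agent.Helper28.GorUnmixed.height_eq_of_mem_minimalPrimes K (n + 1) I hI hCMI p hmin,
      hIc]
  have hJI := Groth.Agent.S18867.result K n c hc 𝔠 I h𝔠 hI h𝔠c hIc hIu hlt
  exact Groth.Agent.Helper20.Link.gor_of_linked_principal 𝔠 I _ rfl hJI f hIf inferInstance

end Groth.Agent.S18868
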