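import Groth.Statements.S18869
import Groth.Agent.Lib.Helper20.Link9

set_option autoImplicit false
universe u
open Liaison

namespace Groth.Agent.S18869


theorem result (K : Type u) [Field K] (n c : ℕ)
    (I₁ I₂ : Ideal (MvPolynomial (Fin (n + 1)) K))
    (hI₁ : I₁.IsHomogeneous (GrSyz.stdGr K (Fin (n + 1)))) (hI₂ : I₂.IsHomogeneous (GrSyz.stdGr K (Fin (n + 1))))
    [LocCoh.IsCohenMacaulayRing (MvPolynomial (Fin (n + 1)) K ⧸ I₁)] [LocCoh.IsCohenMacaulayRing (MvPolynomial (Fin (n + 1)) K ⧸ I₂)]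
    (h₁ : I₁.height = c) (h₂ : I₂.height = c) (hdisj : Disjoint I₁.minimalPrimes I₂.minimalPrimes)
    [LocCoh.IsGorensteinRing (MvPolynomial (Fin (n + 1)) K ⧸ (I₁ ⊓ I₂))] :
    (I₁ ⊔ I₂).height = c + 1 ∧ LocCoh.IsGorensteinRing (MvPolynomial (Fin (n + 1)) K ⧸ (I₁ ⊔ I₂)) := by
  classical
  open Groth.Agent.Helper20.Link in
  have hne1 : I₁ ≠ ⊤ := by
    rintro rfl
    rw [Ideal.height_top] at h₁
    exact ENat.top_ne_natCast c h₁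
  have hne2 : I₂ ≠ ⊤ := by
    rintro rfl
    rw [Ideal.height_top] at h₂
    exact ENat.top_ne_natCast c h₂
  -- unmixedness gives the colon identities
  have key : ∀ (J₁ J₂ : Ideal (MvPolynomial (Fin (n + 1)) K)),
      J₂.IsHomogeneous (GrSyz.stdGr K (Fin (n + 1))) →
      LocCoh.IsCohenMacaulayRing (MvPolynomial (Fin (n + 1)) K ⧸ J₂) →
      J₁.height = c → J₂.height = c → Disjoint J₁.minimalPrimes J₂.minimalPrimes →
      (J₁ ⊓ J₂).colon (J₁ : Set (MvPolynomial (Fin (n + 1)) K)) = J₂ := by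
    intro J₁ J₂ hJ₂ hCM hh₁ hh₂ hd
    haveI := hCM
    apply inf_colon_eq
    intro p hp hle
    obtain ⟨hmin, hht⟩ := unmixed_of_cm K (n + 1) J₂ hJ₂ p hp
    haveI : p.IsPrime := hmin.1.1
    have hpfin : p.FiniteHeight := ⟨Or.inr (by rw [hht, hh₂]; exact ENat.natCast_ne_top c)⟩
    have hmin1 : p ∈ J₁.minimalPrimes :=
      Ideal.mem_minimalPrimes_of_height_le hle (by rw [hht, hh₂, hh₁])
    exact Set.disjoint_left.1 hd hmin1 hmin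
  have h12 := key I₁ I₂ hI₂ inferInstance h₁ h₂ hdisj
  have h21 : (I₁ ⊓ I₂).colon (I₂ : Set (MvPolynomial (Fin (n + 1)) K)) = I₁ := by
    have := key I₂ I₁ hI₁ inferInstance h₂ h₁ hdisj.symm
    rwa [inf_comm] at this
  haveI hGJ : LocCoh.IsGorensteinRing (MvPolynomial (Fin (n + 1)) K ⧸ (I₁ ⊔ I₂)) :=
    gor_sup_of_geomLinked I₁ I₂ h12 h21 inferInstance inferInstance
  refine ⟨?_, hGJ⟩
  -- the height
  set 𝔪 : Ideal (MvPolynomial (Fin (n + 1)) K) :=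
    RingHom.ker (MvPolynomial.constantCoeff : MvPolynomial (Fin (n + 1)) K →+* K) with h𝔪
  haveI h𝔪max : 𝔪.IsMaximal :=
    RingHom.ker_isMaximal_of_surjective _ (fun a => ⟨MvPolynomial.C a, by simp⟩)
  haveI h𝔪p : 𝔪.IsPrime := h𝔪max.isPrime
  have h1𝔪 : I₁ ≤ 𝔪 :=
    Groth.Agent.Helper28.GorUnmixed.le_ker_constantCoeff_of_isHomogeneous K (Fin (n + 1)) I₁ hI₁
      hne1
  have h2𝔪 : I₂ ≤ 𝔪 :=
    Groth.Agent.Helper28.GorUnmixed.le_ker_constantCoeff_of_isHomogeneous K (Fin (n + 1)) I₂ hI₂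
      hne2
  have hJ𝔪 : I₁ ⊔ I₂ ≤ 𝔪 := sup_le h1𝔪 h2𝔪
  have hX𝔪 : I₁ ⊓ I₂ ≤ 𝔪 := inf_le_left.trans h1𝔪
  have hJne : I₁ ⊔ I₂ ≠ ⊤ := fun h => h𝔪p.ne_top (top_le_iff.1 (h ▸ hJ𝔪))
  have hXne : I₁ ⊓ I₂ ≠ ⊤ := fun h => h𝔪p.ne_top (top_le_iff.1 (h ▸ hX𝔪))
  haveI hCMJ : LocCoh.IsCohenMacaulayRing (MvPolynomial (Fin (n + 1)) K ⧸ (I₁ ⊔ I₂)) :=
    { isCohenMacaulayLocalRing_localization := fun p _ =>
        Groth.Agent.Helper28.GorLink.isCM_of_isGorensteinRing _ p }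
  haveI hCMX : LocCoh.IsCohenMacaulayRing (MvPolynomial (Fin (n + 1)) K ⧸ (I₁ ⊓ I₂)) :=
    { isCohenMacaulayLocalRing_localization := fun p _ =>
        Groth.Agent.Helper28.GorLink.isCM_of_isGorensteinRing _ p }
  have e1 := height_add_height_irrelevant K (n + 1) (I₁ ⊔ I₂) (hI₁.sup hI₂) hJne
  have e2 := height_add_height_irrelevant K (n + 1) (I₁ ⊓ I₂) (hI₁.inf hI₂) hXne
  rw [height_inf_eq I₁ I₂ c h₁ h₂, ← h𝔪] at e2
  rw [← h𝔪] at e1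
  -- the local dimensions at the irrelevant ideal
  have hc1 := (isCohenMacaulayRing_quotient_iff I₁).1 inferInstance 𝔪 h1𝔪
  have hc2 := (isCohenMacaulayRing_quotient_iff I₂).1 inferInstance 𝔪 h2𝔪
  obtain ⟨-, hdim⟩ := gor_local_of_geomLinked I₁ I₂ h12 h21 𝔪 h1𝔪 h2𝔪
  rw [← height_map_mk_eq_ringKrullDim (I₁ ⊔ I₂) 𝔪 hJ𝔪,
    ← height_map_mk_eq_ringKrullDim (I₁ ⊓ I₂) 𝔪 hX𝔪] at hdim
  have hdim' : (𝔪.map (Ideal.Quotient.mk (I₁ ⊔ I₂))).height + 1 =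
      (𝔪.map (Ideal.Quotient.mk (I₁ ⊓ I₂))).height := by exact_mod_cast hdim
  rw [← hdim'] at e2
  -- arithmetic in `ℕ∞`
  have hαfin : (𝔪.map (Ideal.Quotient.mk (I₁ ⊔ I₂))).height ≠ ⊤ := by
    intro htop
    rw [htop, add_top] at e1
    exact ENat.top_ne_natCast _ e1
  have hJfin : (I₁ ⊔ I₂).height ≠ ⊤ := Ideal.height_ne_top hJne
  obtain ⟨a, ha⟩ := ENat.ne_top_iff_exists.mp hαfin
  obtain ⟨j, hj⟩ := ENat.ne_top_iff_exists.mp hJfin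
  rw [← ha] at e1 e2
  rw [← hj] at e1 ⊢
  have e1' : j + a = n + 1 := by exact_mod_cast e1
  have e2' : c + (a + 1) = n + 1 := by exact_mod_cast e2
  have : j = c + 1 := by omega
  rw [this]
  rfl

end Groth.Agent.S18869
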