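import Groth.Statements.S18872
import Groth.Agent.Lib.Helper12.Liaison4

set_option autoImplicit false
universe u
open Liaison

namespace Groth.Agent.S18872

/-- Let K be a field, R = K[x_0, …, x_n] graded by degree, and J ⊆ I ⊂ R homogeneous ideals with J ≠ 0,
height I = height J + 1 = h + 1 and R/J Cohen–Macaulay; let f ∈ R be homogeneous of degree d with J
: f = J, and put Ĩ = J + fI (the basic double link). Then for every i < n − h = dim R/I the local
cohomology modules of R/Ĩ and of R/I with support in the irrelevant ideal 𝔪 = (x_0, …, x_n) are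
isomorphic in degree i. (The graded statement is H^i_𝔪(R/Ĩ) ≅ H^i_𝔪(R/I)(−d); here only the
existence of an R-linear isomorphism of the underlying modules is asserted, the grading and the
shift by d being dropped.) -/
theorem result (K : Type u) [Field K] (n h : ℕ)
    (J I : Ideal (MvPolynomial (Fin (n + 1)) K))
    (hJ : J.IsHomogeneous (GrSyz.stdGr K (Fin (n + 1)))) (hI : I.IsHomogeneous (GrSyz.stdGr K (Fin (n + 1))))
    (hJ0 : J ≠ ⊥) (hJI : J ≤ I) (hJh : J.height = h) (hIh : I.height = h + 1)
    [LocCoh.IsCohenMacaulayRing (MvPolynomial (Fin (n + 1)) K ⧸ J)]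
    (f : MvPolynomial (Fin (n + 1)) K) (d : ℕ) (hf : f ∈ GrSyz.stdGr K (Fin (n + 1)) (d : ℤ)) (hJf : J.colon {f} = J) (i : ℕ) (hi : i + h < n) :
    Nonempty (LocCoh.H (GrSyz.irrel (GrSyz.stdGr K (Fin (n + 1)))).toIdeal i (MvPolynomial (Fin (n + 1)) K ⧸ (J ⊔ Ideal.span {f} * I)) ≃ₗ[MvPolynomial (Fin (n + 1)) K]
      LocCoh.H (GrSyz.irrel (GrSyz.stdGr K (Fin (n + 1)))).toIdeal i (MvPolynomial (Fin (n + 1)) K ⧸ I)) := by
  classical
  have hmv : (GrSyz.irrel (GrSyz.stdGr K (Fin (n + 1)))).toIdeal = MvPolynomial.idealOfVars (Fin (n + 1)) K :=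
    Groth.Agent.Helper12.Liaison.irrel_eq_idealOfVars
  have hJtop : J ≠ ⊤ := by
    rintro rfl
    rw [Ideal.height_top] at hJh
    exact ENat.top_ne_natCast _ hJh
  have hJ' := Groth.Agent.Helper12.ProjHilb.isHomogeneous_of_stdGr J hJ
  have hdepth := Groth.Agent.Helper12.Liaison.idealDepth_quot_add_height J hJ' hJtop
  rw [← hmv, hJh] at hdepth
  set m := (GrSyz.irrel (GrSyz.stdGr K (Fin (n + 1)))).toIdeal with hm
  have hmmax : m.IsMaximal := by
    rw [hmv]; exact Groth.Agent.Helper12.Liaison.isMaximal_idealOfVars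
  have hJm : J ≤ m := by
    rw [hmv]
    exact Groth.Agent.Helper12.ProjHilb.le_idealOfVars_of_isHomogeneous hJ' hJtop
  -- vanishing of the local cohomology of `R/(J + (f))`
  have hvan : ∀ j : ℕ, j + h < n → Subsingleton (Groth.Agent.Helper8.LC.H m j
      (MvPolynomial (Fin (n + 1)) K ⧸ (J ⊔ Ideal.span {f}))) := by
    intro j hj
    by_cases hfm : f ∈ m
    · have hreg : IsSMulRegular (MvPolynomial (Fin (n + 1)) K ⧸ J) f :=
        Groth.Agent.Helper12.Liaison.isSMulRegular_of_colon_eq J f hJf
      have hIM : m • (⊤ : Submodule (MvPolynomial (Fin (n + 1)) K)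
          (MvPolynomial (Fin (n + 1)) K ⧸ J)) ≠ ⊤ := by
        apply Groth.Agent.Helper12.ProjHilb.smul_top_quot_ne_top m J
        · rw [smul_eq_mul, Ideal.mul_top]; exact hJm
        · rw [smul_eq_mul, Ideal.mul_top]; exact hmmax.ne_top
      have h1 := Groth.Agent.Lead.Depth.idealDepth_quotSMulTop_add_one m
        (MvPolynomial (Fin (n + 1)) K ⧸ J) hIM f hfm hreg
      have h2 : (j : ℕ∞) < LocCoh.idealDepth m (QuotSMulTop f (MvPolynomial (Fin (n + 1)) K ⧸ J)) := by
        rw [← h1] at hdepth
        generalize LocCoh.idealDepth m (QuotSMulTop f (MvPolynomial (Fin (n + 1)) K ⧸ J)) = e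
          at hdepth
        induction e using ENat.recTopCoe with
        | top => exact ENat.natCast_lt_top j
        | coe e =>
          have : e + 1 + h = n + 1 := by exact_mod_cast hdepth
          exact_mod_cast (by omega : j < e)
      haveI := Groth.Agent.Helper8.LC.H_subsingleton_of_lt_idealDepth m
        (QuotSMulTop f (MvPolynomial (Fin (n + 1)) K ⧸ J)) j h2
      exact Groth.Agent.Helper8.LC.H_subsingleton_of_linearEquiv m j
        (Groth.Agent.Helper12.Liaison.quotSupEquiv J f).symm
    · have hu := Groth.Agent.Helper23.GrSyzLib.isUnit_of_mem_stdGr_of_not_mem_irrel K _ hf hfm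
      haveI : Subsingleton (MvPolynomial (Fin (n + 1)) K ⧸ (J ⊔ Ideal.span {f})) := by
        rw [Ideal.Quotient.subsingleton_iff]
        exact Ideal.eq_top_of_isUnit_mem _
          (Ideal.mem_sup_right (Ideal.mem_span_singleton_self f)) hu
      exact Groth.Agent.Helper8.LC.H_subsingleton_of_subsingleton m j _
  have hses : Groth.Agent.Helper8.LC.IsSES (Groth.Agent.Helper12.Liaison.mulQ J I f)
      (Groth.Agent.Helper12.Liaison.projQ J I f) :=
    ⟨Groth.Agent.Helper12.Liaison.mulQ_injective J I f hJI hJf,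
      Groth.Agent.Helper12.Liaison.exact_mulQ_projQ J I f, by
        intro z
        obtain ⟨x, rfl⟩ := Submodule.Quotient.mk_surjective _ z
        exact ⟨Submodule.Quotient.mk x, rfl⟩⟩
  have hsurj : Function.Surjective (Groth.Agent.Helper8.LC.Hmap m i
      (Groth.Agent.Helper12.Liaison.mulQ J I f)) := by
    haveI := hvan i hi
    exact hses.Hmap_f_surjective m i
  have hinj : Function.Injective (Groth.Agent.Helper8.LC.Hmap m i
      (Groth.Agent.Helper12.Liaison.mulQ J I f)) := by
    cases i with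
    | zero => exact Groth.Agent.Helper8.LC.Hmap_zero_injective m hses.inj
    | succ j =>
      haveI := hvan j (by omega)
      exact hses.Hmap_f_injective_succ m j
  exact ⟨(LinearEquiv.ofBijective _ ⟨hinj, hsurj⟩).symm⟩

end Groth.Agent.S18872
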