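import Groth.Statements.S18873
import Groth.Agent.Lib.Helper12.Liaison6

set_option autoImplicit false
universe u
open Liaison

namespace Groth.Agent.S18873

/-- Let K be a field, R = K[x_0, …, x_n] graded by degree, 2 ≤ c ≤ n, 𝔠 ⊂ R a homogeneous ideal of
height c such that R/𝔠 is a Gorenstein ring, I ⊂ R a homogeneous ideal of height c containing 𝔠, and
J = 𝔠 : I. Write h_𝔞(j) = dim_K [R/𝔞]_j for the Hilbert function of R/𝔞. If p_𝔠, p_I, p_J ∈ ℚ[t] are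
polynomials agreeing with h_𝔠, h_I, h_J in all sufficiently large degrees (Hilbert polynomials; R/𝔠
and R/I have dimension n + 1 − c ≥ 1, and so has R/J unless I = 𝔠, when J = R and p_J = 0), then the
coefficients of t^(n−c) satisfy p_J = p_𝔠 − p_I in that degree; multiplying by (n − c)! this says
deg J = deg 𝔠 − deg I. -/
theorem result (K : Type u) [Field K] (n c : ℕ) (hc : 2 ≤ c) (hcn : c ≤ n)
    (𝔠 I : Ideal (MvPolynomial (Fin (n + 1)) K))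
    (h𝔠 : 𝔠.IsHomogeneous (GrSyz.stdGr K (Fin (n + 1)))) (hI : I.IsHomogeneous (GrSyz.stdGr K (Fin (n + 1))))
    [LocCoh.IsGorensteinRing (MvPolynomial (Fin (n + 1)) K ⧸ 𝔠)] (h𝔠c : 𝔠.height = c) (hIc : I.height = c) (h𝔠I : 𝔠 ≤ I)
    (p𝔠 pI pJ : Polynomial ℚ)
    (hp𝔠 : ∃ j₀ : ℕ, ∀ j : ℕ, j₀ ≤ j → (Module.finrank K ↥(Submodule.map (Ideal.Quotient.mkₐ K (𝔠)).toLinearMap (GrSyz.stdGr K (Fin (n + 1)) (j : ℤ))) : ℚ) = p𝔠.eval (j : ℚ))
    (hpI : ∃ j₀ : ℕ, ∀ j : ℕ, j₀ ≤ j → (Module.finrank K ↥(Submodule.map (Ideal.Quotient.mkₐ K (I)).toLinearMap (GrSyz.stdGr K (Fin (n + 1)) (j : ℤ))) : ℚ) = pI.eval (j : ℚ))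
    (hpJ : ∃ j₀ : ℕ, ∀ j : ℕ, j₀ ≤ j → (Module.finrank K ↥(Submodule.map (Ideal.Quotient.mkₐ K (𝔠.colon (I : Set (MvPolynomial (Fin (n + 1)) K)))).toLinearMap (GrSyz.stdGr K (Fin (n + 1)) (j : ℤ))) : ℚ) = pJ.eval (j : ℚ)) :
    pJ.coeff (n - c) = p𝔠.coeff (n - c) - pI.coeff (n - c) := by
  classical
  have h𝔠' := Groth.Agent.Helper12.ProjHilb.isHomogeneous_of_stdGr 𝔠 h𝔠
  have hI' := Groth.Agent.Helper12.ProjHilb.isHomogeneous_of_stdGr I hI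
  have hJ' := Groth.Agent.Helper12.Liaison.colon_isHomogeneous h𝔠' hI'
  -- the given polynomials are the Hilbert polynomials
  have hP𝔠 : Groth.Agent.Helper12.ProjHilb.HP 𝔠 = p𝔠 := by
    apply Groth.Agent.Helper12.ProjHilb.HP_eq
    obtain ⟨j₀, hj₀⟩ := hp𝔠
    exact ⟨j₀, fun j hj => by rw [← hj₀ j hj, Groth.Agent.Helper12.Liaison.finrank_map_mkₐ]⟩
  have hPI : Groth.Agent.Helper12.ProjHilb.HP I = pI := by
    apply Groth.Agent.Helper12.ProjHilb.HP_eq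
    obtain ⟨j₀, hj₀⟩ := hpI
    exact ⟨j₀, fun j hj => by rw [← hj₀ j hj, Groth.Agent.Helper12.Liaison.finrank_map_mkₐ]⟩
  have hPJ : Groth.Agent.Helper12.ProjHilb.HP
      (𝔠.colon (I : Set (MvPolynomial (Fin (n + 1)) K)) : Ideal (MvPolynomial (Fin (n + 1)) K)) = pJ := by
    apply Groth.Agent.Helper12.ProjHilb.HP_eq
    obtain ⟨j₀, hj₀⟩ := hpJ
    exact ⟨j₀, fun j hj => by rw [← hj₀ j hj, Groth.Agent.Helper12.Liaison.finrank_map_mkₐ]⟩
  have ht : (Groth.Agent.Helper12.ProjHilb.HP 𝔠).natDegree ≤ n - c := by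
    by_cases h0 : Groth.Agent.Helper12.ProjHilb.HP 𝔠 = 0
    · rw [h0, Polynomial.natDegree_zero]; exact Nat.zero_le _
    · have := Groth.Agent.Helper12.Liaison.HP_natDegree_add_one_le 𝔠 h𝔠' h0 c h𝔠c
      omega
  have key := Groth.Agent.Helper12.Liaison.ct_colon 𝔠 I h𝔠' hI' h𝔠I (n - c) ht
  unfold Groth.Agent.Helper12.ProjHilb.ct at key
  rw [hP𝔠, hPI, hPJ] at key
  have hfac : ((n - c).factorial : ℚ) ≠ 0 := by positivity
  have h2 : ((n - c).factorial : ℚ) * pJ.coeff (n - c) =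
      ((n - c).factorial : ℚ) * (p𝔠.coeff (n - c) - pI.coeff (n - c)) := by
    rw [mul_sub, key]; ring
  exact mul_left_cancel₀ hfac h2

end Groth.Agent.S18873
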