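import Groth.Statements.S18879
import Mathlib
import Groth.Agent.Lib.Helper14.PointwiseDim
-- import your own Groth.Agent.* helpers here

set_option autoImplicit false
universe u
open CategoryTheory AlgebraicGeometry
open Resolve

namespace Groth.Agent.S18879

/-- Let f : Y ⟶ X be a morphism locally of finite type between Noetherian separated schemes which is
birational: it maps the maximal points of Y bijectively onto the maximal points of X, and over every
maximal point of X its fibre is one point with the same residue field. Then for every point y of Y,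
the Krull dimension of the local ring of Y at y is at most the Krull dimension of the local ring of
X at f y (the codimension of a point does not increase along f). -/
theorem result {X Y : Scheme.{u}} (f : Y ⟶ X)
    [IsNoetherian X] [X.IsSeparated] [IsNoetherian Y] [Y.IsSeparated] [LocallyOfFiniteType f]
    (hf : RadPt.IsBirational f) (y : Y) :
    ringKrullDim (Y.presheaf.stalk y) ≤ ringKrullDim (X.presheaf.stalk (f.base y)) := by
  haveI : IsLocallyNoetherian X := inferInstance
  obtain ⟨U, hU, hyU, -⟩ :=
    exists_isAffineOpen_mem_and_subset (X := Y) (x := y) (U := ⊤) trivial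
  haveI : IsNoetherianRing Γ(Y, U) := IsLocallyNoetherian.component_noetherian ⟨U, hU⟩
  let py := hU.primeIdealOf ⟨y, hyU⟩
  -- dimension of the stalk is the height of `py`
  have h1 : ringKrullDim (Y.presheaf.stalk y) = (py.asIdeal.height : WithBot ℕ∞) := by
    letI := Y.presheaf.algebra_section_stalk ⟨y, hyU⟩
    haveI := hU.isLocalization_stalk ⟨y, hyU⟩
    exact IsLocalization.AtPrime.ringKrullDim_eq_height py.asIdeal (Y.presheaf.stalk y)
  obtain ⟨Q, hQp, hQmin, hQle, hQht⟩ :=
    Groth.Agent.Helper14.DimIneqGen.exists_minimalPrime_height_le Γ(Y, U) py.asIdeal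
  let q : PrimeSpectrum Γ(Y, U) := ⟨Q, hQp⟩
  let ξ : Y := hU.fromSpec q
  have hξU : ξ ∈ U := by
    have : ξ ∈ Set.range hU.fromSpec := ⟨q, rfl⟩
    rwa [hU.range_fromSpec] at this
  have hspec : ξ ⤳ y := by
    have := (Groth.Agent.Helper14.ResFieldBridge.specializes_fromSpec_iff hU q py).mpr hQle
    rwa [hU.fromSpec_primeIdealOf ⟨y, hyU⟩] at this
  have hq : hU.primeIdealOf ⟨ξ, hξU⟩ = q :=
    hU.fromSpec.isOpenEmbedding.injective (hU.fromSpec_primeIdealOf ⟨ξ, hξU⟩)
  have hξgen : ξ ∈ genericPoints Y :=
    Groth.Agent.Helper14.ResFieldBridge.closure_mem_irreducibleComponents hU q hQmin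
  have h2 := Groth.Agent.Helper14.LocQuotDim.ringKrullDim_locQuot hU y ξ hyU hξU hspec
  rw [hq] at h2
  have h3 : ringKrullDim (Y.presheaf.stalk y) ≤ ringKrullDim (Cyc.LocQuot y ξ hspec) := by
    rw [h1, h2]
    exact_mod_cast hQht
  obtain ⟨n, hn⟩ := Groth.Agent.Helper14.ResFieldBridge.exists_nat_trdeg_residueField f y
  have hfξ : f ξ ∈ genericPoints X := hf.1.mapsTo hξgen
  have hbij := (hf.2 (f ξ) hfξ).2 ξ rfl
  have hE : @Algebra.trdeg (X.residueField (f ξ)) (Y.residueField ξ) _ _
      (f.residueFieldMap ξ).hom.toAlgebra = ((0 : ℕ) : Cardinal) := by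
    letI := (f.residueFieldMap ξ).hom.toAlgebra
    have hint : Algebra.IsIntegral (X.residueField (f ξ)) (Y.residueField ξ) :=
      ⟨RingHom.isIntegral_of_surjective _ hbij.2⟩
    have : Algebra.IsAlgebraic (X.residueField (f ξ)) (Y.residueField ξ) := inferInstance
    rw [trdeg_eq_zero]
    simp
  have h4 := (Groth.Agent.Helper14.PointwiseDim.formula_aux f y ξ hspec n 0 hn hE).1
  have h5 : ringKrullDim (Cyc.LocQuot (f y) (f ξ) (hspec.map f.continuous)) ≤
      ringKrullDim (X.presheaf.stalk (f y)) := ringKrullDim_quotient_le _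
  calc ringKrullDim (Y.presheaf.stalk y) ≤ ringKrullDim (Cyc.LocQuot y ξ hspec) := h3
    _ ≤ ringKrullDim (Cyc.LocQuot y ξ hspec) + (n : WithBot ℕ∞) := by
        exact le_add_of_nonneg_right (by exact_mod_cast Nat.zero_le n)
    _ ≤ ringKrullDim (Cyc.LocQuot (f y) (f ξ) (hspec.map f.continuous)) + ((0 : ℕ) : WithBot ℕ∞) := h4
    _ = ringKrullDim (Cyc.LocQuot (f y) (f ξ) (hspec.map f.continuous)) := by simp
    _ ≤ ringKrullDim (X.presheaf.stalk (f y)) := h5

end Groth.Agent.S18879
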