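import Groth.Statements.S18887
import Mathlib


set_option autoImplicit false
universe u v
open DblCov

namespace Groth.Agent.S18887

/-- Let A be a commutative ring in which 2 is invertible and B a commutative A-algebra which is free of
rank 2 as an A-module and whose trace form tr : B → A has kernel free of rank 1 over A. Then σ(b) =
tr(b) − b defines an A-algebra endomorphism σ of B with σ ≠ id and σ ∘ σ = id, and the elements
fixed by σ are exactly the image of A in B. -/
theorem result {A : Type u} {B : Type v} [CommRing A] [CommRing B]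
    [Algebra A B] (h2 : IsUnit (2 : A)) [Module.Free A B] [Module.Finite A B]
    (hrk : Module.finrank A B = 2)
    [Module.Free A (LinearMap.ker (Algebra.trace A B))]
    (hker : Module.finrank A (LinearMap.ker (Algebra.trace A B)) = 1) :
    ∃ σ : B →ₐ[A] B, (∀ b : B, σ b = algebraMap A B (Algebra.trace A B b) - b) ∧
      σ ≠ AlgHom.id A B ∧ σ.comp σ = AlgHom.id A B ∧
      ∀ b : B, σ b = b ↔ b ∈ Set.range (algebraMap A B) := by
  classical
  haveI : Nontrivial A := by
    by_contra h
    rw [not_nontrivial_iff_subsingleton] at h
    haveI := h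
    have : Module.finrank A B = 1 := by
      rw [Module.finrank, rank_subsingleton]; simp
    omega
  let bB := Module.finBasisOfFinrankEq A B hrk
  have htr_alg : ∀ s : A, Algebra.trace A B (algebraMap A B s) = 2 * s := by
    intro s
    rw [Algebra.trace_algebraMap, hrk, two_smul, two_mul]
  obtain ⟨u, hu⟩ := h2.exists_left_inv
  have hu' : 2 * u = 1 := by rw [mul_comm]; exact hu
  haveI : Module.Finite A (LinearMap.ker (Algebra.trace A B)) :=
    Module.finite_of_finrank_pos (by omega)
  let bK := Module.finBasisOfFinrankEq A (LinearMap.ker (Algebra.trace A B)) hker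
  set w : B := ((bK 0 : LinearMap.ker (Algebra.trace A B)) : B) with hwdef
  have hw : Algebra.trace A B w = 0 := LinearMap.mem_ker.mp (bK 0).2
  have hspan : ∀ x : B, Algebra.trace A B x = 0 → ∃ c : A, x = algebraMap A B c * w := by
    intro x hx
    let x' : LinearMap.ker (Algebra.trace A B) := ⟨x, LinearMap.mem_ker.mpr hx⟩
    refine ⟨bK.repr x' 0, ?_⟩
    have h1 := bK.sum_repr x'
    rw [Fin.sum_univ_one] at h1
    have h2 := congrArg Subtype.val h1
    simp only [Submodule.coe_smul] at h2
    rw [← Algebra.smul_def]
    exact h2.symm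
  -- Cayley–Hamilton
  set M := Algebra.leftMulMatrix bB w with hMdef
  have hM : M.trace = 0 := by
    rw [hMdef, ← Algebra.trace_eq_matrix_trace]; exact hw
  have hCH : Polynomial.aeval M M.charpoly = 0 := Matrix.aeval_self_charpoly M
  rw [Matrix.charpoly_fin_two, hM] at hCH
  simp only [map_zero, zero_mul, sub_zero, map_add, map_pow, Polynomial.aeval_X,
    Polynomial.aeval_C] at hCH
  have hw2 : w * w = algebraMap A B (-M.det) := by
    apply Algebra.leftMulMatrix_injective bB
    rw [map_mul, ← hMdef, AlgHom.commutes, map_neg, eq_neg_iff_add_eq_zero, ← pow_two]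
    exact hCH
  set α : A := -M.det with hα
  -- decomposition
  have hdec : ∀ x : B, ∃ s c : A, x = algebraMap A B s + algebraMap A B c * w := by
    intro x
    have h1 : Algebra.trace A B (x - algebraMap A B (u * Algebra.trace A B x)) = 0 := by
      rw [map_sub, htr_alg, ← mul_assoc, hu', one_mul, sub_self]
    obtain ⟨c, hc⟩ := hspan _ h1
    exact ⟨u * Algebra.trace A B x, c, by rw [← hc]; ring⟩
  have htr_dec : ∀ s c : A, Algebra.trace A B (algebraMap A B s + algebraMap A B c * w) = 2 * s := by
    intro s c
    rw [map_add, htr_alg, ← Algebra.smul_def, map_smul, hw, smul_zero, add_zero]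
  let σL : B →ₗ[A] B := (Algebra.linearMap A B) ∘ₗ (Algebra.trace A B) - LinearMap.id
  have hσL : ∀ b, σL b = algebraMap A B (Algebra.trace A B b) - b := fun b => rfl
  have hσdec : ∀ s c : A, σL (algebraMap A B s + algebraMap A B c * w) =
      algebraMap A B s - algebraMap A B c * w := by
    intro s c
    rw [hσL, htr_dec, map_mul, map_ofNat]
    ring
  have hone : σL 1 = 1 := by
    have := hσdec 1 0
    simpa using this
  have hmul : ∀ x y, σL (x * y) = σL x * σL y := by
    intro x y
    obtain ⟨s, c, rfl⟩ := hdec x
    obtain ⟨s', c', rfl⟩ := hdec y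
    have hxy : (algebraMap A B s + algebraMap A B c * w) * (algebraMap A B s' + algebraMap A B c' * w) =
        algebraMap A B (s * s' + c * c' * α) + algebraMap A B (s * c' + s' * c) * w := by
      simp only [map_add, map_mul]
      linear_combination (algebraMap A B c * algebraMap A B c') * hw2
    rw [hxy, hσdec, hσdec, hσdec]
    simp only [map_add, map_mul]
    linear_combination (-(algebraMap A B c * algebraMap A B c')) * hw2
  let σ : B →ₐ[A] B := AlgHom.ofLinearMap σL hone hmul
  have hσ : ∀ b : B, σ b = algebraMap A B (Algebra.trace A B b) - b := fun b => rfl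
  refine ⟨σ, hσ, ?_, ?_, ?_⟩
  · intro hid
    have h1 : σ w = w := by rw [hid]; rfl
    rw [hσ, hw, map_zero, zero_sub] at h1
    have h3 : (2 : A) • w = 0 := by
      rw [two_smul]
      nth_rw 1 [← h1]
      exact neg_add_cancel w
    have h4 : w = 0 := by
      have := congrArg (fun z => u • z) h3
      simp only [smul_smul, hu, one_smul, smul_zero] at this
      exact this
    have h5 : (bK 0 : LinearMap.ker (Algebra.trace A B)) = 0 := Subtype.ext h4
    exact bK.ne_zero 0 h5
  · apply AlgHom.ext
    intro b
    show σ (σ b) = b
    rw [hσ, hσ, map_sub, htr_alg]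
    have e2 : algebraMap A B (2 * Algebra.trace A B b - Algebra.trace A B b) =
        algebraMap A B (Algebra.trace A B b) := by congr 1; ring
    rw [e2]
    ring
  · intro b
    constructor
    · intro h
      rw [hσ] at h
      refine ⟨u * Algebra.trace A B b, ?_⟩
      have h3 : algebraMap A B (Algebra.trace A B b) = 2 * b := by
        linear_combination h
      rw [map_mul, h3, ← mul_assoc]
      have : algebraMap A B u * 2 = 1 := by
        rw [← map_ofNat (algebraMap A B) 2, ← map_mul, hu, map_one]
      rw [this, one_mul]
    · rintro ⟨s, rfl⟩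
      rw [hσ, htr_alg, map_mul, map_ofNat]
      ring


end Groth.Agent.S18887
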