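import Groth.Statements.S18888
import Mathlib


set_option autoImplicit false
universe u v w
open CAlg

namespace Groth.Agent.S18888

/-- Let A be a unique factorisation domain in which 2 is invertible, with fraction field K, and let L ⊇
K be a quadratic extension field (of degree 2 over K) containing an element y ∉ K whose square is a
squarefree element d of A. Then the integral closure of A in L equals the A-subalgebra A[y]
generated by y. -/
theorem result {A : Type u} {K : Type v} {L : Type w}
    [CommRing A] [IsDomain A] [UniqueFactorizationMonoid A] [Field K] [Algebra A K] [IsFractionRing A K]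
    [Field L] [Algebra K L] [Algebra A L] [IsScalarTower A K L]
    (h2 : IsUnit (2 : A)) (hL : Module.finrank K L = 2)
    (d : A) (hd : Squarefree d) (y : L) (hy : y * y = algebraMap A L d)
    (hyK : y ∉ Set.range (algebraMap K L)) :
    integralClosure A L = Algebra.adjoin A {y} := by
  classical
  haveI : FiniteDimensional K L := Module.finite_of_finrank_pos (by rw [hL]; norm_num)
  have hinjKL : Function.Injective (algebraMap K L) := (algebraMap K L).injective
  have hinjAK : Function.Injective (algebraMap A K) := IsFractionRing.injective A K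
  set dK : K := algebraMap A K d with hdK
  have hyy : y * y = algebraMap K L dK := by rw [hy, hdK, ← IsScalarTower.algebraMap_apply]
  have hyint : IsIntegral A y := by
    refine ⟨Polynomial.X ^ 2 - Polynomial.C d, Polynomial.monic_X_pow_sub_C d (by norm_num), ?_⟩
    simp [pow_two, hy]
  -- minimal polynomial of y
  have hmin : minpoly K y = Polynomial.X ^ 2 - Polynomial.C dK := by
    symm
    apply minpoly.unique' K y (Polynomial.monic_X_pow_sub_C dK (by norm_num))
    · simp [pow_two, hyy]
    · intro q hq
      have hdeg : (Polynomial.X ^ 2 - Polynomial.C dK : Polynomial K).degree = 2 := by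
        rw [Polynomial.degree_X_pow_sub_C (by norm_num)]; rfl
      rw [hdeg] at hq
      have hq1 : q.degree ≤ 1 := by
        by_cases hq0 : q = 0
        · rw [hq0]; simp
        · rw [Polynomial.degree_eq_natDegree hq0] at hq
          have : q.natDegree < 2 := by exact_mod_cast hq
          have h1 : q.natDegree ≤ 1 := by omega
          exact Polynomial.degree_le_of_natDegree_le h1
      have hq2 := Polynomial.eq_X_add_C_of_degree_le_one hq1
      by_cases hc1 : q.coeff 1 = 0
      · by_cases hc0 : q.coeff 0 = 0
        · left
          rw [hq2, hc1, hc0]; simp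
        · right
          rw [hq2, hc1]
          simp only [map_zero, zero_mul, zero_add, Polynomial.aeval_C]
          intro h
          exact hc0 (hinjKL (by rw [h, map_zero]))
      · right
        intro h
        rw [hq2] at h
        simp only [map_add, map_mul, Polynomial.aeval_C, Polynomial.aeval_X] at h
        apply hyK
        refine ⟨-(q.coeff 0) / q.coeff 1, ?_⟩
        have hc1' : algebraMap K L (q.coeff 1) ≠ 0 := fun h0 => hc1 (hinjKL (by rw [h0, map_zero]))
        rw [map_div₀, map_neg, div_eq_iff hc1']
        linear_combination -h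
  have hli : LinearIndependent K ![(1 : L), y] := by
    rw [LinearIndependent.pair_iff]
    intro s t hst
    by_cases ht : t = 0
    · subst ht
      rw [zero_smul, add_zero, Algebra.smul_def, mul_one] at hst
      exact ⟨hinjKL (by rw [hst, map_zero]), rfl⟩
    · exfalso
      apply hyK
      refine ⟨-s / t, ?_⟩
      have ht' : algebraMap K L t ≠ 0 := fun h0 => ht (hinjKL (by rw [h0, map_zero]))
      rw [Algebra.smul_def, Algebra.smul_def, mul_one] at hst
      rw [map_div₀, map_neg, div_eq_iff ht']
      linear_combination -hst
  have hspan : ∀ z : L, ∃ a b : K, z = algebraMap K L a + algebraMap K L b * y := by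
    intro z
    have htop := hli.span_eq_top_of_card_eq_finrank' (by simp [hL])
    have hz : z ∈ Submodule.span K (Set.range ![(1 : L), y]) := by rw [htop]; trivial
    rw [Matrix.range_cons_cons_empty] at hz
    obtain ⟨a, b, hab⟩ := Submodule.mem_span_pair.1 hz
    exact ⟨a, b, by rw [← hab, Algebra.smul_def, Algebra.smul_def, mul_one]⟩
  apply le_antisymm
  · intro z hz
    have hzint : IsIntegral A z := hz
    obtain ⟨a, b, rfl⟩ := hspan z
    have hconj : IsIntegral A (algebraMap K L a - algebraMap K L b * y) := by
      obtain ⟨p, hpm, hp⟩ := hzint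
      refine ⟨p, hpm, ?_⟩
      have hq : Polynomial.aeval y ((p.map (algebraMap A K)).comp
          (Polynomial.C a + Polynomial.C b * Polynomial.X)) = 0 := by
        rw [Polynomial.aeval_comp]
        simp only [map_add, map_mul, Polynomial.aeval_C, Polynomial.aeval_X]
        rw [Polynomial.aeval_map_algebraMap]
        exact hp
      have hdvd := minpoly.dvd K y hq
      rw [hmin] at hdvd
      obtain ⟨r, hr⟩ := hdvd
      have hq' : Polynomial.aeval (-y) ((p.map (algebraMap A K)).comp
          (Polynomial.C a + Polynomial.C b * Polynomial.X)) = 0 := by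
        rw [hr, map_mul]
        simp [pow_two, hyy]
      rw [Polynomial.aeval_comp] at hq'
      simp only [map_add, map_mul, Polynomial.aeval_C, Polynomial.aeval_X] at hq'
      rw [Polynomial.aeval_map_algebraMap, Polynomial.aeval_def] at hq'
      have e : algebraMap K L a - algebraMap K L b * y = algebraMap K L a + algebraMap K L b * -y := by ring
      rw [e]
      exact hq'
    have hsum : IsIntegral A (algebraMap K L (2 * a)) := by
      have := hzint.add hconj
      have e : algebraMap K L (2 * a) = (algebraMap K L a + algebraMap K L b * y) +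
          (algebraMap K L a - algebraMap K L b * y) := by
        rw [map_mul, map_ofNat]; ring
      rw [e]; exact this
    have hprod : IsIntegral A (algebraMap K L (a ^ 2 - b ^ 2 * dK)) := by
      have := hzint.mul hconj
      have e : algebraMap K L (a ^ 2 - b ^ 2 * dK) = (algebraMap K L a + algebraMap K L b * y) *
          (algebraMap K L a - algebraMap K L b * y) := by
        rw [map_sub, map_mul, map_pow, map_pow, ← hyy]; ring
      rw [e]; exact this
    have h2a : IsIntegral A (2 * a) := (isIntegral_algebraMap_iff hinjKL).1 hsum
    have hN : IsIntegral A (a ^ 2 - b ^ 2 * dK) := (isIntegral_algebraMap_iff hinjKL).1 hprod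
    obtain ⟨α2, hα2⟩ := IsIntegrallyClosed.isIntegral_iff.1 h2a
    obtain ⟨ν, hν⟩ := IsIntegrallyClosed.isIntegral_iff.1 hN
    obtain ⟨u, hu⟩ := h2
    have hu2 : algebraMap A K (↑u⁻¹ : A) * 2 = 1 := by
      have := congrArg (algebraMap A K) (u.inv_mul)
      rw [map_mul, hu, map_one, map_ofNat] at this
      exact this
    have ha : a = algebraMap A K (↑u⁻¹ * α2) := by
      rw [map_mul, hα2, ← mul_assoc, hu2, one_mul]
    have hb2 : b ^ 2 * dK = algebraMap A K ((↑u⁻¹ * α2) ^ 2 - ν) := by
      rw [map_sub, map_pow, ← ha, hν]; ring
    obtain ⟨r, s, hrs, hb⟩ := IsFractionRing.exists_reduced_fraction (A := A) b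
    have hbs : b * algebraMap A K s = algebraMap A K r := by
      rw [← hb]; exact IsLocalization.mk'_spec K r s
    have hA : r ^ 2 * d = ((↑u⁻¹ * α2) ^ 2 - ν) * (s : A) ^ 2 := by
      apply hinjAK
      rw [map_mul, map_mul, map_pow, map_pow, ← hbs, ← hb2]
      ring
    have hdvd : (s : A) ^ 2 ∣ d := by
      have h1 : (s : A) ^ 2 ∣ r ^ 2 * d := ⟨(↑u⁻¹ * α2) ^ 2 - ν, by rw [hA]; ring⟩
      have hrel : IsRelPrime ((s : A) ^ 2) (r ^ 2) := (hrs.symm.pow_left).pow_right
      exact hrel.dvd_of_dvd_mul_left h1
    have hsu : IsUnit (s : A) := hd s (by rw [← pow_two]; exact hdvd)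
    obtain ⟨β, hβ⟩ : ∃ β : A, algebraMap A K β = b := by
      obtain ⟨su, hsu'⟩ := hsu
      refine ⟨↑su⁻¹ * r, ?_⟩
      rw [map_mul, ← hbs, ← hsu', mul_comm b, ← mul_assoc, ← map_mul, Units.inv_mul, map_one, one_mul]
    rw [ha, ← hβ, ← IsScalarTower.algebraMap_apply, ← IsScalarTower.algebraMap_apply]
    exact Subalgebra.add_mem _ (Subalgebra.algebraMap_mem _ _)
      (Subalgebra.mul_mem _ (Subalgebra.algebraMap_mem _ _) (Algebra.subset_adjoin (Set.mem_singleton _)))
  · exact Algebra.adjoin_le (by rintro _ rfl; exact hyint)

end Groth.Agent.S18888
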