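import Groth.Statements.S18889
import Mathlib


set_option autoImplicit false
universe u v w
open CAlg

namespace Groth.Agent.S18889

/-- Let R be a commutative ring, A a commutative R-algebra of finite presentation, and G a finite group
acting on A by R-algebra automorphisms such that the order of G is invertible in R. Then the ring of
invariants A^G is an R-algebra of finite presentation. (The source takes G to be a group of
automorphisms of A; here G acts through a possibly non-faithful action, which changes nothing since
the invariants and the invertibility of the order only depend on the image of G.) -/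
theorem result {R : Type u} {A : Type v} [CommRing R] [CommRing A]
    [Algebra R A] [Algebra.FinitePresentation R A]
    {G : Type w} [Group G] [Finite G] [MulSemiringAction G A] [SMulCommClass G R A]
    (hG : IsUnit ((Nat.card G : ℕ) : R)) :
    Algebra.FinitePresentation R (FixedPoints.subalgebra R A G) := by
  classical
  haveI : Fintype G := Fintype.ofFinite G
  set S := FixedPoints.subalgebra R A G with hSdef
  haveI : Algebra.IsInvariant S A G := ⟨fun b hb => ⟨⟨b, hb⟩, rfl⟩⟩
  haveI : Algebra.IsIntegral S A := Algebra.IsInvariant.isIntegral S A G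
  haveI : Algebra.FiniteType R A := inferInstance
  haveI : Algebra.FiniteType S A := Algebra.FiniteType.of_restrictScalars_finiteType R S A
  haveI : Module.Finite S A := Algebra.IsIntegral.finite
  -- Reynolds operator
  obtain ⟨u, hu⟩ := hG
  have hmemS : ∀ a : A, (↑u⁻¹ : R) • ∑ g : G, g • a ∈ S := by
    intro a h
    rw [smul_comm, Finset.smul_sum]
    congr 1
    simp only [smul_smul]
    exact Fintype.sum_equiv (Equiv.mulLeft h) _ _ (fun g => rfl)
  let ρ : A →ₗ[S] S :=
    { toFun := fun a => ⟨(↑u⁻¹ : R) • ∑ g : G, g • a, hmemS a⟩
      map_add' := by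
        intro a b
        apply Subtype.ext
        simp only [smul_add, Finset.sum_add_distrib]
        rfl
      map_smul' := by
        intro s a
        apply Subtype.ext
        simp only [RingHom.id_apply]
        show (↑u⁻¹ : R) • ∑ g : G, g • ((s : A) * a) = (s : A) * ((↑u⁻¹ : R) • ∑ g : G, g • a)
        have : ∀ g : G, g • ((s : A) * a) = (s : A) * g • a := by
          intro g
          rw [smul_mul', s.2 g]
        simp only [this, ← Finset.mul_sum]
        rw [mul_smul_comm] }
  have hρι : ∀ s : S, ρ ((s : A)) = s := by
    intro s
    apply Subtype.ext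
    show (↑u⁻¹ : R) • ∑ g : G, g • (s : A) = s
    have : ∀ g : G, g • (s : A) = s := fun g => s.2 g
    simp only [this, Finset.sum_const, Finset.card_univ]
    rw [← Nat.card_eq_fintype_card, ← Nat.cast_smul_eq_nsmul R, ← hu, smul_smul]
    simp
  have hρsurj : Function.Surjective ρ := fun s => ⟨s, hρι s⟩
  -- finite type
  obtain ⟨B₀, hB₀fg, hB₀A⟩ := exists_subalgebra_of_fg R S A
    (Algebra.FiniteType.out) (Module.Finite.fg_top)
  haveI : Module.Finite B₀ A := ⟨hB₀A⟩
  haveI : Module.Finite B₀ S := Module.Finite.of_surjective (ρ.restrictScalars B₀) hρsurj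
  haveI : Algebra.FiniteType R B₀ := ⟨B₀.fg_top.2 hB₀fg⟩
  have hSft : Algebra.FiniteType R S := Algebra.FiniteType.trans (S := B₀) inferInstance inferInstance
  -- finite presentation
  obtain ⟨m, f, hf⟩ := Algebra.FiniteType.iff_quotient_mvPolynomial''.1 hSft
  letI algPS : Algebra (MvPolynomial (Fin m) R) S := f.toRingHom.toAlgebra
  letI algPA : Algebra (MvPolynomial (Fin m) R) A := ((S.val.comp f).toRingHom).toAlgebra
  haveI : IsScalarTower R (MvPolynomial (Fin m) R) S :=
    IsScalarTower.of_algebraMap_eq' f.comp_algebraMap.symm
  haveI : IsScalarTower R (MvPolynomial (Fin m) R) A :=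
    IsScalarTower.of_algebraMap_eq' (S.val.comp f).comp_algebraMap.symm
  haveI : IsScalarTower (MvPolynomial (Fin m) R) S A := IsScalarTower.of_algebraMap_eq' rfl
  haveI : Algebra.FinitePresentation (MvPolynomial (Fin m) R) A :=
    Algebra.FinitePresentation.of_restrict_scalars_finitePresentation R (MvPolynomial (Fin m) R) A
  haveI : Module.Finite (MvPolynomial (Fin m) R) S :=
    Module.Finite.of_surjective (Algebra.linearMap (MvPolynomial (Fin m) R) S) hf
  haveI : Module.Finite (MvPolynomial (Fin m) R) A := Module.Finite.trans S A
  haveI : Module.FinitePresentation (MvPolynomial (Fin m) R) A :=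
    Module.FinitePresentation.of_finite_of_finitePresentation (MvPolynomial (Fin m) R) A
  have hker : (LinearMap.ker (ρ.restrictScalars (MvPolynomial (Fin m) R))).FG := by
    have : LinearMap.ker (ρ.restrictScalars (MvPolynomial (Fin m) R)) =
        LinearMap.range (LinearMap.id - ((Algebra.linearMap S A).restrictScalars (MvPolynomial (Fin m) R)).comp
          (ρ.restrictScalars (MvPolynomial (Fin m) R))) := by
      ext x
      constructor
      · intro hx
        refine ⟨x, ?_⟩
        have hx' : ρ x = 0 := hx
        show x - algebraMap S A (ρ x) = x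
        rw [hx', map_zero, sub_zero]
      · rintro ⟨y, rfl⟩
        show ρ (y - ((ρ y : S) : A)) = 0
        rw [map_sub, hρι, sub_self]
    rw [this, LinearMap.range_eq_map]
    exact Module.Finite.fg_top.map _
  haveI : Module.FinitePresentation (MvPolynomial (Fin m) R) S :=
    Module.finitePresentation_of_surjective (ρ.restrictScalars (MvPolynomial (Fin m) R)) hρsurj hker
  have hkerfg : (LinearMap.ker (Algebra.linearMap (MvPolynomial (Fin m) R) S)).FG :=
    Module.FinitePresentation.fg_ker _ hf
  refine Algebra.FinitePresentation.of_surjective hf ?_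
  have : RingHom.ker f.toRingHom = LinearMap.ker (Algebra.linearMap (MvPolynomial (Fin m) R) S) := by
    ext x
    rfl
  rw [this]
  exact hkerfg

end Groth.Agent.S18889
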