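import Groth.Statements.S18890
import Mathlib

set_option autoImplicit false
universe u v w w'
open CAlg

namespace Groth.Agent.S18890

/-- Let R be a commutative ring, G a finite group whose order is invertible in R, M an R-module with an
R-linear action ρ of G and N an arbitrary R-module. Then the natural map M^G ⊗_R N → M ⊗_R N induced
by the inclusion of the invariants is injective, and its image is the submodule of invariants of M
⊗_R N under the action ρ ⊗ 1 (G acting on the first factor). (The source lets G be a group of
R-automorphisms of M; a possibly non-faithful linear action changes nothing.) -/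
theorem result {R : Type u} [CommRing R]
    {G : Type v} [Group G] [Finite G] (hG : IsUnit ((Nat.card G : ℕ) : R))
    {M : Type w} {N : Type w'} [AddCommGroup M] [Module R M] [AddCommGroup N] [Module R N]
    (ρ : Representation R G M) :
    Function.Injective (LinearMap.rTensor N ρ.invariants.subtype) ∧
      LinearMap.range (LinearMap.rTensor N ρ.invariants.subtype) =
        (ρ.tprod (Representation.trivial R G N)).invariants := by
  classical
  haveI : Fintype G := Fintype.ofFinite G
  obtain ⟨u, hu⟩ := hG.exists_left_inv
  -- the Reynolds operator
  set e : M →ₗ[R] M := u • ∑ g : G, ρ g with he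
  have hcard : ((Nat.card G : ℕ) : R) = ((Fintype.card G : ℕ) : R) := by
    rw [Nat.card_eq_fintype_card]
  have he_inv : ∀ m ∈ ρ.invariants, e m = m := by
    intro m hm
    rw [he, LinearMap.smul_apply, LinearMap.sum_apply]
    rw [Finset.sum_congr rfl (fun g _ => (Representation.mem_invariants ρ m).mp hm g)]
    rw [Finset.sum_const, Finset.card_univ, ← Nat.cast_smul_eq_nsmul R, smul_smul, ← hcard, hu,
      one_smul]
  have he_mem : ∀ m : M, e m ∈ ρ.invariants := by
    intro m
    rw [Representation.mem_invariants]
    intro h
    rw [he, LinearMap.smul_apply, LinearMap.sum_apply, map_smul, map_sum]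
    congr 1
    have : ∀ g : G, ρ h (ρ g m) = ρ (h * g) m := by
      intro g
      rw [map_mul]
      rfl
    rw [Finset.sum_congr rfl (fun g _ => this g)]
    exact Fintype.sum_bijective (fun g => h * g) (Group.mulLeft_bijective h) _ _ (fun g => rfl)
  let r : M →ₗ[R] ρ.invariants := e.codRestrict ρ.invariants he_mem
  have hr_incl : r.comp ρ.invariants.subtype = LinearMap.id := by
    ext ⟨m, hm⟩
    exact he_inv m hm
  have hincl_r : ρ.invariants.subtype.comp r = e := by
    ext m
    rfl
  have hinj : Function.Injective (LinearMap.rTensor N ρ.invariants.subtype) := by
    have h1 : (LinearMap.rTensor N r).comp (LinearMap.rTensor N ρ.invariants.subtype) =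
        LinearMap.id := by
      rw [← LinearMap.rTensor_comp, hr_incl, LinearMap.rTensor_id]
    exact Function.LeftInverse.injective (g := LinearMap.rTensor N r)
      (fun z => by
        have := congrArg (fun f => f z) h1
        simpa using this)
  refine ⟨hinj, ?_⟩
  apply le_antisymm
  · rintro _ ⟨z, rfl⟩
    rw [Representation.mem_invariants]
    intro g
    induction z using TensorProduct.induction_on with
    | zero => simp
    | tmul m n =>
      simp only [LinearMap.rTensor_tmul, Submodule.subtype_apply, Representation.tprod_apply,
        TensorProduct.map_tmul, Representation.trivial_apply]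
      rw [(Representation.mem_invariants ρ m.1).mp m.2 g]
    | add x y hx hy => rw [map_add, map_add, hx, hy]
  · intro z hz
    rw [Representation.mem_invariants] at hz
    have h1 : LinearMap.rTensor N e z = z := by
      rw [he, LinearMap.rTensor_smul, LinearMap.smul_apply]
      have h2 : LinearMap.rTensor N (∑ g : G, ρ g) = ∑ g : G, LinearMap.rTensor N (ρ g) :=
        map_sum (LinearMap.rTensorHom N) _ _
      rw [h2, LinearMap.sum_apply]
      have h3 : ∀ g : G, LinearMap.rTensor N (ρ g) z = z := by
        intro g
        have := hz g
        simpa [Representation.tprod_apply, LinearMap.rTensor] using this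
      rw [Finset.sum_congr rfl (fun g _ => h3 g), Finset.sum_const, Finset.card_univ,
        ← Nat.cast_smul_eq_nsmul R, smul_smul, ← hcard, hu, one_smul]
    rw [← h1, ← hincl_r, LinearMap.rTensor_comp]
    exact ⟨_, rfl⟩

end Groth.Agent.S18890
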