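import Groth.Statements.S18891
import Mathlib


set_option autoImplicit false
universe u
open CategoryTheory CategoryTheory.Limits AlgebraicGeometry
open Mor

namespace Groth.Agent.S18891

/-- Let f : X → Y be a morphism of schemes which is proper and formally unramified, and such that for
every algebraically closed field Ω the map X(Ω) → Y(Ω), g ↦ g ≫ f, is injective. Then f is a closed
immersion. -/
theorem result {X Y : Scheme.{u}} (f : X ⟶ Y)
    [IsProper f] [FormallyUnramified f]
    (hinj : ∀ (Ω : Type u) [Field Ω] [IsAlgClosed Ω],
      Function.Injective (fun g : Spec (CommRingCat.of Ω) ⟶ X => g ≫ f)) :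
    IsClosedImmersion f := by
  have hsurj : Surjective (pullback.diagonal f) := by
    rw [surjective_iff]
    intro z
    let K := (pullback f f).residueField z
    let Ω := AlgebraicClosure K
    let ψ : Spec (CommRingCat.of Ω) ⟶ Spec K :=
      Spec.map (CommRingCat.ofHom (algebraMap K Ω))
    let φ := ψ ≫ (pullback f f).fromSpecResidueField z
    have hφ₁ : φ ≫ pullback.fst f f = φ ≫ pullback.snd f f :=
      hinj Ω (by simp [pullback.condition])
    have hφ₂ : φ = (φ ≫ pullback.fst f f) ≫ pullback.diagonal f := by
      apply pullback.hom_ext
      · simp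
      · simp [hφ₁]
    obtain ⟨w⟩ : Nonempty (Spec (CommRingCat.of Ω)) := inferInstance
    refine ⟨(φ ≫ pullback.fst f f) w, ?_⟩
    rw [← Scheme.Hom.comp_apply, ← hφ₂]
    show ((pullback f f).fromSpecResidueField z) (ψ w) = z
    exact Scheme.fromSpecResidueField_apply _ _
  haveI : IsOpenImmersion (pullback.diagonal f) := inferInstance
  haveI : IsIso (pullback.diagonal f) := by
    haveI : Epi (pullback.diagonal f).base := by
      rw [TopCat.epi_iff_surjective]
      exact hsurj.1
    exact IsOpenImmersion.isIso _
  haveI : Mono f := (pullback.isIso_diagonal_iff f).mp inferInstance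
  exact (IsClosedImmersion.iff_isProper_and_mono f).mpr ⟨inferInstance, inferInstance⟩


end Groth.Agent.S18891
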