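import Groth.Statements.S18899
import Mathlib

set_option autoImplicit false
universe u v w
open CAlg

namespace Groth.Agent.S18899

open Polynomial in
/-- Let A be a commutative ring on which a finite group G acts by ring automorphisms, with ring of
invariants A^G, and let K be a field. If two ring homomorphisms f₁, f₂ : A → K have the same
restriction to A^G, then f₂ = f₁ ∘ γ for some γ ∈ G. -/
theorem result {A : Type u} [CommRing A] {G : Type v} [Group G] [Finite G]
    [MulSemiringAction G A] {K : Type w} [Field K] (f₁ f₂ : A →+* K)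
    (h : ∀ a : A, (∀ g : G, g • a = a) → f₁ a = f₂ a) :
    ∃ γ : G, ∀ a : A, f₂ a = f₁ (γ • a) := by
  classical
  have : Fintype G := Fintype.ofFinite G
  by_contra hcon
  push Not at hcon
  choose a ha using hcon
  -- an enumeration of `G`
  let idx : G → ℕ := fun g => (Fintype.equivFin G g : ℕ)
  have hidx : Function.Injective idx := fun g g' hgg' =>
    (Fintype.equivFin G).injective (Fin.ext hgg')
  let b : A[X] := ∑ γ : G, Polynomial.monomial (idx γ) (a γ)
  have hbcoeff : ∀ g : G, b.coeff (idx g) = a g := by
    intro g
    simp only [b, Polynomial.finsetSum_coeff, Polynomial.coeff_monomial]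
    rw [Finset.sum_eq_single g]
    · simp
    · intro γ _ hγ
      rw [if_neg]
      intro h'
      exact hγ (hidx h')
    · intro h'; exact absurd (Finset.mem_univ g) h'
  let Q : A[X][X] := MulSemiringAction.charpoly G b
  have hQcoeff : ∀ (n k : ℕ) (g : G), g • (Q.coeff n).coeff k = (Q.coeff n).coeff k := by
    intro n k g
    rw [← Polynomial.coeff_smul, MulSemiringAction.smul_coeff_charpoly]
  have hQmap : Q.map (Polynomial.mapRingHom f₁) = Q.map (Polynomial.mapRingHom f₂) := by
    ext n k
    simp only [Polynomial.coeff_map, Polynomial.coe_mapRingHom]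
    exact h _ (fun g => hQcoeff n k g)
  have h0 : (Q.map (Polynomial.mapRingHom f₂)).eval (b.map f₂) = 0 := by
    have : b.map f₂ = Polynomial.mapRingHom f₂ b := rfl
    rw [this, Polynomial.eval_map, Polynomial.eval₂_at_apply,
      MulSemiringAction.eval_charpoly, map_zero]
  rw [← hQmap] at h0
  have h1 : (Q.map (Polynomial.mapRingHom f₁)).eval (b.map f₂)
      = ∏ g : G, (b.map f₂ - (g • b).map f₁) := by
    simp only [Q, MulSemiringAction.charpoly_eq, Polynomial.map_prod, Polynomial.eval_prod,
      Polynomial.map_sub, Polynomial.map_X, Polynomial.map_C, Polynomial.eval_sub,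
      Polynomial.eval_X, Polynomial.eval_C, Polynomial.coe_mapRingHom]
  rw [h1, Finset.prod_eq_zero_iff] at h0
  obtain ⟨g, _, hg⟩ := h0
  have h2 := congrArg (fun p => p.coeff (idx g)) (sub_eq_zero.mp hg)
  simp only [Polynomial.coeff_map, Polynomial.coeff_smul, hbcoeff] at h2
  exact ha g h2

end Groth.Agent.S18899
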