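import Groth.Statements.S18916
import Groth.Agent.Lib.Lead.IsoPt
import Groth.Agent.S16484

set_option autoImplicit false
universe u
open CategoryTheory CategoryTheory.Limits AlgebraicGeometry
open TFNodal

namespace Groth.Agent.S18916

/-- Let k be an algebraically closed field of characteristic zero, X a reduced proper curve over k (a
proper k-scheme of dimension one) without isolated points (no closed point is open, i.e. X is
one-dimensional at every point) and F a coherent O_X-module. Then the dual 𝓗om(F, O_X) is torsion
free: no closed point of X is an associated point of it. -/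
theorem result
    (k : Type u) [Field k] [IsAlgClosed k] [CharZero k]
    (X : Scheme.{u}) [X.Over (Spec (CommRingCat.of k))] [IsProper (X ↘ Spec (CommRingCat.of k))]
    [AlgebraicGeometry.IsReduced X] (hdim : topologicalKrullDim X = 1)
    (hpure : ∀ x : X, IsClosed ({x} : Set X) → ¬ IsOpen ({x} : Set X))
    (F : X.Modules) (hF : Coh.IsCoh F) (x : X) (hx : IsClosed ({x} : Set X)) :
    ¬ Curv2.IsAssPoint (RefHull.dual F) x := by
  haveI : IsLocallyNoetherian X :=
    LocallyOfFiniteType.isLocallyNoetherian (X ↘ Spec (CommRingCat.of k))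
  haveI : CompactSpace X :=
    QuasiCompact.compactSpace_of_compactSpace (X ↘ Spec (CommRingCat.of k))
  haveI : IsNoetherian X := ⟨⟩
  have hnf : ¬ IsField (X.presheaf.stalk x) := fun hfield =>
    hpure x hx (Groth.Agent.Lead.IsoPt.isOpen_singleton_of_isField x hx hfield)
  rintro ⟨hprime, θ, hθ⟩
  have hinj := Groth.Agent.S16484.result X F (Coh.structureModule X) hF.2 x
  have hθ0 : θ ≠ 0 := by
    intro h0
    apply hprime.ne_top
    rw [hθ, h0, eq_top_iff]
    intro r _
    rw [Ideal.mem_radical_iff]
    refine ⟨1, ?_⟩
    rw [Submodule.mem_colon_singleton, smul_zero]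
    exact Submodule.zero_mem _
  have hφ0 : RefHull.evalStalk F (Coh.structureModule X) x θ ≠ 0 := by
    intro h0
    apply hθ0
    apply hinj
    rw [h0, map_zero]
  obtain ⟨v, hv⟩ : ∃ v, RefHull.evalStalk F (Coh.structureModule X) x θ v ≠ 0 := by
    by_contra hcon
    push Not at hcon
    exact hφ0 (LinearMap.ext hcon)
  apply hv
  apply (Groth.Agent.Helper13.WeakAss.unitStalkEquiv x).injective
  rw [map_zero]
  apply Groth.Agent.Lead.IsoPt.eq_zero_of_forall_pow_mul_eq_zero hnf
  intro r hr
  rw [hθ, Ideal.mem_radical_iff] at hr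
  obtain ⟨n, hn⟩ := hr
  rw [Submodule.mem_colon_singleton, Submodule.mem_bot] at hn
  refine ⟨n, ?_⟩
  rw [← smul_eq_mul, ← map_smul, ← LinearMap.smul_apply, ← map_smul, hn, map_zero,
    LinearMap.zero_apply, map_zero]

end Groth.Agent.S18916
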