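import Groth.Statements.S18918
import Groth.Agent.Lib.Helper23.CardHom1

set_option autoImplicit false
universe u
open CategoryTheory CategoryTheory.Limits AlgebraicGeometry
open FEt

namespace Groth.Agent.S18918

/-- Let f : X → Y be a finite étale morphism of degree n (f_*O_X locally free of rank n) and φ : X' → Y
a morphism from a nonempty connected scheme X'. Then the Y-morphisms X' → X (equivalently, the
sections of X ×_Y X' → X') form a finite set with at most n elements, and there are exactly n of
them if and only if the covering X ×_Y X' → X' is trivial, i.e. X ×_Y X' is isomorphic over X' to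
the disjoint union of n copies of X'. The source works with separated Noetherian schemes over an
algebraically closed field of characteristic zero; that setting is not needed for the statement. -/
theorem result
    {X Y X' : Scheme.{u}} (f : X ⟶ Y) [IsFinite f] [Etale f] (n : ℕ)
    (hdeg : FlatMod.IsFinLocFreeOfRank n ((Scheme.Modules.pushforward f).obj (Coh.structureModule X)))
    (φ : X' ⟶ Y) [Nonempty X'] [ConnectedSpace X'] :
    Finite (Over.mk φ ⟶ Over.mk f) ∧ Nat.card (Over.mk φ ⟶ Over.mk f) ≤ n ∧
      (Nat.card (Over.mk φ ⟶ Over.mk f) = n ↔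
        ∃ e : pullback f φ ≅ ∐ fun _ : Fin n => X',
          e.hom ≫ Sigma.desc (fun _ : Fin n => 𝟙 X') = pullback.snd f φ) := by
  classical
  haveI : IsAffineHom f := inferInstance
  have hn : ∀ y, f.finrank y = n :=
    ((Groth.Agent.Helper28.FinrankKey.isCover_iff f n).2 ⟨inferInstance, hdeg⟩).2
  obtain ⟨Ω, _, _, ω, -⟩ :=
    Groth.Agent.Helper23.FibColim.exists_geomPoint X' (Classical.arbitrary X')
  obtain ⟨hfin, hle⟩ := Groth.Agent.Helper23.CardHom.finite_hom f φ ω n hn
  have hcard : Nat.card (Over.mk φ ⟶ Over.mk f) =
      Nat.card (Groth.Agent.Helper23.CardHom.T X' ⟶ Groth.Agent.Helper23.CardHom.W f φ) :=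
    Nat.card_congr (Groth.Agent.Helper23.CardHom.homEquiv f φ)
  refine ⟨Finite.of_equiv _ (Groth.Agent.Helper23.CardHom.homEquiv f φ).symm, hcard ▸ hle, ?_⟩
  rw [hcard]
  constructor
  · intro hc
    exact Groth.Agent.Helper23.CardHom.exists_split f φ ω hn hc
  · rintro ⟨e, he⟩
    obtain ⟨σ, hσ⟩ := Groth.Agent.Helper23.CardHom.exists_injective_of_split f φ e he
    apply le_antisymm hle
    have := Nat.card_le_card_of_injective σ hσ
    simpa using this

end Groth.Agent.S18918
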