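import Groth.Statements.S18925
import Mathlib
-- import your own Groth.Agent.* helpers here

set_option autoImplicit false
universe u
open ResHyp

namespace Groth.Agent.S18925

section
open Polynomial

lemma card_preimage {V W : Type*} [AddCommGroup V] [AddCommGroup W] [Fintype V] [Fintype W]
    [DecidableEq V] [DecidableEq W]
    (Φ : V →+ W) (hΦ : Function.Surjective Φ) (P : W → Prop) [DecidablePred P] :
    (Finset.univ.filter (fun v => P (Φ v))).card * Fintype.card W =
      Fintype.card V * (Finset.univ.filter P).card := by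
  classical
  let s := Function.surjInv hΦ
  have hs : ∀ w, Φ (s w) = w := Function.surjInv_eq hΦ
  let e : V ≃ W × Φ.ker :=
    { toFun := fun v => (Φ v, ⟨v - s (Φ v), by simp [AddMonoidHom.mem_ker, hs]⟩)
      invFun := fun x => s x.1 + x.2
      left_inv := fun v => by simp
      right_inv := fun ⟨w, k⟩ => by
        have hk : Φ (k : V) = 0 := k.2
        ext
        · simp [hs, hk]
        · simp [hs, hk] }
  have h1 : Fintype.card V = Fintype.card W * Fintype.card Φ.ker := by
    rw [Fintype.card_congr e, Fintype.card_prod]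
  have h2 : (Finset.univ.filter (fun v => P (Φ v))).card =
      (Finset.univ.filter P).card * Fintype.card Φ.ker := by
    rw [← Fintype.card_subtype, ← Fintype.card_subtype, ← Fintype.card_prod]
    refine Fintype.card_congr ?_
    refine (e.subtypeEquiv (p := fun v => P (Φ v)) (q := fun x => P x.1) (fun v => Iff.rfl)).trans ?_
    exact Equiv.prodSubtypeFstEquivSubtypeProd
  rw [h1, h2]; ring

variable {F : Type u} [Field F]

/-- coefficient vector to polynomial -/
noncomputable def toPoly (k : ℕ) (b : Fin (k+1) → F) : F[X] :=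
  ∑ j : Fin (k+1), C (b j) * X ^ (j : ℕ)

lemma toPoly_coeff (k : ℕ) (b : Fin (k+1) → F) (i : ℕ) :
    (toPoly k b).coeff i = if h : i < k+1 then b ⟨i,h⟩ else 0 := by
  unfold toPoly
  rw [finsetSum_coeff]
  simp only [coeff_C_mul, coeff_X_pow]
  split_ifs with h
  · rw [Finset.sum_eq_single ⟨i, h⟩]
    · simp
    · intro j _ hj
      have : i ≠ (j : ℕ) := fun e => hj (Fin.ext e.symm)
      simp [this]
    · simp
  · apply Finset.sum_eq_zero
    intro j _
    have : i ≠ (j : ℕ) := fun e => h (e ▸ j.2)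
    simp [this]

lemma toPoly_natDegree_le (k : ℕ) (b : Fin (k+1) → F) : (toPoly k b).natDegree ≤ k := by
  rw [natDegree_le_iff_coeff_eq_zero]
  intro N hN
  rw [toPoly_coeff, dif_neg (by omega)]

lemma toPoly_coeffs (k : ℕ) (g : F[X]) (hg : g.natDegree ≤ k) :
    toPoly k (fun j => g.coeff j) = g := by
  ext i
  rw [toPoly_coeff]
  split_ifs with h
  · rfl
  · exact (coeff_eq_zero_of_natDegree_lt (by omega)).symm

lemma toPoly_add (k : ℕ) (b b' : Fin (k+1) → F) :
    toPoly k (b + b') = toPoly k b + toPoly k b' := by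
  simp [toPoly, Finset.sum_add_distrib, add_mul]

lemma res21 (a : Fin 3 → F) (r : Fin 2 → F) :
    resultant (toPoly 2 a) (toPoly 1 r) 2 1 = a 2 * r 0 ^ 2 - a 1 * r 0 * r 1 + a 0 * r 1 ^ 2 := by
  unfold resultant
  have h3 : ∀ M : Matrix (Fin (2+1)) (Fin (2+1)) F, M.det = M 0 0 * M 1 1 * M 2 2 - M 0 0 * M 1 2 * M 2 1 - M 0 1 * M 1 0 * M 2 2 + M 0 1 * M 1 2 * M 2 0 + M 0 2 * M 1 0 * M 2 1 - M 0 2 * M 1 1 * M 2 0 := fun M => Matrix.det_fin_three M
  rw [h3]
  have e0 : (0 : Fin (2+1)) = Fin.castAdd 1 (0 : Fin 2) := rfl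
  have e1 : (1 : Fin (2+1)) = Fin.castAdd 1 (1 : Fin 2) := rfl
  have e2 : (2 : Fin (2+1)) = Fin.natAdd 2 (0 : Fin 1) := rfl
  simp only [sylvester, Matrix.of_apply]
  rw [e0, e1, e2]
  simp only [Fin.addCases_left, Fin.addCases_right, toPoly_coeff]
  simp
  ring

/-- the quadratic form attached to `a`, evaluated at `r`. -/
def Q (a : Fin 3 → F) (r : Fin 2 → F) : F := a 2 * r 0 ^ 2 - a 1 * r 0 * r 1 + a 0 * r 1 ^ 2

/-- case deg 2: reduction. -/
lemma res_deg2 (k : ℕ) (a : Fin 3 → F) (ha : a 2 ≠ 0) (b : Fin (k+2+1) → F) :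
    resultant (toPoly 2 a) (toPoly (k+2) b) 2 (k+2) ≠ 0 ↔
      Q a (fun i : Fin 2 => ((toPoly (k+2) b) %ₘ (C (a 2)⁻¹ * toPoly 2 a)).coeff i) ≠ 0 := by
  set f := toPoly 2 a with hf
  set g := toPoly (k+2) b with hg
  have hfd : f.natDegree ≤ 2 := toPoly_natDegree_le 2 a
  have hc2 : f.coeff 2 = a 2 := by rw [hf, toPoly_coeff]; simp
  have hfd2 : f.natDegree = 2 := by
    refine le_antisymm hfd ?_
    apply le_natDegree_of_ne_zero
    rw [hc2]; exact ha
  have hlc : f.leadingCoeff = a 2 := by rw [leadingCoeff, hfd2, hc2]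
  set f₁ := C (a 2)⁻¹ * f with hf₁
  have hmonic : f₁.Monic := by
    apply monic_C_mul_of_mul_leadingCoeff_eq_one
    rw [hlc]; exact inv_mul_cancel₀ ha
  have hf₁d : f₁.natDegree = 2 := by
    rw [hf₁, natDegree_C_mul (inv_ne_zero ha), hfd2]
  have hne1 : f₁ ≠ 1 := by
    intro h; rw [h] at hf₁d; simp at hf₁d
  obtain ⟨r, hr⟩ : ∃ r, r = g %ₘ f₁ := ⟨_, rfl⟩
  have hrd : r.natDegree ≤ 1 := by
    have := natDegree_modByMonic_lt g hmonic hne1
    rw [hf₁d, ← hr] at this; omega
  have hgd : g.natDegree ≤ k + 2 := toPoly_natDegree_le _ b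
  have hdecomp : g = r + f * (C (a 2)⁻¹ * (g /ₘ f₁)) := by
    have := modByMonic_add_div g f₁
    rw [← hr] at this
    conv_lhs => rw [← this]
    rw [hf₁]; ring
  have hpd : (C (a 2)⁻¹ * (g /ₘ f₁)).natDegree + 2 ≤ k + 2 := by
    rw [natDegree_C_mul (inv_ne_zero ha), natDegree_divByMonic g hmonic, hf₁d]
    omega
  have h1 : resultant f g 2 (k+2) = resultant f r 2 (k+2) := by
    conv_lhs => rw [hdecomp]
    exact resultant_add_mul_right f r _ 2 (k+2) hpd hfd
  have h2 : resultant f r 2 (k+2) = f.coeff 2 ^ (k+1) * resultant f r 2 1 := by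
    have := resultant_add_right_deg f r 2 1 (k+1) hrd
    rw [show 1 + (k+1) = k + 2 by ring] at this
    exact this
  have h3 : r = toPoly 1 (fun i : Fin 2 => r.coeff i) := (toPoly_coeffs 1 r hrd).symm
  have h4 : resultant f r 2 1 = Q a (fun i : Fin 2 => r.coeff i) := by
    conv_lhs => rw [h3]
    rw [hf, res21]; rfl
  rw [h1, h2, h4, hc2, ← hr]
  simp [ha]

lemma toPoly_two (a : Fin 3 → F) : toPoly 2 a = C (a 0) + C (a 1) * X + C (a 2) * X ^ 2 := by
  unfold toPoly
  rw [Fin.sum_univ_three]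
  simp

/-- case deg 1. -/
lemma res_deg1 (n : ℕ) (a : Fin 3 → F) (h2 : a 2 = 0) (h1 : a 1 ≠ 0) (g : F[X])
    (hg : g.natDegree ≤ n) :
    resultant (toPoly 2 a) g 2 n ≠ 0 ↔ g.coeff n ≠ 0 ∧ eval (-(a 0 / a 1)) g ≠ 0 := by
  have hf : toPoly 2 a = C (a 1) * (X + C (a 0 / a 1)) := by
    rw [toPoly_two, h2, mul_add, ← C_mul, mul_div_cancel₀ _ h1]
    simp [add_comm]
  have hfd : (toPoly 2 a).natDegree ≤ 1 := by
    rw [hf]
    refine (natDegree_C_mul_le _ _).trans ?_
    exact natDegree_X_add_C _ |>.le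
  have e1 := resultant_succ_left_deg (toPoly 2 a) g 1 n hfd
  have e2 : resultant (toPoly 2 a) g 1 n = a 1 ^ n * eval (-(a 0 / a 1)) g := by
    rw [hf, resultant_C_mul_left, resultant_X_add_C_left _ _ _ hg]
  have e3 : resultant (toPoly 2 a) g 2 n = (-1) ^ n * g.coeff n * (a 1 ^ n * eval (-(a 0 / a 1)) g) := by
    rw [← e2]; exact e1
  rw [e3]
  simp [h1]

/-- case deg 0. -/
lemma res_deg0 (n : ℕ) (hn : n ≠ 0) (a : Fin 3 → F) (h2 : a 2 = 0) (h1 : a 1 = 0) (g : F[X]) :
    resultant (toPoly 2 a) g 2 n ≠ 0 ↔ a 0 ≠ 0 ∧ g.coeff n ≠ 0 := by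
  have hf : toPoly 2 a = C (a 0) := by
    rw [toPoly_two, h2, h1]; simp
  rw [hf, resultant_C_left]
  simp [hn]
  tauto

lemma f1_monic (a : Fin 3 → F) (ha : a 2 ≠ 0) :
    (C (a 2)⁻¹ * toPoly 2 a).Monic ∧ (C (a 2)⁻¹ * toPoly 2 a).natDegree = 2 := by
  have hfd : (toPoly 2 a).natDegree ≤ 2 := toPoly_natDegree_le 2 a
  have hc2 : (toPoly 2 a).coeff 2 = a 2 := by rw [toPoly_coeff]; simp
  have hfd2 : (toPoly 2 a).natDegree = 2 := by
    refine le_antisymm hfd ?_
    apply le_natDegree_of_ne_zero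
    rw [hc2]; exact ha
  have hlc : (toPoly 2 a).leadingCoeff = a 2 := by rw [leadingCoeff, hfd2, hc2]
  refine ⟨?_, ?_⟩
  · apply monic_C_mul_of_mul_leadingCoeff_eq_one
    rw [hlc]; exact inv_mul_cancel₀ ha
  · rw [natDegree_C_mul (inv_ne_zero ha), hfd2]

open Classical in
/-- number of `b` with nonzero resultant -/
noncomputable def Ncount [Fintype F] (n : ℕ) (a : Fin 3 → F) : ℕ :=
  (Finset.univ.filter (fun b : Fin (n+1) → F =>
    resultant (toPoly 2 a) (toPoly n b) 2 n ≠ 0)).card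

open Classical in
/-- number of nonzero elements -/
noncomputable def mm (F : Type u) [Field F] [Fintype F] : ℕ :=
  (Finset.univ.filter (fun x : F => x ≠ 0)).card

lemma mm_add_one [Fintype F] : mm F + 1 = Fintype.card F := by
  classical
  unfold mm
  rw [Finset.filter_ne' Finset.univ (0 : F), Finset.card_erase_of_mem (Finset.mem_univ _),
    Finset.card_univ]
  have : 0 < Fintype.card F := Fintype.card_pos
  omega

open Classical in
lemma card_nz_nz [Fintype F] :
    (Finset.univ.filter (fun w : F × F => w.1 ≠ 0 ∧ w.2 ≠ 0)).card = mm F * mm F := by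
  rw [← Finset.univ_product_univ,
    Finset.filter_product (s := Finset.univ) (t := Finset.univ) (fun x : F => x ≠ 0)
      (fun x : F => x ≠ 0), Finset.card_product]
  rfl

open Classical in
lemma N_deg2 [Fintype F] (k : ℕ) (a : Fin 3 → F) (ha : a 2 ≠ 0) :
    Ncount (k+2) a * Fintype.card F ^ 2 = Fintype.card F ^ (k+3) *
      (Finset.univ.filter (fun r : Fin 2 → F => Q a r ≠ 0)).card := by
  obtain ⟨hmonic, hd⟩ := f1_monic a ha
  let Φ : (Fin (k+2+1) → F) →+ (Fin 2 → F) := AddMonoidHom.mk'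
    (fun b => fun i : Fin 2 => ((toPoly (k+2) b) %ₘ (C (a 2)⁻¹ * toPoly 2 a)).coeff i)
    (by
      intro b b'
      funext i
      simp only [toPoly_add, add_modByMonic, coeff_add, Pi.add_apply])
  have hΦ : Function.Surjective Φ := by
    intro r
    refine ⟨fun j => (toPoly 1 r).coeff j, ?_⟩
    have h1 : toPoly (k+2) (fun j : Fin (k+2+1) => (toPoly 1 r).coeff j) = toPoly 1 r :=
      toPoly_coeffs _ _ ((toPoly_natDegree_le 1 r).trans (by omega))
    have h2 : (toPoly 1 r) %ₘ (C (a 2)⁻¹ * toPoly 2 a) = toPoly 1 r := by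
      rw [modByMonic_eq_self_iff hmonic]
      rw [degree_eq_natDegree hmonic.ne_zero, hd]
      refine (degree_le_of_natDegree_le (toPoly_natDegree_le 1 r)).trans_lt ?_
      norm_num
    funext i
    change ((toPoly (k+2) (fun j : Fin (k+2+1) => (toPoly 1 r).coeff j)) %ₘ
      (C (a 2)⁻¹ * toPoly 2 a)).coeff i = r i
    rw [h1, h2, toPoly_coeff, dif_pos i.2]
  have := card_preimage Φ hΦ (fun r => Q a r ≠ 0)
  rw [Fintype.card_fun, Fintype.card_fun, Fintype.card_fin, Fintype.card_fin] at this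
  rw [← this]
  congr 2
  unfold Ncount
  congr 1
  apply Finset.filter_congr
  intro b _
  exact res_deg2 k a ha b

lemma toPoly_coeff_last (n : ℕ) (b : Fin (n+1) → F) : (toPoly n b).coeff n = b (Fin.last n) := by
  rw [toPoly_coeff, dif_pos (Nat.lt_succ_self n)]
  rfl

open Classical in
lemma N_deg1 [Fintype F] (k : ℕ) (a : Fin 3 → F) (h2 : a 2 = 0) (h1 : a 1 ≠ 0) :
    Ncount (k+2) a * Fintype.card F ^ 2 = Fintype.card F ^ (k+3) * (mm F * mm F) := by
  set t : F := -(a 0 / a 1) with ht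
  let Φ : (Fin (k+2+1) → F) →+ F × F := AddMonoidHom.mk'
    (fun b => (b (Fin.last (k+2)), eval t (toPoly (k+2) b)))
    (by
      intro b b'
      simp only [toPoly_add, eval_add, Pi.add_apply, Prod.mk_add_mk])
  have hΦ : Function.Surjective Φ := by
    rintro ⟨x, y⟩
    obtain ⟨c, hc⟩ : ∃ c : F, c = y - x * t ^ (k+2) := ⟨_, rfl⟩
    obtain ⟨g, hg⟩ : ∃ g : F[X], g = C x * X ^ (k+2) + C c := ⟨_, rfl⟩
    have hgd : g.natDegree ≤ k + 2 := by
      rw [hg]
      refine (natDegree_add_le _ _).trans (max_le ?_ ?_)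
      · exact natDegree_C_mul_X_pow_le _ _
      · rw [natDegree_C]; exact Nat.zero_le _
    refine ⟨fun j => g.coeff j, ?_⟩
    have h1 : toPoly (k+2) (fun j : Fin (k+2+1) => g.coeff j) = g := toPoly_coeffs _ _ hgd
    change ((fun j : Fin (k+2+1) => g.coeff j) (Fin.last (k+2)),
      eval t (toPoly (k+2) (fun j : Fin (k+2+1) => g.coeff j))) = (x, y)
    rw [h1]
    ext
    · change g.coeff (k+2) = x
      rw [hg, coeff_add, coeff_C_mul, coeff_X_pow_self, coeff_C, if_neg (by omega)]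
      ring
    · change eval t g = y
      rw [hg, eval_add, eval_mul, eval_C, eval_pow, eval_X, eval_C, hc]
      ring
  have := card_preimage Φ hΦ (fun w => w.1 ≠ 0 ∧ w.2 ≠ 0)
  rw [card_nz_nz, Fintype.card_prod, Fintype.card_fun, Fintype.card_fin] at this
  rw [← this, pow_two]
  congr 2
  unfold Ncount
  congr 1
  apply Finset.filter_congr
  intro b _
  rw [res_deg1 (k+2) a h2 h1 _ (toPoly_natDegree_le _ b), toPoly_coeff_last]
  rfl

open Classical in
lemma N_deg0 [Fintype F] (k : ℕ) (a : Fin 3 → F) (h2 : a 2 = 0) (h1 : a 1 = 0) (h0 : a 0 ≠ 0) :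
    Ncount (k+2) a * Fintype.card F = Fintype.card F ^ (k+3) * mm F := by
  let Φ : (Fin (k+2+1) → F) →+ F := AddMonoidHom.mk'
    (fun b => b (Fin.last (k+2)))
    (by
      intro b b'
      simp only [Pi.add_apply])
  have hΦ : Function.Surjective Φ := by
    intro x
    exact ⟨fun _ => x, rfl⟩
  have := card_preimage Φ hΦ (fun w => w ≠ 0)
  rw [Fintype.card_fun, Fintype.card_fin] at this
  rw [mm, ← this]
  congr 2
  unfold Ncount
  congr 1
  apply Finset.filter_congr
  intro b _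
  rw [res_deg0 (k+2) (by omega) a h2 h1, toPoly_coeff_last]
  simp [h0]
  rfl

lemma N_zero [Fintype F] (k : ℕ) (a : Fin 3 → F) (h2 : a 2 = 0) (h1 : a 1 = 0) (h0 : a 0 = 0) :
    Ncount (k+2) a = 0 := by
  classical
  unfold Ncount
  rw [Finset.card_eq_zero, Finset.filter_eq_empty_iff]
  intro b _
  rw [res_deg0 (k+2) (by omega) a h2 h1]
  simp [h0]

open Classical in
lemma card_coord [Fintype F] (k : ℕ) (t : Fin k → Finset F) :
    (Finset.univ.filter (fun a : Fin k → F => ∀ i, a i ∈ t i)).card = ∏ i, (t i).card := by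
  rw [← Fintype.card_piFinset]
  congr 1
  ext a
  simp [Fintype.mem_piFinset]

open Classical in
lemma card_S2 [Fintype F] :
    (Finset.univ.filter (fun a : Fin 3 → F => a 2 ≠ 0)).card = Fintype.card F ^ 2 * mm F := by
  have := card_coord 3 (![Finset.univ, Finset.univ, Finset.univ.filter (fun x : F => x ≠ 0)])
  rw [Fin.prod_univ_three] at this
  simp only [Matrix.cons_val_zero, Matrix.cons_val_one, Matrix.cons_val_two, Matrix.vecHead, Matrix.vecTail, Function.comp_apply, Fin.succ_zero_eq_one, Matrix.cons_val_succ, Finset.card_univ] at this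
  rw [pow_two, mm]
  convert this using 2
  ext a
  simp [Fin.forall_fin_succ]

open Classical in
lemma card_S1 [Fintype F] :
    (Finset.univ.filter (fun a : Fin 3 → F => a 2 = 0 ∧ a 1 ≠ 0)).card = Fintype.card F * mm F := by
  have := card_coord 3 (![Finset.univ, Finset.univ.filter (fun x : F => x ≠ 0), {0}])
  rw [Fin.prod_univ_three] at this
  simp only [Matrix.cons_val_zero, Matrix.cons_val_one, Matrix.cons_val_two, Matrix.vecHead, Matrix.vecTail, Function.comp_apply, Fin.succ_zero_eq_one, Matrix.cons_val_succ, Finset.card_univ,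
    Finset.card_singleton, mul_one] at this
  rw [mm]
  convert this using 2
  ext a
  simp [Fin.forall_fin_succ]
  tauto

open Classical in
lemma card_S0 [Fintype F] :
    (Finset.univ.filter (fun a : Fin 3 → F => a 2 = 0 ∧ a 1 = 0 ∧ a 0 ≠ 0)).card = mm F := by
  have := card_coord 3 (![Finset.univ.filter (fun x : F => x ≠ 0), {0}, {0}])
  rw [Fin.prod_univ_three] at this
  simp only [Matrix.cons_val_zero, Matrix.cons_val_one, Matrix.cons_val_two, Matrix.vecHead, Matrix.vecTail, Function.comp_apply, Fin.succ_zero_eq_one, Matrix.cons_val_succ,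
    Finset.card_singleton, mul_one] at this
  rw [mm]
  convert this using 2
  ext a
  simp [Fin.forall_fin_succ]
  tauto

open Classical in
lemma card_R1 [Fintype F] :
    (Finset.univ.filter (fun r : Fin 2 → F => r 1 ≠ 0)).card = Fintype.card F * mm F := by
  have := card_coord 2 (![Finset.univ, Finset.univ.filter (fun x : F => x ≠ 0)])
  rw [Fin.prod_univ_two] at this
  simp only [Matrix.cons_val_zero, Matrix.cons_val_one, Finset.card_univ] at this
  rw [mm]
  convert this using 2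
  ext a
  simp [Fin.forall_fin_succ]

open Classical in
lemma card_R0 [Fintype F] :
    (Finset.univ.filter (fun r : Fin 2 → F => r 1 = 0 ∧ r 0 ≠ 0)).card = mm F := by
  have := card_coord 2 (![Finset.univ.filter (fun x : F => x ≠ 0), {0}])
  rw [Fin.prod_univ_two] at this
  simp only [Matrix.cons_val_zero, Matrix.cons_val_one, Finset.card_singleton, mul_one] at this
  rw [mm]
  convert this using 2
  ext a
  simp [Fin.forall_fin_succ]
  tauto

lemma Q_add (a a' : Fin 3 → F) (r : Fin 2 → F) : Q (a + a') r = Q a r + Q a' r := by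
  unfold Q
  simp only [Pi.add_apply]
  ring

open Classical in
/-- the count `d(r)` -/
noncomputable def dcount [Fintype F] (r : Fin 2 → F) : ℕ :=
  (Finset.univ.filter (fun a : Fin 3 → F => a 2 ≠ 0 ∧ Q a r ≠ 0)).card

open Classical in
lemma d_case1 [Fintype F] (r : Fin 2 → F) (h1 : r 1 ≠ 0) :
    dcount r * Fintype.card F ^ 2 = Fintype.card F ^ 3 * (mm F * mm F) := by
  let Φ : (Fin 3 → F) →+ F × F := AddMonoidHom.mk'
    (fun a => (a 2, Q a r))
    (by
      intro a a'
      simp only [Q_add, Pi.add_apply, Prod.mk_add_mk])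
  have hΦ : Function.Surjective Φ := by
    rintro ⟨x, y⟩
    refine ⟨![(y - x * r 0 ^ 2) / r 1 ^ 2, 0, x], ?_⟩
    change ((![(y - x * r 0 ^ 2) / r 1 ^ 2, 0, x] : Fin 3 → F) 2,
      Q ![(y - x * r 0 ^ 2) / r 1 ^ 2, 0, x] r) = (x, y)
    ext
    · rfl
    · change Q ![(y - x * r 0 ^ 2) / r 1 ^ 2, 0, x] r = y
      unfold Q
      have e0 : (![(y - x * r 0 ^ 2) / r 1 ^ 2, 0, x] : Fin 3 → F) 0 = (y - x * r 0 ^ 2) / r 1 ^ 2 := rfl
      have e1 : (![(y - x * r 0 ^ 2) / r 1 ^ 2, 0, x] : Fin 3 → F) 1 = 0 := rfl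
      have e2 : (![(y - x * r 0 ^ 2) / r 1 ^ 2, 0, x] : Fin 3 → F) 2 = x := rfl
      rw [e0, e1, e2]
      field_simp
      ring
  have := card_preimage Φ hΦ (fun w => w.1 ≠ 0 ∧ w.2 ≠ 0)
  rw [card_nz_nz, Fintype.card_prod, Fintype.card_fun, Fintype.card_fin] at this
  rw [← this, pow_two]
  rfl

open Classical in
lemma d_case2 [Fintype F] (r : Fin 2 → F) (h1 : r 1 = 0) (h0 : r 0 ≠ 0) :
    dcount r = Fintype.card F ^ 2 * mm F := by
  rw [← card_S2]
  unfold dcount
  congr 1
  apply Finset.filter_congr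
  intro a _
  unfold Q
  rw [h1]
  simp [h0]

lemma d_case3 [Fintype F] (r : Fin 2 → F) (h1 : r 1 = 0) (h0 : r 0 = 0) :
    dcount r = 0 := by
  classical
  unfold dcount
  rw [Finset.card_eq_zero, Finset.filter_eq_empty_iff]
  intro a _
  unfold Q
  rw [h1, h0]
  simp

open Classical in
lemma sum_d [Fintype F] :
    ∑ r : Fin 2 → F, dcount r = Fintype.card F ^ 3 * (mm F * mm F) := by
  set q := Fintype.card F with hq
  set m := mm F with hm
  have hqm : m + 1 = q := mm_add_one
  have hqpos : 0 < q := Fintype.card_pos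
  have key : ∀ r : Fin 2 → F, dcount r * q ^ 2 = q ^ 3 *
      ((if r 1 ≠ 0 then m * m else 0) + (if r 1 = 0 ∧ r 0 ≠ 0 then m * q else 0)) := by
    intro r
    by_cases h1 : r 1 = 0
    · by_cases h0 : r 0 = 0
      · rw [d_case3 r h1 h0]; simp [h1, h0]
      · rw [d_case2 r h1 h0]; simp [h1, h0]; ring
    · rw [d_case1 r h1]; simp [h1]; rfl
  have h1 : (∑ r : Fin 2 → F, dcount r) * q ^ 2 = q ^ 3 * (q * m * (m * m) + m * (m * q)) := by
    rw [Finset.sum_mul, Finset.sum_congr rfl (fun r _ => key r), ← Finset.mul_sum,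
      Finset.sum_add_distrib, ← Finset.sum_filter, ← Finset.sum_filter, Finset.sum_const,
      Finset.sum_const, card_R1, card_R0]
    simp only [smul_eq_mul]
    rfl
  have h2 : q ^ 3 * (q * m * (m * m) + m * (m * q)) = q ^ 3 * (m * m) * q ^ 2 := by
    rw [← hqm]; ring
  rw [h2] at h1
  exact Nat.eq_of_mul_eq_mul_right (by positivity) h1

open Classical in
lemma sum_c [Fintype F] :
    ∑ a : Fin 3 → F, (if a 2 ≠ 0 then
      (Finset.univ.filter (fun r : Fin 2 → F => Q a r ≠ 0)).card else 0) =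
      ∑ r : Fin 2 → F, dcount r := by
  have h1 : ∀ a : Fin 3 → F, (if a 2 ≠ 0 then
      (Finset.univ.filter (fun r : Fin 2 → F => Q a r ≠ 0)).card else 0) =
      ∑ r : Fin 2 → F, (if a 2 ≠ 0 ∧ Q a r ≠ 0 then 1 else 0) := by
    intro a
    by_cases ha : a 2 = 0
    · simp [ha]
    · rw [if_pos ha, Finset.card_filter]
      apply Finset.sum_congr rfl
      intro r _
      simp [ha]
  have h2 : ∀ r : Fin 2 → F, dcount r =
      ∑ a : Fin 3 → F, (if a 2 ≠ 0 ∧ Q a r ≠ 0 then 1 else 0) := by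
    intro r
    unfold dcount
    rw [Finset.card_filter]
  rw [Finset.sum_congr rfl (fun a _ => h1 a), Finset.sum_comm]
  exact Finset.sum_congr rfl (fun r _ => (h2 r).symm)

open Classical in
lemma total [Fintype F] (k : ℕ) :
    ∑ a : Fin 3 → F, Ncount (k+2) a =
      Fintype.card F ^ (k+3) * (mm F * mm F) * (Fintype.card F + 1) := by
  obtain ⟨q, hq⟩ : ∃ q, q = Fintype.card F := ⟨_, rfl⟩
  obtain ⟨m, hm⟩ : ∃ m, m = mm F := ⟨_, rfl⟩
  have hqm : m + 1 = q := by rw [hq, hm]; exact mm_add_one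
  have hqpos : 0 < q := by rw [hq]; exact Fintype.card_pos
  have key : ∀ a : Fin 3 → F, Ncount (k+2) a * q ^ 2 = q ^ (k+3) *
      ((if a 2 ≠ 0 then (Finset.univ.filter (fun r : Fin 2 → F => Q a r ≠ 0)).card else 0) +
       (if a 2 = 0 ∧ a 1 ≠ 0 then m * m else 0) +
       (if a 2 = 0 ∧ a 1 = 0 ∧ a 0 ≠ 0 then m * q else 0)) := by
    intro a
    by_cases h2 : a 2 = 0
    · by_cases h1 : a 1 = 0
      · by_cases h0 : a 0 = 0
        · rw [N_zero k a h2 h1 h0]; simp [h2, h1, h0]
        · have := N_deg0 k a h2 h1 h0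
          rw [← hq, ← hm] at this
          rw [pow_two, ← mul_assoc, this]
          simp [h2, h1, h0]; ring
      · have := N_deg1 k a h2 h1
        rw [← hq, ← hm] at this
        rw [this]; simp [h2, h1]
    · have := N_deg2 k a h2
      rw [← hq] at this
      rw [this]; simp [h2]
  have h1 : (∑ a : Fin 3 → F, Ncount (k+2) a) * q ^ 2 =
      q ^ (k+3) * (q ^ 3 * (m * m) + q * m * (m * m) + m * (m * q)) := by
    rw [Finset.sum_mul, Finset.sum_congr rfl (fun a _ => key a), ← Finset.mul_sum,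
      Finset.sum_add_distrib, Finset.sum_add_distrib, sum_c, sum_d,
      ← Finset.sum_filter, ← Finset.sum_filter, Finset.sum_const,
      Finset.sum_const, card_S1, card_S0, ← hq, ← hm]
    simp only [smul_eq_mul]
  have h2 : q ^ (k+3) * (q ^ 3 * (m * m) + q * m * (m * m) + m * (m * q)) =
      q ^ (k+3) * (m * m) * (q + 1) * q ^ 2 := by
    rw [← hqm]; ring
  rw [h2] at h1
  rw [← hq, ← hm]
  exact Nat.eq_of_mul_eq_mul_right (by positivity) h1

theorem main (F : Type u) [Field F] [Fintype F] (n : ℕ) (h2 : 2 ≤ n) :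
    Nat.card {p : (Fin 3 → F) × (Fin (n + 1) → F) //
      Polynomial.resultant (∑ i : Fin 3, Polynomial.C (p.1 i) * Polynomial.X ^ (i : ℕ))
        (∑ j : Fin (n + 1), Polynomial.C (p.2 j) * Polynomial.X ^ (j : ℕ)) 2 n ≠ 0} =
      Fintype.card F ^ (n + 4) - Fintype.card F ^ (n + 3) - Fintype.card F ^ (n + 2) + Fintype.card F ^ (n + 1) := by
  classical
  obtain ⟨k, rfl⟩ : ∃ k, n = k + 2 := ⟨n - 2, by omega⟩
  have hT : Nat.card {p : (Fin 3 → F) × (Fin (k + 2 + 1) → F) //
      Polynomial.resultant (∑ i : Fin 3, Polynomial.C (p.1 i) * Polynomial.X ^ (i : ℕ))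
        (∑ j : Fin (k + 2 + 1), Polynomial.C (p.2 j) * Polynomial.X ^ (j : ℕ)) 2 (k+2) ≠ 0} =
      ∑ a : Fin 3 → F, Ncount (k+2) a := by
    rw [Nat.card_eq_fintype_card, Fintype.card_subtype, Finset.card_filter,
      Fintype.sum_prod_type]
    apply Finset.sum_congr rfl
    intro a _
    unfold Ncount
    rw [Finset.card_filter]
    rfl
  rw [hT, total]
  obtain ⟨q, hq⟩ : ∃ q, q = Fintype.card F := ⟨_, rfl⟩
  obtain ⟨m, hm⟩ : ∃ m, m = mm F := ⟨_, rfl⟩
  have hqm : m + 1 = q := by rw [hq, hm]; exact mm_add_one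
  have hq2 : 2 ≤ q := by rw [hq]; exact Fintype.one_lt_card
  rw [← hq, ← hm]
  obtain ⟨A, hA⟩ : ∃ A, A = q ^ (k+3) := ⟨_, rfl⟩
  have e4 : q ^ (k + 2 + 4) = A * q ^ 3 := by rw [hA]; ring
  have e3 : q ^ (k + 2 + 3) = A * q ^ 2 := by rw [hA]; ring
  have e2 : q ^ (k + 2 + 2) = A * q := by rw [hA]; ring
  have e1 : q ^ (k + 2 + 1) = A := by rw [hA]
  rw [e4, e3, e2, e1]
  have hle : A * q ^ 2 + A * q ≤ A * q ^ 3 := by
    have : q ^ 2 + q ≤ q ^ 3 := by nlinarith
    calc A * q ^ 2 + A * q = A * (q ^ 2 + q) := by ring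
      _ ≤ A * q ^ 3 := Nat.mul_le_mul_left _ this
  have heq : A * (m * m) * (q + 1) + A * q ^ 2 + A * q = A * q ^ 3 + A := by
    rw [← hqm]; ring
  omega

end

/-- Let F be a finite field with q elements and let n ≥ 2. Count the pairs (f, g) where f is a binary
quadratic form and g a binary form of degree n over F, recorded by their coefficient vectors of
lengths 3 and n + 1 (leading coefficients may vanish), whose resultant — the Sylvester determinant
of the two coefficient vectors with size parameters 2 and n — is nonzero, i.e. f and g have no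
common zero on the projective line. The number of such pairs is q ^ (n + 4) - q ^ (n + 3) - q ^ (n +
2) + q ^ (n + 1). (The source's result is the compactly supported ℓ-adic cohomology of this locus:
one-dimensional of Tate weights n + 4, n + 3, n + 2, n + 1 in degrees 2n + 8, 2n + 7, 2n + 5, 2n + 4
and zero elsewhere; this row keeps only the resulting point count.) -/
theorem result (F : Type u) [Field F] [Fintype F] (n : ℕ) (h2 : 2 ≤ n) :
    Nat.card {p : (Fin 3 → F) × (Fin (n + 1) → F) //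
      Polynomial.resultant (∑ i : Fin 3, Polynomial.C (p.1 i) * Polynomial.X ^ (i : ℕ))
        (∑ j : Fin (n + 1), Polynomial.C (p.2 j) * Polynomial.X ^ (j : ℕ)) 2 n ≠ 0} =
      Fintype.card F ^ (n + 4) - Fintype.card F ^ (n + 3) - Fintype.card F ^ (n + 2) + Fintype.card F ^ (n + 1) := by
  exact Groth.Agent.S18925.main F n h2

end Groth.Agent.S18925
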