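import Groth.Statements.S18924
import Mathlib
import Groth.Agent.S18925
-- import your own Groth.Agent.* helpers here

set_option autoImplicit false
universe u
open ResHyp

namespace Groth.Agent.S18924

section
open Polynomial Groth.Agent.S18925

variable {F : Type u} [Field F]

lemma toPoly_smul (k : ℕ) (s : F) (b : Fin (k+1) → F) :
    toPoly k (s • b) = C s * toPoly k b := by
  simp [toPoly, Finset.mul_sum, mul_assoc]

/-- resultant function on pairs -/
noncomputable def R (n : ℕ) (p : (Fin 3 → F) × (Fin (n+1) → F)) : F :=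
  resultant (toPoly 2 p.1) (toPoly n p.2) 2 n

lemma R_smul (n : ℕ) (s t : F) (p : (Fin 3 → F) × (Fin (n+1) → F)) :
    R n (s • p.1, t • p.2) = s ^ n * t ^ 2 * R n p := by
  unfold R
  have e1 : toPoly 2 (s • p.1) = C s * toPoly 2 p.1 := toPoly_smul 2 s p.1
  have e2 : toPoly n (t • p.2) = C t * toPoly n p.2 := toPoly_smul n t p.2
  rw [e1, e2, resultant_C_mul_left, resultant_C_mul_right]
  ring

/-- the scaling equivalence -/
noncomputable def sc (n : ℕ) (s t : F) (hs : s ≠ 0) (ht : t ≠ 0) :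
    ((Fin 3 → F) × (Fin (n+1) → F)) ≃ ((Fin 3 → F) × (Fin (n+1) → F)) where
  toFun p := (s • p.1, t • p.2)
  invFun p := (s⁻¹ • p.1, t⁻¹ • p.2)
  left_inv p := by
    simp [smul_smul, inv_mul_cancel₀ hs, inv_mul_cancel₀ ht]
  right_inv p := by
    simp [smul_smul, mul_inv_cancel₀ hs, mul_inv_cancel₀ ht]

open Classical in
lemma card_fibre [Fintype F] (j : ℕ) (c : F) (hc : c ≠ 0) :
    (Finset.univ.filter (fun p : (Fin 3 → F) × (Fin (2*j+1+1) → F) => R (2*j+1) p = c)).card =
    (Finset.univ.filter (fun p : (Fin 3 → F) × (Fin (2*j+1+1) → F) => R (2*j+1) p = 1)).card := by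
  symm
  apply Finset.card_equiv (sc (2*j+1) c (c⁻¹ ^ j) hc (pow_ne_zero _ (inv_ne_zero hc)))
  intro p
  simp only [Finset.mem_filter, Finset.mem_univ, true_and]
  change R (2*j+1) p = 1 ↔ R (2*j+1) (c • p.1, c⁻¹ ^ j • p.2) = c
  rw [R_smul]
  have : c ^ (2*j+1) * (c⁻¹ ^ j) ^ 2 = c := by
    rw [← pow_mul, mul_comm j 2, pow_succ, mul_assoc, mul_comm c, ← mul_assoc, ← mul_pow,
      mul_inv_cancel₀ hc, one_pow, one_mul]
  rw [this]
  constructor
  · intro h; rw [h, mul_one]
  · intro h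
    have h2 : c * R (2*j+1) p = c * 1 := by rw [h, mul_one]
    exact mul_left_cancel₀ hc h2

open Classical in
lemma card_ne_zero_eq [Fintype F] (j : ℕ) :
    (Finset.univ.filter (fun p : (Fin 3 → F) × (Fin (2*j+1+1) → F) => R (2*j+1) p ≠ 0)).card =
    mm F * (Finset.univ.filter
      (fun p : (Fin 3 → F) × (Fin (2*j+1+1) → F) => R (2*j+1) p = 1)).card := by
  rw [Finset.card_eq_sum_card_fiberwise (f := R (2*j+1))
    (t := Finset.univ.filter (fun x : F => x ≠ 0))]
  · have : ∀ c ∈ Finset.univ.filter (fun x : F => x ≠ 0),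
        ((Finset.univ.filter (fun p : (Fin 3 → F) × (Fin (2*j+1+1) → F) =>
          R (2*j+1) p ≠ 0)).filter (fun p => R (2*j+1) p = c)).card =
        (Finset.univ.filter
          (fun p : (Fin 3 → F) × (Fin (2*j+1+1) → F) => R (2*j+1) p = 1)).card := by
      intro c hc
      have hc' : c ≠ 0 := (Finset.mem_filter.mp hc).2
      rw [← card_fibre j c hc', Finset.filter_filter]
      congr 1
      apply Finset.filter_congr
      intro p _
      constructor
      · intro h; exact h.2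
      · intro h; exact ⟨by rw [h]; exact hc', h⟩
    rw [Finset.sum_congr rfl this, Finset.sum_const, smul_eq_mul]
    rfl
  · intro p hp
    simpa using hp

theorem main (F : Type u) [Field F] [Fintype F] (n : ℕ)
    (hn : Odd n) (h3 : 3 ≤ n) :
    Nat.card {p : (Fin 3 → F) × (Fin (n + 1) → F) //
      Polynomial.resultant (∑ i : Fin 3, Polynomial.C (p.1 i) * Polynomial.X ^ (i : ℕ))
        (∑ j : Fin (n + 1), Polynomial.C (p.2 j) * Polynomial.X ^ (j : ℕ)) 2 n = 1} =
      Fintype.card F ^ (n + 3) - Fintype.card F ^ (n + 1) := by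
  classical
  obtain ⟨j, rfl⟩ := hn
  obtain ⟨i, rfl⟩ : ∃ i, j = i + 1 := ⟨j - 1, by omega⟩
  have hX : (Finset.univ.filter
      (fun p : (Fin 3 → F) × (Fin (2*(i+1)+1+1) → F) => R (2*(i+1)+1) p ≠ 0)).card =
      ∑ a : Fin 3 → F, Ncount (2*(i+1)+1) a := by
    rw [Finset.card_filter, Fintype.sum_prod_type]
    apply Finset.sum_congr rfl
    intro a _
    unfold Ncount
    rw [Finset.card_filter]
    rfl
  have hk : 2*(i+1)+1 = (2*i+1) + 2 := by ring
  have htot := total (F := F) (2*i+1)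
  rw [← hk] at htot
  rw [htot, card_ne_zero_eq] at hX
  have hT : Nat.card {p : (Fin 3 → F) × (Fin (2*(i+1)+1 + 1) → F) //
      Polynomial.resultant (∑ i : Fin 3, Polynomial.C (p.1 i) * Polynomial.X ^ (i : ℕ))
        (∑ j : Fin (2*(i+1)+1 + 1), Polynomial.C (p.2 j) * Polynomial.X ^ (j : ℕ)) 2
          (2*(i+1)+1) = 1} =
      (Finset.univ.filter
      (fun p : (Fin 3 → F) × (Fin (2*(i+1)+1+1) → F) => R (2*(i+1)+1) p = 1)).card := by
    rw [Nat.card_eq_fintype_card, Fintype.card_subtype]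
    rfl
  rw [hT]
  obtain ⟨q, hq⟩ : ∃ q, q = Fintype.card F := ⟨_, rfl⟩
  obtain ⟨m, hm⟩ : ∃ m, m = mm F := ⟨_, rfl⟩
  have hqm : m + 1 = q := by rw [hq, hm]; exact mm_add_one
  have hq2 : 2 ≤ q := by rw [hq]; exact Fintype.one_lt_card
  rw [← hq, ← hm] at hX
  rw [← hq]
  obtain ⟨Y, hY⟩ : ∃ Y, Y = (Finset.univ.filter
      (fun p : (Fin 3 → F) × (Fin (2*(i+1)+1+1) → F) => R (2*(i+1)+1) p = 1)).card := ⟨_, rfl⟩
  rw [← hY] at hX ⊢
  have hmpos : 0 < m := by omega
  have hY2 : Y = q ^ (2*i+1+3) * m * (q + 1) := by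
    have : m * Y = m * (q ^ (2*i+1+3) * m * (q + 1)) := by rw [hX]; ring
    exact Nat.eq_of_mul_eq_mul_left hmpos this
  rw [hY2]
  obtain ⟨A, hA⟩ : ∃ A, A = q ^ (2*i+1+3) := ⟨_, rfl⟩
  have e3 : q ^ (2*(i+1)+1 + 3) = A * q ^ 2 := by rw [hA]; ring
  have e1 : q ^ (2*(i+1)+1 + 1) = A := by rw [hA]; ring
  rw [e3, e1, ← hA]
  have heq : A * m * (q + 1) + A = A * q ^ 2 := by
    rw [← hqm]; ring
  omega

end

/-- Let F be a finite field with q elements and let n ≥ 3 be odd. Count the pairs (f, g) where f is a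
binary quadratic form and g a binary form of degree n over F, recorded by their coefficient vectors
of lengths 3 and n + 1 (leading coefficients may vanish), whose resultant — the Sylvester
determinant of the two coefficient vectors with size parameters 2 and n — equals 1. The number of
such pairs is q ^ (n + 3) - q ^ (n + 1). (The published statement gives q ^ (n + 3) + q ^ (n + 1);
for q = 3 and n = 3 the count is 648, not 810.) -/
theorem result (F : Type u) [Field F] [Fintype F] (n : ℕ)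
    (hn : Odd n) (h3 : 3 ≤ n) :
    Nat.card {p : (Fin 3 → F) × (Fin (n + 1) → F) //
      Polynomial.resultant (∑ i : Fin 3, Polynomial.C (p.1 i) * Polynomial.X ^ (i : ℕ))
        (∑ j : Fin (n + 1), Polynomial.C (p.2 j) * Polynomial.X ^ (j : ℕ)) 2 n = 1} =
      Fintype.card F ^ (n + 3) - Fintype.card F ^ (n + 1) := by
  exact Groth.Agent.S18924.main F n hn h3

end Groth.Agent.S18924
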