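import Groth.Statements.S18927
import Mathlib

set_option autoImplicit false
universe u v
open W4c6secantcecovers

namespace Groth.Agent.S18927

open TensorProduct in
/-- Let R be a commutative ring, E = R^r the free module with its coordinate basis, S = R[X_1, …, X_r]
(the symmetric algebra of E), and N an R-module carrying R-linear operators φ_j (the action of the
j-th basis vector of E) and an R-bilinear form β with β(φ_j n, m) = β(n, φ_j m) for every j. On (ΛE
⊗ S) ⊗ N — all terms Λ^k(S ⊗ E) ⊗ N of the Scheja–Storch complex at once — let δ be the differential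
sending (e_1 ∧ ⋯ ∧ e_k) ⊗ s ⊗ n to Σ_i (-1)^(i-1) (e_1 ∧ ⋯ ê_i ⋯ ∧ e_k) ⊗ x(e_i) s ⊗ n + Σ_i (-1)^i
(e_1 ∧ ⋯ ê_i ⋯ ∧ e_k) ⊗ s ⊗ e_i · n, and pair a term u = ω ⊗ s ⊗ n of degree k with v = η ⊗ t ⊗ m by
⟨u, v⟩_k = (-1)^(k choose 2) β(n, m) · (ω ∧ η) ⊗ s t. Then the differential is adjoint to itself for
this pairing in complementary degrees: for u = (e_0 ∧ ⋯ ∧ e_k) ⊗ s ⊗ n of degree k + 1 ≤ r and v =
(f_1 ∧ ⋯ ∧ f_(r-k)) ⊗ t ⊗ m of degree r - k, ⟨δ u, v⟩_k = ⟨u, δ v⟩_(k+1). (The source takes E
finitely generated projective and N a module over the ambient algebra with a pairing satisfying ⟨f,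
g h⟩ = ⟨g f, h⟩; the proof runs on a basis, which is the form stated here, with the action of E
recorded by the operators φ_j.) -/
theorem result
    (R : Type u) [CommRing R] (r : ℕ) (N : Type v) [AddCommGroup N] [Module R N]
    (φ : Fin r → (N →ₗ[R] N)) (β : N →ₗ[R] N →ₗ[R] R)
    (hβ : ∀ (j : Fin r) (n m : N), β (φ j n) m = β n (φ j m))
    (k : ℕ) (hk : k < r)
    (e : Fin (k + 1) → (Fin r → R)) (f : Fin (r - k) → (Fin r → R))
    (s t : MvPolynomial (Fin r) R) (n m : N) :
    W4c6secantcecovers.ssPair R r N β k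
        (W4c6secantcecovers.ssDelta R r N φ ((ExteriorAlgebra.ιMulti R (k + 1) e ⊗ₜ[R] s) ⊗ₜ[R] n))
        ((ExteriorAlgebra.ιMulti R (r - k) f ⊗ₜ[R] t) ⊗ₜ[R] m) =
      W4c6secantcecovers.ssPair R r N β (k + 1)
        ((ExteriorAlgebra.ιMulti R (k + 1) e ⊗ₜ[R] s) ⊗ₜ[R] n)
        (W4c6secantcecovers.ssDelta R r N φ ((ExteriorAlgebra.ιMulti R (r - k) f ⊗ₜ[R] t) ⊗ₜ[R] m)) := by
  classical
  -- abbreviations
  obtain ⟨ω, hω⟩ : ∃ ω : W4c6secantcecovers.SSLam R r, ω = ExteriorAlgebra.ιMulti R (k + 1) e := ⟨_, rfl⟩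
  obtain ⟨η, hη⟩ : ∃ η : W4c6secantcecovers.SSLam R r, η = ExteriorAlgebra.ιMulti R (r - k) f := ⟨_, rfl⟩
  rw [← hω, ← hη]
  -- the product of the two wedges vanishes
  have hzero : ω * η = 0 := by
    rw [hω, hη, ExteriorAlgebra.ιMulti_mul_ιMulti]
    have h0 : ExteriorAlgebra.ιMulti R (k + 1 + (r - k)) =
        (0 : (Fin r → R) [⋀^Fin (k + 1 + (r - k))]→ₗ[R] ExteriorAlgebra R (Fin r → R)) := by
      refine Module.Basis.ext_alternating (Pi.basisFun R (Fin r)) (fun w hw => ?_)
      exfalso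
      have h1 := Fintype.card_le_of_injective w hw
      rw [Fintype.card_fin, Fintype.card_fin] at h1
      omega
    rw [h0, AlternatingMap.zero_apply]
  -- the contraction is a graded derivation
  have hder : ∀ (d : Module.Dual R (Fin r → R)) (a : ℕ) (v : Fin a → (Fin r → R))
      (b : ExteriorAlgebra R (Fin r → R)),
      CliffordAlgebra.contractLeft (Q := (0 : QuadraticForm R (Fin r → R))) d
          (ExteriorAlgebra.ιMulti R a v * b) =
        CliffordAlgebra.contractLeft (Q := (0 : QuadraticForm R (Fin r → R))) d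
          (ExteriorAlgebra.ιMulti R a v) * b +
        (-1 : R) ^ a • (ExteriorAlgebra.ιMulti R a v *
          CliffordAlgebra.contractLeft (Q := (0 : QuadraticForm R (Fin r → R))) d b) := by
    intro d a
    induction a with
    | zero =>
      intro v b
      rw [ExteriorAlgebra.ιMulti_zero_apply, one_mul, CliffordAlgebra.contractLeft_one, zero_mul,
        zero_add, pow_zero, one_smul, one_mul]
    | succ a ih =>
      intro v b
      rw [ExteriorAlgebra.ιMulti_succ_apply, mul_assoc]
      have e1 := CliffordAlgebra.contractLeft_ι_mul (Q := (0 : QuadraticForm R (Fin r → R))) d (v 0)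
        (ExteriorAlgebra.ιMulti R a (Matrix.vecTail v) * b)
      have e2 := CliffordAlgebra.contractLeft_ι_mul (Q := (0 : QuadraticForm R (Fin r → R))) d (v 0)
        (ExteriorAlgebra.ιMulti R a (Matrix.vecTail v))
      have e3 := ih (Matrix.vecTail v) b
      erw [e1, e2, e3]
      simp only [mul_add, sub_mul, smul_mul_assoc, mul_smul_comm, mul_assoc, pow_succ, mul_neg,
        mul_one, neg_smul]
      abel
  have hkey : ∀ j : Fin r, W4c6secantcecovers.ssContr R r j ω * η =
      (-1 : R) ^ k • (ω * W4c6secantcecovers.ssContr R r j η) := by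
    intro j
    have h1 := hder (LinearMap.proj (R := R) (φ := fun _ : Fin r => R) j) (k + 1) e η
    rw [← hω, hzero, map_zero] at h1
    have h2 : W4c6secantcecovers.ssContr R r j ω * η +
        (-1 : R) ^ (k + 1) • (ω * W4c6secantcecovers.ssContr R r j η) = 0 := h1.symm
    rw [pow_succ, mul_neg, mul_one, neg_smul] at h2
    exact eq_of_sub_eq_zero (by rw [sub_eq_add_neg]; exact h2)
  -- the pairing on pure tensors
  have hpair : ∀ (c : ℕ) (b b' : W4c6secantcecovers.SSB R r) (n' m' : N),
      W4c6secantcecovers.ssPair R r N β c (b ⊗ₜ[R] n') (b' ⊗ₜ[R] m') =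
        ((-1 : R) ^ (c.choose 2) * β n' m') • (b * b') := by
    intro c b b' n' m'
    simp only [W4c6secantcecovers.ssPair, W4c6secantcecovers.ssPairAux, LinearMap.smul_apply,
      TensorProduct.curry_apply, LinearMap.comp_apply, LinearEquiv.coe_coe,
      TensorProduct.tensorTensorTensorComm_tmul, TensorProduct.map_tmul, LinearMap.mul'_apply,
      TensorProduct.lift.tmul, TensorProduct.rid_tmul, smul_smul]
  -- the differential on pure tensors
  have hdelta : ∀ (ζ : W4c6secantcecovers.SSLam R r) (s' : MvPolynomial (Fin r) R) (n' : N),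
      W4c6secantcecovers.ssDelta R r N φ ((ζ ⊗ₜ[R] s') ⊗ₜ[R] n') =
        ∑ j : Fin r, (((W4c6secantcecovers.ssContr R r j ζ) ⊗ₜ[R] (MvPolynomial.X j * s')) ⊗ₜ[R] n' +
          (-1 : R) • (((W4c6secantcecovers.ssContr R r j ζ) ⊗ₜ[R] s') ⊗ₜ[R] (φ j n'))) := by
    intro ζ s' n'
    simp only [W4c6secantcecovers.ssDelta, W4c6secantcecovers.ssDKoszul, W4c6secantcecovers.ssDAct,
      LinearMap.sum_apply, LinearMap.add_apply, LinearMap.smul_apply, TensorProduct.map_tmul,
      LinearMap.mulLeft_apply, LinearMap.id_coe, id_eq]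
  have hc : (k + 1).choose 2 = k + k.choose 2 := by
    have h := Nat.choose_succ_succ' k 1
    rw [Nat.choose_one_right] at h
    exact h
  rw [hdelta, hdelta, map_sum, map_sum, LinearMap.sum_apply]
  refine Finset.sum_congr rfl (fun j _ => ?_)
  rw [map_add, map_add, LinearMap.add_apply, map_smul, map_smul, LinearMap.smul_apply,
    hpair, hpair, hpair, hpair, Algebra.TensorProduct.tmul_mul_tmul,
    Algebra.TensorProduct.tmul_mul_tmul, Algebra.TensorProduct.tmul_mul_tmul,
    Algebra.TensorProduct.tmul_mul_tmul, hkey j, ← TensorProduct.smul_tmul',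
    ← TensorProduct.smul_tmul', hc, pow_add, hβ j n m]
  have e1 : (MvPolynomial.X j * s * t : MvPolynomial (Fin r) R) = s * (MvPolynomial.X j * t) := by
    ring
  rw [e1]
  simp only [smul_smul]
  congr 2
  · ring
  · ring

end Groth.Agent.S18927
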