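import Groth.Statements.S18928
import Mathlib

set_option autoImplicit false
universe u
open DPow

namespace Groth.Agent.S18928

open Nat in
/-- general version: `(b + δ)^N - b^N ∈ (N) * I`. -/
theorem aux {B : Type u} [CommRing B] {I : Ideal B}
    (hI : DividedPowers I) (N : ℕ) (b δ : B) (hδ : δ ∈ I) :
    (b + δ) ^ N - b ^ N ∈ Ideal.span {((N : ℕ) : B)} * I := by
  rw [add_comm b δ, add_pow, Finset.sum_range_succ']
  simp only [pow_zero, Nat.sub_zero, one_mul, Nat.choose_zero_right, Nat.cast_one, mul_one,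
    add_sub_cancel_right]
  apply Ideal.sum_mem
  intro m _
  -- term: δ^(m+1) * b^(N-(m+1)) * choose N (m+1)
  rw [← hI.factorial_mul_dpow_eq_pow hδ]
  have h1 : ((m + 1)! : B) * hI.dpow (m + 1) δ * b ^ (N - (m + 1)) * ((N.choose (m + 1) : ℕ) : B) =
      ((N.descFactorial (m + 1) : ℕ) : B) * b ^ (N - (m + 1)) * hI.dpow (m + 1) δ := by
    rw [Nat.descFactorial_eq_factorial_mul_choose]
    push_cast
    ring
  rw [h1]
  apply Ideal.mul_mem_mul _ (hI.dpow_mem (Nat.succ_ne_zero m) hδ)
  rw [Ideal.mem_span_singleton]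
  apply Dvd.dvd.mul_right
  rcases Nat.eq_zero_or_pos N with hN | hN
  · subst hN
    simp
  · obtain ⟨N', rfl⟩ : ∃ N', N = N' + 1 := ⟨N - 1, by omega⟩
    rw [Nat.succ_descFactorial_succ]
    push_cast
    exact Dvd.intro _ rfl

/-- Let B be a commutative ring, I an ideal of B with a divided power structure, p a prime, r a natural
number, b an element of B and δ an element of I. Then (b + δ)^(p^r) − b^(p^r) lies in the ideal p^r
I. (The source states this for a divided power thickening over the Witt vectors of length n and 0 ≤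
r ≤ n; neither restriction is used.) -/
theorem result {B : Type u} [CommRing B] {I : Ideal B}
    (hI : DividedPowers I) (p : ℕ) [Fact p.Prime] (r : ℕ) (b δ : B) (hδ : δ ∈ I) :
    (b + δ) ^ (p ^ r) - b ^ (p ^ r) ∈ Ideal.span {((p : B) ^ r)} * I := by
  have := aux hI (p ^ r) b δ hδ
  rwa [Nat.cast_pow] at this

end Groth.Agent.S18928
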