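import Groth.Statements.S18930
import Mathlib


set_option autoImplicit false
universe u
open DPow

namespace Groth.Agent.S18930

/-- Let p be a prime, n ≥ 1, B a commutative ring with p^n = 0 and A = B/pB. Let θ : W_n(A) → B be the
ring homomorphism which sends the reduction of a Witt vector (x_0, …, x_{n−1}) over B to Σ_{i<n} p^i
x_i^(p^(n−i)), let J_n be its kernel and let I_n be the set of a in W_n(A) whose zeroth component
satisfies a_0^(p^n) = 0. Then J_n + (p) ⊆ I_n. (In the source B is the ring of global sections of a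
scheme over the Witt vectors of length n of a perfect field.) -/
theorem result (p : ℕ) [Fact p.Prime] (n : ℕ) (hn : 0 < n)
    {B : Type u} [CommRing B] (hp : (p : B) ^ n = 0)
    (θ : TruncatedWittVector p n (B ⧸ (Ideal.span {(p : B)})) →+* B)
    (hθ : ∀ x : WittVector p B, θ (WittVector.truncate n (WittVector.map (Ideal.Quotient.mk (Ideal.span {(p : B)})) x)) =
        ∑ i : Fin n, (p : B) ^ (i : ℕ) * (x.coeff i) ^ (p ^ (n - i)))
    (a : TruncatedWittVector p n (B ⧸ (Ideal.span {(p : B)})))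
    (ha : a ∈ RingHom.ker θ ⊔ Ideal.span {(p : TruncatedWittVector p n (B ⧸ (Ideal.span {(p : B)})))}) :
    (TruncatedWittVector.coeff ⟨0, hn⟩ a) ^ (p ^ n) = 0 := by
  classical
  obtain ⟨m, rfl⟩ : ∃ m, n = m + 1 := ⟨n - 1, by omega⟩
  obtain ⟨j, hj, z, hz, rfl⟩ := Submodule.mem_sup.1 ha
  obtain ⟨b, rfl⟩ := Ideal.mem_span_singleton'.1 hz
  obtain ⟨J, rfl⟩ := WittVector.truncate_surjective p (m + 1) _ j
  obtain ⟨Bv, rfl⟩ := WittVector.truncate_surjective p (m + 1) _ b
  obtain ⟨x, rfl⟩ := WittVector.map_surjective _ Ideal.Quotient.mk_surjective J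
  have hp0 : ((p : ℕ) : B ⧸ Ideal.span {(p : B)}) = 0 := by
    have : (Ideal.Quotient.mk (Ideal.span {(p : B)})) (p : B) = 0 :=
      Ideal.Quotient.eq_zero_iff_mem.2 (Ideal.subset_span rfl)
    rwa [map_natCast] at this
  have hcoeff : TruncatedWittVector.coeff ⟨0, hn⟩
      (WittVector.truncate (m + 1) (WittVector.map (Ideal.Quotient.mk (Ideal.span {(p : B)})) x) +
        WittVector.truncate (m + 1) Bv * (p : TruncatedWittVector p (m + 1) (B ⧸ Ideal.span {(p : B)}))) =
      Ideal.Quotient.mk (Ideal.span {(p : B)}) (x.coeff 0) := by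
    have h1 : (p : TruncatedWittVector p (m + 1) (B ⧸ Ideal.span {(p : B)})) =
        WittVector.truncate (m + 1) (p : WittVector p (B ⧸ Ideal.span {(p : B)})) := by
      rw [map_natCast]
    rw [h1, ← map_mul, ← map_add, WittVector.coeff_truncate]
    show (WittVector.map (Ideal.Quotient.mk (Ideal.span {(p : B)})) x + Bv * (p : WittVector p _)).coeff 0 = _
    rw [WittVector.add_coeff_zero, WittVector.mul_coeff_zero, WittVector.map_coeff]
    have h2 : (p : WittVector p (B ⧸ Ideal.span {(p : B)})).coeff 0 = 0 := by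
      have := map_natCast (WittVector.constantCoeff (p := p) (R := B ⧸ Ideal.span {(p : B)})) p
      rw [hp0] at this
      exact this
    rw [h2, mul_zero, add_zero]
  rw [hcoeff, ← map_pow, Ideal.Quotient.eq_zero_iff_mem]
  have hθ0 : θ (WittVector.truncate (m + 1)
      (WittVector.map (Ideal.Quotient.mk (Ideal.span {(p : B)})) x)) = 0 := hj
  rw [hθ x, Fin.sum_univ_succ] at hθ0
  simp only [Fin.val_zero, pow_zero, one_mul, Nat.sub_zero] at hθ0
  have : x.coeff 0 ^ p ^ (m + 1) = -∑ i : Fin m, (p : B) ^ ((i.succ : Fin (m + 1)) : ℕ) *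
      x.coeff ((i.succ : Fin (m + 1)) : ℕ) ^ p ^ (m + 1 - ((i.succ : Fin (m + 1)) : ℕ)) :=
    eq_neg_of_add_eq_zero_left hθ0
  rw [this]
  refine Ideal.neg_mem_iff _ |>.2 (Ideal.sum_mem _ fun i _ => ?_)
  refine Ideal.mul_mem_right _ _ ?_
  rw [Fin.val_succ, pow_succ]
  exact Ideal.mul_mem_left _ _ (Ideal.subset_span rfl)


end Groth.Agent.S18930
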