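import Groth.Statements.S18931
import Mathlib


set_option autoImplicit false
universe u
open DPow

namespace Groth.Agent.S18931

/-- Let p be a prime, n ≥ 1, B a commutative ring with p^n = 0 and A = B/pB, and assume that the p-th
power map of A is surjective. Let θ : W_n(A) → B be the ring homomorphism which sends the reduction
of a Witt vector (x_0, …, x_{n−1}) over B to Σ_{i<n} p^i x_i^(p^(n−i)). Then every a in W_n(A) with
a_0^(p^n) = 0 lies in ker θ + (p); together with the reverse inclusion, ker θ + (p) is exactly the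
set of such a. (In the source B is the ring of global sections of a scheme over the Witt vectors of
length n of a perfect field. The printed argument subtracts a single correction term, which suffices
for n ≤ 2; in general one corrects the components one at a time.) -/
theorem result (p : ℕ) [Fact p.Prime]
    (n : ℕ) (hn : 0 < n) {B : Type u} [CommRing B] (hp : (p : B) ^ n = 0)
    (hF : Function.Surjective (fun y : B ⧸ (Ideal.span {(p : B)}) => y ^ p))
    (θ : TruncatedWittVector p n (B ⧸ (Ideal.span {(p : B)})) →+* B)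
    (hθ : ∀ x : WittVector p B, θ (WittVector.truncate n (WittVector.map (Ideal.Quotient.mk (Ideal.span {(p : B)})) x)) =
        ∑ i : Fin n, (p : B) ^ (i : ℕ) * (x.coeff i) ^ (p ^ (n - i)))
    (a : TruncatedWittVector p n (B ⧸ (Ideal.span {(p : B)}))) (ha : (TruncatedWittVector.coeff ⟨0, hn⟩ a) ^ (p ^ n) = 0) :
    a ∈ RingHom.ker θ ⊔ Ideal.span {(p : TruncatedWittVector p n (B ⧸ (Ideal.span {(p : B)})))} := by
  classical
  obtain ⟨m, rfl⟩ : ∃ m, n = m + 1 := ⟨n - 1, by omega⟩
  -- trivial quotient ring
  by_cases hsub : Subsingleton (B ⧸ Ideal.span {(p : B)})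
  · have : a = 0 := by
      ext i
      exact Subsingleton.elim _ _
    rw [this]; exact zero_mem _
  rw [not_subsingleton_iff_nontrivial] at hsub
  have hp0 : ((p : ℕ) : B ⧸ Ideal.span {(p : B)}) = 0 := by
    have : (Ideal.Quotient.mk (Ideal.span {(p : B)})) (p : B) = 0 :=
      Ideal.Quotient.eq_zero_iff_mem.2 (Ideal.subset_span rfl)
    rwa [map_natCast] at this
  haveI : CharP (B ⧸ Ideal.span {(p : B)}) p :=
    (CharP.charP_iff_prime_eq_zero (Fact.out : p.Prime)).2 hp0
  -- value of θ on Teichmüller representatives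
  have hθT : ∀ y : B, θ (WittVector.truncate (m + 1)
      (WittVector.map (Ideal.Quotient.mk (Ideal.span {(p : B)})) (WittVector.teichmuller p y))) =
      y ^ p ^ (m + 1) := by
    intro y
    rw [hθ, Fin.sum_univ_succ]
    simp only [Fin.val_zero, pow_zero, one_mul, Nat.sub_zero, WittVector.teichmuller_coeff_zero]
    rw [Finset.sum_eq_zero, add_zero]
    intro i _
    rw [WittVector.teichmuller_coeff_pos p y _ (by simp), zero_pow (pow_pos (Fact.out : p.Prime).pos _).ne', mul_zero]
  -- iterated Frobenius is surjective on the quotient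
  have hFN : ∀ N : ℕ, ∀ z : B ⧸ Ideal.span {(p : B)}, ∃ y, y ^ p ^ N = z := by
    intro N
    induction N with
    | zero => intro z; exact ⟨z, by simp⟩
    | succ N ih =>
      intro z
      obtain ⟨y1, hy1⟩ := hF z
      obtain ⟨y, hy⟩ := ih y1
      exact ⟨y, by rw [pow_succ, pow_mul, hy]; exact hy1⟩
  -- θ is surjective
  have hsurjk : ∀ k : ℕ, ∀ b : B, ∃ w, θ w - b ∈ Ideal.span {(p : B) ^ k} := by
    intro k
    induction k with
    | zero => intro b; exact ⟨0, by simp⟩
    | succ k ih =>
      intro b
      obtain ⟨w, hw⟩ := ih b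
      obtain ⟨c, hc⟩ := Ideal.mem_span_singleton'.1 hw
      obtain ⟨y', hy'⟩ := hFN (m + 1) (Ideal.Quotient.mk (Ideal.span {(p : B)}) (-c))
      obtain ⟨y, rfl⟩ := Ideal.Quotient.mk_surjective y'
      rw [← map_pow, Ideal.Quotient.eq, Ideal.mem_span_singleton'] at hy'
      obtain ⟨d, hd⟩ := hy'
      refine ⟨w + (p : TruncatedWittVector p (m + 1) (B ⧸ Ideal.span {(p : B)})) ^ k *
        WittVector.truncate (m + 1) (WittVector.map (Ideal.Quotient.mk (Ideal.span {(p : B)}))
          (WittVector.teichmuller p y)), ?_⟩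
      rw [map_add, map_mul, map_pow, map_natCast, hθT]
      refine Ideal.mem_span_singleton'.2 ⟨d, ?_⟩
      have : θ w = b + c * (p : B) ^ k := by rw [hc]; ring
      rw [this]
      have hd' : y ^ p ^ (m + 1) = d * p - c := by rw [hd]; ring
      rw [hd', pow_succ]
      ring
  have hsurj : ∀ b : B, ∃ w, θ w = b := by
    intro b
    obtain ⟨w, hw⟩ := hsurjk (m + 1) b
    rw [hp, Ideal.span_singleton_zero, Ideal.mem_bot, sub_eq_zero] at hw
    exact ⟨w, hw⟩
  -- decompose `a`
  obtain ⟨ã, rfl⟩ := WittVector.truncate_surjective p (m + 1) _ a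
  have ha0 : (ã.coeff 0) ^ p ^ (m + 1) = 0 := by
    rw [← WittVector.coeff_truncate ã ⟨0, hn⟩]; exact ha
  obtain ⟨x0, hx0⟩ := Ideal.Quotient.mk_surjective (ã.coeff 0)
  have hycoeff : ∀ i < 1, (ã - WittVector.teichmuller p (ã.coeff 0)).coeff i = 0 := by
    intro i hi
    obtain rfl : i = 0 := by omega
    show WittVector.constantCoeff (ã - WittVector.teichmuller p (ã.coeff 0)) = 0
    rw [map_sub]
    show ã.coeff 0 - (WittVector.teichmuller p (ã.coeff 0)).coeff 0 = 0
    rw [WittVector.teichmuller_coeff_zero, sub_self]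
  have hy := WittVector.eq_iterate_verschiebung hycoeff
  rw [Function.iterate_one] at hy
  have hFsurj : Function.Surjective (WittVector.frobenius (p := p) (R := B ⧸ Ideal.span {(p : B)})) := by
    rw [WittVector.frobenius_eq_map_frobenius]
    exact WittVector.map_surjective _ (fun z => hF z)
  obtain ⟨y'', hy''⟩ := hFsurj ((ã - WittVector.teichmuller p (ã.coeff 0)).shift 1)
  rw [← hy'', WittVector.verschiebung_frobenius] at hy
  have hã : ã = WittVector.map (Ideal.Quotient.mk (Ideal.span {(p : B)})) (WittVector.teichmuller p x0) +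
      y'' * p := by
    rw [WittVector.map_teichmuller, hx0, ← hy]; ring
  -- the Teichmüller part
  have hx0p : x0 ^ p ^ (m + 1) ∈ Ideal.span {(p : B)} := by
    rw [← Ideal.Quotient.eq_zero_iff_mem, map_pow, hx0]; exact ha0
  obtain ⟨s, hs⟩ := Ideal.mem_span_singleton'.1 hx0p
  obtain ⟨w, hw⟩ := hsurj s
  have hdecomp : WittVector.truncate (m + 1) ã =
      (WittVector.truncate (m + 1) (WittVector.map (Ideal.Quotient.mk (Ideal.span {(p : B)}))
        (WittVector.teichmuller p x0)) - w * p) +
      (w + WittVector.truncate (m + 1) y'') * p := by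
    conv_lhs => rw [hã]
    rw [map_add, map_mul, map_natCast]
    ring
  rw [hdecomp]
  refine Submodule.add_mem_sup ?_ (Ideal.mem_span_singleton'.2 ⟨_, rfl⟩)
  rw [RingHom.mem_ker, map_sub, map_mul, map_natCast, hθT, hw, hs, sub_self]


end Groth.Agent.S18931
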