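import Groth.Statements.S18932
import Mathlib


set_option autoImplicit false
universe u
open DPow

namespace Groth.Agent.S18932

/-- Let p be a prime, k a perfect field of characteristic p, n a natural number and A a commutative
W_n(k)-algebra, W_n(k) the truncated Witt vectors, which is flat over W_n(k) and whose reduction
A/pA has surjective p-th power map. Let θ : W_n(A/pA) → A be the ring homomorphism which sends the
reduction of a Witt vector (x_0, …, x_{n−1}) over A to Σ_{i<n} p^i x_i^(p^(n−i)). Then θ is
surjective, so A is the quotient of W_n(A/pA) by the kernel of θ. (This is the step of the source's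
proposition establishing that Spec of the divided power envelope of that kernel is a thickening of
Spec A; the assertion that it is a final object of the crystalline site is not stated here.) -/
theorem result (p : ℕ) [Fact p.Prime]
    (k : Type u) [Field k] [CharP k p] [PerfectRing k p] (n : ℕ)
    (A : Type u) [CommRing A] [Algebra (TruncatedWittVector p n k) A] [Module.Flat (TruncatedWittVector p n k) A]
    (hF : Function.Surjective (fun y : A ⧸ (Ideal.span {(p : A)}) => y ^ p))
    (θ : TruncatedWittVector p n (A ⧸ (Ideal.span {(p : A)})) →+* A)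
    (hθ : ∀ x : WittVector p A, θ (WittVector.truncate n (WittVector.map (Ideal.Quotient.mk (Ideal.span {(p : A)})) x)) =
        ∑ i : Fin n, (p : A) ^ (i : ℕ) * (x.coeff i) ^ (p ^ (n - i))) :
    Function.Surjective θ := by
  classical
  -- `p ^ n = 0` in `A`
  have hpW : (p : TruncatedWittVector p n k) ^ n = 0 := by
    have h1 : (p : TruncatedWittVector p n k) ^ n =
        WittVector.truncate n ((p : WittVector p k) ^ n) := by
      rw [map_pow, map_natCast]
    rw [h1]
    ext i
    rw [WittVector.coeff_truncate, WittVector.coeff_p_pow_eq_zero (p := p) (R := k) (hj := ne_of_lt i.2)]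
    exact (TruncatedWittVector.coeff_zero p n k i).symm
  have hp : (p : A) ^ n = 0 := by
    have := congrArg (algebraMap (TruncatedWittVector p n k) A) hpW
    rwa [map_pow, map_natCast, map_zero] at this
  rcases Nat.eq_zero_or_pos n with rfl | hn
  · have h10 : (1 : A) = 0 := by simpa using hp
    intro b
    exact ⟨0, by rw [map_zero, ← mul_one b, h10, mul_zero]⟩
  obtain ⟨m, rfl⟩ : ∃ m, n = m + 1 := ⟨n - 1, by omega⟩
  have hθT : ∀ y : A, θ (WittVector.truncate (m + 1)
      (WittVector.map (Ideal.Quotient.mk (Ideal.span {(p : A)})) (WittVector.teichmuller p y))) =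
      y ^ p ^ (m + 1) := by
    intro y
    rw [hθ, Fin.sum_univ_succ]
    simp only [Fin.val_zero, pow_zero, one_mul, Nat.sub_zero, WittVector.teichmuller_coeff_zero]
    rw [Finset.sum_eq_zero, add_zero]
    intro i _
    rw [WittVector.teichmuller_coeff_pos p y _ (by simp),
      zero_pow (pow_pos (Fact.out : p.Prime).pos _).ne', mul_zero]
  have hFN : ∀ N : ℕ, ∀ z : A ⧸ Ideal.span {(p : A)}, ∃ y, y ^ p ^ N = z := by
    intro N
    induction N with
    | zero => intro z; exact ⟨z, by simp⟩
    | succ N ih =>
      intro z
      obtain ⟨y1, hy1⟩ := hF z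
      obtain ⟨y, hy⟩ := ih y1
      exact ⟨y, by rw [pow_succ, pow_mul, hy]; exact hy1⟩
  have hsurjk : ∀ j : ℕ, ∀ b : A, ∃ w, θ w - b ∈ Ideal.span {(p : A) ^ j} := by
    intro j
    induction j with
    | zero => intro b; exact ⟨0, by simp⟩
    | succ j ih =>
      intro b
      obtain ⟨w, hw⟩ := ih b
      obtain ⟨c, hc⟩ := Ideal.mem_span_singleton'.1 hw
      obtain ⟨y', hy'⟩ := hFN (m + 1) (Ideal.Quotient.mk (Ideal.span {(p : A)}) (-c))
      obtain ⟨y, rfl⟩ := Ideal.Quotient.mk_surjective y'
      rw [← map_pow, Ideal.Quotient.eq, Ideal.mem_span_singleton'] at hy'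
      obtain ⟨d, hd⟩ := hy'
      refine ⟨w + (p : TruncatedWittVector p (m + 1) (A ⧸ Ideal.span {(p : A)})) ^ j *
        WittVector.truncate (m + 1) (WittVector.map (Ideal.Quotient.mk (Ideal.span {(p : A)}))
          (WittVector.teichmuller p y)), ?_⟩
      rw [map_add, map_mul, map_pow, map_natCast, hθT]
      refine Ideal.mem_span_singleton'.2 ⟨d, ?_⟩
      have : θ w = b + c * (p : A) ^ j := by rw [hc]; ring
      rw [this]
      have hd' : y ^ p ^ (m + 1) = d * p - c := by rw [hd]; ring
      rw [hd', pow_succ]
      ring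
  intro b
  obtain ⟨w, hw⟩ := hsurjk (m + 1) b
  rw [hp, Ideal.span_singleton_zero, Ideal.mem_bot, sub_eq_zero] at hw
  exact ⟨w, hw⟩


end Groth.Agent.S18932
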