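import Groth.Statements.S18934
import Mathlib
import Groth.Agent.Lib.Helper22.SyntBasis

set_option autoImplicit false
universe u
open Synt

namespace Groth.Agent.S18934

open Polynomial in
/-- Let p be a prime, A a commutative ring and a an element of A. Then the A-algebra A[T]/(T^p − a) is
syntomic and faithfully flat over A. This is the step of the source's proof showing that adjoining a
p-th root of any element is a covering for the syntomic topology. -/
theorem result (p : ℕ) [Fact p.Prime]
    (A : Type u) [CommRing A] (a : A) :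
    Synt.IsSyntomic A (AdjoinRoot (X ^ p - C a)) ∧ Module.FaithfullyFlat A (AdjoinRoot (X ^ p - C a)) := by
  have hp : 0 < p := (Fact.out : p.Prime).pos
  have hmonic : (X ^ p - C a : A[X]).Monic := Polynomial.monic_X_pow_sub_C a hp.ne'
  have hfp : Algebra.FinitePresentation A (AdjoinRoot (X ^ p - C a)) := by
    unfold AdjoinRoot
    exact Algebra.FinitePresentation.quotient (Submodule.fg_span_singleton _)
  rcases subsingleton_or_nontrivial A with hA | hA
  · haveI : Subsingleton (AdjoinRoot (X ^ p - C a)) := Module.subsingleton A _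
    haveI : Module.Free A (AdjoinRoot (X ^ p - C a)) := Module.Free.of_subsingleton A _
    have hflat : Module.Flat A (AdjoinRoot (X ^ p - C a)) := inferInstance
    refine ⟨⟨hflat, hfp, fun 𝔭 => (𝔭.2.ne_top (Subsingleton.elim _ _)).elim⟩, ?_⟩
    exact { toFlat := hflat
            submodule_ne_top := fun m hm => absurd (Subsingleton.elim m ⊤) hm.ne_top }
  · have hdim : (AdjoinRoot.powerBasis' hmonic).dim = p := by
      rw [AdjoinRoot.powerBasis'_dim, Polynomial.natDegree_X_pow_sub_C]
    let b : Module.Basis (Fin 1 → Fin p) A (AdjoinRoot (X ^ p - C a)) :=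
      (AdjoinRoot.powerBasis' hmonic).basis.reindex
        ((finCongr hdim).trans (Equiv.funUnique (Fin 1) (Fin p)).symm)
    have hb : ∀ e, b e = ∏ i : Fin 1,
        (fun _ : Fin 1 => AdjoinRoot.root (X ^ p - C a)) i ^ (e i : ℕ) := by
      intro e
      rw [Fin.prod_univ_one, Module.Basis.reindex_apply, PowerBasis.basis_eq_pow,
        AdjoinRoot.powerBasis'_gen]
      simp
    have hx : ∀ i : Fin 1, (fun _ : Fin 1 => AdjoinRoot.root (X ^ p - C a)) i ^ p =
        algebraMap A (AdjoinRoot (X ^ p - C a)) ((fun _ : Fin 1 => a) i) := by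
      intro i
      have h1 := AdjoinRoot.mk_self (f := (X ^ p - C a : A[X]))
      rw [map_sub, map_pow, AdjoinRoot.mk_X, AdjoinRoot.mk_C, sub_eq_zero] at h1
      rw [AdjoinRoot.algebraMap_eq]
      exact h1
    exact Groth.Agent.Helper22.SyntBasis.syntomic_of_basis' hfp 1 p hp _ _ hx b hb

end Groth.Agent.S18934
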