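import Groth.Statements.S18936
import Mathlib

set_option autoImplicit false
universe u
open CAlg

namespace Groth.Agent.S18936

/-- Let A be a Noetherian commutative ring, q a prime ideal of A and f an element of A whose image in
the localization A_q is a non-zero-divisor. Then there is an element b of A not in q such that the
image of f in A[1/b] is a non-zero-divisor. -/
theorem result {A : Type u} [CommRing A] [IsNoetherianRing A]
    (q : Ideal A) [q.IsPrime] (f : A)
    (hf : algebraMap A (Localization.AtPrime q) f ∈ nonZeroDivisors (Localization.AtPrime q)) :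
    ∃ b : A, b ∉ q ∧ algebraMap A (Localization.Away b) f ∈ nonZeroDivisors (Localization.Away b) := by
  set K : Ideal A := Submodule.colon (⊥ : Ideal A) {f} with hK
  have hKmem : ∀ a : A, a ∈ K ↔ a * f = 0 := by
    intro a
    rw [hK, Submodule.mem_colon_singleton, smul_eq_mul, Submodule.mem_bot]
  let q' : PrimeSpectrum A := ⟨q, inferInstance⟩
  have hsupp : q' ∉ Module.support A K := by
    rw [Module.notMem_support_iff']
    rintro ⟨k, hk⟩
    have hkf : k * f = 0 := (hKmem k).1 hk
    have h1 : algebraMap A (Localization.AtPrime q) k = 0 := by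
      apply (mem_nonZeroDivisors_iff_right.1 hf)
      rw [← map_mul, hkf, map_zero]
    rw [IsLocalization.map_eq_zero_iff q.primeCompl] at h1
    obtain ⟨⟨s, hs⟩, hsk⟩ := h1
    refine ⟨s, hs, ?_⟩
    ext
    simpa using hsk
  rw [Module.mem_support_iff_of_finite, SetLike.not_le_iff_exists] at hsupp
  obtain ⟨b, hbann, hbq⟩ := hsupp
  refine ⟨b, hbq, ?_⟩
  have hbK : ∀ k ∈ K, b * k = 0 := by
    intro k hk
    have := (Module.mem_annihilator.1 hbann) ⟨k, hk⟩
    simpa using congrArg Subtype.val this
  rw [mem_nonZeroDivisors_iff_right]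
  intro x hx
  obtain ⟨a, s, rfl⟩ := IsLocalization.exists_mk'_eq (Submonoid.powers b) x
  rw [← IsLocalization.mk'_one (M := Submonoid.powers b) (Localization.Away b) f,
    ← IsLocalization.mk'_mul, IsLocalization.mk'_eq_zero_iff] at hx
  obtain ⟨⟨m, n, rfl⟩, hm⟩ := hx
  simp only at hm
  rw [IsLocalization.mk'_eq_zero_iff]
  have h1 : b ^ n * a ∈ K := by
    rw [hKmem]; rw [← hm]; ring
  have h2 := hbK _ h1
  refine ⟨⟨b ^ (n + 1), n + 1, rfl⟩, ?_⟩
  simp only
  rw [pow_succ', mul_assoc]; exact h2

end Groth.Agent.S18936
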