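import Groth.Statements.S1894
import Groth.Agent.Lib.Helper21.GrpdSat

set_option autoImplicit false
universe u
open CategoryTheory CategoryTheory.Limits AlgebraicGeometry
open Grpd

namespace Groth.Agent.S1894

/-- Let (U, R, s, t, c) be a groupoid scheme over S with s, t quasi-compact and flat and U
quasi-separated, and W ⊆ U a quasi-compact open. Then there are an R-invariant open V (s⁻¹V = t⁻¹V)
and a quasi-compact open W' with W ⊆ V ⊆ W'. (A groupoid scheme carries U, R, s, t, c, e, i over S
with the groupoid axioms on T-points; 'finite locally free' is finite, flat and locally of finite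
presentation; C ⊂ Γ(U) is the ring of functions a with s♯(a) = t♯(a) and M = Spec C.) -/
theorem result (S : Scheme.{u}) (G : Grpd.GroupoidScheme S) [QuasiCompact G.s] [Flat G.s] [QuasiCompact G.t] [Flat G.t] [QuasiSeparatedSpace G.U] (W : G.U.Opens) (hW : IsCompact (W : Set G.U)) : ∃ V W' : G.U.Opens, G.s ⁻¹ᵁ V = G.t ⁻¹ᵁ V ∧ IsCompact (W' : Set G.U) ∧ W ≤ V ∧ V ≤ W' := by
  have hpre : Groth.Agent.Helper21.InvAff.IsPreEq G.s G.t := by
    refine ⟨fun u => ⟨G.e.base u, ?_, ?_⟩, fun r => ⟨G.i.base r, ?_, ?_⟩, fun r₁ r₂ h => ?_⟩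
    · rw [← Scheme.Hom.comp_apply, G.e_s]; rfl
    · rw [← Scheme.Hom.comp_apply, G.e_t]; rfl
    · rw [← Scheme.Hom.comp_apply, G.i_s]
    · rw [← Scheme.Hom.comp_apply, G.i_t]
    · obtain ⟨ρ, hρ1, hρ2⟩ := Scheme.Pullback.exists_preimage_pullback
        (f := G.s) (g := G.t) r₂ r₁ h
      have hs : G.c ≫ G.s = pullback.snd G.s G.t ≫ G.s := by
        have := G.comp_s (pullback.fst G.s G.t) (pullback.snd G.s G.t) pullback.condition
        have e : pullback.lift (pullback.fst G.s G.t) (pullback.snd G.s G.t) pullback.condition =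
            𝟙 _ := by
          apply pullback.hom_ext
          · rw [pullback.lift_fst, Category.id_comp]
          · rw [pullback.lift_snd, Category.id_comp]
        rwa [e, Category.id_comp] at this
      have ht : G.c ≫ G.t = pullback.fst G.s G.t ≫ G.t := by
        have := G.comp_t (pullback.fst G.s G.t) (pullback.snd G.s G.t) pullback.condition
        have e : pullback.lift (pullback.fst G.s G.t) (pullback.snd G.s G.t) pullback.condition =
            𝟙 _ := by
          apply pullback.hom_ext
          · rw [pullback.lift_fst, Category.id_comp]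
          · rw [pullback.lift_snd, Category.id_comp]
        rwa [e, Category.id_comp] at this
      refine ⟨G.c.base ρ, ?_, ?_⟩
      · rw [← Scheme.Hom.comp_apply, hs, Scheme.Hom.comp_apply, hρ2]
      · rw [← Scheme.Hom.comp_apply, ht, Scheme.Hom.comp_apply, hρ1]
  exact Groth.Agent.Helper21.GrpdSat.exists_invariant_between hpre W hW

end Groth.Agent.S1894
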