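import Groth.Statements.S18942
import Mathlib


set_option autoImplicit false
universe u
open DPow

namespace Groth.Agent.S18942

/-- Let p be a prime, k a perfect field of characteristic p, n a natural number and x an element of
W_n(k), written here as the truncation of a Witt vector x over k. For any Witt vectors y_0, …,
y_{n−1} over k lifting the components of x under the map y ↦ (y_0)^(p^n) (that is, (y_i)_0^(p^n) =
x_i), one has x = Σ_{i<n} p^i y_i^(p^(n−i)) in W_n(k). -/
theorem result (p : ℕ) [Fact p.Prime]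
    (k : Type u) [Field k] [CharP k p] [PerfectRing k p] (n : ℕ) (x : WittVector p k)
    (y : Fin n → WittVector p k) (hy : ∀ i : Fin n, ((y i).coeff 0) ^ (p ^ n) = x.coeff i) :
    WittVector.truncate n x =
      WittVector.truncate n (∑ i : Fin n, (p : WittVector p k) ^ (i : ℕ) * (y i) ^ (p ^ (n - i))) := by
  classical
  rcases Nat.eq_zero_or_pos n with rfl | hn
  · ext j; exact j.elim0
  obtain ⟨m, rfl⟩ : ∃ m, n = m + 1 := ⟨n - 1, by omega⟩
  have hσ : ∀ (i : ℕ) (a : k), ((frobeniusEquiv k p).symm ^ i) (a ^ p ^ i) = a := by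
    intro i
    induction i with
    | zero => intro a; simp
    | succ i ih =>
      intro a
      rw [pow_succ, RingAut.mul_apply]
      have : a ^ p ^ (i + 1) = frobenius k p (a ^ p ^ i) := by
        rw [frobenius_def, ← pow_mul, ← pow_succ]
      rw [this, frobeniusEquiv_symm_apply_frobenius, ih]
  have hyi : ∀ i : Fin (m + 1),
      (p : WittVector p k) ∣ y i - WittVector.teichmuller p ((y i).coeff 0) := by
    intro i
    rw [← Ideal.mem_span_singleton, ← pow_one (p : WittVector p k),
      WittVector.mem_span_p_pow_iff_le_coeff_eq_zero]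
    intro j hj
    obtain rfl : j = 0 := by omega
    show WittVector.constantCoeff (y i - WittVector.teichmuller p ((y i).coeff 0)) = 0
    rw [map_sub]
    show (y i).coeff 0 - (WittVector.teichmuller p ((y i).coeff 0)).coeff 0 = 0
    rw [WittVector.teichmuller_coeff_zero, sub_self]
  have h1 := WittVector.dvd_sub_sum_teichmuller_iterateFrobeniusEquiv_coeff x m
  have hT : ∑ i ∈ Finset.Iic m, WittVector.teichmuller p
      (((frobeniusEquiv k p).symm ^ i) (x.coeff i)) * (p : WittVector p k) ^ i =
      ∑ i : Fin (m + 1), (p : WittVector p k) ^ (i : ℕ) *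
        (WittVector.teichmuller p ((y i).coeff 0)) ^ (p ^ (m + 1 - i)) := by
    rw [← Nat.range_succ_eq_Iic, Finset.sum_range (fun i => WittVector.teichmuller p
      (((frobeniusEquiv k p).symm ^ i) (x.coeff i)) * (p : WittVector p k) ^ i)]
    refine Finset.sum_congr rfl fun i _ => ?_
    rw [mul_comm, ← map_pow]
    congr 2
    have hi : (i : ℕ) ≤ m + 1 := i.2.le
    have : x.coeff i = ((y i).coeff 0 ^ p ^ (m + 1 - i)) ^ p ^ (i : ℕ) := by
      rw [← hy i, ← pow_mul, ← pow_add, Nat.sub_add_cancel hi]
    rw [this, hσ]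
  rw [hT] at h1
  have h2 : (p : WittVector p k) ^ (m + 1) ∣
      (∑ i : Fin (m + 1), (p : WittVector p k) ^ (i : ℕ) * (y i) ^ (p ^ (m + 1 - i))) -
      ∑ i : Fin (m + 1), (p : WittVector p k) ^ (i : ℕ) *
        (WittVector.teichmuller p ((y i).coeff 0)) ^ (p ^ (m + 1 - i)) := by
    rw [← Finset.sum_sub_distrib]
    refine Finset.dvd_sum fun i _ => ?_
    rw [← mul_sub]
    have hi : (i : ℕ) ≤ m + 1 := i.2.le
    have h3 := dvd_sub_pow_of_dvd_sub (hyi i) (m + 1 - i)
    have h4 : (p : WittVector p k) ^ (m + 1) ∣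
        (p : WittVector p k) ^ (i : ℕ) * (p : WittVector p k) ^ (m + 1 - (i : ℕ) + 1) := by
      rw [← pow_add]
      exact pow_dvd_pow _ (by omega)
    exact h4.trans (mul_dvd_mul_left _ h3)
  have h5 : (p : WittVector p k) ^ (m + 1) ∣
      x - ∑ i : Fin (m + 1), (p : WittVector p k) ^ (i : ℕ) * (y i) ^ (p ^ (m + 1 - i)) := by
    have := dvd_sub h1 h2
    convert this using 1
    ring
  rw [← Ideal.mem_span_singleton, WittVector.mem_span_p_pow_iff_le_coeff_eq_zero] at h5
  ext j
  rw [WittVector.coeff_truncate, WittVector.coeff_truncate]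
  exact (WittVector.le_coeff_eq_iff_le_sub_coeff_eq_zero).2 h5 j j.2


end Groth.Agent.S18942
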