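import Groth.Statements.S18943
import Mathlib


set_option autoImplicit false
open scoped ContDiff
open CInfGerm

namespace Groth.Agent.S18943

/-- Let f be an infinitely differentiable real-valued function on the real line with f(0) = 0. Then f(x)
= x·g(x) for an infinitely differentiable function g. (The source phrases this for germs at 0: the
maximal ideal of the local ring of germs of smooth functions at the origin is generated by the
coordinate t; the global form stated here is what its argument, smooth extension of f(x)/x across 0,
gives.) -/
theorem result (f : ℝ → ℝ) (hf : ContDiff ℝ ∞ f) (h0 : f 0 = 0) :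
    ∃ g : ℝ → ℝ, ContDiff ℝ ∞ g ∧ ∀ x : ℝ, f x = x * g x := by
  classical
  -- the key differentiation lemma
  have key : ∀ (m : ℕ) (h : ℝ → ℝ), ContDiff ℝ ∞ h → ∀ x₀ : ℝ,
      HasDerivAt (fun x => ∫ t in (0 : ℝ)..1, t ^ m * h (t * x))
        (∫ t in (0 : ℝ)..1, t ^ (m + 1) * deriv h (t * x₀)) x₀ := by
    intro m h hh x₀
    have hhc : Continuous h := hh.continuous
    have hh' : Continuous (deriv h) := hh.continuous_deriv (by simp)
    have hhd : Differentiable ℝ h := hh.differentiable (by simp)
    -- bound of the derivative on a compact interval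
    set r : ℝ := |x₀| + 1 with hr
    obtain ⟨C, hC⟩ := (isCompact_Icc (a := -r) (b := r)).exists_bound_of_continuousOn
      hh'.continuousOn
    have := intervalIntegral.hasDerivAt_integral_of_dominated_loc_of_deriv_le
      (μ := MeasureTheory.volume) (a := (0 : ℝ)) (b := 1)
      (F := fun x t => t ^ m * h (t * x)) (F' := fun x t => t ^ (m + 1) * deriv h (t * x))
      (x₀ := x₀) (s := Metric.ball x₀ 1) (bound := fun _ => C)
      (Metric.ball_mem_nhds x₀ one_pos)
      (Filter.Eventually.of_forall (fun x => by
        apply Continuous.aestronglyMeasurable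
        fun_prop))
      (by
        apply Continuous.intervalIntegrable
        fun_prop)
      (by
        apply Continuous.aestronglyMeasurable
        fun_prop)
      (Filter.Eventually.of_forall (fun t ht x hx => by
        rw [Set.uIoc_of_le zero_le_one] at ht
        have ht0 : 0 ≤ t := ht.1.le
        have ht1 : t ≤ 1 := ht.2
        have hx' : |x| ≤ r := by
          rw [Metric.mem_ball, Real.dist_eq] at hx
          have := abs_sub_abs_le_abs_sub x x₀
          linarith
        have htx : t * x ∈ Set.Icc (-r) r := by
          rw [Set.mem_Icc, ← abs_le, abs_mul, abs_of_nonneg ht0]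
          calc t * |x| ≤ 1 * |x| := mul_le_mul_of_nonneg_right ht1 (abs_nonneg x)
            _ = |x| := one_mul _
            _ ≤ r := hx'
        have h1 := hC (t * x) htx
        rw [norm_mul, norm_pow, Real.norm_eq_abs, abs_of_nonneg ht0]
        calc t ^ (m + 1) * ‖deriv h (t * x)‖ ≤ 1 * C :=
              mul_le_mul (pow_le_one₀ ht0 ht1) h1 (norm_nonneg _) zero_le_one
          _ = C := one_mul _))
      intervalIntegrable_const
      (Filter.Eventually.of_forall (fun t _ x _ => by
        have h1 : HasDerivAt (fun x => t * x) t x := by
          simpa using (hasDerivAt_id x).const_mul t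
        have h2 : HasDerivAt (fun x => h (t * x)) (deriv h (t * x) * t) x :=
          (hhd (t * x)).hasDerivAt.comp x h1
        have h3 := h2.const_mul (t ^ m)
        exact h3.congr_deriv (by ring)))
    exact this.2
  -- smoothness by induction
  have hsm : ∀ (n : ℕ) (m : ℕ) (h : ℝ → ℝ), ContDiff ℝ ∞ h →
      ContDiff ℝ n (fun x => ∫ t in (0 : ℝ)..1, t ^ m * h (t * x)) := by
    intro n
    induction n with
    | zero =>
      intro m h hh
      rw [Nat.cast_zero, contDiff_zero]
      exact continuous_iff_continuousAt.mpr (fun x => (key m h hh x).continuousAt)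
    | succ n ih =>
      intro m h hh
      rw [Nat.cast_succ, contDiff_succ_iff_deriv]
      refine ⟨fun x => (key m h hh x).differentiableAt, by simp, ?_⟩
      have hd : deriv (fun x => ∫ t in (0 : ℝ)..1, t ^ m * h (t * x)) =
          fun x => ∫ t in (0 : ℝ)..1, t ^ (m + 1) * deriv h (t * x) := by
        ext x
        exact (key m h hh x).deriv
      rw [hd]
      exact ih (m + 1) (deriv h) ((contDiff_infty_iff_deriv.mp hh).2)
  refine ⟨fun x => ∫ t in (0 : ℝ)..1, deriv f (t * x), ?_, ?_⟩
  · have hf' : ContDiff ℝ ∞ (deriv f) := (contDiff_infty_iff_deriv.mp hf).2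
    rw [contDiff_infty]
    intro n
    have := hsm n 0 (deriv f) hf'
    simpa using this
  · intro x
    have hfd : Differentiable ℝ f := hf.differentiable (by simp)
    have hf' : Continuous (deriv f) := hf.continuous_deriv (by simp)
    have h1 : ∀ t ∈ Set.uIcc (0 : ℝ) 1, HasDerivAt (fun t => f (t * x)) (deriv f (t * x) * x) t := by
      intro t _
      have h1 : HasDerivAt (fun t => t * x) x t := by
        simpa using (hasDerivAt_id t).mul_const x
      exact (hfd (t * x)).hasDerivAt.comp t h1
    have h2 := intervalIntegral.integral_eq_sub_of_hasDerivAt h1 (by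
      apply Continuous.intervalIntegrable
      fun_prop)
    simp only [one_mul, zero_mul, h0, sub_zero] at h2
    rw [← h2, ← intervalIntegral.integral_const_mul]
    congr 1
    ext t
    ring


end Groth.Agent.S18943
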