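import Groth.Statements.S18945
import Mathlib
import Groth.Agent.Lib.Helper22.SyntBasis
import Groth.Agent.S18934

set_option autoImplicit false
universe u
open CategoryTheory AlgebraicGeometry
open Synt

namespace Groth.Agent.S18945

/-- `A[T]/(T^p - a)` -/
noncomputable abbrev PR (p : ℕ) (A : Type u) [CommRing A] (a : A) : Type u :=
  AdjoinRoot (Polynomial.X ^ p - Polynomial.C a : Polynomial A)

theorem root_pow (p : ℕ) (A : Type u) [CommRing A] (a : A) :
    (AdjoinRoot.root (Polynomial.X ^ p - Polynomial.C a : Polynomial A)) ^ p =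
      algebraMap A (PR p A a) a := by
  have h1 := AdjoinRoot.mk_self (f := (Polynomial.X ^ p - Polynomial.C a : Polynomial A))
  rw [map_sub, map_pow, AdjoinRoot.mk_X, AdjoinRoot.mk_C, sub_eq_zero] at h1
  rw [AdjoinRoot.algebraMap_eq]
  exact h1

theorem pr_fp (p : ℕ) (A : Type u) [CommRing A] (a : A) :
    Algebra.FinitePresentation A (PR p A a) := by
  unfold PR AdjoinRoot
  exact Algebra.FinitePresentation.quotient (Submodule.fg_span_singleton _)

theorem pr_basis (p : ℕ) (hp : 0 < p) (A : Type u) [CommRing A] [Nontrivial A] (a : A) :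
    ∃ b : Module.Basis (Fin 1 → Fin p) A (PR p A a),
      ∀ e, b e = ∏ i : Fin 1, (fun _ : Fin 1 =>
        AdjoinRoot.root (Polynomial.X ^ p - Polynomial.C a : Polynomial A)) i ^ (e i : ℕ) := by
  have hmonic : (Polynomial.X ^ p - Polynomial.C a : Polynomial A).Monic :=
    Polynomial.monic_X_pow_sub_C a hp.ne'
  have hdim : (AdjoinRoot.powerBasis' hmonic).dim = p := by
    rw [AdjoinRoot.powerBasis'_dim, Polynomial.natDegree_X_pow_sub_C]
  refine ⟨(AdjoinRoot.powerBasis' hmonic).basis.reindex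
      ((finCongr hdim).trans (Equiv.funUnique (Fin 1) (Fin p)).symm), fun e => ?_⟩
  rw [Fin.prod_univ_one, Module.Basis.reindex_apply, PowerBasis.basis_eq_pow,
    AdjoinRoot.powerBasis'_gen]
  simp

theorem map_self_eq_id {X : Scheme.{u}} {V : X.Opens} (i : Opposite.op V ⟶ Opposite.op V) :
    X.presheaf.map i = 𝟙 _ := by
  have : i = 𝟙 _ := by
    apply Quiver.Hom.unop_inj
    exact Subsingleton.elim _ _
  rw [this, CategoryTheory.Functor.map_id]

theorem key {X : Scheme.{u}} {U : X.Opens} (hU : IsAffineOpen U) {R : CommRingCat.{u}}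
    (g : Γ(X, U) ⟶ R)
    (e : (⊤ : (Spec R).Opens) ≤ (Spec.map g ≫ hU.fromSpec) ⁻¹ᵁ U) :
    (Spec.map g ≫ hU.fromSpec).appLE U ⊤ e = g ≫ (Scheme.ΓSpecIso R).inv := by
  have e1 : (⊤ : (Spec Γ(X, U)).Opens) ≤ hU.fromSpec ⁻¹ᵁ U := by
    rw [hU.fromSpec_preimage_self]
  have e2 : (⊤ : (Spec R).Opens) ≤ (Spec.map g) ⁻¹ᵁ ⊤ := fun _ _ => trivial
  rw [← Scheme.Hom.appLE_comp_appLE (Spec.map g) hU.fromSpec U ⊤ ⊤ e1 e2]
  have h1 : hU.fromSpec.appLE U ⊤ e1 = (Scheme.ΓSpecIso Γ(X, U)).inv := by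
    rw [Scheme.Hom.appLE, hU.fromSpec_app_self, Category.assoc, ← Functor.map_comp,
      map_self_eq_id, Category.comp_id]
  have h2 : (Spec.map g).appLE ⊤ ⊤ e2 = (Spec.map g).appTop := by
    rw [Scheme.Hom.appLE]
    exact (congrArg _ (map_self_eq_id _)).trans (Category.comp_id _)
  rw [h1, h2, ← Scheme.ΓSpecIso_inv_naturality]


/-- Let p be a prime, X a scheme and a a global section of the structure sheaf of X. There is a covering
of X for the syntomic topology, that is a jointly surjective family of syntomic morphisms X_i → X,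
such that the restriction of a to each X_i is a p-th power. (The source states the surjectivity of
the p-th power map of the structure sheaf on the small syntomic site of a syntomic scheme over a
perfect field of characteristic p; the covering it uses elsewhere, adjoining a p-th root T^p = a
over affine pieces, gives the statement for every scheme, which is the form given here.) -/
theorem result (p : ℕ) [Fact p.Prime] (X : Scheme.{u}) (a : Γ(X, ⊤)) :
    ∃ 𝒰 : Scheme.Cover.{u} (Scheme.precoverage @Synt.IsSyntomicMor) X,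
      ∀ i : 𝒰.I₀, ∃ b : Γ(𝒰.X i, ⊤), b ^ p = (𝒰.f i).appTop a := by
  classical
  have hp : 0 < p := (Fact.out : p.Prime).pos
  let aU : (U : X.affineOpens) → Γ(X, U.1) := fun U =>
    (X.presheaf.map (homOfLE (le_top : U.1 ≤ ⊤)).op).hom a
  let B : X.affineOpens → CommRingCat.{u} := fun U => CommRingCat.of (PR p Γ(X, U.1) (aU U))
  let g : (U : X.affineOpens) → (Γ(X, U.1) ⟶ B U) := fun U =>
    CommRingCat.ofHom (algebraMap Γ(X, U.1) (PR p Γ(X, U.1) (aU U)))
  let F : (U : X.affineOpens) → (Spec (B U) ⟶ X) := fun U => Spec.map (g U) ≫ U.2.fromSpec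
  have hFU : ∀ (U : X.affineOpens), (⊤ : (Spec (B U)).Opens) ≤ (F U) ⁻¹ᵁ U.1 := by
    intro U y _
    show (F U) y ∈ U.1
    have h1 : (F U) y = U.2.fromSpec ((Spec.map (g U)) y) := rfl
    rw [h1]
    have h2 := U.2.range_fromSpec
    have h3 : U.2.fromSpec ((Spec.map (g U)) y) ∈ Set.range U.2.fromSpec := Set.mem_range_self _
    rw [h2] at h3
    exact h3
  have hkey : ∀ U, (F U).appLE U.1 ⊤ (hFU U) = g U ≫ (Scheme.ΓSpecIso (B U)).inv :=
    fun U => key U.2 (g U) (hFU U)
  have hcov : ∀ x : X, ∃ (U : X.affineOpens) (y : Spec (B U)), (F U) y = x := by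
    intro x
    obtain ⟨W, hW, hxW, -⟩ := exists_isAffineOpen_mem_and_subset (x := x) (U := ⊤) trivial
    let U : X.affineOpens := ⟨W, hW⟩
    have hx : x ∈ Set.range U.2.fromSpec := by rw [U.2.range_fromSpec]; exact hxW
    obtain ⟨y, rfl⟩ := hx
    haveI := (Groth.Agent.S18934.result p Γ(X, U.1) (aU U)).2
    obtain ⟨z, hz⟩ := PrimeSpectrum.comap_surjective_of_faithfullyFlat
      (A := Γ(X, U.1)) (B := PR p Γ(X, U.1) (aU U)) y
    refine ⟨U, z, ?_⟩
    show U.2.fromSpec ((Spec.map (g U)) z) = U.2.fromSpec y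
    congr 1
  have hprop : ∀ U, Synt.IsSyntomicMor (F U) := by
    intro U z
    haveI hBnt : Nontrivial (PR p Γ(X, U.1) (aU U)) := by
      by_contra h
      rw [not_nontrivial_iff_subsingleton] at h
      exact (show (PrimeSpectrum.asIdeal (R := PR p Γ(X, U.1) (aU U)) z).IsPrime from
        PrimeSpectrum.isPrime _).ne_top (Subsingleton.elim _ _)
    haveI hAnt : Nontrivial Γ(X, U.1) :=
      (algebraMap Γ(X, U.1) (PR p Γ(X, U.1) (aU U))).domain_nontrivial
    refine ⟨⟨⊤, isAffineOpen_top _⟩, U, hFU U, trivial, ?_⟩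
    letI alg : Algebra Γ(X, U.1) Γ(Spec (B U), ⊤) :=
      ((F U).appLE U.1 ⊤ (hFU U)).hom.toAlgebra
    show @Synt.IsSyntomic Γ(X, U.1) _ Γ(Spec (B U), ⊤) _ alg
    let ψ : PR p Γ(X, U.1) (aU U) ≃ₐ[Γ(X, U.1)] Γ(Spec (B U), ⊤) :=
      { (Scheme.ΓSpecIso (B U)).symm.commRingCatIsoToRingEquiv with
        commutes' := fun r => by
          show (Scheme.ΓSpecIso (B U)).inv.hom (algebraMap _ _ r) =
            ((F U).appLE U.1 ⊤ (hFU U)).hom r
          rw [hkey U]; rfl }
    obtain ⟨b, hb⟩ := pr_basis p hp Γ(X, U.1) (aU U)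
    haveI hfp := pr_fp p Γ(X, U.1) (aU U)
    have hfp' : Algebra.FinitePresentation Γ(X, U.1) Γ(Spec (B U), ⊤) :=
      Algebra.FinitePresentation.equiv ψ
    refine (Groth.Agent.Helper22.SyntBasis.syntomic_of_basis' hfp' 1 p hp
      (fun _ => ψ (AdjoinRoot.root _)) (fun _ => aU U) ?_ (b.map ψ.toLinearEquiv) ?_).1
    · intro i
      rw [← map_pow, root_pow, ψ.commutes]
    · intro e
      rw [Module.Basis.map_apply, hb]
      show ψ _ = _
      rw [map_prod]
      simp only [map_pow]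
  refine ⟨Scheme.Cover.mkOfCovers X.affineOpens (fun U => Spec (B U)) F hcov hprop, fun U => ?_⟩
  change ∃ b : Γ(Spec (B U), ⊤), b ^ p = (F U).appTop a
  refine ⟨(Scheme.ΓSpecIso (B U)).inv.hom (AdjoinRoot.root _), ?_⟩
  rw [← map_pow, root_pow]
  have h1 : (F U).appTop =
      X.presheaf.map (homOfLE (le_top : U.1 ≤ ⊤)).op ≫ (F U).appLE U.1 ⊤ (hFU U) := by
    rw [Scheme.Hom.map_appLE, Scheme.Hom.appLE]
    exact ((congrArg _ (map_self_eq_id _)).trans (Category.comp_id _)).symm
  rw [h1, hkey U]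
  rfl

end Groth.Agent.S18945
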