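import Groth.Statements.S18946
import Mathlib


set_option autoImplicit false
universe u
open scoped BigOperators
open InvQ

namespace Groth.Agent.S18946

/-- Let k be an algebraically closed field of characteristic zero and n a natural number, and let the
torus of (n+1)-tuples of units of k with product 1 act on the polynomial ring k[t_0, ..., t_n] by
rescaling each variable t_i by the i-th unit. A polynomial is fixed by every such rescaling if and
only if it lies in the k-subalgebra generated by the product t_0 t_1 ... t_n. (This is the
computation of the ring of functions on affine (n+1)-space invariant under the maximal diagonal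
torus of the special linear group, identified with the polynomial ring in the single coordinate t =
t_0 ... t_n of the line it maps to by the product map; invariance is tested on k-valued points of
the torus, which over an infinite field is the same as invariance under the group scheme.) -/
theorem result
    (k : Type u) [Field k] [IsAlgClosed k] [CharZero k] (n : ℕ)
    (f : MvPolynomial (Fin (n + 1)) k) :
    (∀ σ : Fin (n + 1) → kˣ, ∏ i, (σ i : k) = 1 →
        MvPolynomial.aeval (fun i => MvPolynomial.C (σ i : k) * MvPolynomial.X i) f = f) ↔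
      f ∈ Algebra.adjoin k ({∏ i : Fin (n + 1), MvPolynomial.X i} : Set (MvPolynomial (Fin (n + 1)) k)) := by
  classical
  -- action on monomials
  have hmono : ∀ (σ : Fin (n + 1) → kˣ) (s : Fin (n + 1) →₀ ℕ) (c : k),
      MvPolynomial.aeval (fun i => MvPolynomial.C (σ i : k) * MvPolynomial.X i)
        (MvPolynomial.monomial s c) =
      MvPolynomial.monomial s (c * ∏ i, (σ i : k) ^ s i) := by
    intro σ s c
    rw [MvPolynomial.aeval_monomial, MvPolynomial.monomial_eq, Finsupp.prod_fintype _ _ (by simp),
      Finsupp.prod_fintype _ _ (by simp)]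
    simp only [mul_pow, Finset.prod_mul_distrib, ← map_pow, ← map_prod]
    rw [MvPolynomial.algebraMap_eq, map_mul, mul_assoc]
  have hcoeff : ∀ (σ : Fin (n + 1) → kˣ) (m : Fin (n + 1) →₀ ℕ),
      MvPolynomial.coeff m (MvPolynomial.aeval (fun i => MvPolynomial.C (σ i : k) * MvPolynomial.X i) f) =
      MvPolynomial.coeff m f * ∏ i, (σ i : k) ^ m i := by
    intro σ m
    conv_lhs => rw [f.as_sum]
    rw [map_sum, MvPolynomial.coeff_sum]
    simp only [hmono, MvPolynomial.coeff_monomial]
    rw [Finset.sum_ite_eq' f.support m]
    split_ifs with h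
    · rfl
    · rw [MvPolynomial.notMem_support_iff.1 h, zero_mul]
  constructor
  · intro hinv
    -- exponents in the support are constant
    have hconst : ∀ m ∈ f.support, ∀ i j : Fin (n + 1), m i = m j := by
      intro m hm i j
      by_cases hij : i = j
      · rw [hij]
      let u : kˣ := Units.mk0 (2 : k) two_ne_zero
      let σ : Fin (n + 1) → kˣ := fun l => if l = i then u else if l = j then u⁻¹ else 1
      have hσi : σ i = u := by simp [σ]
      have hσj : σ j = u⁻¹ := by simp [σ, Ne.symm hij]
      have hσo : ∀ l, l ≠ i ∧ l ≠ j → σ l = 1 := by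
        intro l hl; simp [σ, hl.1, hl.2]
      have hprod : ∏ l, (σ l : k) = 1 := by
        rw [Fintype.prod_eq_mul i j hij (fun l hl => by rw [hσo l hl]; rfl), hσi, hσj]
        simp
      have h1 := hcoeff σ m
      rw [hinv σ hprod] at h1
      have hne : MvPolynomial.coeff m f ≠ 0 := MvPolynomial.mem_support_iff.1 hm
      have h2 : ∏ l, (σ l : k) ^ m l = 1 := by
        have : MvPolynomial.coeff m f * 1 = MvPolynomial.coeff m f * ∏ l, (σ l : k) ^ m l := by
          rw [mul_one]; exact h1
        exact (mul_left_cancel₀ hne this).symm
      rw [Fintype.prod_eq_mul i j hij (fun l hl => by rw [hσo l hl]; simp), hσi, hσj] at h2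
      have h3 : (2 : k) ^ m i = (2 : k) ^ m j := by
        have h4 : ((u⁻¹ : kˣ) : k) = (2 : k)⁻¹ := by simp [u]
        have h5 : ((u : kˣ) : k) = 2 := rfl
        rw [h4, h5, inv_pow] at h2
        have h6 : (2 : k) ^ m j ≠ 0 := pow_ne_zero _ two_ne_zero
        field_simp at h2
        exact h2
      have h7 : (2 : ℕ) ^ m i = 2 ^ m j := by
        have : ((2 ^ m i : ℕ) : k) = ((2 ^ m j : ℕ) : k) := by push_cast; exact h3
        exact Nat.cast_injective this
      exact Nat.pow_right_injective (le_refl 2) h7
    rw [f.as_sum]
    refine Subalgebra.sum_mem _ fun m hm => ?_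
    have : MvPolynomial.monomial m (MvPolynomial.coeff m f) =
        MvPolynomial.C (MvPolynomial.coeff m f) * (∏ i : Fin (n + 1), MvPolynomial.X i) ^ (m 0) := by
      rw [MvPolynomial.monomial_eq, Finsupp.prod_fintype _ _ (by simp), ← Finset.prod_pow]
      congr 1
      refine Finset.prod_congr rfl fun l _ => ?_
      rw [hconst m hm l 0]
    rw [this]
    refine Subalgebra.mul_mem _ ?_ (Subalgebra.pow_mem _ (Algebra.subset_adjoin (Set.mem_singleton _)) _)
    rw [← MvPolynomial.algebraMap_eq]
    exact Subalgebra.algebraMap_mem _ _
  · intro hf σ hσ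
    have hle : Algebra.adjoin k ({∏ i : Fin (n + 1), MvPolynomial.X i} : Set (MvPolynomial (Fin (n + 1)) k)) ≤
        AlgHom.equalizer (MvPolynomial.aeval (fun i => MvPolynomial.C (σ i : k) * MvPolynomial.X i))
          (AlgHom.id k _) := by
      rw [Algebra.adjoin_le_iff]
      rintro _ rfl
      show MvPolynomial.aeval (fun i => MvPolynomial.C (σ i : k) * MvPolynomial.X i)
        (∏ i : Fin (n + 1), MvPolynomial.X i) = ∏ i : Fin (n + 1), MvPolynomial.X i
      rw [map_prod]
      simp only [MvPolynomial.aeval_X, Finset.prod_mul_distrib, ← map_prod, hσ, map_one, one_mul]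
    exact hle hf

end Groth.Agent.S18946
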