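import Groth.Statements.S18948
import Mathlib

set_option autoImplicit false
universe u v
open CExt

namespace Groth.Agent.S18948

/-- Let f : E → G be a surjective homomorphism of groups whose kernel is central in E, and let x ∈ E.
Then f maps the conjugacy class of x bijectively onto the conjugacy class of f(x) if and only if
every element of G commuting with f(x) is the image of some element of E commuting with x. (In the
source E → G is the central extension, with kernel the roots of unity, attached to a Brauer class of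
the classifying stack of a finite tame étale group scheme, and a conjugacy class of E mapping
bijectively onto a given class of G is a marking; the equivalence is stated here for an arbitrary
central extension of abstract groups.) -/
theorem result {E : Type u} {G : Type v} [Group E] [Group G]
    (f : E →* G) (hf : Function.Surjective f) (hker : f.ker ≤ Subgroup.center E) (x : E) :
    Set.BijOn f (MulAction.orbit (ConjAct E) x) (MulAction.orbit (ConjAct G) (f x)) ↔
      ∀ g : G, g * f x = f x * g → ∃ e : E, f e = g ∧ e * x = x * e := by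
  have horbE : ∀ y : E, y ∈ MulAction.orbit (ConjAct E) x ↔ ∃ e : E, e * x * e⁻¹ = y := by
    intro y
    constructor
    · rintro ⟨c, rfl⟩
      exact ⟨ConjAct.ofConjAct c, (ConjAct.smul_def c x).symm⟩
    · rintro ⟨e, rfl⟩
      exact ⟨ConjAct.toConjAct e, by simp [ConjAct.smul_def]⟩
  have horbG : ∀ y : G, y ∈ MulAction.orbit (ConjAct G) (f x) ↔ ∃ g : G, g * f x * g⁻¹ = y := by
    intro y
    constructor
    · rintro ⟨c, rfl⟩
      exact ⟨ConjAct.ofConjAct c, (ConjAct.smul_def c (f x)).symm⟩
    · rintro ⟨g, rfl⟩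
      exact ⟨ConjAct.toConjAct g, by simp [ConjAct.smul_def]⟩
  have hc : ∀ a ∈ f.ker, ∀ e : E, a * e = e * a := by
    intro a ha e
    exact (Subgroup.mem_center_iff.mp (hker ha) e).symm
  constructor
  · rintro ⟨-, hinj, -⟩ g hg
    obtain ⟨e, rfl⟩ := hf g
    refine ⟨e, rfl, ?_⟩
    have h1 : e * x * e⁻¹ ∈ MulAction.orbit (ConjAct E) x := (horbE _).2 ⟨e, rfl⟩
    have h2 : x ∈ MulAction.orbit (ConjAct E) x := MulAction.mem_orbit_self x
    have h3 : f (e * x * e⁻¹) = f x := by
      rw [map_mul, map_mul, map_inv, hg]; group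
    have := hinj h1 h2 h3
    calc e * x = e * x * e⁻¹ * e := by group
      _ = x * e := by rw [this]
  · intro h
    refine ⟨?_, ?_, ?_⟩
    · intro y hy
      obtain ⟨e, rfl⟩ := (horbE y).1 hy
      exact (horbG _).2 ⟨f e, by simp⟩
    · intro y hy z hz hyz
      obtain ⟨e1, rfl⟩ := (horbE y).1 hy
      obtain ⟨e2, rfl⟩ := (horbE z).1 hz
      -- g = f (e2⁻¹ e1) commutes with f x
      have hg : f (e2⁻¹ * e1) * f x = f x * f (e2⁻¹ * e1) := by
        simp only [map_mul, map_inv] at hyz ⊢
        calc (f e2)⁻¹ * f e1 * f x = (f e2)⁻¹ * (f e1 * f x * (f e1)⁻¹) * f e1 := by group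
          _ = (f e2)⁻¹ * (f e2 * f x * (f e2)⁻¹) * f e1 := by rw [hyz]
          _ = _ := by group
      obtain ⟨e', he', hcomm⟩ := h _ hg
      -- e2⁻¹ e1 = e' a with a in kernel
      have ha : e'⁻¹ * (e2⁻¹ * e1) ∈ f.ker := by
        rw [MonoidHom.mem_ker, map_mul, map_inv, he']; group
      have hax := hc _ ha x
      have key : (e2⁻¹ * e1) * x = x * (e2⁻¹ * e1) := by
        calc (e2⁻¹ * e1) * x = e' * ((e'⁻¹ * (e2⁻¹ * e1)) * x) := by group
          _ = e' * (x * (e'⁻¹ * (e2⁻¹ * e1))) := by rw [hax]
          _ = (e' * x) * (e'⁻¹ * (e2⁻¹ * e1)) := by group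
          _ = (x * e') * (e'⁻¹ * (e2⁻¹ * e1)) := by rw [hcomm]
          _ = _ := by group
      calc e1 * x * e1⁻¹ = e2 * ((e2⁻¹ * e1) * x) * e1⁻¹ := by group
        _ = e2 * (x * (e2⁻¹ * e1)) * e1⁻¹ := by rw [key]
        _ = _ := by group
    · intro y hy
      obtain ⟨g, rfl⟩ := (horbG y).1 hy
      obtain ⟨e, rfl⟩ := hf g
      exact ⟨e * x * e⁻¹, (horbE _).2 ⟨e, rfl⟩, by simp⟩

end Groth.Agent.S18948
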