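import Groth.Statements.S18952
import Mathlib


set_option autoImplicit false
universe u
open OrbPic

namespace Groth.Agent.S18952

/-- Let G be a group and C ⊆ G a subset stable under conjugation. Then (χ, w) ↦ χ maps the group of
geometric partial orbifold line bundles with respect to C onto all characters G → ℚ/ℤ, and a pair in
its kernel (χ trivial) has w a conjugation-invariant integer-valued function vanishing at 1 and
outside C: with the inclusion of such functions this is the exact sequence 0 → Hom(C/conj, ℤ) → Pic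
→ Hom(G, ℚ/ℤ) → 0 over a separably closed field. (As in the source after a choice of roots of unity,
the group G stands for the geometric points of a tame finite étale group scheme, characters are
homomorphisms to ℚ/ℤ and weights are class functions on G.) -/
theorem result (G : Type u) [Group G] (C : Set G)
    (hC : ∀ g h : G, g ∈ C → h * g * h⁻¹ ∈ C) :
    (∀ χ : Additive G →+ W4c6brauerbgmalle.QmodZ, ∃ w : G → ℚ, (χ, w) ∈ W4c6brauerbgmalle.picOrb G C) ∧
      (∀ p : (Additive G →+ W4c6brauerbgmalle.QmodZ) × (G → ℚ), p ∈ W4c6brauerbgmalle.picOrb G C → p.1 = 0 →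
        p.2 ∈ W4c6brauerbgmalle.intWeights G C) := by
  classical
  constructor
  · intro χ
    have hsurj : Function.Surjective (W4c6brauerbgmalle.toQmodZ) := QuotientAddGroup.mk'_surjective _
    obtain ⟨s, hs⟩ := hsurj.hasRightInverse
    have hCiff : ∀ g h : G, h * g * h⁻¹ ∈ C ↔ g ∈ C := by
      intro g h
      constructor
      · intro hg
        have := hC _ h⁻¹ hg
        simpa [mul_assoc] using this
      · exact hC g h
    have hχ : ∀ g h : G, χ (Additive.ofMul (h * g * h⁻¹)) = χ (Additive.ofMul g) := by
      intro g h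
      rw [ofMul_mul, ofMul_mul, ofMul_inv, map_add, map_add, map_neg]
      abel
    refine ⟨fun g => if g ∈ C ∧ g ≠ 1 then s (χ (Additive.ofMul g)) else 0, ?_, ?_, ?_, ?_⟩
    · show (if (1:G) ∈ C ∧ (1:G) ≠ 1 then s (χ (Additive.ofMul (1:G))) else 0) = 0
      rw [if_neg]
      rintro ⟨-, h⟩
      exact h rfl
    · intro g hg
      show (if g ∈ C ∧ g ≠ 1 then s (χ (Additive.ofMul g)) else 0) = 0
      rw [if_neg]
      rintro ⟨h, -⟩
      exact hg h
    · intro g h
      show (if h * g * h⁻¹ ∈ C ∧ h * g * h⁻¹ ≠ 1 then s (χ (Additive.ofMul (h * g * h⁻¹))) else 0)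
        = (if g ∈ C ∧ g ≠ 1 then s (χ (Additive.ofMul g)) else 0)
      have h1 : h * g * h⁻¹ ≠ 1 ↔ g ≠ 1 := by
        rw [not_iff_not]
        constructor
        · intro hh
          have : g = h⁻¹ * (h * g * h⁻¹) * h := by group
          rw [this, hh]; group
        · intro hh
          rw [hh]; group
      rw [hχ g h]
      simp only [hCiff g h, h1]
    · intro g hg
      show W4c6brauerbgmalle.toQmodZ (if g ∈ C ∧ g ≠ 1 then s (χ (Additive.ofMul g)) else 0)
        = χ (Additive.ofMul g)
      by_cases h1 : g = 1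
      · rw [if_neg (by rintro ⟨-, h⟩; exact h h1), h1, map_zero, ofMul_one, map_zero]
      · rw [if_pos ⟨hg, h1⟩, hs]
  · rintro p ⟨hp1, hp2, hp3, hp4⟩ hp
    refine ⟨hp1, hp2, hp3, ?_⟩
    intro g
    by_cases hg : g ∈ C
    · have h := hp4 g hg
      rw [hp, AddMonoidHom.zero_apply] at h
      have h2 : p.2 g ∈ AddSubgroup.zmultiples (1 : ℚ) := by
        have := (QuotientAddGroup.eq_zero_iff (N := AddSubgroup.zmultiples (1 : ℚ)) (p.2 g)).1 h
        exact this
      obtain ⟨n, hn⟩ := AddSubgroup.mem_zmultiples_iff.1 h2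
      refine ⟨n, ?_⟩
      rw [← hn]; simp
    · exact ⟨0, by rw [hp2 g hg]; simp⟩

end Groth.Agent.S18952
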