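import Groth.Statements.S18953
import Mathlib


set_option autoImplicit false
universe u v
open OrbPic

namespace Groth.Agent.S18953

/-- Let G₁ and G₂ be groups with subsets C₁ ⊆ G₁ and C₂ ⊆ G₂, and let C ⊆ G₁ × G₂ be the union of C₁ ×
{1} and {1} × C₂. Restricting the character and the weight along the two inclusions G₁ → G₁ × G₂ and
G₂ → G₁ × G₂ is a bijection from the geometric partial orbifold line bundles of G₁ × G₂ with respect
to C onto pairs of geometric partial orbifold line bundles of G₁ with respect to C₁ and of G₂ with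
respect to C₂. (As in the source after a choice of roots of unity, each group stands for the
geometric points of a tame finite étale group scheme, characters are homomorphisms to ℚ/ℤ and
weights are class functions; the source states the Galois-equivariant version, which follows by
taking invariants.) -/
theorem result (G₁ : Type u) (G₂ : Type v) [Group G₁] [Group G₂] (C₁ : Set G₁) (C₂ : Set G₂) :
    Set.BijOn
      (fun p : (Additive (G₁ × G₂) →+ W4c6brauerbgmalle.QmodZ) × (G₁ × G₂ → ℚ) =>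
        ((p.1.comp (MonoidHom.toAdditive (MonoidHom.inl G₁ G₂)), fun g => p.2 (g, 1)),
          (p.1.comp (MonoidHom.toAdditive (MonoidHom.inr G₁ G₂)), fun g => p.2 (1, g))))
      (W4c6brauerbgmalle.picOrb (G₁ × G₂) ((fun g => (g, (1 : G₂))) '' C₁ ∪ (fun g => ((1 : G₁), g)) '' C₂))
      ((W4c6brauerbgmalle.picOrb G₁ C₁ : Set _) ×ˢ (W4c6brauerbgmalle.picOrb G₂ C₂ : Set _)) := by
  classical
  set C : Set (G₁ × G₂) := (fun g => (g, (1 : G₂))) '' C₁ ∪ (fun g => ((1 : G₁), g)) '' C₂ with hCdef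
  have hC1 : ∀ g : G₁, g ∈ C₁ → ((g, (1:G₂)) : G₁ × G₂) ∈ C := fun g hg => Or.inl ⟨g, hg, rfl⟩
  have hC2 : ∀ g : G₂, g ∈ C₂ → (((1:G₁), g) : G₁ × G₂) ∈ C := fun g hg => Or.inr ⟨g, hg, rfl⟩
  refine ⟨?_, ?_, ?_⟩
  · -- MapsTo
    rintro ⟨χ, w⟩ ⟨hp1, hp2, hp3, hp4⟩
    refine ⟨⟨hp1, ?_, ?_, ?_⟩, ⟨hp1, ?_, ?_, ?_⟩⟩
    · intro g hg
      show w (g, 1) = 0
      by_cases h1 : g = 1
      · rw [h1]; exact hp1
      · apply hp2
        rintro (⟨c, hc, hce⟩ | ⟨c, hc, hce⟩)
        · simp only [Prod.mk.injEq] at hce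
          exact hg (hce.1 ▸ hc)
        · simp only [Prod.mk.injEq] at hce
          exact h1 hce.1.symm
    · intro g h
      show w (h * g * h⁻¹, 1) = w (g, 1)
      have := hp3 (g, 1) (h, 1)
      simpa using this
    · intro g hg
      show W4c6brauerbgmalle.toQmodZ (w (g, 1)) = χ (Additive.ofMul ((g, 1) : G₁ × G₂))
      exact hp4 _ (hC1 g hg)
    · intro g hg
      show w (1, g) = 0
      by_cases h1 : g = 1
      · rw [h1]; exact hp1
      · apply hp2
        rintro (⟨c, hc, hce⟩ | ⟨c, hc, hce⟩)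
        · simp only [Prod.mk.injEq] at hce
          exact h1 hce.2.symm
        · simp only [Prod.mk.injEq] at hce
          exact hg (hce.2 ▸ hc)
    · intro g h
      show w (1, h * g * h⁻¹) = w (1, g)
      have := hp3 (1, g) (1, h)
      simpa using this
    · intro g hg
      show W4c6brauerbgmalle.toQmodZ (w (1, g)) = χ (Additive.ofMul ((1, g) : G₁ × G₂))
      exact hp4 _ (hC2 g hg)
  · -- InjOn
    rintro ⟨χ, w⟩ ⟨hp1, hp2, hp3, hp4⟩ ⟨χ', w'⟩ ⟨hq1, hq2, hq3, hq4⟩ hpq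
    simp only [Prod.mk.injEq] at hpq
    obtain ⟨⟨hχ1, hw1⟩, ⟨hχ2, hw2⟩⟩ := hpq
    have e1 : ∀ g : G₁, χ (Additive.ofMul ((g, 1) : G₁ × G₂)) = χ' (Additive.ofMul ((g, 1) : G₁ × G₂)) :=
      fun g => DFunLike.congr_fun hχ1 (Additive.ofMul g)
    have e2 : ∀ g : G₂, χ (Additive.ofMul ((1, g) : G₁ × G₂)) = χ' (Additive.ofMul ((1, g) : G₁ × G₂)) :=
      fun g => DFunLike.congr_fun hχ2 (Additive.ofMul g)
    have hχ : χ = χ' := by
      refine AddMonoidHom.ext fun a => ?_
      obtain ⟨⟨g1, g2⟩, rfl⟩ := Additive.ofMul.surjective a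
      have : Additive.ofMul ((g1, g2) : G₁ × G₂) =
          Additive.ofMul ((g1, 1) : G₁ × G₂) + Additive.ofMul ((1, g2) : G₁ × G₂) := by
        rw [← ofMul_mul]; simp
      show χ (Additive.ofMul ((g1, g2) : G₁ × G₂)) = χ' (Additive.ofMul ((g1, g2) : G₁ × G₂))
      rw [this, map_add, map_add, e1, e2]
    have hw : w = w' := by
      ext ⟨g1, g2⟩
      by_cases hg : ((g1, g2) : G₁ × G₂) ∈ C
      · rcases hg with (⟨c, hc, hce⟩ | ⟨c, hc, hce⟩)
        · rw [← hce]; exact congrFun hw1 c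
        · rw [← hce]; exact congrFun hw2 c
      · exact (hp2 _ hg).trans (hq2 _ hg).symm
    rw [hχ, hw]
  · -- SurjOn
    rintro ⟨⟨χ1, w1⟩, ⟨χ2, w2⟩⟩ ⟨⟨hp1, hp2, hp3, hp4⟩, ⟨hq1, hq2, hq3, hq4⟩⟩
    simp only at hp1 hp2 hp3 hp4 hq1 hq2 hq3 hq4
    let χ : Additive (G₁ × G₂) →+ W4c6brauerbgmalle.QmodZ :=
      χ1.comp (MonoidHom.toAdditive (MonoidHom.fst G₁ G₂)) +
        χ2.comp (MonoidHom.toAdditive (MonoidHom.snd G₁ G₂))
    let w : G₁ × G₂ → ℚ := fun g => if g.2 = 1 then w1 g.1 else if g.1 = 1 then w2 g.2 else 0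
    have hχ : ∀ g1 g2, χ (Additive.ofMul ((g1, g2) : G₁ × G₂)) =
        χ1 (Additive.ofMul g1) + χ2 (Additive.ofMul g2) := fun g1 g2 => rfl
    have hw : ∀ g1 g2, w (g1, g2) = if g2 = 1 then w1 g1 else if g1 = 1 then w2 g2 else 0 :=
      fun g1 g2 => rfl
    refine ⟨(χ, w), ⟨?_, ?_, ?_, ?_⟩, ?_⟩
    · show w (1, 1) = 0
      rw [hw, if_pos rfl]; exact hp1
    · rintro ⟨g1, g2⟩ hg
      show w (g1, g2) = 0
      rw [hw]
      split_ifs with h2 h1
      · apply hp2
        intro hg1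
        apply hg
        rw [h2]; exact hC1 g1 hg1
      · apply hq2
        intro hg2
        apply hg
        rw [h1]; exact hC2 g2 hg2
      · rfl
    · rintro ⟨g1, g2⟩ ⟨h1, h2⟩
      show w (h1 * g1 * h1⁻¹, h2 * g2 * h2⁻¹) = w (g1, g2)
      rw [hw, hw]
      have e1 : h1 * g1 * h1⁻¹ = 1 ↔ g1 = 1 := by
        constructor
        · intro hh
          have : g1 = h1⁻¹ * (h1 * g1 * h1⁻¹) * h1 := by group
          rw [this, hh]; group
        · intro hh; rw [hh]; group
      have e2 : h2 * g2 * h2⁻¹ = 1 ↔ g2 = 1 := by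
        constructor
        · intro hh
          have : g2 = h2⁻¹ * (h2 * g2 * h2⁻¹) * h2 := by group
          rw [this, hh]; group
        · intro hh; rw [hh]; group
      simp only [e1, e2, hp3, hq3]
    · rintro ⟨g1, g2⟩ hg
      show W4c6brauerbgmalle.toQmodZ (w (g1, g2)) = χ (Additive.ofMul ((g1, g2) : G₁ × G₂))
      rw [hw, hχ]
      rcases hg with (⟨c, hc, hce⟩ | ⟨c, hc, hce⟩)
      · simp only [Prod.mk.injEq] at hce
        obtain ⟨rfl, rfl⟩ := hce
        rw [if_pos rfl, hp4 c hc, ofMul_one, map_zero, add_zero]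
      · simp only [Prod.mk.injEq] at hce
        obtain ⟨rfl, rfl⟩ := hce
        by_cases h1 : c = 1
        · rw [if_pos h1, hp1, h1]; simp
        · rw [if_neg h1, if_pos rfl, hq4 c hc, ofMul_one, map_zero, zero_add]
    · simp only [Prod.mk.injEq]
      refine ⟨⟨?_, ?_⟩, ⟨?_, ?_⟩⟩
      · refine AddMonoidHom.ext fun a => ?_
        show χ (Additive.ofMul ((Additive.toMul a, 1) : G₁ × G₂)) = χ1 a
        rw [hχ, ofMul_one, map_zero, add_zero]; rfl
      · ext g
        show w (g, 1) = w1 g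
        rw [hw, if_pos rfl]
      · refine AddMonoidHom.ext fun a => ?_
        show χ (Additive.ofMul ((1, Additive.toMul a) : G₁ × G₂)) = χ2 a
        rw [hχ, ofMul_one, map_zero, zero_add]; rfl
      · ext g
        show w (1, g) = w2 g
        rw [hw]
        by_cases h1 : g = 1
        · rw [if_pos h1, hp1, h1, hq1]
        · rw [if_neg h1, if_pos rfl]

end Groth.Agent.S18953
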