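import Groth.Statements.S18954
import Mathlib

set_option autoImplicit false
universe u v w
open Classical
open BGCount

namespace Groth.Agent.S18954

/-- Let a finite group G act on a finite set X, let W be a finite set of orbits and f a function on
orbits with values in a field of characteristic zero. Then Σ_{O ∈ W} f(O)/|Stab(x_O)|, with x_O any
point of O, equals |G|⁻¹ · Σ f(orbit(x)) over the points x of X whose orbit lies in W. (In the
source X is the set of 1-cocycles of the absolute Galois group of a field in a finite étale group
scheme G, acted on by the geometric points of G, the orbits are the isomorphism classes of G-torsors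
and the stabilisers their automorphism groups; stated here for an arbitrary action of a finite group
on a finite set, the representative x_O being chosen by Quotient.out.) -/
theorem result {G : Type u} {X : Type v} (𝕜 : Type w)
    [Group G] [Fintype G] [MulAction G X] [Fintype X] [Field 𝕜] [CharZero 𝕜]
    (W : Finset (MulAction.orbitRel.Quotient G X)) (f : MulAction.orbitRel.Quotient G X → 𝕜) :
    (∑ O ∈ W, f O / (Nat.card (MulAction.stabilizer G O.out) : 𝕜)) =
      (Fintype.card G : 𝕜)⁻¹ *
        ∑ x ∈ Finset.univ.filter (fun x : X => (Quotient.mk (MulAction.orbitRel G X) x) ∈ W),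
          f (Quotient.mk (MulAction.orbitRel G X) x) := by
  rw [← Finset.sum_fiberwise_eq_sum_filter Finset.univ W
    (fun x : X => Quotient.mk (MulAction.orbitRel G X) x)
    (fun x => f (Quotient.mk (MulAction.orbitRel G X) x)), Finset.mul_sum]
  refine Finset.sum_congr rfl fun O _ => ?_
  have h1 : ∑ x ∈ Finset.univ.filter (fun x : X => Quotient.mk (MulAction.orbitRel G X) x = O),
      f (Quotient.mk (MulAction.orbitRel G X) x) =
      ((Finset.univ.filter (fun x : X => Quotient.mk (MulAction.orbitRel G X) x = O)).card : 𝕜) * f O := by
    rw [Finset.sum_congr rfl (g := fun _ => f O)]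
    · rw [Finset.sum_const, nsmul_eq_mul]
    · intro x hx
      rw [(Finset.mem_filter.1 hx).2]
  rw [h1]
  have h2 : (Finset.univ.filter (fun x : X => Quotient.mk (MulAction.orbitRel G X) x = O)).card =
      Nat.card (MulAction.orbit G O.out) := by
    rw [← Nat.card_eq_finsetCard]
    apply Nat.card_congr
    refine Equiv.subtypeEquivRight fun x => ?_
    rw [Finset.mem_filter]
    simp only [Finset.mem_univ, true_and]
    rw [← MulAction.orbitRel.Quotient.orbit_eq_orbit_out O Quotient.out_eq',
      MulAction.orbitRel.Quotient.mem_orbit]
  have h3 : Nat.card (MulAction.orbit G O.out) * Nat.card (MulAction.stabilizer G O.out) =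
      Fintype.card G := by
    rw [← Nat.card_prod, Nat.card_congr (MulAction.orbitProdStabilizerEquivGroup G O.out),
      Nat.card_eq_fintype_card]
  have h4 : (Nat.card (MulAction.stabilizer G O.out) : 𝕜) ≠ 0 := by
    have : 0 < Nat.card (MulAction.stabilizer G O.out) := Nat.card_pos
    exact_mod_cast this.ne'
  have h5 : (Fintype.card G : 𝕜) ≠ 0 := by
    have : 0 < Fintype.card G := Fintype.card_pos
    exact_mod_cast this.ne'
  rw [h2]
  have h3' : (Nat.card (MulAction.orbit G O.out) : 𝕜) * (Nat.card (MulAction.stabilizer G O.out) : 𝕜) =
      (Fintype.card G : 𝕜) := by exact_mod_cast h3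
  field_simp
  rw [← h3']
  ring

end Groth.Agent.S18954
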