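import Groth.Statements.S18956
import Mathlib
import Groth.Agent.Lib.Helper28.MagnetClosed

set_option autoImplicit false
universe u
open CategoryTheory MonoidalCategory CartesianMonoidalCategory MonObj AlgebraicGeometry Opposite
open Magnet

namespace Groth.Agent.S18956

/-- Let k be a field, M an affine monoid k-scheme, G an affine group k-scheme and i : G → M a
homomorphism of monoids which is a quasi-compact open immersion with scheme-theoretically dense
image. Let X be a k-scheme with an action aX of G, and j : Z → X a closed immersion which is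
G-equivariant for an action aZ of G on Z (a closed G-stable subscheme). For a G-scheme W write D_W
for the functor on k-schemes whose value at Y is the set of k-morphisms M ×_k Y → W that are
G-equivariant for G acting on M ×_k Y by left multiplication through i on the first factor. Then the
square of presheaves formed by D_Z → D_X (composition with j), the restrictions D_Z → Z and D_X → X
to the unit section of M, and j is cartesian. (The published statement takes G to be the group of
units of M, open and schematically dense; here it is assumed only that i is a homomorphism of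
monoids and a quasi-compact, scheme-theoretically dominant open immersion.) -/
theorem result (k : Type u) [Field k]
    (M G X Z : Over (Spec (CommRingCat.of k))) [MonObj M] [GrpObj G] [IsAffine M.left] [IsAffine G.left]
    (i : G ⟶ M) [IsMonHom i] [IsOpenImmersion i.left] [QuasiCompact i.left]
    [IsSchemeTheoreticallyDominant i.left]
    (aX : AlgGrp.Action G X) (aZ : AlgGrp.Action G Z) (j : Z ⟶ X) [IsClosedImmersion j.left]
    (hj : Magnet.MonAct.IsEquivariant (Magnet.MonAct.ofAction aZ) (Magnet.MonAct.ofAction aX) j) :
    IsPullback
      (Magnet.MonAct.eqvHom.postcomp ((Magnet.MonAct.regular M).restrict i) j hj)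
      (Magnet.MonAct.eqvHom.evalAt ((Magnet.MonAct.regular M).restrict i) (Magnet.MonAct.ofAction aZ) η[M])
      (Magnet.MonAct.eqvHom.evalAt ((Magnet.MonAct.regular M).restrict i) (Magnet.MonAct.ofAction aX) η[M])
      (yoneda.map j) := by
  classical
  haveI : Mono j.left := inferInstance
  haveI : Mono j := Over.mono_of_mono_left j
  apply IsPullback.of_forall_isPullback_app
  intro Y
  rw [Limits.Types.isPullback_iff]
  refine ⟨?_, ?_, ?_⟩
  · ext φ
    exact (Category.assoc _ _ _).symm
  · rintro φ₁ φ₂ ⟨h₁, -⟩
    apply Subtype.ext
    have := congrArg Subtype.val h₁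
    simp only [Magnet.MonAct.eqvHom.postcomp_app_coe] at this
    exact (cancel_mono j).mp this
  · intro φ z hφz
    have hφ := φ.2
    rw [Magnet.MonAct.mem_eqvHom_iff] at hφ
    have hz : lift (toUnit (unop Y) ≫ η[M]) (𝟙 (unop Y)) ≫ φ.1 = z ≫ j := hφz
    have hjeq : aZ.act ≫ j = (G ◁ j) ≫ aX.act := hj
    -- restriction of φ to G ⊗ Y factors through Z
    have hGF : (i ▷ unop Y) ≫ φ.1 = ((G ◁ z) ≫ aZ.act) ≫ j := by
      apply Magnet.hom_ext_lift₂
      intro T g t
      have h1 := hφ T g (toUnit T ≫ η[M]) t
      rw [Magnet.MonAct.lift_restrict_act, Magnet.MonAct.lift_regular_act] at h1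
      have h2 : g ≫ i * (toUnit T ≫ η[M]) = g ≫ i := by
        rw [← Hom.one_def, _root_.mul_one]
      rw [h2] at h1
      have h3 : lift (toUnit T ≫ η[M]) t ≫ φ.1 = t ≫ z ≫ j := by
        rw [← hz, ← Category.assoc t, comp_lift, Category.comp_id, ← Category.assoc t,
          toUnit_unique (t ≫ toUnit _) (toUnit T)]
      rw [lift_whiskerRight_assoc, h1, h3, Category.assoc, hjeq,
        lift_whiskerLeft_assoc, lift_whiskerLeft_assoc, Magnet.MonAct.ofAction_act, Category.assoc]
    obtain ⟨c, hc⟩ := Groth.Agent.Helper28.MagnetClosed.exists_factor_closed k M G (unop Y) X Z i j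
      φ.1 ((G ◁ z) ≫ aZ.act) hGF
    have hceq : Magnet.MonAct.IsEquivariant
        (((Magnet.MonAct.regular M).restrict i).prod (Magnet.MonAct.trivial G (unop Y)))
        (Magnet.MonAct.ofAction aZ) c := by
      rw [Magnet.MonAct.mem_eqvHom_iff]
      intro T g b t
      rw [← cancel_mono j, Category.assoc, hc, hφ T g b t, Category.assoc,
        Magnet.MonAct.ofAction_act, Magnet.MonAct.ofAction_act, hjeq, lift_whiskerLeft_assoc,
        Category.assoc, hc]
    refine ⟨⟨c, hceq⟩, ?_, ?_⟩
    · apply Subtype.ext
      exact hc
    · show lift (toUnit (unop Y) ≫ η[M]) (𝟙 (unop Y)) ≫ c = z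
      rw [← cancel_mono j, Category.assoc, hc, hz]

end Groth.Agent.S18956
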