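import Groth.Statements.S18957
import Mathlib
import Groth.Agent.Lib.Helper28.AlgGrpShear
open Groth.Agent.Helper28.AlgGrpShear

set_option autoImplicit false
universe u
open CategoryTheory MonoidalCategory CartesianMonoidalCategory MonObj AlgebraicGeometry Opposite
open Magnet

namespace Groth.Agent.S18957

/-- Let k be a field, M a monoid k-scheme with an action a on a k-scheme X, G a group k-scheme and i : G
→ M a homomorphism of monoids which is a quasi-compact open immersion with scheme-theoretically
dense image. Let j : Z → X be a closed immersion and b an action of G on Z for which j is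
equivariant, G acting on X through i and a (a closed G-stable subscheme). Then the G-action on Z
extends to an M-action making j equivariant: there is an action c of M on Z such that j is
equivariant for c and a and the restriction of c along i is b. (The published statement takes G to
be the group of units of M, schematically dense in M; here it is assumed only that i is a
homomorphism of monoids and a quasi-compact, scheme-theoretically dominant open immersion.) -/
theorem result (k : Type u) [Field k]
    (M G X Z : Over (Spec (CommRingCat.of k))) [MonObj M] [GrpObj G]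
    (i : G ⟶ M) [IsMonHom i] [IsOpenImmersion i.left] [QuasiCompact i.left]
    [IsSchemeTheoreticallyDominant i.left]
    (a : Magnet.MonAct M X) (b : AlgGrp.Action G Z) (j : Z ⟶ X) [IsClosedImmersion j.left]
    (hj : Magnet.MonAct.IsEquivariant (Magnet.MonAct.ofAction b) (a.restrict i) j) :
    ∃ c : Magnet.MonAct M Z, Magnet.MonAct.IsEquivariant c a j ∧ c.restrict i = Magnet.MonAct.ofAction b := by
  classical
  have hj' : b.act ≫ j = (G ◁ j) ≫ (i ▷ X) ≫ a.act := hj
  let F : M ⊗ Z ⟶ X := (M ◁ j) ≫ a.act
  have hGF : (i ▷ Z) ≫ F = b.act ≫ j := by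
    rw [hj']
    simp only [F]
    rw [← Category.assoc, ← Category.assoc, ← whisker_exchange]
  -- schematic dominance of i ▷ Z
  have sq : IsPullback (fst G Z).left (i ▷ Z).left i.left (fst M Z).left :=
    (isPullback_fst i Z).map (Over.forget (Spec (CommRingCat.of k)))
  haveI : Flat Z.hom := inferInstance
  haveI : Flat (fst M Z).left := by
    have : (fst M Z).left = Limits.pullback.fst M.hom Z.hom := rfl
    rw [this]; infer_instance
  haveI : IsSchemeTheoreticallyDominant (i ▷ Z).left :=
    IsSchemeTheoreticallyDominant.of_isPullback sq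
  -- the closed subscheme F⁻¹(Z) of M × Z
  let p₁ := Limits.pullback.fst F.left j.left
  let p₂ := Limits.pullback.snd F.left j.left
  have hcomm : (i ▷ Z).left ≫ F.left = b.act.left ≫ j.left := by
    rw [← Over.comp_left, ← Over.comp_left, hGF]
  let ℓ := Limits.pullback.lift (i ▷ Z).left b.act.left hcomm
  have hℓ : ℓ ≫ p₁ = (i ▷ Z).left := Limits.pullback.lift_fst _ _ _
  haveI : IsClosedImmersion p₁ := inferInstance
  have hker : p₁.ker = ⊥ := by
    have := Scheme.Hom.le_ker_comp ℓ p₁
    rw [hℓ, IsSchemeTheoreticallyDominant.ker_eq_bot (i ▷ Z).left] at this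
    exact le_bot_iff.mp this
  haveI : IsIso p₁ := IsClosedImmersion.isIso_iff_ker_eq_bot.mpr hker
  let c₀' : (M ⊗ Z).left ⟶ Z.left := inv p₁ ≫ p₂
  have hc₀' : c₀' ≫ j.left = F.left := by
    simp only [c₀', Category.assoc]
    rw [IsIso.inv_comp_eq]
    exact Limits.pullback.condition.symm
  have hw : c₀' ≫ Z.hom = (M ⊗ Z).hom := by
    rw [← Over.w j, reassoc_of% hc₀', Over.w F]
  let c₀ : M ⊗ Z ⟶ Z := Over.homMk c₀' hw
  have hc₀ : c₀ ≫ j = F := by
    apply Over.OverMorphism.ext
    exact hc₀'
  haveI : Mono j.left := inferInstance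
  haveI : Mono j := Over.mono_of_mono_left j
  have hlift : ∀ {T : Over (Spec (CommRingCat.of k))} (g : T ⟶ M) (x : T ⟶ Z),
      lift g x ≫ c₀ ≫ j = lift g (x ≫ j) ≫ a.act := by
    intro T g x
    rw [hc₀]
    simp only [F]
    rw [lift_whiskerLeft_assoc]
  let c : Magnet.MonAct M Z := Magnet.MonAct.mk' c₀
    (fun T x => by
      rw [← cancel_mono j, Category.assoc, hlift, a.lift_one_act])
    (fun T g h x => by
      rw [← cancel_mono j, Category.assoc, Category.assoc, hlift, hlift, a.lift_mul_act,
        Category.assoc, hlift])
  refine ⟨c, ?_, ?_⟩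
  · show c₀ ≫ j = (M ◁ j) ≫ a.act
    exact hc₀
  · apply Magnet.MonAct.ext'
    show (i ▷ Z) ≫ c₀ = b.act
    rw [← cancel_mono j, Category.assoc, hc₀, hGF]

end Groth.Agent.S18957
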