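import Groth.Statements.S18960
import Mathlib


set_option autoImplicit false
universe w' w v u
open CategoryTheory Limits
open CatLim

namespace Groth.Agent.S18960

/-- Let C be a category and T an endofunctor of C; let C(T) be the category whose objects are pairs (X,
u) with u : T X → X an isomorphism and whose morphisms (X, u) → (Y, w) are the morphisms X → Y
compatible with u and w — the full subcategory of T-algebras with invertible structure map — and let
π : C(T) → C be the forgetful functor. If T preserves colimits of shape J then π creates colimits of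
shape J. (The source assumes T preserves all small colimits and concludes for all small shapes; the
argument is shape by shape.) -/
theorem result {C : Type u} [Category.{v} C] (T : C ⥤ C)
    (J : Type w) [Category.{w'} J] [PreservesColimitsOfShape J T] :
    Nonempty (CreatesColimitsOfShape J
      ((ObjectProperty.ι (fun A : Endofunctor.Algebra T => IsIso A.str)) ⋙ Endofunctor.Algebra.forget T)) := by
  refine ⟨⟨fun {K} => ?_⟩⟩
  let P : ObjectProperty (Endofunctor.Algebra T) := fun A => IsIso A.str
  let F : P.FullSubcategory ⥤ C := P.ι ⋙ Endofunctor.Algebra.forget T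
  haveI : F.ReflectsIsomorphisms := inferInstance
  refine createsColimitOfReflectsIso (F := F) (fun c t => ?_)
  have hiso : ∀ j, IsIso (K.obj j).obj.str := fun j => (K.obj j).property
  let e : ∀ j, T.obj (K.obj j).obj.a ≅ (K.obj j).obj.a := fun j => @asIso _ _ _ _ _ (hiso j)
  have he : ∀ j, (e j).hom = (K.obj j).obj.str := fun j => rfl
  let ι' : ∀ j, (K.obj j).obj.a ⟶ c.pt := fun j => c.ι.app j
  have hw : ∀ {j j' : J} (f : j ⟶ j'), (K.map f).hom.f ≫ ι' j' = ι' j := fun f => c.w f
  let α : (K ⋙ F) ⋙ T ⟶ K ⋙ F :=
    { app := fun j => (K.obj j).obj.str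
      naturality := fun j j' f => (K.map f).hom.h }
  let tT : IsColimit (T.mapCocone c) := isColimitOfPreserves T t
  let u : T.obj c.pt ⟶ c.pt := tT.desc ⟨c.pt, α ≫ c.ι⟩
  have hu : ∀ j, T.map (ι' j) ≫ u = (K.obj j).obj.str ≫ ι' j := fun j => tT.fac _ j
  let β : K ⋙ F ⟶ (K ⋙ F) ⋙ T :=
    { app := fun j => (e j).inv
      naturality := fun j j' f => by
        have h : T.map (K.map f).hom.f ≫ (e j').hom = (e j).hom ≫ (K.map f).hom.f :=
          (K.map f).hom.h
        show (K.map f).hom.f ≫ (e j').inv = (e j).inv ≫ T.map (K.map f).hom.f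
        rw [Iso.eq_inv_comp, ← Category.assoc, Iso.comp_inv_eq]
        exact h.symm }
  let v : c.pt ⟶ T.obj c.pt := t.desc ⟨T.obj c.pt, β ≫ (T.mapCocone c).ι⟩
  have hv : ∀ j, ι' j ≫ v = (e j).inv ≫ T.map (ι' j) := fun j => t.fac _ j
  have huv : u ≫ v = 𝟙 _ := by
    apply tT.hom_ext
    intro j
    show T.map (ι' j) ≫ u ≫ v = T.map (ι' j) ≫ 𝟙 _
    rw [← Category.assoc, hu, Category.assoc, hv, ← he, Iso.hom_inv_id_assoc, Category.comp_id]
  have hvu : v ≫ u = 𝟙 _ := by
    apply t.hom_ext
    intro j
    show ι' j ≫ v ≫ u = ι' j ≫ 𝟙 _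
    rw [← Category.assoc, hv, Category.assoc, hu, ← he, Iso.inv_hom_id_assoc, Category.comp_id]
  haveI hisou : IsIso u := ⟨v, huv, hvu⟩
  let pt : P.FullSubcategory := ⟨⟨c.pt, u⟩, hisou⟩
  let lifted : Cocone K :=
    { pt := pt
      ι :=
        { app := fun j => ObjectProperty.homMk ⟨ι' j, hu j⟩
          naturality := fun j j' f => by
            apply ObjectProperty.hom_ext
            apply Endofunctor.Algebra.Hom.ext
            show (K.map f).hom.f ≫ ι' j' = ι' j ≫ 𝟙 _
            rw [Category.comp_id]
            exact hw f } }
  refine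
    { liftedCocone := lifted
      validLift := Cocone.ext (Iso.refl _) (fun j => Category.comp_id _)
      makesColimit :=
        { desc := fun s => ObjectProperty.homMk ⟨t.desc (F.mapCocone s), by
            apply tT.hom_ext
            intro j
            show T.map (ι' j) ≫ T.map (t.desc (F.mapCocone s)) ≫ s.pt.obj.str =
              T.map (ι' j) ≫ u ≫ t.desc (F.mapCocone s)
            have h1 : ι' j ≫ t.desc (F.mapCocone s) = (s.ι.app j).hom.f := t.fac _ j
            rw [← Category.assoc, ← T.map_comp, h1, ← Category.assoc, hu, Category.assoc, h1]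
            exact (s.ι.app j).hom.h⟩
          fac := fun s j => by
            apply ObjectProperty.hom_ext
            apply Endofunctor.Algebra.Hom.ext
            exact t.fac (F.mapCocone s) j
          uniq := fun s m hm => by
            apply ObjectProperty.hom_ext
            apply Endofunctor.Algebra.Hom.ext
            apply t.uniq (F.mapCocone s) m.hom.f
            intro j
            exact congrArg (fun g => F.map g) (hm j) } }


end Groth.Agent.S18960
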