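import Groth.Statements.S18974
import Mathlib
-- import your own Groth.Agent.* helpers here

set_option autoImplicit false
universe u
open CAlg

namespace Groth.Agent.S18974

section
open Polynomial Finset TensorProduct

variable {A : Type u} [CommRing A] [Algebra ℚ A] (D : Derivation ℚ A A)

/-- iterated Leibniz rule -/
lemma leibniz_iter (n : ℕ) (x y : A) :
    ((D : A →ₗ[ℚ] A) ^ n) (x * y) = ∑ ij ∈ antidiagonal n,
      (n.choose ij.1) • ((((D : A →ₗ[ℚ] A) ^ ij.1) x) * (((D : A →ₗ[ℚ] A) ^ ij.2) y)) := by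
  set L : (A ⊗[ℚ] A) →ₗ[ℚ] (A ⊗[ℚ] A) := TensorProduct.map (D : A →ₗ[ℚ] A) LinearMap.id with hL
  set R : (A ⊗[ℚ] A) →ₗ[ℚ] (A ⊗[ℚ] A) := TensorProduct.map LinearMap.id (D : A →ₗ[ℚ] A) with hR
  set μ : (A ⊗[ℚ] A) →ₗ[ℚ] A := LinearMap.mul' ℚ A with hμ
  have hcomm : Commute L R := by
    change L * R = R * L
    apply TensorProduct.ext'
    intro a b
    simp [hL, hR, Module.End.mul_apply]
  have h1 : (D : A →ₗ[ℚ] A).comp μ = μ.comp (L + R) := by
    apply TensorProduct.ext'
    intro a b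
    simp [hL, hR, hμ, add_comm, mul_comm]
  have h2 : ∀ n : ℕ, ((D : A →ₗ[ℚ] A) ^ n).comp μ = μ.comp ((L + R) ^ n) := by
    intro n
    induction n with
    | zero => rw [pow_zero, pow_zero]; rfl
    | succ n ih =>
      rw [pow_succ', Module.End.mul_eq_comp, LinearMap.comp_assoc, ih, ← LinearMap.comp_assoc, h1,
        LinearMap.comp_assoc, pow_succ', Module.End.mul_eq_comp]
  have hLi : ∀ (i : ℕ) (a b : A), (L ^ i) (a ⊗ₜ b) = (((D : A →ₗ[ℚ] A) ^ i) a) ⊗ₜ b := by
    intro i
    induction i with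
    | zero => intro a b; simp
    | succ i ih => intro a b; rw [pow_succ', Module.End.mul_apply, ih, pow_succ',
        Module.End.mul_apply]; simp [hL]
  have hRi : ∀ (i : ℕ) (a b : A), (R ^ i) (a ⊗ₜ b) = a ⊗ₜ (((D : A →ₗ[ℚ] A) ^ i) b) := by
    intro i
    induction i with
    | zero => intro a b; simp
    | succ i ih => intro a b; rw [pow_succ', Module.End.mul_apply, ih, pow_succ',
        Module.End.mul_apply]; simp [hR]
  have h3 := congrArg (fun f => f (x ⊗ₜ[ℚ] y)) (h2 n)
  simp only [LinearMap.comp_apply] at h3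
  rw [hμ, LinearMap.mul'_apply] at h3
  rw [h3, hcomm.add_pow', LinearMap.sum_apply, map_sum]
  refine Finset.sum_congr rfl (fun ij _ => ?_)
  rw [LinearMap.smul_apply, map_nsmul, Module.End.mul_apply, hRi, hLi, LinearMap.mul'_apply]

/-- divided iterate `D^n / n!` -/
noncomputable def dn (n : ℕ) (x : A) : A := ((n.factorial : ℚ)⁻¹) • (((D : A →ₗ[ℚ] A) ^ n) x)

lemma dn_zero (x : A) : dn D 0 x = x := by simp [dn]

lemma dn_add (n : ℕ) (x y : A) : dn D n (x + y) = dn D n x + dn D n y := by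
  simp [dn, smul_add]

lemma dn_eq_zero_of_le {x : A} {N n : ℕ} (hN : ((D : A →ₗ[ℚ] A) ^ N) x = 0) (hn : N ≤ n) :
    dn D n x = 0 := by
  obtain ⟨m, rfl⟩ := Nat.exists_eq_add_of_le hn
  rw [dn, add_comm, pow_add, Module.End.mul_apply, hN, map_zero, smul_zero]

lemma dn_one (n : ℕ) (hn : 0 < n) : dn D n (1 : A) = 0 := by
  apply dn_eq_zero_of_le D (N := 1) _ hn
  simp

lemma dn_mul (n : ℕ) (x y : A) :
    dn D n (x * y) = ∑ ij ∈ antidiagonal n, dn D ij.1 x * dn D ij.2 y := by
  rw [dn, leibniz_iter, Finset.smul_sum]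
  refine Finset.sum_congr rfl (fun ij hij => ?_)
  have hn : ij.1 + ij.2 = n := Finset.HasAntidiagonal.mem_antidiagonal.mp hij
  simp only [dn]
  rw [smul_mul_smul_comm, ← Nat.cast_smul_eq_nsmul ℚ, smul_smul]
  congr 1
  rw [← hn, Nat.cast_add_choose ℚ]
  have h1 : ((ij.1 + ij.2).factorial : ℚ) ≠ 0 := Nat.cast_ne_zero.mpr (Nat.factorial_ne_zero _)
  have h2 : ((ij.1).factorial : ℚ) ≠ 0 := Nat.cast_ne_zero.mpr (Nat.factorial_ne_zero _)
  have h3 : ((ij.2).factorial : ℚ) ≠ 0 := Nat.cast_ne_zero.mpr (Nat.factorial_ne_zero _)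
  field_simp

lemma D_dn (n : ℕ) (x : A) : D (dn D n x) = ((n + 1 : ℕ) : ℚ) • dn D (n + 1) x := by
  simp only [dn]
  rw [D.map_smul, smul_smul, pow_succ', Module.End.mul_apply]
  congr 1
  · rw [Nat.factorial_succ]
    have h1 : ((n.factorial : ℕ) : ℚ) ≠ 0 := Nat.cast_ne_zero.mpr (Nat.factorial_ne_zero _)
    have h2 : ((n + 1 : ℕ) : ℚ) ≠ 0 := Nat.cast_ne_zero.mpr (Nat.succ_ne_zero _)
    push_cast
    field_simp

lemma dn_D (n : ℕ) (x : A) : dn D n (D x) = ((n + 1 : ℕ) : ℚ) • dn D (n + 1) x := by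
  simp only [dn]
  rw [smul_smul, pow_succ, Module.End.mul_apply]
  congr 1
  · rw [Nat.factorial_succ]
    have h1 : ((n.factorial : ℕ) : ℚ) ≠ 0 := Nat.cast_ne_zero.mpr (Nat.factorial_ne_zero _)
    have h2 : ((n + 1 : ℕ) : ℚ) ≠ 0 := Nat.cast_ne_zero.mpr (Nat.succ_ne_zero _)
    push_cast
    field_simp

variable {C : Type u} [CommRing C] [Algebra ℚ C] (g : A →+* C)

/-- the exponential power series -/
noncomputable def expPS (x : A) : PowerSeries C := PowerSeries.mk (fun n => g (dn D n x))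

lemma expPS_add (x y : A) : expPS D g (x + y) = expPS D g x + expPS D g y := by
  ext n; simp [expPS, dn_add]

lemma expPS_mul (x y : A) : expPS D g (x * y) = expPS D g x * expPS D g y := by
  ext n
  rw [PowerSeries.coeff_mul]
  simp only [expPS, PowerSeries.coeff_mk]
  rw [dn_mul, map_sum]
  simp

lemma expPS_one : expPS D g 1 = 1 := by
  ext n
  rw [PowerSeries.coeff_one]
  simp only [expPS, PowerSeries.coeff_mk]
  split_ifs with h
  · subst h; simp [dn_zero]
  · rw [dn_one D n (Nat.pos_of_ne_zero h), map_zero]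

lemma expPS_zero : expPS D g 0 = 0 := by
  ext n; simp [expPS, dn]

lemma coe_trunc_of_vanish (φ : PowerSeries C) (N : ℕ)
    (h : ∀ n, N ≤ n → PowerSeries.coeff n φ = 0) :
    ((PowerSeries.trunc N φ : C[X]) : PowerSeries C) = φ := by
  ext n
  rw [Polynomial.coeff_coe, PowerSeries.coeff_trunc]
  split_ifs with hn
  · rfl
  · exact (h n (not_lt.mp hn)).symm

variable (hnil : ∀ x : A, ∃ n : ℕ, ((D : A →ₗ[ℚ] A) ^ n) x = 0)

open Classical in
/-- nilpotency index -/
noncomputable def nu (x : A) : ℕ := Nat.find (hnil x)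

lemma nu_spec (x : A) : ((D : A →ₗ[ℚ] A) ^ (nu D hnil x)) x = 0 := by
  classical
  exact Nat.find_spec (hnil x)

/-- the exponential as a polynomial -/
noncomputable def expPoly (x : A) : C[X] := PowerSeries.trunc (nu D hnil x) (expPS D g x)

lemma coe_expPoly (x : A) : ((expPoly D g hnil x : C[X]) : PowerSeries C) = expPS D g x := by
  apply coe_trunc_of_vanish
  intro n hn
  simp only [expPS, PowerSeries.coeff_mk]
  rw [dn_eq_zero_of_le D (nu_spec D hnil x) hn, map_zero]

lemma coeff_expPoly (x : A) (n : ℕ) : (expPoly D g hnil x).coeff n = g (dn D n x) := by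
  rw [← Polynomial.coeff_coe, coe_expPoly]
  simp [expPS]

/-- the exponential ring homomorphism `x ↦ Σ g(D^n x / n!) X^n` -/
noncomputable def expHom : A →+* C[X] where
  toFun := expPoly D g hnil
  map_one' := by
    apply Polynomial.coe_injective
    rw [coe_expPoly, expPS_one, Polynomial.coe_one]
  map_mul' x y := by
    apply Polynomial.coe_injective
    rw [coe_expPoly, expPS_mul, Polynomial.coe_mul, coe_expPoly, coe_expPoly]
  map_zero' := by
    apply Polynomial.coe_injective
    rw [coe_expPoly, expPS_zero, Polynomial.coe_zero]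
  map_add' x y := by
    apply Polynomial.coe_injective
    rw [coe_expPoly, expPS_add, Polynomial.coe_add, coe_expPoly, coe_expPoly]

lemma coeff_expHom (x : A) (n : ℕ) : (expHom D g hnil x).coeff n = g (dn D n x) :=
  coeff_expPoly D g hnil x n

lemma expHom_eq_sum (x : A) (N : ℕ) (hN : ((D : A →ₗ[ℚ] A) ^ N) x = 0) :
    expHom D g hnil x = ∑ n ∈ Finset.range N, Polynomial.C (g (dn D n x)) * X ^ n := by
  ext m
  rw [coeff_expHom, Polynomial.finsetSum_coeff]
  simp only [Polynomial.coeff_C_mul_X_pow]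
  rw [Finset.sum_ite_eq]
  split_ifs with h
  · rfl
  · rw [dn_eq_zero_of_le D hN (by simpa using h), map_zero]

lemma natDegree_expHom_lt (x : A) (N : ℕ) (hN : ((D : A →ₗ[ℚ] A) ^ N) x = 0) (hN0 : 0 < N) :
    (expHom D g hnil x).natDegree < N := by
  rw [expHom_eq_sum D g hnil x N hN]
  refine lt_of_le_of_lt (Polynomial.natDegree_sum_le _ _) ?_
  rw [Finset.fold_max_lt]
  refine ⟨hN0, fun n hn => ?_⟩
  exact lt_of_le_of_lt (Polynomial.natDegree_C_mul_X_pow_le _ _) (Finset.mem_range.mp hn)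

end

section main
open Polynomial Finset

variable {A : Type u} [CommRing A] [Algebra ℚ A] (D : Derivation ℚ A A)
  (hnil : ∀ x : A, ∃ n : ℕ, ((D : A →ₗ[ℚ] A) ^ n) x = 0) (a : A) (ha : D a = 1)

/-- `x ↦ Σ (D^n x / n!) X^n` with coefficients in `A` -/
noncomputable def PA : A →+* A[X] := expHom D (RingHom.id A) hnil

/-- the Dixmier projection `x ↦ Σ (-1)^n/n! D^n(x) a^n` -/
noncomputable def piHom : A →+* A := (Polynomial.evalRingHom (-a)).comp (PA D hnil)

lemma piHom_eq_sum (x : A) (N : ℕ) (hN : ((D : A →ₗ[ℚ] A) ^ N) x = 0) :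
    piHom D hnil a x = ∑ n ∈ Finset.range N, dn D n x * (-a) ^ n := by
  simp only [piHom, PA, RingHom.comp_apply]
  rw [expHom_eq_sum D (RingHom.id A) hnil x N hN, map_sum]
  simp

include ha in
lemma D_sq_a : ((D : A →ₗ[ℚ] A) ^ 2) a = 0 := by
  rw [pow_two, Module.End.mul_apply]
  change D (D a) = 0
  rw [ha]
  exact D.map_one_eq_zero

include ha in
lemma piHom_a : piHom D hnil a a = 0 := by
  rw [piHom_eq_sum D hnil a a 2 (D_sq_a D a ha)]
  simp only [Finset.sum_range_succ, Finset.sum_range_zero, zero_add, pow_zero, mul_one, pow_one]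
  rw [dn_zero]
  have : dn D 1 a = 1 := by
    simp only [dn, Nat.factorial_one, Nat.cast_one, inv_one, one_smul, pow_one]
    exact ha
  rw [this]
  ring

include ha in
lemma D_piHom (x : A) : D (piHom D hnil a x) = 0 := by
  obtain ⟨N, hN⟩ := hnil x
  rw [piHom_eq_sum D hnil a x N hN, map_sum]
  have hterm : ∀ n : ℕ, D (dn D n x * (-a) ^ n) =
      (((n + 1 : ℕ) : ℚ) • (dn D (n + 1) x * (-a) ^ (n + 1 - 1))) -
        ((n : ℕ) : ℚ) • (dn D n x * (-a) ^ (n - 1)) := by
    intro n
    rw [D.leibniz, D.leibniz_pow, D_dn, map_neg, ha, Nat.add_sub_cancel]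
    simp only [smul_eq_mul, Algebra.smul_def, map_natCast, eq_natCast]
    ring
  simp_rw [hterm]
  rw [Finset.sum_range_sub (fun n => ((n : ℕ) : ℚ) • (dn D n x * (-a) ^ (n - 1)))]
  rw [dn_eq_zero_of_le D hN le_rfl]
  simp

lemma mk_piHom (x : A) :
    Ideal.Quotient.mk (Ideal.span ({a} : Set A)) (piHom D hnil a x) =
      Ideal.Quotient.mk (Ideal.span ({a} : Set A)) x := by
  obtain ⟨N, hN⟩ := hnil x
  have hN' : ((D : A →ₗ[ℚ] A) ^ (N + 1)) x = 0 := by
    rw [pow_succ', Module.End.mul_apply, hN, map_zero]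
  rw [piHom_eq_sum D hnil a x (N + 1) hN', Finset.sum_range_succ', map_add, pow_zero, mul_one,
    dn_zero]
  have : Ideal.Quotient.mk (Ideal.span ({a} : Set A))
      (∑ n ∈ Finset.range N, dn D (n + 1) x * (-a) ^ (n + 1)) = 0 := by
    rw [Ideal.Quotient.eq_zero_iff_mem]
    apply Ideal.sum_mem
    intro n _
    rw [pow_succ, neg_eq_neg_one_mul a]
    apply Ideal.mul_mem_left
    apply Ideal.mul_mem_left
    apply Ideal.mul_mem_left
    exact Ideal.subset_span rfl
  rw [this, zero_add]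


/-- the exponential with coefficients in the quotient -/
noncomputable def EE : A →+* (A ⧸ Ideal.span ({a} : Set A))[X] :=
  expHom D (Ideal.Quotient.mk (Ideal.span ({a} : Set A))) hnil

lemma pow_D_eq_zero_of_D_eq_zero {y : A} (hy : D y = 0) : ((D : A →ₗ[ℚ] A) ^ 1) y = 0 := by
  rw [pow_one]; exact hy

include ha in
lemma EE_piHom (x : A) :
    EE D hnil a (piHom D hnil a x) =
      Polynomial.C (Ideal.Quotient.mk (Ideal.span ({a} : Set A)) x) := by
  ext n
  rw [EE, coeff_expHom, Polynomial.coeff_C]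
  split_ifs with h
  · subst h
    rw [dn_zero, mk_piHom]
  · rw [dn_eq_zero_of_le D (pow_D_eq_zero_of_D_eq_zero D (D_piHom D hnil a ha x))
      (Nat.pos_of_ne_zero h), map_zero]

include ha in
lemma EE_a : EE D hnil a a = Polynomial.X := by
  ext n
  rw [EE, coeff_expHom, Polynomial.coeff_X]
  rcases Nat.lt_trichotomy n 1 with h | h | h
  · have h0 : n = 0 := by omega
    subst h0
    rw [dn_zero, if_neg (by norm_num)]
    rw [Ideal.Quotient.eq_zero_iff_mem]
    exact Ideal.subset_span rfl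
  · subst h
    rw [if_pos rfl]
    have : dn D 1 a = 1 := by
      simp only [dn, Nat.factorial_one, Nat.cast_one, inv_one, one_smul, pow_one]
      exact ha
    rw [this, map_one]
  · rw [if_neg (by omega), dn_eq_zero_of_le D (D_sq_a D a ha) h, map_zero]

include ha in
lemma piHom_mem (y : A) (hy : y ∈ Ideal.span ({a} : Set A)) : piHom D hnil a y = 0 := by
  rw [Ideal.mem_span_singleton'] at hy
  obtain ⟨c, rfl⟩ := hy
  rw [map_mul, piHom_a D hnil a ha, mul_zero]

/-- `π` descended to the quotient -/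
noncomputable def piBar : (A ⧸ Ideal.span ({a} : Set A)) →+* A :=
  Ideal.Quotient.lift (Ideal.span ({a} : Set A)) (piHom D hnil a) (piHom_mem D hnil a ha)

/-- the inverse map -/
noncomputable def psi : (A ⧸ Ideal.span ({a} : Set A))[X] →+* A :=
  Polynomial.eval₂RingHom (piBar D hnil a ha) a

lemma psi_C_mk (x : A) :
    psi D hnil a ha (Polynomial.C (Ideal.Quotient.mk (Ideal.span ({a} : Set A)) x)) =
      piHom D hnil a x := by
  simp [psi, piBar]

lemma psi_X : psi D hnil a ha Polynomial.X = a := by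
  simp [psi]

lemma EE_comp_psi : (EE D hnil a).comp (psi D hnil a ha) = RingHom.id _ := by
  apply Polynomial.ringHom_ext
  · intro q
    obtain ⟨x, rfl⟩ := Ideal.Quotient.mk_surjective q
    rw [RingHom.comp_apply, psi_C_mk, EE_piHom D hnil a ha]
    rfl
  · rw [RingHom.comp_apply, psi_X, EE_a D hnil a ha]
    rfl

lemma dn_dn (m n : ℕ) (x : A) :
    dn D m (dn D n x) = (((m + n).choose n : ℕ) : ℚ) • dn D (m + n) x := by
  simp only [dn]
  rw [map_smul, smul_smul, smul_smul, pow_add, Module.End.mul_apply]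
  congr 1
  rw [add_comm m n, Nat.cast_add_choose ℚ]
  have h1 : ((n + m).factorial : ℚ) ≠ 0 := Nat.cast_ne_zero.mpr (Nat.factorial_ne_zero _)
  have h2 : ((n).factorial : ℚ) ≠ 0 := Nat.cast_ne_zero.mpr (Nat.factorial_ne_zero _)
  have h3 : ((m).factorial : ℚ) ≠ 0 := Nat.cast_ne_zero.mpr (Nat.factorial_ne_zero _)
  field_simp

lemma PA_dn (n : ℕ) (x : A) : PA D hnil (dn D n x) = Polynomial.hasseDeriv n (PA D hnil x) := by
  ext m
  rw [Polynomial.hasseDeriv_coeff, PA, coeff_expHom, coeff_expHom, RingHom.id_apply,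
    RingHom.id_apply, dn_dn, Algebra.smul_def, map_natCast]

lemma PA_coeff_zero (x : A) : (PA D hnil x).coeff 0 = x := by
  rw [PA, coeff_expHom, dn_zero, RingHom.id_apply]

lemma psi_EE (x : A) : psi D hnil a ha (EE D hnil a x) = x := by
  obtain ⟨N, hN⟩ := hnil x
  have hN' : ((D : A →ₗ[ℚ] A) ^ (N + 1)) x = 0 := by
    rw [pow_succ', Module.End.mul_apply, hN, map_zero]
  rw [EE, expHom_eq_sum D _ hnil x (N + 1) hN', map_sum]
  have h1 : ∀ n ∈ Finset.range (N + 1),
      psi D hnil a ha (Polynomial.C (Ideal.Quotient.mk (Ideal.span ({a} : Set A)) (dn D n x)) *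
        X ^ n) = (Polynomial.taylor (-a) (PA D hnil x)).coeff n * a ^ n := by
    intro n _
    rw [map_mul, map_pow, psi_C_mk, psi_X, Polynomial.taylor_coeff, ← PA_dn]
    rfl
  rw [Finset.sum_congr rfl h1]
  have hdeg : (Polynomial.taylor (-a) (PA D hnil x)).natDegree < N + 1 := by
    rw [Polynomial.natDegree_taylor]
    exact natDegree_expHom_lt D _ hnil x (N + 1) hN' (Nat.succ_pos _)
  rw [← Polynomial.eval_eq_sum_range' hdeg, Polynomial.taylor_eval, add_neg_cancel,
    ← Polynomial.coeff_zero_eq_eval_zero, PA_coeff_zero]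

lemma psi_comp_EE : (psi D hnil a ha).comp (EE D hnil a) = RingHom.id _ := by
  ext x
  rw [RingHom.comp_apply, psi_EE]
  rfl

lemma EE_D (x : A) : EE D hnil a (D x) = Polynomial.derivative (EE D hnil a x) := by
  ext n
  rw [Polynomial.coeff_derivative, EE, coeff_expHom, coeff_expHom, dn_D, Algebra.smul_def,
    map_mul, map_natCast, map_natCast, mul_comm]
  push_cast
  ring

/-- the isomorphism -/
noncomputable def chi : A ≃+* (A ⧸ Ideal.span ({a} : Set A))[X] :=
  RingEquiv.ofRingHom (EE D hnil a) (psi D hnil a ha) (EE_comp_psi D hnil a ha)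
    (psi_comp_EE D hnil a ha)


end main

section final
open Polynomial Finset

theorem main
    (A : Type u) [CommRing A] [Algebra ℚ A] (D : Derivation ℚ A A)
    (hnil : ∀ x : A, ∃ n : ℕ, ((D : A →ₗ[ℚ] A) ^ n) x = 0) (a : A) (ha : D a = 1) :
    ∃ χ : A ≃+* Polynomial (A ⧸ Ideal.span ({a} : Set A)),
      (∀ (x : A) (N : ℕ), ((D : A →ₗ[ℚ] A) ^ N) x = 0 →
        χ x = ∑ n ∈ Finset.range N,
          ((n.factorial : ℚ)⁻¹ • Polynomial.C (Ideal.Quotient.mk (Ideal.span ({a} : Set A)) (((D : A →ₗ[ℚ] A) ^ n) x))) *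
            Polynomial.X ^ n) ∧
      χ.symm Polynomial.X = a ∧
      (∀ (x : A) (N : ℕ), ((D : A →ₗ[ℚ] A) ^ N) x = 0 →
        χ.symm (Polynomial.C (Ideal.Quotient.mk (Ideal.span ({a} : Set A)) x)) =
          ∑ n ∈ Finset.range N, (((-1 : ℚ) ^ n * (n.factorial : ℚ)⁻¹) • ((((D : A →ₗ[ℚ] A) ^ n) x) * a ^ n))) ∧
      ∀ p : Polynomial (A ⧸ Ideal.span ({a} : Set A)), χ (D (χ.symm p)) = Polynomial.derivative p := by
  refine ⟨chi D hnil a ha, ?_, ?_, ?_, ?_⟩
  · intro x N hN
    change EE D hnil a x = _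
    rw [EE, expHom_eq_sum D _ hnil x N hN]
    refine Finset.sum_congr rfl (fun n _ => ?_)
    congr 1
    simp only [dn]
    rw [map_rat_smul, map_rat_smul]
  · change psi D hnil a ha Polynomial.X = a
    exact psi_X D hnil a ha
  · intro x N hN
    change psi D hnil a ha _ = _
    rw [psi_C_mk, piHom_eq_sum D hnil a x N hN]
    refine Finset.sum_congr rfl (fun n _ => ?_)
    have h1 : (-a) ^ n = (-1) ^ n * a ^ n := neg_pow a n
    rw [h1]
    simp only [dn, Algebra.smul_def, map_mul, map_pow, map_neg, map_one]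
    ring
  · intro p
    change EE D hnil a (D (psi D hnil a ha p)) = _
    rw [EE_D]
    have := congrArg (fun f => f p) (EE_comp_psi D hnil a ha)
    simp only [RingHom.comp_apply, RingHom.id_apply] at this
    rw [this]

end final

/-- Let A be a commutative algebra over the rationals, D a locally nilpotent derivation of A and a an
element with D a = 1; write A' for the quotient of A by the ideal generated by a. Then there is a
ring isomorphism from A onto the polynomial ring A'[Y] which sends every x to the (finite) sum over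
n of (1/n!) (class of D^n x) Y^n; its inverse sends Y to a and the constant polynomial on the class
of x to the sum over n of ((-1)^n/n!) (D^n x) a^n, and under it D corresponds to the derivative
d/dY. (The source says only that A is a ring, in a setting over a field of characteristic zero; the
rational coefficients 1/n! require an algebra over the rationals, which is the hypothesis taken
here. Both sums are written over any range beyond which the iterates of D vanish at x.) -/
theorem result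
    (A : Type u) [CommRing A] [Algebra ℚ A] (D : Derivation ℚ A A)
    (hnil : ∀ x : A, ∃ n : ℕ, ((D : A →ₗ[ℚ] A) ^ n) x = 0) (a : A) (ha : D a = 1) :
    ∃ χ : A ≃+* Polynomial (A ⧸ Ideal.span ({a} : Set A)),
      (∀ (x : A) (N : ℕ), ((D : A →ₗ[ℚ] A) ^ N) x = 0 →
        χ x = ∑ n ∈ Finset.range N,
          ((n.factorial : ℚ)⁻¹ • Polynomial.C (Ideal.Quotient.mk (Ideal.span ({a} : Set A)) (((D : A →ₗ[ℚ] A) ^ n) x))) *
            Polynomial.X ^ n) ∧
      χ.symm Polynomial.X = a ∧
      (∀ (x : A) (N : ℕ), ((D : A →ₗ[ℚ] A) ^ N) x = 0 →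
        χ.symm (Polynomial.C (Ideal.Quotient.mk (Ideal.span ({a} : Set A)) x)) =
          ∑ n ∈ Finset.range N, (((-1 : ℚ) ^ n * (n.factorial : ℚ)⁻¹) • ((((D : A →ₗ[ℚ] A) ^ n) x) * a ^ n))) ∧
      ∀ p : Polynomial (A ⧸ Ideal.span ({a} : Set A)), χ (D (χ.symm p)) = Polynomial.derivative p := by
  exact Groth.Agent.S18974.main A D hnil a ha

end Groth.Agent.S18974
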