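import Groth.Statements.S18975
import Groth.Agent.Lib.Helper18.GeomQuot
import Groth.Agent.Lib.Helper21.AffDesc

set_option autoImplicit false
universe u
open CategoryTheory MonoidalCategory CartesianMonoidalCategory MonObj AlgebraicGeometry
open GIT

namespace Groth.Agent.S18975

/-- Over an algebraically closed field k of characteristic zero, let G be an affine group scheme of
finite type over k acting on a k-scheme X, and let φ : X → Y be a morphism of k-schemes which is a
G-torsor over Y: the square formed by the action G ×_k X → X, the second projection and φ (twice) is
cartesian, and φ acquires sections on the members of some fpqc covering family of Y. Then φ is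
affine and (Y, φ) is a geometric quotient: φ is invariant and surjective, G ×_k X → X ×_Y X is
surjective, φ is universally submersive, and over every open of Y the functions on Y are exactly the
invariant functions on its preimage. (The source defines a torsor by the existence of one fpqc
morphism to Y trivialising it and defines geometric quotients with φ affine and submersive;
universal submersiveness follows because every base change of a torsor is a torsor.) -/
theorem result
    (k : Type u) [Field k] [IsAlgClosed k] [CharZero k]
    (G X Y : Over (Spec (CommRingCat.of k))) [GrpObj G] [IsAffine G.left] [LocallyOfFiniteType G.hom]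
    (a : AlgGrp.Action G X) (φ : X ⟶ Y)
    (hcart : IsPullback a.act (snd G X) φ φ)
    (hloc : NonAbH1.IsLocallyTrivialFor Scheme.fpqcPrecoverage (Over.mk φ.left : Over Y.left)) :
    IsAffineHom φ.left ∧ GIT.IsGeomQuot a φ := by
  have hsec := Groth.Agent.Helper18.DescHomK.secSieve_mem_of_loc Scheme.fpqcPrecoverage φ hloc
  have hq : QuotSh.IsQuotient Scheme.fpqcPrecoverage a.act (snd G X) φ :=
    Groth.Agent.Helper18.QSh.isQuotient_of_isKernelPair Scheme.fpqcPrecoverage hcart hsec
  refine ⟨?_, Groth.Agent.Helper18.GeomQuot.isGeomQuot_of_isQuotient Scheme.fpqcPrecoverage a φ le_rfl hq⟩
  haveI := Groth.Agent.Helper21.AffDesc.affine.{u}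
  haveI : IsAffineHom G.hom := by
    haveI : IsAffine (Spec (CommRingCat.of k)) := inferInstance
    exact isAffineHom_of_isAffine G.hom
  have h1 : IsAffineHom (snd G X).left := by
    show IsAffineHom (Limits.pullback.snd G.hom X.hom)
    exact MorphismProperty.pullback_snd (P := @IsAffineHom) G.hom X.hom inferInstance
  exact Groth.Agent.Helper18.QSh.prop_of_isKernelPair Scheme.fpqcPrecoverage @IsAffineHom le_rfl hloc hcart h1

end Groth.Agent.S18975
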