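import Groth.Statements.S18978
import Groth.Agent.Lib.Helper18.StabQuot5
import Groth.Agent.Lib.Helper18.GeomQuot

set_option autoImplicit false
universe u
open CategoryTheory MonoidalCategory CartesianMonoidalCategory MonObj AlgebraicGeometry
open GIT

namespace Groth.Agent.S18978

/-- Over an algebraically closed field k of characteristic zero, let G be an affine group scheme of
finite type over k with a closed normal subgroup scheme N, the kernel of a surjective homomorphism q
: G → H onto an affine group scheme H of finite type over k (the factor group G/N). Let G act on a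
separated k-scheme X of finite type, let φ : X → Y be a torsor over Y under the restricted action of
N (cartesian action square, sections on the members of some fpqc covering family of Y), and let H
act on Y so that φ is equivariant along q. Then for every geometric point x of X (a point with
values in an algebraically closed field Ω) with image y in Y: the G-orbit of x is closed in X_Ω and
the stabiliser of x in G is finite if and only if the H-orbit of y is closed in Y_Ω and the
stabiliser of y in H is finite. (The induced action of the factor group on Y is taken as a datum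
together with the equivariance of φ; the points of the published statement are rendered as geometric
points.) -/
theorem result
    (k : Type u) [Field k] [IsAlgClosed k] [CharZero k]
    (G N H X Y : Over (Spec (CommRingCat.of k))) [GrpObj G] [GrpObj N] [GrpObj H]
    [IsAffine G.left] [LocallyOfFiniteType G.hom]
    (iN : N ⟶ G) [IsMonHom iN] [IsClosedImmersion iN.left] (hnorm : AlgGrp.IsNormalHom iN)
    (q : G ⟶ H) [IsMonHom q] [Surjective q.left] [IsAffine H.left] [LocallyOfFiniteType H.hom]
    (hker : AlgGrp.IsKernel iN q)
    [LocallyOfFiniteType X.hom] [QuasiCompact X.hom] [IsSeparated X.hom]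
    (a : AlgGrp.Action G X) (φ : X ⟶ Y)
    (hcart : IsPullback (a.restrict iN).act (snd N X) φ φ)
    (hloc : NonAbH1.IsLocallyTrivialFor Scheme.fpqcPrecoverage (Over.mk φ.left : Over Y.left))
    (aY : AlgGrp.Action H Y) (hequiv : (q ⊗ₘ φ) ≫ aY.act = a.act ≫ φ)
    (Ω : Type u) [Field Ω] [IsAlgClosed Ω] (P : Over (Spec (CommRingCat.of k)))
    (e : P.left ≅ Spec (CommRingCat.of Ω)) (x : P ⟶ X) :
    (IsClosed (Set.range (GIT.psi a x).left.base) ∧ IsFinite (GLinSh.stabTo a x)) ↔
      (IsClosed (Set.range (GIT.psi aY (x ≫ φ)).left.base) ∧ IsFinite (GLinSh.stabTo aY (x ≫ φ))) := by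
  classical
  have haN : (a.restrict iN).act = (iN ▷ X) ≫ a.act := rfl
  have hinv : GIT.IsInvariant (a.restrict iN) φ := hcart.w
  have horb := Groth.Agent.Helper18.StabQuot.orbit_surjective_of_isPullback (a.restrict iN) φ hcart
    hinv
  have hsubm : GIT.IsUnivSubmersive φ.left :=
    Groth.Agent.Helper18.GeomQuot.us_of_loc Scheme.fpqcPrecoverage le_rfl φ.left hloc
  have hclosed := Groth.Agent.Helper18.QuotOrbCl.isClosed_range_psi_iff' iN a (a.restrict iN) haN φ
    hinv horb q aY hequiv hsubm x
  haveI : IsIso (GLinSh.stabTo (a.restrict iN) x) :=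
    Groth.Agent.Helper18.StabQuot.isIso_stabTo_of_free (a.restrict iN) x
      (fun g g' v h => Groth.Agent.Helper18.StabQuot.act_cancel_of_isPullback (a.restrict iN) φ
        hcart g g' v h)
  haveI : IsFinite (GLinSh.stabTo (a.restrict iN) x) := inferInstance
  obtain ⟨f, hsurj, hfib⟩ : ∃ f : ↥(GLinSh.stab a x) → ↥(GLinSh.stab aY (x ≫ φ)),
      Function.Surjective f ∧ ∀ h₀, (f ⁻¹' {f h₀}).Finite :=
    ⟨(Groth.Agent.Helper18.StabQuot.sMap q a φ aY x hequiv).left.base,
      Groth.Agent.Helper18.StabQuot.sMap_surjective iN q a (a.restrict iN) φ aY x hequiv hker.w haN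
        hinv horb,
      fun h₀ => Groth.Agent.Helper18.StabQuot.sMap_finite_fibres iN q a (a.restrict iN) φ aY x
        hequiv hker haN h₀⟩
  haveI : LocallyOfFiniteType (GLinSh.stabTo a x) := Groth.Agent.Helper18.StabQuot.stabTo_lft a x
  haveI : LocallyOfFiniteType (GLinSh.stabTo aY (x ≫ φ)) :=
    Groth.Agent.Helper18.StabQuot.stabTo_lft aY (x ≫ φ)
  have hfin : IsFinite (GLinSh.stabTo a x) ↔ IsFinite (GLinSh.stabTo aY (x ≫ φ)) := by
    constructor
    · intro h
      haveI := h
      haveI : Finite ↥(GLinSh.stab a x) :=
        Groth.Agent.Helper18.StabQuot.finite_of_isFinite (GLinSh.stabTo a x) Ω e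
      haveI : Finite ↥(GLinSh.stab aY (x ≫ φ)) := Finite.of_surjective f hsurj
      exact Groth.Agent.Helper18.StabQuot.isFinite_of_finite (GLinSh.stabTo aY (x ≫ φ)) Ω e
    · intro h
      haveI := h
      haveI : Finite ↥(GLinSh.stab aY (x ≫ φ)) :=
        Groth.Agent.Helper18.StabQuot.finite_of_isFinite (GLinSh.stabTo aY (x ≫ φ)) Ω e
      haveI : Finite ↥(GLinSh.stab a x) := by
        rw [← Set.finite_univ_iff]
        refine Set.Finite.of_finite_fibers f (Set.toFinite _) ?_
        rintro _ ⟨h₀, -, rfl⟩
        rw [Set.univ_inter]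
        exact hfib h₀
      exact Groth.Agent.Helper18.StabQuot.isFinite_of_finite (GLinSh.stabTo a x) Ω e
  rw [hclosed, hfin]

end Groth.Agent.S18978
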