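import Groth.Statements.S18981
import Mathlib
import Groth.Agent.Lib.Helper28.AlgGrpShear
import Groth.Agent.Lib.Helper28.KPoint
open Groth.Agent.Helper28.AlgGrpShear Groth.Agent.Helper28.KPoint

set_option autoImplicit false
universe u
open CategoryTheory MonoidalCategory CartesianMonoidalCategory MonObj AlgebraicGeometry Topology
open NRQuot

namespace Groth.Agent.S18981

/-- Over an algebraically closed field k of characteristic zero, let G be an affine group scheme of
finite type over k acting on a k-scheme X locally of finite type, and let φ : X → Y be a good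
quotient (affine and invariant, functions on every open of Y are exactly the invariant functions on
its preimage, invariant closed subsets have closed images, images commute with intersections of
families of invariant closed subsets). If the orbit of every k-point of X is closed in X, then φ is
a geometric quotient; this row states the one clause that a good quotient lacks: fibres are orbits,
read on k-points — two k-points of X with the same image in Y are translates of each other by a
k-point of G. (Surjectivity and submersiveness of a good quotient are the content of the companion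
statement on good quotients; X locally of finite type is what the argument on closed points uses.) -/
theorem result
    (k : Type u) [Field k] [IsAlgClosed k] [CharZero k]
    (G X Y : Over (Spec (CommRingCat.of k))) [GrpObj G] [IsAffine G.left] [LocallyOfFiniteType G.hom]
    [LocallyOfFiniteType X.hom]
    (a : AlgGrp.Action G X) (φ : X ⟶ Y) (h : NRQuot.IsGoodQuot a φ)
    (hcl : ∀ x : 𝟙_ (Over (Spec (CommRingCat.of k))) ⟶ X, IsClosed (Set.range (a.orbitMap x).left.base))
    (x₁ x₂ : 𝟙_ (Over (Spec (CommRingCat.of k))) ⟶ X) (hφ : x₁ ≫ φ = x₂ ≫ φ) :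
    ∃ g : 𝟙_ (Over (Spec (CommRingCat.of k))) ⟶ G, lift g x₁ ≫ a.act = x₂ := by
  classical
  have horb : ∀ (x : 𝟙_ (Over (Spec (CommRingCat.of k))) ⟶ X) {T : Over (Spec (CommRingCat.of k))}
      (g : T ⟶ G), g ≫ a.orbitMap x = lift g (toUnit T ≫ x) ≫ a.act := by
    intro x T g
    rw [AlgGrp.Action.orbitMap, ← Category.assoc, comp_lift, Category.comp_id, ← Category.assoc]
    congr 3
    exact toUnit_unique _ _
  have hinvφ : ∀ (x : 𝟙_ (Over (Spec (CommRingCat.of k))) ⟶ X),
      a.orbitMap x ≫ φ = toUnit G ≫ x ≫ φ := by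
    intro x
    have hi : a.act ≫ φ = snd G X ≫ φ := h.inv
    rw [AlgGrp.Action.orbitMap, Category.assoc, hi, ← Category.assoc, lift_snd, Category.assoc]
  have hequiv : ∀ (x : 𝟙_ (Over (Spec (CommRingCat.of k))) ⟶ X),
      (G ◁ a.orbitMap x) ≫ a.act = μ[G] ≫ a.orbitMap x := by
    intro x
    have e1 : (G ◁ a.orbitMap x) = lift (fst G G) (snd G G ≫ a.orbitMap x) := by
      apply CartesianMonoidalCategory.hom_ext <;> simp
    have e2 : μ[G] = fst G G * snd G G := by
      rw [Hom.mul_def, lift_fst_snd, Category.id_comp]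
    rw [e1, horb, ← act_mul, e2, horb]
  -- invariance of orbits
  have hinvO : ∀ (x : 𝟙_ (Over (Spec (CommRingCat.of k))) ⟶ X),
      NRQuot.IsInvariantSet a (Set.range (a.orbitMap x).left.base) := by
    intro x p hp
    obtain ⟨g₀, hg₀⟩ := hp
    have sq : IsPullback (snd G G).left (G ◁ a.orbitMap x).left (a.orbitMap x).left (snd G X).left :=
      (isPullback_snd G (a.orbitMap x)).map (Over.forget (Spec (CommRingCat.of k)))
    obtain ⟨z, hz1, hz2⟩ := Scheme.Pullback.exists_preimage_pullback (f := (a.orbitMap x).left)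
      (g := (snd G X).left) g₀ p hg₀
    let r := sq.isoPullback.inv.base z
    have hr2 : (G ◁ a.orbitMap x).left.base r = p := by
      rw [← hz2]
      show (sq.isoPullback.inv ≫ (G ◁ a.orbitMap x).left).base z = _
      rw [sq.isoPullback_inv_snd]
    refine ⟨μ[G].left.base r, ?_⟩
    rw [← hr2]
    show (μ[G].left ≫ (a.orbitMap x).left).base r = ((G ◁ a.orbitMap x).left ≫ a.act.left).base r
    rw [← Over.comp_left, ← Over.comp_left, hequiv]
  -- the common image point
  haveI : Subsingleton ↥(𝟙_ (Over (Spec (CommRingCat.of k)))).left :=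
    inferInstanceAs (Subsingleton ↥(Spec (CommRingCat.of k)))
  let u₀ : ↥(𝟙_ (Over (Spec (CommRingCat.of k)))).left :=
    (show ↥(Spec (CommRingCat.of k)) from IsLocalRing.closedPoint k)
  let c := (x₁ ≫ φ).left.base u₀
  have himg : ∀ (x : 𝟙_ (Over (Spec (CommRingCat.of k))) ⟶ X), x ≫ φ = x₁ ≫ φ →
      ∀ g : ↥G.left, φ.left.base ((a.orbitMap x).left.base g) = c := by
    intro x hx g
    show ((a.orbitMap x).left ≫ φ.left).base g = c
    rw [← Over.comp_left, hinvφ, hx]
    show (x₁ ≫ φ).left.base ((toUnit G).left.base g) = c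
    congr 1
    exact Subsingleton.elim _ _
  -- intersection
  let W : ULift.{u} Bool → Set ↥X.left := fun j =>
    if j.down then Set.range (a.orbitMap x₁).left.base else Set.range (a.orbitMap x₂).left.base
  have hWc : ∀ j, IsClosed (W j) := by
    intro j; dsimp only [W]; split_ifs
    · exact hcl x₁
    · exact hcl x₂
  have hWi : ∀ j, NRQuot.IsInvariantSet a (W j) := by
    intro j; dsimp only [W]; split_ifs
    · exact hinvO x₁
    · exact hinvO x₂
  have hint := h.inter (ULift.{u} Bool) W hWc hWi
  let e₀ : ↥G.left := η[G].left.base u₀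
  have hc : c ∈ ⋂ j, φ.left.base '' W j := by
    rw [Set.mem_iInter]
    intro j
    dsimp only [W]; split_ifs
    · exact ⟨_, ⟨e₀, rfl⟩, himg x₁ rfl e₀⟩
    · exact ⟨_, ⟨e₀, rfl⟩, himg x₂ hφ.symm e₀⟩
  rw [← hint] at hc
  obtain ⟨z, hz, -⟩ := hc
  rw [Set.mem_iInter] at hz
  have hz1 : z ∈ Set.range (a.orbitMap x₁).left.base := by simpa [W] using hz ⟨true⟩
  have hz2 : z ∈ Set.range (a.orbitMap x₂).left.base := by simpa [W] using hz ⟨false⟩
  -- a rational point in the intersection
  obtain ⟨p, hp, hmem⟩ := exists_point_mem X.hom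
    (Set.range (a.orbitMap x₁).left.base ∩ Set.range (a.orbitMap x₂).left.base)
    ((hcl x₁).inter (hcl x₂)) ⟨z, hz1, hz2⟩
  haveI : LocallyOfFiniteType ((a.orbitMap x₁).left ≫ X.hom) := by rw [Over.w]; infer_instance
  haveI : LocallyOfFiniteType ((a.orbitMap x₂).left ≫ X.hom) := by rw [Over.w]; infer_instance
  obtain ⟨g₁, hg₁⟩ := exists_point_lift (a.orbitMap x₁).left X.hom p hp (fun t => (hmem t).1)
  obtain ⟨g₂, hg₂⟩ := exists_point_lift (a.orbitMap x₂).left X.hom p hp (fun t => (hmem t).2)
  have hG₁ : g₁ ≫ G.hom = (𝟙_ (Over (Spec (CommRingCat.of k)))).hom := by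
    rw [← Over.w (a.orbitMap x₁), reassoc_of% hg₁, hp]; rfl
  have hG₂ : g₂ ≫ G.hom = (𝟙_ (Over (Spec (CommRingCat.of k)))).hom := by
    rw [← Over.w (a.orbitMap x₂), reassoc_of% hg₂, hp]; rfl
  let γ₁ : 𝟙_ (Over (Spec (CommRingCat.of k))) ⟶ G := Over.homMk g₁ hG₁
  let γ₂ : 𝟙_ (Over (Spec (CommRingCat.of k))) ⟶ G := Over.homMk g₂ hG₂
  have hE : γ₁ ≫ a.orbitMap x₁ = γ₂ ≫ a.orbitMap x₂ := by
    apply Over.OverMorphism.ext
    show g₁ ≫ (a.orbitMap x₁).left = g₂ ≫ (a.orbitMap x₂).left
    rw [hg₁, hg₂]
  have hun : toUnit (𝟙_ (Over (Spec (CommRingCat.of k)))) = 𝟙 _ := toUnit_unique _ _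
  rw [horb, horb, hun, Category.id_comp, Category.id_comp] at hE
  refine ⟨γ₂⁻¹ * γ₁, ?_⟩
  rw [act_mul, hE, ← act_mul, inv_mul_cancel, act_one]

end Groth.Agent.S18981
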