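import Groth.Statements.S18989
import Groth.Agent.Lib.Helper6.LieInv2

set_option autoImplicit false
universe u
open TensorProduct
open HopfRep

namespace Groth.Agent.S18989

/-- An action of a unipotent group on an affine scheme is determined by its infinitesimal action. Over
an algebraically closed field k of characteristic zero, let A be a finitely generated commutative
Hopf algebra, unipotent in the fixed-vector sense, coacting multiplicatively on two finitely
generated commutative k-algebras R₁ and R₂, and let e : R₁ → R₂ be an algebra isomorphism which
intertwines the two infinitesimal actions: for every ε-derivation ξ : A → k and every f in R₁,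
applying ξ to the A-factor of the coaction of e(f) equals e ⊗ id applied to the same for f. Then e
intertwines the coactions: the coaction of e(f) is (e ⊗ id) of the coaction of f for all f. (With R₁
= R₂ and e the identity this says that two actions with the same infinitesimal action coincide,
which is the printed assertion.) -/
theorem result
    (k : Type u) [Field k] [IsAlgClosed k] [CharZero k]
    (A : Type u) [CommRing A] [HopfAlgebra k A] [Algebra.FiniteType k A] (hU : HopfRep.IsUnipotent k A)
    (R₁ R₂ : Type u) [CommRing R₁] [Algebra k R₁] [Algebra.FiniteType k R₁]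
    [HopfRep.Comod k A R₁] [GLin.IsCoactAlg k A R₁]
    [CommRing R₂] [Algebra k R₂] [Algebra.FiniteType k R₂]
    [HopfRep.Comod k A R₂] [GLin.IsCoactAlg k A R₂]
    (e : R₁ ≃ₐ[k] R₂)
    (h : ∀ (ξ : LieHopf.Lie k A) (f : R₁),
      LinearMap.lTensor R₂ (ξ.toLinearMap.restrictScalars k) (HopfRep.Comod.coact (k := k) (A := A) (e f)) =
        LinearMap.rTensor (LieHopf.K k A) e.toLinearMap
          (LinearMap.lTensor R₁ (ξ.toLinearMap.restrictScalars k) (HopfRep.Comod.coact (k := k) (A := A) f))) :
    ∀ f : R₁, HopfRep.Comod.coact (k := k) (A := A) (e f) =
      LinearMap.rTensor A e.toLinearMap (HopfRep.Comod.coact (k := k) (A := A) f) := by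
  intro f
  have h2 : ∀ y : R₁ ⊗[k] k, TensorProduct.rid k R₂ (LinearMap.rTensor k e.toLinearMap y) =
      e.toLinearMap (TensorProduct.rid k R₁ y) := by
    intro y
    induction y using TensorProduct.induction_on with
    | zero => simp
    | tmul r c =>
      rw [LinearMap.rTensor_tmul, TensorProduct.rid_tmul, TensorProduct.rid_tmul, map_smul]
    | add x y hx hy => rw [map_add, map_add, hx, hy, map_add, map_add]
  exact Groth.Agent.Helper6.LieInv.coact_comm_of_inf_comm hU e.toLinearMap (by
    intro ξ v
    have h1 : LinearMap.lTensor R₂ (LieHopf.dlin ξ)
        (HopfRep.Comod.coact (k := k) (A := A) (e.toLinearMap v)) =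
        LinearMap.rTensor k e.toLinearMap (LinearMap.lTensor R₁ (LieHopf.dlin ξ)
          (HopfRep.Comod.coact (k := k) (A := A) v)) := h ξ v
    rw [Groth.Agent.Helper6.LieInv.inf_apply, h1, h2]
    rfl) f

end Groth.Agent.S18989
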