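import Groth.Statements.S18994
import Mathlib
-- import your own Groth.Agent.* helpers here

set_option autoImplicit false
universe u
open TernForm

namespace Groth.Agent.S18994

section
open MvPolynomial Finsupp

variable {R : Type u} [CommRing R] {σ : Type*}

lemma deg_of_hom {φ : MvPolynomial σ R} {n : ℕ} (h : φ.IsHomogeneous n) {d : σ →₀ ℕ}
    (hd : coeff d φ ≠ 0) : d.degree = n := by
  have h1 := h hd
  rw [Finsupp.degree_eq_weight_one]
  exact h1

lemma eq_single_of_degree {x : σ →₀ ℕ} {j : σ} (hd : x.degree = 2) (hj : 2 ≤ x j) :
    x = single j 2 := by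
  have hle : single j 2 ≤ x := Finsupp.single_le_iff.mpr hj
  have hx : single j 2 + (x - single j 2) = x := add_tsub_cancel_of_le hle
  have h1 : (single j 2 + (x - single j 2)).degree = 2 := by rw [hx, hd]
  rw [map_add, Finsupp.degree_single] at h1
  have h2 : (x - single j 2).degree = 0 := by omega
  rw [Finsupp.degree_eq_zero_iff] at h2
  rw [← hx, h2, add_zero]

variable (j : σ) (q : MvPolynomial σ R) (hq : q.IsHomogeneous 2)
  (hqj : IsUnit (q.coeff (Finsupp.single j 2)))

include hq hqj in
lemma key [DecidableEq σ] (g : MvPolynomial σ R) (h : ∀ m ∈ (q * g).support, m j < 2) : g = 0 := by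
  by_contra hg
  have hne : g.support.Nonempty := support_nonempty.mpr hg
  obtain ⟨m', hm', hmax⟩ := Finset.exists_max_image g.support (fun m => m j) hne
  have hc : coeff (m' + single j 2) (q * g) = coeff (single j 2) q * coeff m' g := by
    rw [coeff_mul]
    rw [Finset.sum_eq_single (single j 2, m')]
    · intro x hx hne'
      rw [Finset.HasAntidiagonal.mem_antidiagonal] at hx
      by_contra hprod
      have h1 : coeff x.1 q ≠ 0 := left_ne_zero_of_mul hprod
      have h2 : coeff x.2 g ≠ 0 := right_ne_zero_of_mul hprod
      have hd : x.1.degree = 2 := deg_of_hom hq h1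
      have hx2 : x.2 j ≤ m' j := hmax x.2 (MvPolynomial.mem_support_iff.mpr h2)
      have hjj : x.1 j + x.2 j = m' j + 2 := by
        have := congrArg (fun f => f j) hx
        simpa using this
      have hx1j : 2 ≤ x.1 j := by omega
      have hx1 : x.1 = single j 2 := eq_single_of_degree hd hx1j
      apply hne'
      apply Prod.ext
      · exact hx1
      · rw [hx1, add_comm] at hx
        exact add_right_cancel hx
    · intro hnot
      exfalso
      apply hnot
      rw [Finset.HasAntidiagonal.mem_antidiagonal]
      exact add_comm _ _
  have hne0 : coeff (m' + single j 2) (q * g) ≠ 0 := by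
    rw [hc]
    intro h0
    exact (MvPolynomial.mem_support_iff.mp hm') ((hqj.mul_right_eq_zero).mp h0)
  have := h _ (MvPolynomial.mem_support_iff.mpr hne0)
  simp at this


/-- the family of the statement -/
noncomputable def fam (n : ℕ) :
    ({m : σ →₀ ℕ // m.degree = n ∧ m j < 2} ⊕ {m : σ →₀ ℕ // m.degree + 2 = n}) →
      MvPolynomial σ R :=
  Sum.elim (fun m : {m : σ →₀ ℕ // m.degree = n ∧ m j < 2} => MvPolynomial.monomial m.1 (1 : R))
    (fun m : {m : σ →₀ ℕ // m.degree + 2 = n} => q * MvPolynomial.monomial m.1 (1 : R))

include hq hqj in
lemma monomial_mem (n : ℕ) : ∀ (k : ℕ) (m : σ →₀ ℕ), m j = k → m.degree = n →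
    monomial m (1 : R) ∈ Submodule.span R (Set.range (fam j q n)) := by
  classical
  intro k
  induction k using Nat.strong_induction_on with
  | _ k ih =>
    intro m hmk hdeg
    by_cases hlt : m j < 2
    · exact Submodule.subset_span ⟨Sum.inl ⟨m, hdeg, hlt⟩, rfl⟩
    · push Not at hlt
      have hle : single j 2 ≤ m := Finsupp.single_le_iff.mpr hlt
      set m' : σ →₀ ℕ := m - single j 2 with hm'
      have hm : single j 2 + m' = m := add_tsub_cancel_of_le hle
      have hdeg' : m'.degree + 2 = n := by
        rw [← hdeg, ← hm, map_add, Finsupp.degree_single, add_comm]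
      have hm'j : m' j + 2 = m j := by
        have := congrArg (fun f => f j) hm
        simp at this
        omega
      obtain ⟨u, hu⟩ := hqj
      set rest : MvPolynomial σ R := q - monomial (single j 2) (u : R) with hrest
      have hgen : q * monomial m' (1 : R) ∈ Submodule.span R (Set.range (fam j q n)) :=
        Submodule.subset_span ⟨Sum.inr ⟨m', hdeg'⟩, rfl⟩
      have hrestmem : rest * monomial m' (1 : R) ∈ Submodule.span R (Set.range (fam j q n)) := by
        rw [as_sum rest, Finset.sum_mul]
        apply Submodule.sum_mem
        intro s hs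
        have hcs : coeff s rest ≠ 0 := MvPolynomial.mem_support_iff.mp hs
        have hsne : s ≠ single j 2 := by
          intro h
          apply hcs
          rw [h, hrest, coeff_sub, coeff_monomial, if_pos rfl, hu, sub_self]
        have hcq : coeff s q ≠ 0 := by
          intro h
          apply hcs
          rw [hrest, coeff_sub, coeff_monomial, if_neg (Ne.symm hsne), h, sub_zero]
        have hsd : s.degree = 2 := deg_of_hom hq hcq
        have hsj : s j < 2 := by
          by_contra h
          push Not at h
          exact hsne (eq_single_of_degree hsd h)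
        rw [monomial_mul, mul_one]
        have h1 : monomial (s + m') (coeff s rest) = (coeff s rest) • monomial (s + m') (1 : R) := by
          rw [smul_monomial, smul_eq_mul, mul_one]
        rw [h1]
        apply Submodule.smul_mem
        apply ih ((s + m') j) _ (s + m') rfl
        · rw [map_add, hsd, add_comm]; exact hdeg'
        · rw [Finsupp.add_apply]; omega
      have hmono : monomial m (u : R) = q * monomial m' (1 : R) - rest * monomial m' (1 : R) := by
        rw [hrest, sub_mul, sub_sub_cancel, monomial_mul, mul_one, hm]
      have h2 : monomial m (1 : R) = ((u⁻¹ : Rˣ) : R) • monomial m (u : R) := by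
        rw [smul_monomial, smul_eq_mul, Units.inv_mul]
      rw [h2, hmono]
      exact Submodule.smul_mem _ _ (Submodule.sub_mem _ hgen hrestmem)


/-- polynomials whose monomials have `X_j`-exponent `< 2` -/
def lowSub : Submodule R (MvPolynomial σ R) where
  carrier := {x | ∀ m ∈ x.support, m j < 2}
  add_mem' := by
    classical
    intro a b ha hb m hm
    rcases Finset.mem_union.mp (MvPolynomial.support_add hm) with h | h
    · exact ha m h
    · exact hb m h
  zero_mem' := by
    intro m hm
    simp at hm
  smul_mem' := by
    intro c x hx m hm
    exact hx m (MvPolynomial.support_smul hm)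

include hq hqj in
theorem span_eq (n : ℕ) :
    Submodule.span R (Set.range (fam j q n)) = MvPolynomial.homogeneousSubmodule σ R n := by
  apply le_antisymm
  · rw [Submodule.span_le]
    rintro _ ⟨x, rfl⟩
    rcases x with ⟨m, hm, -⟩ | ⟨m, hm⟩
    · exact isHomogeneous_monomial _ hm
    · have h1 : (monomial m (1 : R)).IsHomogeneous m.degree := isHomogeneous_monomial _ rfl
      have h2 := hq.mul h1
      rw [add_comm, hm] at h2
      exact h2
  · intro f hf
    rw [mem_homogeneousSubmodule] at hf
    rw [as_sum f]
    apply Submodule.sum_mem
    intro m hm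
    have hd : m.degree = n := deg_of_hom hf (MvPolynomial.mem_support_iff.mp hm)
    have h1 : monomial m (coeff m f) = (coeff m f) • monomial m (1 : R) := by
      rw [smul_monomial, smul_eq_mul, mul_one]
    rw [h1]
    exact Submodule.smul_mem _ _ (monomial_mem j q hq hqj n (m j) m rfl hd)

include hq hqj in
theorem linIndep (n : ℕ) : LinearIndependent R (fam j q n) := by
  classical
  rw [fam, linearIndependent_sum]
  refine ⟨?_, ?_, ?_⟩
  · rw [Sum.elim_comp_inl]
    have h := (MvPolynomial.basisMonomials σ R).linearIndependent
    rw [coe_basisMonomials] at h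
    exact h.comp (fun m : {m : σ →₀ ℕ // m.degree = n ∧ m j < 2} => m.1) Subtype.val_injective
  · rw [Sum.elim_comp_inr]
    have h := (MvPolynomial.basisMonomials σ R).linearIndependent
    rw [coe_basisMonomials] at h
    have h2 := h.comp (fun m : {m : σ →₀ ℕ // m.degree + 2 = n} => m.1) Subtype.val_injective
    have hker : LinearMap.ker (LinearMap.mulLeft R q) = ⊥ := by
      rw [LinearMap.ker_eq_bot']
      intro g hg
      rw [LinearMap.mulLeft_apply] at hg
      apply key j q hq hqj g
      intro m hm
      rw [hg] at hm
      simp at hm
    exact h2.map' (LinearMap.mulLeft R q) hker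
  · rw [Sum.elim_comp_inl, Sum.elim_comp_inr, Submodule.disjoint_def]
    intro x hx1 hx2
    have h1 : x ∈ lowSub (R := R) j := by
      have : Submodule.span R (Set.range (fun m : {m : σ →₀ ℕ // m.degree = n ∧ m j < 2} =>
          MvPolynomial.monomial m.1 (1 : R))) ≤ lowSub (R := R) j := by
        rw [Submodule.span_le]
        rintro _ ⟨m, rfl⟩
        intro m' hm'
        have hmm : m' = m.1 := by
          have := MvPolynomial.support_monomial_subset hm'
          simpa using this
        rw [hmm]
        exact m.2.2
      exact this hx1
    have h2 : x ∈ LinearMap.range (LinearMap.mulLeft R q) := by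
      have : Submodule.span R (Set.range (fun m : {m : σ →₀ ℕ // m.degree + 2 = n} =>
          q * MvPolynomial.monomial m.1 (1 : R))) ≤ LinearMap.range (LinearMap.mulLeft R q) := by
        rw [Submodule.span_le]
        rintro _ ⟨m, rfl⟩
        exact ⟨monomial m.1 1, rfl⟩
      exact this hx2
    obtain ⟨g, rfl⟩ := h2
    rw [LinearMap.mulLeft_apply] at h1 ⊢
    rw [key j q hq hqj g h1, mul_zero]

theorem main
    (R : Type u) [CommRing R] (j : Fin 3) (q : MvPolynomial (Fin 3) R)
    (hq : q.IsHomogeneous 2) (hqj : IsUnit (q.coeff (Finsupp.single j 2))) (n : ℕ) :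
    LinearIndependent R (Sum.elim (fun m : {m : Fin 3 →₀ ℕ // m.degree = n ∧ m j < 2} => MvPolynomial.monomial m.1 (1 : R)) (fun m : {m : Fin 3 →₀ ℕ // m.degree + 2 = n} => q * MvPolynomial.monomial m.1 (1 : R))) ∧
      Submodule.span R (Set.range (Sum.elim (fun m : {m : Fin 3 →₀ ℕ // m.degree = n ∧ m j < 2} => MvPolynomial.monomial m.1 (1 : R)) (fun m : {m : Fin 3 →₀ ℕ // m.degree + 2 = n} => q * MvPolynomial.monomial m.1 (1 : R)))) = MvPolynomial.homogeneousSubmodule (Fin 3) R n :=
  ⟨linIndep j q hq hqj n, span_eq j q hq hqj n⟩

end

/-- Let R be a commutative ring, j ∈ {0, 1, 2}, q a homogeneous polynomial of degree 2 in R[X_0, X_1,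
X_2] whose coefficient of X_j^2 is a unit, and n a natural number. Then the family consisting of the
monomials of degree n not divisible by X_j^2 (exponent of X_j at most 1) together with the products
q · m, m running over the monomials of degree n − 2 (indexed by exponents m with |m| + 2 = n), is
linearly independent over R and spans exactly the homogeneous polynomials of degree n; in particular
it is a basis of that module and the two parts are disjoint. (The published lemma is stated over a
field with the coefficient nonzero, the special case of a field R here; the version over a ring with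
the coefficient invertible is what its change-of-basis argument gives — ordering monomials by
decreasing exponent of X_j makes the matrix triangular with diagonal entries 1 and that coefficient
— and is the form used to trivialise the bundle of degree-n forms modulo multiples of q over the
locus where the coefficient is invertible. The published lemma also allows an arbitrary monomial of
degree 2 in place of X_j^2; for the mixed monomial X_1X_2, the form q = X_1^2 + X_1X_2 + X_2^2 and n
= 3 give the linear relation q·X_1 − q·X_2 = X_1^3 − X_2^3 among members of the family, so the claim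
fails there and is stated here for the square of a variable.) -/
theorem result
    (R : Type u) [CommRing R] (j : Fin 3) (q : MvPolynomial (Fin 3) R)
    (hq : q.IsHomogeneous 2) (hqj : IsUnit (q.coeff (Finsupp.single j 2))) (n : ℕ) :
    LinearIndependent R (Sum.elim (fun m : {m : Fin 3 →₀ ℕ // m.degree = n ∧ m j < 2} => MvPolynomial.monomial m.1 (1 : R)) (fun m : {m : Fin 3 →₀ ℕ // m.degree + 2 = n} => q * MvPolynomial.monomial m.1 (1 : R))) ∧
      Submodule.span R (Set.range (Sum.elim (fun m : {m : Fin 3 →₀ ℕ // m.degree = n ∧ m j < 2} => MvPolynomial.monomial m.1 (1 : R)) (fun m : {m : Fin 3 →₀ ℕ // m.degree + 2 = n} => q * MvPolynomial.monomial m.1 (1 : R)))) = MvPolynomial.homogeneousSubmodule (Fin 3) R n := by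
  exact Groth.Agent.S18994.main R j q hq hqj n

end Groth.Agent.S18994
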