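import Groth.Statements.S19004
import Mathlib


set_option autoImplicit false
open GIT

namespace Groth.Agent.S19004

/-- For the group PGL(n) acting on the space of n × n matrices the T-quotient is (P^{n−1})^n with Chow
ring ℚ[t_1,…,t_n]/(t_1^n,…,t_n^n), the class c_top(g/t) is the product of all roots t_i − t_j (i ≠
j), and the computation in the proof shows that this product equals n!·t_1^{n−1}⋯t_n^{n−1} in that
ring. Stated here as the equivalent coefficient identity in ℤ[t_1,…,t_n]: the coefficient of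
t_1^{n−1}⋯t_n^{n−1} in the product over ordered pairs i ≠ j of (t_i − t_j) is n!. -/
theorem result (n : ℕ) :
    MvPolynomial.coeff (Finsupp.equivFunOnFinite.symm (fun _ : Fin n => n - 1))
      (∏ i : Fin n, ∏ j ∈ Finset.univ.erase i, (MvPolynomial.X i - MvPolynomial.X j : MvPolynomial (Fin n) ℤ)) = (n.factorial : ℤ) := by
  classical
  have hmono : ∀ f : Fin n → ℕ, ∏ i, (MvPolynomial.X i : MvPolynomial (Fin n) ℤ) ^ f i =
      MvPolynomial.monomial (Finsupp.equivFunOnFinite.symm f) 1 := by
    intro f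
    rw [MvPolynomial.monomial_eq, MvPolynomial.C_1, one_mul, Finsupp.prod_fintype]
    · rfl
    · intro i; exact pow_zero _
  have hA : (Matrix.projVandermonde (1 : Fin n → MvPolynomial (Fin n) ℤ)
      (fun i => MvPolynomial.X i)).det =
      ∏ i, ∏ j ∈ Finset.Ioi i, (MvPolynomial.X i - MvPolynomial.X j : MvPolynomial (Fin n) ℤ) := by
    rw [Matrix.det_projVandermonde]; simp
  have hB : (Matrix.vandermonde (fun i => (MvPolynomial.X i : MvPolynomial (Fin n) ℤ))).det =
      ∏ i, ∏ j ∈ Finset.Iio i, (MvPolynomial.X i - MvPolynomial.X j : MvPolynomial (Fin n) ℤ) := by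
    rw [Matrix.det_vandermonde]
    exact Finset.prod_comm' (by simp)
  have hprod : ∏ i : Fin n, ∏ j ∈ Finset.univ.erase i,
      (MvPolynomial.X i - MvPolynomial.X j : MvPolynomial (Fin n) ℤ) =
      (Matrix.vandermonde (fun i => (MvPolynomial.X i : MvPolynomial (Fin n) ℤ))).det *
      (Matrix.projVandermonde (1 : Fin n → MvPolynomial (Fin n) ℤ) (fun i => MvPolynomial.X i)).det := by
    rw [hA, hB, ← Finset.prod_mul_distrib]
    refine Finset.prod_congr rfl fun i _ => ?_
    rw [← Finset.prod_union (Finset.disjoint_left.2 fun j h1 h2 =>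
      absurd (Finset.mem_Iio.1 h1) (not_lt_of_gt (Finset.mem_Ioi.1 h2)))]
    refine Finset.prod_congr ?_ fun _ _ => rfl
    ext j
    simp only [Finset.mem_erase, Finset.mem_univ, and_true, Finset.mem_union, Finset.mem_Iio,
      Finset.mem_Ioi]
    exact ⟨fun h => lt_or_gt_of_ne h, fun h => h.elim ne_of_lt ne_of_gt⟩
  rw [hprod, ← Matrix.det_transpose (Matrix.vandermonde _),
    ← Matrix.det_transpose (Matrix.projVandermonde _ _), Matrix.det_apply', Matrix.det_apply',
    Finset.sum_mul_sum]
  simp only [MvPolynomial.coeff_sum]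
  have key : ∀ τ σ : Equiv.Perm (Fin n),
      MvPolynomial.coeff (Finsupp.equivFunOnFinite.symm (fun _ : Fin n => n - 1))
        (((((Equiv.Perm.sign τ : ℤˣ) : ℤ) : MvPolynomial (Fin n) ℤ) *
          ∏ i, (Matrix.vandermonde (fun i => (MvPolynomial.X i : MvPolynomial (Fin n) ℤ))).transpose (τ i) i) *
        ((((Equiv.Perm.sign σ : ℤˣ) : ℤ) : MvPolynomial (Fin n) ℤ) *
          ∏ i, (Matrix.projVandermonde (1 : Fin n → MvPolynomial (Fin n) ℤ)
            (fun i => MvPolynomial.X i)).transpose (σ i) i)) = if τ = σ then 1 else 0 := by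
    intro τ σ
    have h1 : ∏ i, (Matrix.vandermonde (fun i => (MvPolynomial.X i : MvPolynomial (Fin n) ℤ))).transpose (τ i) i =
        ∏ i, (MvPolynomial.X i : MvPolynomial (Fin n) ℤ) ^ ((τ i : Fin n) : ℕ) :=
      Finset.prod_congr rfl fun i _ => rfl
    have h2 : ∏ i, (Matrix.projVandermonde (1 : Fin n → MvPolynomial (Fin n) ℤ)
        (fun i => MvPolynomial.X i)).transpose (σ i) i =
        ∏ i, (MvPolynomial.X i : MvPolynomial (Fin n) ℤ) ^ (((σ i).rev : Fin n) : ℕ) :=
      Finset.prod_congr rfl fun i _ => by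
        rw [Matrix.transpose_apply, Matrix.projVandermonde_apply]
        simp
    rw [h1, h2]
    have h3 : ((((Equiv.Perm.sign τ : ℤˣ) : ℤ) : MvPolynomial (Fin n) ℤ) *
        ∏ i, (MvPolynomial.X i : MvPolynomial (Fin n) ℤ) ^ ((τ i : Fin n) : ℕ)) *
        ((((Equiv.Perm.sign σ : ℤˣ) : ℤ) : MvPolynomial (Fin n) ℤ) *
        ∏ i, (MvPolynomial.X i : MvPolynomial (Fin n) ℤ) ^ (((σ i).rev : Fin n) : ℕ)) =
        MvPolynomial.C (((Equiv.Perm.sign τ : ℤˣ) : ℤ) * ((Equiv.Perm.sign σ : ℤˣ) : ℤ)) *
        MvPolynomial.monomial (Finsupp.equivFunOnFinite.symm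
          (fun i => ((τ i : Fin n) : ℕ) + (((σ i).rev : Fin n) : ℕ))) 1 := by
      rw [← hmono, Finset.prod_congr rfl (fun i _ => pow_add _ _ _), Finset.prod_mul_distrib,
        MvPolynomial.C_mul, ← eq_intCast MvPolynomial.C, ← eq_intCast MvPolynomial.C]
      ring
    rw [h3, MvPolynomial.coeff_C_mul, MvPolynomial.coeff_monomial]
    by_cases hτσ : τ = σ
    · subst hτσ
      have hf : (fun i => ((τ i : Fin n) : ℕ) + (((τ i).rev : Fin n) : ℕ)) = fun _ => n - 1 := by
        funext i
        have := (τ i).isLt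
        rw [Fin.val_rev]
        omega
      rw [hf, if_pos rfl, if_pos rfl, mul_one, Int.units_coe_mul_self]
    · rw [if_neg hτσ, if_neg, mul_zero]
      intro h
      apply hτσ
      have h' := Finsupp.equivFunOnFinite.symm.injective h
      ext i
      have hi := congrFun h' i
      simp only [Fin.val_rev] at hi
      have h1 := (τ i).isLt
      have h2 := (σ i).isLt
      omega
  simp only [key]
  simp [Finset.sum_ite_eq, Fintype.card_perm]


end Groth.Agent.S19004
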