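import Groth.Statements.S19005
import Mathlib

set_option autoImplicit false
open scoped TensorProduct
open K2Cent

namespace Groth.Agent.S19005

/-- For abelian groups X and M and ε in M with 2ε = 0 (in the source X is the character group of a split
torus and ε is the class of −1 among the units), the map x ↦ (x ⊗ x, −(x ⊗ ε)) into (X ⊗ X) × (X ⊗
M) is quadratic over ℤ, i.e. it underlies an integer quadratic map with exactly these values. -/
theorem result (X M : Type*) [AddCommGroup X]
    [AddCommGroup M] (ε : M) (hε : 2 • ε = 0) :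
    ∃ R : QuadraticMap ℤ X (TensorProduct ℤ X X × TensorProduct ℤ X M),
      ∀ x : X, R x = (x ⊗ₜ[ℤ] x, -(x ⊗ₜ[ℤ] ε)) := by
  have h2 : ∀ x : X, (2 : ℤ) • (x ⊗ₜ[ℤ] ε) = 0 := by
    intro x
    rw [← TensorProduct.tmul_smul]
    have : (2 : ℤ) • ε = 0 := by
      rw [← hε]; exact (ofNat_zsmul ε 2)
    rw [this, TensorProduct.tmul_zero]
  let Q1 : QuadraticMap ℤ X (TensorProduct ℤ X X) :=
    LinearMap.BilinMap.toQuadraticMap (TensorProduct.mk ℤ X X)
  let Q2 : QuadraticMap ℤ X (TensorProduct ℤ X M) :=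
    { toFun := fun x => -(x ⊗ₜ[ℤ] ε)
      toFun_smul := by
        intro a x
        obtain ⟨k, hk⟩ : ∃ k : ℤ, a * a - a = 2 * k := by
          have := Int.even_mul_pred_self a
          obtain ⟨k, hk⟩ := this
          exact ⟨k, by rw [show a * a - a = a * (a - 1) by ring, hk]; ring⟩
        have h3 : (a * a - a) • (x ⊗ₜ[ℤ] ε) = 0 := by
          rw [hk, mul_comm, mul_smul, h2, smul_zero]
        rw [← TensorProduct.smul_tmul', smul_neg, neg_inj]
        rw [sub_smul, sub_eq_zero] at h3
        rw [h3]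
      exists_companion' := ⟨0, by
        intro x y
        simp [TensorProduct.add_tmul]
        abel⟩ }
  refine ⟨(LinearMap.inl ℤ _ _).compQuadraticMap Q1 + (LinearMap.inr ℤ _ _).compQuadraticMap Q2, ?_⟩
  intro x
  have hQ1 : Q1 x = x ⊗ₜ[ℤ] x := rfl
  have hQ2 : Q2 x = -(x ⊗ₜ[ℤ] ε) := rfl
  simp [hQ1, hQ2]

end Groth.Agent.S19005
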