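import Groth.Statements.S19007
import Mathlib

set_option autoImplicit false
universe u v w x
open RootD

namespace Groth.Agent.S19007

theorem Q_corefl {ι : Type u} {R : Type v} {M : Type w} {N : Type x} [CommRing R]
    [AddCommGroup M] [Module R M] [AddCommGroup N] [Module R N] (P : RootPairing ι R M N)
    (Q : QuadraticMap R N R) (i : ι) (y : N) :
    Q (P.coreflection i y) = Q y + (P.root' i y) ^ 2 * Q (P.coroot i) -
      P.root' i y * QuadraticMap.polar Q y (P.coroot i) := by
  rw [P.coreflection_apply, sub_eq_add_neg, ← neg_smul, QuadraticMap.map_add (Q : N → R),
    QuadraticMap.map_smul, QuadraticMap.polar_smul_right, smul_eq_mul, smul_eq_mul]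
  ring

/-- Let P be a finite reduced crystallographic root pairing over an integral domain of characteristic
zero, b a base of P (a system of simple roots) and Q a quadratic form on the coweight module with
polar form B. Then Q is invariant under all root reflections (equivalently under the Weyl group) on
the span of the coroots if and only if for all pairs of distinct simple roots α_i ≠ α_j one has
B(α_i^∨, α_j^∨) = ⟨α_j, α_i^∨⟩ Q(α_j^∨). (In the source the form is integer-valued on the lattice
spanned by the coroots and the condition says that the bilinear form lies in the kernel of the last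
map of a three-term complex built from the Bruhat cells of codimension at most two; here the form
takes values in the base ring.) -/
theorem result {ι : Type u} {R : Type v} {M : Type w} {N : Type x} [CommRing R] [IsDomain R] [CharZero R]
    [AddCommGroup M] [Module R M] [AddCommGroup N] [Module R N] (P : RootPairing ι R M N)
    [Finite ι] [P.IsCrystallographic] [P.IsReduced] (b : P.Base) (Q : QuadraticMap R N R) :
    (∀ i : ι, ∀ y ∈ Submodule.span R (Set.range P.coroot), Q (P.coreflection i y) = Q y) ↔
      ∀ i ∈ b.support, ∀ j ∈ b.support, i ≠ j →
        QuadraticMap.polar Q (P.coroot i) (P.coroot j) = P.pairing j i * Q (P.coroot j) := by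
  constructor
  · intro h i hi j hj hij
    have hci : P.coroot i ∈ Submodule.span R (Set.range P.coroot) :=
      Submodule.subset_span ⟨i, rfl⟩
    have hcj : P.coroot j ∈ Submodule.span R (Set.range P.coroot) :=
      Submodule.subset_span ⟨j, rfl⟩
    have h1 := h j (P.coroot i) hci
    have h2 := h j (P.coroot i + P.coroot j) (Submodule.add_mem _ hci hcj)
    rw [Q_corefl] at h1 h2
    have e1 : P.root' j (P.coroot i) = P.pairing j i := rfl
    have e2 : P.root' j (P.coroot i + P.coroot j) = P.pairing j i + 2 := by
      rw [map_add]
      show P.pairing j i + P.pairing j j = _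
      rw [P.pairing_same]
    rw [e1] at h1
    rw [e2, QuadraticMap.polar_add_left, QuadraticMap.polar_self] at h2
    have h3 : (2 : R) * (P.pairing j i * Q (P.coroot j) -
        QuadraticMap.polar Q (P.coroot i) (P.coroot j)) = 0 := by
      rw [two_nsmul] at h2
      linear_combination h2 - h1
    rcases mul_eq_zero.mp h3 with h4 | h4
    · exact absurd h4 two_ne_zero
    · exact (sub_eq_zero.mp h4).symm
  · intro h
    have hDs : ∀ i, ∀ y ∈ Submodule.span R (Set.range P.coroot),
        P.coreflection i y ∈ Submodule.span R (Set.range P.coroot) := by
      intro i y hy
      rw [P.coreflection_apply]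
      exact Submodule.sub_mem _ hy (Submodule.smul_mem _ _ (Submodule.subset_span ⟨i, rfl⟩))
    have hlin : ∀ i ∈ b.support, ∀ y ∈ Submodule.span R (Set.range P.coroot),
        QuadraticMap.polar Q y (P.coroot i) = P.root' i y * Q (P.coroot i) := by
      intro i hi y hy
      have hy' : y ∈ Submodule.span R (P.coroot '' b.support) := by
        rw [b.span_coroot_support]; exact hy
      refine Submodule.span_induction ?_ ?_ ?_ ?_ hy'
      · rintro _ ⟨j, hj, rfl⟩
        by_cases hij : j = i
        · subst hij
          rw [QuadraticMap.polar_self]
          show _ = P.pairing j j * _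
          rw [P.pairing_same, two_nsmul, two_mul]
        · exact h j hj i hi hij
      · simp [QuadraticMap.polar]
      · intro x z _ _ hx hz
        rw [QuadraticMap.polar_add_left, hx, hz, map_add, add_mul]
      · intro a x _ hx
        rw [QuadraticMap.polar_smul_left, hx, map_smul, smul_eq_mul, smul_eq_mul, mul_assoc]
    have hsimple : ∀ i ∈ b.support, ∀ y ∈ Submodule.span R (Set.range P.coroot),
        Q (P.coreflection i y) = Q y := by
      intro i hi y hy
      rw [Q_corefl, hlin i hi y hy]; ring
    intro k
    refine b.induction_reflect k
      (p := fun k => ∀ y ∈ Submodule.span R (Set.range P.coroot), Q (P.coreflection k y) = Q y)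
      ?_ hsimple ?_
    · intro k hk y hy
      have hr : P.root (P.reflectionPerm k k) = -P.root k := by
        rw [P.root_reflectionPerm, P.reflection_apply_self]
      have hc : P.coroot (P.reflectionPerm k k) = -P.coroot k := by
        rw [P.coroot_reflectionPerm, P.coreflection_apply_self]
      have e : ∀ z, P.coreflection (P.reflectionPerm k k) z = P.coreflection k z := by
        intro z
        rw [P.coreflection_apply, P.coreflection_apply]
        show z - (P.toLinearMap (P.root (P.reflectionPerm k k)) z) •
          P.coroot (P.reflectionPerm k k) = z - (P.toLinearMap (P.root k) z) • P.coroot k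
        rw [hr, hc, map_neg, LinearMap.neg_apply, neg_smul_neg]
      rw [e]; exact hk y hy
    · intro k j hk hj y hy
      have e : P.coreflection (P.reflectionPerm j k) =
          P.coreflection j * P.coreflection k * P.coreflection j :=
        P.flip.reflection_reflectionPerm
      rw [e]
      show Q (P.coreflection j (P.coreflection k (P.coreflection j y))) = Q y
      rw [hsimple j hj _ (hDs k _ (hDs j y hy)), hk _ (hDs j y hy), hsimple j hj y hy]

end Groth.Agent.S19007
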