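import Groth.Statements.S19008
import Groth.Agent.Lib.Helper6.CartanLeaf

set_option autoImplicit false
universe u v w x
open RootD

namespace Groth.Agent.S19008

/-- Let P be a finite reduced crystallographic root pairing over an integral domain of characteristic
zero and b a base (simple roots α_i, i in the support of b), with Cartan integers a_ij = ⟨α_i,
α_j^∨⟩. An integer-valued bilinear form C on the lattice with basis the simple coroots is an integer
matrix C_ij = C(α_i^∨, α_j^∨), and the component of the last map of the complex at the pair (i, j),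
i ≠ j, is C ↦ C(α_i^∨, α_j^∨) + C(α_j^∨, s_j(α_i^∨)) = C_ij + C_ji − a_ji C_jj; the pairs (i, j) and
(j, i) index the same component exactly when α_i and α_j are orthogonal. This map is surjective: for
every family of integers d_ij (i ≠ j in the support) with d_ij = d_ji whenever a_ij = 0 there is an
integer matrix C with C_ij + C_ji − a_ji C_jj = d_ij for all i ≠ j in the support. -/
theorem result {ι : Type u} {R : Type v} {M : Type w} {N : Type x} [CommRing R] [IsDomain R] [CharZero R]
    [AddCommGroup M] [Module R M] [AddCommGroup N] [Module R N] (P : RootPairing ι R M N)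
    [Finite ι] [P.IsCrystallographic] [P.IsReduced] (b : P.Base) (d : ι → ι → ℤ)
    (hd : ∀ i ∈ b.support, ∀ j ∈ b.support, i ≠ j → P.pairingIn ℤ i j = 0 → d i j = d j i) :
    ∃ C : ι → ι → ℤ, ∀ i ∈ b.support, ∀ j ∈ b.support, i ≠ j →
      C i j + C j i - P.pairingIn ℤ j i * C j j = d i j := by
  classical
  haveI : Fintype ι := Fintype.ofFinite ι
  have hM1 : ∀ i, P.pairingIn ℤ i i = 2 := fun i => P.pairingIn_same ℤ i
  have hM2 : ∀ i ∈ b.support, ∀ j ∈ b.support, i ≠ j → P.pairingIn ℤ i j ≤ 0 :=
    fun i hi j hj hij => b.pairingIn_le_zero_of_ne hij hi hj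
  have hcast : ∀ i j, ((P.pairingIn ℤ i j : ℤ) : R) = P.pairing i j := fun i j =>
    (eq_intCast (algebraMap ℤ R) (P.pairingIn ℤ i j)).symm.trans (P.algebraMap_pairingIn ℤ i j)
  have hM3 : ∀ i j, 2 * ∑ k, P.pairingIn ℤ i k * P.pairingIn ℤ j k
      = P.pairingIn ℤ i j * ∑ k, P.pairingIn ℤ j k * P.pairingIn ℤ j k := by
    intro i j
    apply Int.cast_injective (α := R)
    push_cast
    simp only [hcast]
    have h5 := P.toInvariantForm.two_mul_apply_root_root i j
    simp only [RootPairing.toInvariantForm_form, RootPairing.rootForm_apply_apply,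
      RootPairing.root_coroot'_eq_pairing] at h5
    exact h5
  have hM4 : ∀ t : ι → ℤ, (∀ k, ∑ i ∈ b.support, t i * P.pairingIn ℤ i k = 0) →
      ∀ i ∈ b.support, t i = 0 := by
    intro t ht
    have hv1 : ∑ i ∈ b.support, (t i : R) • P.root i ∈ P.rootSpan R :=
      Submodule.sum_mem _ (fun i _ => Submodule.smul_mem _ _ (Submodule.subset_span ⟨i, rfl⟩))
    have hcor : ∀ k, P.coroot' k (∑ i ∈ b.support, (t i : R) • P.root i) = 0 := by
      intro k
      rw [map_sum]
      have h6 : ∀ i ∈ b.support, P.coroot' k ((t i : R) • P.root i)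
          = ((t i * P.pairingIn ℤ i k : ℤ) : R) := by
        intro i _
        rw [map_smul, RootPairing.root_coroot'_eq_pairing, smul_eq_mul, Int.cast_mul, hcast]
      rw [Finset.sum_congr rfl h6, ← Int.cast_sum, ht k, Int.cast_zero]
    have hv2 : ∑ i ∈ b.support, (t i : R) • P.root i ∈ LinearMap.ker P.RootForm := by
      rw [LinearMap.mem_ker]
      ext w
      rw [RootPairing.rootForm_apply_apply]
      simp only [hcor, zero_mul, Finset.sum_const_zero, LinearMap.zero_apply]
    have hv0 := Submodule.disjoint_def.mp P.disjoint_rootSpan_ker_rootForm _ hv1 hv2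
    have hli := linearIndepOn_finset_iff.mp b.linearIndepOn_root (fun i => (t i : R)) hv0
    intro i hi
    exact Int.cast_injective (α := R) (by rw [hli i hi, Int.cast_zero])
  exact Groth.Agent.Lib.Helper6.CartanLeaf.cartan_solve (P.pairingIn ℤ)
    (fun j => ∑ k, P.pairingIn ℤ j k * P.pairingIn ℤ j k) b.support hM1 hM2 hM3 hM4 d hd

end Groth.Agent.S19008
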