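import Groth.Statements.S19010
import Groth.Agent.Lib.Helper8.QuadInv

set_option autoImplicit false
universe u v w x
open RootD

namespace Groth.Agent.S19010

/-- Let P be a root pairing over an integral domain R of characteristic zero (roots α acting on the
coweight module N through reflections y ↦ y − ⟨α, y⟩ α^∨), D ⊆ N a submodule containing every coroot
and such that every element of D has a positive integer multiple in the span of the coroots (the
derived part), and Y₀ a complement of D in N. Let Q' be a quadratic form on N invariant under all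
root reflections. Then restriction to Y₀ is a bijection from the set of quadratic forms on N that
are invariant under all root reflections and agree with Q' on D onto the set of all quadratic forms
on Y₀. (In the source R = ℤ and N = Y₀ ⊕ Y_der is the cocharacter lattice of a split reductive
group; forms take values in R here.) -/
theorem result {ι : Type u} {R : Type v} {M : Type w} {N : Type x} [CommRing R] [IsDomain R] [CharZero R]
    [AddCommGroup M] [Module R M] [AddCommGroup N] [Module R N] (P : RootPairing ι R M N)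
    (D Y₀ : Submodule R N) (hD : ∀ i : ι, P.coroot i ∈ D)
    (hDsat : ∀ y ∈ D, ∃ n : ℕ, 0 < n ∧ n • y ∈ Submodule.span R (Set.range P.coroot))
    (hc : IsCompl Y₀ D)
    (Q' : QuadraticMap R N R) (hQ' : ∀ (i : ι) (y : N), Q' (P.coreflection i y) = Q' y) :
    Set.BijOn (fun Q : QuadraticMap R N R => Q.comp Y₀.subtype)
      {Q | (∀ (i : ι) (y : N), Q (P.coreflection i y) = Q y) ∧ ∀ y ∈ D, Q y = Q' y} Set.univ := by
  have hpol : ∀ (Q : QuadraticMap R N R), (∀ (i : ι) (y : N), Q (P.coreflection i y) = Q y) →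
      ∀ (i : ι) (y : N), QuadraticMap.polar Q y (P.coroot i) = P.root' i y * Q (P.coroot i) :=
    fun Q hQ i y => Groth.Agent.Helper8.QuadInv.polar_coroot_of_inv P Q ⊤ i Submodule.mem_top
      (fun y _ => hQ i y) y Submodule.mem_top
  refine ⟨fun _ _ => Set.mem_univ _, ?_, ?_⟩
  · rintro Q₁ ⟨h₁inv, h₁D⟩ Q₂ ⟨h₂inv, h₂D⟩ heq
    have heq' : ∀ y₀ ∈ Y₀, Q₁ y₀ = Q₂ y₀ := fun y₀ hy₀ => by
      have := congrArg (fun Q : QuadraticMap R Y₀ R => Q ⟨y₀, hy₀⟩) heq
      simpa using this
    have hB : ∀ (y : N), ∀ d ∈ D, QuadraticMap.polar Q₁ y d = QuadraticMap.polar Q₂ y d := by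
      intro y d hd
      obtain ⟨n, hn, hnd⟩ := hDsat d hd
      have hspan : ∀ z ∈ Submodule.span R (Set.range P.coroot),
          QuadraticMap.polarBilin Q₁ y z = QuadraticMap.polarBilin Q₂ y z := by
        intro z hz
        refine LinearMap.eqOn_span (f := QuadraticMap.polarBilin Q₁ y)
          (g := QuadraticMap.polarBilin Q₂ y) ?_ hz
        rintro _ ⟨i, rfl⟩
        simp only [QuadraticMap.polarBilin_apply_apply]
        rw [hpol Q₁ h₁inv, hpol Q₂ h₂inv, h₁D _ (hD i), h₂D _ (hD i)]
      have h1 := hspan _ hnd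
      rw [map_nsmul, map_nsmul, QuadraticMap.polarBilin_apply_apply,
        QuadraticMap.polarBilin_apply_apply, nsmul_eq_mul, nsmul_eq_mul] at h1
      have hn0 : ((n : ℕ) : R) ≠ 0 := Nat.cast_ne_zero.mpr hn.ne'
      exact mul_left_cancel₀ hn0 h1
    ext y
    have hy := Groth.Agent.Helper8.QuadInv.π₀_add_πD hc y
    rw [← hy, QuadraticMap.map_add (Q₁ : N → R), QuadraticMap.map_add (Q₂ : N → R),
      heq' _ (Groth.Agent.Helper8.QuadInv.π₀_mem hc y),
      h₁D _ (Groth.Agent.Helper8.QuadInv.πD_mem hc y),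
      h₂D _ (Groth.Agent.Helper8.QuadInv.πD_mem hc y),
      hB _ _ (Groth.Agent.Helper8.QuadInv.πD_mem hc y)]
  · intro Q₀ _
    refine ⟨Groth.Agent.Helper8.QuadInv.extQ hc Q₀ (QuadraticMap.polarBilin Q') Q',
      ⟨fun i y => ?_, fun y hy => ?_⟩, ?_⟩
    · exact Groth.Agent.Helper8.QuadInv.extQ_corefl P hc Q₀ _ Q' i (hD i) (fun y _ => hQ' i y)
        (fun y₀ _ => by rw [QuadraticMap.polarBilin_apply_apply, hpol Q' hQ']) y
    · exact Groth.Agent.Helper8.QuadInv.extQ_of_mem_D hc Q₀ _ Q' hy
    · ext y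
      simp only [QuadraticMap.comp_apply, Submodule.subtype_apply]
      exact Groth.Agent.Helper8.QuadInv.extQ_of_mem_Y₀ hc Q₀ _ Q' y

end Groth.Agent.S19010
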