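import Groth.Statements.S19011
import Mathlib
import Groth.Agent.Lib.Helper28.RootBase

set_option autoImplicit false
universe u v w x
open RootD

namespace Groth.Agent.S19011

/-- For a finite reduced crystallographic root pairing over an integral domain of characteristic zero,
the additive group generated by the coroots admits the presentation with one generator [β] for each
root β and the relations [s_α(β)] = [β] − ⟨α, β^∨⟩ [α] for all roots α, β, where ⟨α, β^∨⟩ is the
Cartan integer. Concretely: the kernel of the ℤ-linear map from the free abelian group on the index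
type of the roots to the coweight module sending the generator of index β to the coroot β^∨ is the
subgroup generated by the elements [s_α(β)] − [β] + ⟨α, β^∨⟩ [α]. (The source states this for the
cocharacter lattice of a split semi-simple simply connected group, which is the group generated by
the coroots.) -/
theorem result {ι : Type u} {R : Type v} {M : Type w} {N : Type x} [CommRing R] [IsDomain R] [CharZero R]
    [AddCommGroup M] [Module R M] [AddCommGroup N] [Module R N] (P : RootPairing ι R M N)
    [Finite ι] [P.IsCrystallographic] [P.IsReduced] :
    LinearMap.ker (Finsupp.linearCombination ℤ (fun i : ι => (P.coroot i : N))) =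
      Submodule.span ℤ (Set.range fun p : ι × ι =>
        Finsupp.single (P.reflectionPerm p.1 p.2) (1 : ℤ) - Finsupp.single p.2 1 +
          P.pairingIn ℤ p.1 p.2 • Finsupp.single p.1 1) := by
  classical
  set L := Finsupp.linearCombination ℤ (fun i : ι => (P.coroot i : N)) with hL
  set rel : ι × ι → (ι →₀ ℤ) := fun p =>
    Finsupp.single (P.reflectionPerm p.1 p.2) (1 : ℤ) - Finsupp.single p.2 1 +
      P.pairingIn ℤ p.1 p.2 • Finsupp.single p.1 1 with hrel
  set K := Submodule.span ℤ (Set.range rel) with hK
  have hKL : K ≤ LinearMap.ker L := by
    rw [hK, Submodule.span_le]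
    rintro _ ⟨⟨i, j⟩, rfl⟩
    simp only [SetLike.mem_coe, LinearMap.mem_ker, hrel, hL, map_add, map_sub, map_smul,
      Finsupp.linearCombination_single, one_smul]
    rw [P.coroot_reflectionPerm, P.coreflection_apply_coroot]
    have : (P.pairingIn ℤ i j : ℤ) • P.coroot i = P.pairing i j • P.coroot i := by
      rw [← P.algebraMap_pairingIn ℤ, algebraMap_smul]
    rw [this]; abel
  apply le_antisymm _ hKL
  obtain ⟨B, hBli, -, hBind⟩ := Groth.Agent.Helper28.RootBase.exists_base P
  set S := Finsupp.supported ℤ ℤ (B : Set ι) with hS
  have hp : ∀ i, Finsupp.single i (1:ℤ) ∈ K ⊔ S := by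
    intro i
    refine hBind (fun i => Finsupp.single i (1:ℤ) ∈ K ⊔ S) ?_ ?_ ?_ i
    · intro i hi
      have hr : rel (i, i) ∈ K := Submodule.subset_span ⟨_, rfl⟩
      have : Finsupp.single (P.reflectionPerm i i) (1:ℤ) = rel (i,i) - Finsupp.single i 1 := by
        simp only [hrel, RootPairing.pairingIn_same]
        rw [two_smul]; abel
      rw [this]
      exact Submodule.sub_mem _ (Submodule.mem_sup_left hr) hi
    · intro i hi
      exact Submodule.mem_sup_right (Finsupp.single_mem_supported ℤ _ hi)
    · intro i j hi hj
      have hr : rel (j, i) ∈ K := Submodule.subset_span ⟨_, rfl⟩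
      have : Finsupp.single (P.reflectionPerm j i) (1:ℤ) =
          rel (j,i) + Finsupp.single i 1 - P.pairingIn ℤ j i • Finsupp.single j 1 := by
        simp only [hrel]; abel
      rw [this]
      refine Submodule.sub_mem _ (Submodule.add_mem _ (Submodule.mem_sup_left hr) hi) ?_
      exact Submodule.smul_mem _ _ (Submodule.mem_sup_right (Finsupp.single_mem_supported ℤ _ hj))
  have htop : ∀ x : ι →₀ ℤ, x ∈ K ⊔ S := by
    intro x
    induction x using Finsupp.induction_linear with
    | zero => exact Submodule.zero_mem _
    | add f g hf hg => exact Submodule.add_mem _ hf hg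
    | single i a =>
      have : Finsupp.single i a = a • Finsupp.single i (1:ℤ) := by simp
      rw [this]
      exact Submodule.smul_mem _ _ (hp i)
  intro x hx
  obtain ⟨k, hk, s, hs, rfl⟩ := Submodule.mem_sup.mp (htop x)
  have hk0 : L k = 0 := hKL hk
  have hs0 : L s = 0 := by
    have : L (k + s) = 0 := hx
    rwa [map_add, hk0, zero_add] at this
  have : s = 0 := linearIndepOn_iff.mp hBli s hs hs0
  rw [this, add_zero]; exact hk

end Groth.Agent.S19011
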