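import Groth.Statements.S19012
import Mathlib
import Groth.Agent.Lib.Lead.RootB4

set_option autoImplicit false
universe u v w x
open RootD

namespace Groth.Agent.S19012

/-- Let P be a finite reduced crystallographic root pairing over a field of characteristic zero which is
irreducible, and b a base. A quadratic form on the coweight module that is invariant under all root
reflections and vanishes on some simple coroot is zero; in other words an invariant form is
determined by its value on a single simple coroot. (The source proves, component by component of the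
Dynkin diagram, that an invariant integer-valued form on the coroot lattice with prescribed value on
the first simple coroot of each component is unique; here the system is irreducible, the coroots
span the coweight module, and forms take values in the base field.) -/
theorem result {ι : Type u} {K : Type v} {M : Type w} {N : Type x} [Field K] [CharZero K]
    [AddCommGroup M] [Module K M] [AddCommGroup N] [Module K N] (P : RootPairing ι K M N)
    [Finite ι] [P.IsCrystallographic] [P.IsReduced] [P.IsIrreducible] (b : P.Base)
    (Q : QuadraticMap K N K) (hQ : ∀ (i : ι) (y : N), Q (P.coreflection i y) = Q y)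
    (i₀ : ι) (hi₀ : i₀ ∈ b.support) (h0 : Q (P.coroot i₀) = 0) : Q = 0 := by
  classical
  have hinv : ∀ i j : ι, QuadraticMap.polar Q (P.coroot i) (P.coroot j) =
      P.pairing j i * Q (P.coroot j) :=
    fun i j => Groth.Agent.Lead.RootB4.polar_coroot_of_inv P Q j (fun y _ => hQ j y) i
  have hrel : ∀ i j : ι, P.pairing j i * Q (P.coroot j) = P.pairing i j * Q (P.coroot i) := by
    intro i j
    rw [← hinv i j, ← hinv j i, QuadraticMap.polar_comm]
  have hZstep : ∀ i, Q (P.coroot i) = 0 → ∀ j, ¬ P.IsOrthogonal j i → Q (P.coroot j) = 0 := by
    intro i hi j hno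
    have hne : P.pairing j i ≠ 0 := by
      intro h0
      exact hno ⟨h0, P.pairing_eq_zero_iff'.mp h0⟩
    have := hrel i j
    rw [hi, mul_zero] at this
    exact (mul_eq_zero.mp this).resolve_left hne
  haveI : Nonempty ι := ⟨i₀⟩
  have hspan : Submodule.span K (P.root '' {k | Q (P.coroot k) = 0}) = ⊤ := by
    refine P.span_root_image_eq_top_of_forall_orthogonal _ ⟨i₀, h0⟩ ?_
    intro j hj i hi
    by_contra hno
    exact hj (Submodule.subset_span ⟨j, hZstep i hi j hno, rfl⟩)
  have hall : ∀ j, Q (P.coroot j) = 0 := by
    intro j
    by_contra hj
    have horth : ∀ i, Q (P.coroot i) = 0 → P.pairing i j = 0 := by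
      intro i hi
      by_contra hne
      exact hj (hZstep i hi j (fun ho => hne ho.2))
    have hker : Submodule.span K (P.root '' {k | Q (P.coroot k) = 0}) ≤
        LinearMap.ker (P.coroot' j) := by
      rw [Submodule.span_le]
      rintro _ ⟨i, hi, rfl⟩
      exact horth i hi
    rw [hspan] at hker
    have h1 : P.coroot' j (P.root j) = 0 := hker Submodule.mem_top
    have h2 : P.coroot' j (P.root j) = 2 := P.root_coroot_two j
    rw [h2] at h1
    exact two_ne_zero h1
  have hB : ∀ i j, QuadraticMap.polar Q (P.coroot i) (P.coroot j) = 0 := by
    intro i j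
    rw [hinv, hall, mul_zero]
  have htop : Submodule.span K (Set.range P.coroot) = ⊤ :=
    RootPairing.IsRootSystem.span_coroot_eq_top
  have hp : ∀ y : N, ∀ k, QuadraticMap.polar Q y (P.coroot k) = 0 := by
    intro y k
    have hy : y ∈ Submodule.span K (Set.range P.coroot) := by rw [htop]; trivial
    refine Submodule.span_induction ?_ ?_ ?_ ?_ hy
    · rintro _ ⟨i, rfl⟩
      exact hB i k
    · simp [QuadraticMap.polar]
    · intro x z _ _ hx hz
      rw [QuadraticMap.polar_add_left, hx, hz, add_zero]
    · intro a x _ hx
      rw [QuadraticMap.polar_smul_left, hx, smul_zero]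
  have hpp : ∀ y z : N, QuadraticMap.polar Q y z = 0 := by
    intro y z
    have hz : z ∈ Submodule.span K (Set.range P.coroot) := by rw [htop]; trivial
    refine Submodule.span_induction ?_ ?_ ?_ ?_ hz
    · rintro _ ⟨i, rfl⟩
      exact hp y i
    · simp [QuadraticMap.polar]
    · intro x w _ _ hx hw
      rw [QuadraticMap.polar_add_right, hx, hw, add_zero]
    · intro a x _ hx
      rw [QuadraticMap.polar_smul_right, hx, smul_zero]
  refine QuadraticMap.ext fun y => ?_
  rw [QuadraticMap.zero_apply]
  have := hpp y y
  rw [QuadraticMap.polar_self, two_nsmul] at this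
  have h2 : (2 : K) * Q y = 0 := by rw [two_mul]; exact this
  exact (mul_eq_zero.mp h2).resolve_left two_ne_zero

end Groth.Agent.S19012
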