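import Groth.Statements.S19014
import Groth.Agent.Lib.Helper20.MilKres

set_option autoImplicit false
universe u v
open MilnorK

namespace Groth.Agent.S19014

open MilK Groth.Agent.Helper20.MilKn Groth.Agent.Helper20.MilKres

theorem result
    (B : Type u) [CommRing B] [IsDomain B] [IsDiscreteValuationRing B]
    (E F : Type v) [Field E] [Field F] [Algebra B F] [IsFractionRing B F]
    [Algebra E B] [Algebra E F] [IsScalarTower E B F]
    (n : ℕ) (d : MilK.K F (n + 1) →+ MilK.K (IsLocalRing.ResidueField B) n) (hd : MilK.IsTameSymbol B F n d)
    (x : MilK.K E (n + 1)) :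
    d (MilK.map (algebraMap E F) (n + 1) x) = 0 := by
  refine symbol_induction (P := fun x => d (MilK.map (algebraMap E F) (n + 1) x) = 0)
    (by simp) ?_ ?_ ?_ x
  · intro c
    rw [map_symbol]
    have e : (fun i => Units.map (algebraMap E F : E →* F) (c i)) =
        fun i => unitToFrac B F (Units.map (algebraMap E B : E →* B) (c i)) := by
      funext i
      ext
      simp only [unitToFrac, Units.coe_map, MonoidHom.coe_coe]
      rw [IsScalarTower.algebraMap_apply E B F]
    rw [e]
    exact tame_unit B F d hd _
  · intro x h
    simp only [map_neg, h, neg_zero]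
  · intro x y h h'
    simp only [map_add, h, h', add_zero]

end Groth.Agent.S19014
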