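import Groth.Statements.S19015
import Groth.Agent.Lib.Helper20.MilKfun

set_option autoImplicit false
universe u v
open MilnorK

namespace Groth.Agent.S19015


theorem result
    (B : Type u) [CommRing B] [IsDomain B] [IsDiscreteValuationRing B]
    (E F : Type v) [Field E] [Field F] [Algebra B F] [IsFractionRing B F]
    [Algebra E B] [Algebra E F] [IsScalarTower E B F]
    (n : ℕ) (d : MilK.K F (n + 1) →+ MilK.K (IsLocalRing.ResidueField B) n) (hd : MilK.IsTameSymbol B F n d)
    (ϖ : B) (hϖ : Irreducible ϖ) (x : MilK.K E n) :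
    d (MilK.cast F (Nat.add_comm 1 n)
        (MilK.mul F 1 n (MilK.symbol ![-MilK.unitFrac B F ϖ hϖ.ne_zero]) (MilK.map (algebraMap E F) n x))) =
      MilK.map ((IsLocalRing.residue B).comp (algebraMap E B)) n x := by
  rw [Groth.Agent.Helper20.MilKfun.cast_mul_one]
  exact Groth.Agent.Helper20.MilKfun.spec_neg_unif B E F n d hd ϖ hϖ x

end Groth.Agent.S19015
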