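import Groth.Statements.S19016
import Groth.Agent.Lib.Helper20.MilKfun

set_option autoImplicit false
universe u v
open MilnorK

namespace Groth.Agent.S19016


theorem result
    (B : Type u) [CommRing B] [IsDomain B] [IsDiscreteValuationRing B]
    (F : Type v) [Field F] [Algebra B F] [IsFractionRing B F] (n : ℕ)
    (d : MilK.K F (n + 1) →+ MilK.K (IsLocalRing.ResidueField B) n) (hd : MilK.IsTameSymbol B F n d)
    (d' : MilK.K F (n + 1 + 1) →+ MilK.K (IsLocalRing.ResidueField B) (n + 1))
    (hd' : MilK.IsTameSymbol B F (n + 1) d')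
    (u : Bˣ) (ρ : MilK.K F (n + 1)) :
    d' (MilK.cast F (Nat.add_comm 1 (n + 1)) (MilK.mul F 1 (n + 1) (MilK.symbol ![MilK.unitToFrac B F u]) ρ)) =
      -(MilK.cast (IsLocalRing.ResidueField B) (Nat.add_comm 1 n)
          (MilK.mul (IsLocalRing.ResidueField B) 1 n (MilK.symbol ![MilK.unitResidue B u]) (d ρ))) := by
  rw [Groth.Agent.Helper20.MilKfun.cast_mul_one, Groth.Agent.Helper20.MilKfun.cast_mul_one]
  exact Groth.Agent.Helper20.MilKfun.tame_unit_cons B F n d hd d' hd' u ρ

end Groth.Agent.S19016
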