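import Groth.Statements.S19018
import Mathlib
import Groth.Agent.Lib.Helper28.DiagIdeal
open Groth.Agent.Helper28.DiagIdealLib

set_option autoImplicit false
universe u
open TensorProduct
open SymTen

namespace Groth.Agent.S19018

/-- Suppose k is a field in which 2 ≠ 0 and R is a commutative k-algebra. Write I for the ideal of the
diagonal, i.e. the kernel of multiplication R ⊗_k R → R, and write S for the subalgebra of R ⊗_k R
consisting of elements invariant under interchanging the two tensor factors. Then, viewed as ideals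
of S, the swap-invariant elements of I^4 form precisely the square of the ideal of swap-invariant
elements of I^2. (The source is stated over the complex numbers; the proof needs only that 2 is
invertible.) -/
theorem result
    (k R : Type u) [Field k] [NeZero (2 : k)] [CommRing R] [Algebra k R] :
    Ideal.comap
        (AlgHom.equalizer ((Algebra.TensorProduct.comm k R R : R ⊗[k] R ≃ₐ[k] R ⊗[k] R) : R ⊗[k] R →ₐ[k] R ⊗[k] R)
          (AlgHom.id k (R ⊗[k] R))).val
        (KaehlerDifferential.ideal k R ^ 4) =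
      (Ideal.comap
        (AlgHom.equalizer ((Algebra.TensorProduct.comm k R R : R ⊗[k] R ≃ₐ[k] R ⊗[k] R) : R ⊗[k] R →ₐ[k] R ⊗[k] R)
          (AlgHom.id k (R ⊗[k] R))).val
        (KaehlerDifferential.ideal k R ^ 2)) ^ 2 := by
  classical
  set τ : R ⊗[k] R →ₐ[k] R ⊗[k] R :=
    ((Algebra.TensorProduct.comm k R R : R ⊗[k] R ≃ₐ[k] R ⊗[k] R) : R ⊗[k] R →ₐ[k] R ⊗[k] R) with hτ
  set Sub := AlgHom.equalizer τ (AlgHom.id k (R ⊗[k] R)) with hSub
  set I := KaehlerDifferential.ideal k R with hI
  have hττ : ∀ y, τ (τ y) = y := by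
    intro y
    induction y using TensorProduct.induction_on with
    | zero => simp
    | tmul a b => simp [hτ]
    | add y z hy hz => rw [map_add, map_add, hy, hz]
  have hτdl : ∀ a, τ (dl k R a) = - dl k R a := by
    intro a
    simp [dl, hτ]
  have hmemSub : ∀ y, y ∈ Sub ↔ τ y = y := by
    intro y
    simp [hSub, AlgHom.mem_equalizer]
  have hdd : ∀ a b, dl k R a * dl k R b ∈ Sub := by
    intro a b
    rw [hmemSub, map_mul, hτdl, hτdl]; ring
  have hddI : ∀ a b, dl k R a * dl k R b ∈ I ^ 2 := by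
    intro a b
    rw [hI, sq_eq_span]
    exact Ideal.subset_span ⟨a, b, rfl⟩
  have h2 : (2 : k) ≠ 0 := NeZero.ne 2
  -- symmetrisation
  have hsymmem : ∀ y, (2 : k)⁻¹ • (y + τ y) ∈ Sub := by
    intro y
    rw [hmemSub, map_smul, map_add, hττ, add_comm]
  let symS : R ⊗[k] R → Sub := fun y => ⟨(2 : k)⁻¹ • (y + τ y), hsymmem y⟩
  have hsym_add : ∀ y z, symS (y + z) = symS y + symS z := by
    intro y z
    apply Subtype.ext
    simp only [symS, map_add, Subalgebra.coe_add]
    rw [← smul_add]; congr 1; abel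
  have hsym_zero : symS 0 = 0 := by
    apply Subtype.ext
    simp [symS]
  have hsym_mul : ∀ (f g : R ⊗[k] R) (hg : g ∈ Sub), symS (f * g) = symS f * ⟨g, hg⟩ := by
    intro f g hg
    apply Subtype.ext
    simp only [symS, map_mul, Subalgebra.coe_mul, (hmemSub g).mp hg]
    rw [smul_mul_assoc, add_mul]
  have hsym_self : ∀ (z : Sub), symS z.1 = z := by
    intro z
    apply Subtype.ext
    simp only [symS, (hmemSub z.1).mp z.2]
    rw [← two_smul k z.1, smul_smul, inv_mul_cancel₀ h2, one_smul]
  set J := Ideal.comap Sub.val (I ^ 2) with hJ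
  apply le_antisymm
  · -- comap I^4 ≤ J^2
    intro z hz
    rw [Ideal.mem_comap] at hz
    have h4 : I ^ 4 = Ideal.span {w | ∃ a b c e : R, w = dl k R a * dl k R b * (dl k R c * dl k R e)} := by
      rw [show (4 : ℕ) = 2 * 2 from rfl, pow_mul, hI, sq_eq_span, pow_two, Ideal.span_mul_span]
      congr 1
      ext w
      constructor
      · rintro ⟨_, ⟨a, b, rfl⟩, _, ⟨c, e, rfl⟩, rfl⟩
        exact ⟨a, b, c, e, rfl⟩
      · rintro ⟨a, b, c, e, rfl⟩
        exact ⟨_, ⟨a, b, rfl⟩, _, ⟨c, e, rfl⟩, rfl⟩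
    have key : ∀ y ∈ I ^ 4, ∀ f : R ⊗[k] R, symS (f * y) ∈ J ^ 2 := by
      intro y hy
      rw [h4] at hy
      induction hy using Submodule.span_induction with
      | mem w hw =>
        obtain ⟨a, b, c, e, rfl⟩ := hw
        intro f
        have hg : dl k R a * dl k R b * (dl k R c * dl k R e) ∈ Sub := mul_mem (hdd a b) (hdd c e)
        rw [hsym_mul f _ hg]
        refine Ideal.mul_mem_left _ _ ?_
        have : (⟨dl k R a * dl k R b * (dl k R c * dl k R e), hg⟩ : Sub) =
            ⟨dl k R a * dl k R b, hdd a b⟩ * ⟨dl k R c * dl k R e, hdd c e⟩ := rfl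
        rw [this, pow_two]
        exact Ideal.mul_mem_mul (Ideal.mem_comap.mpr (hddI a b)) (Ideal.mem_comap.mpr (hddI c e))
      | zero => intro f; rw [mul_zero, hsym_zero]; exact zero_mem _
      | add y z _ _ hy hz => intro f; rw [mul_add, hsym_add]; exact add_mem (hy f) (hz f)
      | smul g y _ hy => intro f; rw [smul_eq_mul, ← mul_assoc]; exact hy (f * g)
    have := key z.1 hz 1
    rwa [one_mul, hsym_self] at this
  · -- J^2 ≤ comap I^4
    calc J ^ 2 ≤ Ideal.comap Sub.val ((I ^ 2) ^ 2) := Ideal.le_comap_pow _ _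
      _ = Ideal.comap Sub.val (I ^ 4) := by rw [← pow_mul]


end Groth.Agent.S19018
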