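import Groth.Statements.S19019
import Mathlib

set_option autoImplicit false
open scoped ComplexOrder
open Toeplitz

namespace Groth.Agent.S19019

open Real MeasureTheory

/-- the characters `y ↦ exp (i n y)` -/
noncomputable def e (n : ℤ) (y : ℝ) : ℂ := Complex.exp (Complex.I * (n : ℂ) * (y : ℂ))

lemma e_add (a b : ℤ) (y : ℝ) : e a y * e b y = e (a + b) y := by
  simp only [e, ← Complex.exp_add]
  congr 1
  push_cast
  ring

lemma e_cont (n : ℤ) : Continuous (e n) := by
  unfold e
  fun_prop

lemma conj_e (n : ℤ) (y : ℝ) : (starRingEnd ℂ) (e n y) = e (-n) y := by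
  simp only [e, ← Complex.exp_conj, map_mul, Complex.conj_I, Complex.conj_ofReal, map_intCast]
  congr 1
  push_cast
  ring

lemma integral_e (n : ℤ) :
    ∫ y in (0 : ℝ)..(2 * π), e n y = if n = 0 then (2 * π : ℂ) else 0 := by
  split_ifs with h
  · subst h
    simp [e]
  · have hc : Complex.I * (n : ℂ) ≠ 0 := mul_ne_zero Complex.I_ne_zero (Int.cast_ne_zero.mpr h)
    unfold e
    rw [integral_exp_mul_complex hc]
    have h1 : Complex.exp (Complex.I * (n : ℂ) * ((2 * π : ℝ) : ℂ)) = 1 := by
      have := Complex.exp_int_mul_two_pi_mul_I n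
      rw [← this]
      congr 1
      push_cast
      ring
    rw [h1]
    simp

/-- Let A be an m × m complex Hermitian Toeplitz matrix, with entries A i j = t (j - i) constant along
diagonals, and let f(y) = Σ_{-m < k < m} t k · exp(i k y) be the trigonometric polynomial attached
to it. If f has positive real part at every real y outside a countable set, then A is positive
definite (hence nondegenerate). (The source also states the mirror case: f negative off a countable
set gives A negative definite, which is this statement for -A.) -/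
theorem result
    (m : ℕ) (t : ℤ → ℂ) (A : Matrix (Fin m) (Fin m) ℂ)
    (hA : ∀ i j : Fin m, A i j = t ((j : ℤ) - (i : ℤ))) (hH : A.IsHermitian)
    (hpos : Set.Countable {y : ℝ | ¬ 0 < (∑ k ∈ Finset.Ioo (-(m : ℤ)) (m : ℤ),
        t k * Complex.exp (Complex.I * (k : ℂ) * (y : ℂ))).re}) :
    A.PosDef := by
  apply Matrix.PosDef.of_dotProduct_mulVec_pos hH
  intro x hx
  let f : ℝ → ℂ := fun y => ∑ k ∈ Finset.Ioo (-(m : ℤ)) (m : ℤ), t k * e k y
  have hfdef : ∀ y, f y = ∑ k ∈ Finset.Ioo (-(m : ℤ)) (m : ℤ),
      t k * Complex.exp (Complex.I * (k : ℂ) * (y : ℂ)) := fun y => rfl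
  let P : ℝ → ℂ := fun y => ∑ j : Fin m, x j * e (-(j : ℤ)) y
  have hfcont : Continuous f := by
    apply continuous_finsetSum
    intro k _
    exact continuous_const.mul (e_cont k)
  have hPcont : Continuous P := by
    apply continuous_finsetSum
    intro j _
    exact continuous_const.mul (e_cont _)
  set z : ℂ := star x ⬝ᵥ A.mulVec x with hz
  -- `z` is real
  have hzim : z.im = 0 := by
    rw [← Complex.conj_eq_iff_im]
    have h1 : (starRingEnd ℂ) z = star z := rfl
    rw [h1, hz, ← Matrix.star_dotProduct, Matrix.star_mulVec, ← Matrix.dotProduct_mulVec, hH.eq]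
  -- the conjugate of `P`
  have hPconj : ∀ y, (starRingEnd ℂ) (P y) = ∑ i : Fin m, (starRingEnd ℂ) (x i) * e (i : ℤ) y := by
    intro y
    simp only [P, map_sum, map_mul, conj_e, neg_neg]
  -- the integral formula
  have hint : ∫ y in (0 : ℝ)..(2 * π), f y * ((starRingEnd ℂ) (P y) * P y) = 2 * π * z := by
    have hexp : ∀ y, f y * ((starRingEnd ℂ) (P y) * P y) =
        ∑ k ∈ Finset.Ioo (-(m : ℤ)) (m : ℤ), ∑ i : Fin m, ∑ j : Fin m,
          (t k * (starRingEnd ℂ) (x i) * x j) * e (k + (i : ℤ) - (j : ℤ)) y := by
      intro y
      rw [hPconj]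
      simp only [f, P]
      rw [Finset.sum_mul_sum, Finset.sum_mul]
      refine Finset.sum_congr rfl fun k _ => ?_
      rw [Finset.mul_sum]
      refine Finset.sum_congr rfl fun i _ => ?_
      rw [Finset.mul_sum]
      refine Finset.sum_congr rfl fun j _ => ?_
      have : e (k + (i : ℤ) - (j : ℤ)) y = e k y * e (i : ℤ) y * e (-(j : ℤ)) y := by
        rw [e_add, e_add, sub_eq_add_neg]
      rw [this]
      ring
    simp only [hexp]
    rw [intervalIntegral.integral_finsetSum]
    swap
    · intro k _
      apply Continuous.intervalIntegrable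
      apply continuous_finsetSum; intro i _
      apply continuous_finsetSum; intro j _
      exact continuous_const.mul (e_cont _)
    have h1 : ∀ k ∈ Finset.Ioo (-(m : ℤ)) (m : ℤ),
        ∫ y in (0 : ℝ)..(2 * π), ∑ i : Fin m, ∑ j : Fin m,
          (t k * (starRingEnd ℂ) (x i) * x j) * e (k + (i : ℤ) - (j : ℤ)) y =
        ∑ i : Fin m, ∑ j : Fin m, (t k * (starRingEnd ℂ) (x i) * x j) *
          (if k + (i : ℤ) - (j : ℤ) = 0 then (2 * π : ℂ) else 0) := by
      intro k _
      rw [intervalIntegral.integral_finsetSum]
      swap
      · intro i _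
        apply Continuous.intervalIntegrable
        apply continuous_finsetSum; intro j _
        exact continuous_const.mul (e_cont _)
      refine Finset.sum_congr rfl fun i _ => ?_
      rw [intervalIntegral.integral_finsetSum]
      swap
      · intro j _
        exact (continuous_const.mul (e_cont _)).intervalIntegrable _ _
      refine Finset.sum_congr rfl fun j _ => ?_
      rw [intervalIntegral.integral_const_mul, integral_e]
    rw [Finset.sum_congr rfl h1]
    -- exchange the order of summation
    rw [Finset.sum_comm]
    rw [hz, dotProduct, Finset.mul_sum]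
    refine Finset.sum_congr rfl fun i _ => ?_
    rw [Finset.sum_comm]
    simp only [Matrix.mulVec, dotProduct, Finset.mul_sum]
    refine Finset.sum_congr rfl fun j _ => ?_
    have hmem : ((j : ℤ) - (i : ℤ)) ∈ Finset.Ioo (-(m : ℤ)) (m : ℤ) := by
      rw [Finset.mem_Ioo]
      have hi := i.isLt
      have hj := j.isLt
      constructor <;> omega
    rw [Finset.sum_eq_single_of_mem _ hmem]
    · rw [if_pos (by ring), hA]
      simp only [Pi.star_apply, RCLike.star_def]
      ring
    · intro k _ hk
      rw [if_neg, mul_zero]
      intro h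
      apply hk
      omega
  -- real parts
  have hre : ∫ y in (0 : ℝ)..(2 * π), (f y).re * Complex.normSq (P y) = 2 * π * z.re := by
    have h1 := Complex.reCLM.intervalIntegral_comp_comm
      (μ := volume) (a := (0 : ℝ)) (b := 2 * π)
      (f := fun y => f y * ((starRingEnd ℂ) (P y) * P y))
      ((hfcont.mul ((Complex.continuous_conj.comp hPcont).mul hPcont)).intervalIntegrable _ _)
    rw [hint] at h1
    have h2 : ∀ y, Complex.reCLM (f y * ((starRingEnd ℂ) (P y) * P y))
        = (f y).re * Complex.normSq (P y) := by
      intro y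
      rw [← Complex.normSq_eq_conj_mul_self, Complex.reCLM_apply, Complex.re_mul_ofReal]
    simp only [h2] at h1
    rw [h1, Complex.reCLM_apply]
    have : (2 * (π : ℂ) * z) = ((2 * π : ℝ) : ℂ) * z := by push_cast; ring
    rw [this, Complex.re_ofReal_mul]
  -- density of the good set
  have hD : Dense {y : ℝ | 0 < (f y).re} := by
    have := hpos.dense_compl ℝ
    simpa [Set.compl_ofPred, hfdef] using this
  have hnn : ∀ y, 0 ≤ (f y).re := by
    intro y
    have hcl : IsClosed {y : ℝ | 0 ≤ (f y).re} :=
      isClosed_le continuous_const (Complex.continuous_re.comp hfcont)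
    have hsub : {y : ℝ | 0 < (f y).re} ⊆ {y : ℝ | 0 ≤ (f y).re} := fun y (hy : 0 < (f y).re) => (le_of_lt hy : 0 ≤ (f y).re)
    have := closure_minimal hsub hcl
    rw [hD.closure_eq] at this
    exact this (Set.mem_univ y)
  have hpi : (0 : ℝ) < 2 * π := by positivity
  -- positivity of the integral
  have hpos' : 0 < ∫ y in (0 : ℝ)..(2 * π), (f y).re * Complex.normSq (P y) := by
    apply intervalIntegral.integral_pos hpi
    · exact ((Complex.continuous_re.comp hfcont).mul
        (Complex.continuous_normSq.comp hPcont)).continuousOn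
    · intro y _
      exact mul_nonneg (hnn y) (Complex.normSq_nonneg _)
    · by_contra hcon
      push Not at hcon
      -- then `P` vanishes on `[0, 2π]`
      have hcl : IsClosed {y : ℝ | P y = 0} := isClosed_eq hPcont continuous_const
      have hsub : Set.Ioo (0 : ℝ) (2 * π) ∩ {y : ℝ | 0 < (f y).re} ⊆ {y : ℝ | P y = 0} := by
        rintro y ⟨hy1, hy2⟩
        have h1 := hcon y (Set.Ioo_subset_Icc_self hy1)
        have h2 : Complex.normSq (P y) ≤ 0 := by
          by_contra h3
          push Not at h3
          exact absurd (mul_pos hy2 h3) (not_lt.mpr h1)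
        exact Complex.normSq_eq_zero.mp (le_antisymm h2 (Complex.normSq_nonneg _))
      have h3 : Set.Ioo (0 : ℝ) (2 * π) ⊆ {y : ℝ | P y = 0} :=
        (hD.open_subset_closure_inter isOpen_Ioo).trans (closure_minimal hsub hcl)
      have h4 : Set.Icc (0 : ℝ) (2 * π) ⊆ {y : ℝ | P y = 0} := by
        rw [← closure_Ioo hpi.ne]
        exact closure_minimal h3 hcl
      -- Fourier coefficients of `P`
      apply hx
      funext j
      have h5 : ∫ y in (0 : ℝ)..(2 * π), P y * e (j : ℤ) y = 2 * π * x j := by
        have hexp : ∀ y, P y * e (j : ℤ) y = ∑ l : Fin m, x l * e (-(l : ℤ) + (j : ℤ)) y := by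
          intro y
          simp only [P, Finset.sum_mul]
          refine Finset.sum_congr rfl fun l _ => ?_
          rw [mul_assoc, e_add]
        simp only [hexp]
        rw [intervalIntegral.integral_finsetSum]
        swap
        · intro l _
          exact (continuous_const.mul (e_cont _)).intervalIntegrable _ _
        simp only [intervalIntegral.integral_const_mul, integral_e]
        rw [Finset.sum_eq_single j]
        · rw [if_pos (by ring)]; ring
        · intro l _ hl
          rw [if_neg, mul_zero]
          intro h
          apply hl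
          apply Fin.ext
          omega
        · intro h; exact absurd (Finset.mem_univ j) h
      have h6 : ∫ y in (0 : ℝ)..(2 * π), P y * e (j : ℤ) y = 0 := by
        rw [intervalIntegral.integral_congr (g := fun _ => (0 : ℂ))]
        · simp
        · intro y hy
          rw [Set.uIcc_of_le hpi.le] at hy
          have : P y = 0 := h4 hy
          simp [this]
      rw [h6] at h5
      have h7 : (2 * (π : ℂ)) ≠ 0 := by
        have : (π : ℂ) ≠ 0 := Complex.ofReal_ne_zero.mpr Real.pi_ne_zero
        simpa using this
      exact (mul_eq_zero.mp h5.symm).resolve_left h7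
  rw [hre] at hpos'
  rw [Complex.pos_iff]
  refine ⟨?_, hzim.symm⟩
  exact (mul_pos_iff_of_pos_left hpi).mp hpos'

end Groth.Agent.S19019
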