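import Groth.Statements.S19020
import Mathlib

set_option autoImplicit false
open Toeplitz

namespace Groth.Agent.S19020

open Finset in
lemma vand (n d N : ℕ) (hN : n < N) :
    ∑ r ∈ range N, (n.choose r) * (n.choose (r + d)) = (2 * n).choose (n + d) := by
  by_cases hd : n < d
  · rw [Nat.choose_eq_zero_of_lt (by omega)]
    apply Finset.sum_eq_zero
    intro r _
    rw [Nat.choose_eq_zero_of_lt (show n < r + d by omega), mul_zero]
  · rw [not_lt] at hd
    obtain ⟨k, rfl⟩ : ∃ k, n = k + d := ⟨n - d, by omega⟩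
    have h1 : (2 * (k + d)).choose (k + d + d) = (2 * (k + d)).choose k := by
      rw [← Nat.choose_symm (by omega)]
      congr 1
      omega
    rw [h1, two_mul, Nat.add_choose_eq, Finset.Nat.sum_antidiagonal_eq_sum_range_succ
      (fun a b => (k + d).choose a * (k + d).choose b)]
    have h2 : range N = range (k + 1) ∪ Ico (k + 1) N := by
      ext x
      simp only [mem_range, mem_union, mem_Ico]
      omega
    rw [h2, Finset.sum_union]
    · rw [show ∑ x ∈ Ico (k + 1) N, (k + d).choose x * (k + d).choose (x + d) = 0 from ?_, add_zero]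
      · apply Finset.sum_congr rfl
        intro r hr
        rw [mem_range] at hr
        congr 1
        rw [← Nat.choose_symm (by omega)]
        congr 1
        omega
      · apply Finset.sum_eq_zero
        intro r hr
        rw [mem_Ico] at hr
        rw [Nat.choose_eq_zero_of_lt (show k + d < r + d by omega), mul_zero]
    · rw [Finset.disjoint_left]
      intro x hx hx'
      rw [mem_range] at hx
      rw [mem_Ico] at hx'
      omega

/-- the convolution matrix of `(1 - z)^n`. -/
noncomputable def B (n m : ℕ) : Matrix (Fin (m + n)) (Fin m) ℝ :=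
  Matrix.of fun l i => if (i : ℕ) ≤ (l : ℕ) then
    (-1 : ℝ) ^ ((l : ℕ) - (i : ℕ)) * (n.choose ((l : ℕ) - (i : ℕ)) : ℝ) else 0

open Finset in
lemma key (n m i j : ℕ) (hi : i < m) (hj : j < m) :
    ∑ l ∈ range (m + n),
      (if i ≤ l then (-1 : ℝ) ^ (l - i) * (n.choose (l - i) : ℝ) else 0) *
      (if j ≤ l then (-1 : ℝ) ^ (l - j) * (n.choose (l - j) : ℝ) else 0) =
    (-1 : ℝ) ^ (i + j) * ((2 * n).choose (n + Nat.dist i j) : ℝ) := by
  wlog hij : i ≤ j generalizing i j
  · have := this j i hj hi (by omega)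
    rw [add_comm j i, Nat.dist_comm j i] at this
    rw [← this]
    apply Finset.sum_congr rfl
    intro l _
    rw [mul_comm]
  obtain ⟨d, rfl⟩ : ∃ d, j = i + d := ⟨j - i, by omega⟩
  rw [Nat.dist_eq_sub_of_le (by omega), show i + d - i = d by omega]
  rw [Finset.range_eq_Ico, ← Finset.sum_Ico_consecutive _ (Nat.zero_le (i + d)) (by omega)]
  rw [show ∑ l ∈ Ico 0 (i + d), (if i ≤ l then (-1 : ℝ) ^ (l - i) * (n.choose (l - i) : ℝ) else 0) *
      (if i + d ≤ l then (-1 : ℝ) ^ (l - (i + d)) * (n.choose (l - (i + d)) : ℝ) else 0) = 0 from ?_,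
    zero_add]
  · rw [Finset.sum_Ico_eq_sum_range]
    have h3 := vand n d (m + n - (i + d)) (by omega)
    have h4 : ((2 * n).choose (n + d) : ℝ) = ∑ r ∈ range (m + n - (i + d)),
        ((n.choose r : ℝ)) * (n.choose (r + d) : ℝ) := by
      rw [← h3]
      push_cast
      rfl
    rw [h4, Finset.mul_sum]
    apply Finset.sum_congr rfl
    intro r _
    rw [if_pos (by omega), if_pos (by omega)]
    rw [show i + d + r - i = r + d by omega, show i + d + r - (i + d) = r by omega]
    have h5 : (-1 : ℝ) ^ (i + (i + d)) = (-1) ^ d := by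
      rw [show i + (i + d) = 2 * i + d by ring, pow_add, pow_mul]
      simp
    have h6 : (-1 : ℝ) ^ (r + d) * (-1) ^ r = (-1) ^ d := by
      rw [show (-1 : ℝ) ^ (r + d) * (-1) ^ r = (-1) ^ (2 * r + d) by ring, pow_add, pow_mul]
      simp
    rw [h5, ← h6]
    ring
  · apply Finset.sum_eq_zero
    intro l hl
    rw [mem_Ico] at hl
    rw [if_neg (show ¬ i + d ≤ l by omega), mul_zero]

lemma B_inj (n m : ℕ) : Function.Injective (B n m).mulVec := by
  intro x y hxy
  have h0 : (B n m).mulVec (x - y) = 0 := by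
    rw [Matrix.mulVec_sub, hxy, sub_self]
  suffices h : x - y = 0 by exact sub_eq_zero.mp h
  set z := x - y with hz
  have hz0 : ∀ k : ℕ, ∀ hk : k < m, z ⟨k, hk⟩ = 0 := by
    intro k
    induction k using Nat.strong_induction_on with
    | _ k ih =>
      intro hk
      have h1 := congrFun h0 (Fin.castAdd n ⟨k, hk⟩)
      rw [Matrix.mulVec, dotProduct] at h1
      rw [Finset.sum_eq_single ⟨k, hk⟩] at h1
      · simpa [B] using h1
      · intro b _ hb
        rcases lt_or_gt_of_ne (show (b : ℕ) ≠ k from fun h => hb (Fin.ext h)) with h | h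
        · have := ih b h b.2
          rw [show (⟨(b : ℕ), b.2⟩ : Fin m) = b from rfl] at this
          rw [this, mul_zero]
        · simp only [B, Matrix.of_apply, Fin.val_castAdd]
          rw [if_neg (by omega), zero_mul]
      · intro h
        exact absurd (Finset.mem_univ _) h
  funext i
  exact hz0 i i.2

theorem result (n m : ℕ) :
    (Matrix.of fun i j : Fin m =>
        (-1 : ℝ) ^ ((i : ℕ) + (j : ℕ)) * (Nat.choose (2 * n) (n + Nat.dist i j) : ℝ)).PosDef := by
  have h := Matrix.PosDef.conjTranspose_mul_self (B n m) (B_inj n m)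
  convert h using 1
  ext i j
  rw [Matrix.mul_apply, Matrix.of_apply]
  rw [← key n m i j i.2 j.2, ← Fin.sum_univ_eq_sum_range (fun l =>
      (if (i : ℕ) ≤ l then (-1 : ℝ) ^ (l - i) * (n.choose (l - i) : ℝ) else 0) *
      (if (j : ℕ) ≤ l then (-1 : ℝ) ^ (l - j) * (n.choose (l - j) : ℝ) else 0))]
  apply Finset.sum_congr rfl
  intro l _
  simp [B, Matrix.conjTranspose_apply]

end Groth.Agent.S19020
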