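import Groth.Statements.S19021
import Groth.Agent.S19020
import Mathlib

set_option autoImplicit false
open Toeplitz

namespace Groth.Agent.S19021

/-- the real version of the matrix -/
noncomputable def T (n m : ℕ) : Matrix (Fin m) (Fin m) ℝ :=
  Matrix.of fun i j : Fin m =>
        (-1 : ℝ) ^ ((i : ℕ) + (j : ℕ)) *
          (if (j : ℕ) ≤ (i : ℕ) then (Nat.choose (2 * n + 1) (n + 1 + ((i : ℕ) - (j : ℕ))) : ℝ)
            else (Nat.choose (2 * n + 1) (n + ((j : ℕ) - (i : ℕ))) : ℝ))

lemma pascal (n d : ℕ) : (2 * (n + 1)).choose (n + 1 + d) =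
    (2 * n + 1).choose (n + 1 + d) + (2 * n + 1).choose (n + d) := by
  rw [show 2 * (n + 1) = (2 * n + 1) + 1 by ring, show n + 1 + d = (n + d) + 1 by ring,
    Nat.choose_succ_succ, add_comm]

lemma T_add_transpose (n m : ℕ) : T n m + (T n m).transpose =
    (Matrix.of fun i j : Fin m =>
        (-1 : ℝ) ^ ((i : ℕ) + (j : ℕ)) * (Nat.choose (2 * (n + 1)) ((n + 1) + Nat.dist i j) : ℝ)) := by
  ext i j
  simp only [T, Matrix.add_apply, Matrix.transpose_apply, Matrix.of_apply]
  rcases lt_trichotomy (i : ℕ) (j : ℕ) with h | h | h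
  · rw [if_neg (by omega), if_pos (by omega), Nat.dist_eq_sub_of_le (by omega), pascal,
      add_comm (j : ℕ) (i : ℕ)]
    push_cast
    ring
  · rw [if_pos (by omega), if_pos (by omega), h, Nat.dist_self, pascal, Nat.sub_self, add_zero,
      add_zero, Nat.choose_symm_half]
    push_cast
    ring
  · rw [if_pos (by omega), if_neg (by omega), Nat.dist_eq_sub_of_le_right (by omega), pascal,
      add_comm (j : ℕ) (i : ℕ)]
    push_cast
    ring

lemma det_T_ne_zero (n m : ℕ) : (T n m).det ≠ 0 := by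
  intro h0
  obtain ⟨x, hx, hx0⟩ := Matrix.exists_mulVec_eq_zero_iff.mpr h0
  have hpd := Groth.Agent.S19020.result (n + 1) m
  rw [← T_add_transpose] at hpd
  have h1 := hpd.dotProduct_mulVec_pos hx
  rw [Matrix.add_mulVec, dotProduct_add, hx0, dotProduct_zero, zero_add] at h1
  simp only [star_trivial] at h1
  rw [Matrix.mulVec_transpose, dotProduct_comm, ← Matrix.dotProduct_mulVec, hx0,
    dotProduct_zero] at h1
  exact lt_irrefl _ h1

theorem result (n m : ℕ) :
    (Matrix.of fun i j : Fin m =>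
        (-1 : ℤ) ^ ((i : ℕ) + (j : ℕ)) *
          (if (j : ℕ) ≤ (i : ℕ) then (Nat.choose (2 * n + 1) (n + 1 + ((i : ℕ) - (j : ℕ))) : ℤ)
            else (Nat.choose (2 * n + 1) (n + ((j : ℕ) - (i : ℕ))) : ℤ))).det ≠ 0 := by
  intro h0
  apply det_T_ne_zero n m
  have h1 := congrArg (Int.castRingHom ℝ) h0
  rw [RingHom.map_det, map_zero] at h1
  rw [← h1]
  congr 1
  ext i j
  simp only [T, Matrix.of_apply, RingHom.mapMatrix_apply, Matrix.map_apply]
  split_ifs <;> simp

end Groth.Agent.S19021
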