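import Groth.Statements.S19025
import Mathlib


set_option autoImplicit false
universe u
open HigherRestr

namespace Groth.Agent.S19025

/-- In abstract form, the estimate its proof establishes. Let S be a commutative ring, I an ideal of S,
g₀ and g₁ elements with g₁ - g₀ ∈ I, N a natural number and y a sequence in S such that, for 1 ≤ i ≤
N, the (N-i)-fold unit-step forward difference of y taken at i lies in I^(N-i). Then g₀^N times the
N-fold forward difference of y at 0, minus the N-fold forward difference at 0 of the twisted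
sequence j ↦ g₀^(N-j) g₁^j y_j, lies in I^N. (In the source S is the ring of functions on an affine
chart of X^n, I the ideal of a pairwise diagonal, g₀ and g₁ the two pullbacks of a transition unit
of L, and y_j the components x_λ along the compositions a₀^(N-j) a₁^j μ; the estimate is what makes
the higher order restrictions D^l_L well defined on ker D^(l-1)_L independently of the
trivialisation.) -/
theorem result
    (S : Type u) [CommRing S] (I : Ideal S) (g₀ g₁ : S) (hg : g₁ - g₀ ∈ I)
    (N : ℕ) (y : ℕ → S)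
    (hy : ∀ i : ℕ, 1 ≤ i → i ≤ N → (fwdDiff (1 : ℕ))^[N - i] y i ∈ I ^ (N - i)) :
    g₀ ^ N * (fwdDiff (1 : ℕ))^[N] y 0 -
        (fwdDiff (1 : ℕ))^[N] (fun j : ℕ => g₀ ^ (N - j) * g₁ ^ j * y j) 0 ∈ I ^ N := by
  classical
  let E : Module.End S (ℕ → S) :=
    { toFun := fun f x => f (x + 1), map_add' := fun _ _ => rfl, map_smul' := fun _ _ => rfl }
  let D : Module.End S (ℕ → S) := E - 1
  have hD : ∀ f : ℕ → S, fwdDiff (1 : ℕ) f = D f := by
    intro f; ext x; simp [D, E, fwdDiff]
  have hDn : ∀ (n : ℕ) (f : ℕ → S), (fwdDiff (1 : ℕ))^[n] f = (D ^ n) f := by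
    intro n
    induction n with
    | zero => intro f; simp
    | succ n ih =>
      intro f
      rw [Function.iterate_succ_apply', ih, hD, pow_succ', Module.End.mul_apply]
  have hE : ∀ (n : ℕ) (f : ℕ → S) (x : ℕ), (E ^ n) f x = f (x + n) := by
    intro n
    induction n with
    | zero => intro f x; simp
    | succ n ih =>
      intro f x
      rw [pow_succ, Module.End.mul_apply, ih]
      show f (x + n + 1) = _
      rw [add_assoc]
  set e := g₁ - g₀ with he
  let T : Module.End S (ℕ → S) := g₁ • E + (-g₀) • 1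
  have hT2 : T = e • E + g₀ • D := by
    ext f x
    simp only [T, D, E, he, LinearMap.add_apply, LinearMap.smul_apply, LinearMap.sub_apply,
      Module.End.one_apply, LinearMap.coe_mk, AddHom.coe_mk, Pi.add_apply, Pi.smul_apply,
      Pi.sub_apply, smul_eq_mul]
    ring
  have hc1 : Commute (g₁ • E) ((-g₀) • (1 : Module.End S (ℕ → S))) :=
    ((Commute.one_right E).smul_right (-g₀)).smul_left g₁
  have hc2 : Commute (e • E) (g₀ • D) :=
    (((Commute.refl E).sub_right (Commute.one_right E)).smul_right g₀).smul_left e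
  have h1 : (T ^ N) y 0 = ∑ j ∈ Finset.range (N + 1),
      (N.choose j : S) * (g₁ ^ j * ((-g₀) ^ (N - j) * y j)) := by
    have := congrFun (LinearMap.congr_fun (hc1.add_pow N) y) 0
    simp only [T]
    rw [this]
    simp only [LinearMap.sum_apply, Finset.sum_apply]
    refine Finset.sum_congr rfl (fun j _ => ?_)
    rw [← Nat.cast_comm]
    simp only [smul_pow, one_pow, Module.End.mul_apply, LinearMap.smul_apply, Module.End.one_apply,
      Module.End.natCast_apply, Pi.smul_apply, map_smul, hE, zero_add, smul_eq_mul, nsmul_eq_mul]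
    simp only [Pi.mul_apply, Pi.natCast_apply, hE, zero_add]
    ring
  have h2 : (T ^ N) y 0 = ∑ m ∈ Finset.range (N + 1),
      (N.choose m : S) * (e ^ m * (g₀ ^ (N - m) * (D ^ (N - m)) y m)) := by
    have := congrFun (LinearMap.congr_fun (hc2.add_pow N) y) 0
    rw [hT2, this]
    simp only [LinearMap.sum_apply, Finset.sum_apply]
    refine Finset.sum_congr rfl (fun j _ => ?_)
    rw [← Nat.cast_comm]
    simp only [smul_pow, Module.End.mul_apply, LinearMap.smul_apply,
      Module.End.natCast_apply, Pi.smul_apply, map_smul, hE, zero_add, smul_eq_mul, nsmul_eq_mul]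
    simp only [Pi.mul_apply, Pi.natCast_apply, hE, zero_add]
    ring
  have h3 : (fwdDiff (1 : ℕ))^[N] (fun j : ℕ => g₀ ^ (N - j) * g₁ ^ j * y j) 0 = (T ^ N) y 0 := by
    rw [h1, fwdDiff_iter_eq_sum_shift]
    refine Finset.sum_congr rfl (fun j _ => ?_)
    simp only [zero_add, smul_eq_mul, mul_one, zsmul_eq_mul, Int.cast_mul, Int.cast_pow,
      Int.cast_neg, Int.cast_one, Int.cast_natCast]
    rw [neg_pow g₀]
    ring
  rw [h3, h2, hDn, Finset.sum_range_succ']
  simp only [Nat.choose_zero_right, Nat.cast_one, pow_zero, one_mul, Nat.sub_zero]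
  rw [sub_add_cancel_right]
  refine neg_mem (Ideal.sum_mem _ (fun m hm => ?_))
  rw [Finset.mem_range] at hm
  have hmem : (D ^ (N - (m + 1))) y (m + 1) ∈ I ^ (N - (m + 1)) := by
    rw [← hDn]
    exact hy (m + 1) (by omega) (by omega)
  have : e ^ (m + 1) * (g₀ ^ (N - (m + 1)) * (D ^ (N - (m + 1))) y (m + 1)) ∈ I ^ N := by
    have hN : I ^ (m + 1) * I ^ (N - (m + 1)) = I ^ N := by
      rw [← pow_add]; congr 1; omega
    rw [← hN]
    exact Ideal.mul_mem_mul (Ideal.pow_mem_pow hg _) (Ideal.mul_mem_left _ _ hmem)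
  exact Ideal.mul_mem_left _ _ this


end Groth.Agent.S19025
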