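import Groth.Statements.S19035
import Mathlib


set_option autoImplicit false
universe u v w x
open CAlg

namespace Groth.Agent.S19035

/-- Let p be a prime and k a perfect field of characteristic p. Let (A_i) be a directed system of
finitely generated commutative k-algebras, indexed by a nonempty directed preorder, with compatible
k-algebra transition maps, and let B be a finitely generated k-algebra with compatible k-algebra
maps A_i → B which present B as the direct limit of the system (every element of B is the image of
an element of some A_i, and two elements of some A_i with the same image in B have the same image in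
some A_j). Then the p-typical Witt vectors commute with this direct limit: every Witt vector over B
is the image of a Witt vector over some A_i, and two Witt vectors over some A_i with the same image
over B already have the same image over some A_j. (Both finiteness hypotheses matter: for an
arbitrary filtered direct limit of commutative rings either assertion can fail.) -/
theorem result
    (p : ℕ) [Fact p.Prime] (k : Type u) [Field k] [CharP k p] [PerfectRing k p]
    {ι : Type v} [Preorder ι] [IsDirected ι (· ≤ ·)] [Nonempty ι]
    (A : ι → Type w) [∀ i, CommRing (A i)] [∀ i, Algebra k (A i)]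
    [∀ i, Algebra.FiniteType k (A i)]
    (f : ∀ i j, i ≤ j → (A i →ₐ[k] A j))
    (hf : ∀ i j l (hij : i ≤ j) (hjl : j ≤ l) (x : A i),
      f j l hjl (f i j hij x) = f i l (hij.trans hjl) x)
    (B : Type x) [CommRing B] [Algebra k B] [Algebra.FiniteType k B]
    (g : ∀ i, A i →ₐ[k] B)
    (hfg : ∀ i j (hij : i ≤ j) (x : A i), g j (f i j hij x) = g i x)
    (hsurj : ∀ b : B, ∃ i, ∃ x : A i, g i x = b)
    (hinj : ∀ i (x y : A i), g i x = g i y → ∃ j, ∃ hij : i ≤ j, f i j hij x = f i j hij y) :
    (∀ w : WittVector p B, ∃ i, ∃ v : WittVector p (A i),
        WittVector.map (g i).toRingHom v = w) ∧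
    (∀ i (v v' : WittVector p (A i)),
        WittVector.map (g i).toRingHom v = WittVector.map (g i).toRingHom v' →
        ∃ j, ∃ hij : i ≤ j,
          WittVector.map (f i j hij).toRingHom v = WittVector.map (f i j hij).toRingHom v') := by
  classical
  constructor
  · -- surjectivity
    obtain ⟨T, hT⟩ := (Algebra.FiniteType.out : (⊤ : Subalgebra k B).FG)
    choose ib xb hxb using hsurj
    obtain ⟨i0, hi0⟩ := Finset.exists_le (T.image ib)
    have hsurj0 : Function.Surjective (g i0) := by
      rw [← AlgHom.range_eq_top, eq_top_iff, ← hT, Algebra.adjoin_le_iff]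
      intro b hb
      have hle : ib b ≤ i0 := hi0 _ (Finset.mem_image_of_mem ib hb)
      exact ⟨f (ib b) i0 hle (xb b), by show g i0 (f (ib b) i0 hle (xb b)) = b; rw [hfg, hxb]⟩
    intro w
    choose v hv using fun n => hsurj0 (w.coeff n)
    refine ⟨i0, WittVector.mk p v, ?_⟩
    ext n
    rw [WittVector.map_coeff, WittVector.coeff_mk]
    exact hv n
  · intro i v v' hvv
    haveI : IsNoetherianRing (A i) := Algebra.FiniteType.isNoetherianRing k (A i)
    obtain ⟨S, hS⟩ := (isNoetherianRing_iff_ideal_fg (A i)).1 inferInstance (RingHom.ker (g i).toRingHom)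
    have hSker : ∀ x ∈ S, g i x = g i 0 := by
      intro x hx
      have : x ∈ RingHom.ker (g i).toRingHom := by rw [← hS]; exact Ideal.subset_span hx
      rw [map_zero]
      exact this
    choose! jx hjx using fun x (hx : x ∈ S) => hinj i x 0 (hSker x hx)
    obtain ⟨j0, hj0⟩ := Finset.exists_le (insert i (S.image jx))
    have hij0 : i ≤ j0 := hj0 i (Finset.mem_insert_self _ _)
    have hkill : RingHom.ker (g i).toRingHom ≤ RingHom.ker (f i j0 hij0).toRingHom := by
      rw [← hS, Ideal.span_le]
      intro x hx
      obtain ⟨hij, hx0⟩ := hjx x hx
      have hle : jx x ≤ j0 := hj0 _ (Finset.mem_insert_of_mem (Finset.mem_image_of_mem jx hx))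
      show f i j0 hij0 x = 0
      rw [← hf i (jx x) j0 hij hle x, hx0, map_zero, map_zero]
    refine ⟨j0, hij0, ?_⟩
    ext n
    rw [WittVector.map_coeff, WittVector.map_coeff]
    have hn := congrArg (fun w => w.coeff n) hvv
    simp only [WittVector.map_coeff] at hn
    have hmem : v.coeff n - v'.coeff n ∈ RingHom.ker (g i).toRingHom := by
      show (g i).toRingHom (v.coeff n - v'.coeff n) = 0
      rw [map_sub, hn, sub_self]
    have := hkill hmem
    have h0 : (f i j0 hij0).toRingHom (v.coeff n - v'.coeff n) = 0 := this
    rw [map_sub, sub_eq_zero] at h0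
    exact h0

end Groth.Agent.S19035
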