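import Groth.Statements.S19037
import Mathlib


set_option autoImplicit false
universe u v
open scoped Polynomial LaurentPolynomial
open Instab

namespace Groth.Agent.S19037

/-- Affine form over a ring R. Let A be a commutative ℤ-graded R-algebra and t an element of degree −1
(so A is a graded algebra over R[t] with t in degree −1), and let ψ : A[1/t] → R[T, T⁻¹] be an
R-algebra map sending t to T which is graded, in the sense that each homogeneous element of degree n
of A goes to an element of R times T^(−n). Then ψ is obtained by inverting t from an R-algebra map χ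
: A → R[T] (compared through the inclusion of R[T] in R[T, T⁻¹]) if and only if ψ kills t·a for
every homogeneous a of degree 1; such a χ is unique. (The source states this for quasi-coherent
graded algebras over an arbitrary base scheme; the statement is local on the base and is given here
over an affine base.) -/
theorem result
    {R : Type u} {A : Type v} [CommRing R] [CommRing A] [Algebra R A]
    (𝒜 : ℤ → Submodule R A) [GradedAlgebra 𝒜] (t : A) (ht : t ∈ 𝒜 (-1))
    (ψ : Localization.Away t →ₐ[R] R[T;T⁻¹])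
    (hψt : ψ (algebraMap A (Localization.Away t) t) = LaurentPolynomial.T 1)
    (hψ : ∀ (n : ℤ) (a : A), a ∈ 𝒜 n →
      ∃ r : R, ψ (algebraMap A (Localization.Away t) a) = LaurentPolynomial.C r * LaurentPolynomial.T (-n)) :
    (∃! χ : A →ₐ[R] R[X], ∀ a : A,
        ψ (algebraMap A (Localization.Away t) a) = Polynomial.toLaurentAlg (χ a)) ↔
      ∀ a ∈ 𝒜 1, ψ (algebraMap A (Localization.Away t) (t * a)) = 0 := by
  classical
  let φ : A →ₐ[R] R[T;T⁻¹] := ψ.comp (IsScalarTower.toAlgHom R A (Localization.Away t))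
  have hφ : ∀ a, φ a = ψ (algebraMap A (Localization.Away t) a) := fun a => rfl
  have hφt : φ t = LaurentPolynomial.T 1 := hψt
  have hinj : Function.Injective (Polynomial.toLaurentAlg : R[X] →ₐ[R] R[T;T⁻¹]) := by
    intro p q h
    exact Polynomial.toLaurent_injective h
  simp only [← hφ]
  constructor
  · rintro ⟨χ, hχ, -⟩ a ha
    obtain ⟨r, hr⟩ := hψ 1 a ha
    rw [← hφ] at hr
    have h1 : Polynomial.toLaurent (χ a) = LaurentPolynomial.C r * LaurentPolynomial.T (-1) := by
      rw [← hr, hχ a]; rfl
    have h2 := congrArg LaurentPolynomial.trunc h1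
    rw [Polynomial.trunc_toLaurent, LaurentPolynomial.trunc_C_mul_T] at h2
    simp only [Int.reduceNeg, Left.nonneg_neg_iff, Int.reduceLE, ↓reduceIte] at h2
    rw [map_mul, hχ a, h2]
    simp
  · intro h
    -- vanishing in positive degrees
    have hpos : ∀ (n : ℕ) (b : A), b ∈ 𝒜 ((n : ℤ) + 1) → φ b = 0 := by
      intro n b hb
      have h1 : t ^ n ∈ 𝒜 (n • (-1 : ℤ)) := SetLike.pow_mem_graded n ht
      have h2 : t ^ n * b ∈ 𝒜 (n • (-1 : ℤ) + ((n : ℤ) + 1)) := SetLike.mul_mem_graded h1 hb
      have h3 : t ^ n * b ∈ 𝒜 1 := by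
        convert h2 using 2
        simp
      have h4 := h _ h3
      rw [map_mul, map_mul, map_pow, hφt, ← mul_assoc, ← pow_succ'] at h4
      exact (LaurentPolynomial.isUnit_T (1 : ℤ)).pow (n + 1) |>.mul_right_eq_zero.mp h4
    have hrange : ∀ a : A, φ a ∈ (Polynomial.toLaurentAlg : R[X] →ₐ[R] R[T;T⁻¹]).range := by
      intro a
      rw [← DirectSum.sum_support_decompose 𝒜 a, map_sum]
      refine Subalgebra.sum_mem _ fun i _ => ?_
      have hb : ((DirectSum.decompose 𝒜 a i : 𝒜 i) : A) ∈ 𝒜 i := Submodule.coe_mem _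
      rcases le_or_gt i 0 with hi | hi
      · obtain ⟨r, hr⟩ := hψ i _ hb
        rw [← hφ] at hr
        rw [hr]
        obtain ⟨m, hm⟩ := Int.eq_ofNat_of_zero_le (by omega : 0 ≤ -i)
        refine ⟨Polynomial.monomial m r, ?_⟩
        rw [hm]
        exact Polynomial.toLaurent_C_mul_T m r
      · obtain ⟨m, hm⟩ := Int.eq_ofNat_of_zero_le (by omega : 0 ≤ i - 1)
        have hi' : i = (m : ℤ) + 1 := by omega
        rw [hpos m _ (hi' ▸ hb)]
        exact Subalgebra.zero_mem _
    let e := AlgEquiv.ofInjective (Polynomial.toLaurentAlg : R[X] →ₐ[R] R[T;T⁻¹]) hinj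
    let χ : A →ₐ[R] R[X] := (e.symm : _ →ₐ[R] R[X]).comp (φ.codRestrict _ hrange)
    have hχ : ∀ a, φ a = Polynomial.toLaurentAlg (χ a) := by
      intro a
      have : (e (χ a) : R[T;T⁻¹]) = φ a := by
        simp only [χ, AlgHom.comp_apply, AlgEquiv.coe_toAlgHom, AlgEquiv.apply_symm_apply]
        rfl
      rw [← this]; rfl
    refine ⟨χ, hχ, ?_⟩
    intro χ' hχ'
    ext a : 1
    apply hinj
    rw [← hχ a, ← hχ' a]

end Groth.Agent.S19037
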