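import Groth.Statements.S19042
import Mathlib
import Groth.Agent.Lib.Helper28.Gc
open Groth.Agent.Helper28.Gc

set_option autoImplicit false
universe u
open Dieu

namespace Groth.Agent.S19042

/-- Let `k` be a perfect field of characteristic `2` and `c` a natural number, and consider the explicit
`2c`-dimensional `k`-space on `X_1, …, X_c, Y_1, …, Y_c` with its operators `F` and `V` (`F Y_j =
0`; `F X_j = X_{j/2}` for `j` even and `Y_{c-(j-1)/2}` for `j` odd; `V Y_j = Y_{2j}` when `2j ≤ c`,
else `0`; `V X_j = Y_{2c-2j+1}` when `2j > c`, else `0`). The vectors `X_j` with `c < 2j ≤ 2c`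
generate it as a module over `k[F, V]`: a `k`-subspace stable under `F` and `V` containing them is
everything. (Stated over any perfect field of characteristic `2`; the source works over an
algebraically closed one.) -/
theorem result (c : ℕ) (k : Type u) [Field k] [CharP k 2] [PerfectRing k 2]
    (N : Submodule k (W4c6eohyperellchar2.GcMod c k))
    (hF : ∀ v ∈ N, W4c6eohyperellchar2.F c k v ∈ N) (hV : ∀ v ∈ N, W4c6eohyperellchar2.V c k v ∈ N)
    (hX : ∀ j : ℕ, c < 2 * j → j ≤ c → W4c6eohyperellchar2.X c k j ∈ N) : N = ⊤ := by
  have hXall : ∀ d j : ℕ, c - j ≤ d → 1 ≤ j → j ≤ c → W4c6eohyperellchar2.X c k j ∈ N := by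
    intro d
    induction d with
    | zero =>
      intro j hd h1 hc
      exact hX j (by omega) hc
    | succ d ih =>
      intro j hd h1 hc
      by_cases h : c < 2 * j
      · exact hX j h hc
      · have h2 : 2 * j ≤ c := by omega
        have := F_X_even c k (2 * j) ⟨j, by ring⟩ h2
        rw [show 2 * j / 2 = j by omega] at this
        rw [← this]
        exact hF _ (ih (2 * j) (by omega) (by omega) h2)
  have hXall' : ∀ j, 1 ≤ j → j ≤ c → W4c6eohyperellchar2.X c k j ∈ N :=
    fun j h1 hc => hXall c j (by omega) h1 hc
  have hYall : ∀ m d : ℕ, m ≤ d → 1 ≤ m → m ≤ c → W4c6eohyperellchar2.Y c k m ∈ N := by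
    intro m d
    induction d generalizing m with
    | zero => intro h0 h1; omega
    | succ d ih =>
      intro hd hm1 hmc
      rcases Nat.even_or_odd m with he | ho
      · obtain ⟨t, rfl⟩ := he
        have := V_Y c k t
        rw [show 2 * t = t + t by ring] at this
        rw [← this]
        exact hV _ (ih t (by omega) (by omega) (by omega))
      · obtain ⟨t, rfl⟩ := ho
        have := V_X c k (c - t) (by omega) (by omega)
        rw [show 2 * c - 2 * (c - t) + 1 = 2 * t + 1 by omega] at this
        rw [← this]
        exact hV _ (hXall' _ (by omega) (by omega))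
  exact eq_top_of_XY_mem c k N hXall' (fun m h1 hc => hYall m m le_rfl h1 hc)

end Groth.Agent.S19042
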