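import Groth.Statements.S19043
import Mathlib
import Groth.Agent.Lib.Helper28.Gc
open Groth.Agent.Helper28.Gc

set_option autoImplicit false
universe u
open Dieu

namespace Groth.Agent.S19043

/-- Let `k` be a perfect field of characteristic `2` and `c` a natural number, and let `M` be the
explicit `2c`-dimensional `k`-space on `X_1, …, X_c, Y_1, …, Y_c` with its operators `F` and `V` (`F
Y_j = 0`; `F X_j = X_{j/2}` for `j` even and `Y_{c-(j-1)/2}` for `j` odd; `V Y_j = Y_{2j}` when `2j
≤ c`, else `0`; `V X_j = Y_{2c-2j+1}` when `2j > c`, else `0`). The classes of the `X_j` with `c <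
2j ≤ 2c` in the quotient of `M` by the `k`-span of `F(M) ∪ V(M)` are linearly independent and span
that quotient. (Stated over any perfect field of characteristic `2`; the source works over an
algebraically closed one.) -/
theorem result (c : ℕ) (k : Type u) [Field k] [CharP k 2] [PerfectRing k 2] :
    LinearIndependent k (fun j : {j : ℕ // c < 2 * j ∧ j ≤ c} =>
        Submodule.mkQ (Submodule.span k (Set.range (W4c6eohyperellchar2.F c k) ∪ Set.range (W4c6eohyperellchar2.V c k))) (W4c6eohyperellchar2.X c k j.1)) ∧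
      Submodule.span k (Set.range (fun j : {j : ℕ // c < 2 * j ∧ j ≤ c} =>
        Submodule.mkQ (Submodule.span k (Set.range (W4c6eohyperellchar2.F c k) ∪ Set.range (W4c6eohyperellchar2.V c k))) (W4c6eohyperellchar2.X c k j.1))) = ⊤ := by
  classical
  set S := Submodule.span k (Set.range (W4c6eohyperellchar2.F c k) ∪ Set.range (W4c6eohyperellchar2.V c k)) with hS
  have hYS : ∀ m, 1 ≤ m → m ≤ c → W4c6eohyperellchar2.Y c k m ∈ S :=
    Y_mem_of_V_stable c k S (fun v => Submodule.subset_span (Or.inr ⟨v, rfl⟩))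
  have hXS : ∀ j, 1 ≤ j → 2 * j ≤ c → W4c6eohyperellchar2.X c k j ∈ S := by
    intro j h1 h2
    have := F_X_even c k (2 * j) ⟨j, by ring⟩ h2
    rw [show 2 * j / 2 = j by omega] at this
    rw [← this]
    exact Submodule.subset_span (Or.inl ⟨_, rfl⟩)
  let φ : W4c6eohyperellchar2.GcMod c k →ₗ[k] ({j : ℕ // c < 2 * j ∧ j ≤ c} → k) :=
    LinearMap.pi (fun j => (LinearMap.proj (⟨j.1 - 1, by have := j.2; omega⟩ : Fin c)) ∘ₗ
      (LinearMap.fst k (Fin c → k) (Fin c → k)))
  have hφS : S ≤ LinearMap.ker φ := by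
    rw [hS, Submodule.span_le]
    rintro _ (⟨v, rfl⟩ | ⟨v, rfl⟩)
    · simp only [SetLike.mem_coe, LinearMap.mem_ker]
      funext j
      show (W4c6eohyperellchar2.F c k v).1 ⟨j.1 - 1, _⟩ = 0
      simp only [W4c6eohyperellchar2.F, W4c6eohyperellchar2.coefX]
      rw [dif_neg]
      · simp
      · have := j.2; omega
    · simp only [SetLike.mem_coe, LinearMap.mem_ker]
      funext j
      rfl
  have hφX : ∀ j j' : {j : ℕ // c < 2 * j ∧ j ≤ c},
      φ (W4c6eohyperellchar2.X c k j.1) j' = if j' = j then 1 else 0 := by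
    intro j j'
    show (if (j'.1 - 1) + 1 = j.1 then (1:k) else 0) = _
    have := j'.2
    have := j.2
    by_cases h : j' = j
    · subst h
      rw [if_pos (by omega), if_pos rfl]
    · rw [if_neg h, if_neg]
      intro h'
      exact h (Subtype.ext (by omega))
  refine ⟨?_, ?_⟩
  · rw [linearIndependent_iff']
    intro s g hg j0 hj0
    have h1 : (∑ j ∈ s, g j • W4c6eohyperellchar2.X c k j.1) ∈ S := by
      rw [← Submodule.Quotient.mk_eq_zero, ← Submodule.mkQ_apply, map_sum]
      simpa using hg
    have h2 := hφS h1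
    rw [LinearMap.mem_ker, map_sum] at h2
    have h3 := congrFun h2 j0
    simp only [map_smul, Finset.sum_apply, Pi.smul_apply, hφX, smul_eq_mul, mul_ite, mul_one,
      mul_zero, Pi.zero_apply] at h3
    rw [Finset.sum_eq_single j0] at h3
    · simpa using h3
    · intro b _ hb
      rw [if_neg (Ne.symm hb)]
    · intro h; exact absurd hj0 h
  · have hr : Set.range (fun j : {j : ℕ // c < 2 * j ∧ j ≤ c} => S.mkQ (W4c6eohyperellchar2.X c k j.1)) =
        S.mkQ '' Set.range (fun j : {j : ℕ // c < 2 * j ∧ j ≤ c} => W4c6eohyperellchar2.X c k j.1) := by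
      rw [← Set.range_comp]
      rfl
    rw [hr, ← Submodule.map_span, Submodule.map_mkQ_eq_top]
    apply eq_top_of_XY_mem c k
    · intro j h1 hc
      by_cases h : c < 2 * j
      · exact Submodule.mem_sup_right (Submodule.subset_span ⟨⟨j, h, hc⟩, rfl⟩)
      · exact Submodule.mem_sup_left (hXS j h1 (by omega))
    · intro m h1 hc
      exact Submodule.mem_sup_left (hYS m h1 hc)

end Groth.Agent.S19043
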