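import Groth.Statements.S19092
import Mathlib

set_option autoImplicit false
universe u
open FrobAlg

namespace Groth.Agent.S19092

/-- Let p be a prime and A a commutative ring of characteristic p whose absolute Frobenius a ↦ a^p is a
finite ring homomorphism. Then the same holds for every quotient and every localization of A: for
every ideal I of A such that A ⧸ I has characteristic p (every proper ideal) the absolute Frobenius
of A ⧸ I is finite, and for every submonoid S of A and every localization B of A at S of
characteristic p (every nonzero localization) the absolute Frobenius of B is finite. -/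
theorem result (p : ℕ) [Fact p.Prime]
    (A : Type u) [CommRing A] [CharP A p] (hF : (frobenius A p).Finite) :
    (∀ (I : Ideal A) [CharP (A ⧸ I) p], (frobenius (A ⧸ I) p).Finite) ∧
      ∀ (S : Submonoid A) (B : Type u) [CommRing B] [Algebra A B] [IsLocalization S B] [CharP B p],
        (frobenius B p).Finite := by
  constructor
  · intro I _
    have h1 : ((frobenius (A ⧸ I) p).comp (Ideal.Quotient.mk I)).Finite := by
      have : (frobenius (A ⧸ I) p).comp (Ideal.Quotient.mk I) =
          (Ideal.Quotient.mk I).comp (frobenius A p) := by
        ext a; simp [frobenius_def]
      rw [this]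
      exact RingHom.Finite.comp (RingHom.Finite.of_surjective _ Ideal.Quotient.mk_surjective) hF
    exact RingHom.Finite.of_comp_finite h1
  · intro S B _ _ _ _
    have hppos : 0 < p := (Fact.out : p.Prime).pos
    have hloc : IsLocalization (S.map (frobenius A p)) B := by
      rw [isLocalization_iff]
      refine ⟨?_, ?_, ?_⟩
      · rintro ⟨_, s, hs, rfl⟩
        simp only [frobenius_def, map_pow]
        exact (IsLocalization.map_units B ⟨s, hs⟩).pow p
      · intro z
        obtain ⟨⟨x, s⟩, hx⟩ := IsLocalization.surj S z
        refine ⟨(x * (s : A) ^ (p - 1), ⟨(s : A) ^ p, (s : A), s.2, rfl⟩), ?_⟩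
        simp only [map_mul, map_pow]
        simp only at hx
        rw [← hx]
        have : (algebraMap A B (s : A)) ^ p = algebraMap A B (s : A) * (algebraMap A B (s : A)) ^ (p - 1) := by
          rw [← pow_succ']; congr 1; omega
        rw [this]; ring
      · intro x y hxy
        obtain ⟨c, hc⟩ := IsLocalization.exists_of_eq (M := S) hxy
        refine ⟨⟨(c : A) ^ p, (c : A), c.2, rfl⟩, ?_⟩
        simp only
        have : (c : A) ^ p = (c : A) ^ (p - 1) * (c : A) := by
          rw [← pow_succ]; congr 1; omega
        rw [this, mul_assoc, mul_assoc, hc]
    have h := RingHom.finite_localizationPreserves (frobenius A p) S B B hF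
    have heq : frobenius B p = IsLocalization.map B (frobenius A p) (Submonoid.le_comap_map S) := by
      apply IsLocalization.ringHom_ext S
      ext a
      simp [IsLocalization.map_eq, frobenius_def]
    rw [heq]
    exact h

end Groth.Agent.S19092
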