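import Groth.Statements.S19099
import Groth.Agent.Lib.Helper18.BalFix

set_option autoImplicit false
universe u
open CategoryTheory MonoidalCategory CartesianMonoidalCategory MonObj AlgebraicGeometry
open ChGrp

namespace Groth.Agent.S19099

/-- Let S be a scheme, i : G → Q a monomorphic homomorphism of S-group schemes (a closed subgroup), h an
S-point of G whose image in Q is central, and X an S-scheme with a G-action a. Let incl : X^h → X be
a monomorphism whose points are the points of X fixed by h, with a G-action making incl equivariant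
(X^h is G-stable since h is central in G). Let Y with its Q-action and j : Q ×_S X → Y be the
balanced product Q ×^G X for the fppf topology, Y' with j' : Q ×_S X^h → Y' the balanced product Q
×^G X^h, and m : Y' → Y the morphism under which j' followed by m is Q × incl followed by j. Then m
is a monomorphism, a point of Y factors through m exactly when it is fixed by h acting on Y through
the Q-action, and m is a closed immersion if incl is one: Q ×^G X^h is the fixed locus of h in Q ×^G
X. (The source states this for a smooth algebraic space X of finite type over the complex numbers,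
as an equality of closed subspaces, and argues on closed points; the form here is the one its
computation gives for the fppf quotients over any base, with X a scheme.) -/
theorem result
    {S : Scheme.{u}} {Q G X Xh Y Y' : Over S} [GrpObj Q] [GrpObj G]
    (i : G ⟶ Q) [IsMonHom i] [Mono i]
    (h : 𝟙_ (Over S) ⟶ G)
    (hcent : ∀ (T : Over S) (q : T ⟶ Q), q * (toUnit T ≫ h ≫ i) = (toUnit T ≫ h ≫ i) * q)
    (a : AlgGrp.Action G X)
    (incl : Xh ⟶ X) [Mono incl]
    (hXh : ∀ (T : Over S) (x : T ⟶ X), (∃ y : T ⟶ Xh, y ≫ incl = x) ↔ lift (toUnit T ≫ h) x ≫ a.act = x)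
    (aXh : AlgGrp.Action G Xh) (hincl : AlgGrp.Action.IsEquivariant aXh a incl)
    (aY : AlgGrp.Action Q Y) (j : Q ⊗ X ⟶ Y) (hY : ChGrp.IsBalProd Scheme.fppfPrecoverage i a aY j)
    (aY' : AlgGrp.Action Q Y') (j' : Q ⊗ Xh ⟶ Y') (hY' : ChGrp.IsBalProd Scheme.fppfPrecoverage i aXh aY' j')
    (m : Y' ⟶ Y) (hm : j' ≫ m = (Q ◁ incl) ≫ j) :
    Mono m ∧
      (∀ (T : Over S) (y : T ⟶ Y), (∃ y' : T ⟶ Y', y' ≫ m = y) ↔ lift (toUnit T ≫ h ≫ i) y ≫ aY.act = y) ∧
      (IsClosedImmersion incl.left → IsClosedImmersion m.left) := by
  have hK : Scheme.fppfPrecoverage.{u} ≤ Scheme.fpqcPrecoverage := Scheme.fppfPrecoverage_le_fpqcPrecoverage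
  refine ⟨Groth.Agent.Helper18.BalFix.mono_m Scheme.fppfPrecoverage i a incl aXh hincl aY j hY aY' j' hY' m hm,
    fun T y => ⟨?_, ?_⟩, fun hcl => ?_⟩
  · rintro ⟨y', hy'⟩
    exact Groth.Agent.Helper18.BalFix.fixed_of_factors Scheme.fppfPrecoverage i h hcent a incl hXh aXh aY j hY
      aY' j' hY' m hm y y' hy'
  · intro hy
    exact Groth.Agent.Helper18.BalFix.factors_of_fixed Scheme.fppfPrecoverage i h hcent a incl hXh aXh hincl aY j hY
      aY' j' hY' m hm y hy
  · have sq := Groth.Agent.Helper18.BalFix.isPullback_jm Scheme.fppfPrecoverage i h hcent a incl hXh aXh hincl aY j hY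
      aY' j' hY' m hm
    have h1 : IsClosedImmersion (Q ◁ incl).left :=
      MorphismProperty.of_isPullback (P := @IsClosedImmersion)
        ((Groth.Agent.Helper18.BalFix.isPullback_whiskerLeft_snd (Q := Q) incl).map (Over.forget S)).flip hcl
    exact Groth.Agent.Helper18.BalFix.prop_of_sq_loc Scheme.fppfPrecoverage @IsClosedImmersion hK sq hY.2.2 h1

end Groth.Agent.S19099
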