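import Groth.Statements.S19101
import Groth.Agent.Lib.Helper18.TorsOm
import Groth.Agent.Lib.Helper18.CnBC

set_option autoImplicit false
open CategoryTheory MonoidalCategory CartesianMonoidalCategory MonObj AlgebraicGeometry Limits
open Omega

namespace Groth.Agent.S19101

/-- Over S = Spec ℂ let G be an affine group scheme of finite type, Y a scheme over ℂ, and X a scheme
over Y carrying an action, over Y, of the base change G_Y of G to Y which makes X an fppf torsor
under G over Y. Let g : X ×_Y X → G be the morphism determined by g(h x, x) = h, i.e. the composite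
of the inverse of the isomorphism G_Y ×_Y X → X ×_Y X, (h, x) ↦ (h x, x), with the projection to G;
the diagonal X → X ×_Y X and the unit section Spec ℂ → G then form a commutative (indeed cartesian)
square with g and X → Spec ℂ. Then there is a map of conormal sheaves for this square, from the
pullback to X of the conormal sheaf m_e/m_e² of the unit section (the trivial bundle with fibre the
dual of the Lie algebra 𝔤) to the conormal sheaf of the diagonal, which is the sheaf of relative
differentials Ω_{X/Y}, characterised by sending the class of a local equation of the unit section to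
the class of its pullback under g, and this map is an isomorphism: Ω_{X/Y} ≅ O_X ⊗ 𝔤^∨ canonically.
(The source states the dual form T_f = X × 𝔤 for algebraic spaces and moreover as G-equivariant
bundles for the adjoint action; the equivariance is not expressed here, and X, Y are schemes.) -/
theorem result
    {G Y : Over (Spec (CommRingCat.of ℂ))} [GrpObj G] [IsAffine G.left] [LocallyOfFiniteType G.hom]
    {X : Over Y.left} (a : AlgGrp.Action (Red.bc Y.hom G) X)
    (hX : NonAbH1.IsTorsorFor Scheme.fppfPrecoverage a)
    (g : pullback X.hom X.hom ⟶ G.left)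
    (hg : (lift a.act (snd (Red.bc Y.hom G) X)).left ≫ g =
      (fst (Red.bc Y.hom G) X).left ≫ pullback.fst G.hom Y.hom) :
    ∃ φ : (Scheme.Modules.pullback (toUnit (Over.mk (X.hom ≫ Y.hom) : Over (Spec (CommRingCat.of ℂ)))).left).obj
        (Omega.conormal (η[G]).left) ⟶ Omega.conormal (pullback.diagonal X.hom),
      OmegaSh.IsConormalMap (pullback.diagonal X.hom) (η[G]).left g
        (toUnit (Over.mk (X.hom ≫ Y.hom) : Over (Spec (CommRingCat.of ℂ)))).left φ ∧ IsIso φ := by
  obtain ⟨hΨ, -⟩ := hX
  have hpb := Groth.Agent.Helper18.TorsOm.isPullback_diag a hΨ g hg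
  haveI : Flat (X.hom ≫ Y.hom) := inferInstance
  have hfl := Groth.Agent.Helper18.TorsOm.flat_g a hΨ g hg
  haveI : IsSeparated G.hom := inferInstance
  haveI : IsClosedImmersion η[G].left := (Groth.Agent.Helper18.GrpSchOm.isSeparated_iff G).1 inferInstance
  haveI : IsClosedImmersion (pullback.diagonal X.hom) :=
    MorphismProperty.of_isPullback (P := @IsClosedImmersion) hpb.flip
      (inferInstance : IsClosedImmersion η[G].left)
  have hpb' : IsPullback (pullback.diagonal X.hom)
      (toUnit (Over.mk (X.hom ≫ Y.hom) : Over (Spec (CommRingCat.of ℂ)))).left g η[G].left := hpb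
  refine ⟨Groth.Agent.Helper18.CnMap.cnMap _ _ g _ hpb'.w.symm,
    Groth.Agent.Helper18.CnMap.isConormalMap_cnMap _ _ g _ hpb'.w.symm, ?_⟩
  exact (Groth.Agent.Helper18.CnBC.main _ _ g _ hpb' _
    (Groth.Agent.Helper18.CnMap.isConormalMap_cnMap _ _ g _ hpb'.w.symm)).2 hfl

end Groth.Agent.S19101
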