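import Groth.Statements.S19106
import Mathlib

set_option autoImplicit false
open HilbD

namespace Groth.Agent.S19106

theorem card_shift (μ : YoungDiagram) (a b : ℕ) :
    (μ.cells.filter (fun c => (c.1 + a, c.2 + b) ∈ μ)).card =
      (μ.cells.filter (fun c => a ≤ c.1 ∧ b ≤ c.2)).card := by
  apply Finset.card_bij (fun c _ => (c.1 + a, c.2 + b))
  · intro c hc
    rw [Finset.mem_filter] at hc ⊢
    exact ⟨(YoungDiagram.mem_cells _).2 hc.2, Nat.le_add_left _ _, Nat.le_add_left _ _⟩
  · intro c₁ _ c₂ _ h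
    simp only [Prod.mk.injEq, add_left_inj] at h
    exact Prod.ext h.1 h.2
  · intro c hc
    rw [Finset.mem_filter] at hc
    obtain ⟨hc1, ha, hb⟩ := hc
    refine ⟨(c.1 - a, c.2 - b), ?_, ?_⟩
    · rw [Finset.mem_filter]
      have e1 : c.1 - a + a = c.1 := Nat.sub_add_cancel ha
      have e2 : c.2 - b + b = c.2 := Nat.sub_add_cancel hb
      refine ⟨?_, ?_⟩
      · rw [YoungDiagram.mem_cells]
        exact μ.up_left_mem (Nat.sub_le _ _) (Nat.sub_le _ _) ((YoungDiagram.mem_cells _).1 hc1)
      · simp only [e1, e2]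
        exact (YoungDiagram.mem_cells _).1 hc1
    · simp only [Nat.sub_add_cancel ha, Nat.sub_add_cancel hb]

/-- Let μ be a non-empty Young diagram, V the number of its cells, E the number of unordered pairs of
cells sharing a side (a cell together with the cell immediately below it, or immediately to its
right, both in μ) and Q the number of 2 × 2 blocks of cells of μ (cells c such that the cell
diagonally below-right of c is in μ, the other two corners being in μ automatically). Then V − E + Q
− 1 = 0, stated as V + Q = E + 1 in the naturals. (The empty diagram, for which the count reads 0 −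
0 + 0 − 1, is excluded.) -/
theorem result (μ : YoungDiagram) (hμ : μ ≠ ⊥) :
    μ.cells.card + (μ.cells.filter (fun c => (c.1 + 1, c.2 + 1) ∈ μ)).card =
      (μ.cells.filter (fun c => (c.1 + 1, c.2) ∈ μ)).card + (μ.cells.filter (fun c => (c.1, c.2 + 1) ∈ μ)).card + 1 := by
  have h11 := card_shift μ 1 1
  have h10 := card_shift μ 1 0
  have h01 := card_shift μ 0 1
  simp only [add_zero, Nat.zero_le, true_and, and_true] at h11 h10 h01
  rw [h11, h10, h01]
  -- (0,0) ∈ μ
  have h00 : ((0, 0) : ℕ × ℕ) ∈ μ := by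
    have hne : μ.cells.Nonempty := by
      rw [Finset.nonempty_iff_ne_empty]
      intro h
      apply hμ
      have : μ.cells = (⊥ : YoungDiagram).cells := by rw [h, YoungDiagram.cells_bot]
      exact YoungDiagram.ext this
    obtain ⟨c, hc⟩ := hne
    exact μ.up_left_mem (Nat.zero_le _) (Nat.zero_le _) ((YoungDiagram.mem_cells _).1 hc)
  -- splittings
  have s1 : μ.cells.card = (μ.cells.filter (fun c => 1 ≤ c.1)).card +
      (μ.cells.filter (fun c => ¬ 1 ≤ c.1)).card :=
    (Finset.card_filter_add_card_filter_not (s := μ.cells) (fun c => 1 ≤ c.1)).symm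
  have s2 : (μ.cells.filter (fun c => 1 ≤ c.2)).card =
      ((μ.cells.filter (fun c => 1 ≤ c.2)).filter (fun c => 1 ≤ c.1)).card +
      ((μ.cells.filter (fun c => 1 ≤ c.2)).filter (fun c => ¬ 1 ≤ c.1)).card :=
    (Finset.card_filter_add_card_filter_not (s := μ.cells.filter (fun c => 1 ≤ c.2)) (fun c => 1 ≤ c.1)).symm
  have s3 : (μ.cells.filter (fun c => ¬ 1 ≤ c.1)).card =
      ((μ.cells.filter (fun c => ¬ 1 ≤ c.1)).filter (fun c => 1 ≤ c.2)).card +
      ((μ.cells.filter (fun c => ¬ 1 ≤ c.1)).filter (fun c => ¬ 1 ≤ c.2)).card :=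
    (Finset.card_filter_add_card_filter_not (s := μ.cells.filter (fun c => ¬ 1 ≤ c.1)) (fun c => 1 ≤ c.2)).symm
  have e1 : (μ.cells.filter (fun c => 1 ≤ c.2)).filter (fun c => 1 ≤ c.1) =
      μ.cells.filter (fun c => 1 ≤ c.1 ∧ 1 ≤ c.2) := by
    rw [Finset.filter_filter]; congr 1; ext c; exact and_comm
  have e2 : (μ.cells.filter (fun c => 1 ≤ c.2)).filter (fun c => ¬ 1 ≤ c.1) =
      (μ.cells.filter (fun c => ¬ 1 ≤ c.1)).filter (fun c => 1 ≤ c.2) := by
    rw [Finset.filter_filter, Finset.filter_filter]; congr 1; ext c; exact and_comm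
  have e3 : (μ.cells.filter (fun c => ¬ 1 ≤ c.1)).filter (fun c => ¬ 1 ≤ c.2) = {((0, 0) : ℕ × ℕ)} := by
    ext c
    simp only [Finset.mem_filter, Finset.mem_singleton, YoungDiagram.mem_cells]
    constructor
    · rintro ⟨⟨_, h1⟩, h2⟩
      ext <;> simp <;> omega
    · rintro rfl
      exact ⟨⟨h00, by simp⟩, by simp⟩
  rw [e1, e2] at s2
  rw [e3, Finset.card_singleton] at s3
  omega

end Groth.Agent.S19106
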