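import Groth.Statements.S19131
import Mathlib

set_option autoImplicit false
universe v u v' u'
open CategoryTheory CategoryTheory.Limits CategoryTheory.Pretriangulated CategoryTheory.Triangulated
open PervT
open ZeroObject

namespace Groth.Agent.S19131

section A

variable {C : Type u} [Category.{v} C] [Preadditive C] [HasZeroObject C] [HasShift C ℤ]
  [∀ n : ℤ, (shiftFunctor C n).Additive] [Pretriangulated C] [IsTriangulated C]
  (t : TStructure C) (D : ObjectProperty C) [D.IsTriangulated] [D.IsClosedUnderIsomorphisms]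

lemma D_truncLT_aux (h1 : ∀ X : C, D X → ∀ n : ℤ, D ((t.truncGELE n n).obj X))
    (N : C) (hN : D N) (b : ℤ) [t.IsLE N b] :
    ∀ (k : ℕ) (m : ℤ), b + 1 - m ≤ k → D ((t.truncLT m).obj N) := by
  intro k
  induction k with
  | zero =>
    intro m hm
    have : t.IsLE N (m - 1) := t.isLE_of_le N b (m - 1) (by simp at hm; lia)
    have : IsIso ((t.truncLTι m).app N) :=
      (t.isLE_iff_isIso_truncLTι_app (m - 1) m (by lia) N).1 inferInstance
    exact D.prop_of_iso (asIso ((t.truncLTι m).app N)).symm hN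
  | succ k ih =>
    intro m hm
    have h' : D ((t.truncLT (m + 1)).obj N) := ih (m + 1) (by push_cast at hm ⊢; lia)
    have hle : m ≤ m + 1 := by lia
    have hT := t.triangleLTLTGELT_distinguished m (m + 1) hle N
    have h3 : D ((t.triangleLTLTGELT m (m + 1) hle).obj N).obj₃ := h1 N hN m
    have h2 : D ((t.triangleLTLTGELT m (m + 1) hle).obj N).obj₂ := h'
    exact D.ext_of_isTriangulatedClosed₁ ((t.triangleLTLTGELT m (m + 1) hle).obj N) hT h2 h3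


lemma D_truncLT (h1 : ∀ X : C, D X → ∀ n : ℤ, D ((t.truncGELE n n).obj X))
    (N : C) (hN : D N) (hb : t.bounded N) (m : ℤ) : D ((t.truncLT m).obj N) := by
  obtain ⟨-, ⟨b, hb⟩⟩ := hb
  exact D_truncLT_aux t D h1 N hN b (b + 1 - m).toNat m (Int.self_le_toNat _)

lemma D_truncGE (h1 : ∀ X : C, D X → ∀ n : ℤ, D ((t.truncGELE n n).obj X))
    (N : C) (hN : D N) (hb : t.bounded N) (m : ℤ) : D ((t.truncGE m).obj N) :=
  D.ext_of_isTriangulatedClosed₃ ((t.triangleLTGE m).obj N) (t.triangleLTGE_distinguished m N)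
    (D_truncLT t D h1 N hN hb m) hN

omit [D.IsTriangulated] [D.IsClosedUnderIsomorphisms] in
lemma oct {X₁ X₂ X₃ Z₁₂ Z₂₃ Z₁₃ : C}
    {u₁₂ : X₁ ⟶ X₂} {u₂₃ : X₂ ⟶ X₃} {u₁₃ : X₁ ⟶ X₃} (comm : u₁₂ ≫ u₂₃ = u₁₃)
    {v₁₂ : X₂ ⟶ Z₁₂} {w₁₂ : Z₁₂ ⟶ X₁⟦(1 : ℤ)⟧} (h₁₂ : Triangle.mk u₁₂ v₁₂ w₁₂ ∈ distTriang C)
    {v₂₃ : X₃ ⟶ Z₂₃} {w₂₃ : Z₂₃ ⟶ X₂⟦(1 : ℤ)⟧} (h₂₃ : Triangle.mk u₂₃ v₂₃ w₂₃ ∈ distTriang C)
    {v₁₃ : X₃ ⟶ Z₁₃} {w₁₃ : Z₁₃ ⟶ X₁⟦(1 : ℤ)⟧} (h₁₃ : Triangle.mk u₁₃ v₁₃ w₁₃ ∈ distTriang C) :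
    ∃ (m₁ : Z₁₂ ⟶ Z₁₃) (m₃ : Z₁₃ ⟶ Z₂₃) (δ : Z₂₃ ⟶ Z₁₂⟦(1 : ℤ)⟧),
      Triangle.mk m₁ m₃ δ ∈ distTriang C :=
  let H := someOctahedron comm h₁₂ h₂₃ h₁₃
  ⟨H.m₁, H.m₃, _, H.mem⟩

lemma key (h1 : ∀ X : C, D X → ∀ n : ℤ, D ((t.truncGELE n n).obj X))
    (h2 : ∀ (X Y Z : C) (f : X ⟶ Y) (g : Y ⟶ Z) (h : Z ⟶ X⟦(1 : ℤ)⟧),
      Triangle.mk f g h ∈ distTriang C → t.heart X → t.heart Y → t.heart Z → D Y → D X ∧ D Z)
    (hb : ∀ X : C, t.bounded X)
    {N' X' X : C} (u : N' ⟶ X') (s : X' ⟶ X) (w : X ⟶ N'⟦(1 : ℤ)⟧)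
    (hT : Triangle.mk u s w ∈ distTriang C) (hN' : D N') [t.IsLE X 0] :
    D ((t.truncGE 1).obj X') := by
  let W := (t.truncGE 1).obj X'
  let π : X' ⟶ W := (t.truncGEπ 1).app X'
  let L := (t.truncLT 1).obj X'
  have hT1 : Triangle.mk ((t.truncLTι 1).app X') π ((t.truncGEδLT 1).app X') ∈ distTriang C :=
    t.triangleLTGE_distinguished 1 X'
  have hT1r := rot_of_distTriang _ hT1
  obtain ⟨M, a, b, hM⟩ := distinguished_cocone_triangle (u ≫ π)
  obtain ⟨m₁, m₃, δ₁, hO1⟩ := oct (rfl : u ≫ π = u ≫ π) hT hT1r hM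
  have hL0 : t.IsLE L 0 := t.isLE_truncLT_obj X' 1 0
  have hL1 : t.IsLE (L⟦(1 : ℤ)⟧) 0 := by
    have := t.isLE_shift L 0 1 (-1)
    exact t.isLE_of_le _ (-1) 0
  have hM0 : t.IsLE M 0 := t.isLE₂ _ hO1 0 ‹t.IsLE X 0› hL1
  -- Step 2
  let P := (t.truncGE 1).obj N'
  have hP : D P := D_truncGE t D h1 N' hN' (hb N') 1
  let p : N' ⟶ P := (t.truncGEπ 1).app N'
  let v : P ⟶ W := t.descTruncGE (u ≫ π) 1
  have hpv : p ≫ v = u ≫ π := t.π_descTruncGE (u ≫ π) 1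
  have hT2 : Triangle.mk ((t.truncLTι 1).app N') p ((t.truncGEδLT 1).app N') ∈ distTriang C :=
    t.triangleLTGE_distinguished 1 N'
  have hT2r := rot_of_distTriang _ hT2
  obtain ⟨R, c, r, hR⟩ := distinguished_cocone_triangle v
  obtain ⟨n₁, n₃, δ₂, hO2⟩ := oct hpv hT2r hR hM
  have hL'0 : t.IsLE ((t.truncLT 1).obj N') 0 := t.isLE_truncLT_obj N' 1 0
  have hL'2 : t.IsLE (((t.truncLT 1).obj N')⟦(1 : ℤ)⟧⟦(1 : ℤ)⟧) 0 := by
    have := t.isLE_shift ((t.truncLT 1).obj N') 0 1 (-1)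
    have := t.isLE_shift (((t.truncLT 1).obj N')⟦(1 : ℤ)⟧) (-1) 1 (-2)
    exact t.isLE_of_le _ (-2) 0
  have hR0 : t.IsLE R 0 := t.isLE₂ _ (rot_of_distTriang _ hO2) 0 hM0 hL'2
  have hW1 : t.IsGE W 1 := inferInstance
  have hW0 : t.IsGE W 0 := t.isGE_of_ge W 0 1
  have hP1' : t.IsGE (P⟦(1 : ℤ)⟧) 0 := t.isGE_shift P 1 1 0
  have hR0' : t.IsGE R 0 := t.isGE₂ _ (rot_of_distTriang _ hR) 0 hW0 hP1'
  -- Step 3
  let P1 := P⟦(1 : ℤ)⟧
  have hP1 : D P1 := D.le_shift 1 _ hP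
  let H := (t.truncLT 1).obj P1
  have hH : D H := D_truncLT t D h1 P1 hP1 (hb P1) 1
  have hH0 : t.IsLE H 0 := t.isLE_truncLT_obj P1 1 0
  have hH0' : t.IsGE H 0 := inferInstance
  let ι : H ⟶ P1 := (t.truncLTι 1).app P1
  let r' : R ⟶ H := t.liftTruncLT r 0 1 (by lia)
  have hr' : r' ≫ ι = r := t.liftTruncLT_ι r 0 1 (by lia)
  have hT3 : Triangle.mk ι ((t.truncGEπ 1).app P1) ((t.truncGEδLT 1).app P1) ∈ distTriang C :=
    t.triangleLTGE_distinguished 1 P1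
  obtain ⟨Q, d, e, hQ⟩ := distinguished_cocone_triangle r'
  have hRr := rot_of_distTriang _ (rot_of_distTriang _ hR)
  obtain ⟨k₁, k₃, δ₃, hO3⟩ := oct hr' hQ hT3 hRr
  have hG1 : t.IsGE (((t.truncGE 1).obj P1)⟦(-1 : ℤ)⟧) 0 := by
    have := t.isGE_shift ((t.truncGE 1).obj P1) 1 (-1) 2
    exact t.isGE_of_ge _ 0 2
  have hW1' : t.IsGE (W⟦(1 : ℤ)⟧) 0 := t.isGE_shift W 1 1 0
  have hQ0' : t.IsGE Q 0 := t.isGE₂ _ (inv_rot_of_distTriang _ hO3) 0 hG1 hW1'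
  have hR1 : t.IsLE (R⟦(1 : ℤ)⟧) 0 := by
    have := t.isLE_shift R 0 1 (-1)
    exact t.isLE_of_le _ (-1) 0
  have hQ0 : t.IsLE Q 0 := t.isLE₂ _ (rot_of_distTriang _ hQ) 0 hH0 hR1
  have hDR : D R := (h2 R H Q r' d e hQ ((t.mem_heart_iff R).2 ⟨hR0, hR0'⟩)
    ((t.mem_heart_iff H).2 ⟨hH0, hH0'⟩) ((t.mem_heart_iff Q).2 ⟨hQ0, hQ0'⟩) hH).1
  exact D.ext_of_isTriangulatedClosed₂ _ hR hP hDR

end A


section B

variable {C : Type u} [Category.{v} C] [Preadditive C] [HasZeroObject C] [HasShift C ℤ]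
  [∀ n : ℤ, (shiftFunctor C n).Additive] [Pretriangulated C] [IsTriangulated C]
  (t : TStructure C) (D : ObjectProperty C) [D.IsTriangulated] [D.IsClosedUnderIsomorphisms]
  {E : Type u'} [Category.{v'} E] [Preadditive E] [HasZeroObject E] [HasShift E ℤ]
  [∀ n : ℤ, (shiftFunctor E n).Additive] [Pretriangulated E]
  (q : C ⥤ E) [q.CommShift ℤ] [q.IsTriangulated] [q.IsLocalization D.trW]

omit [IsTriangulated C] [D.IsClosedUnderIsomorphisms] in
lemma isZero_q_obj (P : C) (hP : D P) : IsZero (q.obj P) := by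
  have hW : D.trW (0 : (0 : C) ⟶ P) := ObjectProperty.trW.mk D (contractible_distinguished₁ P) hP
  have : IsIso (q.map (0 : (0 : C) ⟶ P)) := Localization.inverts q D.trW _ hW
  exact ((isZero_zero E).of_iso q.mapZeroObject).of_iso (asIso (q.map (0 : (0 : C) ⟶ P))).symm

lemma ortho (h1 : ∀ X : C, D X → ∀ n : ℤ, D ((t.truncGELE n n).obj X))
    (h2 : ∀ (X Y Z : C) (f : X ⟶ Y) (g : Y ⟶ Z) (h : Z ⟶ X⟦(1 : ℤ)⟧),
      Triangle.mk f g h ∈ distTriang C → t.heart X → t.heart Y → t.heart Z → D Y → D X ∧ D Z)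
    (hb : ∀ X : C, t.bounded X)
    (X₁ X₂ : C) [t.IsLE X₁ 0] [t.IsGE X₂ 1] (g : q.obj X₁ ⟶ q.obj X₂) : g = 0 := by
  obtain ⟨φ, hφ⟩ := Localization.exists_rightFraction q D.trW g
  obtain ⟨N', u, w, hT, hN'⟩ := (D.trW_iff' φ.s).1 φ.hs
  have hD := key t D h1 h2 hb u φ.s w hT hN'
  have hz := isZero_q_obj D q _ hD
  have hf : φ.f = (t.truncGEπ 1).app φ.X' ≫ t.descTruncGE φ.f 1 := (t.π_descTruncGE φ.f 1).symm
  have : q.map φ.f = 0 := by
    rw [hf, q.map_comp, hz.eq_of_tgt (q.map _) 0, zero_comp]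
  rw [hφ, MorphismProperty.RightFraction.map, this, comp_zero]

/-- The t-structure on the quotient. -/
noncomputable def tE (h1 : ∀ X : C, D X → ∀ n : ℤ, D ((t.truncGELE n n).obj X))
    (h2 : ∀ (X Y Z : C) (f : X ⟶ Y) (g : Y ⟶ Z) (h : Z ⟶ X⟦(1 : ℤ)⟧),
      Triangle.mk f g h ∈ distTriang C → t.heart X → t.heart Y → t.heart Z → D Y → D X ∧ D Z)
    (hb : ∀ X : C, t.bounded X) : TStructure E where
  le n := fun Y => ∃ X : C, t.IsLE X n ∧ Nonempty (q.obj X ≅ Y)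
  ge n := fun Y => ∃ X : C, t.IsGE X n ∧ Nonempty (q.obj X ≅ Y)
  le_isClosedUnderIsomorphisms n := ⟨fun e ⟨X, hX, ⟨i⟩⟩ => ⟨X, hX, ⟨i ≪≫ e⟩⟩⟩
  ge_isClosedUnderIsomorphisms n := ⟨fun e ⟨X, hX, ⟨i⟩⟩ => ⟨X, hX, ⟨i ≪≫ e⟩⟩⟩
  le_shift n a n' h Y := by
    rintro ⟨X, hX, ⟨i⟩⟩
    exact ⟨X⟦a⟧, t.isLE_shift X n a n' h,
      ⟨(q.commShiftIso a).app X ≪≫ (shiftFunctor E a).mapIso i⟩⟩
  ge_shift n a n' h Y := by
    rintro ⟨X, hX, ⟨i⟩⟩
    exact ⟨X⟦a⟧, t.isGE_shift X n a n' h,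
      ⟨(q.commShiftIso a).app X ≪≫ (shiftFunctor E a).mapIso i⟩⟩
  zero' := by
    rintro Y₁ Y₂ f ⟨X₁, hX₁, ⟨i₁⟩⟩ ⟨X₂, hX₂, ⟨i₂⟩⟩
    have := ortho t D q h1 h2 hb X₁ X₂ (i₁.hom ≫ f ≫ i₂.inv)
    rw [← cancel_epi i₁.hom, ← cancel_mono i₂.inv]
    simpa using this
  le_zero_le := fun Y ⟨X, hX, i⟩ => ⟨X, t.isLE_of_le X 0 1, i⟩
  ge_one_le := fun Y ⟨X, hX, i⟩ => ⟨X, t.isGE_of_ge X 0 1, i⟩
  exists_triangle_zero_one A := by
    have : q.EssSurj := Localization.essSurj q D.trW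
    let X := q.objPreimage A
    let e : q.obj X ≅ A := q.objObjPreimageIso A
    have hT := t.triangleLTGE_distinguished 1 X
    have hqT := q.map_distinguished _ hT
    refine ⟨q.obj ((t.truncLT 1).obj X), q.obj ((t.truncGE 1).obj X),
      ⟨_, t.isLE_truncLT_obj X 1 0, ⟨Iso.refl _⟩⟩, ⟨_, inferInstance, ⟨Iso.refl _⟩⟩,
      q.map ((t.truncLTι 1).app X) ≫ e.hom, e.inv ≫ q.map ((t.truncGEπ 1).app X),
      q.map ((t.truncGEδLT 1).app X) ≫ (q.commShiftIso (1 : ℤ)).hom.app _, ?_⟩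
    refine isomorphic_distinguished _ hqT _ ?_
    refine Triangle.isoMk _ _ (Iso.refl _) e.symm (Iso.refl _) ?_ ?_ ?_
    · show (q.map ((t.truncLTι 1).app X) ≫ e.hom) ≫ e.inv = 𝟙 _ ≫ q.map ((t.truncLTι 1).app X)
      simp
    · show (e.inv ≫ q.map ((t.truncGEπ 1).app X)) ≫ 𝟙 _ = e.inv ≫ q.map ((t.truncGEπ 1).app X)
      simp
    · show (q.map ((t.truncGEδLT 1).app X) ≫ (q.commShiftIso (1 : ℤ)).hom.app _) ≫
        (𝟙 (q.obj ((t.truncLT 1).obj X)))⟦(1 : ℤ)⟧' =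
        𝟙 _ ≫ q.map ((t.truncGEδLT 1).app X) ≫ (q.commShiftIso (1 : ℤ)).hom.app _
      simp

end B


section Main

lemma tstruct_ext {E : Type u'} [Category.{v'} E] [Preadditive E] [HasZeroObject E] [HasShift E ℤ]
    [∀ n : ℤ, (shiftFunctor E n).Additive] [Pretriangulated E] (t₁ t₂ : TStructure E)
    (h1 : t₁.le = t₂.le) (h2 : t₁.ge = t₂.ge) : t₁ = t₂ := by
  cases t₁; cases t₂
  dsimp only at h1 h2
  subst h1; subst h2
  rfl

/-- Let C be a triangulated category (octahedron axiom included) carrying a bounded t-structure t (every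
object is ≥ a and ≤ b for some integers a, b), and let D be a strictly full triangulated subcategory
of C (a property of objects containing zero, stable under shifts, extensions and isomorphisms) such
that (1) for X in D and every integer n the n-th cohomology object of X for t, realised as τ^{≥ n}
τ^{≤ n} X, lies in D, and (2) the objects of D in the heart of t are closed under subobjects and
quotients in the heart: for every distinguished triangle X → Y → Z → X[1] whose three vertices lie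
in the heart, if Y is in D then so are X and Z. Let q : C ⥤ E be a triangulated functor to a
pretriangulated category E which exhibits E as the localization of C at the class of morphisms whose
cone lies in D (the Verdier quotient of C by D). Then E carries exactly one t-structure for which q
is t-exact (q sends objects ≤ n to objects ≤ n and objects ≥ n to objects ≥ n), and for this
t-structure an object of E is ≤ n, respectively ≥ n, if and only if it is isomorphic to q X for some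
X ≤ n, respectively X ≥ n, in C. (The source also identifies the heart of this t-structure with the
quotient of the heart of t by its intersection with D; that identification is not asserted here.) -/
theorem result
    {C : Type u} [Category.{v} C] [Preadditive C] [HasZeroObject C] [HasShift C ℤ]
    [∀ n : ℤ, (shiftFunctor C n).Additive] [Pretriangulated C] [IsTriangulated C]
    (t : TStructure C) (hb : ∀ X : C, t.bounded X)
    (D : ObjectProperty C) [D.IsTriangulated] [D.IsClosedUnderIsomorphisms]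
    (h1 : ∀ X : C, D X → ∀ n : ℤ, D ((t.truncGELE n n).obj X))
    (h2 : ∀ (X Y Z : C) (f : X ⟶ Y) (g : Y ⟶ Z) (h : Z ⟶ X⟦(1 : ℤ)⟧),
      Triangle.mk f g h ∈ distTriang C → t.heart X → t.heart Y → t.heart Z → D Y → D X ∧ D Z)
    {E : Type u'} [Category.{v'} E] [Preadditive E] [HasZeroObject E] [HasShift E ℤ]
    [∀ n : ℤ, (shiftFunctor E n).Additive] [Pretriangulated E]
    (q : C ⥤ E) [q.CommShift ℤ] [q.IsTriangulated] [q.IsLocalization D.trW] :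
    ∃ t' : TStructure E,
      (∀ (X : C) (n : ℤ), t.IsLE X n → t'.IsLE (q.obj X) n) ∧
      (∀ (X : C) (n : ℤ), t.IsGE X n → t'.IsGE (q.obj X) n) ∧
      (∀ (Y : E) (n : ℤ), t'.IsLE Y n ↔ ∃ X : C, t.IsLE X n ∧ Nonempty (q.obj X ≅ Y)) ∧
      (∀ (Y : E) (n : ℤ), t'.IsGE Y n ↔ ∃ X : C, t.IsGE X n ∧ Nonempty (q.obj X ≅ Y)) ∧
      ∀ t'' : TStructure E,
        (∀ (X : C) (n : ℤ), t.IsLE X n → t''.IsLE (q.obj X) n) →
        (∀ (X : C) (n : ℤ), t.IsGE X n → t''.IsGE (q.obj X) n) → t'' = t' := by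
  refine ⟨tE t D q h1 h2 hb, ?_, ?_, ?_, ?_, ?_⟩
  · intro X n hX
    exact ⟨⟨X, hX, ⟨Iso.refl _⟩⟩⟩
  · intro X n hX
    exact ⟨⟨X, hX, ⟨Iso.refl _⟩⟩⟩
  · intro Y n
    constructor
    · intro h
      exact h.le
    · intro h
      exact ⟨h⟩
  · intro Y n
    constructor
    · intro h
      exact h.ge
    · intro h
      exact ⟨h⟩
  · intro t'' hle hge
    have hle1 : ∀ n Y, (tE t D q h1 h2 hb).le n Y → t''.le n Y := by
      rintro n Y ⟨X, hX, ⟨i⟩⟩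
      exact (t''.le n).prop_of_iso i (hle X n hX).le
    have hge1 : ∀ n Y, (tE t D q h1 h2 hb).ge n Y → t''.ge n Y := by
      rintro n Y ⟨X, hX, ⟨i⟩⟩
      exact (t''.ge n).prop_of_iso i (hge X n hX).ge
    have hle2 : ∀ n Y, t''.le n Y → (tE t D q h1 h2 hb).le n Y := by
      intro n Y hY
      have : t''.IsLE Y n := ⟨hY⟩
      rw [TStructure.le_iff_isLE, (tE t D q h1 h2 hb).isLE_iff_orthogonal n (n + 1) rfl]
      intro Z f hZ
      have : t''.IsGE Z (n + 1) := ⟨hge1 _ _ hZ.ge⟩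
      exact t''.zero f n (n + 1)
    have hge2 : ∀ n Y, t''.ge n Y → (tE t D q h1 h2 hb).ge n Y := by
      intro n Y hY
      have : t''.IsGE Y n := ⟨hY⟩
      rw [TStructure.ge_iff_isGE, (tE t D q h1 h2 hb).isGE_iff_orthogonal (n - 1) n (by lia)]
      intro Z f hZ
      have : t''.IsLE Z (n - 1) := ⟨hle1 _ _ hZ.le⟩
      exact t''.zero f (n - 1) n
    exact tstruct_ext _ _ (funext fun n => funext fun Y => propext ⟨hle2 n Y, hle1 n Y⟩)
      (funext fun n => funext fun Y => propext ⟨hge2 n Y, hge1 n Y⟩)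

end Main

end Groth.Agent.S19131
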