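import Groth.Statements.S19136
import Mathlib

set_option autoImplicit false
universe u
open Instab

namespace Groth.Agent.S19136

theorem aux (a b P0 P1 P t : ℝ) (h₀ : 0 < P0) (h₁ : 0 < P1) (ha : 0 ≤ a) (hb : 0 ≤ b)
    (ht₀ : 0 < t) (ht₁ : t < 1) (hP : 0 < P) (hle : P ≤ t * P0 + (1 - t) * P1) :
    min (a / P0) (b / P1) ≤ (t * a + (1 - t) * b) / P ∧
      ((t * a + (1 - t) * b) / P = min (a / P0) (b / P1) → a / P0 = b / P1) := by
  set m := min (a / P0) (b / P1) with hm
  have hm0 : 0 ≤ m := le_min (div_nonneg ha h₀.le) (div_nonneg hb h₁.le)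
  have hmP0 : m * P0 ≤ a := by
    have : m ≤ a / P0 := min_le_left _ _
    rwa [le_div_iff₀ h₀] at this
  have hmP1 : m * P1 ≤ b := by
    have : m ≤ b / P1 := min_le_right _ _
    rwa [le_div_iff₀ h₁] at this
  have h1t : 0 < 1 - t := by linarith
  have key : m * P ≤ t * a + (1 - t) * b := by
    have e1 : m * P ≤ m * (t * P0 + (1 - t) * P1) := mul_le_mul_of_nonneg_left hle hm0
    have e2 : t * (m * P0) ≤ t * a := mul_le_mul_of_nonneg_left hmP0 ht₀.le
    have e3 : (1 - t) * (m * P1) ≤ (1 - t) * b := mul_le_mul_of_nonneg_left hmP1 h1t.le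
    nlinarith
  refine ⟨by rw [le_div_iff₀ hP]; exact key, ?_⟩
  intro heq
  rw [div_eq_iff hP.ne'] at heq
  have e1 : m * P ≤ m * (t * P0 + (1 - t) * P1) := mul_le_mul_of_nonneg_left hle hm0
  have e2 : 0 ≤ t * (a - m * P0) := mul_nonneg ht₀.le (by linarith)
  have e3 : 0 ≤ (1 - t) * (b - m * P1) := mul_nonneg h1t.le (by linarith)
  have e4 : t * (a - m * P0) + (1 - t) * (b - m * P1) ≤ 0 := by nlinarith
  have e5 : t * (a - m * P0) = 0 := by linarith
  have e6 : (1 - t) * (b - m * P1) = 0 := by linarith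
  have e7 : a = m * P0 := by
    rcases mul_eq_zero.1 e5 with h | h
    · exact absurd h ht₀.ne'
    · linarith
  have e8 : b = m * P1 := by
    rcases mul_eq_zero.1 e6 with h | h
    · exact absurd h h1t.ne'
    · linarith
  rw [e7, e8, mul_div_assoc, mul_div_assoc, div_self h₀.ne', div_self h₁.ne']

/-- Let p be a seminorm and ℓ a linear form on a real vector space, let y₀ and y₁ be vectors at which p
is positive and ℓ is non-negative, and let y = t y₀ + (1 - t) y₁ with 0 < t < 1 be a point of the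
open segment at which p is positive. Then ℓ(y)/p(y) is at least the smaller of ℓ(y₀)/p(y₀) and
ℓ(y₁)/p(y₁), and if it equals that smaller value then ℓ(y₀)/p(y₀) = ℓ(y₁)/p(y₁). (The published
lemma concerns the numerical invariant attached to a degree-two cohomology class and a semi-norm on
graded points of a stack; restricted to one rational simplex that invariant is the quotient of a
linear form by a semi-norm on the non-negative orthant of a real coordinate space, and local
quasi-concavity there amounts to this inequality with its equality clause, the set where the linear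
form is non-negative being automatically convex; the lemma's further assertion, that the invariant
is positive at no pair of antipodal points, is not stated here. The vector space is arbitrary here.) -/
theorem result {E : Type u} [AddCommGroup E] [Module ℝ E]
    (p : Seminorm ℝ E) (ℓ : E →ₗ[ℝ] ℝ) (y₀ y₁ : E) (h₀ : 0 < p y₀) (h₁ : 0 < p y₁)
    (hℓ₀ : 0 ≤ ℓ y₀) (hℓ₁ : 0 ≤ ℓ y₁) (t : ℝ) (ht₀ : 0 < t) (ht₁ : t < 1)
    (hy : 0 < p (t • y₀ + (1 - t) • y₁)) :
    min (ℓ y₀ / p y₀) (ℓ y₁ / p y₁) ≤ ℓ (t • y₀ + (1 - t) • y₁) / p (t • y₀ + (1 - t) • y₁) ∧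
      (ℓ (t • y₀ + (1 - t) • y₁) / p (t • y₀ + (1 - t) • y₁) = min (ℓ y₀ / p y₀) (ℓ y₁ / p y₁) →
        ℓ y₀ / p y₀ = ℓ y₁ / p y₁) := by
  have hle : p (t • y₀ + (1 - t) • y₁) ≤ t * p y₀ + (1 - t) * p y₁ := by
    have h1 := map_add_le_add p (t • y₀) ((1 - t) • y₁)
    rw [map_smul_eq_mul, map_smul_eq_mul, Real.norm_of_nonneg ht₀.le,
      Real.norm_of_nonneg (by linarith : (0 : ℝ) ≤ 1 - t)] at h1
    exact h1
  have hℓ : ℓ (t • y₀ + (1 - t) • y₁) = t * ℓ y₀ + (1 - t) * ℓ y₁ := by
    simp [map_add, map_smul]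
  rw [hℓ]
  exact aux _ _ _ _ _ t h₀ h₁ hℓ₀ hℓ₁ ht₀ ht₁ hy hle

end Groth.Agent.S19136
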