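import Groth.Statements.S1914
import Mathlib
import Groth.Agent.Lib.Helper12.KoszTor2

set_option autoImplicit false
universe u
open CategoryTheory
attribute [local instance] HasDerivedCategory.standard
open IntMult

namespace Groth.Agent.S1914

/-- Let A be a Noetherian local ring, I = (g₁, …, g_c) an ideal generated by a regular sequence and M a
finite A-module with Supp(M/IM) of dimension ≤ 0. Then c! · length_A(M/I^t M)/t^c tends, as t → ∞,
to Σ_i (−1)^i length_A Tor_i^A(A/I, M); that is, e_I(M, c) equals this alternating sum. -/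
theorem result (A : Type u) [CommRing A] [IsNoetherianRing A] [IsLocalRing A] (c : ℕ) (g : Fin c → A) (hreg : RingTheory.Sequence.IsRegular A (List.ofFn g)) (M : Type u) [AddCommGroup M] [Module A M] [Module.Finite A M] (h0 : Module.supportDim A (M ⧸ (Ideal.span (Set.range g) • (⊤ : Submodule A M))) ≤ 0) : Filter.Tendsto (fun t : ℕ => (c.factorial : ℝ) * ((Module.length A (M ⧸ (Ideal.span (Set.range g) ^ t • (⊤ : Submodule A M)))).toNat : ℝ) / (t : ℝ) ^ c) Filter.atTop (nhds (IntMult.chi A (A ⧸ Ideal.span (Set.range g)) M : ℝ)) := by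
  classical
  open Groth.Agent.Helper12.KoszEuler Groth.Agent.Helper12.KoszTor Groth.Agent.Helper5.HS in
  have hI : Ideal.ofList (List.ofFn g) = Ideal.span (Set.range g) := by
    unfold Ideal.ofList
    rw [mem_ofFn_set]
  have hfl : IsFiniteLength A (M ⧸ (Ideal.span (Set.range g) • (⊤ : Submodule A M))) := by
    rw [isFiniteLength_iff_support]
    intro p hp
    obtain ⟨m, hm, hpm⟩ := Ideal.exists_le_maximal p.asIdeal p.2.ne_top
    let q : PrimeSpectrum A := ⟨m, hm.isPrime⟩
    have hq : q ∈ Module.support A (M ⧸ (Ideal.span (Set.range g) • (⊤ : Submodule A M))) :=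
      Module.mem_support_mono (show p ≤ q from hpm) hp
    have hmax := Order.krullDim_nonpos_iff_forall_isMax.mp h0 ⟨p, hp⟩
    have hle : (⟨q, hq⟩ : Module.support A (M ⧸ (Ideal.span (Set.range g) •
        (⊤ : Submodule A M)))) ≤ ⟨p, hp⟩ := hmax (show (⟨p, hp⟩ : Module.support A _) ≤ ⟨q, hq⟩ from hpm)
    have : p.asIdeal = m := le_antisymm hpm hle
    rw [this]
    exact hm
  have h1 := tendsto_samuel_chi M g hfl
  have h2 := chi_eq (List.ofFn g) hreg.toIsWeaklyRegular M
  rw [← h2] at h1
  rw [hI] at h1
  exact h1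

end Groth.Agent.S1914
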