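import Groth.Statements.S19146
import Groth.Agent.Lib.Helper12.TwHensC
import Groth.Agent.Lib.Helper26.HensSec1
import Groth.Agent.Lib.Helper26.HensSec2

set_option autoImplicit false
set_option linter.style.haveILetI false
open CategoryTheory MonoidalCategory CartesianMonoidalCategory MonObj GrpObj AlgebraicGeometry
universe u
open TwC

namespace Groth.Agent.S19146

/-- Let R be a henselian local ring, s the closed point of S = Spec R, and X a quasi-isotrivial twisted
constant S-scheme (etale-locally on S isomorphic to a constant scheme). Then X is the disjoint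
union, over the points x of the closed fibre X_s, of the local schemes X(x) = Spec O_{X,x}: for each
such x the canonical morphism Spec O_{X,x} ⟶ X is an open and closed immersion and X(x) is a finite
etale cover of S (finite, etale, surjective), every point of X lies in X(x) for exactly one x ∈ X_s,
and restricting a section of X ⟶ S to the closed point is a bijection from the sections of X over S
onto the sections of X_s over s. -/
theorem result (R : Type u) [CommRing R] [HenselianLocalRing R]
    (X : Over (Spec (CommRingCat.of R))) (hX : TwC.IsTwConst TwC.Topology.etale X) :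
    (∀ x : X.left, X.hom.base x = IsLocalRing.closedPoint R →
      IsOpenImmersion (X.left.fromSpecStalk x) ∧ IsClosedImmersion (X.left.fromSpecStalk x) ∧
        IsFinite (X.left.fromSpecStalk x ≫ X.hom) ∧ Etale (X.left.fromSpecStalk x ≫ X.hom) ∧
        Surjective (X.left.fromSpecStalk x ≫ X.hom)) ∧
    (∀ y : X.left, ∃! x : X.left, X.hom.base x = IsLocalRing.closedPoint R ∧
      y ∈ Set.range (X.left.fromSpecStalk x).base) ∧
    (∀ σ₁ σ₂ : Spec (CommRingCat.of R) ⟶ X.left, σ₁ ≫ X.hom = 𝟙 _ → σ₂ ≫ X.hom = 𝟙 _ →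
      Spec.map (CommRingCat.ofHom (IsLocalRing.residue R)) ≫ σ₁ = Spec.map (CommRingCat.ofHom (IsLocalRing.residue R)) ≫ σ₂ → σ₁ = σ₂) ∧
    (∀ τ : Spec (CommRingCat.of (IsLocalRing.ResidueField R)) ⟶ X.left,
      τ ≫ X.hom = Spec.map (CommRingCat.ofHom (IsLocalRing.residue R)) →
      ∃ σ : Spec (CommRingCat.of R) ⟶ X.left, σ ≫ X.hom = 𝟙 _ ∧ Spec.map (CommRingCat.ofHom (IsLocalRing.residue R)) ≫ σ = τ) := by
  obtain ⟨hsep, het, -⟩ := Groth.Agent.S19144.result X hX
  have key : ∀ x : X.left, X.hom.base x = IsLocalRing.closedPoint R →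
      ∃ D : X.left.Opens, IsClosed (D : Set X.left) ∧ IsFinite (D.ι ≫ X.hom) ∧ x ∈ D ∧
        (∀ y ∈ D, y ⤳ x) ∧ IsOpenImmersion (X.left.fromSpecStalk x) ∧
        Set.range (X.left.fromSpecStalk x).base = (D : Set X.left) := by
    intro x hx
    obtain ⟨D, hDcl, hDfin, hxD, hgen⟩ :=
      Groth.Agent.Helper12.TwHens.exists_clopen_generization R X hX x hx
    haveI : IsAffine (D : Scheme.{u}) := isAffine_of_isAffineHom (D.ι ≫ X.hom)
    have hDaff : IsAffineOpen D := this
    refine ⟨D, hDcl, hDfin, hxD, hgen,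
      Groth.Agent.Helper12.TwHens.isOpenImmersion_fromSpecStalk x D hDaff hxD hgen, ?_⟩
    rw [Scheme.range_fromSpecStalk]
    ext y
    exact ⟨fun h => h.mem_open D.2 hxD, hgen y⟩
  refine ⟨?_, ?_, ?_, ?_⟩
  · intro x hx
    obtain ⟨D, hDcl, hDfin, hxD, hgen, hoi, hrange⟩ := key x hx
    haveI := hoi
    haveI hci : IsClosedImmersion (X.left.fromSpecStalk x) :=
      IsClosedImmersion.of_isPreimmersion _ (by rw [hrange]; exact hDcl)
    refine ⟨hoi, hci, ?_, inferInstance, ?_⟩
    · have hr : Set.range (X.left.fromSpecStalk x).base = Set.range D.ι.base := by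
        rw [hrange, Scheme.Opens.range_ι]
      have hfac := IsOpenImmersion.isoOfRangeEq_hom_fac (X.left.fromSpecStalk x) D.ι hr
      rw [← hfac, Category.assoc]
      infer_instance
    · refine Groth.Agent.Helper12.TwHens.surjective_of_isOpen_range R _
        (X.left.fromSpecStalk x ≫ X.hom).isOpenMap.isOpen_range ?_
      refine ⟨IsLocalRing.closedPoint _, ?_⟩
      show X.hom.base ((X.left.fromSpecStalk x).base (IsLocalRing.closedPoint _)) = _
      rw [Scheme.fromSpecStalk_closedPoint]
      exact hx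
  · intro y
    obtain ⟨x, hx, hyx⟩ := Groth.Agent.Helper12.TwHens.exists_specializes_closedFibre R X hX y
    refine ⟨x, ⟨hx, by rw [Scheme.range_fromSpecStalk]; exact hyx⟩, ?_⟩
    rintro x' ⟨hx', hy'⟩
    rw [Scheme.range_fromSpecStalk] at hy'
    obtain ⟨D, hDcl, -, hxD, hgen, -, -⟩ := key x hx
    obtain ⟨D', hDcl', -, hxD', hgen', -, -⟩ := key x' hx'
    have h1 : x' ⤳ x := hgen x' (hy'.mem_closed hDcl (hyx.mem_open D.2 hxD))
    have h2 : x ⤳ x' := hgen' x (hyx.mem_closed hDcl' (hy'.mem_open D'.2 hxD'))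
    exact (h1.antisymm h2).eq
  · intro σ₁ σ₂ h₁ h₂ h
    exact Groth.Agent.Helper26.HensSec.sec_unique R X.hom σ₁ σ₂ (h₁.trans h₂.symm) h
  · intro τ hτ
    exact Groth.Agent.Helper26.HensSec.exists_sec R X.hom τ hτ

end Groth.Agent.S19146
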