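import Groth.Statements.S19154
import Groth.Agent.Lib.Helper20.FiltSplit3
import Groth.Agent.Lib.Helper20.FiltSplit4

set_option autoImplicit false
open scoped TensorProduct
universe u v w
open FiltMod

namespace Groth.Agent.S19154

open Groth.Agent.Helper20.FiltSplit in

theorem result
    {Γ : Type w} [AddCommGroup Γ] [LinearOrder Γ] [IsOrderedAddMonoid Γ] [Nontrivial Γ]
    {R : Type u} [CommRing R] {M : Type v} [AddCommGroup M] [Module R M] [Module.Finite R M] [Module.Projective R M]
    (F : Γ → Submodule R M) (hF : Antitone F)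
    (Fp : Γ → Submodule R M) (hFp : ∀ γ, Fp γ = ⨆ η ∈ Set.Ioi γ, F η) :
    (∃ G : Γ → Submodule R M, DirectSum.IsInternal G ∧ ∀ γ, F γ = ⨆ η ∈ Set.Ici γ, G η) ↔
    ((∀ γ, Module.Finite R (↥(F γ) ⧸ Submodule.comap (F γ).subtype (Fp γ)) ∧
        Module.Projective R (↥(F γ) ⧸ Submodule.comap (F γ).subtype (Fp γ))) ∧
      ∀ (p : PrimeSpectrum R) (Fx : Γ → Submodule p.asIdeal.ResidueField (p.asIdeal.ResidueField ⊗[R] M)),
        (∀ γ, Fx γ = LinearMap.range ((F γ).subtype.baseChange p.asIdeal.ResidueField)) →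
        Module.finrank p.asIdeal.ResidueField (p.asIdeal.ResidueField ⊗[R] M) =
          ∑ᶠ γ, (Module.finrank p.asIdeal.ResidueField ↥(Fx γ) -
            Module.finrank p.asIdeal.ResidueField ↥(⨆ η ∈ Set.Ioi γ, Fx η))) := by
  constructor
  · rintro ⟨G, hint, hFG⟩
    obtain ⟨hind, htop⟩ :=
      (DirectSum.isInternal_submodule_iff_iSupIndep_and_iSup_eq_top G).mp hint
    refine ⟨fun γ => gr_finite_projective F Fp hFp G hind htop hFG γ, ?_⟩
    intro p Fx hFx
    have hFx' : Fx = fun γ => (F γ).baseChange p.asIdeal.ResidueField := funext hFx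
    subst hFx'
    exact fibre_count F Fp hFp G hind htop hFG p.asIdeal.ResidueField
  · rintro ⟨hproj, hcount⟩
    refine exists_grading_of_gr_projective F hF Fp hFp (fun γ => (hproj γ).2) ?_
    intro m hm
    have := hm
    exact hcount ⟨m, hm.isPrime⟩ (fun γ => (F γ).baseChange m.ResidueField) (fun γ => rfl)

end Groth.Agent.S19154
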