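import Groth.Statements.S19155
import Mathlib
import Groth.Agent.Lib.Lead.RootB5

set_option autoImplicit false
open RootPairing
open RootD

namespace Groth.Agent.S19155

/-- Let P be a root datum (root pairing over ℤ with finitely many roots, roots in M), S a system of
positive roots, Γ a non-trivial totally ordered commutative group and f : M → Γ additive. Call f
dominant when f(α) ≥ 0 for every positive root α. Then the dominant maps form a fundamental domain
for the Weyl group W acting on Hom(M, Γ) through M: there is w ∈ W with f ∘ w dominant, and if f and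
f ∘ w are both dominant (w ∈ W) then f ∘ w = f. -/
theorem result {ι M N : Type*} [AddCommGroup M] [AddCommGroup N]
    (P : RootPairing ι ℤ M N) [Finite ι] (S : Set ι) (hS : RootD.IsPosSys P S)
    {Γ : Type*} [AddCommGroup Γ] [LinearOrder Γ] [IsOrderedAddMonoid Γ] [Nontrivial Γ] (f : M →+ Γ) :
    (∃ g : P.Aut, g ∈ P.weylGroup ∧ ∀ i ∈ S, 0 ≤ f (RootPairing.Equiv.weightHom P g (P.root i))) ∧
    (∀ g : P.Aut, g ∈ P.weylGroup → (∀ i ∈ S, 0 ≤ f (P.root i)) →
      (∀ i ∈ S, 0 ≤ f (RootPairing.Equiv.weightHom P g (P.root i))) →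
      ∀ m : M, f (RootPairing.Equiv.weightHom P g m) = f m) := by
  classical
  obtain ⟨Δ, hΔ, hpos⟩ := Groth.Agent.Helper8.RD.exists_simpleSys_of_posSys hS
  constructor
  · obtain ⟨S', hS'⟩ : ∃ S' : Set ι,
        S' = {i | 0 < f (P.root i) ∨ (f (P.root i) = 0 ∧ i ∈ S)} := ⟨_, rfl⟩
    have hneg : ∀ i, f (P.root (P.reflectionPerm i i)) = - f (P.root i) := by
      intro i
      rw [Groth.Agent.Helper8.RD.root_neg, map_neg]
    have hS1 : ∀ i ∈ S', P.reflectionPerm i i ∉ S' := by
      intro i hi hi'
      rw [hS'] at hi hi'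
      simp only [Set.mem_setOf_eq, hneg] at hi hi'
      rcases hi with h | ⟨h, hiS⟩
      · rcases hi' with h' | ⟨h', _⟩
        · have := neg_pos.mp h'
          exact lt_asymm h this
        · rw [neg_eq_zero] at h'
          rw [h'] at h
          exact lt_irrefl _ h
      · rcases hi' with h' | ⟨_, hi'S⟩
        · rw [h, neg_zero] at h'
          exact lt_irrefl _ h'
        · exact hS.disjoint hiS hi'S
    have hS2 : ∀ i, i ∈ S' ∨ P.reflectionPerm i i ∈ S' := by
      intro i
      rw [hS']
      simp only [Set.mem_setOf_eq, hneg]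
      rcases lt_trichotomy (f (P.root i)) 0 with h | h | h
      · right; left; exact neg_pos.mpr h
      · rcases hS.cover i with hi | hi
        · left; right; exact ⟨h, hi⟩
        · right; right; exact ⟨by rw [h, neg_zero], hi⟩
      · left; left; exact h
    have hcl : IsClosedSub P S' := by
      intro i j k hi hj hk
      rw [hS'] at hi hj ⊢
      simp only [Set.mem_setOf_eq] at hi hj ⊢
      have hfk : f (P.root k) = f (P.root i) + f (P.root j) := by rw [hk, map_add]
      have hSc := Groth.Agent.Helper8.RD.IsPosSys.isClosedSub hS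
      rcases hi with h | ⟨h, hiS⟩
      · left
        rw [hfk]
        rcases hj with h' | ⟨h', _⟩
        · exact add_pos h h'
        · rw [h', add_zero]; exact h
      · rcases hj with h' | ⟨h', hjS⟩
        · left
          rw [hfk, h, zero_add]; exact h'
        · right
          exact ⟨by rw [hfk, h, h', add_zero], hSc hiS hjS hk⟩
    obtain ⟨g, hg, hgS⟩ := Groth.Agent.Helper8.RD.exists_weyl_posOf_eq hS1 hS2 hcl hΔ
    refine ⟨g, hg, fun i hi => ?_⟩
    have hmem : g • i ∈ S' := by
      rw [← hgS, Groth.Agent.Helper8.RD.posOf_smul, hpos]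
      exact Set.smul_mem_smul_set hi
    have e : RootPairing.Equiv.weightHom P g (P.root i) = P.root (g • i) :=
      (Groth.Agent.Helper8.RD.aut_root P g i).symm
    rw [e]
    rw [hS'] at hmem
    rcases hmem with h | ⟨h, _⟩
    · exact h.le
    · exact h.ge
  · intro g hg hf hfg m
    rw [← Groth.Agent.Helper8.RD.weylSub_eq hΔ] at hg
    obtain ⟨l, hl, rfl⟩ := Groth.Agent.Helper8.RD.exists_word_of_mem_weylSub hg
    rw [← hpos] at hf hfg
    exact Groth.Agent.Lead.RootB5.dominant_comp_eq hΔ f hf l.length l hl rfl hfg m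

end Groth.Agent.S19155
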