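import Groth.Statements.S19156
import Mathlib
import Groth.Agent.Lib.Lead.RootB6

set_option autoImplicit false
open RootPairing
open RootD

namespace Groth.Agent.S19156

/-- Let P be a root datum (root pairing over ℤ with finitely many roots indexed by ι), S a system of
positive roots, Γ a non-trivial totally ordered commutative group and f : M → Γ additive. Then f is
dominant (non-negative on the positive roots) if and only if, for every w in the Weyl group, f − f ∘
w is a combination m ↦ Σ_{α ∈ S} ⟨m, α∨⟩ c_α of the positive coroots with coefficients c_α ≥ 0 in Γ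
(f ∘ w is strongly dominated by f); and f is dominant if and only if f(w m) ≤ f(m) for every w ∈ W
and every dominant weight m (weak dominance). -/
theorem result {ι M N : Type*} [AddCommGroup M] [AddCommGroup N]
    (P : RootPairing ι ℤ M N) [Fintype ι] (S : Set ι) (hS : RootD.IsPosSys P S)
    {Γ : Type*} [AddCommGroup Γ] [LinearOrder Γ] [IsOrderedAddMonoid Γ] [Nontrivial Γ] (f : M →+ Γ) :
    ((∀ i ∈ S, 0 ≤ f (P.root i)) ↔
      ∀ g : P.Aut, g ∈ P.weylGroup → ∃ c : ι → Γ, (∀ i, 0 ≤ c i) ∧ (∀ i, i ∉ S → c i = 0) ∧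
        ∀ m : M, f m - f (RootPairing.Equiv.weightHom P g m) = ∑ i, (P.coroot' i m) • c i) ∧
    ((∀ i ∈ S, 0 ≤ f (P.root i)) ↔
      ∀ g : P.Aut, g ∈ P.weylGroup → ∀ m : M, (∀ i ∈ S, 0 ≤ P.coroot' i m) →
        f (RootPairing.Equiv.weightHom P g m) ≤ f m) := by
  classical
  obtain ⟨Δ, hΔ, hpos⟩ := Groth.Agent.Helper8.RD.exists_simpleSys_of_posSys hS
  obtain ⟨m₀, hm₀⟩ := Groth.Agent.Lead.RootB6.exists_strictDominant hS
  have hA : (∀ i ∈ S, 0 ≤ f (P.root i)) → ∀ g : P.Aut, g ∈ P.weylGroup →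
      ∃ c : ι → Γ, (∀ i, 0 ≤ c i) ∧ (∀ i, i ∉ S → c i = 0) ∧
        ∀ m : M, f m - f (RootPairing.Equiv.weightHom P g m) = ∑ i, (P.coroot' i m) • c i := by
    intro hf g hg
    rw [← Groth.Agent.Helper8.RD.weylSub_eq hΔ] at hg
    obtain ⟨l, hl, rfl⟩ := Groth.Agent.Helper8.RD.exists_word_of_mem_weylSub hg
    rw [← hpos] at hf ⊢
    exact Groth.Agent.Lead.RootB6.dominant_sub_eq_sum hΔ f hf l.length l hl rfl
  have hkey : (∀ d ∈ Δ, f (RootPairing.Equiv.weightHom P (Equiv.reflection P d) m₀) ≤ f m₀) →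
      ∀ i ∈ S, 0 ≤ f (P.root i) := by
    intro h
    have hd : ∀ d ∈ Δ, 0 ≤ f (P.root d) := by
      intro d hd
      have h1 := h d hd
      have e : RootPairing.Equiv.weightHom P (Equiv.reflection P d) m₀ =
          m₀ - P.coroot' d m₀ • P.root d := by
        show Equiv.reflection P d • m₀ = _
        rw [Equiv.reflection_smul, P.reflection_apply]
      rw [e, map_sub, map_zsmul] at h1
      have hn : 0 < P.coroot' d m₀ :=
        hm₀ d (hpos ▸ Groth.Agent.Helper8.RD.subset_posOf hΔ hd)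
      have h2 : 0 ≤ P.coroot' d m₀ • f (P.root d) := (sub_le_self_iff (f m₀)).mp h1
      by_contra hneg
      push Not at hneg
      have h3 := zsmul_pos (neg_pos.mpr hneg) hn
      rw [smul_neg] at h3
      exact absurd h2 (not_le.mpr (neg_pos.mp h3))
    intro i hi
    have hi' : P.root i ∈ natSpan P Δ := by
      rw [← hpos] at hi
      exact hi
    change P.root i ∈ AddSubmonoid.closure _ at hi'
    refine AddSubmonoid.closure_induction (motive := fun x _ => 0 ≤ f x) ?_ ?_ ?_ hi'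
    · rintro _ ⟨d, hd', rfl⟩
      exact hd d hd'
    · rw [map_zero]
    · intro x y _ _ hx hy
      rw [map_add]
      exact add_nonneg hx hy
  have hsum : ∀ (c : ι → Γ) (m : M), (∀ i, 0 ≤ c i) → (∀ i, i ∉ S → c i = 0) →
      (∀ i ∈ S, 0 ≤ P.coroot' i m) → 0 ≤ ∑ i, (P.coroot' i m) • c i := by
    intro c m hc0 hcS hm
    refine Finset.sum_nonneg fun i _ => ?_
    by_cases hi : i ∈ S
    · exact zsmul_nonneg (hc0 i) (hm i hi)
    · rw [hcS i hi, smul_zero]
  refine ⟨⟨hA, fun h => ?_⟩, ⟨fun hf g hg m hm => ?_, fun h => ?_⟩⟩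
  · apply hkey
    intro d hd
    obtain ⟨c, hc0, hcS, hc⟩ := h (Equiv.reflection P d) (P.reflection_mem_weylGroup d)
    have h1 := hsum c m₀ hc0 hcS (fun i hi => (hm₀ i hi).le)
    rw [← hc m₀] at h1
    exact sub_nonneg.mp h1
  · obtain ⟨c, hc0, hcS, hc⟩ := hA hf g hg
    have h1 := hsum c m hc0 hcS hm
    rw [← hc m] at h1
    exact sub_nonneg.mp h1
  · apply hkey
    intro d hd
    exact h _ (P.reflection_mem_weylGroup d) m₀ (fun i hi => (hm₀ i hi).le)

end Groth.Agent.S19156
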