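import Groth.Statements.S19158
import Mathlib
import Groth.Agent.Lib.Helper28.FiltSplit

set_option autoImplicit false
universe u v w
open FiltMod

namespace Groth.Agent.S19158

/-- In affine form, let Γ be a non-trivial totally ordered commutative group, R a commutative ring and
(M_a) a finite family of finitely generated projective R-modules, each carrying a non-increasing
Γ-indexed family of submodules F_a; give M = Π_a M_a the family F^γ = Π_a F_a^γ. Then F is split by
a Γ-grading of M (an internal direct sum decomposition M = ⊕_γ G_γ with F^γ = Σ_{η ≥ γ} G_η for all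
γ) if and only if each F_a is split by a Γ-grading of M_a. (The published statement is for finite
locally free sheaves on a scheme, where a filtration counts as split when it is split by a grading
locally on the scheme; this row is the affine case, in which that is the same as being split by one
global grading.) -/
theorem result
    {Γ : Type w} [AddCommGroup Γ] [LinearOrder Γ] [IsOrderedAddMonoid Γ] [Nontrivial Γ]
    {R : Type u} [CommRing R] {A : Type v} [Fintype A] (M : A → Type v) [∀ a, AddCommGroup (M a)] [∀ a, Module R (M a)]
    [∀ a, Module.Finite R (M a)] [∀ a, Module.Projective R (M a)]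
    (F : ∀ a, Γ → Submodule R (M a)) (hF : ∀ a, Antitone (F a)) :
    (∃ G : Γ → Submodule R (∀ a, M a), DirectSum.IsInternal G ∧
        ∀ γ, Submodule.pi Set.univ (fun a => F a γ) = ⨆ η ∈ Set.Ici γ, G η) ↔
    ∀ a, ∃ G : Γ → Submodule R (M a), DirectSum.IsInternal G ∧ ∀ γ, F a γ = ⨆ η ∈ Set.Ici γ, G η := by
  classical
  have hsingle : ∀ (P : ∀ a, Submodule R (M a)) (a : A) (y : M a), y ∈ P a →
      (Pi.single a y : ∀ a, M a) ∈ Submodule.pi Set.univ P := by
    intro P a y hy b _
    by_cases hb : b = a
    · subst hb; simpa using hy
    · rw [Pi.single_eq_of_ne hb]; exact Submodule.zero_mem _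
  constructor
  · rintro ⟨G, hG, hFG⟩ a
    refine Groth.Agent.Helper28.FiltSplit.split_of_retract G hG (LinearMap.proj a)
      (LinearMap.single R M a) (fun x => by simp)
      (fun γ => Submodule.pi Set.univ (fun a => F a γ)) (F a) hFG ?_ ?_
    · intro γ z hz
      exact hz a (Set.mem_univ a)
    · intro γ x hx
      exact hsingle (fun a => F a γ) a x hx
  · intro h
    choose G hG hFG using h
    refine ⟨fun γ => Submodule.pi Set.univ (fun a => G a γ), ?_, ?_⟩
    · rw [DirectSum.isInternal_submodule_iff_iSupIndep_and_iSup_eq_top]
      constructor
      · intro γ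
        rw [Submodule.disjoint_def]
        intro x hx1 hx2
        funext a
        have h1 : x a ∈ G a γ := hx1 a (Set.mem_univ a)
        have h2 : x a ∈ ⨆ η, ⨆ (_ : η ≠ γ), G a η := by
          have : (⨆ η, ⨆ (_ : η ≠ γ), Submodule.pi Set.univ (fun a => G a η)) ≤
              Submodule.comap (LinearMap.proj a) (⨆ η, ⨆ (_ : η ≠ γ), G a η) := by
            refine iSup₂_le fun η hη => ?_
            intro z hz
            exact Submodule.mem_iSup_of_mem η (Submodule.mem_iSup_of_mem hη (hz a (Set.mem_univ a)))
          exact this hx2
        have := ((hG a).submodule_iSupIndep γ)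
        exact Submodule.disjoint_def.1 this _ h1 h2
      · rw [eq_top_iff]
        intro x _
        rw [← Finset.univ_sum_single x]
        refine Submodule.sum_mem _ fun a _ => ?_
        have : (⊤ : Submodule R (M a)) ≤ Submodule.comap (LinearMap.single R M a)
            (⨆ γ, Submodule.pi Set.univ (fun a => G a γ)) := by
          rw [← (hG a).submodule_iSup_eq_top]
          refine iSup_le fun γ => ?_
          intro y hy
          exact Submodule.mem_iSup_of_mem γ (hsingle (fun a => G a γ) a y hy)
        exact this trivial
    · intro γ
      apply le_antisymm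
      · intro x hx
        rw [← Finset.univ_sum_single x]
        refine Submodule.sum_mem _ fun a _ => ?_
        have : F a γ ≤ Submodule.comap (LinearMap.single R M a)
            (⨆ η ∈ Set.Ici γ, Submodule.pi Set.univ (fun a => G a η)) := by
          rw [hFG a γ]
          refine iSup₂_le fun η hη => ?_
          intro y hy
          exact Submodule.mem_iSup_of_mem η (Submodule.mem_iSup_of_mem hη
            (hsingle (fun a => G a η) a y hy))
        exact this (hx a (Set.mem_univ a))
      · refine iSup₂_le fun η hη => ?_
        intro x hx a _
        show x a ∈ F a γ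
        rw [hFG a γ]
        exact Submodule.mem_iSup_of_mem η (Submodule.mem_iSup_of_mem hη (hx a (Set.mem_univ a)))

end Groth.Agent.S19158
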