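import Groth.Statements.S19160
import Mathlib

set_option autoImplicit false
open scoped TensorProduct
universe u
open PureMod

namespace Groth.Agent.S19160

/-- (2) ⇒ (3): in affine form, let R be a commutative ring and i : A → B an R-linear map such that for
every commutative R-algebra R' the base change R' ⊗ A → R' ⊗ B is injective (the pull-back of i to
every affine scheme over Spec R is a monomorphism). Then F ⊗ A → F ⊗ B is injective for every
R-module F, i.e. i is universally injective (pure). (Modules and algebras are taken in the universe
of R.) -/
theorem result (R : Type u) [CommRing R]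
    (A B : Type u) [AddCommGroup A] [Module R A] [AddCommGroup B] [Module R B] (i : A →ₗ[R] B)
    (h : ∀ (R' : Type u) [CommRing R'] [Algebra R R'], Function.Injective (i.baseChange R'))
    (F : Type u) [AddCommGroup F] [Module R F] :
    Function.Injective (i.lTensor F) := by
  letI : Module Rᵐᵒᵖ F := Module.compHom _ ((RingHom.id R).fromOpposite mul_comm)
  haveI : IsCentralScalar R F := ⟨fun r m => rfl⟩
  have hR' := h (TrivSqZeroExt R F)
  have hR'' : Function.Injective (i.lTensor (TrivSqZeroExt R F)) := by
    intro x y hxy
    apply hR'
    rw [LinearMap.baseChange_eq_ltensor]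
    exact hxy
  let inr : F →ₗ[R] TrivSqZeroExt R F := TrivSqZeroExt.inrHom R F
  let snd : TrivSqZeroExt R F →ₗ[R] F := TrivSqZeroExt.sndHom R F
  have hsi : snd ∘ₗ inr = LinearMap.id := by
    ext x; simp [inr, snd]
  have hinj : Function.Injective (inr.rTensor A) := by
    apply Function.LeftInverse.injective (g := snd.rTensor A)
    intro x
    rw [← LinearMap.comp_apply, ← LinearMap.rTensor_comp, hsi, LinearMap.rTensor_id,
      LinearMap.id_apply]
  have hsq : (inr.rTensor B) ∘ₗ (i.lTensor F) = (i.lTensor (TrivSqZeroExt R F)) ∘ₗ (inr.rTensor A) := by
    rw [LinearMap.rTensor_comp_lTensor, LinearMap.lTensor_comp_rTensor]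
  intro x y hxy
  apply hinj
  apply hR''
  have := congrArg (fun f => f x) hsq
  have h2 := congrArg (fun f => f y) hsq
  simp only [LinearMap.comp_apply] at this h2
  rw [← this, ← h2, hxy]

end Groth.Agent.S19160
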