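import Groth.Statements.S19161
import Mathlib
import Groth.Agent.Lib.Lead.RootB7

set_option autoImplicit false
open RootPairing
open RootD

namespace Groth.Agent.S19161

/-- Let P be a root datum (root pairing over ℤ, finitely many roots), S a system of positive roots, W
the Weyl group, Γ a non-trivial totally ordered commutative group and f₁, f₂ : M → Γ additive maps
which are dominant (f_i(α) ≥ 0 for α ∈ S). Then f₁ ≤ f₂ in the weak dominance order (f₁(m) ≤ f₂(m)
for every dominant weight m, i.e. every m with ⟨m, α∨⟩ ≥ 0 for all α ∈ S) if and only if, for every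
non-empty finite W-stable subset X ⊆ M, the maximum of f₁ on X is at most the maximum of f₂ on X.
(The source phrases the right-hand side through W-invariant elements x of ℕ[M] and the largest
element of the support of f_i(x) in ℤ[Γ]; for ℕ-coefficients that largest element is the maximum of
f_i over the support of x.) -/
theorem result {ι M N : Type*} [AddCommGroup M] [AddCommGroup N]
    (P : RootPairing ι ℤ M N) [Finite ι] (S : Set ι) (hS : RootD.IsPosSys P S)
    {Γ : Type*} [AddCommGroup Γ] [LinearOrder Γ] [IsOrderedAddMonoid Γ] [Nontrivial Γ] (f₁ f₂ : M →+ Γ)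
    (hf₁ : ∀ i ∈ S, 0 ≤ f₁ (P.root i)) (hf₂ : ∀ i ∈ S, 0 ≤ f₂ (P.root i)) :
    (∀ m : M, (∀ i ∈ S, 0 ≤ P.coroot' i m) → f₁ m ≤ f₂ m) ↔
    ∀ (X : Finset M) (hX : X.Nonempty), (∀ g : P.Aut, g ∈ P.weylGroup → ∀ m ∈ X, RootPairing.Equiv.weightHom P g m ∈ X) →
      X.sup' hX f₁ ≤ X.sup' hX f₂ := by
  classical
  let _ := Fintype.ofFinite ι
  constructor
  · intro h X hX hstab
    rw [Finset.sup'_le_iff]
    intro x hx
    obtain ⟨g, hg, hdom⟩ := Groth.Agent.Lead.RootB7.exists_weyl_dominant hS x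
    have hx' : g • x ∈ X := hstab g hg x hx
    have h1 : f₁ (g⁻¹ • (g • x)) ≤ f₁ (g • x) :=
      Groth.Agent.Lead.RootB7.dominant_le hS f₁ hf₁ (inv_mem hg) (g • x) hdom
    rw [inv_smul_smul] at h1
    exact h1.trans ((h (g • x) hdom).trans (Finset.le_sup' f₂ hx'))
  · intro h m hm
    have hfin : Finite P.weylGroup := Groth.Agent.Lead.RootB7.finite_weylGroup
    have hXfin : (Set.range (fun w : P.weylGroup => (w : P.Aut) • m)).Finite :=
      Set.finite_range _
    have hmemX : ∀ x : M, x ∈ hXfin.toFinset ↔ ∃ w : P.weylGroup, (w : P.Aut) • m = x := by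
      intro x
      rw [Set.Finite.mem_toFinset]
      rfl
    have hmX : m ∈ hXfin.toFinset := (hmemX m).mpr ⟨1, one_smul _ _⟩
    have hstab : ∀ g : P.Aut, g ∈ P.weylGroup → ∀ x ∈ hXfin.toFinset,
        RootPairing.Equiv.weightHom P g x ∈ hXfin.toFinset := by
      intro g hg x hx
      obtain ⟨w, rfl⟩ := (hmemX x).mp hx
      refine (hmemX _).mpr ⟨⟨g, hg⟩ * w, ?_⟩
      show (g * (w : P.Aut)) • m = g • ((w : P.Aut) • m)
      rw [mul_smul]
    have h1 := h hXfin.toFinset ⟨m, hmX⟩ hstab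
    have h2 : f₁ m ≤ hXfin.toFinset.sup' ⟨m, hmX⟩ f₁ := Finset.le_sup' f₁ hmX
    have h3 : hXfin.toFinset.sup' ⟨m, hmX⟩ f₂ ≤ f₂ m := by
      rw [Finset.sup'_le_iff]
      intro x hx
      obtain ⟨w, rfl⟩ := (hmemX x).mp hx
      exact Groth.Agent.Lead.RootB7.dominant_le hS f₂ hf₂ w.2 m hm
    exact h2.trans (h1.trans h3)

end Groth.Agent.S19161
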