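import Groth.Statements.S19169
import Mathlib
import Groth.Agent.Lib.Helper28.ProCompl

set_option autoImplicit false
universe u
open ProCompl

namespace Groth.Agent.S19169

/-- Let B be a Hausdorff, locally compact, totally disconnected topological abelian group which is
compactly generated, i.e. generated as a group by a compact subset. Then the open subgroups of
finite index of B have trivial intersection: every nonzero b lies outside some open subgroup of
finite index. Equivalently, the natural map from B to its completion with respect to open subgroups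
of finite index is injective. -/
theorem result
    {B : Type u} [AddCommGroup B] [TopologicalSpace B] [IsTopologicalAddGroup B]
    [T2Space B] [LocallyCompactSpace B] [TotallyDisconnectedSpace B]
    (hcg : ∃ K : Set B, IsCompact K ∧ AddSubgroup.closure K = ⊤) (b : B) (hb : b ≠ 0) :
    ∃ B' : AddSubgroup B, IsOpen (B' : Set B) ∧ B'.FiniteIndex ∧ b ∉ B' := by
  obtain ⟨K, hK, hgen⟩ := hcg
  obtain ⟨U, hUo, hUc, hUb⟩ :=
    Groth.Agent.Helper28.ProComplLib.exists_compact_open_subgroup (B := B)
      (O := ({b} : Set B)ᶜ) isOpen_compl_singleton (by simpa using hb.symm)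
  haveI : DiscreteTopology (B ⧸ U) := QuotientAddGroup.discreteTopology hUo
  have hfin : ((QuotientAddGroup.mk' U) '' K).Finite := by
    have hc : IsCompact ((QuotientAddGroup.mk' U) '' K) :=
      hK.image (QuotientAddGroup.continuous_mk)
    exact hc.finite_of_discrete
  have hclos : AddSubgroup.closure ((QuotientAddGroup.mk' U) '' K) = ⊤ := by
    rw [← AddMonoidHom.map_closure, hgen]
    rw [← AddMonoidHom.range_eq_map]
    exact AddMonoidHom.range_eq_top.mpr (QuotientAddGroup.mk'_surjective _)
  haveI : AddGroup.FG (B ⧸ U) := (AddGroup.fg_iff).2 ⟨_, hclos, hfin⟩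
  have hbU : (QuotientAddGroup.mk' U b) ≠ 0 := by
    intro h
    have hmem : b ∈ U := (QuotientAddGroup.eq_zero_iff b).mp h
    exact hUb hmem rfl
  obtain ⟨Q', hQ'fin, hQ'b⟩ :=
    Groth.Agent.Helper28.ProComplLib.exists_finiteIndex_not_mem hbU
  refine ⟨Q'.comap (QuotientAddGroup.mk' U), ?_, ?_, ?_⟩
  · refine AddSubgroup.isOpen_mono (H₁ := U) ?_ hUo
    intro x hx
    rw [AddSubgroup.mem_comap]
    have : QuotientAddGroup.mk' U x = 0 := (QuotientAddGroup.eq_zero_iff x).mpr hx
    rw [this]; exact Q'.zero_mem
  · constructor
    rw [AddSubgroup.index_comap_of_surjective _ (QuotientAddGroup.mk'_surjective U)]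
    exact hQ'fin.index_ne_zero
  · exact hQ'b

end Groth.Agent.S19169
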