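import Groth.Statements.S19170
import Mathlib

set_option autoImplicit false
universe u
open ProCompl

namespace Groth.Agent.S19170

theorem torsion_QZ (x : ℚ ⧸ AddSubgroup.zmultiples (1 : ℚ)) : ∃ n : ℕ, 0 < n ∧ n • x = 0 := by
  induction x using QuotientAddGroup.induction_on with
  | H r =>
    refine ⟨r.den, r.den_pos, ?_⟩
    rw [← QuotientAddGroup.mk_nsmul, QuotientAddGroup.eq_zero_iff]
    refine ⟨r.num, ?_⟩
    simp only [zsmul_eq_mul, mul_one, nsmul_eq_mul]
    rw [mul_comm]
    exact (Rat.mul_den_eq_num r).symm

/-- Let B be a topological abelian group generated as a group by a compact subset. Then every character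
χ : B → ℚ/ℤ with open kernel (a continuous character for discrete ℚ/ℤ) has kernel of finite index;
consequently each such character factors through B^∧, the completion of B taken along its
finite-index open subgroups, i.e. (B^∧)^D = B^D. (The published statement assumes moreover that B is
Hausdorff, locally compact and totally disconnected; only compact generation is needed for this
assertion, so those assumptions are dropped here.) -/
theorem result
    {B : Type u} [AddCommGroup B] [TopologicalSpace B] [IsTopologicalAddGroup B]
    (hcg : ∃ K : Set B, IsCompact K ∧ AddSubgroup.closure K = ⊤)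
    (χ : B →+ ℚ ⧸ AddSubgroup.zmultiples (1 : ℚ)) (hχ : IsOpen (χ.ker : Set B)) : χ.ker.FiniteIndex := by
  obtain ⟨K, hK, hgen⟩ := hcg
  haveI : DiscreteTopology (B ⧸ χ.ker) := QuotientAddGroup.discreteTopology hχ
  have hfin : ((QuotientAddGroup.mk' χ.ker) '' K).Finite := by
    have hc : IsCompact ((QuotientAddGroup.mk' χ.ker) '' K) :=
      hK.image (QuotientAddGroup.continuous_mk)
    exact hc.finite_of_discrete
  have hclos : AddSubgroup.closure ((QuotientAddGroup.mk' χ.ker) '' K) = ⊤ := by
    rw [← AddMonoidHom.map_closure, hgen]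
    rw [← AddMonoidHom.range_eq_map]
    exact AddMonoidHom.range_eq_top.mpr (QuotientAddGroup.mk'_surjective _)
  haveI : AddGroup.FG (B ⧸ χ.ker) := (AddGroup.fg_iff).2 ⟨_, hclos, hfin⟩
  have htors : IsAddTorsion (B ⧸ χ.ker) := by
    intro q
    induction q using QuotientAddGroup.induction_on with
    | H b =>
      obtain ⟨n, hn, hnb⟩ := torsion_QZ (χ b)
      rw [isOfFinAddOrder_iff_nsmul_eq_zero]
      refine ⟨n, hn, ?_⟩
      rw [← QuotientAddGroup.mk_nsmul, QuotientAddGroup.eq_zero_iff]
      show χ (n • b) = 0
      rw [map_nsmul]; exact hnb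
  haveI : Finite (B ⧸ χ.ker) := AddCommGroup.finite_of_fg_isAddTorsion _ htors
  exact AddSubgroup.finiteIndex_of_finite_quotient

end Groth.Agent.S19170
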