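import Groth.Statements.S19172
import Mathlib

set_option autoImplicit false
universe u v w
open ProCompl

namespace Groth.Agent.S19172

open W4c61motalbduality

section aux
variable {A : Type u} [AddCommGroup A] [TopologicalSpace A] [IsTopologicalAddGroup A]

/-- finite intersections of open subgroups of finite index -/
def finInf (s : Finset (OpenFI A)) : OpenFI A where
  toAddSubgroup := ⨅ U ∈ s, U.toAddSubgroup
  isOpen' := by
    simp only [AddSubgroup.coe_iInf]
    exact isOpen_biInter_finset fun U _ => U.isOpen'
  finiteIndex' := AddSubgroup.finiteIndex_iInf' _ fun U _ => U.finiteIndex'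

lemma finInf_le (s : Finset (OpenFI A)) {U : OpenFI A} (hU : U ∈ s) :
    (finInf s).toAddSubgroup ≤ U.toAddSubgroup :=
  iInf₂_le U hU

lemma discrete (U : OpenFI A) : DiscreteTopology (A ⧸ U.toAddSubgroup) :=
  QuotientAddGroup.discreteTopology U.isOpen'

lemma finiteQ (U : OpenFI A) : Finite (A ⧸ U.toAddSubgroup) := by
  have := U.finiteIndex'
  exact AddSubgroup.finite_quotient_of_finiteIndex

/-- compactness: closed conditions which are finitely satisfiable by elements of `A` are
satisfiable in the completion. -/
theorem exists_mem_FICompl_of_fip {K : Type*}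
    (C : K → Set ((U : OpenFI A) → A ⧸ U.toAddSubgroup))
    (hC : ∀ k, IsClosed (C k))
    (h : ∀ s : Finset K, ∃ a : A, ∀ k ∈ s,
      (fun U : OpenFI A => (QuotientAddGroup.mk a : A ⧸ U.toAddSubgroup)) ∈ C k) :
    ∃ x : FICompl A, ∀ k, x.1 ∈ C k := by
  classical
  haveI : ∀ U : OpenFI A, DiscreteTopology (A ⧸ U.toAddSubgroup) := discrete
  haveI : ∀ U : OpenFI A, Finite (A ⧸ U.toAddSubgroup) := finiteQ
  haveI : ∀ U : OpenFI A, CompactSpace (A ⧸ U.toAddSubgroup) := fun U => Finite.compactSpace
  let P := {p : OpenFI A × OpenFI A // p.1.toAddSubgroup ≤ p.2.toAddSubgroup}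
  let D : P → Set ((U : OpenFI A) → A ⧸ U.toAddSubgroup) := fun p =>
    {x | QuotientAddGroup.map p.1.1.toAddSubgroup p.1.2.toAddSubgroup (AddMonoidHom.id A) p.2
      (x p.1.1) = x p.1.2}
  have hD : ∀ p, IsClosed (D p) := fun p =>
    isClosed_eq (continuous_of_discreteTopology.comp (continuous_apply _)) (continuous_apply _)
  let E : K ⊕ P → Set ((U : OpenFI A) → A ⧸ U.toAddSubgroup) := Sum.elim C D
  have hE : ∀ k, IsClosed (E k) := by
    rintro (k | p)
    · exact hC k
    · exact hD p
  have hne : (⋂ k, E k).Nonempty := by
    apply CompactSpace.iInter_nonempty hE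
    intro u
    obtain ⟨a, ha⟩ := h u.toLeft
    refine ⟨fun U : OpenFI A => (QuotientAddGroup.mk a : A ⧸ U.toAddSubgroup), ?_⟩
    simp only [Set.mem_iInter]
    rintro (k | p) hk
    · exact ha k (Finset.mem_toLeft.mpr hk)
    · show QuotientAddGroup.map _ _ _ _ _ = _
      rfl
  obtain ⟨x, hx⟩ := hne
  rw [Set.mem_iInter] at hx
  refine ⟨⟨x, ?_⟩, fun k => hx (Sum.inl k)⟩
  intro U V hUV
  exact hx (Sum.inr ⟨(U, V), hUV⟩)

end aux

open W4c61motalbduality in
/-- Let i : A → B and p : B → C be continuous homomorphisms of topological abelian groups with p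
surjective and open and with the kernel of p equal to the image of i. Then the induced sequence of
completions with respect to open subgroups of finite index, A^∧ → B^∧ → C^∧ → 0, is exact: the map
B^∧ → C^∧ is surjective and its kernel is the image of A^∧. The completion is the group of
compatible families of residues modulo all open subgroups of finite index. (The published statement
takes i injective, as the first map of an exact sequence 0 → A → B → C → 0 of topological abelian
groups; here it is only assumed that the image of i is the kernel of p, which is all the proof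
uses.) -/
theorem result
    {A : Type u} {B : Type v} {C : Type w}
    [AddCommGroup A] [TopologicalSpace A] [IsTopologicalAddGroup A]
    [AddCommGroup B] [TopologicalSpace B] [IsTopologicalAddGroup B]
    [AddCommGroup C] [TopologicalSpace C] [IsTopologicalAddGroup C]
    (i : A →+ B) (hi : Continuous i) (p : B →+ C) (hp : Continuous p)
    (hpo : IsOpenMap p) (hps : Function.Surjective p) (hex : p.ker = i.range) :
    Function.Surjective (FICompl.map p hp) ∧ (FICompl.map p hp).ker = (FICompl.map i hi).range := by
  classical
  haveI : ∀ U : OpenFI A, DiscreteTopology (A ⧸ U.toAddSubgroup) := discrete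
  haveI : ∀ U : OpenFI B, DiscreteTopology (B ⧸ U.toAddSubgroup) := discrete
  haveI : ∀ U : OpenFI C, DiscreteTopology (C ⧸ U.toAddSubgroup) := discrete
  constructor
  · intro z
    obtain ⟨y, hy⟩ := exists_mem_FICompl_of_fip (A := B) (K := OpenFI C)
      (fun W => {y | QuotientAddGroup.map (W.comap p hp).toAddSubgroup W.toAddSubgroup p
        (W.comap_le p) (y (W.comap p hp)) = z.1 W})
      (fun W => isClosed_eq (continuous_of_discreteTopology.comp (continuous_apply _))
        continuous_const)
      (by
        intro s
        obtain ⟨c, hc⟩ := QuotientAddGroup.mk_surjective (z.1 (finInf s))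
        obtain ⟨b, rfl⟩ := hps c
        refine ⟨b, fun W hW => ?_⟩
        have h1 := z.2 (finInf s) W (finInf_le s hW)
        rw [← hc] at h1
        show QuotientAddGroup.map _ _ p _ (QuotientAddGroup.mk b) = z.1 W
        rw [← h1]
        rfl)
    refine ⟨y, ?_⟩
    apply Subtype.ext
    funext W
    exact hy W
  · ext y
    constructor
    · intro hy
      rw [AddMonoidHom.mem_ker] at hy
      obtain ⟨x, hx⟩ := exists_mem_FICompl_of_fip (A := A) (K := OpenFI B)
        (fun V => {x | QuotientAddGroup.map (V.comap i hi).toAddSubgroup V.toAddSubgroup i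
          (V.comap_le i) (x (V.comap i hi)) = y.1 V})
        (fun V => isClosed_eq (continuous_of_discreteTopology.comp (continuous_apply _))
          continuous_const)
        (by
          intro s
          obtain ⟨b, hb⟩ := QuotientAddGroup.mk_surjective (y.1 (finInf s))
          -- the image of V0 in C
          let W1 : OpenFI C :=
            { toAddSubgroup := (finInf s).toAddSubgroup.map p
              isOpen' := hpo _ (finInf s).isOpen'
              finiteIndex' := by
                have := (finInf s).finiteIndex'
                exact ⟨ne_zero_of_dvd_ne_zero AddSubgroup.FiniteIndex.index_ne_zero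
                  (AddSubgroup.index_map_dvd _ hps)⟩ }
          have hle : (finInf s).toAddSubgroup ≤ (W1.comap p hp).toAddSubgroup :=
            AddSubgroup.le_comap_map _ _
          have h1 := y.2 (finInf s) (W1.comap p hp) hle
          rw [← hb, QuotientAddGroup.map_mk, AddMonoidHom.id_apply] at h1
          have h2 : QuotientAddGroup.map (W1.comap p hp).toAddSubgroup W1.toAddSubgroup p
              (W1.comap_le p) (y.1 (W1.comap p hp)) = 0 := by
            have := congrArg (fun t : FICompl C => t.1 W1) hy
            exact this
          rw [← h1, QuotientAddGroup.map_mk, QuotientAddGroup.eq_zero_iff] at h2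
          obtain ⟨v, hv, hpv⟩ := h2
          have hker : b - v ∈ p.ker := by
            rw [AddMonoidHom.mem_ker, map_sub, hpv, sub_self]
          rw [hex] at hker
          obtain ⟨a, ha⟩ := hker
          refine ⟨a, fun V hV => ?_⟩
          have h3 := y.2 (finInf s) V (finInf_le s hV)
          rw [← hb, QuotientAddGroup.map_mk, AddMonoidHom.id_apply] at h3
          show QuotientAddGroup.map _ _ i _ (QuotientAddGroup.mk a) = y.1 V
          rw [QuotientAddGroup.map_mk, ha, ← h3, QuotientAddGroup.eq]
          have : -(b - v) + b = v := by abel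
          rw [this]
          exact finInf_le s hV hv)
      refine ⟨x, ?_⟩
      apply Subtype.ext
      funext V
      exact hx V
    · rintro ⟨x, rfl⟩
      rw [AddMonoidHom.mem_ker]
      apply Subtype.ext
      funext W
      show QuotientAddGroup.map _ _ p _ (QuotientAddGroup.map _ _ i _ (x.1 _)) = 0
      obtain ⟨a, ha⟩ := QuotientAddGroup.mk_surjective
        (x.1 (OpenFI.comap i hi (OpenFI.comap p hp W)))
      rw [← ha, QuotientAddGroup.map_mk, QuotientAddGroup.map_mk, QuotientAddGroup.eq_zero_iff]
      have : p (i a) = 0 := by
        have : i a ∈ p.ker := by rw [hex]; exact ⟨a, rfl⟩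
        exact this
      rw [this]
      exact W.toAddSubgroup.zero_mem

end Groth.Agent.S19172
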