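import Groth.Statements.S19173
import Mathlib
import Groth.Agent.S19170
import Groth.Agent.S19171

set_option autoImplicit false
universe u v
open ProCompl

namespace Groth.Agent.S19173

open W4c61motalbduality Topology in
/-- every open subgroup of finite index of `A` contains the preimage of one of `B`. -/
theorem exists_openFI_comap_le
    {A : Type u} {B : Type v} [AddCommGroup A] [TopologicalSpace A] [IsTopologicalAddGroup A]
    [AddCommGroup B] [TopologicalSpace B] [IsTopologicalAddGroup B]
    [T2Space B] [LocallyCompactSpace B] [TotallyDisconnectedSpace B]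
    (hcg : ∃ K : Set B, IsCompact K ∧ AddSubgroup.closure K = ⊤)
    (i : A →+ B) (hi : Continuous i) (hinj : Function.Injective i) (hind : IsInducing i)
    (hcl : IsClosed (Set.range i)) (U' : OpenFI A) :
    ∃ V : OpenFI B, (V.comap i hi).toAddSubgroup ≤ U'.toAddSubgroup := by
  have hfi := U'.finiteIndex'
  haveI : Finite (A ⧸ U'.toAddSubgroup) := AddSubgroup.finite_quotient_of_finiteIndex
  have hc : ∀ q : A ⧸ U'.toAddSubgroup,
      ∃ c : (A ⧸ U'.toAddSubgroup) →+ ℚ ⧸ AddSubgroup.zmultiples (1 : ℚ), q ≠ 0 → c q ≠ 0 := by
    intro q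
    by_cases hq : q = 0
    · exact ⟨0, fun h => absurd hq h⟩
    · obtain ⟨c, hc⟩ := CharacterModule.exists_character_apply_ne_zero_of_ne_zero hq
      exact ⟨c, fun _ => hc⟩
  choose c hc using hc
  have hψ : ∀ q, ∃ ψ : B →+ ℚ ⧸ AddSubgroup.zmultiples (1 : ℚ), IsOpen (ψ.ker : Set B) ∧
      ψ.comp i = (c q).comp (QuotientAddGroup.mk' U'.toAddSubgroup) := by
    intro q
    apply Groth.Agent.S19171.result hcg i hi hinj hind hcl
    refine AddSubgroup.isOpen_mono (H₁ := U'.toAddSubgroup) ?_ U'.isOpen'
    intro a ha
    rw [AddMonoidHom.mem_ker, AddMonoidHom.comp_apply]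
    have : QuotientAddGroup.mk' U'.toAddSubgroup a = 0 := (QuotientAddGroup.eq_zero_iff a).mpr ha
    rw [this, map_zero]
  choose ψ hψo hψi using hψ
  have hψfi : ∀ q, (ψ q).ker.FiniteIndex := fun q => Groth.Agent.S19170.result hcg (ψ q) (hψo q)
  refine ⟨⟨⨅ q, (ψ q).ker, ?_, ?_⟩, ?_⟩
  · rw [AddSubgroup.coe_iInf]
    exact isOpen_iInter_of_finite hψo
  · exact AddSubgroup.finiteIndex_iInf hψfi
  · intro a ha
    by_contra hna
    have hq : (QuotientAddGroup.mk' U'.toAddSubgroup a) ≠ 0 := by
      intro h
      exact hna ((QuotientAddGroup.eq_zero_iff a).mp h)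
    apply hc _ hq
    have ha' : i a ∈ ⨅ q, (ψ q).ker := ha
    have h1 : i a ∈ (ψ (QuotientAddGroup.mk' U'.toAddSubgroup a)).ker :=
      (AddSubgroup.mem_iInf.mp ha') _
    have h2 := DFunLike.congr_fun (hψi (QuotientAddGroup.mk' U'.toAddSubgroup a)) a
    rw [AddMonoidHom.comp_apply, AddMonoidHom.comp_apply] at h2
    rw [← h2]
    exact h1

open W4c61motalbduality Topology in
/-- Let B be a Hausdorff, locally compact, totally disconnected topological abelian group generated as a
group by a compact subset, and let i : A → B be an injective continuous homomorphism inducing the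
topology of A from that of B (a strict injection) with closed image. Then the map induced by i on
completions with respect to open subgroups of finite index is injective; together with right
exactness for open surjections this makes 0 → A^∧ → B^∧ → C^∧ → 0 exact for a topological exact
sequence 0 → A → B → C → 0 with such B, strict closed i and open p. -/
theorem result
    {A : Type u} {B : Type v} [AddCommGroup A] [TopologicalSpace A] [IsTopologicalAddGroup A]
    [AddCommGroup B] [TopologicalSpace B] [IsTopologicalAddGroup B]
    [T2Space B] [LocallyCompactSpace B] [TotallyDisconnectedSpace B]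
    (hcg : ∃ K : Set B, IsCompact K ∧ AddSubgroup.closure K = ⊤)
    (i : A →+ B) (hi : Continuous i) (hinj : Function.Injective i) (hind : IsInducing i)
    (hcl : IsClosed (Set.range i)) :
    Function.Injective (FICompl.map i hi) := by
  rw [injective_iff_map_eq_zero]
  intro x hx
  apply Subtype.ext
  funext U'
  obtain ⟨V, hV⟩ := exists_openFI_comap_le hcg i hi hinj hind hcl U'
  have h1 := x.2 (V.comap i hi) U' hV
  have h2 : QuotientAddGroup.map (V.comap i hi).toAddSubgroup V.toAddSubgroup i
      (V.comap_le i) (x.1 (V.comap i hi)) = 0 := by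
    have := congrArg (fun y : FICompl B => y.1 V) hx
    exact this
  have h3 : x.1 (V.comap i hi) = 0 := by
    obtain ⟨a, ha⟩ := QuotientAddGroup.mk_surjective (x.1 (V.comap i hi))
    rw [← ha, QuotientAddGroup.map_mk, QuotientAddGroup.eq_zero_iff] at h2
    rw [← ha, QuotientAddGroup.eq_zero_iff]
    exact h2
  rw [h3, map_zero] at h1
  exact h1.symm

end Groth.Agent.S19173
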