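import Groth.Statements.S19176
import Mathlib
import Groth.Agent.Lib.Helper28.PlaneQuot
open MvPolynomial

set_option autoImplicit false
universe u
open PlaneCurve

namespace Groth.Agent.S19176

open MvPolynomial in
/-- Let k be a field of characteristic p (p = 0 allowed) and F = y² − x³ in k[x, y] (x the variable of
index 0, y of index 1). The singular subscheme of the plane curve F = 0, cut out by F and its two
partial derivatives, is finite over k of degree 4 when p = 2, of degree 3 when p = 3, and of degree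
2 otherwise: the k-dimension of k[x, y]/(F, ∂F/∂x, ∂F/∂y) is that number. (The source phrases this
through the complete local ring of a cusp; the row is the computation for the standard cusp y² =
x³.) -/
theorem result (k : Type u) [Field k] (p : ℕ) [CharP k p] :
    Module.finrank k (MvPolynomial (Fin 2) k ⧸ Ideal.span
      ({X 1 ^ 2 - X 0 ^ 3, pderiv 0 (X 1 ^ 2 - X 0 ^ 3), pderiv 1 (X 1 ^ 2 - X 0 ^ 3)} :
        Set (MvPolynomial (Fin 2) k))) = (if p = 2 then 4 else if p = 3 then 3 else 2) := by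
  have hd0 : pderiv 0 (X 1 ^ 2 - X 0 ^ 3 : MvPolynomial (Fin 2) k) = - (3 * X 0 ^ 2) := by
    simp [Derivation.leibniz_pow, pderiv_X]
  have hd1 : pderiv 1 (X 1 ^ 2 - X 0 ^ 3 : MvPolynomial (Fin 2) k) = 2 * X 1 := by
    simp [Derivation.leibniz_pow, pderiv_X]
  rw [hd0, hd1]
  have h3ne : p ≠ 3 → (3 : k) ≠ 0 := by
    intro hp3 h
    have h' : ((3 : ℕ) : k) = 0 := by exact_mod_cast h
    rw [CharP.cast_eq_zero_iff k p 3] at h'
    rcases (Nat.dvd_prime Nat.prime_three).1 h' with h1 | h1
    · exact CharP.char_ne_one k p h1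
    · exact hp3 h1
  have h2ne : p ≠ 2 → (2 : k) ≠ 0 := by
    intro hp2 h
    have h' : ((2 : ℕ) : k) = 0 := by exact_mod_cast h
    rw [CharP.cast_eq_zero_iff k p 2] at h'
    rcases (Nat.dvd_prime Nat.prime_two).1 h' with h1 | h1
    · exact CharP.char_ne_one k p h1
    · exact hp2 h1
  have hC : ∀ n : ℕ, ((n : ℕ) : MvPolynomial (Fin 2) k) = C ((n : ℕ) : k) := fun n => by simp
  by_cases hp2 : p = 2
  · rw [if_pos hp2]
    subst hp2
    have h2k : (2 : k) = 0 := CharTwo.two_eq_zero
    have h2 : (2 : MvPolynomial (Fin 2) k) = 0 := by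
      have := hC 2
      rw [Nat.cast_ofNat, Nat.cast_ofNat, h2k, map_zero] at this
      exact this
    have h3 : (3 : MvPolynomial (Fin 2) k) = 1 := by
      have : (3 : MvPolynomial (Fin 2) k) = 2 + 1 := by norm_num
      rw [this, h2, zero_add]
    rw [h2, h3, zero_mul, one_mul]
    have hI : Ideal.span ({X 1 ^ 2 - X 0 ^ 3, -(X 0 ^ 2), 0} : Set (MvPolynomial (Fin 2) k)) =
        Ideal.span ({X 0 ^ 2, X 1 ^ 2} : Set (MvPolynomial (Fin 2) k)) := by
      apply le_antisymm
      · rw [Ideal.span_le]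
        have hx : (X 0 ^ 2 : MvPolynomial (Fin 2) k) ∈ Ideal.span ({X 0 ^ 2, X 1 ^ 2} : Set (MvPolynomial (Fin 2) k)) :=
          Ideal.subset_span (by simp)
        have hy : (X 1 ^ 2 : MvPolynomial (Fin 2) k) ∈ Ideal.span ({X 0 ^ 2, X 1 ^ 2} : Set (MvPolynomial (Fin 2) k)) :=
          Ideal.subset_span (by simp)
        rintro _ (rfl | rfl | rfl)
        · have : (X 1 ^ 2 - X 0 ^ 3 : MvPolynomial (Fin 2) k) = X 1 ^ 2 - X 0 * X 0 ^ 2 := by ring
          rw [this]
          exact Ideal.sub_mem _ hy (Ideal.mul_mem_left _ _ hx)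
        · exact neg_mem hx
        · exact Ideal.zero_mem _
      · rw [Ideal.span_le]
        have hg1 : (X 1 ^ 2 - X 0 ^ 3 : MvPolynomial (Fin 2) k) ∈
            Ideal.span ({X 1 ^ 2 - X 0 ^ 3, -(X 0 ^ 2), 0} : Set (MvPolynomial (Fin 2) k)) :=
          Ideal.subset_span (by simp)
        have hg2 : (-(X 0 ^ 2) : MvPolynomial (Fin 2) k) ∈
            Ideal.span ({X 1 ^ 2 - X 0 ^ 3, -(X 0 ^ 2), 0} : Set (MvPolynomial (Fin 2) k)) :=
          Ideal.subset_span (by simp)
        have hx : (X 0 ^ 2 : MvPolynomial (Fin 2) k) ∈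
            Ideal.span ({X 1 ^ 2 - X 0 ^ 3, -(X 0 ^ 2), 0} : Set (MvPolynomial (Fin 2) k)) := by
          have := neg_mem hg2
          rwa [neg_neg] at this
        rintro _ (rfl | rfl)
        · exact hx
        · have : (X 1 ^ 2 : MvPolynomial (Fin 2) k) = (X 1 ^ 2 - X 0 ^ 3) + X 0 * X 0 ^ 2 := by ring
          have h' := Ideal.add_mem _ hg1 (Ideal.mul_mem_left _ (X 0) hx)
          rw [← this] at h'
          exact h'
    rw [hI, Groth.Agent.Helper28.PlaneQuot.finrank_quot k 2 2]
  · rw [if_neg hp2]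
    by_cases hp3 : p = 3
    · rw [if_pos hp3]
      subst hp3
      have h3k : (3 : k) = 0 := by
        have : ((3 : ℕ) : k) = 0 := CharP.cast_eq_zero k 3
        exact_mod_cast this
      have h3 : (3 : MvPolynomial (Fin 2) k) = 0 := by
        have := hC 3
        rw [Nat.cast_ofNat, Nat.cast_ofNat, h3k, map_zero] at this
        exact this
      have h2C : (2 : MvPolynomial (Fin 2) k) = C (2 : k) := by
        have := hC 2
        rwa [Nat.cast_ofNat, Nat.cast_ofNat] at this
      rw [h3, zero_mul, neg_zero, h2C]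
      have hI : Ideal.span ({X 1 ^ 2 - X 0 ^ 3, 0, C (2 : k) * X 1} : Set (MvPolynomial (Fin 2) k)) =
          Ideal.span ({X 0 ^ 3, X 1 ^ 1} : Set (MvPolynomial (Fin 2) k)) := by
        apply le_antisymm
        · rw [Ideal.span_le]
          have hx : (X 0 ^ 3 : MvPolynomial (Fin 2) k) ∈ Ideal.span ({X 0 ^ 3, X 1 ^ 1} : Set (MvPolynomial (Fin 2) k)) :=
            Ideal.subset_span (by simp)
          have hy : (X 1 ^ 1 : MvPolynomial (Fin 2) k) ∈ Ideal.span ({X 0 ^ 3, X 1 ^ 1} : Set (MvPolynomial (Fin 2) k)) :=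
            Ideal.subset_span (by simp)
          rintro _ (rfl | rfl | rfl)
          · have : (X 1 ^ 2 - X 0 ^ 3 : MvPolynomial (Fin 2) k) = X 1 * X 1 ^ 1 - X 0 ^ 3 := by ring
            rw [this]
            exact Ideal.sub_mem _ (Ideal.mul_mem_left _ _ hy) hx
          · exact Ideal.zero_mem _
          · have : (C (2 : k) * X 1 : MvPolynomial (Fin 2) k) = C (2 : k) * X 1 ^ 1 := by ring
            rw [this]
            exact Ideal.mul_mem_left _ _ hy
        · rw [Ideal.span_le]
          have hg1 : (X 1 ^ 2 - X 0 ^ 3 : MvPolynomial (Fin 2) k) ∈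
              Ideal.span ({X 1 ^ 2 - X 0 ^ 3, 0, C (2 : k) * X 1} : Set (MvPolynomial (Fin 2) k)) :=
            Ideal.subset_span (by simp)
          have hg3 : (C (2 : k) * X 1 : MvPolynomial (Fin 2) k) ∈
              Ideal.span ({X 1 ^ 2 - X 0 ^ 3, 0, C (2 : k) * X 1} : Set (MvPolynomial (Fin 2) k)) :=
            Ideal.subset_span (by simp)
          have hy : (X 1 : MvPolynomial (Fin 2) k) ∈
              Ideal.span ({X 1 ^ 2 - X 0 ^ 3, 0, C (2 : k) * X 1} : Set (MvPolynomial (Fin 2) k)) := by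
            have := Ideal.mul_mem_left _ (C ((2 : k)⁻¹)) hg3
            rwa [← mul_assoc, ← C_mul, inv_mul_cancel₀ (h2ne (by norm_num)), C_1, one_mul] at this
          rintro _ (rfl | rfl)
          · have : (X 0 ^ 3 : MvPolynomial (Fin 2) k) = X 1 * X 1 - (X 1 ^ 2 - X 0 ^ 3) := by ring
            have h' := Ideal.sub_mem _ (Ideal.mul_mem_left _ (X 1) hy) hg1
            rw [← this] at h'
            exact h'
          · rw [pow_one]; exact hy
      rw [hI, Groth.Agent.Helper28.PlaneQuot.finrank_quot k 3 1]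
    · rw [if_neg hp3]
      have h2C : (2 : MvPolynomial (Fin 2) k) = C (2 : k) := by
        have := hC 2
        rwa [Nat.cast_ofNat, Nat.cast_ofNat] at this
      have h3C : (3 : MvPolynomial (Fin 2) k) = C (3 : k) := by
        have := hC 3
        rwa [Nat.cast_ofNat, Nat.cast_ofNat] at this
      rw [h2C, h3C]
      have hI : Ideal.span ({X 1 ^ 2 - X 0 ^ 3, -(C (3 : k) * X 0 ^ 2), C (2 : k) * X 1} : Set (MvPolynomial (Fin 2) k)) =
          Ideal.span ({X 0 ^ 2, X 1 ^ 1} : Set (MvPolynomial (Fin 2) k)) := by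
        apply le_antisymm
        · rw [Ideal.span_le]
          have hx : (X 0 ^ 2 : MvPolynomial (Fin 2) k) ∈ Ideal.span ({X 0 ^ 2, X 1 ^ 1} : Set (MvPolynomial (Fin 2) k)) :=
            Ideal.subset_span (by simp)
          have hy : (X 1 ^ 1 : MvPolynomial (Fin 2) k) ∈ Ideal.span ({X 0 ^ 2, X 1 ^ 1} : Set (MvPolynomial (Fin 2) k)) :=
            Ideal.subset_span (by simp)
          rintro _ (rfl | rfl | rfl)
          · have : (X 1 ^ 2 - X 0 ^ 3 : MvPolynomial (Fin 2) k) = X 1 * X 1 ^ 1 - X 0 * X 0 ^ 2 := by ring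
            rw [this]
            exact Ideal.sub_mem _ (Ideal.mul_mem_left _ _ hy) (Ideal.mul_mem_left _ _ hx)
          · exact neg_mem (Ideal.mul_mem_left _ _ hx)
          · have : (C (2 : k) * X 1 : MvPolynomial (Fin 2) k) = C (2 : k) * X 1 ^ 1 := by ring
            rw [this]
            exact Ideal.mul_mem_left _ _ hy
        · rw [Ideal.span_le]
          have hg2 : (-(C (3 : k) * X 0 ^ 2) : MvPolynomial (Fin 2) k) ∈
              Ideal.span ({X 1 ^ 2 - X 0 ^ 3, -(C (3 : k) * X 0 ^ 2), C (2 : k) * X 1} : Set (MvPolynomial (Fin 2) k)) :=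
            Ideal.subset_span (by simp)
          have hg3 : (C (2 : k) * X 1 : MvPolynomial (Fin 2) k) ∈
              Ideal.span ({X 1 ^ 2 - X 0 ^ 3, -(C (3 : k) * X 0 ^ 2), C (2 : k) * X 1} : Set (MvPolynomial (Fin 2) k)) :=
            Ideal.subset_span (by simp)
          have hy : (X 1 : MvPolynomial (Fin 2) k) ∈
              Ideal.span ({X 1 ^ 2 - X 0 ^ 3, -(C (3 : k) * X 0 ^ 2), C (2 : k) * X 1} : Set (MvPolynomial (Fin 2) k)) := by
            have := Ideal.mul_mem_left _ (C ((2 : k)⁻¹)) hg3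
            rwa [← mul_assoc, ← C_mul, inv_mul_cancel₀ (h2ne hp2), C_1, one_mul] at this
          have hx : (X 0 ^ 2 : MvPolynomial (Fin 2) k) ∈
              Ideal.span ({X 1 ^ 2 - X 0 ^ 3, -(C (3 : k) * X 0 ^ 2), C (2 : k) * X 1} : Set (MvPolynomial (Fin 2) k)) := by
            have := Ideal.mul_mem_left _ (C ((3 : k)⁻¹)) (neg_mem hg2)
            rwa [neg_neg, ← mul_assoc, ← C_mul, inv_mul_cancel₀ (h3ne hp3), C_1, one_mul] at this
          rintro _ (rfl | rfl)
          · exact hx
          · rw [pow_one]; exact hy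
      rw [hI, Groth.Agent.Helper28.PlaneQuot.finrank_quot k 2 1]

end Groth.Agent.S19176
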