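import Groth.Statements.S19177
import Mathlib


set_option autoImplicit false
universe u
open CAlg

namespace Groth.Agent.S19177

/-- Let S → R be a homomorphism of commutative rings making R a finitely generated projective S-module
of rank 2 at every prime of S (the affine form of a finite locally free morphism of degree 2). Then
the cokernel of the (injective) structure map S → R, the S-module R/S, is a projective S-module of
rank 1 at every prime of S (locally free of rank 1). -/
theorem result
    (S R : Type u) [CommRing S] [CommRing R] [Algebra S R] [Module.Finite S R] [Module.Projective S R]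
    (h2 : ∀ p : PrimeSpectrum S, Module.rankAtStalk (R := S) R p = 2) :
    Module.Projective S (R ⧸ LinearMap.range (Algebra.linearMap S R)) ∧
      ∀ p : PrimeSpectrum S,
        Module.rankAtStalk (R := S) (R ⧸ LinearMap.range (Algebra.linearMap S R)) p = 1 := by
  classical
  obtain ⟨n, f, g, hf, hg, hfg⟩ := Module.Finite.exists_comp_eq_id_of_projective S R
  set c : Fin n → S := g 1 with hc
  have h1 : (1 : R) = ∑ i, c i • f (Pi.single i 1) := by
    have h := LinearMap.congr_fun hfg (1 : R)
    simp only [LinearMap.comp_apply, LinearMap.id_apply] at h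
    rw [← h]
    conv_lhs => rw [← hc, show c = ∑ i, c i • (Pi.single i 1 : Fin n → S) from by
      ext j; simp [Finset.sum_apply, Pi.single_apply]]
    simp only [map_sum, map_smul]
  have htop : Ideal.span (Set.range c) = ⊤ := by
    by_contra hne
    obtain ⟨𝔪, h𝔪, hle⟩ := Ideal.exists_le_maximal _ hne
    have hmem : (1 : R) ∈ (𝔪 • ⊤ : Submodule S R) := by
      rw [h1]
      refine Submodule.sum_mem _ (fun i _ => ?_)
      exact Submodule.smul_mem_smul (hle (Ideal.subset_span ⟨i, rfl⟩)) trivial
    have hall : (⊤ : Submodule S R) ≤ 𝔪 • ⊤ := by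
      intro x _
      have : x = x • (1 : R) := by simp
      rw [this]
      -- x • 1 with x : R acting on R; use ideal structure
      have h2 : ∀ y ∈ (𝔪 • ⊤ : Submodule S R), x * y ∈ (𝔪 • ⊤ : Submodule S R) := by
        intro y hy
        refine Submodule.smul_induction_on hy ?_ ?_
        · intro a ha z _
          rw [mul_smul_comm]
          exact Submodule.smul_mem_smul ha trivial
        · intro y z hy hz
          rw [mul_add]; exact Submodule.add_mem _ hy hz
      simpa using h2 1 hmem
    obtain ⟨r, hr1, hr2⟩ := Submodule.exists_sub_one_mem_and_smul_eq_zero_of_fg_of_le_smul 𝔪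
      (⊤ : Submodule S R) Module.Finite.fg_top hall
    have hr : r ∉ 𝔪 := by
      intro hr
      have : (1 : S) ∈ 𝔪 := by
        have := 𝔪.sub_mem hr hr1
        simpa using this
      exact h𝔪.ne_top ((Ideal.eq_top_iff_one _).mpr this)
    have hp := h2 ⟨𝔪, h𝔪.isPrime⟩
    have hzero : Module.rankAtStalk (R := S) R ⟨𝔪, h𝔪.isPrime⟩ = 0 := by
      rw [Module.rankAtStalk_eq_zero_iff_notMem_support, Module.notMem_support_iff,
        LocalizedModule.subsingleton_iff]
      intro m
      exact ⟨r, hr, hr2 m trivial⟩
    rw [hzero] at hp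
    exact absurd hp (by norm_num)
  obtain ⟨a, ha⟩ := (Ideal.mem_span_range_iff_exists_fun).mp
    ((Ideal.eq_top_iff_one _).mp htop)
  -- the retraction
  let ρ : R →ₗ[S] S := (∑ i, a i • (LinearMap.proj i : (Fin n → S) →ₗ[S] S)) ∘ₗ g
  have hρ1 : ρ 1 = 1 := by
    simp only [ρ, LinearMap.comp_apply, LinearMap.sum_apply, LinearMap.smul_apply,
      LinearMap.proj_apply, smul_eq_mul]
    exact ha
  let ι : S →ₗ[S] R := Algebra.linearMap S R
  have hρι : ∀ s : S, ρ (ι s) = s := by
    intro s
    have : ι s = s • (1 : R) := by simp [ι, Algebra.smul_def]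
    rw [this, map_smul, hρ1, smul_eq_mul, mul_one]
  set N := LinearMap.range (Algebra.linearMap S R) with hN
  let τ : R →ₗ[S] R := LinearMap.id - ι ∘ₗ ρ
  have hτN : N ≤ LinearMap.ker τ := by
    rintro _ ⟨s, rfl⟩
    simp only [LinearMap.mem_ker, τ, LinearMap.sub_apply, LinearMap.id_apply, LinearMap.comp_apply]
    rw [show (Algebra.linearMap S R) s = ι s from rfl, hρι, sub_self]
  let σ : (R ⧸ N) →ₗ[S] R := N.liftQ τ hτN
  have hπσ : N.mkQ ∘ₗ σ = LinearMap.id := by
    apply Submodule.linearMap_qext
    ext x
    simp only [LinearMap.comp_apply, Submodule.mkQ_apply, LinearMap.id_apply, σ,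
      Submodule.liftQ_apply, τ, LinearMap.sub_apply, Submodule.Quotient.mk_sub]
    rw [sub_eq_self, Submodule.Quotient.mk_eq_zero]
    exact ⟨ρ x, rfl⟩
  have hproj : Module.Projective S (R ⧸ N) := Module.Projective.of_split σ N.mkQ hπσ
  refine ⟨hproj, ?_⟩
  have hρσ : ∀ q, ρ (σ q) = 0 := by
    intro q
    obtain ⟨x, rfl⟩ := N.mkQ_surjective q
    simp only [σ, Submodule.mkQ_apply, Submodule.liftQ_apply, τ, LinearMap.sub_apply,
      LinearMap.id_apply, LinearMap.comp_apply, map_sub, hρι, sub_self]
  let e : R ≃ₗ[S] S × (R ⧸ N) :=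
    { toFun := fun x => (ρ x, N.mkQ x)
      map_add' := fun x y => by simp
      map_smul' := fun s x => by simp
      invFun := fun z => ι z.1 + σ z.2
      left_inv := fun x => by
        simp only [σ, Submodule.mkQ_apply, Submodule.liftQ_apply, τ, LinearMap.sub_apply,
          LinearMap.id_apply, LinearMap.comp_apply]
        abel
      right_inv := fun z => by
        obtain ⟨s, q⟩ := z
        have h3 : N.mkQ (σ q) = q := LinearMap.congr_fun hπσ q
        have h4 : N.mkQ (ι s) = 0 := by
          rw [Submodule.mkQ_apply, Submodule.Quotient.mk_eq_zero]; exact ⟨s, rfl⟩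
        simp only [map_add, hρι, hρσ, add_zero, h3, h4, zero_add] }
  haveI : Module.Finite S (R ⧸ N) := inferInstance
  haveI : Module.Flat S (R ⧸ N) := inferInstance
  intro p
  haveI : Nontrivial S := PrimeSpectrum.nonempty_iff_nontrivial.mp ⟨p⟩
  have h5 := congrFun (Module.rankAtStalk_eq_of_equiv e) p
  rw [Module.rankAtStalk_prod, h2 p, Pi.add_apply, Module.rankAtStalk_self, Pi.one_apply] at h5
  omega


end Groth.Agent.S19177
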