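import Groth.Statements.S19178
import Mathlib
open MvPolynomial

set_option autoImplicit false
universe u
open Curves

namespace Groth.Agent.S19178

/-- For every field k and every choice of coefficients a₁, a₂, a₃, a₄, a₆ in k, the homogeneous
Weierstrass cubic Y²Z + a₁XYZ + a₃YZ² − (X³ + a₂X²Z + a₄XZ² + a₆Z³) is an irreducible polynomial in
k[X, Y, Z]. Applied to all fields, this says every fibre of the Weierstrass family over the affine
space of coefficients is geometrically integral. -/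
theorem result (k : Type u) [Field k]
    (W : WeierstrassCurve k) :
    Irreducible (WeierstrassCurve.Projective.polynomial W) := by
  classical
  have hcub : ∀ {R : Type u} [CommRing R] [Nontrivial R] (c0 c1 c2 : R),
      let Q : Polynomial R := Polynomial.X ^ 3 + Polynomial.C c2 * Polynomial.X ^ 2
        + Polynomial.C c1 * Polynomial.X + Polynomial.C c0
      Q.natDegree = 3 ∧ Q.Monic ∧ Q.coeff 0 = c0 ∧ Q.coeff 1 = c1 ∧ Q.coeff 2 = c2 := by
    intro R _ _ c0 c1 c2 Q
    refine ⟨?_, ?_, ?_, ?_, ?_⟩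
    · simp only [Q]; compute_degree!
    · simp only [Q]; monicity!
    · simp [Q, Polynomial.coeff_X, Polynomial.coeff_X_pow, Polynomial.coeff_C]
    · simp [Q, Polynomial.coeff_X, Polynomial.coeff_X_pow, Polynomial.coeff_C]
    · simp [Q, Polynomial.coeff_X, Polynomial.coeff_X_pow, Polynomial.coeff_C]
  have irrQ : Irreducible ((Polynomial.X ^ 3 + Polynomial.C (C W.a₂ * X 1) * Polynomial.X ^ 2
      + Polynomial.C (-(C W.a₁ * X 0 * X 1) + C W.a₄ * X 1 ^ 2) * Polynomial.X
      + Polynomial.C (-(X 0 ^ 2 * X 1 + C W.a₃ * X 0 * X 1 ^ 2) + C W.a₆ * X 1 ^ 3)) :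
      Polynomial (MvPolynomial (Fin 2) k)) := by
    obtain ⟨hdeg, hmon, hc0, hc1, hc2⟩ := hcub (R := MvPolynomial (Fin 2) k)
      (-(X 0 ^ 2 * X 1 + C W.a₃ * X 0 * X 1 ^ 2) + C W.a₆ * X 1 ^ 3)
      (-(C W.a₁ * X 0 * X 1) + C W.a₄ * X 1 ^ 2) (C W.a₂ * X 1)
    set Q : Polynomial (MvPolynomial (Fin 2) k) := (Polynomial.X ^ 3 + Polynomial.C (C W.a₂ * X 1) * Polynomial.X ^ 2
        + Polynomial.C (-(C W.a₁ * X 0 * X 1) + C W.a₄ * X 1 ^ 2) * Polynomial.X
        + Polynomial.C (-(X 0 ^ 2 * X 1 + C W.a₃ * X 0 * X 1 ^ 2) + C W.a₆ * X 1 ^ 3)) with hQ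
    have hprime : (Ideal.span {(X 1 : MvPolynomial (Fin 2) k)}).IsPrime := by
      rw [Ideal.span_singleton_prime (MvPolynomial.X_ne_zero _)]
      exact MvPolynomial.X_prime
    have hE : Q.IsEisensteinAt (Ideal.span {(X 1 : MvPolynomial (Fin 2) k)}) := by
      refine hmon.isEisensteinAt_of_mem_of_notMem hprime.ne_top ?_ ?_
      · intro n hn
        rw [hdeg] at hn
        interval_cases n
        · rw [hc0, Ideal.mem_span_singleton]
          exact ⟨-(X 0 ^ 2 + C W.a₃ * X 0 * X 1) + C W.a₆ * X 1 ^ 2, by ring⟩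
        · rw [hc1, Ideal.mem_span_singleton]
          exact ⟨-(C W.a₁ * X 0) + C W.a₄ * X 1, by ring⟩
        · rw [hc2, Ideal.mem_span_singleton]
          exact ⟨C W.a₂, by ring⟩
      · rw [hc0, Ideal.span_singleton_pow, Ideal.mem_span_singleton]
        rintro ⟨c, hc⟩
        have h2 : -(X 0 ^ 2 + C W.a₃ * X 0 * X 1) + C W.a₆ * X 1 ^ 2 = X 1 * c := by
          have hX : (X 1 : MvPolynomial (Fin 2) k) ≠ 0 := MvPolynomial.X_ne_zero _
          apply mul_left_cancel₀ hX
          rw [← mul_assoc, ← pow_two, ← hc]; ring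
        have := congrArg (MvPolynomial.eval (fun i : Fin 2 => if i = 0 then (1 : k) else 0)) h2
        simp at this
    exact hE.irreducible hprime hmon.isPrimitive (by rw [hdeg]; norm_num)
  have hE : (MvPolynomial.finSuccEquiv k 2) (WeierstrassCurve.Projective.polynomial W) =
      -(Polynomial.X ^ 3 + Polynomial.C (C W.a₂ * X 1) * Polynomial.X ^ 2
        + Polynomial.C (-(C W.a₁ * X 0 * X 1) + C W.a₄ * X 1 ^ 2) * Polynomial.X
        + Polynomial.C (-(X 0 ^ 2 * X 1 + C W.a₃ * X 0 * X 1 ^ 2) + C W.a₆ * X 1 ^ 3)) := by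
    have h1 : (MvPolynomial.finSuccEquiv k 2) (X 1) = Polynomial.C (X 0) :=
      MvPolynomial.finSuccEquiv_X_succ (j := (0 : Fin 2))
    have h2 : (MvPolynomial.finSuccEquiv k 2) (X 2) = Polynomial.C (X 1) :=
      MvPolynomial.finSuccEquiv_X_succ (j := (1 : Fin 2))
    have h0 : (MvPolynomial.finSuccEquiv k 2) (X 0) = Polynomial.X :=
      MvPolynomial.finSuccEquiv_X_zero
    have hc : ∀ a : k, (MvPolynomial.finSuccEquiv k 2) (C a) = Polynomial.C (C a) := by
      intro a
      have := (MvPolynomial.finSuccEquiv k 2).commutes a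
      rw [MvPolynomial.algebraMap_eq] at this
      rw [this, Polynomial.algebraMap_apply, MvPolynomial.algebraMap_eq]
    rw [WeierstrassCurve.Projective.polynomial]
    simp only [map_sub, map_add, map_mul, map_pow, h0, h1, h2, hc]
    simp only [Polynomial.C_add, Polynomial.C_mul, Polynomial.C_neg, Polynomial.C_pow]
    ring
  have h3 : Irreducible ((MvPolynomial.finSuccEquiv k 2) (WeierstrassCurve.Projective.polynomial W)) := by
    rw [hE]
    exact (Associated.neg_right (Associated.refl _)).irreducible irrQ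
  exact (MulEquiv.irreducible_iff (MvPolynomial.finSuccEquiv k 2).toMulEquiv).mp h3

end Groth.Agent.S19178
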