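import Groth.Statements.S19182
import Mathlib


set_option autoImplicit false
universe u
open CAlg

namespace Groth.Agent.S19182

open MvPolynomial in
/-- Let R be a commutative ring and a₁, a₂ ∈ R. The two affine charts of the blow-up of the plane curve
y² + a₁xy = x³ + a₂x² at the section x = y = 0, with coordinate rings R[y, α]/(1 + a₁α − yα³ − a₂α²)
and R[x, β]/(β² + a₁β − x − a₂) (variables indexed 0 and 1 in this order), are smooth R-algebras
(formally smooth of finite presentation). This is the local computation behind the statement that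
the blow-up of a Weierstrass curve along a section through its singular locus is a smooth proper
curve of genus 0. -/
theorem result (R : Type u) [CommRing R] (a₁ a₂ : R) :
    Algebra.Smooth R (MvPolynomial (Fin 2) R ⧸
      Ideal.span ({1 + C a₁ * X 1 - X 0 * X 1 ^ 3 - C a₂ * X 1 ^ 2} : Set (MvPolynomial (Fin 2) R))) ∧
    Algebra.Smooth R (MvPolynomial (Fin 2) R ⧸
      Ideal.span ({X 1 ^ 2 + C a₁ * X 1 - X 0 - C a₂} : Set (MvPolynomial (Fin 2) R))) := by
  classical
  constructor
  · -- first chart: isomorphic to the Laurent polynomial ring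
    set rel : MvPolynomial (Fin 2) R := 1 + C a₁ * X 1 - X 0 * X 1 ^ 3 - C a₂ * X 1 ^ 2 with hrel
    set J : Ideal (MvPolynomial (Fin 2) R) := Ideal.span {rel} with hJ
    let L := Localization.Away (Polynomial.X : Polynomial R)
    let t : L := algebraMap (Polynomial R) L Polynomial.X
    let ti : L := IsLocalization.Away.invSelf (Polynomial.X : Polynomial R)
    have hti : t * ti = 1 := IsLocalization.Away.mul_invSelf _
    let P : Polynomial R := 1 + Polynomial.C a₁ * Polynomial.X - Polynomial.C a₂ * Polynomial.X ^ 2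
    let φ : MvPolynomial (Fin 2) R →ₐ[R] L :=
      MvPolynomial.aeval ![algebraMap (Polynomial R) L P * ti ^ 3, t]
    have hφ0 : φ (X 0) = algebraMap (Polynomial R) L P * ti ^ 3 := by simp [φ]
    have hφ1 : φ (X 1) = t := by simp [φ]
    have hφC : ∀ r : R, φ (C r) = algebraMap (Polynomial R) L (Polynomial.C r) := by
      intro r
      rw [show (C r : MvPolynomial (Fin 2) R) = algebraMap R _ r from rfl, AlgHom.commutes,
        IsScalarTower.algebraMap_apply R (Polynomial R) L]
      rfl
    have hφrel : φ rel = 0 := by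
      simp only [hrel, map_sub, map_add, map_mul, map_pow, map_one, hφ0, hφ1, hφC]
      have hP : algebraMap (Polynomial R) L P = 1 + algebraMap (Polynomial R) L (Polynomial.C a₁) * t -
          algebraMap (Polynomial R) L (Polynomial.C a₂) * t ^ 2 := by
        simp only [P, t, map_sub, map_add, map_mul, map_pow, map_one]
      have h3 : ti ^ 3 * t ^ 3 = 1 := by rw [← mul_pow, mul_comm, hti, one_pow]
      rw [mul_assoc, h3, mul_one, hP]
      ring
    let φ' : (MvPolynomial (Fin 2) R ⧸ J) →ₐ[R] L := Ideal.Quotient.liftₐ J φ (by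
      intro a ha
      rw [hJ, Ideal.mem_span_singleton] at ha
      obtain ⟨b, rfl⟩ := ha
      rw [map_mul, hφrel, zero_mul])
    let x1 : MvPolynomial (Fin 2) R ⧸ J := Ideal.Quotient.mk J (X 1)
    let x0 : MvPolynomial (Fin 2) R ⧸ J := Ideal.Quotient.mk J (X 0)
    let cc : R → MvPolynomial (Fin 2) R ⧸ J := fun r => Ideal.Quotient.mk J (C r)
    let u : MvPolynomial (Fin 2) R ⧸ J := x0 * x1 ^ 2 + cc a₂ * x1 - cc a₁
    have hrel0 : (1 : MvPolynomial (Fin 2) R ⧸ J) + cc a₁ * x1 - x0 * x1 ^ 3 - cc a₂ * x1 ^ 2 = 0 := by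
      have : Ideal.Quotient.mk J rel = 0 :=
        Ideal.Quotient.eq_zero_iff_mem.mpr (Ideal.subset_span rfl)
      simpa [hrel, x0, x1, cc] using this
    have hu : x1 * u = 1 := by
      have : x1 * u = 1 - ((1 : MvPolynomial (Fin 2) R ⧸ J) + cc a₁ * x1 - x0 * x1 ^ 3 - cc a₂ * x1 ^ 2) := by
        simp only [u]; ring
      rw [this, hrel0, sub_zero]
    let ψ0 : Polynomial R →ₐ[R] (MvPolynomial (Fin 2) R ⧸ J) := Polynomial.aeval x1
    have hψ0 : ∀ y : Submonoid.powers (Polynomial.X : Polynomial R), IsUnit (ψ0 y) := by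
      rintro ⟨_, n, rfl⟩
      simp only [ψ0, map_pow, Polynomial.aeval_X]
      exact (IsUnit.of_mul_eq_one _ hu).pow n
    let ψ : L →ₐ[R] (MvPolynomial (Fin 2) R ⧸ J) := IsLocalization.liftAlgHom hψ0
    have hψalg : ∀ q : Polynomial R, ψ (algebraMap (Polynomial R) L q) = ψ0 q := by
      intro q
      simp only [ψ, IsLocalization.coe_liftAlgHom, IsLocalization.lift_eq]
      rfl
    have hψt : ψ t = x1 := by
      rw [hψalg]; simp [ψ0]
    have hψti : ψ ti = u := by
      have h1 : ψ t * ψ ti = 1 := by rw [← map_mul, hti, map_one]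
      rw [hψt] at h1
      calc ψ ti = (x1 * u) * ψ ti := by rw [hu, one_mul]
        _ = u * (x1 * ψ ti) := by ring
        _ = u := by rw [h1, mul_one]
    have hψC : ∀ r : R, ψ0 (Polynomial.C r) = cc r := by
      intro r
      simp only [ψ0, Polynomial.aeval_C, cc]
      rfl
    have h12 : ψ.comp φ' = AlgHom.id R _ := by
      apply Ideal.Quotient.algHom_ext
      apply MvPolynomial.algHom_ext
      intro i
      fin_cases i
      · simp only [AlgHom.coe_comp, Function.comp_apply, Ideal.Quotient.mkₐ_eq_mk, AlgHom.id_comp,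
          Fin.zero_eta, φ']
        rw [Ideal.Quotient.liftₐ_apply, Ideal.Quotient.lift_mk]
        show ψ (φ (X 0)) = x0
        rw [hφ0, map_mul, map_pow, hψti, hψalg]
        simp only [P, ψ0, map_sub, map_add, map_mul, map_pow, map_one, Polynomial.aeval_X,
          Polynomial.aeval_C]
        have e1 : ∀ r : R, algebraMap R (MvPolynomial (Fin 2) R ⧸ J) r = cc r := fun r => rfl
        rw [e1, e1]
        have hrel1 : (1 : MvPolynomial (Fin 2) R ⧸ J) + cc a₁ * x1 - cc a₂ * x1 ^ 2 = x0 * x1 ^ 3 := by
          have := hrel0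
          rw [sub_eq_zero] at this
          rw [← sub_eq_zero]
          have h2 := hrel0
          calc (1 : MvPolynomial (Fin 2) R ⧸ J) + cc a₁ * x1 - cc a₂ * x1 ^ 2 - x0 * x1 ^ 3
              = 1 + cc a₁ * x1 - x0 * x1 ^ 3 - cc a₂ * x1 ^ 2 := by ring
            _ = 0 := h2
        rw [hrel1]
        calc x0 * x1 ^ 3 * u ^ 3 = x0 * (x1 * u) ^ 3 := by ring
          _ = x0 := by rw [hu, one_pow, mul_one]
      · simp only [AlgHom.coe_comp, Function.comp_apply, Ideal.Quotient.mkₐ_eq_mk, AlgHom.id_comp,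
          Fin.mk_one, φ']
        rw [Ideal.Quotient.liftₐ_apply, Ideal.Quotient.lift_mk]
        show ψ (φ (X 1)) = x1
        rw [hφ1, hψt]
    have h21 : φ'.comp ψ = AlgHom.id R _ := by
      apply AlgHom.coe_ringHom_injective
      apply IsLocalization.ringHom_ext (Submonoid.powers (Polynomial.X : Polynomial R))
      apply Polynomial.ringHom_ext
      · intro r
        simp only [AlgHom.coe_ringHom_injective.eq_iff, RingHom.comp_apply, AlgHom.coe_toRingHom,
          AlgHom.comp_apply, AlgHom.id_apply, hψalg, hψC, cc]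
        show φ' (Ideal.Quotient.mk J (C r)) = _
        simp only [φ']
        rw [Ideal.Quotient.liftₐ_apply, Ideal.Quotient.lift_mk]
        exact hφC r
      · simp only [RingHom.comp_apply, AlgHom.coe_toRingHom, AlgHom.comp_apply, AlgHom.id_apply]
        show φ' (ψ t) = t
        rw [hψt]
        simp only [φ', x1]
        rw [Ideal.Quotient.liftₐ_apply, Ideal.Quotient.lift_mk]
        exact hφ1
    let e : L ≃ₐ[R] (MvPolynomial (Fin 2) R ⧸ J) := AlgEquiv.ofAlgHom ψ φ' h12 h21
    haveI : Algebra.FinitePresentation (Polynomial R) L :=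
      IsLocalization.Away.finitePresentation (Polynomial.X : Polynomial R)
    haveI : Algebra.FinitePresentation R L :=
      Algebra.FinitePresentation.trans R (Polynomial R) L
    haveI : Algebra.Smooth R L := {}
    exact Algebra.Smooth.of_equiv e
  · -- second chart: isomorphic to the polynomial ring
    set rel : MvPolynomial (Fin 2) R := X 1 ^ 2 + C a₁ * X 1 - X 0 - C a₂ with hrel
    set J : Ideal (MvPolynomial (Fin 2) R) := Ideal.span {rel} with hJ
    let Q : Polynomial R := Polynomial.X ^ 2 + Polynomial.C a₁ * Polynomial.X - Polynomial.C a₂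
    let φ : MvPolynomial (Fin 2) R →ₐ[R] Polynomial R := MvPolynomial.aeval ![Q, Polynomial.X]
    have hφ0 : φ (X 0) = Q := by simp [φ]
    have hφ1 : φ (X 1) = Polynomial.X := by simp [φ]
    have hφC : ∀ r : R, φ (C r) = Polynomial.C r := by
      intro r
      rw [show (C r : MvPolynomial (Fin 2) R) = algebraMap R _ r from rfl, AlgHom.commutes]
      rfl
    have hφrel : φ rel = 0 := by
      simp only [hrel, map_sub, map_add, map_mul, map_pow, hφ0, hφ1, hφC, Q]
      ring
    let φ' : (MvPolynomial (Fin 2) R ⧸ J) →ₐ[R] Polynomial R := Ideal.Quotient.liftₐ J φ (by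
      intro a ha
      rw [hJ, Ideal.mem_span_singleton] at ha
      obtain ⟨b, rfl⟩ := ha
      rw [map_mul, hφrel, zero_mul])
    let x1 : MvPolynomial (Fin 2) R ⧸ J := Ideal.Quotient.mk J (X 1)
    let x0 : MvPolynomial (Fin 2) R ⧸ J := Ideal.Quotient.mk J (X 0)
    let cc : R → MvPolynomial (Fin 2) R ⧸ J := fun r => Ideal.Quotient.mk J (C r)
    have hrel0 : x1 ^ 2 + cc a₁ * x1 - x0 - cc a₂ = 0 := by
      have : Ideal.Quotient.mk J rel = 0 :=
        Ideal.Quotient.eq_zero_iff_mem.mpr (Ideal.subset_span rfl)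
      simpa [hrel, x0, x1, cc] using this
    let ψ : Polynomial R →ₐ[R] (MvPolynomial (Fin 2) R ⧸ J) := Polynomial.aeval x1
    have h12 : ψ.comp φ' = AlgHom.id R _ := by
      apply Ideal.Quotient.algHom_ext
      apply MvPolynomial.algHom_ext
      intro i
      fin_cases i
      · simp only [AlgHom.coe_comp, Function.comp_apply, Ideal.Quotient.mkₐ_eq_mk, AlgHom.id_comp,
          Fin.zero_eta, φ']
        rw [Ideal.Quotient.liftₐ_apply, Ideal.Quotient.lift_mk]
        show ψ (φ (X 0)) = x0
        rw [hφ0]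
        simp only [Q, ψ, map_sub, map_add, map_mul, map_pow, Polynomial.aeval_X, Polynomial.aeval_C]
        have e1 : ∀ r : R, algebraMap R (MvPolynomial (Fin 2) R ⧸ J) r = cc r := fun r => rfl
        rw [e1, e1]
        have := hrel0
        rw [← sub_eq_zero]
        calc x1 ^ 2 + cc a₁ * x1 - cc a₂ - x0 = x1 ^ 2 + cc a₁ * x1 - x0 - cc a₂ := by ring
          _ = 0 := this
      · simp only [AlgHom.coe_comp, Function.comp_apply, Ideal.Quotient.mkₐ_eq_mk, AlgHom.id_comp,
          Fin.mk_one, φ']
        rw [Ideal.Quotient.liftₐ_apply, Ideal.Quotient.lift_mk]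
        show ψ (φ (X 1)) = x1
        rw [hφ1]
        simp [ψ]
    have h21 : φ'.comp ψ = AlgHom.id R _ := by
      apply Polynomial.algHom_ext
      simp only [AlgHom.comp_apply, AlgHom.id_apply, ψ, Polynomial.aeval_X, φ', x1]
      rw [Ideal.Quotient.liftₐ_apply, Ideal.Quotient.lift_mk]
      exact hφ1
    let e : Polynomial R ≃ₐ[R] (MvPolynomial (Fin 2) R ⧸ J) := AlgEquiv.ofAlgHom ψ φ' h12 h21
    haveI : Algebra.Smooth R (Polynomial R) := {}
    exact Algebra.Smooth.of_equiv e


end Groth.Agent.S19182
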