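import Groth.Statements.S19183
import Mathlib

set_option autoImplicit false
universe u
open CAlg

namespace Groth.Agent.S19183

/-- Let A be a non-zero commutative ring and f ∈ A a non-zero-divisor. The fibre product A ×_{A/(f)} A
of two copies of A over A/(f) — the A-submodule of A × A of pairs (x, y) with x − y ∈ (f), which is
the coordinate ring of two copies of Spec A glued along the Cartier divisor f = 0 — is a free
A-module of rank 2. (This is what makes the gluing of two copies of a curve along an effective
Cartier divisor finite locally free of degree 2 over the curve.) -/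
theorem result (A : Type u) [CommRing A] [Nontrivial A]
    (f : A) (hf : f ∈ nonZeroDivisors A) :
    Module.Free A (Submodule.comap (LinearMap.fst A A A - LinearMap.snd A A A) (Ideal.span ({f} : Set A))) ∧
      Module.finrank A (Submodule.comap (LinearMap.fst A A A - LinearMap.snd A A A) (Ideal.span ({f} : Set A))) = 2 := by
  set M := Submodule.comap (LinearMap.fst A A A - LinearMap.snd A A A) (Ideal.span ({f} : Set A)) with hM
  let φ : (A × A) →ₗ[A] M :=
    { toFun := fun p => ⟨(p.1 + f * p.2, p.1), by
        rw [hM, Submodule.mem_comap]
        simp only [LinearMap.sub_apply, LinearMap.fst_apply, LinearMap.snd_apply]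
        rw [Ideal.mem_span_singleton]
        exact ⟨p.2, by ring⟩⟩
      map_add' := by
        intro p q
        ext <;> simp <;> ring
      map_smul' := by
        intro c p
        ext <;> simp <;> ring }
  have hφ : Function.Bijective φ := by
    constructor
    · rw [injective_iff_map_eq_zero]
      rintro ⟨a, c⟩ h
      have h1 := congrArg (fun m : M => (m : A × A).2) h
      have h2 := congrArg (fun m : M => (m : A × A).1) h
      simp only [φ, LinearMap.coe_mk, AddHom.coe_mk] at h1 h2
      have ha : a = 0 := h1
      subst ha
      have hc : f * c = 0 := by simpa using h2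
      have : c = 0 := (mem_nonZeroDivisors_iff_left.1 hf) c hc
      subst this
      rfl
    · rintro ⟨⟨x, y⟩, hxy⟩
      rw [hM, Submodule.mem_comap] at hxy
      simp only [LinearMap.sub_apply, LinearMap.fst_apply, LinearMap.snd_apply] at hxy
      rw [Ideal.mem_span_singleton] at hxy
      obtain ⟨c, hc⟩ := hxy
      refine ⟨(y, c), ?_⟩
      ext
      · simp only [φ, LinearMap.coe_mk, AddHom.coe_mk]
        rw [← hc]; ring
      · simp only [φ, LinearMap.coe_mk, AddHom.coe_mk]
  let e : (A × A) ≃ₗ[A] M := LinearEquiv.ofBijective φ hφ
  refine ⟨Module.Free.of_equiv e, ?_⟩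
  rw [← LinearEquiv.finrank_eq e, Module.finrank_prod, Module.finrank_self]

end Groth.Agent.S19183
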