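import Groth.Statements.S19184
import Mathlib


set_option autoImplicit false
universe u
open CAlg

namespace Groth.Agent.S19184

open Polynomial in
/-- Let S be a commutative ring, a, b ∈ S, f = x² + ax + b ∈ S[x] and R = S[x]/(f), a free S-algebra of
rank 2. Let A ⊂ S[x] be the S-subalgebra of polynomials whose class in R lies in the image of S → R;
it is the fibre product S[x] ×_R S, the coordinate ring of the affine line over S with the degree-2
subscheme Spec R collapsed onto Spec S. Then A is a free S-module and S[x] is a finitely generated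
A-module. -/
theorem result (S : Type u) [CommRing S] (a b : S) :
    Module.Free S ((⊥ : Subalgebra S (S[X] ⧸ Ideal.span ({X ^ 2 + C a * X + C b} : Set S[X]))).comap
        (Ideal.Quotient.mkₐ S (Ideal.span ({X ^ 2 + C a * X + C b} : Set S[X])))) ∧
      Module.Finite ((⊥ : Subalgebra S (S[X] ⧸ Ideal.span ({X ^ 2 + C a * X + C b} : Set S[X]))).comap
        (Ideal.Quotient.mkₐ S (Ideal.span ({X ^ 2 + C a * X + C b} : Set S[X])))) S[X] := by
  classical
  set f : S[X] := X ^ 2 + C a * X + C b with hf
  set I : Ideal S[X] := Ideal.span {f} with hI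
  set A := (⊥ : Subalgebra S (S[X] ⧸ I)).comap (Ideal.Quotient.mkₐ S I) with hA
  have hmemA : ∀ g : S[X], g ∈ A ↔ ∃ (c : S) (q : S[X]), g = C c + f * q := by
    intro g
    rw [hA, Subalgebra.mem_comap, Algebra.mem_bot]
    constructor
    · rintro ⟨c, hc⟩
      have h1 : Ideal.Quotient.mk I (C c) = Ideal.Quotient.mk I g := hc
      rw [Ideal.Quotient.eq, hI, Ideal.mem_span_singleton] at h1
      obtain ⟨q, hq⟩ := h1
      refine ⟨c, -q, ?_⟩
      rw [mul_neg, ← hq]; ring
    · rintro ⟨c, q, rfl⟩
      refine ⟨c, ?_⟩
      show Ideal.Quotient.mk I (C c) = Ideal.Quotient.mk I (C c + f * q)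
      rw [Ideal.Quotient.eq, hI, Ideal.mem_span_singleton]
      exact ⟨-q, by ring⟩
  rcases subsingleton_or_nontrivial S with hS | hS
  · haveI : Subsingleton S[X] := inferInstance
    haveI : Subsingleton A := inferInstance
    haveI : Finite S[X] := Finite.of_subsingleton
    exact ⟨Module.Free.of_subsingleton S A, Module.Finite.of_finite⟩
  have hmonic : f.Monic := by
    rw [hf]
    monicity!
  have hdeg : f.degree = 2 := by
    rw [hf]
    compute_degree!
  constructor
  · -- freeness
    let Φ : (S × S[X]) →ₗ[S] A :=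
      { toFun := fun z => ⟨C z.1 + f * z.2, (hmemA _).mpr ⟨z.1, z.2, rfl⟩⟩
        map_add' := fun z w => by
          apply Subtype.ext
          simp only [Prod.fst_add, Prod.snd_add, map_add, Subalgebra.coe_add]
          ring
        map_smul' := fun s z => by
          apply Subtype.ext
          simp only [Prod.smul_fst, Prod.smul_snd, smul_eq_mul, map_mul, RingHom.id_apply,
            Subalgebra.coe_smul]
          rw [Polynomial.smul_eq_C_mul, Polynomial.smul_eq_C_mul]
          ring }
    have hinj : Function.Injective Φ := by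
      rw [← LinearMap.ker_eq_bot, LinearMap.ker_eq_bot']
      rintro ⟨c, q⟩ h
      have h0 : C c + f * q = 0 := congrArg Subtype.val h
      have h1 : (C c + f * q) %ₘ f = C c := by
        rw [Polynomial.add_modByMonic, (Polynomial.modByMonic_eq_zero_iff_dvd hmonic).mpr
          (dvd_mul_right f q), add_zero, Polynomial.modByMonic_eq_self_iff hmonic, hdeg]
        exact lt_of_le_of_lt Polynomial.degree_C_le (by norm_num)
      rw [h0, Polynomial.zero_modByMonic] at h1
      have hc : c = 0 := Polynomial.C_eq_zero.mp h1.symm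
      rw [hc, map_zero, zero_add] at h0
      have hq : q = 0 := (hmonic.mul_right_eq_zero_iff).mp h0
      rw [hc, hq]; rfl
    have hsurj : Function.Surjective Φ := by
      rintro ⟨g, hg⟩
      obtain ⟨c, q, rfl⟩ := (hmemA g).mp hg
      exact ⟨(c, q), rfl⟩
    exact Module.Free.of_equiv (LinearEquiv.ofBijective Φ ⟨hinj, hsurj⟩)
  · -- finiteness
    refine ⟨⟨{1, X}, ?_⟩⟩
    rw [eq_top_iff]
    intro g _
    have h1 := Polynomial.modByMonic_add_div g f
    have hlt : (g %ₘ f).degree ≤ 1 := by
      have := Polynomial.degree_modByMonic_lt g hmonic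
      rw [hdeg] at this
      exact Order.le_of_lt_succ this
    have h2 := Polynomial.eq_X_add_C_of_degree_le_one hlt
    set c0 := (g %ₘ f).coeff 0
    set c1 := (g %ₘ f).coeff 1
    let α : A := ⟨C c0 + f * (g /ₘ f), (hmemA _).mpr ⟨c0, _, rfl⟩⟩
    let β : A := ⟨C c1 + f * 0, (hmemA _).mpr ⟨c1, 0, rfl⟩⟩
    have hg : g = α • (1 : S[X]) + β • (X : S[X]) := by
      show g = (C c0 + f * (g /ₘ f)) * 1 + (C c1 + f * 0) * X
      conv_lhs => rw [← h1, h2]
      ring
    rw [hg]
    refine Submodule.add_mem _ (Submodule.smul_mem _ _ (Submodule.subset_span ?_))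
      (Submodule.smul_mem _ _ (Submodule.subset_span ?_))
    · simp
    · simp


end Groth.Agent.S19184
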