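import Groth.Statements.S19186
import Mathlib

set_option autoImplicit false
universe u
open OneMot

namespace Groth.Agent.S19186

/-- Let p and ℓ be distinct prime numbers, r and n natural numbers, and f : A → B a homomorphism of
abelian groups whose kernel and cokernel are annihilated by p^r (f a = 0 implies p^r • a = 0, and
every p^r • b lies in the image of f). Then f induces a bijection between the ℓ^n-torsion subgroups
of A and B and a bijection A/ℓ^n A → B/ℓ^n B. Spelled out without quotients: every ℓ^n-torsion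
element of B has exactly one ℓ^n-torsion preimage; an element of A whose image is an ℓ^n-multiple is
itself an ℓ^n-multiple; and every element of B is the sum of an image and an ℓ^n-multiple. -/
theorem result {A B : Type u} [AddCommGroup A] [AddCommGroup B] (f : A →+ B) (p ℓ r n : ℕ) (hp : p.Prime) (hl : ℓ.Prime) (hne : ℓ ≠ p) (hker : ∀ a : A, f a = 0 → p ^ r • a = 0) (hcoker : ∀ b : B, ∃ a : A, f a = p ^ r • b) : (∀ b : B, ℓ ^ n • b = 0 → ∃! a : A, ℓ ^ n • a = 0 ∧ f a = b) ∧ (∀ a : A, (∃ b' : B, f a = ℓ ^ n • b') → ∃ a' : A, a = ℓ ^ n • a') ∧ (∀ b : B, ∃ (a : A) (b' : B), b = f a + ℓ ^ n • b') := by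
  have hcop : Nat.Coprime p ℓ := (Nat.coprime_primes hp hl).2 (Ne.symm hne)
  have hcop1 : IsCoprime ((p ^ r : ℕ) : ℤ) ((ℓ ^ n : ℕ) : ℤ) :=
    Nat.isCoprime_iff_coprime.2 (Nat.Coprime.pow r n hcop)
  have hcop2 : IsCoprime ((p ^ (2 * r) : ℕ) : ℤ) ((ℓ ^ n : ℕ) : ℤ) :=
    Nat.isCoprime_iff_coprime.2 (Nat.Coprime.pow (2 * r) n hcop)
  obtain ⟨u, v, huv⟩ := hcop1
  obtain ⟨u', v', huv'⟩ := hcop2
  set P : ℤ := ((p ^ r : ℕ) : ℤ) with hP
  set L : ℤ := ((ℓ ^ n : ℕ) : ℤ) with hL
  have hPa : ∀ a : A, p ^ r • a = P • a := fun a => (natCast_zsmul a _).symm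
  have hPb : ∀ b : B, p ^ r • b = P • b := fun b => (natCast_zsmul b _).symm
  have hLa : ∀ a : A, ℓ ^ n • a = L • a := fun a => (natCast_zsmul a _).symm
  have hLb : ∀ b : B, ℓ ^ n • b = L • b := fun b => (natCast_zsmul b _).symm
  have hP2 : ((p ^ (2 * r) : ℕ) : ℤ) = P * P := by
    rw [hP]; push_cast; ring
  rw [hP2] at huv'
  simp only [hPa, hPb, hLa, hLb] at hker hcoker ⊢
  refine ⟨?_, ?_, ?_⟩
  · intro b hb
    obtain ⟨a0, ha0⟩ := hcoker b
    have hb1 : (u * P) • b = b := by
      have : (u * P + v * L) • b = b := by rw [huv, one_smul]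
      linear_combination (norm := module) this - v • hb
    have hfa1 : f (u • a0) = b := by
      rw [map_zsmul, ha0, ← mul_smul]; exact hb1
    have hker1 : P • (L • (u • a0)) = 0 := by
      apply hker
      rw [map_zsmul, hfa1, hb]
    refine ⟨(u * P) • (u • a0), ⟨?_, ?_⟩, ?_⟩
    · linear_combination (norm := module) u • hker1
    · rw [map_zsmul, hfa1, hb1]
    · rintro a' ⟨ha'1, ha'2⟩
      have hd : f (a' - (u * P) • (u • a0)) = 0 := by
        rw [map_sub, ha'2, map_zsmul, hfa1, hb1, sub_self]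
      have hd1 := hker _ hd
      have hd2 : L • (a' - (u * P) • (u • a0)) = 0 := by
        linear_combination (norm := module) ha'1 - u • hker1
      have : (u * P + v * L) • (a' - (u * P) • (u • a0)) = 0 := by
        linear_combination (norm := module) u • hd1 + v • hd2
      rw [huv, one_smul, sub_eq_zero] at this
      exact this
  · rintro a ⟨b', hb'⟩
    obtain ⟨a0, ha0⟩ := hcoker b'
    have h1 : f (P • a - L • a0) = 0 := by
      rw [map_sub, map_zsmul, map_zsmul, hb', ha0, smul_comm, sub_self]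
    have h2 := hker _ h1
    refine ⟨u' • (P • a0) + v' • a, ?_⟩
    have : (u' * (P * P) + v' * L) • a = a := by rw [huv', one_smul]
    linear_combination (norm := module) (-1 : ℤ) • this + u' • h2
  · intro b
    obtain ⟨a0, ha0⟩ := hcoker b
    refine ⟨u • a0, v • b, ?_⟩
    have : (u * P + v * L) • b = b := by rw [huv, one_smul]
    rw [map_zsmul, ha0]
    linear_combination (norm := module) (-1 : ℤ) • this

end Groth.Agent.S19186
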