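import Groth.Statements.S19187
import Mathlib

set_option autoImplicit false
universe u
open Cpct

namespace Groth.Agent.S19187

open CategoryTheory AlgebraicGeometry in
/-- Let k be a field, X̄ and Ȳ schemes proper over Spec k, j : X → X̄ an open immersion with dense image
and v : Y → Ȳ an open immersion (compactifications of X and Y), f : X → Y a proper morphism and f̄ :
X̄ → Ȳ a morphism over Spec k with f̄ ∘ j = v ∘ f. Then the preimage under f̄ of the open v(Y) is
the open j(X); equivalently, the complement of X in X̄ is the preimage of the complement of Y in Ȳ.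
(The base field k is arbitrary: no perfectness assumption is needed.) -/
theorem result {k : Type u} [Field k] {X Y Xb Yb : Scheme.{u}} (a : Xb ⟶ Spec (CommRingCat.of k)) (b : Yb ⟶ Spec (CommRingCat.of k)) [IsProper a] [IsProper b] (j : X ⟶ Xb) [IsOpenImmersion j] (hj : Dense (Set.range j.base)) (v : Y ⟶ Yb) [IsOpenImmersion v] (f : X ⟶ Y) [IsProper f] (fb : Xb ⟶ Yb) (hfb : fb ≫ b = a) (hsq : j ≫ fb = f ≫ v) : fb ⁻¹ᵁ v.opensRange = j.opensRange := by
  let j' : X ⟶ Limits.pullback fb v := Limits.pullback.lift j f hsq
  have h1 : j' ≫ Limits.pullback.fst fb v = j := Limits.pullback.lift_fst ..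
  have h2 : j' ≫ Limits.pullback.snd fb v = f := Limits.pullback.lift_snd ..
  haveI : IsSeparated fb := by
    haveI : IsSeparated (fb ≫ b) := by rw [hfb]; infer_instance
    exact IsSeparated.of_comp fb b
  haveI : IsProper j' := by
    haveI : IsProper (j' ≫ Limits.pullback.snd fb v) := by rw [h2]; infer_instance
    exact IsProper.of_comp j' (Limits.pullback.snd fb v)
  have hcl : IsClosed (Set.range j'.base) := j'.isClosedMap.isClosed_range
  have hpre : Set.range j'.base = (Limits.pullback.fst fb v).base ⁻¹' (Set.range j.base) := by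
    ext x
    constructor
    · rintro ⟨y, rfl⟩
      exact ⟨y, by rw [← h1]; rfl⟩
    · rintro ⟨y, hy⟩
      refine ⟨y, (Limits.pullback.fst fb v).isOpenEmbedding.injective ?_⟩
      rw [← hy, ← h1]
      rfl
  have hd : Dense (Set.range j'.base) := by
    rw [hpre]
    exact hj.preimage (Limits.pullback.fst fb v).isOpenEmbedding.isOpenMap
  have hsurj : Set.range j'.base = Set.univ := by
    rw [← hcl.closure_eq, hd.closure_eq]
  apply TopologicalSpace.Opens.ext
  show fb.base ⁻¹' (Set.range v.base) = Set.range j.base
  rw [← Scheme.Pullback.range_fst fb v]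
  have : Set.range j.base = (Limits.pullback.fst fb v).base '' (Set.range j'.base) := by
    rw [← Set.range_comp, ← h1]
    rfl
  rw [this, hsurj, Set.image_univ]

end Groth.Agent.S19187
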