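import Groth.Statements.S19190
import Mathlib


set_option autoImplicit false
universe w v u v' u'
open CategoryTheory CategoryTheory.Limits CategoryTheory.Pretriangulated CategoryTheory.Triangulated
open CohDer

namespace Groth.Agent.S19190

/-- Let `A` be a commutative ring, `S` a multiplicative subset of `A` and `T` an `A`-linear triangulated
category (octahedron axiom included; the shift functors are `A`-linear). Call an object of `T`
`S`-torsion when it lies in the smallest thick subcategory `U` of `T` (a property of objects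
containing zero, stable under shifts, extensions, isomorphisms and direct factors) containing every
cone of an endomorphism `f • 𝟙 X` with `f ∈ S`. Let `Q : T ⥤ E` exhibit `E` as the localization of
`T` at the morphisms whose cone lies in `U` (the Verdier quotient `T/U`), where `E` is preadditive
and `A`-linear and `Q` is `A`-linear. Then for all objects `X`, `Y` of `T` the `A`-linear map
`Hom_T(X, Y) → Hom_E(Q X, Q Y)` given by `Q` exhibits its target as the localization of `Hom_T(X,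
Y)` at `S`. Since `Q` is essentially surjective, this says that the comparison functor from `T/U` to
the category having the objects of `T` and morphism modules `Hom_T(X, Y) ⊗_A S⁻¹A` is an
equivalence. -/
theorem result
    {A : Type w} [CommRing A] (S : Submonoid A)
    {T : Type u} [Category.{v} T] [Preadditive T] [Linear A T] [HasZeroObject T] [HasShift T ℤ]
    [∀ n : ℤ, (shiftFunctor T n).Additive] [∀ n : ℤ, (shiftFunctor T n).Linear A]
    [Pretriangulated T] [IsTriangulated T]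
    (U : ObjectProperty T) [U.IsTriangulated] [U.IsClosedUnderIsomorphisms] [U.IsStableUnderRetracts]
    (hU : ∀ (X : T) (f : A), f ∈ S → ∀ (Z : T) (g : X ⟶ Z) (h : Z ⟶ X⟦(1 : ℤ)⟧),
      Triangle.mk (f • 𝟙 X) g h ∈ distTriang T → U Z)
    (hmin : ∀ (U' : ObjectProperty T) [U'.IsTriangulated] [U'.IsClosedUnderIsomorphisms]
      [U'.IsStableUnderRetracts],
      (∀ (X : T) (f : A), f ∈ S → ∀ (Z : T) (g : X ⟶ Z) (h : Z ⟶ X⟦(1 : ℤ)⟧),
        Triangle.mk (f • 𝟙 X) g h ∈ distTriang T → U' Z) → U ≤ U')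
    {E : Type u'} [Category.{v'} E] [Preadditive E] [Linear A E]
    (Q : T ⥤ E) [Q.Additive] [Q.Linear A] [Q.IsLocalization U.trW] (X Y : T) :
    IsLocalizedModule S (Q.mapLinearMap A : (X ⟶ Y) →ₗ[A] (Q.obj X ⟶ Q.obj Y)) := by
  classical
  -- the thick subcategory of objects killed by an element of S
  let V : ObjectProperty T := fun Z => ∃ s ∈ S, s • 𝟙 Z = 0
  haveI hVIso : V.IsClosedUnderIsomorphisms := ⟨by
    rintro Z Z' e ⟨s, hs, h⟩
    refine ⟨s, hs, ?_⟩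
    have : s • 𝟙 Z' = e.inv ≫ (s • 𝟙 Z) ≫ e.hom := by
      simp [Linear.smul_comp, Linear.comp_smul]
    rw [this, h]; simp⟩
  haveI hVZero : V.ContainsZero := by
    obtain ⟨Z0, hZ0⟩ := HasZeroObject.zero (C := T)
    exact ⟨⟨Z0, hZ0, 1, S.one_mem, hZ0.eq_of_src _ _⟩⟩
  haveI hVShift : V.IsStableUnderShift ℤ := ⟨fun n => ⟨by
    rintro Z ⟨s, hs, h⟩
    refine ⟨s, hs, ?_⟩
    have : s • 𝟙 (Z⟦n⟧) = (s • 𝟙 Z)⟦n⟧' := by
      rw [CategoryTheory.Functor.map_smul, CategoryTheory.Functor.map_id]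
    rw [this, h, Functor.map_zero]⟩⟩
  haveI hVExt : V.IsTriangulatedClosed₂ := ObjectProperty.IsTriangulatedClosed₂.mk' (by
    rintro Tr hTr ⟨s, hs, h1⟩ ⟨t, ht, h3⟩
    have h0 : (t • 𝟙 Tr.obj₂) ≫ Tr.mor₂ = 0 := by
      have : (t • 𝟙 Tr.obj₂) ≫ Tr.mor₂ = Tr.mor₂ ≫ (t • 𝟙 Tr.obj₃) := by
        simp [Linear.smul_comp, Linear.comp_smul]
      rw [this, h3, comp_zero]
    obtain ⟨k, hk⟩ := Triangle.coyoneda_exact₂ Tr hTr _ h0
    refine ⟨s * t, S.mul_mem hs ht, ?_⟩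
    have : (s * t) • 𝟙 Tr.obj₂ = k ≫ (s • 𝟙 Tr.obj₁) ≫ Tr.mor₁ := by
      rw [mul_smul, hk]
      simp [Linear.smul_comp, Linear.comp_smul]
    rw [this, h1]; simp)
  haveI hVTri : V.IsTriangulated := {}
  haveI hVRet : V.IsStableUnderRetracts := ⟨by
    rintro Z Z' r ⟨s, hs, h⟩
    refine ⟨s, hs, ?_⟩
    have : s • 𝟙 Z = r.i ≫ (s • 𝟙 Z') ≫ r.r := by
      simp [Linear.smul_comp, Linear.comp_smul]
    rw [this, h]; simp⟩
  have hVcone : ∀ (X : T) (f : A), f ∈ S → ∀ (Z : T) (g : X ⟶ Z) (h : Z ⟶ X⟦(1 : ℤ)⟧),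
      Triangle.mk (f • 𝟙 X) g h ∈ distTriang T → V Z := by
    intro X f hf Z g h mem
    refine ⟨f * f, S.mul_mem hf hf, ?_⟩
    have h12 : (f • 𝟙 X) ≫ g = 0 := comp_distTriang_mor_zero₁₂ _ mem
    have h31 : h ≫ (f • 𝟙 X)⟦(1 : ℤ)⟧' = 0 := comp_distTriang_mor_zero₃₁ _ mem
    have h0 : g ≫ (f • 𝟙 Z) = 0 := by
      have : g ≫ (f • 𝟙 Z) = (f • 𝟙 X) ≫ g := by
        simp [Linear.smul_comp, Linear.comp_smul]
      rw [this, h12]
    obtain ⟨k, hk⟩ := Triangle.yoneda_exact₃ _ mem (f • 𝟙 Z) h0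
    have hk' : f • 𝟙 Z = h ≫ k := hk
    have h31' : h ≫ (f • 𝟙 (X⟦(1 : ℤ)⟧)) = 0 := by
      have : f • 𝟙 (X⟦(1 : ℤ)⟧) = (f • 𝟙 X)⟦(1 : ℤ)⟧' := by
        rw [CategoryTheory.Functor.map_smul, CategoryTheory.Functor.map_id]
      rw [this, h31]
    have : (f * f) • 𝟙 Z = (h ≫ (f • 𝟙 (X⟦(1 : ℤ)⟧))) ≫ k := by
      rw [mul_smul, hk']
      simp [Linear.smul_comp, Linear.comp_smul]
    rw [this, h31', zero_comp]
  have hUV : U ≤ V := hmin V hVcone
  -- key lemma: a morphism in `trW` divides `s • 𝟙` for some `s ∈ S`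
  have key : ∀ {X' X : T} (w : X' ⟶ X), U.trW w → ∃ s ∈ S, ∃ g : X ⟶ X', g ≫ w = s • 𝟙 X := by
    intro X' X w hw
    obtain ⟨Z, a, b, mem, hZ⟩ := hw
    obtain ⟨s, hs, hsZ⟩ := hUV _ hZ
    have h0 : (s • 𝟙 X) ≫ a = 0 := by
      have : (s • 𝟙 X) ≫ a = a ≫ (s • 𝟙 Z) := by
        simp [Linear.smul_comp, Linear.comp_smul]
      rw [this, hsZ, comp_zero]
    obtain ⟨g, hg⟩ := Triangle.coyoneda_exact₂ _ mem (s • 𝟙 X) h0
    exact ⟨s, hs, g, hg.symm⟩
  have hinv : ∀ (X : T) (s : A), s ∈ S → IsIso (s • 𝟙 (Q.obj X)) := by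
    intro X s hs
    obtain ⟨Z, g, h, mem⟩ := distinguished_cocone_triangle (s • 𝟙 X)
    have hW : U.trW (s • 𝟙 X) := ⟨Z, g, h, mem, hU X s hs Z g h mem⟩
    have := Localization.inverts Q U.trW _ hW
    rwa [CategoryTheory.Functor.map_smul, CategoryTheory.Functor.map_id] at this
  refine ⟨?_, ?_, ?_⟩
  · rintro ⟨s, hs⟩
    haveI := hinv X s hs
    rw [Module.End.isUnit_iff]
    constructor
    · intro y y' hyy
      have h1 : (s • 𝟙 (Q.obj X)) ≫ y = (s • 𝟙 (Q.obj X)) ≫ y' := by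
        simpa [Linear.smul_comp, Module.algebraMap_end_apply] using hyy
      exact (cancel_epi _).1 h1
    · intro y
      refine ⟨inv (s • 𝟙 (Q.obj X)) ≫ y, ?_⟩
      have : s • (inv (s • 𝟙 (Q.obj X)) ≫ y) = ((s • 𝟙 (Q.obj X)) ≫ inv (s • 𝟙 (Q.obj X))) ≫ y := by
        simp only [Linear.smul_comp, Category.id_comp, Category.assoc]
      simpa [Module.algebraMap_end_apply] using this
  · intro y
    obtain ⟨φ, hφ⟩ := Localization.exists_rightFraction Q U.trW y
    obtain ⟨s, hs, g, hg⟩ := key φ.s φ.hs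
    refine ⟨(g ≫ φ.f, ⟨s, hs⟩), ?_⟩
    haveI := Localization.inverts Q U.trW _ φ.hs
    have hy : y = inv (Q.map φ.s) ≫ Q.map φ.f := hφ
    have h1 : s • inv (Q.map φ.s) = Q.map g := by
      apply (cancel_mono (Q.map φ.s)).1
      rw [Linear.smul_comp, IsIso.inv_hom_id, ← Q.map_comp, hg, Functor.map_smul, Q.map_id]
    show (s : A) • y = Q.map (g ≫ φ.f)
    rw [hy, ← Linear.smul_comp, h1, Q.map_comp]
  · intro f₁ f₂ h
    have h' : Q.map f₁ = Q.map f₂ := h
    rw [MorphismProperty.map_eq_iff_precomp Q U.trW] at h'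
    obtain ⟨X', w, hw, hww⟩ := h'
    obtain ⟨s, hs, g, hg⟩ := key w hw
    refine ⟨⟨s, hs⟩, ?_⟩
    show s • f₁ = s • f₂
    have e1 : s • f₁ = (s • 𝟙 X) ≫ f₁ := by simp [Linear.smul_comp]
    have e2 : s • f₂ = (s • 𝟙 X) ≫ f₂ := by simp [Linear.smul_comp]
    rw [e1, e2, ← hg, Category.assoc, Category.assoc, hww]


end Groth.Agent.S19190
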