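import Groth.Statements.S19191
import Mathlib
open ZeroObject

set_option autoImplicit false
universe w v u v' u'
open CategoryTheory CategoryTheory.Limits CategoryTheory.Pretriangulated CategoryTheory.Triangulated
open CohDer

namespace Groth.Agent.S19191

/-- Let `A` be a commutative ring, `T` an `A`-linear triangulated category (octahedron axiom included;
shift functors `A`-linear), `U` a thick subcategory of `T` (a property of objects containing zero,
stable under shifts, extensions, isomorphisms and direct factors), and `Q : T ⥤ E` a localization of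
`T` at the morphisms whose cone lies in `U` (the Verdier quotient `T/U`), where `E` is preadditive
and `A`-linear and `Q` is `A`-linear. For an object `X` of `T` the following two conditions are
equivalent: (i) `X` lies in `U`; (ii) for every maximal ideal `m` of `A` the image of `X` in the
category obtained from `T/U` by tensoring the morphism modules with `A_m` is zero, i.e. some element
of `A` outside `m` annihilates the identity of `Q X`. (The published statement also lists a third
equivalent condition, phrased with idempotent completions of the localized categories; it is not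
asserted here.) -/
theorem result
    {A : Type w} [CommRing A]
    {T : Type u} [Category.{v} T] [Preadditive T] [Linear A T] [HasZeroObject T] [HasShift T ℤ]
    [∀ n : ℤ, (shiftFunctor T n).Additive] [∀ n : ℤ, (shiftFunctor T n).Linear A]
    [Pretriangulated T] [IsTriangulated T]
    (U : ObjectProperty T) [U.IsTriangulated] [U.IsClosedUnderIsomorphisms] [U.IsStableUnderRetracts]
    {E : Type u'} [Category.{v'} E] [Preadditive E] [Linear A E]
    (Q : T ⥤ E) [Q.Additive] [Q.Linear A] [Q.IsLocalization U.trW] (X : T) :
    U X ↔ ∀ m : Ideal A, m.IsMaximal → ∃ s : A, s ∉ m ∧ s • 𝟙 (Q.obj X) = 0 := by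
  classical
  constructor
  · intro hX m hm
    refine ⟨1, (Ideal.ne_top_iff_one m).1 hm.ne_top, ?_⟩
    rw [one_smul]
    have h1 : U.trW (0 : (0 : T) ⟶ X) :=
      ObjectProperty.trW.mk (P := U) (contractible_distinguished₁ X) hX
    have h2 : IsIso (Q.map (0 : (0 : T) ⟶ X)) := Localization.inverts Q U.trW _ h1
    have h3 : IsZero (Q.obj (0 : T)) := Functor.map_isZero Q (isZero_zero T)
    have h4 : IsZero (Q.obj X) := h3.of_iso (asIso (Q.map (0 : (0 : T) ⟶ X))).symm
    exact h4.eq_of_src _ _
  · intro h
    -- the annihilator ideal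
    let I : Ideal A :=
      { carrier := {s | s • 𝟙 (Q.obj X) = 0}
        add_mem' := by
          intro a b ha hb
          simp only [Set.mem_ofPred_eq] at ha hb ⊢
          rw [add_smul, ha, hb, add_zero]
        zero_mem' := by simp
        smul_mem' := by
          intro c a ha
          simp only [Set.mem_ofPred_eq] at ha ⊢
          rw [smul_eq_mul, mul_smul, ha, smul_zero] }
    have hI : I = ⊤ := by
      by_contra hne
      obtain ⟨m, hm, hle⟩ := Ideal.exists_le_maximal I hne
      obtain ⟨s, hs, hs0⟩ := h m hm
      exact hs (hle hs0)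
    have h1 : (1 : A) ∈ I := by rw [hI]; trivial
    have h2 : 𝟙 (Q.obj X) = 0 := by
      have : (1 : A) • 𝟙 (Q.obj X) = 0 := h1
      rwa [one_smul] at this
    have h3 : IsZero (Q.obj X) := (IsZero.iff_id_eq_zero _).2 h2
    have h4 : Q.map (𝟙 X) = Q.map (0 : X ⟶ X) := h3.eq_of_src _ _
    obtain ⟨Z, s, hs, hs0⟩ := (MorphismProperty.map_eq_iff_postcomp Q U.trW (𝟙 X) 0).1 h4
    rw [Category.id_comp, zero_comp] at hs0
    subst hs0
    obtain ⟨Z', g, k, hT, hZ'⟩ := (ObjectProperty.trW_iff U _).1 hs
    have hrot := rot_of_distTriang _ hT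
    have hzero : (Triangle.mk (0 : X ⟶ Z) g k).rotate.mor₃ = 0 := by
      show -((shiftFunctor T (1:ℤ)).map (0 : X ⟶ Z)) = 0
      rw [Functor.map_zero, neg_zero]
    obtain ⟨e, -, -⟩ := exists_iso_binaryBiproduct_of_distTriang _ hrot hzero
    have h5 : U (Z ⊞ X⟦(1 : ℤ)⟧) := U.prop_of_iso e hZ'
    have h6 : U (X⟦(1 : ℤ)⟧) := ObjectProperty.IsStableUnderRetracts.of_biprod_right U h5
    have h7 : U ((X⟦(1 : ℤ)⟧)⟦(-1 : ℤ)⟧) := U.le_shift (-1 : ℤ) _ h6
    exact U.prop_of_iso ((shiftEquiv T (1 : ℤ)).unitIso.app X).symm h7

end Groth.Agent.S19191
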