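import Groth.Statements.S19193
import Mathlib
open W4c6blochformula0cyc

set_option autoImplicit false
universe u
open CategoryTheory Opposite TopologicalSpace
open CohTop

namespace Groth.Agent.S19193

open W4c6blochformula0cyc in
/-- Let `F` be a presheaf of abelian groups on a topological space `X`, `U` a family of opens of `X`
indexed by a finite type, and suppose given, for every open `V` and every index `α`, an additive map
`E V α : F(V ∩ U_α) → F(V)` such that for every nonempty tuple of indices `t`, with `V = U_{t_0} ∩ ⋯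
∩ U_{t_m}`: (i) `∑_α E V α (f|_{V ∩ U_α}) = f` for all `f ∈ F(V)`, and (ii) `(E V α g)|_{V ∩ U_β} =
E (V ∩ U_β) α (g|_{V ∩ U_β ∩ U_α})` for all indices `α, β` and all `g ∈ F(V ∩ U_α)`. Then the
operator `H` on ordered Čech cochains, `(H f)_t = ∑_α E (U_t) α (f_{(α, t)})`, satisfies `H (δ f) +
δ (H f) = f` for every Čech cochain `f` on tuples of length at least `2`, i.e. in every Čech degree
`≥ 1`. (The published statement takes a flasque sheaf on an open cover and extension maps attached
to pairs of finite intersections; this row takes any presheaf, any finite family of opens, and maps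
that may depend on the index, none of which the printed argument needs. The published statement also
asserts the identity in every degree of the Čech complex without augmentation term, and allows an
infinite index set with finitely supported sums; in Čech degree `0`, where that complex has no term
below and the identity reads `H (δ f) = f`, it fails in general — for the one-member cover of a
point and the constant presheaf `ℤ` with `E` the identity, `δ f` vanishes on the pair while `f` need
not — so it is stated here from degree `1` on, i.e. for cochains on tuples of length at least `2`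
(the whole-space term on the empty tuple carried by the cochain groups used here plays no role), and
for a finite index type.) -/
theorem result {X : Type u} [TopologicalSpace X]
    {ι : Type u} [Fintype ι] (F : (Opens X)ᵒᵖ ⥤ AddCommGrpCat.{u}) (U : ι → Opens X)
    (E : ∀ (V : Opens X) (α : ι), F.obj (op (V ⊓ U α)) →+ F.obj (op V))
    (h2 : ∀ (m : ℕ) (t : Fin (m + 1) → ι) (f : F.obj (op (cechOpen U t))),
      ∑ α, E (cechOpen U t) α (res F inf_le_left f) = f)
    (h3 : ∀ (m : ℕ) (t : Fin (m + 1) → ι) (α β : ι) (g : F.obj (op (cechOpen U t ⊓ U α))),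
      res F inf_le_left (E (cechOpen U t) α g) =
        E (cechOpen U t ⊓ U β) α (res F (inf_le_inf_right (U α) inf_le_left) g))
    (n : ℕ) (f : Cochain F U (n + 2)) :
    homotopy F U E (n + 2) (delta F U (n + 2) f) + delta F U (n + 1) (homotopy F U E (n + 1) f) = f := by
  classical
  have res_id : ∀ (V : Opens X) (x : F.obj (op V)), res F (le_refl V) x = x := by
    intro V x
    show (F.map (homOfLE (le_refl V)).op).hom x = x
    have : (homOfLE (le_refl V)).op = 𝟙 (op V) := rfl
    rw [this, F.map_id]; rfl
  have res_res : ∀ {V W Z : Opens X} (h₁ : W ≤ V) (h₂ : Z ≤ W) (x : F.obj (op V)),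
      res F h₂ (res F h₁ x) = res F (h₂.trans h₁) x := by
    intro V W Z h₁ h₂ x
    show (F.map (homOfLE h₂).op).hom ((F.map (homOfLE h₁).op).hom x) =
      (F.map (homOfLE (h₂.trans h₁)).op).hom x
    have : (homOfLE (h₂.trans h₁)).op = (homOfLE h₁).op ≫ (homOfLE h₂).op := rfl
    rw [this, F.map_comp]; rfl
  have f_congr : ∀ {k : ℕ} (f : Cochain F U k) (s s' : Fin k → ι) (hs : s = s') (W : Opens X)
      (h : W ≤ cechOpen U s) (h' : W ≤ cechOpen U s'), res F h (f s) = res F h' (f s') := by
    intro k f s s' hs W h h'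
    subst hs; rfl
  have E_congr : ∀ (V V' : Opens X) (hV : V' = V) (α : ι) (g : F.obj (op (V ⊓ U α)))
      (h1 : V' ≤ V) (h2 : V' ⊓ U α ≤ V ⊓ U α), res F h1 (E V α g) = E V' α (res F h2 g) := by
    intro V V' hV α g h1 h2
    subst hV
    rw [res_id, res_id]
  funext t
  show (homotopy F U E (n + 2) (delta F U (n + 2) f)) t +
    (delta F U (n + 1) (homotopy F U E (n + 1) f)) t = f t
  have hH : (homotopy F U E (n + 2) (delta F U (n + 2) f)) t =
      ∑ α : ι, E (cechOpen U t) α (res F (inf_le_cechOpen_cons U t α)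
        ((delta F U (n + 2) f) (Fin.cons α t))) := rfl
  have hδ : ∀ (s : Fin (n + 3) → ι), (delta F U (n + 2) f) s =
      ∑ j : Fin (n + 3), ((-1 : ℤ) ^ (j : ℕ)) •
        res F (cechOpen_le_comp U s j) (f (s ∘ j.succAbove)) := fun s => rfl
  have hδ' : (delta F U (n + 1) (homotopy F U E (n + 1) f)) t =
      ∑ j : Fin (n + 2), ((-1 : ℤ) ^ (j : ℕ)) • res F (cechOpen_le_comp U t j)
        ((homotopy F U E (n + 1) f) (t ∘ j.succAbove)) := rfl
  have hH' : ∀ s : Fin (n + 1) → ι, (homotopy F U E (n + 1) f) s =
      ∑ α : ι, E (cechOpen U s) α (res F (inf_le_cechOpen_cons U s α) (f (Fin.cons α s))) :=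
    fun s => rfl
  have hB : ∀ (i : Fin (n + 2)) (α : ι),
      cechOpen U t ⊓ U α ≤ cechOpen U (Fin.cons α (t ∘ i.succAbove) : Fin (n + 2) → ι) :=
    fun i α => (inf_le_inf_right _ (cechOpen_le_comp U t i)).trans (inf_le_cechOpen_cons U _ α)
  set A : ι → F.obj (op (cechOpen U t)) :=
    fun α => E (cechOpen U t) α (res F inf_le_left (f t)) with hA
  set B : Fin (n + 2) → ι → F.obj (op (cechOpen U t)) :=
    fun i α => E (cechOpen U t) α (res F (hB i α) (f (Fin.cons α (t ∘ i.succAbove)))) with hBdef
  have hsumA : ∑ α, A α = f t := h2 (n + 1) t (f t)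
  -- first claim
  have claim1 : ∀ α : ι, E (cechOpen U t) α (res F (inf_le_cechOpen_cons U t α)
        ((delta F U (n + 2) f) (Fin.cons α t))) =
      A α + ∑ i : Fin (n + 2), ((-1 : ℤ) ^ ((i : ℕ) + 1)) • B i α := by
    intro α
    rw [hδ, map_sum, map_sum, Fin.sum_univ_succ]
    congr 1
    · simp only [Fin.val_zero, pow_zero, one_smul]
      rw [res_res]
      refine congrArg (E (cechOpen U t) α) ?_
      refine f_congr f _ _ ?_ _ _ _
      funext k
      simp [Fin.succAbove_zero]
    · refine Finset.sum_congr rfl fun i _ => ?_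
      rw [map_zsmul, map_zsmul, res_res, Fin.val_succ]
      congr 1
      refine congrArg (E (cechOpen U t) α) ?_
      refine f_congr f _ _ ?_ _ _ _
      funext k
      refine Fin.cases ?_ (fun k' => ?_) k
      · simp
      · simp
  have claim2 : ∀ i : Fin (n + 2), res F (cechOpen_le_comp U t i)
        ((homotopy F U E (n + 1) f) (t ∘ i.succAbove)) = ∑ α, B i α := by
    intro i
    rw [hH', map_sum]
    refine Finset.sum_congr rfl fun α _ => ?_
    have hVeq : cechOpen U t = cechOpen U (t ∘ i.succAbove) ⊓ U (t i) := by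
      apply le_antisymm
      · exact le_inf (cechOpen_le_comp U t i) (iInf_le (fun j => U (t j)) i)
      · refine le_iInf fun j => ?_
        rcases eq_or_ne j i with rfl | hj
        · exact inf_le_right
        · obtain ⟨k, rfl⟩ := Fin.exists_succAbove_eq hj
          exact inf_le_left.trans (iInf_le (fun k => U ((t ∘ i.succAbove) k)) k)
    have h3' := h3 n (t ∘ i.succAbove) α (t i)
      (res F (inf_le_cechOpen_cons U (t ∘ i.succAbove) α) (f (Fin.cons α (t ∘ i.succAbove))))
    have e1 : res F (cechOpen_le_comp U t i) (E (cechOpen U (t ∘ i.succAbove)) α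
        (res F (inf_le_cechOpen_cons U (t ∘ i.succAbove) α) (f (Fin.cons α (t ∘ i.succAbove))))) =
        res F (le_of_eq hVeq) (res F inf_le_left (E (cechOpen U (t ∘ i.succAbove)) α
        (res F (inf_le_cechOpen_cons U (t ∘ i.succAbove) α) (f (Fin.cons α (t ∘ i.succAbove)))))) := by
      rw [res_res]
    rw [e1, h3', E_congr _ _ hVeq α _ (le_of_eq hVeq) (inf_le_inf_right _ (le_of_eq hVeq)),
      res_res, res_res]
  rw [hH, hδ']
  have e1 : (∑ α : ι, E (cechOpen U t) α (res F (inf_le_cechOpen_cons U t α)
        ((delta F U (n + 2) f) (Fin.cons α t)))) =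
      ∑ α : ι, (A α + ∑ i : Fin (n + 2), ((-1 : ℤ) ^ ((i : ℕ) + 1)) • B i α) :=
    Finset.sum_congr rfl (fun α _ => claim1 α)
  have e2 : (∑ j : Fin (n + 2), ((-1 : ℤ) ^ (j : ℕ)) • res F (cechOpen_le_comp U t j)
        ((homotopy F U E (n + 1) f) (t ∘ j.succAbove))) =
      ∑ j : Fin (n + 2), ((-1 : ℤ) ^ (j : ℕ)) • ∑ α, B j α :=
    Finset.sum_congr rfl (fun i _ => by rw [claim2 i])
  rw [e1, e2]
  rw [Finset.sum_add_distrib, hsumA]
  have hneg : ∑ α : ι, ∑ i : Fin (n + 2), ((-1 : ℤ) ^ ((i : ℕ) + 1)) • B i α =
      - ∑ i : Fin (n + 2), ((-1 : ℤ) ^ (i : ℕ)) • ∑ α, B i α := by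
    rw [Finset.sum_comm, ← Finset.sum_neg_distrib]
    refine Finset.sum_congr rfl fun i _ => ?_
    rw [Finset.smul_sum, ← Finset.sum_neg_distrib]
    refine Finset.sum_congr rfl fun α _ => ?_
    rw [pow_succ, mul_neg_one, neg_smul]
  rw [hneg]
  abel

end Groth.Agent.S19193
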