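import Groth.Statements.S19194
import Mathlib


set_option autoImplicit false
universe u
open CategoryTheory Opposite TopologicalSpace
open CohTop

namespace Groth.Agent.S19194

open W4c6blochformula0cyc in
/-- Let `X` be a topological space, `U` a family of opens of `X` indexed by a finite type, `A y` an
abelian group for every point `y` of `X`, and `F` the presheaf `V ↦ ∏_{y ∈ V} A y` with the
projections as restriction maps. Let `S α ⊆ U_α` be subsets such that every point of `X` lies in
exactly one `S α`. For an open `V` and an index `β` let `E V β : F(V ∩ U_β) → F(V)` keep the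
components at the points of `S β` and put `0` at all other points. Then: (i) `∑_α E V α (f|_{V ∩
U_α}) = f` for every open `V` and every `f ∈ F(V)`; and (ii) `(E V α g)|_{V ∩ U_β} = E (V ∩ U_β) α
(g|_{V ∩ U_β ∩ U_α})` for every open `V`, all indices `α, β` and every `g ∈ F(V ∩ U_α)`. (These are
exactly the hypotheses (i) and (ii) of the algebraic partition-of-unity statement, here for every
open `V` rather than only for finite intersections of members of the family. The published statement
takes the presheaf of direct sums `⊕_{y ∈ V} A y`; the product presheaf used here contains it, these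
maps and the restrictions preserve it, and both identities restrict to it.) -/
theorem result {X : Type u} [TopologicalSpace X]
    {ι : Type u} [Fintype ι] (A : X → AddCommGrpCat.{u}) (U : ι → Opens X) (S : ι → Set X)
    (hSU : ∀ α, S α ⊆ (U α : Set X)) (hS : ∀ x : X, ∃! α, x ∈ S α) :
    (∀ (V : Opens X) (f : (prodPresheaf A).obj (op V)),
        ∑ α, switchExt A U S V α (res (prodPresheaf A) inf_le_left f) = f) ∧
      ∀ (V : Opens X) (α β : ι) (g : (prodPresheaf A).obj (op (V ⊓ U α))),
        res (prodPresheaf A) inf_le_left (switchExt A U S V α g) =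
          switchExt A U S (V ⊓ U β) α (res (prodPresheaf A) (inf_le_inf_right (U α) inf_le_left) g) := by
  classical
  -- pointwise description of switchExt
  have hsw : ∀ (V : Opens X) (β : ι) (g : (prodPresheaf A).obj (op (V ⊓ U β))) (y : V),
      (switchExt A U S V β g : ∀ y : V, A y.1) y =
        if h : (y.1 ∈ U β) ∧ (y.1 ∈ S β) then
          (g : ∀ z : (V ⊓ U β : Opens X), A z.1) ⟨y.1, ⟨y.2, h.1⟩⟩ else 0 := by
    intro V β g y
    unfold switchExt
    show ((if h : (y.1 ∈ U β) ∧ (y.1 ∈ S β) then
      (Pi.evalAddMonoidHom (fun z : (V ⊓ U β : Opens X) => (A z.1 : Type u)) ⟨y.1, ⟨y.2, h.1⟩⟩ :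
        (prodPresheaf A).obj (op (V ⊓ U β)) →+ A y.1)
      else 0 : (prodPresheaf A).obj (op (V ⊓ U β)) →+ A y.1)) g = _
    split_ifs with h
    · rfl
    · rfl
  have hres : ∀ {V W : Opens X} (h : W ≤ V) (f : (prodPresheaf A).obj (op V)) (y : W),
      (res (prodPresheaf A) h f : ∀ y : W, A y.1) y = (f : ∀ y : V, A y.1) ⟨y.1, h y.2⟩ := by
    intro V W h f y
    rfl
  constructor
  · intro V f
    funext y
    obtain ⟨α₀, hα₀, huniq⟩ := hS y.1
    have hsum : (∑ α, switchExt A U S V α (res (prodPresheaf A) inf_le_left f) : ∀ y : V, A y.1) y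
        = ∑ α, (switchExt A U S V α (res (prodPresheaf A) inf_le_left f) : ∀ y : V, A y.1) y :=
      Finset.sum_apply _ _ _
    refine hsum.trans ?_
    rw [Finset.sum_eq_single α₀]
    · rw [hsw, dif_pos ⟨hSU α₀ hα₀, hα₀⟩, hres]
    · intro b _ hb
      rw [hsw, dif_neg]
      rintro ⟨-, h2⟩
      exact hb (huniq b h2)
    · intro h
      exact absurd (Finset.mem_univ α₀) h
  · intro V α β g
    funext y
    rw [hres, hsw, hsw]
    split_ifs with h
    · rw [hres]
    · rfl

end Groth.Agent.S19194
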