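import Groth.Statements.S19196
import Mathlib

set_option autoImplicit false
universe u
open RelS1

namespace Groth.Agent.S19196

/-- Let R be a Noetherian commutative ring and N a finitely generated R-module which fails Serre's
condition (S_1), in the sense that some associated prime of N is not a minimal prime of the
annihilator of N. Then there exist an element a of R lying in no minimal prime of the annihilator of
N and a nonzero element b of N with a • b = 0; thus the basic open set D(a) meets the support of N
densely while restriction to it is not injective on N. -/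
theorem result (R N : Type u) [CommRing R] [IsNoetherianRing R]
    [AddCommGroup N] [Module R N] [Module.Finite R N]
    (h : ¬ associatedPrimes R N ⊆ (Module.annihilator R N).minimalPrimes) :
    ∃ (a : R) (b : N), (∀ P ∈ (Module.annihilator R N).minimalPrimes, a ∉ P) ∧ b ≠ 0 ∧ a • b = 0 := by
  rw [Set.not_subset] at h
  obtain ⟨P, hPass, hPmin⟩ := h
  obtain ⟨hPprime, b, hPb⟩ := (isAssociatedPrime_iff).1 hPass
  have hann : Module.annihilator R N ≤ P := by
    intro r hr
    rw [hPb, Submodule.mem_colon_singleton]
    rw [Module.mem_annihilator] at hr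
    rw [hr b]; exact Submodule.zero_mem _
  have hfin := Ideal.finite_minimalPrimes_of_isNoetherianRing R (Module.annihilator R N)
  -- prime avoidance
  have hnot : ¬ ((P : Set R) ⊆ ⋃ Q ∈ (hfin.toFinset : Set (Ideal R)), (Q : Set R)) := by
    intro hsub
    rw [Ideal.subset_union_prime (f := fun Q : Ideal R => Q) P P] at hsub
    · obtain ⟨Q, hQ, hPQ⟩ := hsub
      rw [Set.Finite.mem_toFinset] at hQ
      obtain ⟨Q', hQ', hQ'P⟩ := Ideal.exists_minimalPrimes_le hann
      have hQQ' : Q' = Q := by
        have h1 : Q' ≤ Q := hQ'P.trans hPQ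
        exact le_antisymm h1 (hQ.2 ⟨hQ'.1.1, hQ'.1.2⟩ h1)
      have : P = Q := le_antisymm hPQ (hQQ' ▸ hQ'P)
      exact hPmin (this ▸ hQ)
    · intro Q hQ _ _
      rw [Set.Finite.mem_toFinset] at hQ
      exact hQ.1.1
  rw [Set.not_subset] at hnot
  obtain ⟨a, haP, hau⟩ := hnot
  refine ⟨a, b, ?_, ?_, ?_⟩
  · intro Q hQ haQ
    apply hau
    simp only [Set.mem_iUnion]
    exact ⟨Q, by simpa using hQ, haQ⟩
  · rintro rfl
    apply hPprime.ne_top
    rw [hPb, eq_top_iff]
    intro r _
    rw [Submodule.mem_colon_singleton, smul_zero]
    exact Submodule.zero_mem _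
  · have : a ∈ Submodule.colon (⊥ : Submodule R N) {b} := hPb ▸ haP
    rw [Submodule.mem_colon_singleton] at this
    exact (Submodule.mem_bot R).1 this

end Groth.Agent.S19196
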