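import Groth.Statements.S19202
import Mathlib
import Groth.Agent.Lib.Helper28.EffCartierOld

set_option autoImplicit false
universe u
open CategoryTheory AlgebraicGeometry
open FlatMor

namespace Groth.Agent.S19202

/-- Let R be a Dedekind domain, X and Y schemes over Spec R with X flat over Spec R, and f : X → Y a
morphism over Spec R. Then the scheme-theoretic image of f, i.e. the closed subscheme of Y cut out
by the kernel ideal sheaf of f, is flat over Spec R. (The published statement takes the base to be a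
non-singular curve and f proper; this row takes the spectrum of any Dedekind domain and any morphism
f over it.) -/
theorem result (R : Type u) [CommRing R] [IsDedekindDomain R]
    {X Y : Scheme.{u}} (p : X ⟶ Spec (CommRingCat.of R)) (q : Y ⟶ Spec (CommRingCat.of R))
    (f : X ⟶ Y) (w : f ≫ q = p) [Flat p] : Flat (f.imageι ≫ q) := by
  subst w
  classical
  let e : R ≃+* Γ(Spec (CommRingCat.of R), ⊤) :=
    (Scheme.ΓSpecIso (CommRingCat.of R)).symm.commRingCatIsoToRingEquiv
  haveI : IsDomain Γ(Spec (CommRingCat.of R), ⊤) := MulEquiv.isDomain R e.symm.toMulEquiv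
  let ρY : ∀ U : Y.Opens, R →+* Γ(Y, U) := fun U => (q.appLE ⊤ U le_top).hom.comp e.toRingHom
  let ρX : ∀ V : X.Opens, R →+* Γ(X, V) :=
    fun V => ((f ≫ q).appLE ⊤ V le_top).hom.comp e.toRingHom
  have hρ : ∀ (U : Y.Opens) (r : R), (f.app U).hom (ρY U r) = ρX (f ⁻¹ᵁ U) r := by
    intro U r
    have h := Scheme.Hom.appLE_comp_appLE f q ⊤ U (f ⁻¹ᵁ U) le_top le_rfl
    rw [Scheme.Hom.appLE_eq_app] at h
    exact congrArg (fun φ' : Γ(Spec (CommRingCat.of R), ⊤) ⟶ Γ(X, f ⁻¹ᵁ U) => φ'.hom (e r)) h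
  have hρres : ∀ (U U' : Y.Opens) (h : U' ≤ U) (r : R),
      (Y.presheaf.map (homOfLE h).op).hom (ρY U r) = ρY U' r := by
    intro U U' h r
    have h5 := Scheme.Hom.appLE_map q (U := ⊤) (V := U) le_top (homOfLE h).op
    exact congrArg (fun φ' : Γ(Spec (CommRingCat.of R), ⊤) ⟶ Γ(Y, U') => φ'.hom (e r)) h5
  -- sections of `X` are torsion free
  have hX : ∀ (V : X.Opens) (r : R), r ≠ 0 → ∀ s : Γ(X, V), ρX V r * s = 0 → s = 0 := by
    intro V r hr s hs
    refine TopCat.Sheaf.eq_of_locally_eq' X.sheaf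
      (fun W : {W : X.affineOpens // W.1 ≤ V} => W.1.1) V (fun W => homOfLE W.2) ?_ s 0 ?_
    · intro x hx
      obtain ⟨W, hW, hxW, hWV⟩ := exists_isAffineOpen_mem_and_subset hx
      exact TopologicalSpace.Opens.mem_iSup.mpr ⟨⟨⟨W, hW⟩, hWV⟩, hxW⟩
    · rintro ⟨W, hWV⟩
      show (X.presheaf.map (homOfLE hWV).op).hom s = (X.presheaf.map (homOfLE hWV).op).hom 0
      rw [map_zero]
      have hflat : ((f ≫ q).appLE ⊤ W.1 le_top).hom.Flat :=
        HasRingHomProperty.appLE (P := @Flat) (f ≫ q) inferInstance ⟨⊤, isAffineOpen_top _⟩ W le_top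
      have hnzd : e r ∈ nonZeroDivisors Γ(Spec (CommRingCat.of R), ⊤) := by
        have : e r ≠ 0 := fun h => hr (e.injective (by rw [h, map_zero]))
        exact mem_nonZeroDivisors_of_ne_zero this
      have h2 := Groth.Agent.Helper28.EffCartierOld.map_mem_nonZeroDivisors_of_flat _ hflat (e r) hnzd
      have h3 : (X.presheaf.map (homOfLE hWV).op).hom s *
          ((f ≫ q).appLE ⊤ W.1 le_top).hom (e r) = 0 := by
        have h4 := congrArg (X.presheaf.map (homOfLE hWV).op).hom hs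
        rw [map_mul, map_zero] at h4
        rw [mul_comm, ← h4]
        congr 1
        have h5 := Scheme.Hom.appLE_map (f ≫ q) (U := ⊤) (V := V) le_top (homOfLE hWV).op
        exact (congrArg (fun φ' : Γ(Spec (CommRingCat.of R), ⊤) ⟶ Γ(X, W.1) => φ'.hom (e r)) h5).symm
      exact (mem_nonZeroDivisors_iff_right.mp h2) _ h3
  -- the saturation of the kernel
  let Jid : ∀ U : Y.affineOpens, Ideal Γ(Y, U) := fun U =>
    { carrier := {y | ∃ r : R, r ≠ 0 ∧ ρY U.1 r * y ∈ f.ker.ideal U}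
      add_mem' := by
        rintro a b ⟨r, hr, ha⟩ ⟨s, hs, hb⟩
        refine ⟨r * s, mul_ne_zero hr hs, ?_⟩
        rw [map_mul, mul_add]
        refine Ideal.add_mem _ ?_ ?_
        · have : ρY U.1 r * ρY U.1 s * a = ρY U.1 s * (ρY U.1 r * a) := by ring
          rw [this]
          exact Ideal.mul_mem_left _ _ ha
        · rw [mul_assoc]
          exact Ideal.mul_mem_left _ _ hb
      zero_mem' := ⟨1, one_ne_zero, by rw [mul_zero]; exact Ideal.zero_mem _⟩
      smul_mem' := by
        rintro c a ⟨r, hr, ha⟩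
        refine ⟨r, hr, ?_⟩
        rw [smul_eq_mul, mul_left_comm]
        exact Ideal.mul_mem_left _ _ ha }
  have hJle : ∀ U : Y.affineOpens, Jid U ≤ RingHom.ker (f.app U).hom := by
    rintro U y ⟨r, hr, hy⟩
    have h1 := f.ideal_ker_le U hy
    rw [RingHom.mem_ker, map_mul, hρ] at h1
    rw [RingHom.mem_ker]
    exact hX _ r hr _ h1
  let J : Y.IdealSheafData :=
    { ideal := Jid
      map_ideal_basicOpen := by
        intro U g
        haveI := U.2.isLocalization_basicOpen g
        apply le_antisymm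
        · rw [Ideal.map_le_iff_le_comap]
          rintro y ⟨r, hr, hy⟩
          refine ⟨r, hr, ?_⟩
          have h1 : ρY (Y.basicOpen g) r *
              (Y.presheaf.map (homOfLE (Y.basicOpen_le g)).op).hom y =
              (Y.presheaf.map (homOfLE (Y.basicOpen_le g)).op).hom (ρY U.1 r * y) := by
            rw [map_mul, hρres U.1 _ (Y.basicOpen_le g) r]
          show ρY (Y.basicOpen g) r * (Y.presheaf.map (homOfLE (Y.basicOpen_le g)).op).hom y ∈
            f.ker.ideal (Y.affineBasicOpen g)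
          rw [h1, ← f.ker.map_ideal_basicOpen U g]
          exact Ideal.mem_map_of_mem _ hy
        · rintro z0 ⟨r, hr, hz0⟩
          obtain ⟨z, hzz⟩ : ∃ z' : Γ(Y, Y.basicOpen g), z' = z0 := ⟨z0, rfl⟩
          have hz : ρY (Y.basicOpen g) r * z ∈ f.ker.ideal (Y.affineBasicOpen g) := by
            rw [hzz]; exact hz0
          rw [← hzz]
          obtain ⟨⟨y, ⟨_, n, rfl⟩⟩, hy⟩ := IsLocalization.surj (Submonoid.powers g) z
          have hy' : z * algebraMap Γ(Y, U.1) Γ(Y, Y.basicOpen g) (g ^ n) =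
              algebraMap Γ(Y, U.1) Γ(Y, Y.basicOpen g) y := hy
          have halg : ∀ a : Γ(Y, U.1), algebraMap Γ(Y, U.1) Γ(Y, Y.basicOpen g) a =
              (Y.presheaf.map (homOfLE (Y.basicOpen_le g)).op).hom a := fun a => rfl
          have h1 : algebraMap Γ(Y, U.1) Γ(Y, Y.basicOpen g) (ρY U.1 r * y) ∈
              (f.ker.ideal U).map (algebraMap Γ(Y, U.1) Γ(Y, Y.basicOpen g)) := by
            have h2 : algebraMap Γ(Y, U.1) Γ(Y, Y.basicOpen g) (ρY U.1 r * y) =
                (ρY (Y.basicOpen g) r * z) *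
                  algebraMap Γ(Y, U.1) Γ(Y, Y.basicOpen g) (g ^ n) := by
              rw [mul_assoc, hy', map_mul, halg (ρY U.1 r), hρres U.1 _ (Y.basicOpen_le g) r]
            rw [h2]
            have h3 := f.ker.map_ideal_basicOpen U g
            have h4 : ρY (Y.basicOpen g) r * z ∈
                (f.ker.ideal U).map (algebraMap Γ(Y, U.1) Γ(Y, Y.basicOpen g)) := by
              rw [show (algebraMap Γ(Y, U.1) Γ(Y, Y.basicOpen g)) =
                (Y.presheaf.map (homOfLE (Y.basicOpen_le g)).op).hom from rfl, h3]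
              exact hz
            exact Ideal.mul_mem_right _ _ h4
          rw [IsLocalization.mem_map_algebraMap_iff (Submonoid.powers g)] at h1
          obtain ⟨⟨a, s⟩, has⟩ := h1
          rw [← map_mul] at has
          obtain ⟨c, hc⟩ := (IsLocalization.eq_iff_exists (Submonoid.powers g) _).mp has
          have h5 : (c : Γ(Y, U.1)) * (s : Γ(Y, U.1)) * y ∈ Jid U := by
            refine ⟨r, hr, ?_⟩
            have : ρY U.1 r * ((c : Γ(Y, U.1)) * (s : Γ(Y, U.1)) * y) =
                (c : Γ(Y, U.1)) * (ρY U.1 r * y * (s : Γ(Y, U.1))) := by ring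
            rw [this, hc]
            exact Ideal.mul_mem_left _ _ a.2
          have h6 : z * algebraMap Γ(Y, U.1) Γ(Y, Y.basicOpen g)
              ((c : Γ(Y, U.1)) * (s : Γ(Y, U.1)) * g ^ n) ∈
              (Jid U).map (Y.presheaf.map (homOfLE (Y.basicOpen_le g)).op).hom := by
            have : z * algebraMap Γ(Y, U.1) Γ(Y, Y.basicOpen g)
                ((c : Γ(Y, U.1)) * (s : Γ(Y, U.1)) * g ^ n) =
                algebraMap Γ(Y, U.1) Γ(Y, Y.basicOpen g) ((c : Γ(Y, U.1)) * (s : Γ(Y, U.1)) * y) := by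
              rw [map_mul, map_mul _ _ y, ← hy']
              ring
            rw [this]
            exact Ideal.mem_map_of_mem _ h5
          have hunit : IsUnit (algebraMap Γ(Y, U.1) Γ(Y, Y.basicOpen g)
              ((c : Γ(Y, U.1)) * (s : Γ(Y, U.1)) * g ^ n)) := by
            have hmem : (c : Γ(Y, U.1)) * (s : Γ(Y, U.1)) * g ^ n ∈ Submonoid.powers g :=
              Submonoid.mul_mem _ (Submonoid.mul_mem _ c.2 s.2) ⟨n, rfl⟩
            exact IsLocalization.map_units _ (⟨_, hmem⟩ : Submonoid.powers g)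
          exact (Ideal.mul_unit_mem_iff_mem _ hunit).mp h6 }
  have hJK : ∀ U : Y.affineOpens, Jid U ≤ f.ker.ideal U := by
    have hJ : J ≤ f.ker := Scheme.IdealSheafData.le_ofIdeals_iff.mpr hJle
    exact fun U => hJ U
  -- main argument
  have hcover : ⨆ U : Y.affineOpens, (f.imageι ⁻¹ᵁ U.1) = ⊤ := by
    rw [← Scheme.Hom.preimage_iSup, iSup_affineOpens_eq_top Y]
    rfl
  refine HasRingHomProperty.of_iSup_eq_top (P := @Flat)
    (fun U : Y.affineOpens =>
      (⟨f.imageι ⁻¹ᵁ U.1, U.2.preimage f.imageι⟩ : f.image.affineOpens)) hcover ?_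
  intro U
  show ((f.imageι ≫ q).appLE ⊤ (f.imageι ⁻¹ᵁ U.1) le_top).hom.Flat
  have hfac : ((f.imageι ≫ q).appLE ⊤ (f.imageι ⁻¹ᵁ U.1) le_top).hom =
      ((((f.imageι ≫ q).appLE ⊤ (f.imageι ⁻¹ᵁ U.1) le_top).hom).comp e.toRingHom).comp
        e.symm.toRingHom := by
    ext x
    simp
  rw [hfac]
  refine RingHom.Flat.comp (RingHom.Flat.of_bijective e.symm.bijective) ?_
  set ψ : R →+* Γ(f.image, f.imageι ⁻¹ᵁ U.1) :=
    (((f.imageι ≫ q).appLE ⊤ (f.imageι ⁻¹ᵁ U.1) le_top).hom).comp e.toRingHom with hψ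
  letI := ψ.toAlgebra
  show Module.Flat R Γ(f.image, f.imageι ⁻¹ᵁ U.1)
  rw [IsDedekindDomain.flat_iff_torsion_eq_bot, Submodule.eq_bot_iff]
  intro z hz
  rw [Submodule.mem_torsion_iff] at hz
  obtain ⟨⟨r, hr⟩, hrz⟩ := hz
  have hr0 : r ≠ 0 := nonZeroDivisors.ne_zero hr
  obtain ⟨y, rfl⟩ := f.ker.subschemeι_app_surjective U z
  have h1 : ψ r * (f.imageι.app U).hom y = 0 := by
    rw [← hrz]
    rfl
  have h2 : ψ r = (f.imageι.app U).hom (ρY U.1 r) := by
    have h := Scheme.Hom.appLE_comp_appLE f.imageι q ⊤ U.1 (f.imageι ⁻¹ᵁ U.1) le_top le_rfl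
    rw [Scheme.Hom.appLE_eq_app] at h
    exact (congrArg (fun φ' : Γ(Spec (CommRingCat.of R), ⊤) ⟶ Γ(f.image, f.imageι ⁻¹ᵁ U.1) =>
      φ'.hom (e r)) h).symm
  rw [h2, ← map_mul] at h1
  have h3 : ρY U.1 r * y ∈ f.ker.ideal U := by
    rw [← f.ker.ker_subschemeι_app U]
    exact RingHom.mem_ker.mpr h1
  have h4 : y ∈ f.ker.ideal U := hJK U ⟨r, hr0, h3⟩
  have h5 : y ∈ RingHom.ker (f.ker.subschemeι.app U).hom := by
    rw [f.ker.ker_subschemeι_app U]
    exact h4
  exact RingHom.mem_ker.mp h5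

end Groth.Agent.S19202
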