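import Groth.Statements.S19208
import Groth.Agent.Lib.Helper12.SamuelMax

set_option autoImplicit false
universe u
open Filter
open LocAlg

namespace Groth.Agent.S19208

/-- Let O be a Noetherian local ring of Krull dimension r containing a field, with maximal ideal m. The
zeroth flat multiplicity e_0(O), the supremum over m-primary ideals I of e(I)/(r!·length(O/I)) with
e(I) the Samuel multiplicity, is at least 1: for every ε > 0 there is an m-primary ideal I (I ⊆ m,
m^N ⊆ I for some N) whose multiplicity e(I), the limit of r!·length(O/I^n)/n^r, satisfies e(I) ≥ (1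
− ε)·r!·length(O/I). (The same statement for the power-series rings O[[t_1, …, t_k]] is the bound
e_k(O) ≥ 1 for the k-th flat multiplicity.) -/
theorem result (O : Type u) [CommRing O] [IsNoetherianRing O]
    [IsLocalRing O] (K : Type u) [Field K] [Algebra K O] (r : ℕ) (hr : ringKrullDim O = r)
    (ε : ℝ) (hε : 0 < ε) :
    ∃ (I : Ideal O) (e : ℝ), I ≤ IsLocalRing.maximalIdeal O ∧
      (∃ N : ℕ, IsLocalRing.maximalIdeal O ^ N ≤ I) ∧
      Tendsto (fun n : ℕ => (r.factorial : ℝ) * ((Module.length O (O ⧸ I ^ n)).toNat : ℝ) / (n : ℝ) ^ r)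
        atTop (nhds e) ∧
      (1 - ε) * ((r.factorial : ℝ) * ((Module.length O (O ⧸ I)).toNat : ℝ)) ≤ e := by
  open Groth.Agent.Helper12.SamuelMax Groth.Agent.Helper5.HS in
  obtain ⟨P, hP, hdeg, hpos⟩ := exists_poly (O := O) r hr
  set a : ℝ := ((P.coeff r : ℚ) : ℝ) with ha
  have hapos : 0 < a := by
    rw [ha]
    exact_mod_cast hpos
  have h1 := tendsto_sam (O := O) r P hP hdeg
  have h2 : Tendsto (fun n : ℕ => (1 - ε) * ((sam O O n : ℝ) / (n : ℝ) ^ r)) atTop
      (nhds ((1 - ε) * a)) := h1.const_mul _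
  have h3 : (1 - ε) * a < a := by nlinarith
  have h4 := (h2.eventually (gt_mem_nhds h3)).and (eventually_ge_atTop 1)
  obtain ⟨k, hk, hk1⟩ := h4.exists
  refine ⟨IsLocalRing.maximalIdeal O ^ k, (r.factorial : ℝ) * (k : ℝ) ^ r * a,
    Ideal.pow_le_self (by omega), ⟨k, le_rfl⟩, tendsto_pow r P hP hdeg k hk1, ?_⟩
  rw [length_quot_pow_eq]
  have hkpos : (0 : ℝ) < (k : ℝ) ^ r := by positivity
  have h5 : (1 - ε) * (sam O O k : ℝ) < a * (k : ℝ) ^ r := by
    have := mul_lt_mul_of_pos_right hk hkpos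
    rwa [mul_assoc, div_mul_cancel₀ _ hkpos.ne'] at this
  have hfac : (0 : ℝ) < (r.factorial : ℝ) := by exact_mod_cast r.factorial_pos
  nlinarith

end Groth.Agent.S19208
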