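import Groth.Statements.S19210
import Mathlib


set_option autoImplicit false
universe u
open LocAlg

namespace Groth.Agent.S19210

/-- For natural numbers j ≤ r, the sums Σ_{i=0}^{n−1} (n − i)^{r−j} i^j equal n^{r+1}·(r − j)!·j!/(r +
1)! up to O(n^r): there is a real constant C with |Σ_{i<n} (n − i)^{r−j} i^j − ((r − j)!·j!/(r +
1)!)·n^{r+1}| ≤ C·n^r for all n ≥ 1. -/
theorem result (r j : ℕ) (hj : j ≤ r) :
    ∃ C : ℝ, ∀ n : ℕ, 1 ≤ n →
      |(∑ i ∈ Finset.range n, ((n : ℝ) - (i : ℝ)) ^ (r - j) * (i : ℝ) ^ j) -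
          ((r - j).factorial : ℝ) * (j.factorial : ℝ) / ((r + 1).factorial : ℝ) * (n : ℝ) ^ (r + 1)| ≤
        C * (n : ℝ) ^ r := by
  classical
  -- bounds for differences of consecutive powers
  have hpd : ∀ (x : ℝ), 0 ≤ x → ∀ d : ℕ,
      ((d : ℝ) + 1) * x ^ d ≤ (x + 1) ^ (d + 1) - x ^ (d + 1) ∧
      (x + 1) ^ (d + 1) - x ^ (d + 1) ≤ ((d : ℝ) + 1) * (x + 1) ^ d := by
    intro x hx d
    have h := Commute.geom_sum₂_mul (Commute.all (x + 1) x) (d + 1)
    rw [add_sub_cancel_left, mul_one] at h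
    rw [← h]
    constructor
    · have : ∑ i ∈ Finset.range (d + 1), x ^ d ≤
          ∑ i ∈ Finset.range (d + 1), (x + 1) ^ i * x ^ (d + 1 - 1 - i) := by
        apply Finset.sum_le_sum
        intro i hi
        rw [Finset.mem_range] at hi
        have e : d = i + (d + 1 - 1 - i) := by omega
        conv_lhs => rw [e, pow_add]
        exact mul_le_mul_of_nonneg_right (pow_le_pow_left₀ hx (by linarith) i) (pow_nonneg hx _)
      simpa using this
    · have : ∑ i ∈ Finset.range (d + 1), (x + 1) ^ i * x ^ (d + 1 - 1 - i) ≤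
          ∑ i ∈ Finset.range (d + 1), (x + 1) ^ d := by
        apply Finset.sum_le_sum
        intro i hi
        rw [Finset.mem_range] at hi
        have e : d = i + (d + 1 - 1 - i) := by omega
        conv_rhs => rw [e, pow_add]
        exact mul_le_mul_of_nonneg_left (pow_le_pow_left₀ hx (by linarith) _)
          (pow_nonneg (by linarith) _)
      simpa using this
  -- sums of powers
  have hF : ∀ (d n : ℕ), ((d : ℝ) + 1) * ∑ i ∈ Finset.range n, (i : ℝ) ^ d ≤ (n : ℝ) ^ (d + 1) ∧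
      (n : ℝ) ^ (d + 1) ≤ ((d : ℝ) + 1) * (∑ i ∈ Finset.range n, (i : ℝ) ^ d + (n : ℝ) ^ d) := by
    intro d n
    induction n with
    | zero =>
      simp only [Finset.range_zero, Finset.sum_empty, mul_zero, Nat.cast_zero, zero_add]
      constructor
      · positivity
      · have : (0 : ℝ) ≤ (0 : ℝ) ^ d := by positivity
        have h0 : (0 : ℝ) ^ (d + 1) = 0 := by simp
        rw [h0]
        positivity
    | succ n ih =>
      obtain ⟨h1, h2⟩ := hpd (n : ℝ) (Nat.cast_nonneg n) d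
      rw [Finset.sum_range_succ]
      push_cast
      constructor
      · nlinarith [ih.1]
      · nlinarith [ih.2]
  have hF' : ∀ (d n : ℕ), |∑ i ∈ Finset.range n, (i : ℝ) ^ d - 1 / ((d : ℝ) + 1) * (n : ℝ) ^ (d + 1)| ≤
      (n : ℝ) ^ d := by
    intro d n
    obtain ⟨h1, h2⟩ := hF d n
    have hd : (0 : ℝ) < (d : ℝ) + 1 := by positivity
    have hn : (0 : ℝ) ≤ (n : ℝ) ^ d := by positivity
    rw [abs_le]
    have e : 1 / ((d : ℝ) + 1) * (n : ℝ) ^ (d + 1) = (n : ℝ) ^ (d + 1) / ((d : ℝ) + 1) := by ring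
    rw [e]
    constructor
    · rw [neg_le_sub_iff_le_add, div_le_iff₀ hd]
      nlinarith
    · rw [sub_le_iff_le_add, ← sub_le_iff_le_add']
      have : ∑ i ∈ Finset.range n, (i : ℝ) ^ d ≤ (n : ℝ) ^ (d + 1) / ((d : ℝ) + 1) := by
        rw [le_div_iff₀ hd]; linarith
      linarith
  -- the main estimate
  have main : ∀ (a b : ℕ), ∃ C : ℝ, 0 ≤ C ∧ ∀ n : ℕ,
      |(∑ i ∈ Finset.range n, ((n : ℝ) - (i : ℝ)) ^ a * (i : ℝ) ^ b) -
        (a.factorial : ℝ) * (b.factorial : ℝ) / ((a + b + 1).factorial : ℝ) * (n : ℝ) ^ (a + b + 1)| ≤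
        C * (n : ℝ) ^ (a + b) := by
    intro a
    induction a with
    | zero =>
      intro b
      refine ⟨1, zero_le_one, fun n => ?_⟩
      have := hF' b n
      simp only [pow_zero, one_mul, Nat.factorial_zero, Nat.cast_one, zero_add]
      have e : (b.factorial : ℝ) / ((b + 1).factorial : ℝ) = 1 / ((b : ℝ) + 1) := by
        rw [Nat.factorial_succ]
        push_cast
        have hb : (b.factorial : ℝ) ≠ 0 := by positivity
        have hb1 : ((b : ℝ) + 1) ≠ 0 := by positivity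
        field_simp
      rw [e]
      exact this
    | succ a ih =>
      intro b
      obtain ⟨C1, hC1, h1⟩ := ih b
      obtain ⟨C2, hC2, h2⟩ := ih (b + 1)
      refine ⟨C1 + C2, by linarith, fun n => ?_⟩
      have hs : ∑ i ∈ Finset.range n, ((n : ℝ) - (i : ℝ)) ^ (a + 1) * (i : ℝ) ^ b =
          (n : ℝ) * ∑ i ∈ Finset.range n, ((n : ℝ) - (i : ℝ)) ^ a * (i : ℝ) ^ b -
            ∑ i ∈ Finset.range n, ((n : ℝ) - (i : ℝ)) ^ a * (i : ℝ) ^ (b + 1) := by
        rw [Finset.mul_sum, ← Finset.sum_sub_distrib]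
        refine Finset.sum_congr rfl (fun i _ => ?_)
        ring
      have hcoef : ((a + 1).factorial : ℝ) * (b.factorial : ℝ) / ((a + 1 + b + 1).factorial : ℝ) =
          (a.factorial : ℝ) * (b.factorial : ℝ) / ((a + b + 1).factorial : ℝ) -
          (a.factorial : ℝ) * ((b + 1).factorial : ℝ) / ((a + (b + 1) + 1).factorial : ℝ) := by
        have e1 : a + 1 + b + 1 = (a + b + 1) + 1 := by ring
        have e2 : a + (b + 1) + 1 = (a + b + 1) + 1 := by ring
        rw [e1, e2, Nat.factorial_succ (a + b + 1), Nat.factorial_succ a, Nat.factorial_succ b]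
        push_cast
        have h3 : ((a + b + 1).factorial : ℝ) ≠ 0 := by positivity
        have h4 : ((a : ℝ) + b + 1 + 1) ≠ 0 := by positivity
        field_simp
        ring
      have e1 := h1 n
      have e2 := h2 n
      rw [hs, hcoef]
      have hn0 : (0 : ℝ) ≤ (n : ℝ) := Nat.cast_nonneg n
      have key : (n : ℝ) * ∑ i ∈ Finset.range n, ((n : ℝ) - (i : ℝ)) ^ a * (i : ℝ) ^ b -
            ∑ i ∈ Finset.range n, ((n : ℝ) - (i : ℝ)) ^ a * (i : ℝ) ^ (b + 1) -
          ((a.factorial : ℝ) * (b.factorial : ℝ) / ((a + b + 1).factorial : ℝ) -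
            (a.factorial : ℝ) * ((b + 1).factorial : ℝ) / ((a + (b + 1) + 1).factorial : ℝ)) *
            (n : ℝ) ^ (a + 1 + b + 1) =
          (n : ℝ) * (∑ i ∈ Finset.range n, ((n : ℝ) - (i : ℝ)) ^ a * (i : ℝ) ^ b -
            (a.factorial : ℝ) * (b.factorial : ℝ) / ((a + b + 1).factorial : ℝ) * (n : ℝ) ^ (a + b + 1)) -
          (∑ i ∈ Finset.range n, ((n : ℝ) - (i : ℝ)) ^ a * (i : ℝ) ^ (b + 1) -
            (a.factorial : ℝ) * ((b + 1).factorial : ℝ) / ((a + (b + 1) + 1).factorial : ℝ) *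
              (n : ℝ) ^ (a + (b + 1) + 1)) := by
        have p1 : (n : ℝ) ^ (a + 1 + b + 1) = (n : ℝ) * (n : ℝ) ^ (a + b + 1) := by
          rw [← pow_succ']; congr 1; ring
        have p2 : (n : ℝ) ^ (a + (b + 1) + 1) = (n : ℝ) * (n : ℝ) ^ (a + b + 1) := by
          rw [← pow_succ']; congr 1
        rw [p1, p2]
        ring
      rw [key]
      have p3 : (n : ℝ) ^ (a + 1 + b) = (n : ℝ) * (n : ℝ) ^ (a + b) := by
        rw [← pow_succ']; congr 1; ring
      have p4 : (n : ℝ) ^ (a + (b + 1)) = (n : ℝ) * (n : ℝ) ^ (a + b) := by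
        rw [← pow_succ']; congr 1
      rw [p4] at e2
      calc |(n : ℝ) * _ - _| ≤ |(n : ℝ) * _| + |_| := abs_sub _ _
        _ ≤ (n : ℝ) * (C1 * (n : ℝ) ^ (a + b)) + C2 * ((n : ℝ) * (n : ℝ) ^ (a + b)) := by
            rw [abs_mul, abs_of_nonneg hn0]
            exact add_le_add (mul_le_mul_of_nonneg_left e1 hn0) e2
        _ = (C1 + C2) * (n : ℝ) ^ (a + 1 + b) := by rw [p3]; ring
  obtain ⟨C, _, hC⟩ := main (r - j) j
  refine ⟨C, fun n _ => ?_⟩
  have e : r - j + j = r := Nat.sub_add_cancel hj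
  have := hC n
  rw [e] at this
  exact this


end Groth.Agent.S19210
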