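import Groth.Statements.S19212
import Mathlib
import Groth.Agent.Lib.Helper28.DiagIdeal

set_option autoImplicit false
universe u v
open TensorProduct
open DiagIdeal

namespace Groth.Agent.S19212

open Groth.Agent.Helper28.DiagIdealLib

section aux
variable (k : Type u) [Field k] (A : Type v) [CommRing A] [Algebra k A]

/-- swap of the first two factors, as an algebra map -/
noncomputable def S1 : A ⊗[k] (A ⊗[k] A) →ₐ[k] A ⊗[k] (A ⊗[k] A) :=
  (Algebra.TensorProduct.leftComm k A A A).toAlgHom

/-- swap of the last two factors, as an algebra map -/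
noncomputable def S2 : A ⊗[k] (A ⊗[k] A) →ₐ[k] A ⊗[k] (A ⊗[k] A) :=
  Algebra.TensorProduct.map (AlgHom.id k A) (Algebra.TensorProduct.comm k A A).toAlgHom

/-- restriction to the diagonal of the first two factors, as an algebra map -/
noncomputable def Ralg : A ⊗[k] (A ⊗[k] A) →ₐ[k] A ⊗[k] A :=
  Algebra.TensorProduct.lift Algebra.TensorProduct.includeLeft (AlgHom.id k (A ⊗[k] A))
    (fun _ _ => Commute.all _ _)

lemma S1_apply (x : A ⊗[k] (A ⊗[k] A)) : S1 k A x = TensorProduct.leftComm k A A A x := by
  have : (S1 k A).toLinearMap = (TensorProduct.leftComm k A A A).toLinearMap := by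
    ext a b c
    rfl
  exact DFunLike.congr_fun this x

lemma S2_apply (x : A ⊗[k] (A ⊗[k] A)) :
    S2 k A x = LinearMap.lTensor A (TensorProduct.comm k A A).toLinearMap x := by
  have : (S2 k A).toLinearMap = LinearMap.lTensor A (TensorProduct.comm k A A).toLinearMap := by
    ext a b c
    rfl
  exact DFunLike.congr_fun this x

lemma Ralg_apply (r : A ⊗[k] (A ⊗[k] A) →ₗ[k] A ⊗[k] A)
    (hr : ∀ a b c : A, r (a ⊗ₜ[k] (b ⊗ₜ[k] c)) = (a * b) ⊗ₜ[k] c) (x : A ⊗[k] (A ⊗[k] A)) :
    Ralg k A x = r x := by
  have : (Ralg k A).toLinearMap = r := by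
    ext a b c
    simp [Ralg, hr]
  exact DFunLike.congr_fun this x

/-- the invariants -/
noncomputable def Inv : Subalgebra k (A ⊗[k] (A ⊗[k] A)) :=
  AlgHom.equalizer (S1 k A) (AlgHom.id k _) ⊓ AlgHom.equalizer (S2 k A) (AlgHom.id k _)

lemma mem_Inv (x : A ⊗[k] (A ⊗[k] A)) : x ∈ Inv k A ↔
    TensorProduct.leftComm k A A A x = x ∧
      LinearMap.lTensor A (TensorProduct.comm k A A).toLinearMap x = x := by
  simp only [Inv, Algebra.mem_inf, AlgHom.mem_equalizer, S1_apply, S2_apply, AlgHom.id_apply]

lemma pp_mem (c : A) : pp k A c ∈ (Inv k A).map (Ralg k A) := by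
  rw [Subalgebra.mem_map]
  refine ⟨c ⊗ₜ[k] ((1 : A) ⊗ₜ[k] (1 : A)) + (1 : A) ⊗ₜ[k] (c ⊗ₜ[k] (1 : A))
    + (1 : A) ⊗ₜ[k] ((1 : A) ⊗ₜ[k] c), ?_, ?_⟩
  · rw [mem_Inv]
    constructor
    · simp only [map_add, TensorProduct.leftComm_tmul]
      abel
    · simp only [map_add, LinearMap.lTensor_tmul, LinearEquiv.coe_coe, TensorProduct.comm_tmul]
      abel
  · simp [Ralg, pp]

end aux

/-- Let k be an algebraically closed field of characteristic zero and A a smooth k-algebra which is a
domain. Let the symmetric group on three letters permute the factors of A ⊗ A ⊗ A (it is generated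
by the swap of the first two factors and the swap of the last two), let r : A ⊗ (A ⊗ A) → A ⊗ A be
the k-linear map a ⊗ b ⊗ c ↦ ab ⊗ c, and let D : A ⊗ A → Ω_{A/k} be the k-linear map a ⊗ b ↦ 2a·db −
b·da. Then an element y of A ⊗ A satisfies D y = 0 if and only if y = r x for some x fixed by both
swaps, and D is surjective. (This is exactness at the last two places of the four-term right
resolution of the invariants of the ideal of the big diagonal on the symmetric cube of X = Spec A,
namely invariant functions on X³, then functions on X × X through restriction to a diagonal, then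
one-forms on X; exactness at the first two places is immediate. The published statement is the sheaf
version on the symmetric cube of a smooth complex variety of any dimension; an algebraically closed
field of characteristic zero is used here.) -/
theorem result (k : Type u) [Field k] [IsAlgClosed k] [CharZero k]
    (A : Type v) [CommRing A] [Algebra k A] [Algebra.Smooth k A] [IsDomain A]
    (r : A ⊗[k] (A ⊗[k] A) →ₗ[k] A ⊗[k] A)
    (hr : ∀ a b c : A, r (a ⊗ₜ[k] (b ⊗ₜ[k] c)) = (a * b) ⊗ₜ[k] c)
    (D : A ⊗[k] A →ₗ[k] Ω[A⁄k])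
    (hD : ∀ a b : A, D (a ⊗ₜ[k] b) = (2 : A) • (a • KaehlerDifferential.D k A b) - b • KaehlerDifferential.D k A a) :
    (∀ y : A ⊗[k] A, D y = 0 ↔ ∃ x : A ⊗[k] (A ⊗[k] A),
        TensorProduct.leftComm k A A A x = x ∧
        LinearMap.lTensor A (TensorProduct.comm k A A).toLinearMap x = x ∧ r x = y) ∧
    Function.Surjective D := by
  -- `D = 3 δ - d ∘ m`
  have hDeq : ∀ y : A ⊗[k] A, D y = (3 : k) • delta k A y
      - (KaehlerDifferential.D k A) (LinearMap.mul' k A y) := by
    intro y
    have : D = (3 : k) • delta k A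
        - (KaehlerDifferential.D k A).toLinearMap.comp (LinearMap.mul' k A) := by
      ext a b
      simp only [AlgebraTensorModule.curry_apply, curry_apply, LinearMap.coe_restrictScalars,
        hD, LinearMap.sub_apply, LinearMap.smul_apply, delta_tmul, LinearMap.comp_apply,
        LinearMap.mul'_apply, Derivation.coeFn_coe, Derivation.leibniz]
      rw [show ((3 : k) • (a • (KaehlerDifferential.D k A) b) : Ω[A⁄k])
        = (3 : A) • (a • (KaehlerDifferential.D k A) b) by
          rw [← map_ofNat (algebraMap k A) 3, algebraMap_smul]]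
      module
    rw [this]; rfl
  have h3 : (3 : k) ≠ 0 := by norm_num
  constructor
  · intro y
    constructor
    · intro hy
      -- subtract `pp (m y) / 3`
      set f : A := LinearMap.mul' k A y with hf
      set y' : A ⊗[k] A := y - (3 : k)⁻¹ • pp k A f with hy'
      have hmpp : LinearMap.mul' k A (pp k A f) = (3 : k) • f := by
        simp only [pp, map_add, LinearMap.mul'_apply, mul_one, one_mul]
        rw [ofNat_smul_eq_nsmul k 3 f]
        simp only [succ_nsmul, zero_nsmul, zero_add]
      have hDpp : D (pp k A f) = 0 := by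
        simp only [pp, map_add, hD, Derivation.map_one_eq_zero, smul_zero, one_smul]
        module
      have hy'I : y' ∈ KaehlerDifferential.ideal k A := by
        rw [RingHom.mem_ker]
        have : (Algebra.TensorProduct.lmul' k : A ⊗[k] A →ₐ[k] A) y' = LinearMap.mul' k A y' := by
          rw [← Algebra.TensorProduct.lmul'_toLinearMap]; rfl
        rw [this, hy', map_sub, map_smul, hmpp, smul_smul, inv_mul_cancel₀ h3, one_smul, sub_self]
      have hDy' : D y' = 0 := by
        rw [hy', map_sub, map_smul, hy, hDpp, smul_zero, sub_zero]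
      have hδ : delta k A y' = 0 := by
        have h1 := hDeq y'
        have h2 : LinearMap.mul' k A y' = 0 := by
          have : (Algebra.TensorProduct.lmul' k : A ⊗[k] A →ₐ[k] A) y' = LinearMap.mul' k A y' := by
            rw [← Algebra.TensorProduct.lmul'_toLinearMap]; rfl
          rw [← this]; exact hy'I
        rw [hDy', h2, map_zero, sub_zero] at h1
        exact (smul_eq_zero.mp h1.symm).resolve_left h3
      have hsq := mem_sq_of_delta_eq_zero k A hy'I hδ
      have hy'R : y' ∈ (Inv k A).map (Ralg k A) :=
        sq_le_subalgebra k A _ (pp_mem k A) y' hsq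
      have hyR : y ∈ (Inv k A).map (Ralg k A) := by
        have : y = y' + (3 : k)⁻¹ • pp k A f := by rw [hy']; abel
        rw [this]
        exact add_mem hy'R (Subalgebra.smul_mem _ (pp_mem k A f) _)
      obtain ⟨x, hx, hxy⟩ := Subalgebra.mem_map.mp hyR
      rw [mem_Inv] at hx
      refine ⟨x, hx.1, hx.2, ?_⟩
      rw [← Ralg_apply k A r hr]; exact hxy
    · rintro ⟨x, hx1, hx2, rfl⟩
      -- symmetrisation
      let s1 : A ⊗[k] (A ⊗[k] A) →ₗ[k] A ⊗[k] (A ⊗[k] A) :=
        (TensorProduct.leftComm k A A A).toLinearMap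
      let s2 : A ⊗[k] (A ⊗[k] A) →ₗ[k] A ⊗[k] (A ⊗[k] A) :=
        LinearMap.lTensor A (TensorProduct.comm k A A).toLinearMap
      have hN : (D.comp r).comp (LinearMap.id + s1 + s2 + s1.comp s2 + s2.comp s1
          + s1.comp (s2.comp s1)) = 0 := by
        ext a b c
        simp only [AlgebraTensorModule.curry_apply, curry_apply, LinearMap.coe_restrictScalars,
          LinearMap.comp_apply, LinearMap.add_apply, LinearMap.id_apply, s1, s2,
          LinearEquiv.coe_coe, TensorProduct.leftComm_tmul, LinearMap.lTensor_tmul,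
          TensorProduct.comm_tmul, map_add, hr, hD, Derivation.leibniz, LinearMap.zero_apply]
        module
      have h6 : (6 : k) • D (r x) = 0 := by
        have := DFunLike.congr_fun hN x
        simp only [LinearMap.comp_apply, LinearMap.add_apply, LinearMap.id_apply, s1, s2,
          LinearEquiv.coe_coe, hx1, hx2, LinearMap.zero_apply] at this
        rw [← this]
        simp only [map_add]
        rw [ofNat_smul_eq_nsmul k 6]
        simp only [succ_nsmul, zero_nsmul, zero_add]
      exact (smul_eq_zero.mp h6).resolve_left (by norm_num)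
  · intro ω
    obtain ⟨y, hy⟩ := KaehlerDifferential.tensorProductTo_surjective k A ω
    -- `D (y - (m y) ⊗ 1) = 3 δ y`
    refine ⟨(3 : k)⁻¹ • (y - (LinearMap.mul' k A y) ⊗ₜ[k] (1 : A)), ?_⟩
    rw [map_smul, hDeq, map_sub, map_sub, delta_tmul, Derivation.map_one_eq_zero, smul_zero,
      sub_zero, LinearMap.mul'_apply, mul_one, sub_self, map_zero, sub_zero, smul_smul,
      inv_mul_cancel₀ h3, one_smul]
    exact hy

end Groth.Agent.S19212
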