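import Groth.Statements.S19213
import Mathlib
import Groth.Agent.Lib.Helper28.DiagIdeal

set_option autoImplicit false
universe u v
open TensorProduct
open DiagIdeal

namespace Groth.Agent.S19213

open Groth.Agent.Helper28.DiagIdealLib

section aux
variable (k : Type u) [Field k] (A : Type v) [CommRing A] [Algebra k A]

/-- swap of the last two factors, as an algebra map -/
noncomputable def S2 : A ⊗[k] (A ⊗[k] A) →ₐ[k] A ⊗[k] (A ⊗[k] A) :=
  Algebra.TensorProduct.map (AlgHom.id k A) (Algebra.TensorProduct.comm k A A).toAlgHom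

/-- restriction to the diagonal of the first two factors, as an algebra map -/
noncomputable def R12 : A ⊗[k] (A ⊗[k] A) →ₐ[k] A ⊗[k] A :=
  Algebra.TensorProduct.lift Algebra.TensorProduct.includeLeft (AlgHom.id k (A ⊗[k] A))
    (fun _ _ => Commute.all _ _)

/-- restriction to the diagonal of the last two factors, as an algebra map -/
noncomputable def R23 : A ⊗[k] (A ⊗[k] A) →ₐ[k] A ⊗[k] A :=
  Algebra.TensorProduct.lift Algebra.TensorProduct.includeRight
    ((Algebra.TensorProduct.includeLeft (R := k) (S := k) (A := A) (B := A)).comp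
      (Algebra.TensorProduct.lmul' k))
    (fun _ _ => Commute.all _ _)

lemma S2_apply (x : A ⊗[k] (A ⊗[k] A)) :
    S2 k A x = LinearMap.lTensor A (TensorProduct.comm k A A).toLinearMap x := by
  have : (S2 k A).toLinearMap = LinearMap.lTensor A (TensorProduct.comm k A A).toLinearMap := by
    ext a b c
    rfl
  exact DFunLike.congr_fun this x

lemma R12_apply (r : A ⊗[k] (A ⊗[k] A) →ₗ[k] A ⊗[k] A)
    (hr : ∀ a b c : A, r (a ⊗ₜ[k] (b ⊗ₜ[k] c)) = (a * b) ⊗ₜ[k] c) (x : A ⊗[k] (A ⊗[k] A)) :
    R12 k A x = r x := by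
  have : (R12 k A).toLinearMap = r := by
    ext a b c
    simp [R12, hr]
  exact DFunLike.congr_fun this x

lemma R23_apply (r : A ⊗[k] (A ⊗[k] A) →ₗ[k] A ⊗[k] A)
    (hr : ∀ a b c : A, r (a ⊗ₜ[k] (b ⊗ₜ[k] c)) = (b * c) ⊗ₜ[k] a) (x : A ⊗[k] (A ⊗[k] A)) :
    R23 k A x = r x := by
  have : (R23 k A).toLinearMap = r := by
    ext a b c
    simp [R23, hr]
  exact DFunLike.congr_fun this x

/-- the invariants under the swap of the last two factors -/
noncomputable def Inv : Subalgebra k (A ⊗[k] (A ⊗[k] A)) :=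
  AlgHom.equalizer (S2 k A) (AlgHom.id k _)

lemma mem_Inv (x : A ⊗[k] (A ⊗[k] A)) : x ∈ Inv k A ↔
      LinearMap.lTensor A (TensorProduct.comm k A A).toLinearMap x = x := by
  simp only [Inv, AlgHom.mem_equalizer, S2_apply, AlgHom.id_apply]

/-- the image of the invariants in `(A ⊗ A) × (A ⊗ A)` -/
noncomputable def Rim : Subalgebra k ((A ⊗[k] A) × (A ⊗[k] A)) :=
  (Inv k A).map ((R12 k A).prod (R23 k A))

lemma E1_mem (a : A) : ((a ⊗ₜ[k] (1 : A), (1 : A) ⊗ₜ[k] a) : (A ⊗[k] A) × (A ⊗[k] A)) ∈ Rim k A := by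
  rw [Rim, Subalgebra.mem_map]
  refine ⟨a ⊗ₜ[k] ((1 : A) ⊗ₜ[k] (1 : A)), ?_, ?_⟩
  · rw [mem_Inv]
    simp
  · simp [R12, R23]

lemma E2_mem (u : A) : ((u ⊗ₜ[k] (1 : A) + (1 : A) ⊗ₜ[k] u, u ⊗ₜ[k] (1 : A) + u ⊗ₜ[k] (1 : A)) :
    (A ⊗[k] A) × (A ⊗[k] A)) ∈ Rim k A := by
  rw [Rim, Subalgebra.mem_map]
  refine ⟨(1 : A) ⊗ₜ[k] (u ⊗ₜ[k] (1 : A)) + (1 : A) ⊗ₜ[k] ((1 : A) ⊗ₜ[k] u), ?_, ?_⟩
  · rw [mem_Inv]
    simp only [map_add, LinearMap.lTensor_tmul, LinearEquiv.coe_coe, TensorProduct.comm_tmul]
    abel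
  · simp [R12, R23]

/-- `(dl u, -2 dl u)` lies in the image. -/
lemma E3_mem (u : A) : ((dl k A u, -(dl k A u + dl k A u)) :
    (A ⊗[k] A) × (A ⊗[k] A)) ∈ Rim k A := by
  have h := sub_mem (E2_mem k A u) (add_mem (E1_mem k A u) (E1_mem k A u))
  convert h using 1
  ext
  · simp only [dl, Prod.fst_sub, Prod.fst_add]; abel
  · simp only [dl, Prod.snd_sub, Prod.snd_add]; abel

end aux

section aux2
variable (k : Type u) [Field k] [CharZero k] (A : Type v) [CommRing A] [Algebra k A]

lemma snd_surj (f : A ⊗[k] A) : ∃ F ∈ Rim k A, F.2 = f := by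
  induction f using TensorProduct.induction_on with
  | zero => exact ⟨0, zero_mem _, rfl⟩
  | add f g hf hg =>
    obtain ⟨F, hF, rfl⟩ := hf
    obtain ⟨G, hG, rfl⟩ := hg
    exact ⟨F + G, add_mem hF hG, rfl⟩
  | tmul a b =>
    refine ⟨((2 : k)⁻¹ • (a ⊗ₜ[k] (1 : A) + (1 : A) ⊗ₜ[k] a,
      a ⊗ₜ[k] (1 : A) + a ⊗ₜ[k] (1 : A))) * (b ⊗ₜ[k] (1 : A), (1 : A) ⊗ₜ[k] b),
      mul_mem (Subalgebra.smul_mem _ (E2_mem k A a) _) (E1_mem k A b), ?_⟩
    simp only [Prod.snd_mul, Prod.smul_snd]
    rw [← two_smul k (a ⊗ₜ[k] (1 : A)), smul_smul, inv_mul_cancel₀ (by norm_num), one_smul]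
    simp

/-- `(0, z)` lies in the image for `z ∈ I ^ 2`. -/
lemma zero_sq_mem (z : A ⊗[k] A) (hz : z ∈ (KaehlerDifferential.ideal k A) ^ 2) :
    ((0, z) : (A ⊗[k] A) × (A ⊗[k] A)) ∈ Rim k A := by
  have h4 : ∀ u v : A, ((0, dl k A u * dl k A v) : (A ⊗[k] A) × (A ⊗[k] A)) ∈ Rim k A := by
    intro u v
    refine mem_of_nsmul_mem' (Rim k A) 4 (by norm_num) ?_
    have h1 := mul_mem (E3_mem k A u) (E3_mem k A v)
    have h2 := sub_mem (add_mem (E2_mem k A (u * v)) (E2_mem k A (u * v)))
      (mul_mem (E2_mem k A u) (E2_mem k A v))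
    have h3 := sub_mem h1 h2
    convert h3 using 1
    ext
    · simp only [Prod.smul_fst, Prod.fst_sub, Prod.fst_mul, Prod.fst_add, smul_zero, dl,
        tmul_one_mul, one_tmul_mul]
      ring
    · simp only [Prod.smul_snd, Prod.snd_sub, Prod.snd_mul, Prod.snd_add, dl,
        tmul_one_mul, one_tmul_mul]
      simp only [nsmul_eq_mul, Nat.cast_ofNat]
      ring
  have := sq_le_of_forall k A
    (Submodule.comap (LinearMap.inr k (A ⊗[k] A) (A ⊗[k] A)) (Subalgebra.toSubmodule (Rim k A)))
    (by
      intro f a b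
      rw [Submodule.mem_comap, LinearMap.inr_apply, Subalgebra.mem_toSubmodule]
      obtain ⟨F, hF, rfl⟩ := snd_surj k A f
      have := mul_mem hF (h4 a b)
      convert this using 1
      ext <;> simp) z hz
  exact this

/-- the basic element `Φ y = (y - m y ⊗ 1, 2 τ y - 2 (1 ⊗ m y))` of the image. -/
lemma Phi_mem (y : A ⊗[k] A) :
    ((y - (LinearMap.mul' k A y) ⊗ₜ[k] (1 : A),
      (2 : k) • ((TensorProduct.comm k A A) y - (1 : A) ⊗ₜ[k] (LinearMap.mul' k A y))) :
      (A ⊗[k] A) × (A ⊗[k] A)) ∈ Rim k A := by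
  induction y using TensorProduct.induction_on with
  | zero =>
    convert zero_mem (Rim k A) using 1
    simp
  | add f g hf hg =>
    have := add_mem hf hg
    convert this using 1
    ext
    · simp only [map_add, TensorProduct.add_tmul, Prod.fst_add]; abel
    · simp only [map_add, TensorProduct.tmul_add, Prod.snd_add, ← smul_add]
      congr 1; abel
  | tmul a u =>
    have := mul_mem (E1_mem k A a) (E3_mem k A u)
    convert this using 1
    ext
    · simp only [LinearMap.mul'_apply, Prod.fst_mul, dl, mul_sub,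
        Algebra.TensorProduct.tmul_mul_tmul, mul_one, one_mul]
    · simp only [LinearMap.mul'_apply, Prod.snd_mul, dl, TensorProduct.comm_tmul, two_smul,
        mul_neg, mul_add, mul_sub, Algebra.TensorProduct.tmul_mul_tmul, mul_one, one_mul]
      abel

/-- the flip preserves `I ^ 2`. -/
lemma comm_mem_sq (z : A ⊗[k] A) (hz : z ∈ (KaehlerDifferential.ideal k A) ^ 2) :
    (TensorProduct.comm k A A) z ∈ (KaehlerDifferential.ideal k A) ^ 2 := by
  have hI : (KaehlerDifferential.ideal k A).map (Algebra.TensorProduct.comm k A A).toAlgHom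
      ≤ KaehlerDifferential.ideal k A := by
    rw [Ideal.map_le_iff_le_comap]
    intro y hy
    rw [Ideal.mem_comap, RingHom.mem_ker]
    rw [RingHom.mem_ker] at hy
    have : (Algebra.TensorProduct.lmul' k : A ⊗[k] A →ₐ[k] A).comp
        (Algebra.TensorProduct.comm k A A).toAlgHom = Algebra.TensorProduct.lmul' k := by
      ext a <;> simp
    have h2 := DFunLike.congr_fun this y
    rw [AlgHom.comp_apply] at h2
    rw [← hy, ← h2]
  have h1 : (Algebra.TensorProduct.comm k A A).toAlgHom z ∈
      ((KaehlerDifferential.ideal k A) ^ 2).map (Algebra.TensorProduct.comm k A A).toAlgHom :=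
    Ideal.mem_map_of_mem _ hz
  rw [Ideal.map_pow] at h1
  have h2 := Ideal.pow_right_mono hI 2 h1
  have h3 : (Algebra.TensorProduct.comm k A A).toAlgHom z = (TensorProduct.comm k A A) z := by
    have : (Algebra.TensorProduct.comm k A A).toAlgHom.toLinearMap
        = (TensorProduct.comm k A A).toLinearMap := by
      ext a b; rfl
    exact DFunLike.congr_fun this z
  rw [← h3]; exact h2

end aux2

/-- Let k be an algebraically closed field of characteristic zero and A a smooth k-algebra which is a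
domain. Let r₁₂, r₂₃ : A ⊗ (A ⊗ A) → A ⊗ A be the k-linear maps a ⊗ u ⊗ v ↦ au ⊗ v and a ⊗ u ⊗ v ↦
uv ⊗ a (restriction to the diagonal of factors 1, 2, resp. 2, 3, the repeated coordinate written
first), let m : A ⊗ A → A be multiplication, and let ψ : (A ⊗ A) × (A ⊗ A) → Ω_{A/k} be the k-linear
map with ψ(a ⊗ u, b ⊗ v) = 2a·du − v·db. Then for p, q in A ⊗ A with m p = m q one has ψ(p, q) = 0
if and only if (p, q) = (r₁₂ x, r₂₃ x) for some x fixed by the swap of the last two tensor factors;
and every element of Ω_{A/k} is ψ(p, q) for some pair with m p = m q. (This is exactness at the last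
two places of the right resolution, on the symmetric cube of X = Spec A, of the invariants of the
ideal of the big diagonal under the transposition of the last two factors; exactness at the first
two places is immediate. The published statement is the sheaf version for a smooth complex variety
of any dimension; an algebraically closed field of characteristic zero is used here.) -/
theorem result (k : Type u) [Field k] [IsAlgClosed k] [CharZero k]
    (A : Type v) [CommRing A] [Algebra k A] [Algebra.Smooth k A] [IsDomain A]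
    (r₁₂ r₂₃ : A ⊗[k] (A ⊗[k] A) →ₗ[k] A ⊗[k] A)
    (h₁₂ : ∀ a u v : A, r₁₂ (a ⊗ₜ[k] (u ⊗ₜ[k] v)) = (a * u) ⊗ₜ[k] v)
    (h₂₃ : ∀ a u v : A, r₂₃ (a ⊗ₜ[k] (u ⊗ₜ[k] v)) = (u * v) ⊗ₜ[k] a)
    (ψ : (A ⊗[k] A) × (A ⊗[k] A) →ₗ[k] Ω[A⁄k])
    (hψ : ∀ a u b v : A, ψ (a ⊗ₜ[k] u, b ⊗ₜ[k] v) =
      (2 : A) • (a • KaehlerDifferential.D k A u) - v • KaehlerDifferential.D k A b) :
    (∀ p q : A ⊗[k] A, LinearMap.mul' k A p = LinearMap.mul' k A q →
      (ψ (p, q) = 0 ↔ ∃ x : A ⊗[k] (A ⊗[k] A),
        LinearMap.lTensor A (TensorProduct.comm k A A).toLinearMap x = x ∧ r₁₂ x = p ∧ r₂₃ x = q)) ∧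
    (∀ ω : Ω[A⁄k], ∃ p q : A ⊗[k] A, LinearMap.mul' k A p = LinearMap.mul' k A q ∧ ψ (p, q) = ω) := by
  have h2 : (2 : k) ≠ 0 := by norm_num
  -- `ψ (p, q) = 2 δ p - δ (τ q)`
  have hψeq : ∀ p q : A ⊗[k] A, ψ (p, q) = (2 : k) • delta k A p
      - delta k A ((TensorProduct.comm k A A) q) := by
    intro p q
    have : ψ = ((2 : k) • delta k A).comp (LinearMap.fst k _ _)
        - ((delta k A).comp (TensorProduct.comm k A A).toLinearMap).comp (LinearMap.snd k _ _) := by
      apply LinearMap.prod_ext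
      · ext a u
        have := hψ a u 0 0
        rw [TensorProduct.zero_tmul] at this
        simp only [AlgebraTensorModule.curry_apply, curry_apply, LinearMap.coe_restrictScalars,
          LinearMap.comp_apply, LinearMap.inl_apply, this, LinearMap.sub_apply,
          LinearMap.smul_apply, LinearMap.fst_apply, LinearMap.snd_apply, delta_tmul, map_zero,
          smul_zero, sub_zero, LinearEquiv.coe_coe]
        rw [← map_ofNat (algebraMap k A) 2, algebraMap_smul]
      · ext b v
        have := hψ 0 0 b v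
        rw [TensorProduct.zero_tmul] at this
        simp only [AlgebraTensorModule.curry_apply, curry_apply, LinearMap.coe_restrictScalars,
          LinearMap.comp_apply, LinearMap.inr_apply, this, LinearMap.sub_apply,
          LinearMap.smul_apply, LinearMap.fst_apply, LinearMap.snd_apply, delta_tmul, map_zero,
          smul_zero, zero_sub, LinearEquiv.coe_coe, TensorProduct.comm_tmul, zero_smul]
    rw [this]; rfl
  have hlmul : ∀ y : A ⊗[k] A,
      (Algebra.TensorProduct.lmul' k : A ⊗[k] A →ₐ[k] A) y = LinearMap.mul' k A y := by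
    intro y
    rw [← Algebra.TensorProduct.lmul'_toLinearMap]; rfl
  have hmτ : ∀ y : A ⊗[k] A, LinearMap.mul' k A ((TensorProduct.comm k A A) y)
      = LinearMap.mul' k A y := by
    intro y
    have : (LinearMap.mul' k A).comp (TensorProduct.comm k A A).toLinearMap
        = LinearMap.mul' k A := by
      ext a b
      simp [mul_comm]
    exact DFunLike.congr_fun this y
  constructor
  · intro p q hm
    constructor
    · intro hpq
      set f : A := LinearMap.mul' k A p with hf
      set z : A ⊗[k] A := q + (1 : A) ⊗ₜ[k] f - (2 : k) • (TensorProduct.comm k A A) p with hz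
      have hzI : (TensorProduct.comm k A A) z ∈ KaehlerDifferential.ideal k A := by
        rw [RingHom.mem_ker, hlmul, hmτ, hz, map_sub, map_add, map_smul, hmτ, ← hm, ← hf,
          LinearMap.mul'_apply, one_mul, two_smul]
        abel
      have hδ : delta k A ((TensorProduct.comm k A A) z) = 0 := by
        have h1 := hψeq p q
        rw [hpq] at h1
        rw [hz, map_sub, map_add, map_smul, map_sub, map_add, map_smul,
          TensorProduct.comm_tmul, delta_tmul, Derivation.map_one_eq_zero, smul_zero, add_zero]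
        have : (TensorProduct.comm k A A) ((TensorProduct.comm k A A) p) = p := by
          have := (TensorProduct.comm k A A).symm_apply_apply p
          rwa [TensorProduct.comm_symm] at this
        rw [this, sub_eq_zero]
        exact (sub_eq_zero.mp h1.symm).symm
      have hsq := mem_sq_of_delta_eq_zero k A hzI hδ
      have hsq' := comm_mem_sq k A _ hsq
      have : (TensorProduct.comm k A A) ((TensorProduct.comm k A A) z) = z := by
        have := (TensorProduct.comm k A A).symm_apply_apply z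
        rwa [TensorProduct.comm_symm] at this
      rw [this] at hsq'
      have hmem : ((p, q) : (A ⊗[k] A) × (A ⊗[k] A)) ∈ Rim k A := by
        have h1 := add_mem (add_mem (E1_mem k A f) (Phi_mem k A p)) (zero_sq_mem k A z hsq')
        convert h1 using 1
        ext
        · simp only [Prod.fst_add, ← hf]; abel
        · simp only [Prod.snd_add, ← hf, hz, smul_sub, two_smul]; abel
      rw [Rim, Subalgebra.mem_map] at hmem
      obtain ⟨x, hx, hxy⟩ := hmem
      rw [mem_Inv] at hx
      refine ⟨x, hx, ?_, ?_⟩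
      · rw [← R12_apply k A r₁₂ h₁₂]
        exact congrArg Prod.fst hxy
      · rw [← R23_apply k A r₂₃ h₂₃]
        exact congrArg Prod.snd hxy
    · rintro ⟨x, hx, rfl, rfl⟩
      let s2 : A ⊗[k] (A ⊗[k] A) →ₗ[k] A ⊗[k] (A ⊗[k] A) :=
        LinearMap.lTensor A (TensorProduct.comm k A A).toLinearMap
      let L : A ⊗[k] (A ⊗[k] A) →ₗ[k] Ω[A⁄k] := ψ.comp (r₁₂.prod r₂₃)
      have hL : ∀ x, L x = ψ (r₁₂ x, r₂₃ x) := fun x => rfl
      have hN : L.comp (LinearMap.id + s2) = 0 := by
        ext a b c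
        simp only [AlgebraTensorModule.curry_apply, curry_apply, LinearMap.coe_restrictScalars,
          LinearMap.comp_apply, LinearMap.add_apply, LinearMap.id_apply, s2,
          LinearEquiv.coe_coe, LinearMap.lTensor_tmul,
          TensorProduct.comm_tmul, LinearMap.zero_apply]
        rw [map_add, hL, hL]
        simp only [h₁₂, h₂₃, hψ, Derivation.leibniz]
        module
      have h6 : (2 : k) • ψ (r₁₂ x, r₂₃ x) = 0 := by
        have := DFunLike.congr_fun hN x
        simp only [LinearMap.comp_apply, LinearMap.add_apply, LinearMap.id_apply, s2,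
          hx, LinearMap.zero_apply] at this
        rw [map_add, hL] at this
        rw [two_smul]; exact this
      exact (smul_eq_zero.mp h6).resolve_left h2
  · intro ω
    obtain ⟨y, hy⟩ := KaehlerDifferential.tensorProductTo_surjective k A ω
    refine ⟨(2 : k)⁻¹ • (y - (LinearMap.mul' k A y) ⊗ₜ[k] (1 : A)), 0, ?_, ?_⟩
    · rw [map_smul, map_sub, LinearMap.mul'_apply, mul_one, sub_self, smul_zero, map_zero]
    · rw [hψeq, map_zero, map_zero, sub_zero, map_smul, smul_smul, mul_inv_cancel₀ h2, one_smul,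
        map_sub, delta_tmul, Derivation.map_one_eq_zero, smul_zero, sub_zero]
      exact hy

end Groth.Agent.S19213
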