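import Groth.Statements.S19216
import Mathlib

set_option autoImplicit false
universe u
open SymRep

namespace Groth.Agent.S19216

/-- Let k be a field of characteristic zero and r, s ≥ 1. Realise the standard representation of the
symmetric group on a finite set T as the hyperplane of functions T → k with sum zero, the group
acting by precomposition with the inverse. Then the standard representation of the symmetric group
of Fin r ⊕ Fin s, restricted to the subgroup S_r × S_s, is isomorphic to the direct sum of the
standard representations of S_r and of S_s and of a one-dimensional trivial representation: there is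
a k-linear map E from functions on Fin r ⊕ Fin s to triples (function on Fin r, function on Fin s,
scalar), compatible with the actions of S_r × S_s (trivial on the scalar), which maps the sum-zero
hyperplane bijectively onto the product of the two sum-zero hyperplanes and k. (The published
statement is over the complex numbers; a field of characteristic zero is used here. The published
statement also gives the analogous decomposition for any number of blocks, which follows by
induction; only the two-block case is stated here.) -/
theorem result (k : Type u) [Field k] [CharZero k]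
    (r s : ℕ) (hr : 1 ≤ r) (hs : 1 ≤ s) :
    ∃ E : (Fin r ⊕ Fin s → k) →ₗ[k] (Fin r → k) × (Fin s → k) × k,
      (∀ (σ : Equiv.Perm (Fin r)) (τ : Equiv.Perm (Fin s)) (f : Fin r ⊕ Fin s → k),
        E (f ∘ ⇑(Equiv.sumCongr σ τ).symm) = ((E f).1 ∘ ⇑σ.symm, (E f).2.1 ∘ ⇑τ.symm, (E f).2.2)) ∧
      Set.BijOn E {f | ∑ i, f i = 0}
        ({g : Fin r → k | ∑ i, g i = 0} ×ˢ ({h : Fin s → k | ∑ i, h i = 0} ×ˢ Set.univ)) := by
  have hr0 : (r : k) ≠ 0 := by exact_mod_cast (by omega : r ≠ 0)
  have hs0 : (s : k) ≠ 0 := by exact_mod_cast (by omega : s ≠ 0)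
  -- the two partial sums as linear functionals
  let sa : (Fin r ⊕ Fin s → k) →ₗ[k] k :=
    { toFun := fun f => ∑ i : Fin r, f (Sum.inl i)
      map_add' := by intro f g; simp [Finset.sum_add_distrib]
      map_smul' := by intro c f; simp [Finset.mul_sum] }
  let sb : (Fin r ⊕ Fin s → k) →ₗ[k] k :=
    { toFun := fun f => ∑ j : Fin s, f (Sum.inr j)
      map_add' := by intro f g; simp [Finset.sum_add_distrib]
      map_smul' := by intro c f; simp [Finset.mul_sum] }
  let E : (Fin r ⊕ Fin s → k) →ₗ[k] (Fin r → k) × (Fin s → k) × k :=
    { toFun := fun f => (fun i => f (Sum.inl i) - sa f / r, fun j => f (Sum.inr j) - sb f / s, sa f)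
      map_add' := by
        intro f g
        ext <;> simp [map_add, add_div] <;> ring
      map_smul' := by
        intro c f
        ext <;> simp [map_smul, mul_div_assoc, mul_sub] }
  have hE : ∀ f, E f =
      (fun i => f (Sum.inl i) - sa f / r, fun j => f (Sum.inr j) - sb f / s, sa f) := fun f => rfl
  have hsa : ∀ f, sa f = ∑ i : Fin r, f (Sum.inl i) := fun f => rfl
  have hsb : ∀ f, sb f = ∑ j : Fin s, f (Sum.inr j) := fun f => rfl
  have hsum : ∀ f : Fin r ⊕ Fin s → k, ∑ i, f i = sa f + sb f := by
    intro f
    rw [Fintype.sum_sum_type, hsa, hsb]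
  refine ⟨E, ?_, ?_, ?_, ?_⟩
  · intro σ τ f
    have h1 : sa (f ∘ ⇑(Equiv.sumCongr σ τ).symm) = sa f := by
      rw [hsa, hsa]
      exact Fintype.sum_equiv σ.symm _ _ (fun i => by simp)
    have h2 : sb (f ∘ ⇑(Equiv.sumCongr σ τ).symm) = sb f := by
      rw [hsb, hsb]
      exact Fintype.sum_equiv τ.symm _ _ (fun i => by simp)
    rw [hE, hE, h1, h2]
    ext <;> simp
  · intro f hf
    rw [Set.mem_ofPred_eq, hsum] at hf
    rw [hE]
    refine ⟨?_, ?_, trivial⟩
    · simp only [Set.mem_ofPred_eq, Finset.sum_sub_distrib, Finset.sum_const, Finset.card_univ,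
        Fintype.card_fin, nsmul_eq_mul, ← hsa]
      field_simp
      ring
    · simp only [Set.mem_ofPred_eq, Finset.sum_sub_distrib, Finset.sum_const, Finset.card_univ,
        Fintype.card_fin, nsmul_eq_mul, ← hsb]
      field_simp
      ring
  · intro f hf g hg hfg
    rw [Set.mem_ofPred_eq, hsum] at hf hg
    rw [hE, hE] at hfg
    have h3 : sa f = sa g := congrArg (fun t => t.2.2) hfg
    have h4 : sb f = sb g := by
      have : sb f = - sa f := by linear_combination hf
      rw [this, h3]
      linear_combination -hg
    funext x
    rcases x with i | j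
    · have := congrFun (congrArg (fun t => t.1) hfg) i
      simp only [h3] at this
      exact sub_left_injective this
    · have := congrFun (congrArg (fun t => t.2.1) hfg) j
      simp only [h4] at this
      exact sub_left_injective this
  · rintro ⟨g, h, c⟩ ⟨hg, hh, -⟩
    rw [Set.mem_ofPred_eq] at hg hh
    let f : Fin r ⊕ Fin s → k := Sum.elim (fun i => g i + c / r) (fun j => h j - c / s)
    have hfa : sa f = c := by
      rw [hsa]
      simp only [f, Sum.elim_inl, Finset.sum_add_distrib, hg, Finset.sum_const, Finset.card_univ,
        Fintype.card_fin, nsmul_eq_mul, zero_add]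
      field_simp
    have hfb : sb f = -c := by
      rw [hsb]
      simp only [f, Sum.elim_inr, Finset.sum_sub_distrib, hh, Finset.sum_const, Finset.card_univ,
        Fintype.card_fin, nsmul_eq_mul, zero_sub]
      field_simp
    refine ⟨f, ?_, ?_⟩
    · rw [Set.mem_ofPred_eq, hsum, hfa, hfb, add_neg_cancel]
    · rw [hE, hfa, hfb]
      ext <;> simp [f]
      ring

end Groth.Agent.S19216
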