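import Groth.Statements.S19221
import Mathlib
-- import your own Groth.Agent.* helpers here

set_option autoImplicit false
universe u
open SymRep

namespace Groth.Agent.S19221

section

variable {k : Type u} [Field k] {F : Type*} [AddCommGroup F] [Module k F]

/-- 4-fold determinant functional -/
noncomputable def D4 (L : F →ₗ[k] (Fin 4 → k)) : F [⋀^Fin 4]→ₗ[k] k :=
  (Matrix.detRowAlternating : (Fin 4 → k) [⋀^Fin 4]→ₗ[k] k).compLinearMap L

noncomputable def fam (L : F →ₗ[k] (Fin 4 → k)) : ∀ i, F [⋀^Fin i]→ₗ[k] k :=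
  fun i => if h : i = 4 then h ▸ D4 L else 0

noncomputable def Φ (L : F →ₗ[k] (Fin 4 → k)) : ExteriorAlgebra k F →ₗ[k] k :=
  ExteriorAlgebra.liftAlternating (fam L)

lemma Φ_apply (L : F →ₗ[k] (Fin 4 → k)) (w1 w2 w3 w4 : F) :
    Φ L (ExteriorAlgebra.ι k w1 * ExteriorAlgebra.ι k w2 * ExteriorAlgebra.ι k w3 *
      ExteriorAlgebra.ι k w4) = Matrix.det (Matrix.of ![L w1, L w2, L w3, L w4]) := by
  have e : ExteriorAlgebra.ι k w1 * ExteriorAlgebra.ι k w2 * ExteriorAlgebra.ι k w3 *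
      ExteriorAlgebra.ι k w4 = ExteriorAlgebra.ιMulti k 4 ![w1, w2, w3, w4] := by
    rw [ExteriorAlgebra.ιMulti_apply]
    simp [List.ofFn_succ, mul_assoc]
  rw [e, Φ, ExteriorAlgebra.liftAlternating_apply_ιMulti]
  have : fam L 4 = D4 L := by simp [fam]
  rw [this, D4]
  simp only [AlternatingMap.compLinearMap_apply]
  show Matrix.det _ = _
  congr 1
  ext i j
  fin_cases i <;> rfl

lemma det_kron (a b c d : k) :
    Matrix.det !![a, 0, b, 0; 0, a, 0, b; c, 0, d, 0; 0, c, 0, d] = (a * d - b * c) ^ 2 := by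
  rw [Matrix.det_succ_row_zero]
  simp only [Fin.sum_univ_succ, Fin.sum_univ_zero]
  simp [Matrix.det_fin_three, Matrix.submatrix, Fin.succAbove, Fin.castSucc, Fin.castAdd,
    Fin.castLE, Fin.lt_def]
  ring

/-- integer edge function of an oriented triangle -/
def Ez (i j l a b : Fin 4) : ℤ :=
  (if a = i ∧ b = j then 1 else 0) + (if a = j ∧ b = l then 1 else 0) + (if a = l ∧ b = i then 1 else 0)
    - (if a = j ∧ b = i then 1 else 0) - (if a = l ∧ b = j then 1 else 0) - (if a = i ∧ b = l then 1 else 0)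

lemma anticomm_swap {R : Type*} [Ring R] (a b c d : R) (h1 : d * a = -(a * d)) (h2 : c * a = -(a * c))
    (h3 : d * b = -(b * d)) (h4 : c * b = -(b * c)) : c * d * a * b = a * b * c * d := by
  calc c * d * a * b = c * (d * a) * b := by noncomm_ring
    _ = -((c * a) * (d * b)) := by rw [h1]; noncomm_ring
    _ = -(a * (c * b) * d) := by rw [h2, h3]; noncomm_ring
    _ = a * b * c * d := by rw [h4]; noncomm_ring

/-- the four coordinate functionals -/
def Lmap (k : Type u) [Field k] : (Fin 2 → Fin 4 → Fin 4 → k) →ₗ[k] (Fin 4 → k) where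
  toFun f := ![f 0 0 1, f 1 0 1, f 0 2 3, f 1 2 3]
  map_add' f g := by ext i; fin_cases i <;> simp
  map_smul' r f := by ext i; fin_cases i <;> simp

theorem main (k : Type u) [Field k] [CharZero k]
    (P : Equiv.Perm (Fin 4) → ((Fin 2 → Fin 4 → Fin 4 → k) →ₗ[k] (Fin 2 → Fin 4 → Fin 4 → k)))
    (hP : ∀ (σ : Equiv.Perm (Fin 4)) (f : Fin 2 → Fin 4 → Fin 4 → k) (c : Fin 2) (a b : Fin 4),
      P σ f c a b = f c (σ.symm a) (σ.symm b))
    (z : Fin 2 → Fin 4 → Fin 4 → Fin 4 → (Fin 2 → Fin 4 → Fin 4 → k))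
    (hz : ∀ (c : Fin 2) (i j l : Fin 4) (c' : Fin 2) (a b : Fin 4), z c i j l c' a b =
      if c' = c then
        ((if a = i ∧ b = j then 1 else 0) + (if a = j ∧ b = l then 1 else 0) + (if a = l ∧ b = i then 1 else 0)
          - (if a = j ∧ b = i then 1 else 0) - (if a = l ∧ b = j then 1 else 0) - (if a = i ∧ b = l then 1 else 0))
      else 0)
    (ω : ExteriorAlgebra k (Fin 2 → Fin 4 → Fin 4 → k))
    (hω : ω = ExteriorAlgebra.ι k (z 0 0 1 2) * ExteriorAlgebra.ι k (z 1 0 1 2) *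
      ExteriorAlgebra.ι k (z 0 0 2 3) * ExteriorAlgebra.ι k (z 1 0 2 3)) :
    ExteriorAlgebra.map (P (Equiv.swap 0 2)) ω = ω ∧
    ExteriorAlgebra.map (P (Equiv.swap 1 3)) ω = ω ∧
    (∑ σ : Equiv.Perm (Fin 4), ExteriorAlgebra.map (P σ) ω) ≠ 0 := by
  have hz' : ∀ (c : Fin 2) (i j l : Fin 4) (c' : Fin 2) (a b : Fin 4),
      z c i j l c' a b = if c' = c then ((Ez i j l a b : ℤ) : k) else 0 := by
    intro c i j l c' a b
    rw [hz]
    by_cases h : c' = c
    · rw [if_pos h, if_pos h]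
      simp only [Ez]
      push_cast
      rfl
    · rw [if_neg h, if_neg h]
  have hPz : ∀ (σ : Equiv.Perm (Fin 4)) (c : Fin 2) (i j l : Fin 4) (c' : Fin 2) (a b : Fin 4),
      P σ (z c i j l) c' a b = if c' = c then ((Ez i j l (σ.symm a) (σ.symm b) : ℤ) : k) else 0 := by
    intro σ c i j l c' a b
    rw [hP, hz']
  have hmap : ∀ σ : Equiv.Perm (Fin 4), ExteriorAlgebra.map (P σ) ω =
      ExteriorAlgebra.ι k (P σ (z 0 0 1 2)) * ExteriorAlgebra.ι k (P σ (z 1 0 1 2)) *
      ExteriorAlgebra.ι k (P σ (z 0 0 2 3)) * ExteriorAlgebra.ι k (P σ (z 1 0 2 3)) := by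
    intro σ
    rw [hω, map_mul, map_mul, map_mul, ExteriorAlgebra.map_apply_ι, ExteriorAlgebra.map_apply_ι,
      ExteriorAlgebra.map_apply_ι, ExteriorAlgebra.map_apply_ι]
  -- action of a permutation on a cycle vector, given the sign rule on the integer edge function
  have hact : ∀ (τ : Equiv.Perm (Fin 4)) (c : Fin 2) (i j l i' j' l' : Fin 4),
      (∀ a b : Fin 4, Ez i j l (τ.symm a) (τ.symm b) = - Ez i' j' l' a b) →
      P τ (z c i j l) = -(z c i' j' l') := by
    intro τ c i j l i' j' l' h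
    funext c' a b
    rw [hPz]
    show _ = -(z c i' j' l' c' a b)
    rw [hz']
    by_cases hc : c' = c
    · rw [if_pos hc, if_pos hc, h]
      push_cast
      rfl
    · rw [if_neg hc, if_neg hc, neg_zero]
  have hanti : ∀ x y : Fin 2 → Fin 4 → Fin 4 → k,
      ExteriorAlgebra.ι k x * ExteriorAlgebra.ι k y
        = -(ExteriorAlgebra.ι k y * ExteriorAlgebra.ι k x) := by
    intro x y
    rw [eq_neg_iff_add_eq_zero]
    exact ExteriorAlgebra.ι_add_mul_swap x y
  refine ⟨?_, ?_, ?_⟩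
  · have e1 : ∀ c, P (Equiv.swap 0 2) (z c 0 1 2) = -(z c 0 1 2) := fun c =>
      hact _ c 0 1 2 0 1 2 (by rw [Equiv.symm_swap]; decide)
    have e2 : ∀ c, P (Equiv.swap 0 2) (z c 0 2 3) = -(z c 0 2 3) := fun c =>
      hact _ c 0 2 3 0 2 3 (by rw [Equiv.symm_swap]; decide)
    rw [hmap, e1, e1, e2, e2, map_neg, map_neg, map_neg, map_neg]
    simp only [neg_mul, mul_neg, neg_neg]
    exact hω.symm
  · have e1 : ∀ c, P (Equiv.swap 1 3) (z c 0 1 2) = -(z c 0 2 3) := fun c =>
      hact _ c 0 1 2 0 2 3 (by rw [Equiv.symm_swap]; decide)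
    have e2 : ∀ c, P (Equiv.swap 1 3) (z c 0 2 3) = -(z c 0 1 2) := fun c =>
      hact _ c 0 2 3 0 1 2 (by rw [Equiv.symm_swap]; decide)
    rw [hmap, e1, e1, e2, e2, map_neg, map_neg, map_neg, map_neg]
    simp only [neg_mul, mul_neg, neg_neg]
    rw [hω]
    exact anticomm_swap _ _ _ _ (hanti _ _) (hanti _ _) (hanti _ _) (hanti _ _)
  · intro hsum
    have h1 := congrArg (Φ (Lmap k)) hsum
    rw [map_sum, map_zero] at h1
    let nσ : Equiv.Perm (Fin 4) → ℤ := fun σ =>
      Ez 0 1 2 (σ.symm 0) (σ.symm 1) * Ez 0 2 3 (σ.symm 2) (σ.symm 3)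
        - Ez 0 1 2 (σ.symm 2) (σ.symm 3) * Ez 0 2 3 (σ.symm 0) (σ.symm 1)
    have hterm : ∀ σ : Equiv.Perm (Fin 4),
        Φ (Lmap k) (ExteriorAlgebra.map (P σ) ω) = (((nσ σ) ^ 2 : ℤ) : k) := by
      intro σ
      rw [hmap, Φ_apply]
      have hM : Matrix.of ![Lmap k (P σ (z 0 0 1 2)), Lmap k (P σ (z 1 0 1 2)),
          Lmap k (P σ (z 0 0 2 3)), Lmap k (P σ (z 1 0 2 3))] =
          !![((Ez 0 1 2 (σ.symm 0) (σ.symm 1) : ℤ) : k), 0, ((Ez 0 1 2 (σ.symm 2) (σ.symm 3) : ℤ) : k), 0;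
             0, ((Ez 0 1 2 (σ.symm 0) (σ.symm 1) : ℤ) : k), 0, ((Ez 0 1 2 (σ.symm 2) (σ.symm 3) : ℤ) : k);
             ((Ez 0 2 3 (σ.symm 0) (σ.symm 1) : ℤ) : k), 0, ((Ez 0 2 3 (σ.symm 2) (σ.symm 3) : ℤ) : k), 0;
             0, ((Ez 0 2 3 (σ.symm 0) (σ.symm 1) : ℤ) : k), 0, ((Ez 0 2 3 (σ.symm 2) (σ.symm 3) : ℤ) : k)] := by
        ext i j
        fin_cases i <;> fin_cases j <;> simp [Lmap, hPz]
      rw [hM, det_kron]
      simp only [nσ]
      push_cast
      ring
    rw [Finset.sum_congr rfl (fun σ _ => hterm σ), ← Int.cast_sum, Int.cast_eq_zero] at h1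
    have h2 : (1 : ℤ) ≤ ∑ σ : Equiv.Perm (Fin 4), (nσ σ) ^ 2 := by
      have h3 : (nσ 1) ^ 2 ≤ ∑ σ : Equiv.Perm (Fin 4), (nσ σ) ^ 2 :=
        Finset.single_le_sum (f := fun σ => (nσ σ) ^ 2) (fun σ _ => sq_nonneg _) (Finset.mem_univ 1)
      have h4 : nσ 1 = 1 := by
        have hs : (1 : Equiv.Perm (Fin 4)).symm = 1 := rfl
        simp only [nσ, hs, Equiv.Perm.coe_one, id_eq]
        decide
      rw [h4] at h3
      simpa using h3
    omega

end

/-- Let k be a field of characteristic zero and F the k-space of functions Fin 2 → Fin 4 → Fin 4 → k,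
with the symmetric group of Fin 4 acting through P σ f c a b = f c (σ⁻¹ a) (σ⁻¹ b). The signed edge
vectors of the complete graph on four vertices live in F as the functions antisymmetric in the two
vertex arguments, and for a colour c and an oriented 3-cycle i → j → l → i the cycle vector z c i j
l is the function equal, in colour c, to +1 at (i,j), (j,l), (l,i), to −1 at (j,i), (l,j), (i,l) and
to 0 elsewhere (and 0 in the other colour); these cycle vectors span k² ⊗ (cycle space), the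
representation written C² ⊗ q in the published text. Let Γ be the graph with edges 01, 02, 03, 12,
23 (a 4-cycle with one chord), whose cycle space is spanned by the cycles (0,1,2) and (0,2,3), and
let ω be the product in the exterior algebra of F of the four vectors z 0 0 1 2, z 1 0 1 2, z 0 0 2
3, z 1 0 2 3 (a generator of the top exterior power of k² ⊗ q_Γ). Then ω is fixed by the stabiliser
of Γ in the symmetric group (generated by the transpositions (0 2) and (1 3)), and the sum over all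
24 permutations σ of the images of ω under the maps induced by P σ is nonzero: the projection of ω
to the invariants of the fourth exterior power of k² ⊗ q_{K₄} does not vanish. (The published
statement is over the complex numbers; a field of characteristic zero is used here. The published
statement also asserts that this map is an isomorphism onto the one-dimensional space of
S₄-invariants of the fourth exterior power of k² ⊗ q_{K₄}; only its non-vanishing is stated here.) -/
theorem result (k : Type u) [Field k] [CharZero k]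
    (P : Equiv.Perm (Fin 4) → ((Fin 2 → Fin 4 → Fin 4 → k) →ₗ[k] (Fin 2 → Fin 4 → Fin 4 → k)))
    (hP : ∀ (σ : Equiv.Perm (Fin 4)) (f : Fin 2 → Fin 4 → Fin 4 → k) (c : Fin 2) (a b : Fin 4),
      P σ f c a b = f c (σ.symm a) (σ.symm b))
    (z : Fin 2 → Fin 4 → Fin 4 → Fin 4 → (Fin 2 → Fin 4 → Fin 4 → k))
    (hz : ∀ (c : Fin 2) (i j l : Fin 4) (c' : Fin 2) (a b : Fin 4), z c i j l c' a b =
      if c' = c then
        ((if a = i ∧ b = j then 1 else 0) + (if a = j ∧ b = l then 1 else 0) + (if a = l ∧ b = i then 1 else 0)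
          - (if a = j ∧ b = i then 1 else 0) - (if a = l ∧ b = j then 1 else 0) - (if a = i ∧ b = l then 1 else 0))
      else 0)
    (ω : ExteriorAlgebra k (Fin 2 → Fin 4 → Fin 4 → k))
    (hω : ω = ExteriorAlgebra.ι k (z 0 0 1 2) * ExteriorAlgebra.ι k (z 1 0 1 2) *
      ExteriorAlgebra.ι k (z 0 0 2 3) * ExteriorAlgebra.ι k (z 1 0 2 3)) :
    ExteriorAlgebra.map (P (Equiv.swap 0 2)) ω = ω ∧
    ExteriorAlgebra.map (P (Equiv.swap 1 3)) ω = ω ∧
    (∑ σ : Equiv.Perm (Fin 4), ExteriorAlgebra.map (P σ) ω) ≠ 0 := by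
  exact Groth.Agent.S19221.main k P hP z hz ω hω

end Groth.Agent.S19221
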