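import Groth.Statements.S19222
import Groth.Agent.Lib.Helper1.FP5
import Groth.Agent.Lib.Helper1.SHC1
import Groth.Agent.Lib.Helper1.SZ2

set_option autoImplicit false
universe u
open CategoryTheory AlgebraicGeometry
open EtBase

namespace Groth.Agent.S19222

/-- Let R be a strictly henselian local ring (henselian, with separably closed residue field), let X be
a scheme finite over Spec R and let F be an abelian étale sheaf on X. Then H^j(X_et, F) = 0 for
every j ≥ 1. (The source states this vanishing for the schemes X ×_R Y ×_R ⋯ ×_R Y with Y a further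
finite R-scheme; these are again finite over R, so the present form is the whole content.) -/
theorem result (R : Type u) [CommRing R] [HenselianLocalRing R]
    [IsSepClosed (IsLocalRing.ResidueField R)] (X : Scheme.{u}) (f : X ⟶ Spec (CommRingCat.of R)) [IsFinite f]
    (F : EtCoh.Ab X) (j : ℕ) (hj : 1 ≤ j) : Subsingleton (EtCoh.H X F j) := by
  refine Groth.Agent.Helper1.SZ.subsingleton_H_of_sections_surjective ?_ F j hj
  intro F G e he g
  haveI : Epi ((EtCoh.push f).map e) := Groth.Agent.Helper1.FP.epi_push_map_finite f e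
  haveI hls : Sheaf.IsLocallySurjective ((EtCoh.push f).map e) :=
    (Sheaf.isLocallySurjective_iff_epi' _ _).mpr inferInstance
  let g' : ((EtCoh.push f).obj G).obj.obj (Opposite.op (EtCoh.top (Spec (CommRingCat.of R)))) :=
    G.obj.map (EtCore.bcTopIso f).hom.op g
  have hmem := Presheaf.imageSieve_mem (Spec (CommRingCat.of R)).smallEtaleTopology
    ((EtCoh.push f).map e).hom (U := Opposite.op (EtCoh.top (Spec (CommRingCat.of R)))) g'
  obtain ⟨a, ha⟩ := Groth.Agent.Helper1.SHC.id_mem_of_covering R _ hmem
  have ha' : e.hom.app (Opposite.op ((EtCoh.bc f).obj (EtCoh.top (Spec (CommRingCat.of R))))) a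
      = g' := by
    refine ha.trans ?_
    rw [op_id, ((EtCoh.push f).obj G).obj.map_id]
    rfl
  refine ⟨F.obj.map (EtCore.bcTopIso f).inv.op a, ?_⟩
  have h1 := NatTrans.naturality_apply e.hom (EtCore.bcTopIso f).inv.op a
  refine h1.trans ?_
  rw [ha']
  show G.obj.map (EtCore.bcTopIso f).inv.op (G.obj.map (EtCore.bcTopIso f).hom.op g) = g
  rw [← ConcreteCategory.comp_apply, ← G.obj.map_comp, ← op_comp, Iso.inv_hom_id, op_id,
    G.obj.map_id]
  rfl

end Groth.Agent.S19222
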