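import Groth.Statements.S19223
import Mathlib
import Groth.Agent.Lib.Helper28.GrpCohDiv

set_option autoImplicit false
attribute [local instance] Units.mulDistribMulActionRight
open GalCoh

namespace Groth.Agent.S19223

/-- For a strictly henselian local ring R whose residue field k has characteristic p ≥ 0, and a finite
group G of order prime to p acting on R by ring automorphisms (hence on the unit groups R^× and
k^×), consider the homomorphism H^n(G, R^×) → H^n(G, k^×) induced by the reduction map. It is
bijective for every n ≥ 2; it is also bijective for n = 1 provided that p = 0 or the only p-power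
root of unity in R is 1. (The reduction map on cohomology is pinned by its values on units; groups,
rings and modules are taken in the lowest universe, as integral coefficients in the group-cohomology
library require.) -/
theorem result (R : Type) [CommRing R]
    [HenselianLocalRing R] [IsSepClosed (IsLocalRing.ResidueField R)] (p : ℕ) [CharP (IsLocalRing.ResidueField R) p]
    (G : Type) [Group G] [Finite G] [MulSemiringAction G R] (hp : ¬ p ∣ Nat.card G)
    (φ : Rep.ofMulDistribMulAction G Rˣ ⟶ Rep.ofMulDistribMulAction G (IsLocalRing.ResidueField R)ˣ)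
    (hφ : ∀ x : Rˣ, Additive.toMul (φ.hom (Additive.ofMul x)) = Units.map (IsLocalRing.residue R).toMonoidHom x)
    (n : ℕ) (hn : 1 ≤ n) (h1 : n = 1 → p ≠ 0 → ∀ (ζ : Rˣ) (m : ℕ), ζ ^ p ^ m = 1 → ζ = 1) :
    Function.Bijective ((groupCohomology.functor ℤ G n).map φ).hom := by
  classical
  obtain ⟨m, rfl⟩ : ∃ m, n = m + 1 := ⟨n - 1, by omega⟩
  have hNpos : 0 < Nat.card G := Nat.card_pos
  have hNk : ((Nat.card G : ℕ) : IsLocalRing.ResidueField R) ≠ 0 := by
    rw [Ne, CharP.cast_eq_zero_iff (IsLocalRing.ResidueField R) p]
    exact hp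
  obtain ⟨F, hF⟩ : ∃ F : Additive Rˣ → Additive (IsLocalRing.ResidueField R)ˣ,
      ∀ a : Additive Rˣ, F a = φ.hom a := ⟨fun a => φ.hom a, fun _ => rfl⟩
  have hφ' : ∀ x : Rˣ, Additive.toMul (F (Additive.ofMul x)) =
      Units.map (IsLocalRing.residue R).toMonoidHom x := fun x =>
    (congrArg Additive.toMul (hF _)).trans (hφ x)
  have key : ∀ a : Additive Rˣ, F a = 0 ↔
      IsLocalRing.residue R ((Additive.toMul a : Rˣ) : R) = 1 := by
    intro a
    have h := hφ' (Additive.toMul a)
    rw [ofMul_toMul] at h
    constructor
    · intro ha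
      rw [ha, toMul_zero] at h
      have := congrArg Units.val h
      simpa using this.symm
    · intro ha
      have h2 : Units.map (IsLocalRing.residue R).toMonoidHom (Additive.toMul a) = 1 := by
        ext; simpa using ha
      rw [h2] at h
      have h3 := congrArg Additive.ofMul h
      rw [ofMul_toMul, ofMul_one] at h3
      exact h3
  have hs : Function.Surjective F := by
    intro y
    obtain ⟨r, hr⟩ := IsLocalRing.residue_surjective (R := R)
      ((Additive.toMul y : (IsLocalRing.ResidueField R)ˣ) : IsLocalRing.ResidueField R)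
    have hru : IsUnit r := by
      rw [← IsLocalRing.residue_ne_zero_iff_isUnit, hr]
      exact Units.ne_zero _
    refine ⟨Additive.ofMul hru.unit, ?_⟩
    have h := hφ' hru.unit
    have h2 : Units.map (IsLocalRing.residue R).toMonoidHom hru.unit = Additive.toMul y := by
      ext
      rw [Units.coe_map, IsUnit.unit_spec]
      exact hr
    rw [h2] at h
    have h3 := congrArg Additive.ofMul h
    rw [ofMul_toMul, ofMul_toMul] at h3
    exact h3
  have hd : ∀ a : Additive Rˣ, F a = 0 → ∃ b : Additive Rˣ, F b = 0 ∧ Nat.card G • b = a := by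
    intro a ha
    obtain ⟨v, hv1, hv⟩ := Groth.Agent.Helper28.GrpCohDiv.unit_div R (Nat.card G) hNpos hNk
      (Additive.toMul a) ((key a).1 ha)
    refine ⟨Additive.ofMul v, (key _).2 (by rw [toMul_ofMul]; exact hv1), ?_⟩
    rw [← ofMul_pow, hv, ofMul_toMul]
  have ht : ∀ a : Additive Rˣ, F a = 0 → Nat.card G • a = 0 → a = 0 := by
    intro a ha haN
    have := Groth.Agent.Helper28.GrpCohDiv.unit_tors R (Nat.card G) hNk (Additive.toMul a)
      ((key a).1 ha) (by
        have h3 := congrArg Additive.toMul haN
        rw [toMul_nsmul, toMul_zero] at h3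
        exact h3)
    have h4 := congrArg Additive.ofMul this
    rw [ofMul_toMul, ofMul_one] at h4
    exact h4
  refine Groth.Agent.Helper28.GrpCohDiv.bijective_of_ker_uniquely_divisible φ
    (fun y => ?_) (fun a ha => ?_) (fun a ha haN => ?_) m
  · obtain ⟨x, hx⟩ := hs y
    exact ⟨x, (hF x).symm.trans hx⟩
  · obtain ⟨b, hb0, hb⟩ := hd a ((hF a).trans ha)
    exact ⟨b, (hF b).symm.trans hb0, hb⟩
  · exact ht a ((hF a).trans ha) haN

end Groth.Agent.S19223
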