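import Groth.Statements.S19224
import Mathlib
import Groth.Agent.Lib.Helper28.GrpCohKill

set_option autoImplicit false
open GalCoh

namespace Groth.Agent.S19224

/-- Let Q be a finite group such that H^3(Q, ℤ) = 0 for the trivial action, and let k be a separably
closed field of characteristic p ≥ 0 with p not dividing the order of Q. Then H^2(Q, k^×) = 0, where
Q acts trivially on the units of k. (Groups and fields are taken in the lowest universe, as integral
coefficients in the group-cohomology library require.) -/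
theorem result (Q : Type) [Group Q] [Finite Q]
    (hQ : Subsingleton (groupCohomology (Rep.trivial ℤ Q ℤ) 3)) (k : Type) [Field k] [IsSepClosed k]
    (p : ℕ) [CharP k p] (hp : ¬ p ∣ Nat.card Q) :
    Subsingleton (groupCohomology (Rep.trivial ℤ Q (Additive kˣ)) 2) := by
  classical
  haveI : Fintype Q := Fintype.ofFinite Q
  have hcard : Nat.card Q = Fintype.card Q := Nat.card_eq_fintype_card
  rw [hcard] at hp
  have hn0 : Fintype.card Q ≠ 0 := Fintype.card_ne_zero
  haveI : NeZero ((Fintype.card Q : ℕ) : k) :=
    ⟨fun h => hp ((CharP.cast_eq_zero_iff k p (Fintype.card Q)).1 h)⟩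
  haveI : NeZero (Fintype.card Q) := ⟨hn0⟩
  obtain ⟨g, hg⟩ := IsCyclic.exists_generator (α := rootsOfUnity (Fintype.card Q) k)
  refine Groth.Agent.Helper28.GrpCoh.H2_subsingleton_of_divisible (Q := Q) (Additive kˣ) hQ ?_
    (Additive.ofMul (g : kˣ)) ?_ ?_
  · intro a
    obtain ⟨z, hz⟩ := IsSepClosed.exists_pow_nat_eq ((Additive.toMul a : kˣ) : k) (Fintype.card Q)
    have hz0 : z ≠ 0 := by
      rintro rfl
      rw [zero_pow hn0] at hz
      exact (Additive.toMul a).ne_zero hz.symm
    refine ⟨Additive.ofMul (Units.mk0 z hz0), ?_⟩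
    rw [← ofMul_pow]
    show Additive.ofMul (Units.mk0 z hz0 ^ Fintype.card Q) = Additive.ofMul (Additive.toMul a)
    congr 1
    ext
    simpa using hz
  · rw [← ofMul_pow]
    have h1 : (g : kˣ) ^ Fintype.card Q = 1 := (mem_rootsOfUnity _ _).1 g.2
    rw [h1]
    rfl
  · intro a ha
    have ha' : (Additive.toMul a) ^ Fintype.card Q = 1 := by
      have h2 : Additive.ofMul ((Additive.toMul a) ^ Fintype.card Q) = 0 := by
        rw [ofMul_pow]; exact ha
      exact h2
    obtain ⟨m, hm⟩ := Subgroup.mem_zpowers_iff.1 (hg ⟨Additive.toMul a, ha'⟩)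
    refine ⟨m, ?_⟩
    have h3 : (g : kˣ) ^ m = Additive.toMul a := by
      have := congrArg (fun x : rootsOfUnity (Fintype.card Q) k => (x : kˣ)) hm
      simpa using this
    rw [← ofMul_zpow, h3]
    rfl


end Groth.Agent.S19224
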