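import Groth.Statements.S19227
import Groth.Agent.Lib.Helper10.NormSheaf
import Groth.Agent.S14451
import Groth.Agent.S0071
import Groth.Agent.S0101

set_option autoImplicit false
universe u
open CategoryTheory AlgebraicGeometry
open Dix

namespace Groth.Agent.S19227

section helpers

open CategoryTheory.Abelian Groth.Agent.Helper10

lemma HF_map_apply {Y : Scheme.{u}} {F G : EtCoh.Ab Y} (g : F ⟶ G) (n : ℕ) (x : EtCoh.H Y F n) :
    ((EtCoh.HF Y n).map g).hom x = x.comp (Ext.mk₀ g) (add_zero n) := rfl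

lemma mk₀_nsmul {C : Type*} [Category C] [Abelian C] [HasExt C] {A B : C} (d : ℕ) (f : A ⟶ B) :
    Ext.mk₀ (d • f) = d • Ext.mk₀ f := by
  induction d with
  | zero => simp [Ext.mk₀_zero]
  | succ n ih => rw [succ_nsmul, Ext.mk₀_add, ih, succ_nsmul]

theorem main (X Y : Scheme.{u}) (f : X ⟶ Y) (d : ℕ) (hd : 1 ≤ d)
    (hf : Mor2.IsFinLocFreeOfDeg d f) (hX : IsAddTorsion (Dix.BrCoh X)) :
    IsAddTorsion (Dix.BrCoh Y) := by
  obtain ⟨⟨h1, h2, h3⟩, hdeg⟩ := hf
  haveI := h1
  haveI := h2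
  haveI := h3
  haveI : Limits.PreservesFiniteLimits (EtCoh.pull f) := Groth.Agent.S0101.result f
  have hbij := Groth.Agent.S14451.result f (EtCoh.Gm X)
    (fun q hq => Groth.Agent.S0071.result f (EtCoh.Gm X) q hq) 2
  have hN := NormSheaf.GmPush_normHom f d hdeg
  intro x
  obtain ⟨n, hn, hz⟩ := (isOfFinAddOrder_iff_nsmul_eq_zero.1
    (hX (EtLim.HofPush f (EtCoh.Gm X) 2 (((EtCoh.HF Y 2).map (EtLim.GmPush f)).hom x))))
  have hy : n • (((EtCoh.HF Y 2).map (EtLim.GmPush f)).hom x) = 0 :=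
    hbij.1 ((map_nsmul (EtLim.HofPush f (EtCoh.Gm X) 2) n _).trans (hz.trans (map_zero _).symm))
  rw [isOfFinAddOrder_iff_nsmul_eq_zero]
  refine ⟨n * d, Nat.mul_pos hn hd, ?_⟩
  have h3 : ((EtCoh.HF Y 2).map (NormSheaf.normHom f d hdeg)).hom
      (((EtCoh.HF Y 2).map (EtLim.GmPush f)).hom x) = d • x := by
    rw [HF_map_apply, HF_map_apply, Ext.comp_assoc_of_third_deg_zero, Ext.mk₀_comp_mk₀, hN,
      mk₀_nsmul]
    refine (map_nsmul (x.precomp _ (add_zero 2)) d (Ext.mk₀ (𝟙 (EtCoh.Gm Y)))).trans ?_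
    congr 1
    exact Ext.comp_mk₀_id x
  rw [mul_nsmul', ← h3]
  exact ((map_nsmul ((EtCoh.HF Y 2).map (NormSheaf.normHom f d hdeg)).hom n _).symm.trans
    ((congrArg ((EtCoh.HF Y 2).map (NormSheaf.normHom f d hdeg)).hom hy).trans (map_zero _)))

end helpers

/-- Let f : X → Y be a finite locally free morphism of schemes of constant degree d ≥ 1, so that f is
finite, flat, of finite presentation and surjective. If H²(X_et, G_m) is a torsion group, then
H²(Y_et, G_m) is a torsion group. (The source states this for a finite, flat, finitely presented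
surjection of algebraic stacks and argues with multiplication by the degree of f; the case of
schemes with f of constant degree is what is stated here.) -/
theorem result (X Y : Scheme.{u}) (f : X ⟶ Y) (d : ℕ) (hd : 1 ≤ d)
    (hf : Mor2.IsFinLocFreeOfDeg d f) (hX : IsAddTorsion (Dix.BrCoh X)) :
    IsAddTorsion (Dix.BrCoh Y) := by
  exact main X Y f d hd hf hX

end Groth.Agent.S19227
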