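import Groth.Statements.S19239
import Groth.Agent.Lib.Helper28.SigmaLin
import Mathlib

set_option autoImplicit false
universe u v
open SigmaLin

namespace Groth.Agent.S19239

open Polynomial in
/-- a polynomial `X^D - ∑ C (c i) X^(e i)` with `e i < D` injective and some `c i ≠ 0` has a nonzero
root over an algebraically closed field. -/
lemma exists_root_ne_zero {k : Type u} [Field k] [IsAlgClosed k] {ι : Type} [Fintype ι]
    (D : ℕ) (e : ι → ℕ) (he : Function.Injective e) (heD : ∀ i, e i < D) (c : ι → k)
    (i₀ : ι) (hc : c i₀ ≠ 0) :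
    ∃ z : k, z ≠ 0 ∧ z ^ D = ∑ i, c i * z ^ (e i) := by
  classical
  set P : k[X] := X ^ D - ∑ i, C (c i) * X ^ (e i) with hP
  have hcoeff : ∀ m, P.coeff m = (if m = D then 1 else 0) - ∑ i, (if m = e i then c i else 0) := by
    intro m
    rw [hP, coeff_sub, finsetSum_coeff, coeff_X_pow]
    congr 1
    apply Finset.sum_congr rfl
    intro i _
    rw [coeff_C_mul_X_pow]
  have h1 : P.coeff D = 1 := by
    rw [hcoeff, if_pos rfl]
    rw [Finset.sum_eq_zero, sub_zero]
    intro i _
    rw [if_neg (ne_of_gt (heD i))]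
  have h2 : P.coeff (e i₀) = - c i₀ := by
    rw [hcoeff, if_neg (ne_of_lt (heD i₀)), zero_sub]
    congr 1
    rw [Finset.sum_eq_single i₀]
    · rw [if_pos rfl]
    · intro i _ hi
      rw [if_neg (fun h => hi (he h).symm)]
    · intro h
      exact absurd (Finset.mem_univ _) h
  have hP0 : P ≠ 0 := by
    intro h
    rw [h, coeff_zero] at h1
    exact zero_ne_one h1
  have hdeg : D ≤ P.natDegree := le_natDegree_of_ne_zero (by rw [h1]; exact one_ne_zero)
  have htr : P.natTrailingDegree ≤ e i₀ :=
    natTrailingDegree_le_of_ne_zero (by rw [h2]; exact neg_ne_zero.mpr hc)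
  have hcard : P.roots.card = P.natDegree := splits_iff_card_roots.mp (IsAlgClosed.splits P)
  have hcount : P.roots.count 0 = P.natTrailingDegree := by
    rw [count_roots, rootMultiplicity_eq_natTrailingDegree']
  have hex : ∃ z ∈ P.roots, z ≠ 0 := by
    by_contra hcon
    push Not at hcon
    have : P.roots.count 0 = P.roots.card :=
      Multiset.count_eq_card.mpr (fun x hx => (hcon x hx).symm)
    have := heD i₀
    omega
  obtain ⟨z, hz, hz0⟩ := hex
  refine ⟨z, hz0, ?_⟩
  have h3 : P.eval z = 0 := (mem_roots hP0).mp hz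
  rw [hP, eval_sub, eval_pow, eval_X, eval_finsetSum, sub_eq_zero] at h3
  rw [h3]
  apply Finset.sum_congr rfl
  intro i _
  rw [eval_mul, eval_C, eval_pow, eval_X]

section
variable (p : ℕ) [Fact p.Prime] (k : Type u) [Field k] [CharP k p] [IsAlgClosed k]

lemma iter_symm_pow (j : ℕ) (z : k) :
    (⇑(frobeniusEquiv k p).symm.toRingHom)^[j] (z ^ p ^ j) = z := by
  induction j generalizing z with
  | zero => simp
  | succ j ih =>
    rw [Function.iterate_succ_apply, pow_succ, pow_mul]
    change (⇑(frobeniusEquiv k p).symm.toRingHom)^[j] ((frobeniusEquiv k p).symm ((z ^ p ^ j) ^ p)) = z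
    rw [frobeniusEquiv_symm_pow, ih]

lemma iter_inj (j : ℕ) (x : k) (h : (⇑(frobeniusEquiv k p).symm.toRingHom)^[j] x = 0) : x = 0 :=
  Groth.Agent.Helper28.SigmaLin.iterate_sigma_eq_zero j x h

lemma h3 : Groth.Agent.Helper28.SigmaLin.H3 (frobeniusEquiv k p).symm.toRingHom := by
  intro c
  have hp : 1 < p := (Fact.out : p.Prime).one_lt
  have hdeg : (Polynomial.X - Polynomial.X ^ p + Polynomial.C c : Polynomial k).degree ≠ 0 := by
    have h1 : (Polynomial.X - Polynomial.X ^ p + Polynomial.C c : Polynomial k) =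
        - (Polynomial.X ^ p - (Polynomial.X + Polynomial.C c)) := by ring
    rw [h1, Polynomial.degree_neg, Polynomial.degree_sub_eq_left_of_degree_lt]
    · rw [Polynomial.degree_X_pow]
      exact_mod_cast (by omega : p ≠ 0)
    · rw [Polynomial.degree_X_pow, Polynomial.degree_X_add_C]
      exact_mod_cast hp
  obtain ⟨w, hw⟩ := IsAlgClosed.exists_root _ hdeg
  refine ⟨w ^ p, ?_⟩
  change (frobeniusEquiv k p).symm (w ^ p) - w ^ p + c = 0
  rw [frobeniusEquiv_symm_pow]
  simpa using hw

lemma h2 : Groth.Agent.Helper28.SigmaLin.H2 (frobeniusEquiv k p).symm.toRingHom := by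
  intro n b hb
  set σ := (frobeniusEquiv k p).symm.toRingHom with hσ
  have hp : 1 < p := (Fact.out : p.Prime).one_lt
  let c : Fin (n + 1) → k := fun i => (⇑σ)^[i.val] (b (Fin.rev i))
  obtain ⟨j₀, hj₀⟩ : ∃ j, b j ≠ 0 := by
    by_contra hcon
    push Not at hcon
    exact hb (funext hcon)
  have hc : c (Fin.rev j₀) ≠ 0 := by
    intro h
    simp only [c, Fin.rev_rev] at h
    exact hj₀ (iter_inj p k _ _ h)
  obtain ⟨z, hz0, hz⟩ := exists_root_ne_zero (k := k) (p ^ (n + 1))
    (fun i : Fin (n + 1) => p ^ (n - i.val))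
    (by
      intro i j hij
      have := Nat.pow_right_injective hp hij
      apply Fin.ext
      have hi := i.2
      have hj := j.2
      omega)
    (fun i => Nat.pow_lt_pow_right hp (by omega)) c (Fin.rev j₀) hc
  refine ⟨z ^ p ^ (n + 1), pow_ne_zero _ hz0, ?_⟩
  rw [hz]
  apply Finset.sum_congr rfl
  intro i _
  rw [mul_comm]
  congr 1
  have h4 : z ^ p ^ (n + 1) = (z ^ p ^ (n - i.val)) ^ p ^ (i.val + 1) := by
    rw [← pow_mul, ← pow_add]
    congr 2
    have := i.2
    omega
  rw [← hz, h4, hσ, iter_symm_pow]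

end

/-- Let k be an algebraically closed field of characteristic p > 0, V a finite-dimensional k-vector
space and T : V → V an additive map with T (c • v) = σ(c) • T v for σ the inverse of the p-th power
map of k. Then v ↦ v − T v is surjective on V, and the intersection over n of the k-spans of the
images of the iterates of T admits a k-basis consisting of vectors fixed by T. (A special case of
the statement for a surjective field endomorphism satisfying two solvability conditions.) -/
theorem result
    (p : ℕ) [Fact p.Prime] (k : Type u) [Field k] [CharP k p] [IsAlgClosed k]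
    (V : Type v) [AddCommGroup V] [Module k V] [FiniteDimensional k V]
    (T : V →ₛₗ[(frobeniusEquiv k p).symm.toRingHom] V) :
    Function.Surjective (fun v : V => v - T v) ∧
    ∃ b : Module.Basis (Fin (Module.finrank k ↥(⨅ n : ℕ, Submodule.span k (Set.range ((⇑T)^[n]))))) k ↥(⨅ n : ℕ, Submodule.span k (Set.range ((⇑T)^[n]))),
      ∀ i, T (b i : V) = (b i : V) :=
  Groth.Agent.Helper28.SigmaLin.main T (h2 p k) (h3 p k)

end Groth.Agent.S19239
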