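import Groth.Statements.S19244
import Mathlib
open CategoryTheory

set_option autoImplicit false
universe v v' u u'
open HomAlg3

namespace Groth.Agent.S19244

open CategoryTheory in
/-- Let A be an abelian category and let P be the class of bounded-torsion objects of A, those X with n
• 𝟙_X = 0 for some nonzero integer n; assume P is a Serre class. Let L : A ⥤ D be an additive
functor to a preadditive category exhibiting D as the localization of A at the morphisms whose
kernel and cokernel are in P (so D is the quotient category A_ℚ = A ⧸ A_{b-tor}; the source assumes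
A well-powered, which guarantees that this quotient exists). Then for all objects X, Y of A: (1) for
every nonzero integer n, multiplication by n is bijective on Hom_D(L X, L Y), so that this group is
naturally a ℚ-vector space; (2) a morphism f : X ⟶ Y satisfies L f = 0 if and only if n • f = 0 for
some nonzero integer n; (3) for every g : L X ⟶ L Y there are a nonzero integer n and f : X ⟶ Y with
n • g = L f. Equivalently, the natural map Hom_A(X, Y) ⊗_ℤ ℚ → Hom_D(L X, L Y) is an isomorphism. -/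
theorem result
    {A : Type u} [Category.{v} A] [Abelian A] {D : Type u'} [Category.{v'} D] [Preadditive D]
    (P : ObjectProperty A) (hP : ∀ X : A, P X ↔ ∃ n : ℤ, n ≠ 0 ∧ n • (𝟙 X) = 0) [P.IsSerreClass]
    (L : A ⥤ D) [L.Additive] [L.IsLocalization P.isoModSerre] (X Y : A) :
    (∀ n : ℤ, n ≠ 0 → Function.Bijective (fun g : L.obj X ⟶ L.obj Y => n • g)) ∧
    (∀ f : X ⟶ Y, L.map f = 0 ↔ ∃ n : ℤ, n ≠ 0 ∧ n • f = 0) ∧
    (∀ g : L.obj X ⟶ L.obj Y, ∃ (n : ℤ) (f : X ⟶ Y), n ≠ 0 ∧ n • g = L.map f) := by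
  have hker : ∀ (Z : A) (n : ℤ), n ≠ 0 → P.isoModSerre (n • 𝟙 Z) := by
    intro Z n hn
    refine ⟨?_, ?_⟩
    · show P (Limits.kernel (n • 𝟙 Z))
      rw [hP]
      refine ⟨n, hn, ?_⟩
      rw [← cancel_mono (Limits.kernel.ι (n • 𝟙 Z)), Preadditive.zsmul_comp, Category.id_comp,
        Limits.zero_comp]
      have := Limits.kernel.condition (n • 𝟙 Z)
      rwa [Preadditive.comp_zsmul, Category.comp_id] at this
    · show P (Limits.cokernel (n • 𝟙 Z))
      rw [hP]
      refine ⟨n, hn, ?_⟩
      rw [← cancel_epi (Limits.cokernel.π (n • 𝟙 Z)), Preadditive.comp_zsmul, Category.comp_id,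
        Limits.comp_zero]
      have := Limits.cokernel.condition (n • 𝟙 Z)
      rwa [Preadditive.zsmul_comp, Category.id_comp] at this
  have h1 : ∀ n : ℤ, n ≠ 0 → Function.Bijective (fun g : L.obj X ⟶ L.obj Y => n • g) := by
    intro n hn
    have hiso : IsIso (L.map (n • 𝟙 X)) := Localization.inverts L P.isoModSerre _ (hker X n hn)
    have hmap : L.map (n • 𝟙 X) = n • 𝟙 (L.obj X) := by rw [L.map_zsmul, L.map_id]
    rw [hmap] at hiso
    constructor
    · intro g1 g2 h
      have h' : n • g1 = n • g2 := h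
      have : (n • 𝟙 (L.obj X)) ≫ g1 = (n • 𝟙 (L.obj X)) ≫ g2 := by
        rw [Preadditive.zsmul_comp, Preadditive.zsmul_comp, Category.id_comp, Category.id_comp, h']
      exact (cancel_epi _).1 this
    · intro g
      refine ⟨inv (n • 𝟙 (L.obj X)) ≫ g, ?_⟩
      show n • (inv (n • 𝟙 (L.obj X)) ≫ g) = g
      have : n • (inv (n • 𝟙 (L.obj X)) ≫ g) = ((n • 𝟙 (L.obj X)) ≫ inv (n • 𝟙 (L.obj X))) ≫ g := by
        rw [Preadditive.zsmul_comp, Category.id_comp, Preadditive.zsmul_comp]
      rw [this, IsIso.hom_inv_id, Category.id_comp]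
  have h2 : ∀ f : X ⟶ Y, L.map f = 0 ↔ ∃ n : ℤ, n ≠ 0 ∧ n • f = 0 := by
    intro f
    rw [ObjectProperty.SerreClassLocalization.map_eq_zero_iff L P f, hP]
    have key : ∀ n : ℤ, n • 𝟙 (Abelian.image f) = 0 ↔ n • f = 0 := by
      intro n
      have hf : Abelian.factorThruImage f ≫ Abelian.image.ι f = f := Abelian.image.fac f
      have hn : n • f = Abelian.factorThruImage f ≫ (n • 𝟙 (Abelian.image f)) ≫ Abelian.image.ι f := by
        rw [Preadditive.zsmul_comp, Category.id_comp, Preadditive.comp_zsmul, hf]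
      constructor
      · intro h
        rw [hn, h, Limits.zero_comp, Limits.comp_zero]
      · intro h
        rw [hn] at h
        have h' : (n • 𝟙 (Abelian.image f)) ≫ Abelian.image.ι f = 0 := by
          rw [← cancel_epi (Abelian.factorThruImage f), h, Limits.comp_zero]
        rw [← cancel_mono (Abelian.image.ι f), h', Limits.zero_comp]
    constructor
    · rintro ⟨n, hn, h⟩
      exact ⟨n, hn, (key n).1 h⟩
    · rintro ⟨n, hn, h⟩
      exact ⟨n, hn, (key n).2 h⟩
  have h3 : ∀ g : L.obj X ⟶ L.obj Y, ∃ (n : ℤ) (f : X ⟶ Y), n ≠ 0 ∧ n • g = L.map f := by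
    intro g
    obtain ⟨φ, hφ⟩ := Localization.exists_rightFraction L P.isoModSerre g
    obtain ⟨a, ha, haK⟩ := (hP _).1 φ.hs.1
    obtain ⟨b, hb, hbQ⟩ := (hP _).1 φ.hs.2
    have hfac : Abelian.factorThruImage φ.s ≫ Abelian.image.ι φ.s = φ.s := Abelian.image.fac φ.s
    have hu0 : (b • 𝟙 X) ≫ Limits.cokernel.π φ.s = 0 := by
      rw [Preadditive.zsmul_comp, Category.id_comp]
      have : b • Limits.cokernel.π φ.s = Limits.cokernel.π φ.s ≫ (b • 𝟙 _) := by
        rw [Preadditive.comp_zsmul, Category.comp_id]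
      rw [this, hbQ, Limits.comp_zero]
    obtain ⟨u, hu⟩ : ∃ u : X ⟶ Abelian.image φ.s, u ≫ Abelian.image.ι φ.s = b • 𝟙 X :=
      ⟨_, Limits.kernel.lift_ι _ _ hu0⟩
    have hke : Limits.kernel.ι (Abelian.factorThruImage φ.s) ≫ (a • 𝟙 φ.X') = 0 := by
      have h0 : Limits.kernel.ι (Abelian.factorThruImage φ.s) ≫ φ.s = 0 := by
        have : Limits.kernel.ι (Abelian.factorThruImage φ.s) ≫ φ.s =
            Limits.kernel.ι (Abelian.factorThruImage φ.s) ≫ Abelian.factorThruImage φ.s ≫
              Abelian.image.ι φ.s := by rw [hfac]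
        rw [this, ← Category.assoc, Limits.kernel.condition, Limits.zero_comp]
      have h1 : Limits.kernel.ι (Abelian.factorThruImage φ.s) =
          Limits.kernel.lift φ.s (Limits.kernel.ι (Abelian.factorThruImage φ.s)) h0 ≫ Limits.kernel.ι φ.s :=
        (Limits.kernel.lift_ι _ _ _).symm
      rw [h1, Category.assoc, Preadditive.comp_zsmul, Category.comp_id]
      have : a • Limits.kernel.ι φ.s = (a • 𝟙 _) ≫ Limits.kernel.ι φ.s := by
        rw [Preadditive.zsmul_comp, Category.id_comp]
      rw [this, haK, Limits.zero_comp, Limits.comp_zero]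
    obtain ⟨w, hw⟩ : ∃ w : Abelian.image φ.s ⟶ φ.X', Abelian.factorThruImage φ.s ≫ w = a • 𝟙 φ.X' :=
      ⟨_, Abelian.comp_epiDesc _ _ hke⟩
    have hwe : w ≫ Abelian.factorThruImage φ.s = a • 𝟙 (Abelian.image φ.s) := by
      rw [← cancel_epi (Abelian.factorThruImage φ.s), ← Category.assoc, hw, Preadditive.zsmul_comp,
        Category.id_comp, Preadditive.comp_zsmul, Category.comp_id]
    have ht : (u ≫ w) ≫ φ.s = (a * b) • 𝟙 X := by
      have e1 : (u ≫ w) ≫ φ.s = (u ≫ w) ≫ Abelian.factorThruImage φ.s ≫ Abelian.image.ι φ.s := by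
        rw [hfac]
      rw [e1, Category.assoc, ← Category.assoc w, hwe, Preadditive.zsmul_comp,
        Category.id_comp, Preadditive.comp_zsmul, hu, smul_smul]
    refine ⟨a * b, (u ≫ w) ≫ φ.f, mul_ne_zero ha hb, ?_⟩
    rw [hφ, L.map_comp, ← φ.map_s_comp_map L (Localization.inverts L P.isoModSerre), ← Category.assoc,
      ← L.map_comp, ht, L.map_zsmul, L.map_id, Preadditive.zsmul_comp, Category.id_comp]
  exact ⟨h1, h2, h3⟩

end Groth.Agent.S19244
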