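import Groth.Statements.S19245
import Mathlib
import Groth.Agent.Lib.Helper9.OpenRes1


set_option autoImplicit false
universe u
open LocCohZ

namespace Groth.Agent.S19245

open CategoryTheory TopologicalSpace in
/-- Let A be a flasque abelian sheaf on a topological space X and Z = X ∖ U the closed complement of an
open U. Then the sheaf Γ_Z(A) of sections of A supported in Z is flasque. (The source states the
lemma for every family of supports Φ on a Noetherian topological space, where Γ_Φ(A) is the filtered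
union of the Γ_Z(A), Z ∈ Φ; for a single closed Z no Noetherian hypothesis is needed.) -/
theorem result {X : TopCat.{u}} (A : CohTop.Ab X) [TopCat.Sheaf.IsFlasque A]
    (U : Opens X) : TopCat.Sheaf.IsFlasque ((LocCohZ.sectSuppF U).obj A) := by
  have res_zero : ∀ {W O O' : Opens X} (a : O ⟶ W) (b : O' ⟶ W) (_ : O' ≤ O)
      (s : A.obj.obj (Opposite.op W)), A.obj.map a.op s = 0 → A.obj.map b.op s = 0 := by
    intro W O O' a b h s hs
    have hb : b = homOfLE h ≫ a := Subsingleton.elim _ _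
    rw [hb, op_comp, Functor.map_comp, ConcreteCategory.comp_apply, hs, map_zero]
  have res_comp : ∀ {O₁ O₂ O₃ : Opens X} (a : O₁ ⟶ O₂) (b : O₂ ⟶ O₃) (c : O₁ ⟶ O₃)
      (x : A.obj.obj (Opposite.op O₃)),
      A.obj.map c.op x = A.obj.map a.op (A.obj.map b.op x) := by
    intro O₁ O₂ O₃ a b c x
    have hc : c = a ≫ b := Subsingleton.elim _ _
    rw [hc, op_comp, Functor.map_comp, ConcreteCategory.comp_apply]
  constructor
  intro V' W' i
  induction V' using Opposite.rec with
  | op V =>
  induction W' using Opposite.rec with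
  | op W =>
  rw [AddCommGrpCat.epi_iff_surjective]
  intro t
  obtain ⟨i', rfl⟩ : ∃ i' : W ⟶ V, i = i'.op := ⟨i.unop, rfl⟩
  have hWV : W ≤ V := i'.le
  set s := (Groth.Agent.Helper9.OpenRes.ι U A).hom.app (Opposite.op W) t with hs
  have hs0 : A.obj.map (homOfLE (inf_le_left : W ⊓ U ≤ W)).op s = 0 :=
    Groth.Agent.Helper9.OpenRes.res_ι' U A W t
  let f : Fin 2 → Opens X := ![W, V ⊓ U]
  let sf : (j : Fin 2) → A.obj.obj (Opposite.op (f j))
    | 0 => s
    | 1 => 0
  obtain ⟨t₅, ht₅, -⟩ : ∃! t₅, TopCat.Presheaf.IsGluing A.obj f sf t₅ := by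
    apply TopCat.Sheaf.existsUnique_gluing
    simp only [TopCat.Presheaf.IsCompatible, Fin.forall_fin_two]
    refine ⟨⟨rfl, ?_⟩, ?_, rfl⟩
    · change A.obj.map (Opens.infLELeft W (V ⊓ U)).op s =
        A.obj.map (Opens.infLERight W (V ⊓ U)).op 0
      rw [map_zero]
      exact res_zero _ _ (le_inf inf_le_left (inf_le_right.trans inf_le_right)) s hs0
    · change A.obj.map (Opens.infLELeft (V ⊓ U) W).op 0 =
        A.obj.map (Opens.infLERight (V ⊓ U) W).op s
      rw [map_zero]
      exact (res_zero _ _ (le_inf inf_le_right (inf_le_left.trans inf_le_right)) s hs0).symm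
  have hle : iSup f ≤ V := iSup_le_iff.mpr (Fin.forall_fin_two.mpr ⟨hWV, inf_le_left⟩)
  obtain ⟨t₆, ht₆⟩ :=
    (AddCommGrpCat.epi_iff_surjective (A.obj.map (homOfLE hle).op)).mp
      (TopCat.Presheaf.IsFlasque.epi (F := A.obj) (homOfLE hle).op) t₅
  have h0 : A.obj.map (Opens.leSupr f 0).op t₅ = s := ht₅ 0
  have h1 : A.obj.map (Opens.leSupr f 1).op t₅ = 0 := ht₅ 1
  have hW : A.obj.map i'.op t₆ = s :=
    (res_comp (O₁ := W) (Opens.leSupr f 0) (homOfLE hle) i' t₆).trans
      ((congrArg (fun y => A.obj.map (Opens.leSupr f 0).op y) ht₆).trans h0)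
  have hU : A.obj.map (homOfLE (inf_le_left : V ⊓ U ≤ V)).op t₆ = 0 :=
    (res_comp (O₁ := V ⊓ U) (Opens.leSupr f 1) (homOfLE hle)
      (homOfLE (inf_le_left : V ⊓ U ≤ V)) t₆).trans
      ((congrArg (fun y => A.obj.map (Opens.leSupr f 1).op y) ht₆).trans h1)
  obtain ⟨t', ht'⟩ := Groth.Agent.Helper9.OpenRes.exists_ι_eq' U A V t₆ hU
  refine ⟨t', ?_⟩
  apply Groth.Agent.Helper9.OpenRes.ι_app_injective U A W
  have hnat := ConcreteCategory.congr_hom
    ((Groth.Agent.Helper9.OpenRes.ι U A).hom.naturality i'.op) t'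
  rw [ConcreteCategory.comp_apply, ConcreteCategory.comp_apply, ht', hW] at hnat
  exact hnat

end Groth.Agent.S19245
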