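import Groth.Statements.S19258
import Mathlib
-- import your own Groth.Agent.* helpers here

set_option autoImplicit false
universe u
open PontDual

namespace Groth.Agent.S19258

section
open Filter Topology

/-- `N`-torsion elements of `ℚ/ℤ` are integer multiples of `1/N`. -/
lemma torsion_eq_zsmul (N : ℕ) (hN : 0 < N) (x : AddCircle (1 : ℚ)) (hx : N • x = 0) :
    ∃ k : ℤ, x = k • ((1 / (N : ℚ) : ℚ) : AddCircle (1 : ℚ)) := by
  obtain ⟨q, rfl⟩ := QuotientAddGroup.mk_surjective x
  change N • ((q : ℚ) : AddCircle (1 : ℚ)) = 0 at hx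
  rw [← AddCircle.coe_nsmul, AddCircle.coe_eq_zero_iff] at hx
  obtain ⟨m, hm⟩ := hx
  refine ⟨m, ?_⟩
  change ((q : ℚ) : AddCircle (1 : ℚ)) = _
  rw [← AddCircle.coe_zsmul]
  congr 1
  have hN' : (N : ℚ) ≠ 0 := by exact_mod_cast hN.ne'
  simp only [zsmul_eq_mul, mul_one, nsmul_eq_mul] at hm ⊢
  field_simp
  linarith

/-- key lemma: a character vanishing on the kernel of a torsion character is a multiple of it. -/
lemma key {G : Type u} [AddCommGroup G] (θ χ' : G →+ AddCircle (1 : ℚ)) (N : ℕ) (hN : 0 < N)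
    (hθ : ∀ g, N • θ g = 0) (hker : ∀ g, θ g = 0 → χ' g = 0) :
    ∃ a : ℤ, ∀ g, χ' g = a • θ g := by
  -- factor through the quotient
  let θ' : (G ⧸ θ.ker) →+ AddCircle (1 : ℚ) := QuotientAddGroup.kerLift θ
  have hθ'inj : Function.Injective θ' := QuotientAddGroup.kerLift_injective θ
  let χ'' : (G ⧸ θ.ker) →+ AddCircle (1 : ℚ) :=
    QuotientAddGroup.lift θ.ker χ' (fun g hg => hker g hg)
  obtain ⟨c, hc⟩ := CharacterModule.dual_surjective_of_injective (R := ℤ)
    (θ'.toIntLinearMap) hθ'inj χ''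
  have hc' : ∀ g, χ' g = c (θ g) := by
    intro g
    have := DFunLike.congr_fun hc (QuotientAddGroup.mk g)
    exact this.symm
  set u : AddCircle (1 : ℚ) := ((1 / (N : ℚ) : ℚ) : AddCircle (1 : ℚ)) with hu
  have hNu : N • u = 0 := by
    rw [hu, ← AddCircle.coe_nsmul, AddCircle.coe_eq_zero_iff]
    refine ⟨1, ?_⟩
    have hN' : (N : ℚ) ≠ 0 := by exact_mod_cast hN.ne'
    simp only [one_smul, nsmul_eq_mul]
    field_simp
  have hcu : N • c u = 0 := by
    have : c (N • u) = N • c u := map_nsmul c N u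
    rw [← this, hNu, map_zero]
  obtain ⟨a, ha⟩ := torsion_eq_zsmul N hN (c u) hcu
  refine ⟨a, fun g => ?_⟩
  obtain ⟨k, hk⟩ := torsion_eq_zsmul N hN (θ g) (hθ g)
  rw [hc', hk]
  have : c (k • u) = k • c u := map_zsmul c k u
  rw [← hu, this, ha, smul_smul, smul_smul, mul_comm]

/-- the inductive statement -/
lemma induct {G G' : Type u} [AddCommGroup G] [AddCommGroup G'] (hG' : IsAddTorsion G')
    (β : G' →+ (G →+ AddCircle (1 : ℚ))) (t : Finset G') :
    ∀ (K : AddSubgroup G) (χ : G →+ AddCircle (1 : ℚ)),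
      (∀ g ∈ K, (∀ f ∈ t, β f g = 0) → χ g = 0) → ∃ f' : G', ∀ g ∈ K, χ g = β f' g := by
  classical
  induction t using Finset.induction_on with
  | empty =>
    intro K χ h
    refine ⟨0, fun g hg => ?_⟩
    rw [map_zero, AddMonoidHom.zero_apply]
    exact h g hg (by simp)
  | insert f₀ t hf₀ IH =>
    intro K χ h
    obtain ⟨f₁, hf₁⟩ := IH (K ⊓ (β f₀).ker) χ (by
      intro g hg hgt
      apply h g hg.1
      intro f hf
      rcases Finset.mem_insert.mp hf with rfl | hf
      · exact hg.2
      · exact hgt f hf)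
    -- torsion
    obtain ⟨N, hN, hNf⟩ := (hG' f₀).exists_nsmul_eq_zero
    have hθ : ∀ g : K, N • ((β f₀).comp K.subtype) g = 0 := by
      intro g
      have : N • β f₀ = 0 := by rw [← map_nsmul, hNf, map_zero]
      have := DFunLike.congr_fun this (g : G)
      simpa using this
    obtain ⟨a, ha⟩ := key ((β f₀).comp K.subtype) ((χ - β f₁).comp K.subtype) N hN hθ (by
      intro g hg
      have : (g : G) ∈ K ⊓ (β f₀).ker := ⟨g.2, hg⟩
      have := hf₁ g this
      simp [this])
    refine ⟨f₁ + a • f₀, fun g hg => ?_⟩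
    have := ha ⟨g, hg⟩
    simp only [AddMonoidHom.coe_comp, AddSubgroup.coe_subtype, Function.comp_apply,
      AddMonoidHom.sub_apply] at this
    rw [map_add, map_zsmul, AddMonoidHom.add_apply, AddMonoidHom.smul_apply, ← this]
    abel

theorem main (G : Type u) (G' : Type u) [AddCommGroup G] [AddCommGroup G'] (hG' : IsAddTorsion G')
    (β : G' →+ (G →+ AddCircle (1 : ℚ))) (hβ : Function.Injective β)
    (χ : G →+ AddCircle (1 : ℚ))
    (hχ : @Continuous G (AddCircle (1 : ℚ)) (⨅ f' : G', TopologicalSpace.induced (fun x : G => β f' x) ⊥) ⊥ χ) :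
    ∃ f' : G', β f' = χ := by
  -- extract the finite set
  set τ : TopologicalSpace G := ⨅ f' : G', TopologicalSpace.induced (fun x : G => β f' x) ⊥ with hτ
  have hopen : @IsOpen G τ (χ ⁻¹' {0}) :=
    (@continuous_def _ _ τ ⊥ χ).mp hχ {0} (@isOpen_discrete (AddCircle (1 : ℚ)) ⊥ (@DiscreteTopology.mk _ ⊥ rfl) {0})
  have hmem : χ ⁻¹' {0} ∈ @nhds G τ 0 := @IsOpen.mem_nhds G τ 0 _ hopen (by simp)
  rw [hτ, nhds_iInf] at hmem
  simp only [nhds_induced, @nhds_discrete (AddCircle (1 : ℚ)) ⊥ (@DiscreteTopology.mk _ ⊥ rfl), comap_pure] at hmem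
  rw [Filter.mem_iInf_finite] at hmem
  obtain ⟨t, ht⟩ := hmem
  rw [Filter.iInf_principal_finset, Filter.mem_principal] at ht
  obtain ⟨f', hf'⟩ := induct hG' β t ⊤ χ (by
    intro g _ hg
    have : g ∈ ⋂ i ∈ t, (fun x : G => β i x) ⁻¹' {β i 0} := by
      simp only [Set.mem_iInter, Set.mem_preimage, Set.mem_singleton_iff, map_zero]
      exact hg
    exact ht this)
  exact ⟨f', by ext g; exact (hf' g trivial).symm⟩

end

/-- Let G and G' be abelian groups such that every element of G' has finite order, and let β : G' →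
Hom(G, ℚ/ℤ) be an injective homomorphism (equivalently a pairing G' × G → ℚ/ℤ with no left kernel).
Endow G with the weak topology defined by G': the coarsest topology for which every character β(f),
f ∈ G', is continuous when ℚ/ℤ carries the discrete topology. Then every homomorphism χ : G → ℚ/ℤ
that is continuous for this topology on G and the discrete topology on ℚ/ℤ equals β(f) for some f ∈
G', so that β is a bijection from G' onto the group of continuous characters of G. -/
theorem result
    (G : Type u) (G' : Type u) [AddCommGroup G] [AddCommGroup G'] (hG' : IsAddTorsion G')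
    (β : G' →+ (G →+ AddCircle (1 : ℚ))) (hβ : Function.Injective β)
    (χ : G →+ AddCircle (1 : ℚ))
    (hχ : @Continuous G (AddCircle (1 : ℚ)) (⨅ f' : G', TopologicalSpace.induced (fun x : G => β f' x) ⊥) ⊥ χ) :
    ∃ f' : G', β f' = χ := by
  exact Groth.Agent.S19258.main G G' hG' β hβ χ hχ

end Groth.Agent.S19258
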