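import Groth.Statements.S19264
import Groth.Agent.Lib.Helper28.WittFil
import Mathlib

set_option autoImplicit false
universe u
open WittFil

namespace Groth.Agent.S19264

open Groth.Agent.Helper28.WittFilLib in
/-- Let A be a unique factorisation domain of characteristic p, x_1, …, x_r pairwise non-associate prime
elements of A, B = A[1/(x_1⋯x_r)] with u_i the unit of B defined by x_i, n ∈ ℤ^r and m ≥ 0. The
restriction map from truncated p-typical Witt vectors of length m+1 to those of length m over B
(forgetting the last coordinate) maps the filtered piece cut out by ∏ u_i ^ n_i onto the filtered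
piece cut out by ∏ u_i ^ ⌊n_i / p⌋; that is, the image is exactly that piece. (The other parts of
the exact sequence, injectivity of the (m-fold) Verschiebung from the fractional ideal generated by
(∏ u_i ^ n_i)⁻¹ and exactness in the middle, are immediate from the definition and are not restated.
The published setting is a regular local ring; only unique factorisation is used.) -/
theorem result (p : ℕ) [Fact p.Prime] {A B : Type u} [CommRing A] [IsDomain A]
    [UniqueFactorizationMonoid A] [CharP A p] [CommRing B] [Algebra A B] {r : ℕ} (x : Fin r → A)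
    (hx : ∀ i, Prime (x i)) (hxa : ∀ i j, Associated (x i) (x j) → i = j)
    [IsLocalization.Away (∏ i, x i) B] (u : Fin r → Bˣ)
    (hu : ∀ i, (u i : B) = algebraMap A B (x i)) (n : Fin r → ℤ) (m : ℕ) :
    (TruncatedWittVector.truncate (Nat.le_succ m)) '' WittFil.fil p (m + 1) (A := A) (WittFil.zmon u n) =
      WittFil.fil p m (A := A) (WittFil.zmon u (fun i => n i / (p : ℤ))) := by
  have hp : 1 < p := (Fact.out : p.Prime).one_lt
  have hinj := algebraMap_injective (B := B) x hx
  -- exponents of the remainder monomial
  set e : Fin r → ℕ := fun i => (n i % (p : ℤ)).toNat with he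
  have hpz : (0 : ℤ) < (p : ℤ) := by exact_mod_cast (by omega : 0 < p)
  have hene : ∀ i, ((e i : ℕ) : ℤ) = n i % (p : ℤ) := fun i =>
    Int.toNat_of_nonneg (Int.emod_nonneg _ (ne_of_gt hpz))
  have helt : ∀ i, e i < p := by
    intro i
    have h1 := Int.emod_lt_of_pos (n i) hpz
    have h2 := hene i
    omega
  set δ : A := ∏ i, x i ^ e i with hδ
  set c : B := WittFil.zmon u n with hc
  set c' : B := WittFil.zmon u (fun i => n i / (p : ℤ)) with hc'
  have hcc' : c = c' ^ p * algebraMap A B δ := by
    rw [hc, hc', WittFil.zmon, WittFil.zmon, hδ, map_prod, ← Units.val_pow_eq_pow_val,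
      ← Finset.prod_pow, Units.coe_prod, Units.coe_prod, ← Finset.prod_mul_distrib]
    apply Finset.prod_congr rfl
    intro i _
    rw [map_pow, ← hu i, ← Units.val_pow_eq_pow_val, ← Units.val_mul]
    congr 1
    rw [← zpow_natCast, ← zpow_natCast, ← zpow_mul, ← zpow_add, hene i]
    congr 1
    have := Int.emod_add_mul_ediv (n i) (p : ℤ)
    linarith
  set π : A := ∏ i, x i with hπ
  have hπunit : IsUnit (algebraMap A B π) :=
    IsLocalization.map_units B (⟨π, Submonoid.mem_powers π⟩ : Submonoid.powers π)
  ext b
  constructor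
  · rintro ⟨a, ha, rfl⟩ j
    rw [TruncatedWittVector.coeff_truncate]
    have h1 := ha (Fin.castLE (Nat.le_succ m) j)
    set y := TruncatedWittVector.coeff (Fin.castLE (Nat.le_succ m) j) a with hy
    have hexp : m + 1 - 1 - ((Fin.castLE (Nat.le_succ m) j : Fin (m + 1)) : ℕ) =
        (m - 1 - (j : ℕ)) + 1 := by
      have := j.2
      simp only [Fin.val_castLE]
      omega
    rw [hexp, pow_succ, pow_mul] at h1
    set w : B := y ^ p ^ (m - 1 - (j : ℕ)) * c' with hw
    change w ∈ (algebraMap A B).range
    -- w ^ p * δ ∈ A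
    have h2 : w ^ p * algebraMap A B δ ∈ (algebraMap A B).range := by
      have : w ^ p * algebraMap A B δ = (y ^ p ^ (m - 1 - (j : ℕ))) ^ p * c := by
        rw [hw, hcc']
        ring
      rw [this]
      exact h1
    -- multiply up to π ^ (p - 1)
    set δ' : A := ∏ i, x i ^ (p - 1 - e i) with hδ'
    have hδδ' : δ * δ' = π ^ (p - 1) := by
      rw [hδ, hδ', hπ, ← Finset.prod_mul_distrib, ← Finset.prod_pow]
      apply Finset.prod_congr rfl
      intro i _
      rw [← pow_add]
      congr 1
      have := helt i
      omega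
    obtain ⟨β, hβ⟩ := h2
    have h3 : (w * algebraMap A B π) ^ p = algebraMap A B (β * δ' * π) := by
      rw [map_mul, map_mul, hβ, mul_pow]
      have : algebraMap A B π ^ p = algebraMap A B δ * algebraMap A B δ' * algebraMap A B π := by
        rw [← map_mul, hδδ', map_pow, ← pow_succ]
        congr 1
        omega
      rw [this]
      ring
    obtain ⟨α, hα⟩ := IC_ufd x hx _ p (by omega) ⟨_, h3.symm⟩
    have h4 : α ^ p = β * δ' * π := by
      apply hinj
      rw [map_pow, hα, h3]
    have hdiv : ∀ i ∈ (Finset.univ : Finset (Fin r)), x i ∣ α := by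
      intro i _
      have h5 : x i ∣ α ^ p := by
        rw [h4]
        exact dvd_mul_of_dvd_right (Finset.dvd_prod_of_mem _ (Finset.mem_univ i)) _
      exact (hx i).dvd_of_dvd_pow h5
    obtain ⟨w', hw'⟩ := prod_dvd_of_primes Finset.univ x (fun i _ => hx i)
      (fun i _ j _ h => hxa i j h) α hdiv
    refine ⟨w', ?_⟩
    apply hπunit.mul_right_cancel
    rw [← hα, hw', map_mul, mul_comm]
  · intro hb
    refine ⟨TruncatedWittVector.mk p (fun j : Fin (m + 1) =>
      if h : (j : ℕ) < m then TruncatedWittVector.coeff ⟨j, h⟩ b else 0), ?_, ?_⟩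
    · intro j
      rw [TruncatedWittVector.coeff_mk]
      by_cases hj : (j : ℕ) < m
      · rw [dif_pos hj]
        have h1 := hb ⟨j, hj⟩
        have hexp : m + 1 - 1 - (j : ℕ) = (m - 1 - (j : ℕ)) + 1 := by omega
        rw [hexp, pow_succ, pow_mul]
        change (TruncatedWittVector.coeff ⟨j, hj⟩ b ^ p ^ (m - 1 - (j : ℕ))) ^ p * c ∈ _
        rw [hcc']
        have : (TruncatedWittVector.coeff ⟨j, hj⟩ b ^ p ^ (m - 1 - (j : ℕ))) ^ p *
            (c' ^ p * algebraMap A B δ) =
            (TruncatedWittVector.coeff ⟨j, hj⟩ b ^ p ^ (m - 1 - (j : ℕ)) * c') ^ p *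
              algebraMap A B δ := by ring
        rw [this]
        exact Subring.mul_mem _ (Subring.pow_mem _ h1 _) ⟨δ, rfl⟩
      · rw [dif_neg hj, zero_pow (pow_ne_zero _ (by omega)), zero_mul]
        exact Subring.zero_mem _
    · apply TruncatedWittVector.ext
      intro j
      rw [TruncatedWittVector.coeff_truncate, TruncatedWittVector.coeff_mk]
      simp only [Fin.val_castLE]
      rw [dif_pos j.2]

end Groth.Agent.S19264
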