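import Groth.Statements.S19266
import Groth.Agent.Lib.Helper28.WittFil
import Mathlib

set_option autoImplicit false
universe u
open WittFil

namespace Groth.Agent.S19266

open Groth.Agent.Helper28.WittFilLib in
/-- Let A be a unique factorisation domain of characteristic p, x_1, …, x_r pairwise non-associate prime
elements of A, B = A[1/(x_1⋯x_r)] with u_i the unit of B defined by x_i, n ∈ ℤ^r, m ≥ 0 and c = ∏
u_i ^ n_i. A truncated p-typical Witt vector a of length m over B lies in the filtered piece cut out
by c ^ (p ^ (m-1)) if and only if all coordinates of the product a · [c] lie in A, where [c] denotes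
the (truncated) Teichmüller representative of c; in other words that filtered piece is the
invertible module [c]⁻¹ · W_m(A). (Published for a regular local ring; only unique factorisation is
used.) -/
theorem result (p : ℕ) [Fact p.Prime] {A B : Type u} [CommRing A] [IsDomain A]
    [UniqueFactorizationMonoid A] [CharP A p] [CommRing B] [Algebra A B] {r : ℕ} (x : Fin r → A)
    (hx : ∀ i, Prime (x i)) (hxa : ∀ i j, Associated (x i) (x j) → i = j)
    [IsLocalization.Away (∏ i, x i) B] (u : Fin r → Bˣ)
    (hu : ∀ i, (u i : B) = algebraMap A B (x i)) (n : Fin r → ℤ) (m : ℕ)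
    (a : TruncatedWittVector p m B) :
    a ∈ WittFil.fil p m (A := A) ((WittFil.zmon u n) ^ (p ^ (m - 1))) ↔
      ∀ j : Fin m, TruncatedWittVector.coeff j
          (a * WittVector.truncate m (WittVector.teichmuller p (WittFil.zmon u n))) ∈
        (algebraMap A B).range := by
  have hCh : CharP B p := charP_B p x hx
  obtain ⟨X, rfl⟩ := WittVector.truncate_surjective p m B a
  rw [mem_fil_iff']
  constructor
  · intro h j
    rw [truncate_teich_mul_coeff]
    have h1 := h j j.2
    have h2 : X.coeff j ^ p ^ (m - 1 - (j : ℕ)) * WittFil.zmon u n ^ p ^ (m - 1) =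
        (WittFil.zmon u n ^ p ^ (j : ℕ) * X.coeff j) ^ p ^ (m - 1 - (j : ℕ)) := by
      rw [mul_pow, ← pow_mul, ← pow_add, Nat.add_sub_cancel' (by have := j.2; omega), mul_comm]
    rw [h2] at h1
    exact IC_ufd x hx _ _ (pow_pos (Fact.out : p.Prime).pos _) h1
  · intro h j hj
    have h1 := h ⟨j, hj⟩
    rw [truncate_teich_mul_coeff] at h1
    have h2 : X.coeff j ^ p ^ (m - 1 - j) * WittFil.zmon u n ^ p ^ (m - 1) =
        (WittFil.zmon u n ^ p ^ j * X.coeff j) ^ p ^ (m - 1 - j) := by
      rw [mul_pow, ← pow_mul, ← pow_add, Nat.add_sub_cancel' (by omega), mul_comm]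
    rw [h2]
    exact Subring.pow_mem _ h1 _

end Groth.Agent.S19266
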