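import Groth.Statements.S19269
import Mathlib


set_option autoImplicit false
universe u
open CAlg

namespace Groth.Agent.S19269

open IsLocalRing in
/-- Let R be a Noetherian local ring with maximal ideal 𝔪, M a finitely generated R-module and M^ its
𝔪-adic completion, a module over the 𝔪-adic completion R^ of R. Let N' be an R^-submodule of M^ and
N an R-submodule of M whose image in M^ is contained in N' and is dense in N' for the 𝔪-adic
topology, in the sense that for every y in N' and every k there is x in N with y ≡ x modulo the
kernel of M^ → M/𝔪^k M. Then N' equals the image of the completion of N under the map induced by the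
inclusion N → M (so N' is the completion of N), and N is the set of elements of M whose image in M^
lies in N'. -/
theorem result {R : Type u} [CommRing R]
    [IsNoetherianRing R] [IsLocalRing R] {M : Type u} [AddCommGroup M] [Module R M]
    [Module.Finite R M] (N : Submodule R M)
    (N' : Submodule (AdicCompletion (maximalIdeal R) R) (AdicCompletion (maximalIdeal R) M))
    (hle : ∀ x ∈ N, AdicCompletion.of (maximalIdeal R) M x ∈ N')
    (hdense : ∀ y ∈ N', ∀ k : ℕ, ∃ x ∈ N,
      AdicCompletion.eval (maximalIdeal R) M k y = Submodule.Quotient.mk x) :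
    (N'.restrictScalars R =
        (LinearMap.range (AdicCompletion.map (maximalIdeal R) N.subtype)).restrictScalars R) ∧
      (∀ x : M, x ∈ N ↔ AdicCompletion.of (maximalIdeal R) M x ∈ N') := by
  classical
  haveI : IsNoetherian R M := isNoetherian_of_isNoetherianRing_of_finite R M
  haveI : Module.Finite R N := Module.IsNoetherian.finite R N
  -- characterisation of the range
  have hA : ∀ y : AdicCompletion (IsLocalRing.maximalIdeal R) M,
      y ∈ LinearMap.range (AdicCompletion.map (IsLocalRing.maximalIdeal R) N.subtype) ↔
        ∀ k : ℕ, ∃ x ∈ N, AdicCompletion.eval (IsLocalRing.maximalIdeal R) M k y = Submodule.Quotient.mk x := by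
    intro y
    constructor
    · rintro ⟨z, rfl⟩ k
      obtain ⟨n, hn⟩ := Submodule.Quotient.mk_surjective _ (z.val k)
      refine ⟨n.1, n.2, ?_⟩
      rw [AdicCompletion.eval_apply, AdicCompletion.map_val_apply, ← hn]
      rfl
    · intro h
      have hex := AdicCompletion.map_exact (I := IsLocalRing.maximalIdeal R) (f := N.subtype) (g := N.mkQ)
        N.injective_subtype (LinearMap.exact_subtype_mkQ N) N.mkQ_surjective
      rw [← LinearMap.exact_iff.mp hex, LinearMap.mem_ker]
      apply AdicCompletion.ext
      intro k
      obtain ⟨x, hx, hxe⟩ := h k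
      rw [AdicCompletion.eval_apply] at hxe
      rw [AdicCompletion.map_val_apply, hxe]
      show Submodule.Quotient.mk (N.mkQ x) = _
      rw [Submodule.mkQ_apply, (Submodule.Quotient.mk_eq_zero N).mpr hx]
      rfl
  have hB : ∀ y ∈ N', y ∈ LinearMap.range (AdicCompletion.map (IsLocalRing.maximalIdeal R) N.subtype) := by
    intro y hy
    exact (hA y).mpr (hdense y hy)
  have hC : ∀ y ∈ LinearMap.range (AdicCompletion.map (IsLocalRing.maximalIdeal R) N.subtype), y ∈ N' := by
    rintro _ ⟨z, rfl⟩
    obtain ⟨t, rfl⟩ := AdicCompletion.ofTensorProduct_surjective_of_finite (IsLocalRing.maximalIdeal R) N z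
    induction t using TensorProduct.induction_on with
    | zero => simp
    | tmul r n =>
      rw [AdicCompletion.ofTensorProduct_tmul, map_smul, AdicCompletion.map_of]
      exact N'.smul_mem r (hle _ n.2)
    | add a b ha hb =>
      rw [map_add, map_add]
      exact N'.add_mem ha hb
  refine ⟨?_, ?_⟩
  · ext y
    simp only [Submodule.restrictScalars_mem]
    exact ⟨hB y, hC y⟩
  · intro x
    refine ⟨hle x, fun hx => ?_⟩
    have h1 := (hA _).mp (hB _ hx)
    have h2 : N.mkQ x ∈ (⨅ i : ℕ, (IsLocalRing.maximalIdeal R) ^ i • ⊤ : Submodule R (M ⧸ N)) := by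
      rw [Submodule.mem_iInf]
      intro k
      obtain ⟨n, hn, hnk⟩ := h1 k
      rw [AdicCompletion.eval_of, Submodule.mkQ_apply, Submodule.Quotient.eq] at hnk
      have : N.mkQ x = N.mkQ (x - n) := by
        rw [map_sub, (Submodule.mkQ_apply N n), (Submodule.Quotient.mk_eq_zero N).mpr hn, sub_zero]
      rw [this]
      have h3 : ((IsLocalRing.maximalIdeal R) ^ k • ⊤ : Submodule R M).map N.mkQ ≤ (IsLocalRing.maximalIdeal R) ^ k • ⊤ := by
        rw [Submodule.map_smul'']
        exact smul_mono_right _ le_top
      exact h3 (Submodule.mem_map_of_mem hnk)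
    rw [Ideal.iInf_pow_smul_eq_bot_of_isLocalRing (IsLocalRing.maximalIdeal R) (Ideal.IsPrime.ne_top'), Submodule.mem_bot] at h2
    exact (Submodule.Quotient.mk_eq_zero N).mp h2


end Groth.Agent.S19269
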