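import Groth.Statements.S19270
import Mathlib
import Groth.Agent.Lib.Helper28.CoeffField
open TensorProduct

set_option autoImplicit false
universe u
open CAlg

namespace Groth.Agent.S19270

open IsLocalRing in
/-- Let A be a regular local ring of prime characteristic p, of Krull dimension N, with maximal ideal
generated by x_1, …, x_N, and assume that the module Ω_A of absolute Kähler differentials of A
(differentials relative to ℤ, equivalently relative to the prime field) is a free A-module of finite
rank. Then dx_1, …, dx_N are part of a basis of Ω_A: there exist a basis b of Ω_A and an injection e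
of the indices 1, …, N into the index type of b with b (e i) = d(x_i) for all i. (In the published
statement A is a regular local F-finite algebra over the prime field and the freeness and finiteness
of Ω_A form the first assertion, taken there from the literature; here they are hypotheses.) -/
theorem result (p : ℕ) [Fact p.Prime]
    {A : Type u} [CommRing A] [IsRegularLocalRing A] [CharP A p]
    [Module.Free A (KaehlerDifferential ℤ A)] [Module.Finite A (KaehlerDifferential ℤ A)]
    {N : ℕ} (x : Fin N → A) (hx : Ideal.span (Set.range x) = maximalIdeal A)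
    (hN : ringKrullDim A = (N : WithBot ℕ∞)) :
    ∃ (ι : Type u) (b : Module.Basis ι A (KaehlerDifferential ℤ A)) (e : Fin N ↪ ι),
      ∀ i : Fin N, b (e i) = KaehlerDifferential.D ℤ A (x i) := by
  classical
  -- notation
  have hxmem : ∀ i, x i ∈ maximalIdeal A := fun i => by
    rw [← hx]; exact Ideal.subset_span ⟨i, rfl⟩
  have hIeq : RingHom.ker (algebraMap A (ResidueField A)) = maximalIdeal A := ker_residue
  have hsurjk : Function.Surjective (algebraMap A (ResidueField A)) := residue_surjective
  -- Step A: the `x i` are independent modulo `𝔪²`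
  have hfin : Module.finrank (ResidueField A) (CotangentSpace A) = N := by
    have h1 := (IsRegularLocalRing.iff_finrank_cotangentSpace A).1 inferInstance
    rw [hN] at h1
    exact_mod_cast h1
  let vx : Fin N → CotangentSpace A := fun i => (maximalIdeal A).toCotangent ⟨x i, hxmem i⟩
  have hsum : ∀ a : Fin N → A, ∀ hmem : ∑ i, a i * x i ∈ maximalIdeal A,
      (maximalIdeal A).toCotangent ⟨∑ i, a i * x i, hmem⟩ = ∑ i, (residue A (a i)) • vx i := by
    intro a hmem
    have h1 : (⟨∑ i, a i * x i, hmem⟩ : maximalIdeal A) = ∑ i, a i • (⟨x i, hxmem i⟩ : maximalIdeal A) := by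
      apply Subtype.ext
      simp [Submodule.coe_sum]
    rw [h1, map_sum]
    refine Finset.sum_congr rfl fun i _ => ?_
    rw [map_smul]
    rfl
  have hspan : ⊤ ≤ Submodule.span (ResidueField A) (Set.range vx) := by
    intro y _
    obtain ⟨m, rfl⟩ := Ideal.toCotangent_surjective _ y
    have hm : (m : A) ∈ Ideal.span (Set.range x) := by rw [hx]; exact m.2
    obtain ⟨a, ha⟩ := Ideal.mem_span_range_iff_exists_fun.1 hm
    have hmem : ∑ i, a i * x i ∈ maximalIdeal A := by rw [ha]; exact m.2
    have hm' : m = ⟨∑ i, a i * x i, hmem⟩ := Subtype.ext ha.symm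
    rw [hm', hsum a hmem]
    exact Submodule.sum_mem _ fun i _ =>
      Submodule.smul_mem _ _ (Submodule.subset_span ⟨i, rfl⟩)
  have hvxli : LinearIndependent (ResidueField A) vx :=
    linearIndependent_of_top_le_span_of_card_eq_finrank hspan (by rw [hfin, Fintype.card_fin])
  have hLI : ∀ a : Fin N → A, ∑ i, a i * x i ∈ maximalIdeal A ^ 2 → ∀ i, a i ∈ maximalIdeal A := by
    intro a ha i
    have hmem : ∑ i, a i * x i ∈ maximalIdeal A :=
      Ideal.pow_le_self two_ne_zero ha
    have h0 : (maximalIdeal A).toCotangent ⟨∑ i, a i * x i, hmem⟩ = 0 :=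
      (Ideal.toCotangent_eq_zero _ _).2 ha
    rw [hsum a hmem] at h0
    have := Fintype.linearIndependent_iff.1 hvxli _ h0 i
    exact (residue_eq_zero_iff _).1 this
  -- Step B: a coefficient field in `A ⧸ 𝔪²` and injectivity of the cotangent map
  let fB : (A ⧸ RingHom.ker (algebraMap A (ResidueField A)) ^ 2) →+* ResidueField A :=
    (IsScalarTower.toAlgHom ℤ A (ResidueField A)).kerSquareLift.toRingHom
  have hfBmk : ∀ a : A, fB (Ideal.Quotient.mk _ a) = algebraMap A (ResidueField A) a := fun a => rfl
  have hfBsurj : Function.Surjective fB := fun y => by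
    obtain ⟨a, rfl⟩ := hsurjk y
    exact ⟨Ideal.Quotient.mk _ a, hfBmk a⟩
  have hfBsq : ∀ u v, fB u = 0 → fB v = 0 → u * v = 0 := by
    intro u v hu hv
    obtain ⟨a, rfl⟩ := Ideal.Quotient.mk_surjective u
    obtain ⟨b, rfl⟩ := Ideal.Quotient.mk_surjective v
    rw [hfBmk] at hu hv
    rw [← map_mul, Ideal.Quotient.eq_zero_iff_mem, pow_two]
    exact Ideal.mul_mem_mul (RingHom.mem_ker.2 hu) (RingHom.mem_ker.2 hv)
  haveI : Nontrivial (A ⧸ RingHom.ker (algebraMap A (ResidueField A)) ^ 2) := ⟨⟨0, 1, fun h => by
    have := congrArg fB h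
    rw [map_zero, map_one] at this
    exact zero_ne_one this⟩⟩
  haveI : CharP (A ⧸ RingHom.ker (algebraMap A (ResidueField A)) ^ 2) p := by
    rw [CharP.charP_iff_prime_eq_zero (Fact.out : p.Prime)]
    have : ((p : A) : A) = 0 := CharP.cast_eq_zero A p
    have h2 := congrArg (Ideal.Quotient.mk (RingHom.ker (algebraMap A (ResidueField A)) ^ 2)) this
    rwa [map_natCast, map_zero] at h2
  obtain ⟨g, hg⟩ := Groth.Agent.Helper28.CoeffField.exists_section p fB hfBsurj hfBsq
  have hg' : (IsScalarTower.toAlgHom ℤ A (ResidueField A)).kerSquareLift.comp g.toIntAlgHom =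
      AlgHom.id ℤ (ResidueField A) := AlgHom.ext fun y => RingHom.congr_fun hg y
  obtain ⟨l, hl⟩ := (retractionKerCotangentToTensorEquivSection (R := ℤ) (P := A)
    (S := ResidueField A) hsurjk).symm ⟨g.toIntAlgHom, hg'⟩
  have hinj : Function.Injective (KaehlerDifferential.kerCotangentToTensor ℤ A (ResidueField A)) :=
    Function.LeftInverse.injective (g := l) fun y => LinearMap.congr_fun hl y
  -- Step C: linear independence of `1 ⊗ d (x i)`
  have hxI : ∀ i, x i ∈ RingHom.ker (algebraMap A (ResidueField A)) := fun i => by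
    rw [hIeq]; exact hxmem i
  let w : Fin N → ResidueField A ⊗[A] Ω[A⁄ℤ] := fun i => (1 : ResidueField A) ⊗ₜ[A] KaehlerDifferential.D ℤ A (x i)
  have hw : LinearIndependent (ResidueField A) w := by
    rw [Fintype.linearIndependent_iff]
    intro c hc i
    choose a ha using fun i => hsurjk (c i)
    have hmemI : ∑ i, a i * x i ∈ RingHom.ker (algebraMap A (ResidueField A)) :=
      Ideal.sum_mem _ fun i _ => Ideal.mul_mem_left _ _ (hxI i)
    have h1 : KaehlerDifferential.kerCotangentToTensor ℤ A (ResidueField A)
        ((RingHom.ker (algebraMap A (ResidueField A))).toCotangent ⟨∑ i, a i * x i, hmemI⟩) = 0 := by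
      rw [KaehlerDifferential.kerCotangentToTensor_toCotangent]
      simp only [map_sum, Derivation.leibniz, TensorProduct.tmul_add, TensorProduct.tmul_sum]
      rw [← hc]
      rw [Finset.sum_add_distrib]
      have hz : ∑ i, (1 : ResidueField A) ⊗ₜ[A] (x i • KaehlerDifferential.D ℤ A (a i)) = 0 := by
        refine Finset.sum_eq_zero fun i _ => ?_
        rw [← TensorProduct.smul_tmul, Algebra.smul_def, mul_one]
        have : algebraMap A (ResidueField A) (x i) = 0 := hxI i
        rw [this, TensorProduct.zero_tmul]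
      rw [hz, add_zero]
      refine Finset.sum_congr rfl fun i _ => ?_
      rw [← TensorProduct.smul_tmul, Algebra.smul_def, mul_one, ha i]
      show c i ⊗ₜ[A] _ = c i • ((1 : ResidueField A) ⊗ₜ[A] _)
      rw [TensorProduct.smul_tmul', smul_eq_mul, mul_one]
    have h2 := hinj (h1.trans (map_zero _).symm)
    have h3 : ∑ i, a i * x i ∈ RingHom.ker (algebraMap A (ResidueField A)) ^ 2 :=
      (Ideal.toCotangent_eq_zero _ _).1 h2
    rw [hIeq] at h3
    have h4 := hLI a h3 i
    rw [← ha i]
    exact (residue_eq_zero_iff _).2 h4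
  -- Step D: extend to a basis and lift
  have hs : LinearIndepOn (ResidueField A) id (Set.range w) := hw.linearIndepOn_id
  have hsurjT : ∀ y : ResidueField A ⊗[A] Ω[A⁄ℤ], ∃ m : Ω[A⁄ℤ], (1 : ResidueField A) ⊗ₜ[A] m = y :=
    TensorProduct.mk_surjective A (Ω[A⁄ℤ]) (ResidueField A) hsurjk
  let v : ↥(hs.extend (Set.subset_univ _)) → Ω[A⁄ℤ] := fun y =>
    if h : ∃ i, w i = y.1 then KaehlerDifferential.D ℤ A (x h.choose) else (hsurjT y.1).choose
  have hv : ∀ y : ↥(hs.extend (Set.subset_univ _)), (1 : ResidueField A) ⊗ₜ[A] v y = y.1 := by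
    intro y
    by_cases h : ∃ i, w i = y.1
    · simp only [v, dif_pos h]
      exact h.choose_spec
    · simp only [v, dif_neg h]
      exact (hsurjT y.1).choose_spec
  have hvw : ∀ (i : Fin N) (hi : w i ∈ hs.extend (Set.subset_univ _)),
      v ⟨w i, hi⟩ = KaehlerDifferential.D ℤ A (x i) := by
    intro i hi
    have h : ∃ j, w j = (⟨w i, hi⟩ : ↥(hs.extend (Set.subset_univ _))).1 := ⟨i, rfl⟩
    simp only [v, dif_pos h]
    have : h.choose = i := hw.injective h.choose_spec
    rw [this]
  have hcomp : (TensorProduct.mk A (ResidueField A) (Ω[A⁄ℤ]) 1) ∘ v = Subtype.val := funext hv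
  have hli : LinearIndependent (ResidueField A)
      ((TensorProduct.mk A (ResidueField A) (Ω[A⁄ℤ]) 1) ∘ v) := by
    rw [hcomp, ← Module.Basis.coe_extend hs]
    exact (Module.Basis.extend hs).linearIndependent
  have hsp : Submodule.span (ResidueField A)
      (Set.range ((TensorProduct.mk A (ResidueField A) (Ω[A⁄ℤ]) 1) ∘ v)) = ⊤ := by
    rw [hcomp, ← Module.Basis.coe_extend hs]
    exact (Module.Basis.extend hs).span_eq
  have H : Function.Injective ((maximalIdeal A).subtype.rTensor (Ω[A⁄ℤ])) :=
    Module.Flat.rTensor_preserves_injective_linearMap _ Subtype.val_injective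
  haveI : Module.FinitePresentation A (Ω[A⁄ℤ]) := Module.finitePresentation_of_projective _ _
  obtain ⟨b, hb⟩ := Module.exists_basis_of_basis_baseChange v hli hsp H
  refine ⟨↥(hs.extend (Set.subset_univ _)), b,
    ⟨fun i => ⟨w i, Module.Basis.subset_extend hs ⟨i, rfl⟩⟩, fun i j hij => ?_⟩, fun i => ?_⟩
  · exact hw.injective (congrArg Subtype.val hij)
  · show b ⟨w i, _⟩ = _
    rw [hb, hvw]


end Groth.Agent.S19270
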