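import Groth.Statements.S19272
import Groth.Agent.Lib.Helper28.WittFil
import Mathlib

set_option autoImplicit false
universe u
open WittFil

namespace Groth.Agent.S19272

open Groth.Agent.Helper28.WittFilLib in
/-- Let A be a unique factorisation domain of characteristic p, x_1, …, x_r pairwise non-associate prime
elements of A, B = A[1/(x_1⋯x_r)] with u_i the unit of B defined by x_i, m ≥ 0, and n ∈ ℤ^r with n_i
< 0 for every i. Then every truncated p-typical Witt vector of length m over B lying in the filtered
piece cut out by ∏ u_i ^ n_i (every coordinate y_j has y_j ^ (p ^ (m−1−j)) · ∏ u_i ^ n_i in the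
image of A) has all its coordinates in the image of the ideal (x_1⋯x_r)·A. (The published item,
stated for the filtered de Rham–Witt pieces in all degrees over a regular local ring, says only that
such vectors have all coordinates in A; this row states the divisibility of every coordinate by
x_1⋯x_r that its proof establishes, in degree zero, for a unique factorisation domain in place of a
regular local ring.) -/
theorem result (p : ℕ) [Fact p.Prime] {A B : Type u} [CommRing A] [IsDomain A]
    [UniqueFactorizationMonoid A] [CharP A p] [CommRing B] [Algebra A B] {r : ℕ} (x : Fin r → A)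
    (hx : ∀ i, Prime (x i)) (hxa : ∀ i j, Associated (x i) (x j) → i = j)
    [IsLocalization.Away (∏ i, x i) B] (u : Fin r → Bˣ)
    (hu : ∀ i, (u i : B) = algebraMap A B (x i)) (m : ℕ) (n : Fin r → ℤ) (hn : ∀ i, n i < 0)
    (a : TruncatedWittVector p m B) (ha : a ∈ WittFil.fil p m (A := A) (WittFil.zmon u n))
    (j : Fin m) :
    ∃ b : A, TruncatedWittVector.coeff j a = algebraMap A B ((∏ i, x i) * b) := by
  have hinj := algebraMap_injective (B := B) x hx
  have hq : 0 < p ^ (m - 1 - (j : ℕ)) := pow_pos (Fact.out : p.Prime).pos _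
  set q := p ^ (m - 1 - (j : ℕ)) with hqdef
  -- the inverse of the monomial
  set γ : A := ∏ i, x i ^ (-n i).toNat with hγ
  have hcγ : WittFil.zmon u n * algebraMap A B γ = 1 := by
    rw [WittFil.zmon, hγ, map_prod, Units.coe_prod, ← Finset.prod_mul_distrib]
    apply Finset.prod_eq_one
    intro i _
    rw [map_pow, ← hu i, ← Units.val_pow_eq_pow_val, ← Units.val_mul, ← zpow_natCast,
      ← zpow_add, Int.toNat_of_nonneg (by have := hn i; omega)]
    simp
  obtain ⟨β, hβ⟩ := ha j
  have h1 : TruncatedWittVector.coeff j a ^ q = algebraMap A B (β * γ) := by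
    rw [map_mul, hβ, mul_assoc, hcγ, mul_one]
  obtain ⟨α, hα⟩ := IC_ufd x hx _ q hq ⟨β * γ, h1.symm⟩
  have h2 : α ^ q = β * γ := by
    apply hinj
    rw [map_pow, hα, h1]
  have hdiv : ∀ i ∈ (Finset.univ : Finset (Fin r)), x i ∣ α := by
    intro i _
    have h3 : x i ∣ γ := by
      rw [hγ]
      apply dvd_trans _ (Finset.dvd_prod_of_mem _ (Finset.mem_univ i))
      apply dvd_pow_self
      have := hn i
      omega
    have h4 : x i ∣ α ^ q := by
      rw [h2]
      exact dvd_mul_of_dvd_right h3 β
    exact (hx i).dvd_of_dvd_pow h4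
  obtain ⟨b, hb⟩ := prod_dvd_of_primes Finset.univ x (fun i _ => hx i)
    (fun i _ j _ h => hxa i j h) α hdiv
  exact ⟨b, by rw [← hb, hα]⟩

end Groth.Agent.S19272
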