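import Groth.Statements.S19273
import Mathlib
open KaehlerDifferential

set_option autoImplicit false
universe u
open CAlg

namespace Groth.Agent.S19273

open KaehlerDifferential in
/-- Let A be an integral domain of prime characteristic p, x_1, …, x_N elements of A, r ≤ N, B =
A[1/(x_1⋯x_r)] with u_i the unit of B defined by x_i for i ≤ r, and suppose that the module Ω_A of
absolute Kähler differentials of A is free with a basis b indexed by {1, …, N} ⊔ ι whose i-th vector
is d(x_i) for i ≤ N. Then the module of logarithmic 1-forms — the A-submodule of Ω_B spanned by the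
image of Ω_A and the forms u_i⁻¹ · d(x_i), i ≤ r — is a free A-module: it has a basis indexed by {1,
…, N} ⊔ ι whose vector at i ≤ r is u_i⁻¹ · d(x_i), at r < i ≤ N is d(x_i), and at k ∈ ι is the image
of b_k. (In the published statement A is a regular local F-finite algebra over the prime field with
maximal ideal (x_1, …, x_N), the basis of Ω_A comes from the preceding lemma, and the assertion
covers the logarithmic q-forms for all q together with their identification with the log de Rham
complex of the log ring; only the degree-one freeness is stated here, from the properties of A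
actually used.) -/
theorem result (p : ℕ) [Fact p.Prime]
    {A B : Type u} [CommRing A] [IsDomain A] [CharP A p] [CommRing B] [Algebra A B] {r N : ℕ}
    (hr : r ≤ N) (x : Fin N → A) [IsLocalization.Away (∏ i : Fin r, x (Fin.castLE hr i)) B]
    (u : Fin r → Bˣ) (hu : ∀ i, (u i : B) = algebraMap A B (x (Fin.castLE hr i)))
    {ι : Type u} (b : Module.Basis (Fin N ⊕ ι) A (Ω[A⁄ℤ])) (hb : ∀ i, b (Sum.inl i) = D ℤ A (x i)) :
    ∃ e : Module.Basis (Fin N ⊕ ι) A
        (W4c6katofilta.logForms1 (fun i : Fin r => x (Fin.castLE hr i)) u),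
      (∀ i : Fin r, (e (Sum.inl (Fin.castLE hr i)) : Ω[B⁄ℤ]) =
          ((u i)⁻¹ : Bˣ) • KaehlerDifferential.map ℤ ℤ A B (D ℤ A (x (Fin.castLE hr i)))) ∧
      (∀ i : Fin N, r ≤ (i : ℕ) →
          (e (Sum.inl i) : Ω[B⁄ℤ]) = KaehlerDifferential.map ℤ ℤ A B (D ℤ A (x i))) ∧
      (∀ k : ι, (e (Sum.inr k) : Ω[B⁄ℤ]) = KaehlerDifferential.map ℤ ℤ A B (b (Sum.inr k))) := by
  classical
  set f : Ω[A⁄ℤ] →ₗ[A] Ω[B⁄ℤ] := KaehlerDifferential.map ℤ ℤ A B with hf
  set π : A := ∏ i : Fin r, x (Fin.castLE hr i) with hπ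
  -- nonvanishing
  have hx0 : ∀ i : Fin N, x i ≠ 0 := by
    intro i h0
    have := b.ne_zero (Sum.inl i)
    rw [hb, h0, map_zero] at this
    exact this rfl
  have hπ0 : π ≠ 0 := Finset.prod_ne_zero_iff.2 fun i _ => hx0 _
  have hinj : Function.Injective (algebraMap A B) :=
    IsLocalization.injective B (M := Submonoid.powers π)
      (powers_le_nonZeroDivisors_of_noZeroDivisors hπ0)
  haveI : IsLocalization (Submonoid.powers π) B := ‹IsLocalization.Away π B›
  haveI : IsLocalizedModule (Submonoid.powers π) f :=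
    KaehlerDifferential.isLocalizedModule_map (R := ℤ) (S := A) (T := B) (Submonoid.powers π)
  let bB : Module.Basis (Fin N ⊕ ι) B (Ω[B⁄ℤ]) := b.ofIsLocalizedModule B (Submonoid.powers π) f
  have hbB : ∀ j, bB j = f (b j) := fun j => b.ofIsLocalizedModule_apply B (Submonoid.powers π) f j
  -- the unit weights
  obtain ⟨w, hwl, hwr, hwk⟩ : ∃ w : Fin N ⊕ ι → Bˣ,
      (∀ i : Fin r, w (Sum.inl (Fin.castLE hr i)) = (u i)⁻¹) ∧
      (∀ i : Fin N, r ≤ (i : ℕ) → w (Sum.inl i) = 1) ∧ (∀ k : ι, w (Sum.inr k) = 1) := by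
    refine ⟨fun j => match j with
      | Sum.inl i => if h : (i : ℕ) < r then (u ⟨i, h⟩)⁻¹ else 1
      | Sum.inr _ => 1, ?_, ?_, ?_⟩
    · intro i
      show (if h : ((Fin.castLE hr i : Fin N) : ℕ) < r then (u ⟨_, h⟩)⁻¹ else 1) = (u i)⁻¹
      rw [dif_pos (by simp)]
      rfl
    · intro i hi
      show (if h : (i : ℕ) < r then (u ⟨_, h⟩)⁻¹ else 1) = 1
      rw [dif_neg (by omega)]
    · intro k
      rfl
  obtain ⟨v, hv⟩ : ∃ v : Fin N ⊕ ι → Ω[B⁄ℤ], ∀ j, v j = w j • f (b j) := ⟨_, fun j => rfl⟩
  have hliB : LinearIndependent B v := by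
    have h1 : LinearIndependent B (fun j => f (b j)) := by
      have := bB.linearIndependent
      convert this using 1
      funext j
      exact (hbB j).symm
    have h2 := h1.units_smul w
    convert h2 using 1
    funext j
    exact hv j
  have hliA : LinearIndependent A v := by
    refine LinearIndependent.restrict_scalars (R := A) (K := B) ?_ hliB
    intro a a' h
    apply hinj
    simpa [Algebra.smul_def] using h
  have hvl : ∀ i : Fin r, v (Sum.inl (Fin.castLE hr i)) =
      ((u i)⁻¹ : Bˣ) • f (D ℤ A (x (Fin.castLE hr i))) := by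
    intro i
    rw [hv, hwl, hb]
  have hvr : ∀ i : Fin N, r ≤ (i : ℕ) → v (Sum.inl i) = f (D ℤ A (x i)) := by
    intro i hi
    rw [hv, hwr i hi, hb, one_smul]
  have hvk : ∀ k : ι, v (Sum.inr k) = f (b (Sum.inr k)) := by
    intro k
    rw [hv, hwk, one_smul]
  have hfb : ∀ j, f (b j) ∈ Submodule.span A (Set.range v) := by
    intro j
    rcases j with i | k
    · by_cases hi : (i : ℕ) < r
      · have e1 : i = Fin.castLE hr ⟨i, hi⟩ := Fin.ext rfl
        have : f (b (Sum.inl i)) = x i • v (Sum.inl i) := by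
          rw [e1, hvl, hb, ← algebraMap_smul B (x (Fin.castLE hr ⟨i, hi⟩)), ← hu, Units.smul_def,
            smul_smul, Units.mul_inv, one_smul]
        rw [this]
        exact Submodule.smul_mem _ _ (Submodule.subset_span ⟨_, rfl⟩)
      · rw [hb, ← hvr i (by omega)]
        exact Submodule.subset_span ⟨_, rfl⟩
    · rw [← hvk]
      exact Submodule.subset_span ⟨_, rfl⟩
  have hEq : W4c6katofilta.logForms1 (fun i : Fin r => x (Fin.castLE hr i)) u =
      Submodule.span A (Set.range v) := by
    apply le_antisymm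
    · unfold W4c6katofilta.logForms1
      rw [Submodule.span_le]
      rintro z (⟨ω, rfl⟩ | ⟨i, rfl⟩)
      · have hω : ω ∈ Submodule.span A (Set.range b) := by rw [b.span_eq]; trivial
        induction hω using Submodule.span_induction with
        | mem y hy =>
          obtain ⟨j, rfl⟩ := hy
          exact hfb j
        | zero => rw [map_zero]; exact Submodule.zero_mem _
        | add y z _ _ hy hz => rw [map_add]; exact Submodule.add_mem _ hy hz
        | smul a y _ hy => rw [map_smul]; exact Submodule.smul_mem _ _ hy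
      · show ((u i)⁻¹ : Bˣ) • f (D ℤ A (x (Fin.castLE hr i))) ∈ _
        rw [← hvl]
        exact Submodule.subset_span ⟨_, rfl⟩
    · rw [Submodule.span_le]
      rintro z ⟨j, rfl⟩
      unfold W4c6katofilta.logForms1
      rcases j with i | k
      · by_cases hi : (i : ℕ) < r
        · have e1 : i = Fin.castLE hr ⟨i, hi⟩ := Fin.ext rfl
          rw [e1, hvl]
          exact Submodule.subset_span (Or.inr ⟨_, rfl⟩)
        · rw [hvr i (by omega)]
          exact Submodule.subset_span (Or.inl ⟨_, rfl⟩)
      · rw [hvk]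
        exact Submodule.subset_span (Or.inl ⟨_, rfl⟩)
  let e₀ : Module.Basis (Fin N ⊕ ι) A (Submodule.span A (Set.range v)) := Module.Basis.span hliA
  have he₀ : ∀ j, ((e₀ j : Submodule.span A (Set.range v)) : Ω[B⁄ℤ]) = v j :=
    fun j => congrArg Subtype.val (Module.Basis.span_apply hliA j)
  let e : Module.Basis (Fin N ⊕ ι) A
      (W4c6katofilta.logForms1 (fun i : Fin r => x (Fin.castLE hr i)) u) :=
    e₀.map (LinearEquiv.ofEq _ _ hEq.symm)
  have he : ∀ j, ((e j : W4c6katofilta.logForms1 (fun i : Fin r => x (Fin.castLE hr i)) u) :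
      Ω[B⁄ℤ]) = v j := by
    intro j
    show ((LinearEquiv.ofEq _ _ hEq.symm (e₀ j) : _) : Ω[B⁄ℤ]) = v j
    rw [LinearEquiv.coe_ofEq_apply, he₀]
  refine ⟨e, ?_, ?_, ?_⟩
  · intro i
    rw [he, hvl]
  · intro i hi
    rw [he, hvr i hi]
  · intro k
    rw [he, hvk]

end Groth.Agent.S19273
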