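import Groth.Statements.S19274
import Mathlib
import Groth.Agent.Lib.Helper28.WittDecomp
open Groth.Agent.Helper28.WittDecomp Groth.Agent.Helper28.XAdic Groth.Agent.Helper28.WittFilLib

set_option autoImplicit false
universe u
open WittFil

namespace Groth.Agent.S19274

/-- Let A be a unique factorisation domain of characteristic p, x a prime element of A, B = A[1/x] with
u the unit of B defined by x, m ≥ 1, and n an integer NOT divisible by p^m. For e in B and k ≥ 0
write fil_k(e) for the set of truncated p-typical Witt vectors of length k over B whose j-th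
coordinate y_j satisfies y_j ^ (p ^ (k−1−j)) · e ∈ A for all j < k (the filtered piece; fil_k(u^n)
is the piece of index n). Then fil_{m+1}(u^n) is contained in fil_{m+1}(u^(n−1)) + V(fil_m(u^n))
(the reverse inclusion is immediate): every a in fil_{m+1}(u^n) can be written a = b + V(y) with b
in fil_{m+1}(u^(n−1)) and y a Witt vector over B whose length-m truncation lies in fil_m(u^n), V(y)
being truncated to length m+1. (In the source A is a henselian discrete valuation ring, n = p^r·l >
1 with p not dividing l, and the condition reads m ≥ r + 1.) -/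
theorem result (p : ℕ) [Fact p.Prime]
    {A B : Type u} [CommRing A] [IsDomain A] [UniqueFactorizationMonoid A] [CharP A p]
    [CommRing B] [Algebra A B] (x : A) (hx : Prime x) [IsLocalization.Away x B] (u : Bˣ)
    (hu : (u : B) = algebraMap A B x) (m : ℕ) (hm : 0 < m) (n : ℤ) (hn : ¬ ((p : ℤ) ^ m ∣ n)) :
    ∀ a ∈ WittFil.fil p (m + 1) (A := A) ((u ^ n : Bˣ) : B),
      ∃ b ∈ WittFil.fil p (m + 1) (A := A) ((u ^ (n - 1) : Bˣ) : B),
        ∃ y : WittVector p B,
          WittVector.truncate m y ∈ WittFil.fil p m (A := A) ((u ^ n : Bˣ) : B) ∧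
            a = b + WittVector.truncate (m + 1) (WittVector.verschiebung y) := by
  intro a ha
  obtain ⟨Y, rfl⟩ := WittVector.truncate_surjective p (m + 1) B a
  have H := H_of_ufd x hx
  have hcoef0 : Y.coeff 0 ^ (p ^ m) * ((u ^ n : Bˣ) : B) ∈ (algebraMap A B).range := by
    have := (mem_fil_iff' p (m + 1) _ Y).1 ha 0 (Nat.succ_pos m)
    simpa using this
  have hq : (0 : ℕ) < p ^ m := pow_pos (Fact.out : p.Prime).pos m
  have hn' : ¬ ((p ^ m : ℕ) : ℤ) ∣ n := by
    push_cast
    exact hn
  have h0 := pow_mul_zpow_mem x hx u hu H (Y.coeff 0) (p ^ m) hq n hn' hcoef0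
  refine ⟨WittVector.truncate (m + 1) (WittVector.teichmuller p (Y.coeff 0)),
    truncate_teich_mem_fil p m _ _ h0, Y.shift 1, truncate_shift_mem_fil p m _ Y ha, ?_⟩
  rw [← map_add, teich_add_verschiebung_shift]

end Groth.Agent.S19274
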