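import Groth.Statements.S19276
import Mathlib
import Groth.Agent.Lib.Helper28.CycDecomp3

set_option autoImplicit false
universe u v
open GrpAlg

namespace Groth.Agent.S19276

/-- Let `A` be a finite commutative group and `Λ` a commutative ring in which the order of `A` is
invertible. Then the ring homomorphism from the group ring `Λ[A]` to the product, over the subgroups
`B` of `A` with cyclic quotient, of the cyclotomic quotients `Λ[A ⧸ B]/(Φ_{|A/B|})`, each component
induced by `A → A/B`, is bijective. (In terms of group schemes: `Λ[A]` is the representation ring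
with coefficients in `Λ` of the finite diagonalizable group with character group `A`, the factors
are indexed by its dual cyclic subgroups, i.e. those isomorphic to some `μ_n`, and the components
are restriction followed by the cyclotomic quotient. The published statement takes `Λ = ℤ[1/|A|]`;
here `Λ` is any commutative ring in which `|A|` is invertible.) -/
theorem result (Λ : Type u) [CommRing Λ] (A : Type v)
    [AddCommGroup A] [Finite A] (hA : IsUnit ((Nat.card A : ℕ) : Λ)) :
    Function.Bijective (RingHom.pi fun B : {B : AddSubgroup A // IsAddCyclic (A ⧸ B)} =>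
      W4c6equivkfinstab.cycQuotMap Λ A B.1) := by
  classical
  have hidx : ∀ B : AddSubgroup A, IsUnit ((B.index : ℕ) : Λ) := by
    intro B
    obtain ⟨r, hr⟩ := AddSubgroup.index_dvd_card B
    rw [hr, Nat.cast_mul] at hA
    exact isUnit_of_mul_isUnit_left hA
  constructor
  · rw [injective_iff_map_eq_zero]
    intro x hx
    have hx' : ∀ B : AddSubgroup A, (⊥ : AddSubgroup A) ≤ B → IsAddCyclic (A ⧸ B) →
        W4c6equivkfinstab.cycQuotMap Λ A B x = 0 := by
      intro B _ hB
      exact congrFun hx ⟨B, hB⟩
    have h0 := Groth.Agent.Helper28.CycDecomp.quotMap_eq_zero Λ A ⊥ (hidx ⊥) x hx'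
    have hinj : Function.Injective (QuotientAddGroup.mk' (⊥ : AddSubgroup A)) := by
      rw [← AddMonoidHom.ker_eq_bot_iff, QuotientAddGroup.ker_mk']
    have hinj2 : Function.Injective (W4c6equivkfinstab.quotMap Λ A ⊥) :=
      AddMonoidAlgebra.mapDomain_injective hinj
    exact hinj2 (h0.trans (map_zero _).symm)
  · intro z
    choose xB hxB using fun B : {B : AddSubgroup A // IsAddCyclic (A ⧸ B)} =>
      Groth.Agent.Helper28.CycUnit.cycQuotMap_surjective Λ A B.1 (z B)
    have hcop : Pairwise (Function.onFun IsCoprime fun B : {B : AddSubgroup A // IsAddCyclic (A ⧸ B)} =>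
        RingHom.ker (W4c6equivkfinstab.cycQuotMap Λ A B.1)) := by
      intro B B' hne
      haveI := B.2
      haveI := B'.2
      exact Groth.Agent.Helper28.CycDecomp.isCoprime_ker Λ A B.1 B'.1 (hidx _) (hidx _)
        (fun h => hne (Subtype.ext h))
    obtain ⟨r, hr⟩ := Ideal.exists_forall_sub_mem_ideal hcop xB
    refine ⟨r, ?_⟩
    funext B
    have h1 := hr B
    rw [RingHom.mem_ker, map_sub, sub_eq_zero] at h1
    show W4c6equivkfinstab.cycQuotMap Λ A B.1 r = z B
    rw [h1, hxB]

end Groth.Agent.S19276
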