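import Groth.Statements.S19277
import Mathlib
import Groth.Agent.Lib.Helper28.CycUnit

set_option autoImplicit false
universe u v
open GrpAlg

namespace Groth.Agent.S19277

/-- Let `M` be a commutative group, `B ≠ B'` subgroups of finite index with `M ⧸ B` and `M ⧸ B'` cyclic,
and `Λ` a commutative ring in which both indices are invertible. Then the localization of the
`Λ[M]`-module `Λ[M ⧸ B]/(Φ_{|M/B|})` at the multiplicative subset of `Λ[M]` of elements with image
`1` in `Λ[M ⧸ B']/(Φ_{|M/B'|})` is zero. (In terms of group schemes: for two distinct dual cyclic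
subgroups σ, σ' of the diagonalizable group with character group `M`, the ring R̃(σ) with
coefficients in `Λ` vanishes after localization at σ'. The published statement has a split torus,
i.e. `M` free of finite rank, and `Λ = ℤ[1/N]` for `N` the order of the subgroup generated by σ and
σ'; here `M` is any commutative group and `Λ` any commutative ring in which the orders of σ and σ'
are invertible.) -/
theorem result (Λ : Type u) [CommRing Λ] (M : Type v)
    [AddCommGroup M] (B B' : AddSubgroup M) [B.FiniteIndex] [B'.FiniteIndex]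
    [IsAddCyclic (M ⧸ B)] [IsAddCyclic (M ⧸ B')] (hne : B ≠ B')
    (hu : IsUnit ((B.index * B'.index : ℕ) : Λ)) :
    Subsingleton (LocalizedModule (W4c6equivkfinstab.locSubmonoid Λ M B')
      (W4c6equivkfinstab.CycQuot Λ (M ⧸ B))) := by
  classical
  have huB : IsUnit ((B.index : ℕ) : Λ) := by
    rw [Nat.cast_mul] at hu
    exact isUnit_of_mul_isUnit_left hu
  have huB' : IsUnit ((B'.index : ℕ) : Λ) := by
    rw [Nat.cast_mul] at hu
    exact isUnit_of_mul_isUnit_right hu
  have hsmul : ∀ (s : AddMonoidAlgebra Λ M) (m : W4c6equivkfinstab.CycQuot Λ (M ⧸ B)),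
      s • m = W4c6equivkfinstab.cycQuotMap Λ M B s * m := by
    intro s m
    obtain ⟨y, rfl⟩ := Ideal.Quotient.mk_surjective m
    have h1 : s • (Ideal.Quotient.mk (W4c6equivkfinstab.cycIdeal Λ (M ⧸ B)) y) =
        Ideal.Quotient.mk (W4c6equivkfinstab.cycIdeal Λ (M ⧸ B)) (s • y) := rfl
    have h2 : s • y = W4c6equivkfinstab.quotMap Λ M B s * y := by
      rw [Algebra.smul_def]; rfl
    rw [h1, h2, map_mul]
    rfl
  rw [LocalizedModule.subsingleton_iff]
  by_cases hle : B ≤ B'
  · -- then `B' ⊄ B`
    have hle' : ¬ B' ≤ B := fun h => hne (le_antisymm hle h)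
    obtain ⟨b, hb0, hb⟩ := SetLike.not_le_iff_exists.1 hle'
    obtain ⟨v, hv⟩ := Groth.Agent.Helper28.CycUnit.exists_mul_mem_locSubmonoid Λ M B huB b hb
    have hv1 : W4c6equivkfinstab.cycQuotMap Λ M B
        (v * (AddMonoidAlgebra.single b (1 : Λ) - 1)) = 1 := hv
    intro m
    refine ⟨1 - v * (AddMonoidAlgebra.single b (1 : Λ) - 1), ?_, ?_⟩
    · show W4c6equivkfinstab.cycQuotMap Λ M B' _ = 1
      have h0 : W4c6equivkfinstab.cycQuotMap Λ M B' (AddMonoidAlgebra.single b (1 : Λ) - 1) = 0 := by
        show Ideal.Quotient.mk _ (W4c6equivkfinstab.quotMap Λ M B' _) = 0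
        rw [map_sub, Groth.Agent.Helper28.CycUnit.quotMap_single, map_one,
          (QuotientAddGroup.eq_zero_iff b).2 hb0, AddMonoidAlgebra.one_def, sub_self, map_zero]
      rw [map_sub, map_one, map_mul, h0, mul_zero, sub_zero]
    · rw [hsmul, map_sub, map_one, hv1, sub_self, zero_mul]
  · obtain ⟨b, hb0, hb⟩ := SetLike.not_le_iff_exists.1 hle
    obtain ⟨v, hv⟩ := Groth.Agent.Helper28.CycUnit.exists_mul_mem_locSubmonoid Λ M B' huB' b hb
    intro m
    refine ⟨_, hv, ?_⟩
    rw [hsmul]
    have h0 : W4c6equivkfinstab.cycQuotMap Λ M B (AddMonoidAlgebra.single b (1 : Λ) - 1) = 0 := by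
      show Ideal.Quotient.mk _ (W4c6equivkfinstab.quotMap Λ M B _) = 0
      rw [map_sub, Groth.Agent.Helper28.CycUnit.quotMap_single, map_one,
        (QuotientAddGroup.eq_zero_iff b).2 hb0, AddMonoidAlgebra.one_def, sub_self, map_zero]
    rw [map_mul, h0, mul_zero, zero_mul]

end Groth.Agent.S19277
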