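import Groth.Statements.S19279
import Mathlib
import Groth.Agent.Lib.Helper28.CycDecomp3

set_option autoImplicit false
universe u v
open GrpAlg

namespace Groth.Agent.S19279

/-- Let `M` be a commutative group, `B₀` a subgroup of finite index and `Λ` a commutative ring in which
the index of `B₀` is invertible. Then the `Λ[M]`-linear map from `Λ[M ⧸ B₀]` to the product, over
the subgroups `B ⊇ B₀` with `M ⧸ B` cyclic, of the localizations of `Λ[M ⧸ B₀]` at the
multiplicative subsets of `Λ[M]` of elements with image `1` in `Λ[M ⧸ B]/(Φ_{|M/B|})`, with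
components the localization maps, is bijective. (In terms of group schemes: for a finite closed
subgroup T' = D(M/B₀) of the diagonalizable group with character group `M`, the representation ring
of T' with coefficients in `Λ` is the product of its localizations at the dual cyclic subgroups of
T'. The published statement has a split torus and `Λ = ℤ[1/|T'|]`; here `M` is any commutative group
and `Λ` any commutative ring in which the order of T' is invertible.) -/
theorem result (Λ : Type u) [CommRing Λ]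
    (M : Type v) [AddCommGroup M] (B₀ : AddSubgroup M) [B₀.FiniteIndex]
    (hu : IsUnit ((B₀.index : ℕ) : Λ)) :
    Function.Bijective (LinearMap.pi (R := AddMonoidAlgebra Λ M)
      fun B : {B : AddSubgroup M // B₀ ≤ B ∧ IsAddCyclic (M ⧸ B)} =>
        LocalizedModule.mkLinearMap (W4c6equivkfinstab.locSubmonoid Λ M B.1)
          (AddMonoidAlgebra Λ (M ⧸ B₀))) := by
  classical
  -- notation
  have hfinC : Finite (M ⧸ B₀) := AddSubgroup.finite_quotient_of_finiteIndex
  have hfin : Finite {B : AddSubgroup M // B₀ ≤ B ∧ IsAddCyclic (M ⧸ B)} := by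
    refine Finite.of_injective
      (fun B => (B.1.map (QuotientAddGroup.mk' B₀) : AddSubgroup (M ⧸ B₀))) ?_
    intro B B' h
    apply Subtype.ext
    have h1 : (B.1.map (QuotientAddGroup.mk' B₀)).comap (QuotientAddGroup.mk' B₀) = B.1 :=
      AddSubgroup.comap_map_eq_self (by rw [QuotientAddGroup.ker_mk']; exact B.2.1)
    have h2 : (B'.1.map (QuotientAddGroup.mk' B₀)).comap (QuotientAddGroup.mk' B₀) = B'.1 :=
      AddSubgroup.comap_map_eq_self (by rw [QuotientAddGroup.ker_mk']; exact B'.2.1)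
    have h3 : (B.1.map (QuotientAddGroup.mk' B₀)) = (B'.1.map (QuotientAddGroup.mk' B₀)) := h
    rw [← h1, ← h2, h3]
  have hFI : ∀ B : {B : AddSubgroup M // B₀ ≤ B ∧ IsAddCyclic (M ⧸ B)}, B.1.FiniteIndex :=
    fun B => AddSubgroup.finiteIndex_of_le B.2.1
  have hidx : ∀ B : {B : AddSubgroup M // B₀ ≤ B ∧ IsAddCyclic (M ⧸ B)},
      IsUnit ((B.1.index : ℕ) : Λ) := by
    intro B
    obtain ⟨r, hr⟩ := AddSubgroup.index_dvd_of_le B.2.1
    rw [hr, Nat.cast_mul] at hu
    exact isUnit_of_mul_isUnit_left hu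
  have hsmul : ∀ (s : AddMonoidAlgebra Λ M) (y : AddMonoidAlgebra Λ (M ⧸ B₀)),
      s • y = W4c6equivkfinstab.quotMap Λ M B₀ s * y := by
    intro s y
    rw [Algebra.smul_def]; rfl
  -- (T)
  have hT : ∀ x : AddMonoidAlgebra Λ M,
      (∀ B : {B : AddSubgroup M // B₀ ≤ B ∧ IsAddCyclic (M ⧸ B)},
        W4c6equivkfinstab.cycQuotMap Λ M B.1 x = 0) →
      W4c6equivkfinstab.quotMap Λ M B₀ x = 0 := by
    intro x hx
    exact Groth.Agent.Helper28.CycDecomp.quotMap_eq_zero Λ M B₀ hu x
      (fun B hB hc => hx ⟨B, hB, hc⟩)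
  have hJI : ∀ (B : {B : AddSubgroup M // B₀ ≤ B ∧ IsAddCyclic (M ⧸ B)})
      (x : AddMonoidAlgebra Λ M), W4c6equivkfinstab.quotMap Λ M B₀ x = 0 →
      W4c6equivkfinstab.cycQuotMap Λ M B.1 x = 0 := by
    intro B x hx
    show Ideal.Quotient.mk _ (W4c6equivkfinstab.quotMap Λ M B.1 x) = 0
    rw [Groth.Agent.Helper28.CycDecomp.quotMap_eq_zero_of_le Λ M B.2.1 x hx, map_zero]
  constructor
  · rw [injective_iff_map_eq_zero]
    intro y hy
    obtain ⟨x, rfl⟩ := Groth.Agent.Helper28.CycUnit.quotMap_surjective Λ M B₀ y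
    apply hT
    intro B
    have h1 : LocalizedModule.mkLinearMap (W4c6equivkfinstab.locSubmonoid Λ M B.1)
        (AddMonoidAlgebra Λ (M ⧸ B₀)) (W4c6equivkfinstab.quotMap Λ M B₀ x) = 0 :=
      congrFun hy B
    rw [← LinearMap.mem_ker, LocalizedModule.mem_ker_mkLinearMap_iff] at h1
    obtain ⟨s, hs, hsx⟩ := h1
    rw [hsmul, ← map_mul] at hsx
    have h2 := hJI B _ hsx
    have hs1 : W4c6equivkfinstab.cycQuotMap Λ M B.1 s = 1 := hs
    rw [map_mul, hs1, one_mul] at h2
    exact h2
  · intro z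
    have : Fintype {B : AddSubgroup M // B₀ ≤ B ∧ IsAddCyclic (M ⧸ B)} := Fintype.ofFinite _
    -- representatives
    have hrep : ∀ B : {B : AddSubgroup M // B₀ ≤ B ∧ IsAddCyclic (M ⧸ B)},
        ∃ (x : AddMonoidAlgebra Λ M) (s : W4c6equivkfinstab.locSubmonoid Λ M B.1),
          z B = LocalizedModule.mk (W4c6equivkfinstab.quotMap Λ M B₀ x) s := by
      intro B
      induction z B using LocalizedModule.induction_on with
      | h y s =>
        obtain ⟨x, rfl⟩ := Groth.Agent.Helper28.CycUnit.quotMap_surjective Λ M B₀ y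
        exact ⟨x, s, rfl⟩
    choose xB sB hz using hrep
    have hcop : Pairwise (Function.onFun IsCoprime
        fun B : {B : AddSubgroup M // B₀ ≤ B ∧ IsAddCyclic (M ⧸ B)} =>
        RingHom.ker (W4c6equivkfinstab.cycQuotMap Λ M B.1)) := by
      intro B B' hne
      haveI := B.2.2
      haveI := B'.2.2
      haveI := hFI B
      haveI := hFI B'
      exact Groth.Agent.Helper28.CycDecomp.isCoprime_ker Λ M B.1 B'.1 (hidx _) (hidx _)
        (fun h => hne (Subtype.ext h))
    have hε : ∀ B : {B : AddSubgroup M // B₀ ≤ B ∧ IsAddCyclic (M ⧸ B)},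
        ∃ e : AddMonoidAlgebra Λ M, ∀ B' : {B : AddSubgroup M // B₀ ≤ B ∧ IsAddCyclic (M ⧸ B)},
          W4c6equivkfinstab.cycQuotMap Λ M B'.1 e = if B' = B then 1 else 0 := by
      intro B
      obtain ⟨e, he⟩ := Ideal.exists_forall_sub_mem_ideal hcop
        (fun B' => if B' = B then (1 : AddMonoidAlgebra Λ M) else 0)
      refine ⟨e, fun B' => ?_⟩
      have h1 := he B'
      rw [RingHom.mem_ker, map_sub, sub_eq_zero] at h1
      rw [h1]
      split_ifs <;> simp
    choose ε hε using hε
    refine ⟨W4c6equivkfinstab.quotMap Λ M B₀ (∑ B, ε B * xB B), ?_⟩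
    funext B
    show LocalizedModule.mkLinearMap (W4c6equivkfinstab.locSubmonoid Λ M B.1)
        (AddMonoidAlgebra Λ (M ⧸ B₀)) _ = z B
    rw [hz B, LocalizedModule.mkLinearMap_apply, LocalizedModule.mk_eq]
    have hεmem : ε B ∈ W4c6equivkfinstab.locSubmonoid Λ M B.1 := by
      show W4c6equivkfinstab.cycQuotMap Λ M B.1 (ε B) = 1
      rw [hε B B, if_pos rfl]
    refine ⟨⟨ε B, hεmem⟩, ?_⟩
    show ε B • (sB B : AddMonoidAlgebra Λ M) • W4c6equivkfinstab.quotMap Λ M B₀ (∑ B, ε B * xB B) =
      ε B • (1 : AddMonoidAlgebra Λ M) • W4c6equivkfinstab.quotMap Λ M B₀ (xB B)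
    rw [hsmul, hsmul, hsmul, hsmul, ← map_mul, ← map_mul, ← map_mul, ← map_mul, ← sub_eq_zero,
      ← map_sub]
    apply hT
    intro B'
    have hsB : W4c6equivkfinstab.cycQuotMap Λ M B.1 (sB B : AddMonoidAlgebra Λ M) = 1 := (sB B).2
    by_cases hBB : B' = B
    · subst hBB
      rw [map_sub, map_mul, map_mul, map_mul, map_mul, map_one, hsB, map_sum]
      simp only [map_mul, hε]
      rw [Finset.sum_eq_single B']
      · rw [if_pos rfl]; ring
      · intro b _ hb
        rw [if_neg (Ne.symm hb), zero_mul]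
      · intro h; exact absurd (Finset.mem_univ _) h
    · rw [map_sub, map_mul, map_mul (W4c6equivkfinstab.cycQuotMap Λ M B'.1) (ε B), hε B B',
        if_neg hBB, zero_mul, zero_mul, sub_self]

end Groth.Agent.S19279
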