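import Groth.Statements.S19284
import Groth.Agent.Lib.Helper22.AffGal

set_option autoImplicit false
universe u
open NumberField

namespace Groth.Agent.S19284

/-- Let L/K be a finite extension of number fields and Ω an algebraic closure of K. Suppose that L/K is
almost abelian in the non-abelian way: for some prime number p there is a bijection between the set
of K-embeddings L → Ω and Z/p under which every K-automorphism of Ω acts by an affine transformation
x ↦ a x + b with a ≠ 0, and L/K is not an abelian extension (it is not Galois with commutative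
automorphism group). Then there is an intermediate extension K ⊂ E ⊂ Ω contained in the normal
closure of L, Galois over K with nontrivial cyclic group, such that for every finite place w of K
which is unramified in L (every prime of the integers of L above w has ramification index 1), either
E admits a K-algebra embedding into the completion K_w (since E/K is Galois: w splits completely in
E) or L admits a K-algebra embedding into K_w (L has a place of degree 1 over w). (Only finite
places are treated here.) -/
theorem result (K L Ω : Type u) [Field K] [NumberField K]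
    [Field L] [NumberField L] [Algebra K L] [Field Ω] [Algebra K Ω] [IsAlgClosure K Ω]
    (p : ℕ) (hp : p.Prime) (e : (L →ₐ[K] Ω) ≃ ZMod p)
    (haff : ∀ σ : Ω ≃ₐ[K] Ω, ∃ a b : ZMod p, a ≠ 0 ∧
      ∀ φ : L →ₐ[K] Ω, e (σ.toAlgHom.comp φ) = a * e φ + b)
    (hnab : IsGalois K L → ∃ σ τ : L ≃ₐ[K] L, σ * τ ≠ τ * σ) :
    ∃ E : IntermediateField K Ω, E ≤ IntermediateField.normalClosure K L Ω ∧
      FiniteDimensional K E ∧ IsGalois K E ∧ IsCyclic (E ≃ₐ[K] E) ∧ 1 < Module.finrank K E ∧
      ∀ w : IsDedekindDomain.HeightOneSpectrum (NumberField.RingOfIntegers K),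
        (∀ P : Ideal (NumberField.RingOfIntegers L), P.IsPrime → P.LiesOver w.asIdeal →
          P.ramificationIdx (NumberField.RingOfIntegers K) = 1) →
        Nonempty (E →ₐ[K] w.adicCompletion K) ∨ Nonempty (L →ₐ[K] w.adicCompletion K) := by
  classical
  haveI : Fact p.Prime := ⟨hp⟩
  haveI : Normal K Ω := IsAlgClosure.normal K Ω
  haveI : FiniteDimensional K (IntermediateField.normalClosure K L Ω) :=
    normalClosure.is_finiteDimensional K L Ω
  haveI : NumberField (IntermediateField.normalClosure K L Ω) :=
    NumberField.of_module_finite K (IntermediateField.normalClosure K L Ω)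
  haveI : Normal K (IntermediateField.normalClosure K L Ω) := normalClosure.normal K L Ω
  haveI : IsGalois K (IntermediateField.normalClosure K L Ω) := IsGalois.mk
  let e' : (L →ₐ[K] (IntermediateField.normalClosure K L Ω)) ≃ ZMod p :=
    (normalClosure.algHomEquiv K L Ω).trans e
  have haff' : ∀ σ : (IntermediateField.normalClosure K L Ω) ≃ₐ[K]
      (IntermediateField.normalClosure K L Ω), ∃ a b : ZMod p, a ≠ 0 ∧
      ∀ φ : L →ₐ[K] (IntermediateField.normalClosure K L Ω),
        e' (σ.toAlgHom.comp φ) = a * e' φ + b := by
    intro σ
    obtain ⟨a, b, ha, h⟩ := haff (σ.liftNormal Ω)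
    refine ⟨a, b, ha, fun φ => ?_⟩
    have h2 := h ((IntermediateField.normalClosure K L Ω).val.comp φ)
    have hcomp : (IntermediateField.normalClosure K L Ω).val.comp (σ.toAlgHom.comp φ) =
        (σ.liftNormal Ω).toAlgHom.comp ((IntermediateField.normalClosure K L Ω).val.comp φ) := by
      ext x
      exact (σ.liftNormal_commutes Ω (φ x)).symm
    show e ((IntermediateField.normalClosure K L Ω).val.comp (σ.toAlgHom.comp φ)) =
      a * e ((IntermediateField.normalClosure K L Ω).val.comp φ) + b
    rw [hcomp]
    exact h2
  obtain ⟨E, hE1, hE2, hE3, hE4⟩ := Groth.Agent.Helper22.AffGal.main e' haff' hnab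
  refine ⟨IntermediateField.lift E, IntermediateField.lift_le E, ?_, ?_, ?_, ?_, ?_⟩
  · exact (IntermediateField.liftAlgEquiv E).toLinearEquiv.finiteDimensional
  · exact IsGalois.of_algEquiv (IntermediateField.liftAlgEquiv E)
  · exact isCyclic_of_surjective (AlgEquiv.autCongr (IntermediateField.liftAlgEquiv E)).toMonoidHom
      (AlgEquiv.autCongr (IntermediateField.liftAlgEquiv E)).surjective
  · rw [← (IntermediateField.liftAlgEquiv E).toLinearEquiv.finrank_eq]
    exact hE3
  · intro w hunr
    rcases hE4 w hunr with ⟨⟨ι⟩⟩ | h
    · exact Or.inl ⟨ι.comp (IntermediateField.liftAlgEquiv E).symm.toAlgHom⟩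
    · exact Or.inr h

end Groth.Agent.S19284
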