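import Groth.Statements.S19288
import Mathlib


set_option autoImplicit false
universe u
open CategoryTheory CategoryTheory.Limits MonoidalCategory CartesianMonoidalCategory MonObj AlgebraicGeometry
open AbSch

namespace Groth.Agent.S19288

/-- Let S be a scheme, X a commutative S-group scheme which is etale and separated over S (hence locally
of finite presentation), and P a commutative S-group scheme of finite presentation over S all of
whose fibres are connected. Then every homomorphism of S-group schemes from P to X is trivial (it
factors through the unit section). -/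
theorem result {S : Scheme.{u}} (P X : Over S)
    [GrpObj P] [IsCommMonObj P] [GrpObj X] [IsCommMonObj X]
    [Etale X.hom] [IsSeparated X.hom]
    [QuasiCompact P.hom] [QuasiSeparated P.hom] [LocallyOfFinitePresentation P.hom]
    (hP : ∀ s : S, ConnectedSpace ↥(P.hom.fiber s))
    (f : P ⟶ X) [IsMonHom f] : f = 1 := by
  classical
  -- the unit section of X
  have hsec : (η[X] : 𝟙_ (Over S) ⟶ X).left ≫ X.hom = 𝟙 S := by
    have := Over.w (η[X] : 𝟙_ (Over S) ⟶ X)
    simpa using this
  haveI hpc : MorphismProperty.HasOfPostcompProperty @IsOpenImmersion @Etale := by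
    rw [MorphismProperty.hasOfPostcompProperty_iff_le_diagonal]
    intro A B g hg
    haveI : Etale g := hg
    show IsOpenImmersion (pullback.diagonal g)
    infer_instance
  haveI hopen : IsOpenImmersion (η[X] : 𝟙_ (Over S) ⟶ X).left := by
    apply MorphismProperty.of_postcomp (W := @IsOpenImmersion) (W' := @Etale) _ X.hom inferInstance
    rw [hsec]; exact IsOpenImmersion.of_isIso (𝟙 S)
  haveI hclosed : IsClosedImmersion (η[X] : 𝟙_ (Over S) ⟶ X).left := by
    apply MorphismProperty.of_postcomp (W := @IsClosedImmersion) (W' := @IsSeparated) _ X.hom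
      inferInstance
    rw [hsec]
    haveI : IsIso (𝟙 S) := inferInstance
    exact inferInstanceAs (IsClosedImmersion (𝟙 S))
  set e : S ⟶ X.left := (η[X] : 𝟙_ (Over S) ⟶ X).left with he
  have hUo : IsOpen (Set.range e) := e.isOpenEmbedding.isOpen_range
  have hUc : IsClosed (Set.range e) := e.isClosedEmbedding.isClosed_range
  -- f maps the unit section of P to that of X
  have hone : (η[P] : 𝟙_ (Over S) ⟶ P) ≫ f = η[X] := IsMonHom.one_hom f
  have hsecP : (η[P] : 𝟙_ (Over S) ⟶ P).left ≫ P.hom = 𝟙 S := by
    have := Over.w (η[P] : 𝟙_ (Over S) ⟶ P)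
    simpa using this
  have key : ∀ p : P.left, f.left p ∈ Set.range e := by
    intro p
    let s : S := P.hom p
    haveI := hP s
    let jf := P.hom.fiberι s
    have hclopen : IsClopen ((fun q => f.left (jf q)) ⁻¹' Set.range e) := by
      have hcont : Continuous (fun q => f.left (jf q)) :=
        f.left.continuous.comp jf.continuous
      exact ⟨hUc.preimage hcont, hUo.preimage hcont⟩
    have hne : ((fun q => f.left (jf q)) ⁻¹' Set.range e).Nonempty := by
      have h1 : (η[P] : 𝟙_ (Over S) ⟶ P).left s ∈ Set.range jf := by
        rw [Scheme.Hom.range_fiberι]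
        show P.hom ((η[P] : 𝟙_ (Over S) ⟶ P).left s) = s
        rw [← Scheme.Hom.comp_apply, hsecP]; rfl
      obtain ⟨q, hq⟩ := h1
      refine ⟨q, s, ?_⟩
      show e s = f.left (jf q)
      rw [hq]
      have h3 : f.left ((η[P] : 𝟙_ (Over S) ⟶ P).left s) =
          ((η[P] : 𝟙_ (Over S) ⟶ P) ≫ f).left s := rfl
      rw [h3, hone]
    have huniv := hclopen.eq_univ hne
    have h2 : p ∈ Set.range jf := by
      rw [Scheme.Hom.range_fiberι]; rfl
    obtain ⟨q, hq⟩ := h2
    have : q ∈ (fun q => f.left (jf q)) ⁻¹' Set.range e := by rw [huniv]; trivial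
    rw [← hq]
    exact this
  have hrange : Set.range f.left ⊆ Set.range e := by
    rintro _ ⟨p, rfl⟩
    exact key p
  let g : P.left ⟶ S := IsOpenImmersion.lift e f.left hrange
  have hg : g ≫ e = f.left := IsOpenImmersion.lift_fac _ _ _
  have hg2 : g = P.hom := by
    have := congrArg (· ≫ X.hom) hg
    simp only [Category.assoc] at this
    rw [hsec, Category.comp_id, Over.w f] at this
    exact this
  apply Over.OverMorphism.ext
  rw [← hg, hg2, Hom.one_def, Over.comp_left]
  congr 1

end Groth.Agent.S19288
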