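import Groth.Statements.S19309
import Mathlib
-- import your own Groth.Agent.* helpers here

set_option autoImplicit false
universe u
open PowerSeries LaurentSeries
open CAlg

namespace Groth.Agent.S19309

section
open PowerSeries LaurentSeries

variable {R : Type u} [CommRing R] {R' : Type u} [CommRing R']

lemma coeff_of_mul_single (a : R⸨X⸩) (N : ℕ) (g : R⟦X⟧)
    (hg : a * HahnSeries.single (N : ℤ) 1 = HahnSeries.ofPowerSeries ℤ R g) (n : ℤ) :
    a.coeff n = if n + N < 0 then 0 else PowerSeries.coeff (n + N).natAbs g := by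
  have h := congrArg (fun z => HahnSeries.coeff z (n + N)) hg
  simp only [HahnSeries.coeff_mul_single_add, mul_one] at h
  rw [h]
  exact PowerSeries.coeff_coe (f := g) (n + N)

lemma theta_coeff (φ : R →+* R') (θ : R⸨X⸩ →+* R'⸨X⸩)
    (hθ : θ.comp (algebraMap R⟦X⟧ R⸨X⸩) = (algebraMap R'⟦X⟧ R'⸨X⸩).comp (PowerSeries.map φ))
    (a : R⸨X⸩) (n : ℤ) : (θ a).coeff n = φ (a.coeff n) := by
  obtain ⟨⟨g, ⟨_, N, rfl⟩⟩, hg⟩ :=
    IsLocalization.surj (Submonoid.powers (PowerSeries.X : R⟦X⟧)) a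
  simp only [LaurentSeries.coe_algebraMap, HahnSeries.ofPowerSeries_X_pow] at hg
  have h1 : θ a * HahnSeries.single (N : ℤ) 1
      = HahnSeries.ofPowerSeries ℤ R' (PowerSeries.map φ g) := by
    have h2 := congrArg θ hg
    rw [map_mul] at h2
    have e1 : θ (HahnSeries.ofPowerSeries ℤ R (PowerSeries.X ^ N))
        = HahnSeries.ofPowerSeries ℤ R' (PowerSeries.map φ (PowerSeries.X ^ N)) :=
      RingHom.congr_fun hθ _
    have e2 : θ (HahnSeries.ofPowerSeries ℤ R g)
        = HahnSeries.ofPowerSeries ℤ R' (PowerSeries.map φ g) :=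
      RingHom.congr_fun hθ _
    rw [e2] at h2
    rw [← h2]
    congr 1
    rw [← HahnSeries.ofPowerSeries_X_pow, ← HahnSeries.ofPowerSeries_X_pow, e1,
      RingHom.map_pow (PowerSeries.map φ), PowerSeries.map_X]
  rw [coeff_of_mul_single (θ a) N _ h1 n, coeff_of_mul_single a N g hg n]
  split_ifs
  · simp
  · simp

theorem main
    (k : Type u) [Field k] (R : Type u) [CommRing R] [Algebra k R]
    (B : Type u) [CommRing B] [Algebra R⟦X⟧ B] [Algebra.FinitePresentation R⟦X⟧ B]
    (s : B →ₐ[R⟦X⟧] R⸨X⸩) :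
    ∃ I : Ideal R, ∀ (R' : Type u) [CommRing R'] (φ : R →+* R') (θ : R⸨X⸩ →+* R'⸨X⸩),
      θ.comp (algebraMap R⟦X⟧ R⸨X⸩) = (algebraMap R'⟦X⟧ R'⸨X⸩).comp (PowerSeries.map φ) →
      ((∃ s' : B →+* R'⟦X⟧, s'.comp (algebraMap R⟦X⟧ B) = PowerSeries.map φ ∧
          (algebraMap R'⟦X⟧ R'⸨X⸩).comp s' = θ.comp s.toRingHom) ↔ I ≤ RingHom.ker φ) := by
  refine ⟨Ideal.span {c : R | ∃ (b : B) (n : ℤ), n < 0 ∧ c = (s b).coeff n}, ?_⟩
  intro R' _ φ θ hθ
  have hinj : Function.Injective (algebraMap R'⟦X⟧ R'⸨X⸩) :=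
    HahnSeries.ofPowerSeries_injective
  constructor
  · rintro ⟨s', hs1, hs2⟩
    rw [Ideal.span_le]
    rintro c ⟨b, n, hn, rfl⟩
    show φ _ = 0
    rw [← theta_coeff φ θ hθ]
    have h3 : θ (s b) = algebraMap R'⟦X⟧ R'⸨X⸩ (s' b) := (RingHom.congr_fun hs2 b).symm
    rw [h3, LaurentSeries.coe_algebraMap, PowerSeries.coeff_coe, if_pos hn]
  · intro hI
    -- the candidate power series
    let σ : B → R'⟦X⟧ := fun b => PowerSeries.mk fun n => φ ((s b).coeff n)
    have hσ : ∀ b, algebraMap R'⟦X⟧ R'⸨X⸩ (σ b) = θ (s b) := by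
      intro b
      ext n
      rw [LaurentSeries.coe_algebraMap, PowerSeries.coeff_coe, theta_coeff φ θ hθ]
      split_ifs with hn
      · symm
        exact hI (Ideal.subset_span ⟨b, n, hn, rfl⟩)
      · rw [PowerSeries.coeff_mk]
        congr 2
        omega
    let s' : B →+* R'⟦X⟧ :=
      { toFun := σ
        map_one' := hinj (by rw [hσ, map_one, map_one, map_one])
        map_mul' := fun a b => hinj (by rw [hσ, map_mul, map_mul, map_mul, hσ, hσ])
        map_zero' := hinj (by rw [hσ, map_zero, map_zero, map_zero])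
        map_add' := fun a b => hinj (by rw [hσ, map_add, map_add, map_add, hσ, hσ]) }
    refine ⟨s', ?_, ?_⟩
    · ext1 f
      apply hinj
      show algebraMap R'⟦X⟧ R'⸨X⸩ (σ (algebraMap R⟦X⟧ B f)) = _
      rw [hσ, AlgHom.commutes]
      exact RingHom.congr_fun hθ f
    · ext1 b
      exact hσ b

end

/-- Let k be a field, R a commutative k-algebra, B a finitely presented R⟦X⟧-algebra (an affine scheme V
= Spec B of finite presentation over the disc D_R = Spec R⟦X⟧) and s : B → R((X)) an R⟦X⟧-algebra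
map (a section of V over the punctured disc). Then there is an ideal I of R such that for every ring
map φ : R → R', writing θ : R((X)) → R'((X)) for the ring map compatible with R⟦X⟧ → R'⟦X⟧, the
section s extends to a section over D_{R'} — an R⟦X⟧-algebra map s' : B → R'⟦X⟧ whose composite with
R'⟦X⟧ → R'((X)) is θ ∘ s — if and only if φ kills I. In other words the sub-presheaf of Spec R where
s extends over the disc is the closed subscheme defined by I. -/
theorem result
    (k : Type u) [Field k] (R : Type u) [CommRing R] [Algebra k R]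
    (B : Type u) [CommRing B] [Algebra R⟦X⟧ B] [Algebra.FinitePresentation R⟦X⟧ B]
    (s : B →ₐ[R⟦X⟧] R⸨X⸩) :
    ∃ I : Ideal R, ∀ (R' : Type u) [CommRing R'] (φ : R →+* R') (θ : R⸨X⸩ →+* R'⸨X⸩),
      θ.comp (algebraMap R⟦X⟧ R⸨X⸩) = (algebraMap R'⟦X⟧ R'⸨X⸩).comp (PowerSeries.map φ) →
      ((∃ s' : B →+* R'⟦X⟧, s'.comp (algebraMap R⟦X⟧ B) = PowerSeries.map φ ∧
          (algebraMap R'⟦X⟧ R'⸨X⸩).comp s' = θ.comp s.toRingHom) ↔ I ≤ RingHom.ker φ) := by
  exact Groth.Agent.S19309.main k R B s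

end Groth.Agent.S19309
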