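import Groth.Statements.S19310
import Mathlib
import Groth.Agent.Lib.Helper28.GeomDomain

set_option autoImplicit false
universe u
open TensorProduct
open CAlg

namespace Groth.Agent.S19310

/-- Let k be an algebraically closed field, A a finitely generated k-algebra which is an integral domain
(X = Spec A an affine variety), R a commutative k-algebra, possibly non-reduced, and U an open
subset of X_R = Spec (R ⊗_k A) meeting every fibre of X_R → Spec R (a very dense open subset). Then
a regular function on X_R whose restriction to U vanishes is zero: if f ∈ R ⊗_k A maps to 0 in the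
localisation (R ⊗_k A)[1/g] for every g with D(g) ⊆ U, then f = 0. (The published statement is that
automorphisms of a torsor under a smooth affine group scheme over X_R which are the identity over a
very dense open subset are the identity, for X a smooth projective curve; its proof reduces this to
the present assertion about functions, for quasi-projective X; this row is the affine case.) -/
theorem result
    (k : Type u) [Field k] [IsAlgClosed k]
    (A : Type u) [CommRing A] [Algebra k A] [IsDomain A] [Algebra.FiniteType k A]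
    (R : Type u) [CommRing R] [Algebra k R]
    (U : TopologicalSpace.Opens (PrimeSpectrum (TensorProduct k R A)))
    (hsurj : ∀ q : PrimeSpectrum R, ∃ P ∈ U,
      PrimeSpectrum.comap (Algebra.TensorProduct.includeLeftRingHom : R →+* TensorProduct k R A) P = q)
    (f : TensorProduct k R A)
    (hf : ∀ g : TensorProduct k R A, (PrimeSpectrum.basicOpen g : Set (PrimeSpectrum (TensorProduct k R A))) ⊆ U →
      algebraMap (TensorProduct k R A) (Localization.Away g) f = 0) :
    f = 0 := by
  classical
  by_contra hf0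
  let T := TensorProduct k R A
  let b := Module.Free.chooseBasis k A
  let B := Algebra.TensorProduct.basis R b
  -- coefficientwise description of extended ideals
  have hcoef : ∀ (𝔞 : Ideal R) (y : T),
      y ∈ 𝔞.map (algebraMap R T) ↔ ∀ i, B.repr y i ∈ 𝔞 := by
    intro 𝔞 y
    constructor
    · intro hy
      have hy' : y ∈ (𝔞 • ⊤ : Submodule R T) := by
        rw [Ideal.smul_top_eq_map]; exact hy
      refine Submodule.smul_induction_on hy' ?_ ?_
      · intro a ha t _ i
        rw [map_smul, Finsupp.smul_apply, smul_eq_mul]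
        exact 𝔞.mul_mem_right _ ha
      · intro x z hx hz i
        rw [map_add, Finsupp.add_apply]
        exact 𝔞.add_mem (hx i) (hz i)
    · intro hy
      rw [← B.linearCombination_repr y, Finsupp.linearCombination_apply, Finsupp.sum]
      refine Ideal.sum_mem _ (fun i _ => ?_)
      rw [Algebra.smul_def]
      exact Ideal.mul_mem_right _ _ (Ideal.mem_map_of_mem _ (hy i))
  obtain ⟨i0, hi0⟩ : ∃ i, B.repr f i ≠ 0 := by
    by_contra h
    push Not at h
    exact hf0 (B.repr.map_eq_zero_iff.mp (Finsupp.ext h))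
  set r0 := B.repr f i0 with hr0
  let I : Ideal R := Ideal.span (((B.repr f).support.image (B.repr f) : Finset R) : Set R)
  have hIfg : (I : Submodule R R).FG := ⟨_, rfl⟩
  have hmemI : ∀ i, B.repr f i ∈ I := by
    intro i
    by_cases hi : B.repr f i = 0
    · rw [hi]; exact zero_mem _
    · apply Ideal.subset_span
      simp only [Finset.coe_image, Set.mem_image, Finset.mem_coe, Finsupp.mem_support_iff]
      exact ⟨i, hi, rfl⟩
  -- the maximal ideal
  let J : Ideal R := LinearMap.ker (LinearMap.toSpanSingleton R R r0)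
  have hJ : J ≠ ⊤ := by
    intro h
    have : (1 : R) ∈ J := by rw [h]; trivial
    simp only [J, LinearMap.mem_ker, LinearMap.toSpanSingleton_apply, one_smul] at this
    exact hi0 this
  obtain ⟨𝔮, h𝔮max, hJ𝔮⟩ := Ideal.exists_le_maximal J hJ
  have hnot : ¬ (I ≤ 𝔮 * I) := by
    intro hle
    obtain ⟨s, hs1, hs2⟩ := Submodule.exists_sub_one_mem_and_smul_eq_zero_of_fg_of_le_smul 𝔮
      (I : Submodule R R) hIfg hle
    have h1 : s ∈ J := by
      simp only [J, LinearMap.mem_ker, LinearMap.toSpanSingleton_apply]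
      exact hs2 r0 (hmemI i0)
    have h2 : (1 : R) ∈ 𝔮 := by
      have := 𝔮.sub_mem (hJ𝔮 h1) hs1
      simpa using this
    exact h𝔮max.ne_top ((Ideal.eq_top_iff_one _).mpr h2)
  obtain ⟨i1, hi1⟩ : ∃ i, B.repr f i ∉ 𝔮 * I := by
    by_contra h
    push Not at h
    apply hnot
    refine Ideal.span_le.mpr ?_
    intro x hx
    simp only [Finset.coe_image, Set.mem_image, Finset.mem_coe, Finsupp.mem_support_iff] at hx
    obtain ⟨i, _, rfl⟩ := hx
    exact h i
  set r1 := B.repr f i1 with hr1
  have hr1ne : r1 ≠ 0 := fun h => hi1 (by rw [h]; exact zero_mem _)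
  -- the functional
  let _ := Ideal.Quotient.field 𝔮
  obtain ⟨φ, hφ⟩ : ∃ φ : I →ₗ[R] (R ⧸ 𝔮), φ ⟨r1, hmemI i1⟩ = 1 := by
    let W := I ⧸ (𝔮 • ⊤ : Submodule R I)
    let v : W := Submodule.Quotient.mk ⟨r1, hmemI i1⟩
    have hv : v ≠ 0 := by
      intro h
      rw [Submodule.Quotient.mk_eq_zero] at h
      apply hi1
      have h2 : ((𝔮 • ⊤ : Submodule R I).map I.subtype) = 𝔮 • I := by
        rw [Submodule.map_smul'', Submodule.map_top, Submodule.range_subtype]
      have h3 : r1 ∈ (𝔮 • ⊤ : Submodule R I).map I.subtype := ⟨⟨r1, hmemI i1⟩, h, rfl⟩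
      rw [h2] at h3
      exact h3
    obtain ⟨l, hl⟩ : ∃ l : Module.Dual (R ⧸ 𝔮) W, l v ≠ 0 := by
      by_contra hcon
      push Not at hcon
      exact hv ((Module.forall_dual_apply_eq_zero_iff (R ⧸ 𝔮) v).mp hcon)
    let l' : W →ₗ[R ⧸ 𝔮] (R ⧸ 𝔮) := (l v)⁻¹ • l
    refine ⟨(l'.restrictScalars R).comp (Submodule.mkQ _), ?_⟩
    simp only [LinearMap.coe_comp, LinearMap.coe_restrictScalars, Function.comp_apply]
    show l' v = 1
    simp only [l', LinearMap.smul_apply, smul_eq_mul]
    exact inv_mul_cancel₀ hl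
  let H : Ideal R := Submodule.map (Submodule.subtype I) (LinearMap.ker φ)
  -- lifts of the values of φ
  have hlift : ∀ i, ∃ s : R, Ideal.Quotient.mk 𝔮 s = φ ⟨B.repr f i, hmemI i⟩ ∧
      (B.repr f i = 0 → s = 0) := by
    intro i
    by_cases hi : B.repr f i = 0
    · refine ⟨0, ?_, fun _ => rfl⟩
      have : (⟨B.repr f i, hmemI i⟩ : I) = 0 := Subtype.ext hi
      rw [this, map_zero, map_zero]
    · obtain ⟨s, hs⟩ := Ideal.Quotient.mk_surjective (φ ⟨B.repr f i, hmemI i⟩)
      exact ⟨s, hs, fun h => absurd h hi⟩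
  choose s hs hs0 using hlift
  let sF : _ →₀ R := Finsupp.onFinset (B.repr f).support s (by
    intro i hi
    rw [Finsupp.mem_support_iff]
    exact fun h => hi (hs0 i h))
  let h : T := B.repr.symm sF
  have hreprh : ∀ i, B.repr h i = s i := by
    intro i
    simp only [h, LinearEquiv.apply_symm_apply, sF, Finsupp.onFinset_apply]
  -- f - r1 • h has coefficients in H
  have hfh : f - r1 • h ∈ H.map (algebraMap R T) := by
    rw [hcoef]
    intro i
    rw [map_sub, map_smul, Finsupp.sub_apply, Finsupp.smul_apply, hreprh, smul_eq_mul]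
    refine ⟨⟨B.repr f i, hmemI i⟩ - s i • ⟨r1, hmemI i1⟩, ?_, ?_⟩
    · rw [SetLike.mem_coe, LinearMap.mem_ker, map_sub, map_smul, hφ, ← hs i]
      rw [Algebra.smul_def, mul_one]
      exact sub_self _
    · simp only [Submodule.subtype_apply, Submodule.coe_sub, Submodule.coe_smul, smul_eq_mul]
      ring
  -- the point of U over 𝔮
  obtain ⟨P, hPU, hPq⟩ := hsurj ⟨𝔮, h𝔮max.isPrime⟩
  obtain ⟨_, ⟨g, rfl⟩, hPg, hgU⟩ := PrimeSpectrum.isTopologicalBasis_basic_opens.exists_subset_of_mem_open
    hPU U.2
  have hfg := hf g hgU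
  rw [IsLocalization.map_eq_zero_iff (Submonoid.powers g)] at hfg
  obtain ⟨⟨_, n, rfl⟩, hn⟩ := hfg
  simp only at hn
  -- the reduction map
  let B' := Algebra.TensorProduct.basis (R ⧸ 𝔮) b
  let ρ : T →ₐ[k] (R ⧸ 𝔮) ⊗[k] A :=
    Algebra.TensorProduct.map (Ideal.Quotient.mkₐ k 𝔮) (AlgHom.id k A)
  have hρrepr : ∀ (y : T) i, B'.repr (ρ y) i = Ideal.Quotient.mk 𝔮 (B.repr y i) := by
    intro y i
    induction y using TensorProduct.induction_on with
    | zero => simp
    | tmul r a =>
      have e1 : ρ (r ⊗ₜ[k] a) = (Ideal.Quotient.mk 𝔮 r) ⊗ₜ[k] a := rfl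
      rw [e1]
      simp only [B', B, Algebra.TensorProduct.basis_repr_tmul, Finsupp.smul_apply,
        Finsupp.mapRange_apply, smul_eq_mul, map_mul]
      congr 1
    | add y z hy hz =>
      rw [map_add, map_add, Finsupp.add_apply, hy, hz, map_add, Finsupp.add_apply, map_add]
  haveI : IsDomain ((R ⧸ 𝔮) ⊗[k] A) :=
    Groth.Agent.Helper28.GeomDomain.isDomain_tensorProduct k (R ⧸ 𝔮) A
  -- ρ g ≠ 0
  have hq_le : 𝔮.map (algebraMap R T) ≤ P.asIdeal := by
    rw [Ideal.map_le_iff_le_comap]
    have : P.asIdeal.comap (algebraMap R T) = 𝔮 := congrArg PrimeSpectrum.asIdeal hPq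
    rw [this]
  have hρker : ∀ y : T, ρ y = 0 → y ∈ 𝔮.map (algebraMap R T) := by
    intro y hy
    rw [hcoef]
    intro i
    have := hρrepr y i
    rw [hy, map_zero, Finsupp.zero_apply] at this
    exact Ideal.Quotient.eq_zero_iff_mem.mp this.symm
  have hρg : ρ g ≠ 0 := by
    intro h0
    exact hPg (hq_le (hρker g h0))
  -- coefficients of g^n * h are in 𝔮
  have hz : g ^ n * h ∈ 𝔮.map (algebraMap R T) := by
    rw [hcoef]
    intro i
    have h1 : g ^ n * (r1 • h) ∈ H.map (algebraMap R T) := by
      have : g ^ n * (r1 • h) = - (g ^ n * (f - r1 • h)) := by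
        rw [mul_sub, hn]; simp
      rw [this]
      exact neg_mem (Ideal.mul_mem_left _ _ hfh)
    rw [hcoef] at h1
    have h2 := h1 i
    rw [mul_smul_comm, map_smul, Finsupp.smul_apply, smul_eq_mul] at h2
    obtain ⟨x, hxker, hx⟩ := h2
    set c := B.repr (g ^ n * h) i with hc
    have hxeq : x = c • ⟨r1, hmemI i1⟩ := by
      apply Subtype.ext
      rw [Submodule.subtype_apply] at hx
      rw [hx]
      simp only [Submodule.coe_smul, smul_eq_mul]
      ring
    rw [SetLike.mem_coe, LinearMap.mem_ker, hxeq, map_smul, hφ, Algebra.smul_def, mul_one] at hxker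
    exact Ideal.Quotient.eq_zero_iff_mem.mp hxker
  have hρz : ρ (g ^ n * h) = 0 := by
    have hle : 𝔮.map (algebraMap R T) ≤ RingHom.ker ρ.toRingHom := by
      rw [Ideal.map_le_iff_le_comap]
      intro q hq
      rw [Ideal.mem_comap, RingHom.mem_ker]
      show ρ (algebraMap R T q) = 0
      rw [Algebra.TensorProduct.algebraMap_apply]
      have e1 : ρ (q ⊗ₜ[k] (1 : A)) = (Ideal.Quotient.mk 𝔮 q) ⊗ₜ[k] (1 : A) := rfl
      rw [Algebra.algebraMap_self_apply, e1, Ideal.Quotient.eq_zero_iff_mem.mpr hq, zero_tmul]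
    exact hle hz
  rw [map_mul, map_pow] at hρz
  have hρh : ρ h = 0 := by
    rcases mul_eq_zero.mp hρz with h1 | h1
    · exact absurd (eq_zero_of_pow_eq_zero h1) hρg
    · exact h1
  have := hρrepr h i1
  rw [hρh, map_zero, Finsupp.zero_apply, hreprh, hs i1, hφ] at this
  exact zero_ne_one this


end Groth.Agent.S19310
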