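import Groth.Statements.S19322
import Mathlib
import Groth.Agent.Lib.Helper28.SpSeqDim
open Groth.Agent.Helper28.SpSeqDim

set_option autoImplicit false
universe v u
open CategoryTheory CategoryTheory.Limits
open SpSeq

namespace Groth.Agent.S19322

/-- Let K be a field and E a cohomological spectral sequence of K-vector spaces, pages from r₀,
concentrated in the first quadrant on page r₀ and with all terms of page r₀ finite-dimensional, and
let H be abutment data for E whose filtration in degree n is finite, H n finite-dimensional. If the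
dimensions of the page-r₀ terms E^{s, n-s}, 0 ≤ s ≤ n, add up to the dimension of H n, then every
position of total degree n is stationary from page r₀ on: all differentials into and out of it
vanish on every page. (The printed statement takes r₀ a positive integer and n ≥ 0; neither
restriction is needed.) -/
theorem result
    {K : Type u} [Field K] {r₀ : ℤ}
    (E : CohomologicalSpectralSequence (ModuleCat.{v} K) r₀) (H : ℤ → ModuleCat.{v} K)
    (a : SpSeq.Abutment E H) (n : ℤ) (hfin : a.IsFinite n)
    (hquad : ∀ pq : ℤ × ℤ, pq.1 < 0 ∨ pq.2 < 0 → IsZero ((E.page r₀ le_rfl).X pq))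
    (hfd : ∀ pq : ℤ × ℤ, Module.Finite K ((E.page r₀ le_rfl).X pq))
    (hH : Module.Finite K (H n))
    (hsum : ∑ s ∈ Finset.Icc (0 : ℤ) n, Module.finrank K ((E.page r₀ le_rfl).X (s, n - s)) =
      Module.finrank K (H n)) :
    ∀ s : ℤ, SpSeq.StationaryAt E (s, n - s) r₀ := by
  classical
  haveI := hH
  obtain ⟨⟨a0, ha0⟩, ⟨b0, hb0⟩⟩ := hfin
  have ha0' : a.fil n a0 = ⊤ := ha0
  have hb0' : a.fil n b0 = ⊥ := hb0
  have hβ : ∀ s : ℤ, Module.finrank K ((E.page (a.rk (s, n - s)) (a.stat (s, n - s)).1).X (s, n - s)) =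
      Module.finrank K (SpSeq.grPiece (a.fil n) (a.anti n) s : ModuleCat.{v} K) := by
    intro s
    have key : ∀ m : ℤ, m = n →
        Module.finrank K (SpSeq.grPiece (a.fil m) (a.anti m) s : ModuleCat.{v} K) =
        Module.finrank K (SpSeq.grPiece (a.fil n) (a.anti n) s : ModuleCat.{v} K) := by
      rintro m rfl; rfl
    rw [← key (s + (n - s)) (by ring)]
    exact (a.β (s, n - s)).toLinearEquiv.finrank_eq
  have hout : ∀ s : ℤ, s ∉ Finset.Icc 0 n → IsZero ((E.page r₀ le_rfl).X (s, n - s)) := by
    intro s hs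
    apply hquad
    rw [Finset.mem_Icc] at hs
    show s < 0 ∨ n - s < 0
    omega
  have hlo : a.fil n (min a0 0) = ⊤ := by
    have := a.anti n (min_le_left a0 0)
    rw [ha0'] at this
    exact top_le_iff.1 this
  have hhi : a.fil n (max (max b0 (n + 1)) (min a0 0)) = ⊥ := by
    have := a.anti n (le_trans (le_max_left b0 (n + 1)) (le_max_left _ (min a0 0)))
    rw [hb0'] at this
    exact le_bot_iff.1 this
  have hlohi : min a0 0 ≤ max (max b0 (n + 1)) (min a0 0) := le_max_right _ _
  have htot := sum_gr (a.fil n) (a.anti n) _ _ hlohi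
  rw [dim_top _ _ hlo, dim_bot _ _ hhi, zero_add] at htot
  have hsub : Finset.Icc 0 n ⊆ Finset.Ico (min a0 0) (max (max b0 (n + 1)) (min a0 0)) := by
    intro s hs
    rw [Finset.mem_Icc] at hs
    rw [Finset.mem_Ico]
    constructor
    · exact le_trans (min_le_right _ _) hs.1
    · have : n + 1 ≤ max (max b0 (n + 1)) (min a0 0) :=
        le_trans (le_max_right b0 (n + 1)) (le_max_left _ _)
      omega
  have hzero_gr : ∀ s ∈ Finset.Ico (min a0 0) (max (max b0 (n + 1)) (min a0 0)), s ∉ Finset.Icc 0 n →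
      Module.finrank K (SpSeq.grPiece (a.fil n) (a.anti n) s : ModuleCat.{v} K) = 0 := by
    intro s _ hs
    rw [← hβ s]
    have := page_isZero E (s, n - s) (hout s hs) _ (a.stat (s, n - s)).1
    haveI := ModuleCat.subsingleton_of_isZero this
    exact Module.finrank_zero_of_subsingleton
  have htot' : Module.finrank K (H n) =
      ∑ s ∈ Finset.Icc 0 n, Module.finrank K (SpSeq.grPiece (a.fil n) (a.anti n) s : ModuleCat.{v} K) := by
    rw [htot]
    exact (Finset.sum_subset hsub hzero_gr).symm
  have hle : ∀ s ∈ Finset.Icc (0 : ℤ) n,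
      Module.finrank K ((E.page (a.rk (s, n - s)) (a.stat (s, n - s)).1).X (s, n - s)) ≤
      Module.finrank K ((E.page r₀ le_rfl).X (s, n - s)) :=
    fun s _ => page_mono E _ (hfd _) r₀ le_rfl (a.rk _) (a.stat _).1
  have heq : ∀ s ∈ Finset.Icc (0 : ℤ) n,
      Module.finrank K ((E.page (a.rk (s, n - s)) (a.stat (s, n - s)).1).X (s, n - s)) =
      Module.finrank K ((E.page r₀ le_rfl).X (s, n - s)) := by
    have hsumeq : ∑ s ∈ Finset.Icc (0 : ℤ) n,
        Module.finrank K ((E.page (a.rk (s, n - s)) (a.stat (s, n - s)).1).X (s, n - s)) =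
        ∑ s ∈ Finset.Icc (0 : ℤ) n, Module.finrank K ((E.page r₀ le_rfl).X (s, n - s)) := by
      rw [hsum, htot']
      exact Finset.sum_congr rfl (fun s _ => hβ s)
    exact (Finset.sum_eq_sum_iff_of_le hle).1 hsumeq
  intro s
  refine ⟨le_rfl, ?_⟩
  intro r' h₀ _
  by_cases hs : s ∈ Finset.Icc 0 n
  · by_cases hrk : a.rk (s, n - s) ≤ r'
    · exact (a.stat (s, n - s)).2 r' h₀ hrk
    · push Not at hrk
      have hfin' := page_fin E (s, n - s) (hfd _) r' h₀
      obtain ⟨_, h2, h3⟩ := page_step E r' h₀ (s, n - s) hfin'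
      apply h3
      have c1 := page_mono E (s, n - s) (hfd _) (r' + 1) (by omega) (a.rk (s, n - s)) (by omega)
      have c2 := page_mono E (s, n - s) (hfd _) r₀ le_rfl r' h₀
      have c3 := heq s hs
      omega
  · have hz := page_isZero E (s, n - s) (hout s hs) r' h₀
    exact ⟨hz.eq_of_tgt _ _, hz.eq_of_src _ _⟩

end Groth.Agent.S19322
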