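import Groth.Statements.S19323
import Mathlib


set_option autoImplicit false
universe v u
open CategoryTheory CategoryTheory.Limits
open SpSeq

namespace Groth.Agent.S19323

/-- In an abelian category let E and E' be first-quadrant E₂ cohomological spectral sequences and φ : E
⟶ E' a morphism of spectral sequences such that (i) every differential of E' leaving a position
whose first coordinate is nonzero vanishes, (ii) on every page the map φ at each position followed
by the outgoing differential of E' is zero, and (iii) φ is a monomorphism at every position of page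
2. Then E degenerates at page 2. -/
theorem result
    {C : Type u} [Category.{v} C] [Abelian C]
    (E E' : E₂CohomologicalSpectralSequence C) (φ : E ⟶ E')
    (hE : ∀ pq : ℤ × ℤ, pq.1 < 0 ∨ pq.2 < 0 → IsZero ((E.page 2 le_rfl).X pq))
    (hE' : ∀ pq : ℤ × ℤ, pq.1 < 0 ∨ pq.2 < 0 → IsZero ((E'.page 2 le_rfl).X pq))
    (hd' : ∀ (r : ℤ) (hr : 2 ≤ r) (pq : ℤ × ℤ), pq.1 ≠ 0 →
      (E'.page r hr).d pq (pq + (r, 1 - r)) = 0)
    (hφd : ∀ (r : ℤ) (hr : 2 ≤ r) (pq : ℤ × ℤ),
      (φ.hom r hr).f pq ≫ (E'.page r hr).d pq (pq + (r, 1 - r)) = 0)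
    (hmono : ∀ pq : ℤ × ℤ, Mono ((φ.hom 2 le_rfl).f pq)) :
    SpSeq.Degenerates E 2 := by
  classical
  -- vanishing outside the first quadrant propagates
  have hzero : ∀ (r : ℤ) (hr : 2 ≤ r) (pq : ℤ × ℤ), (pq.1 < 0 ∨ pq.2 < 0) →
      IsZero ((E.page r hr).X pq) := by
    intro r hr
    induction r, hr using Int.leInduction with
    | base => exact hE
    | succ r hr ih =>
      intro pq hpq
      have h1 : IsZero ((E.page r hr).homology pq) :=
        ShortComplex.isZero_homology_of_isZero_X₂ _ (ih pq hpq)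
      exact h1.of_iso (E.iso r (r + 1) pq rfl hr).symm
  -- differentials of E' leaving positions off the first column vanish (all targets)
  have hd'gen : ∀ (r : ℤ) (hr : 2 ≤ r) (pq pq' : ℤ × ℤ), pq.1 ≠ 0 →
      (E'.page r hr).d pq pq' = 0 := by
    intro r hr pq pq' h0
    by_cases hrel : (ComplexShape.up' ((r, 1 - r) : ℤ × ℤ)).Rel pq pq'
    · have : pq + (r, 1 - r) = pq' := hrel
      subst this
      exact hd' r hr pq h0
    · exact (E'.page r hr).shape _ _ hrel
  -- mono on far columns implies vanishing of the differentials of E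
  have hD : ∀ (r : ℤ) (hr : 2 ≤ r),
      (∀ pq : ℤ × ℤ, r ≤ pq.1 → Mono ((φ.hom r hr).f pq)) →
      ∀ pq pq' : ℤ × ℤ, (E.page r hr).d pq pq' = 0 := by
    intro r hr hM pq pq'
    by_cases hrel : (ComplexShape.up' ((r, 1 - r) : ℤ × ℤ)).Rel pq pq'
    · have : pq + (r, 1 - r) = pq' := hrel
      subst this
      by_cases h0 : pq.1 < 0
      · exact (hzero r hr pq (Or.inl h0)).eq_of_src _ _
      · have hm : Mono ((φ.hom r hr).f (pq + (r, 1 - r))) := hM _ (by
          show r ≤ pq.1 + r
          omega)
        rw [← cancel_mono ((φ.hom r hr).f (pq + (r, 1 - r))), zero_comp,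
          ← (φ.hom r hr).comm pq _]
        exact hφd r hr pq
    · exact (E.page r hr).shape _ _ hrel
  have main : ∀ (r : ℤ) (hr : 2 ≤ r), ∀ pq : ℤ × ℤ, r ≤ pq.1 → Mono ((φ.hom r hr).f pq) := by
    intro r hr
    induction r, hr using Int.leInduction with
    | base => intro pq _; exact hmono pq
    | succ r hr ih =>
      intro pq hpq
      have hd := hD r hr ih
      have hf₁ : ((E.page r hr).sc pq).f = 0 := hd _ _
      have hg₁ : ((E.page r hr).sc pq).g = 0 := hd _ _
      have hg₂ : ((E'.page r hr).sc pq).g = 0 := hd'gen r hr _ _ (by omega)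
      have hf₂ : ((E'.page r hr).sc pq).f = 0 := by
        show (E'.page r hr).d ((ComplexShape.up' ((r, 1 - r) : ℤ × ℤ)).prev pq) pq = 0
        by_cases hrel : (ComplexShape.up' ((r, 1 - r) : ℤ × ℤ)).Rel
            ((ComplexShape.up' ((r, 1 - r) : ℤ × ℤ)).prev pq) pq
        · apply hd'gen r hr
          have h1 : (ComplexShape.up' ((r, 1 - r) : ℤ × ℤ)).prev pq + (r, 1 - r) = pq := hrel
          have h2 : ((ComplexShape.up' ((r, 1 - r) : ℤ × ℤ)).prev pq).1 + r = pq.1 := by
            have := congrArg Prod.fst h1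
            simpa using this
          omega
        · exact (E'.page r hr).shape _ _ hrel
      let ψ := (HomologicalComplex.shortComplexFunctor C
        (ComplexShape.up' ((r, 1 - r) : ℤ × ℤ)) pq).map (φ.hom r hr)
      have γ : ShortComplex.LeftHomologyMapData ψ
          (ShortComplex.LeftHomologyData.ofZeros _ hf₁ hg₁)
          (ShortComplex.LeftHomologyData.ofZeros _ hf₂ hg₂) :=
        ShortComplex.LeftHomologyMapData.ofZeros ψ hf₁ hg₁ hf₂ hg₂
      have hγ : γ.φH = (φ.hom r hr).f pq := by
        have : γ = ShortComplex.LeftHomologyMapData.ofZeros ψ hf₁ hg₁ hf₂ hg₂ :=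
          Subsingleton.elim _ _
        rw [this]
        rfl
      have hmono_r : Mono ((φ.hom r hr).f pq) := ih pq (by omega)
      have e1 : HomologicalComplex.homologyMap (φ.hom r hr) pq =
          (ShortComplex.LeftHomologyData.ofZeros _ hf₁ hg₁).homologyIso.hom ≫ γ.φH ≫
            (ShortComplex.LeftHomologyData.ofZeros _ hf₂ hg₂).homologyIso.inv :=
        γ.homologyMap_eq
      have hmH : Mono (HomologicalComplex.homologyMap (φ.hom r hr) pq) := by
        rw [e1, hγ]
        exact @mono_comp _ _ _ _ _ _ inferInstance _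
          (@mono_comp _ _ _ _ _ _ hmono_r _ inferInstance)
      have e2 := φ.comm r (r + 1) pq rfl hr
      have e3 : (φ.hom (r + 1) (by omega)).f pq = (E.iso r (r + 1) pq rfl hr).inv ≫
          HomologicalComplex.homologyMap (φ.hom r hr) pq ≫ (E'.iso r (r + 1) pq rfl hr).hom := by
        rw [e2, Iso.inv_hom_id_assoc]
      rw [e3]
      exact @mono_comp _ _ _ _ _ _ inferInstance _
          (@mono_comp _ _ _ _ _ _ hmH _ inferInstance)
  refine ⟨le_rfl, ?_⟩
  intro r' h₀ _ pq pq'
  exact hD r' h₀ (main r' h₀) pq pq' 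

end Groth.Agent.S19323
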