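import Groth.Statements.S19326
import Mathlib
import Groth.Agent.Lib.Helper22.TorusGr
open TensorProduct Groth.Agent.Helper12 Groth.Agent.Helper22.TorusGr

set_option autoImplicit false
universe u
open TensorProduct
open GLin

namespace Groth.Agent.S19326

/-- Let k be a field, M a finite abelian group and D = Spec k[M] the finite diagonalizable group scheme
it defines, acting on an affine k-scheme U = Spec R through a multiplicative coaction R → R ⊗ k[M];
write R_a for the weight space of a ∈ M (elements with coaction f ⊗ a). For an ideal J of R the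
induced action of D on the closed subscheme V(J) is trivial, meaning that the coaction followed by
reduction modulo J equals f ↦ (f mod J) ⊗ 1, exactly when J contains the ideal generated by the
weight spaces R_a for a ≠ 0; in other words that ideal defines the largest closed subscheme of U on
which D acts trivially. (The printed setting has U smooth, which plays no role here and is not
assumed; the further assertion that the construction commutes with flat base change on U/D is not
part of this statement.) -/
theorem result
    {k : Type u} [Field k] {M : Type u} [AddCommGroup M] [Finite M]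
    {R : Type u} [CommRing R] [Algebra k R] [HopfRep.Comod k (AddMonoidAlgebra k M) R]
    [GLin.IsCoactAlg k (AddMonoidAlgebra k M) R] (J : Ideal R) :
    (∀ f : R, LinearMap.rTensor (AddMonoidAlgebra k M) (Ideal.Quotient.mkₐ k J).toLinearMap
        (HopfRep.Comod.coact (k := k) (A := AddMonoidAlgebra k M) f) =
        (Ideal.Quotient.mk J f) ⊗ₜ[k] (1 : AddMonoidAlgebra k M)) ↔
      Ideal.span (⋃ (a : M) (_ : a ≠ 0),
        (HopfRep.eigenspace k (AddMonoidAlgebra k M) R (AddMonoidAlgebra.single a 1) : Set R)) ≤ J := by
  classical
  constructor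
  · intro h
    rw [Ideal.span_le]
    intro f hf
    simp only [Set.mem_iUnion] at hf
    obtain ⟨a, ha, hfa⟩ := hf
    have hfa' : HopfRep.Comod.coact (k := k) (A := AddMonoidAlgebra k M) f =
        f ⊗ₜ[k] AddMonoidAlgebra.single a (1 : k) := hfa
    have h1 := h f
    rw [hfa', LinearMap.rTensor_tmul] at h1
    have h2 := congrArg (slice (ev a)) h1
    rw [slice_tmul, slice_tmul, AddMonoidAlgebra.one_def, ev_single, ev_single, if_pos rfl,
      if_neg (Ne.symm ha), one_smul, zero_smul] at h2
    exact Ideal.Quotient.eq_zero_iff_mem.mp h2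
  · intro h f
    have hmem : ∀ w : M, w ≠ 0 → pr k w f ∈ J := fun w hw =>
      h (Ideal.subset_span (Set.mem_iUnion.mpr ⟨w, Set.mem_iUnion.mpr ⟨hw, pr_mem w f⟩⟩))
    have hnz : nzIdeal k M R ≤ J := by
      rw [nzIdeal, Ideal.span_le]
      rintro g ⟨w, hw, hg⟩
      exact h (Ideal.subset_span (Set.mem_iUnion.mpr ⟨w, Set.mem_iUnion.mpr ⟨hw, hg⟩⟩))
    have h0 : Ideal.Quotient.mk J (pr k (0 : M) f) = Ideal.Quotient.mk J f := by
      symm
      rw [Ideal.Quotient.eq]
      exact hnz (sub_pr_zero_mem f)
    have hc : HopfRep.Comod.coact (k := k) (A := AddMonoidAlgebra k M) f =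
        (comps k M f).sum fun i m => m ⊗ₜ[k] (AddMonoidAlgebra.basis M k) i := by
      rw [← TensorProduct.equivFinsuppOfBasisRight_symm_apply, comps, LinearEquiv.symm_apply_apply]
    rw [hc, Finsupp.sum, map_sum]
    simp only [LinearMap.rTensor_tmul, AlgHom.toLinearMap_apply, Ideal.Quotient.mkₐ_eq_mk]
    rw [Finset.sum_eq_single (0 : M)]
    · rw [comps_apply, h0, AddMonoidAlgebra.basis_apply, AddMonoidAlgebra.one_def]
    · intro w _ hw
      rw [comps_apply, Ideal.Quotient.eq_zero_iff_mem.mpr (hmem w hw), TensorProduct.zero_tmul]
    · intro h00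
      rw [Finsupp.notMem_support_iff] at h00
      rw [h00, map_zero, TensorProduct.zero_tmul]

end Groth.Agent.S19326
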