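import Groth.Statements.S19328
import Mathlib


set_option autoImplicit false
universe u
open CategoryTheory CategoryTheory.Limits AlgebraicGeometry
open ModPair

namespace Groth.Agent.S19328

/-- Let A be a commutative ring such that Spec A is local for fppf coverings, in the sense that for
every scheme X, every jointly surjective family of morphisms to X each of which is flat and of
finite presentation (locally of finite presentation, quasi-compact and quasi-separated), and every
morphism Spec A ⟶ X, the morphism factors through a member of the family. Then the residue field of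
A at every prime ideal is algebraically closed. -/
theorem result (A : Type u) [CommRing A]
    (hloc : ∀ (X : Scheme.{u}) (R : Presieve X),
      R ∈ Scheme.precoverage (@Flat ⊓ @LocallyOfFinitePresentation ⊓ @QuasiCompact ⊓ @QuasiSeparated) X →
      ∀ g : Spec (CommRingCat.of A) ⟶ X,
        ∃ (Y : Scheme.{u}) (v : Y ⟶ X) (h : Spec (CommRingCat.of A) ⟶ Y), R v ∧ h ≫ v = g)
    (p : Ideal A) [p.IsPrime] : IsAlgClosed p.ResidueField := by
  classical
  -- Step 1: every monic polynomial of positive degree over `A` has a root in `A`.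
  have step1 : ∀ F : Polynomial A, F.Monic → 0 < F.natDegree → ∃ α : A, F.eval α = 0 := by
    intro F hF hdeg
    rcases subsingleton_or_nontrivial A with hA | hA
    · exact ⟨0, Subsingleton.elim _ _⟩
    let B := AdjoinRoot F
    haveI : Module.Free A B := hF.free_adjoinRoot
    haveI : Module.Finite A B := hF.finite_adjoinRoot
    haveI : Module.Flat A B := inferInstance
    have hnt : Nontrivial B := by
      have hne : Ideal.span {F} ≠ ⊤ := by
        intro h
        rw [Ideal.span_singleton_eq_top] at h
        have h1 := (hF.isUnit_iff).mp h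
        rw [h1, Polynomial.natDegree_one] at hdeg
        exact lt_irrefl _ hdeg
      exact Ideal.Quotient.nontrivial_iff.mpr hne
    have hinj : Function.Injective (algebraMap A B) := by
      haveI := hnt
      exact FaithfulSMul.algebraMap_injective A B
    let φ : CommRingCat.of A ⟶ CommRingCat.of B := CommRingCat.ofHom (algebraMap A B)
    let v : Spec (CommRingCat.of B) ⟶ Spec (CommRingCat.of A) := Spec.map φ
    have hsurj : Function.Surjective v.base := by
      have h1 := (PrimeSpectrum.comap_surjective_iff_injective_of_finite (R := A) (S := B)).mpr hinj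
      exact h1
    have hflat : Flat v := by
      rw [HasRingHomProperty.Spec_iff (P := @Flat)]
      exact (RingHom.flat_algebraMap_iff).mpr inferInstance
    have hfp : LocallyOfFinitePresentation v := by
      rw [HasRingHomProperty.Spec_iff (P := @LocallyOfFinitePresentation)]
      have : Algebra.FinitePresentation A B := by
        show Algebra.FinitePresentation A (Polynomial A ⧸ Ideal.span {F})
        exact Algebra.FinitePresentation.quotient (Submodule.fg_span_singleton F)
      exact (RingHom.finitePresentation_algebraMap).mpr this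
    have hmem : Presieve.singleton v ∈ Scheme.precoverage
        (@Flat ⊓ @LocallyOfFinitePresentation ⊓ @QuasiCompact ⊓ @QuasiSeparated)
        (Spec (CommRingCat.of A)) := by
      rw [Scheme.singleton_mem_precoverage_iff]
      exact ⟨hsurj, ⟨⟨⟨hflat, hfp⟩, inferInstance⟩, inferInstance⟩⟩
    obtain ⟨Y, v', h, hv', hcomp⟩ := hloc _ _ hmem (𝟙 _)
    obtain ⟨⟩ := hv'
    -- `h : Spec A ⟶ Spec B` is a section of `v`
    let ψ : CommRingCat.of B ⟶ CommRingCat.of A := Spec.preimage h
    have hψ : Spec.map ψ = h := Spec.map_preimage h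
    have hφψ : φ ≫ ψ = 𝟙 _ := by
      apply Spec.map_injective
      rw [Spec.map_comp, hψ, Spec.map_id]
      exact hcomp
    have hψalg : ∀ a : A, ψ.hom (algebraMap A B a) = a := by
      intro a
      have := congrArg (fun g => g.hom a) hφψ
      simpa [φ] using this
    refine ⟨ψ.hom (AdjoinRoot.root F), ?_⟩
    have h1 : Polynomial.eval₂ (algebraMap A B) (AdjoinRoot.root F) F = 0 := by
      have := AdjoinRoot.eval₂_root F
      exact this
    have h2 := congrArg ψ.hom h1
    rw [Polynomial.hom_eval₂, map_zero] at h2
    have h3 : (ψ.hom).comp (algebraMap A B) = RingHom.id A := RingHom.ext hψalg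
    rw [h3] at h2
    simpa [Polynomial.eval₂_id] using h2
  -- Step 2: the residue field
  set κ := p.ResidueField with hκ
  apply IsAlgClosed.of_exists_root
  intro q hq hirr
  have hdeg : 0 < q.natDegree := hirr.natDegree_pos
  set d := q.natDegree with hd
  -- every element of κ is a fraction of elements of A
  have hfrac : ∀ z : κ, ∃ a b : A, algebraMap A κ b ≠ 0 ∧ algebraMap A κ b * z = algebraMap A κ a := by
    intro z
    obtain ⟨x, y, hy, rfl⟩ := IsFractionRing.div_surjective (A := A ⧸ p) z
    obtain ⟨a, rfl⟩ := Ideal.Quotient.mk_surjective x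
    obtain ⟨b, rfl⟩ := Ideal.Quotient.mk_surjective y
    have hb : algebraMap (A ⧸ p) κ (Ideal.Quotient.mk p b) ≠ 0 :=
      IsFractionRing.to_map_ne_zero_of_mem_nonZeroDivisors hy
    refine ⟨a, b, ?_, ?_⟩
    · exact hb
    · show algebraMap (A ⧸ p) κ (Ideal.Quotient.mk p b) * _ = algebraMap (A ⧸ p) κ (Ideal.Quotient.mk p a)
      rw [mul_comm, div_mul_cancel₀ _ hb]
  choose a b hb hab using hfrac
  set s : A := ∏ i ∈ Finset.range d, b (q.coeff i) with hs
  have hs0 : algebraMap A κ s ≠ 0 := by
    rw [hs, map_prod]
    exact Finset.prod_ne_zero_iff.mpr (fun i _ => hb _)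
  have hsc : ∀ i ∈ Finset.range d, algebraMap A κ s * q.coeff i ∈ Set.range (algebraMap A κ) := by
    intro i hi
    rw [hs, ← Finset.mul_prod_erase _ _ hi, map_mul, mul_right_comm, hab, ← map_mul]
    exact ⟨_, rfl⟩
  -- the scaled polynomial lifts to a monic polynomial over A
  have hlift : q.scaleRoots (algebraMap A κ s) ∈ Polynomial.lifts (algebraMap A κ) := by
    rw [Polynomial.lifts_iff_coeff_lifts]
    intro n
    rw [Polynomial.coeff_scaleRoots]
    rcases lt_trichotomy n d with hn | hn | hn
    · obtain ⟨c, hc⟩ := hsc n (Finset.mem_range.mpr hn)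
      have e : d - n = (d - n - 1) + 1 := by omega
      rw [← hd, e, pow_succ, ← mul_assoc, mul_comm (q.coeff n * _), ← mul_assoc, ← hc]
      exact ⟨c * s ^ (d - n - 1), by rw [map_mul, map_pow]⟩
    · rw [hn, hd, Polynomial.Monic.coeff_natDegree hq, Nat.sub_self, pow_zero, mul_one]
      exact ⟨1, map_one _⟩
    · rw [Polynomial.coeff_eq_zero_of_natDegree_lt (by rw [← hd]; exact hn), zero_mul]
      exact ⟨0, map_zero _⟩
  obtain ⟨F, hFmap, hFdeg, hFmonic⟩ := Polynomial.lifts_and_natDegree_eq_and_monic hlift
    ((Polynomial.monic_scaleRoots_iff _).mpr hq)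
  rw [Polynomial.natDegree_scaleRoots] at hFdeg
  obtain ⟨α, hα⟩ := step1 F hFmonic (by rw [hFdeg]; exact hdeg)
  -- transfer the root
  have h1 : (q.scaleRoots (algebraMap A κ s)).eval (algebraMap A κ α) = 0 := by
    rw [← hFmap, Polynomial.eval_map, Polynomial.eval₂_at_apply, hα, map_zero]
  refine ⟨(algebraMap A κ s)⁻¹ * algebraMap A κ α, ?_⟩
  have h2 := Polynomial.scaleRoots_eval_mul q ((algebraMap A κ s)⁻¹ * algebraMap A κ α)
    (algebraMap A κ s)
  rw [← mul_assoc, mul_inv_cancel₀ hs0, one_mul, h1] at h2
  exact (mul_eq_zero.mp h2.symm).resolve_left (pow_ne_zero _ hs0)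


end Groth.Agent.S19328
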