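import Groth.Statements.S19329
import Mathlib
import Groth.Agent.Lib.Helper28.EqLocus
import Groth.Agent.S18731

set_option autoImplicit false
universe u
open CategoryTheory CategoryTheory.Limits AlgebraicGeometry TopologicalSpace
open ModPair

namespace Groth.Agent.S19329

/-- Let (X, I), (Y, J), (Z, K) be modulus pairs, i.e. schemes with quasi-coherent ideal sheaves of
effective Cartier divisors, and let f : X ⟶ Y and g : Y ⟶ Z satisfy the modulus conditions I ≤
J.comap f and J ≤ K.comap g. Suppose the composite X ⟶ Z is minimal, I = K.comap (f ≫ g). Then f is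
minimal, and there is an open subset U of Y whose inclusion is quasi-compact, which contains the
image of f, and such that U ⟶ Z is minimal for the modulus of Y restricted to U. -/
theorem result {X Y Z : Scheme.{u}}
    (I : X.IdealSheafData) (J : Y.IdealSheafData) (K : Z.IdealSheafData)
    (hI : BlowUp.IsEffCartierIdeal I) (hJ : BlowUp.IsEffCartierIdeal J)
    (hK : BlowUp.IsEffCartierIdeal K) (f : X ⟶ Y) (g : Y ⟶ Z)
    (hf : ModPair.IsAmbient I J f) (hg : ModPair.IsAmbient J K g)
    (hfg : ModPair.IsMinimal I K (f ≫ g)) :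
    ModPair.IsMinimal I J f ∧
      ∃ U : Y.Opens, QuasiCompact U.ι ∧ Set.range f.base ⊆ (U : Set Y) ∧
        ModPair.IsMinimal (J.comap U.ι) K (U.ι ≫ g) := by
  have h1 : I = J.comap f := by
    apply le_antisymm hf
    have h2 : K.comap (f ≫ g) = (K.comap g).comap f := by
      rw [Scheme.IdealSheafData.comap_comp]
    have hfg' : I = K.comap (f ≫ g) := hfg
    rw [hfg', h2]
    exact Scheme.IdealSheafData.comap_mono f hg
  refine ⟨h1, ?_⟩
  have hK' : BlowUp.IsEffCartierIdeal (K.comap g) := Groth.Agent.S18731.result J K hJ hK g hg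
  have hJK' : J ≤ K.comap g := hg
  have heq : J.comap f = (K.comap g).comap f := by
    rw [← h1, ← Scheme.IdealSheafData.comap_comp]
    exact hfg
  refine ⟨Groth.Agent.Helper28.EqLocus.eqLocus J (K.comap g),
    Groth.Agent.Helper28.EqLocus.quasiCompact_eqLocus_ι J (K.comap g) hJ hK' hJK', ?_, ?_⟩
  · exact Groth.Agent.Helper28.EqLocus.range_subset_eqLocus J (K.comap g) hJ hK' hJK' f
      (h1 ▸ hI) heq
  · show J.comap _ = K.comap _
    rw [Scheme.IdealSheafData.comap_comp]
    exact Groth.Agent.Helper28.EqLocus.comap_eqLocus_ι J (K.comap g)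


end Groth.Agent.S19329
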