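import Groth.Statements.S19334
import Mathlib
import Groth.Agent.Lib.Helper28.ValTest
open Groth.Agent.Helper28.ValTest

set_option autoImplicit false
universe u
open CategoryTheory CategoryTheory.Limits AlgebraicGeometry TopologicalSpace
open ModPair

namespace Groth.Agent.S19334

/-- Let (X, I) be a modulus pair, i.e. a scheme X with the quasi-coherent ideal sheaf I of an effective
Cartier divisor. Suppose that for every valuation ring R and every morphism p : Spec R ⟶ X along
which the divisor of I pulls back to an effective Cartier divisor on Spec R (so that p is a minimal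
morphism of modulus pairs for the pulled-back modulus), the pulled-back divisor is empty, I.comap p
= ⊤. Then the divisor of I is empty: I = ⊤. -/
theorem result {X : Scheme.{u}}
    (I : X.IdealSheafData) (hI : BlowUp.IsEffCartierIdeal I)
    (h : ∀ (R : Type u) [CommRing R] [IsDomain R] [ValuationRing R]
      (p : Spec (CommRingCat.of R) ⟶ X), BlowUp.IsEffCartierIdeal (I.comap p) → I.comap p = ⊤) :
    I = ⊤ := by
  choose V hxV t ht hIt using hI
  have hcover : ⨆ x, (V x).1 = ⊤ := by
    rw [eq_top_iff]
    intro x _
    rw [Opens.mem_iSup]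
    exact ⟨x, hxV x⟩
  apply Scheme.IdealSheafData.ext_of_iSup_eq_top V hcover
  intro x
  rw [Scheme.IdealSheafData.ideal_top, hIt x]
  show Ideal.span {t x} = ⊤
  rw [Ideal.span_singleton_eq_top]
  by_contra hu
  obtain ⟨R, i1, i2, i3, ψ, hs, ha⟩ := exists_valuationRing_of_nzd (t x) (t x) (ht x) hu
  have hc := comap_ideal_top I (V x) (CommRingCat.of R) (CommRingCat.ofHom ψ)
  rw [hIt x, Ideal.map_span, Set.image_singleton] at hc
  have hc' : (I.comap (Spec.map (CommRingCat.ofHom ψ) ≫ (V x).2.fromSpec)).ideal
      ⟨⊤, isAffineOpen_top _⟩ =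
      Ideal.span {(Scheme.ΓSpecIso (CommRingCat.of R)).inv.hom (ψ (t x))} := hc
  have heff := isEffCartier_of_ideal_top _ (ψ (t x)) hs hc'
  have htop := h R _ heff
  rw [htop, Scheme.IdealSheafData.ideal_top] at hc'
  have hunit : IsUnit ((Scheme.ΓSpecIso (CommRingCat.of R)).inv.hom (ψ (t x))) :=
    Ideal.span_singleton_eq_top.mp hc'.symm
  exact ha (isUnit_of_inv_isUnit hunit)


end Groth.Agent.S19334
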