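import Groth.Statements.S19335
import Mathlib
import Groth.Agent.Lib.Helper28.ValTest
open Groth.Agent.Helper28.ValTest

set_option autoImplicit false
universe u
open CategoryTheory CategoryTheory.Limits AlgebraicGeometry TopologicalSpace
open ModPair

namespace Groth.Agent.S19335

/-- Let X be a scheme and I, J quasi-coherent ideal sheaves of effective Cartier divisors D_I ≤ D_J on
X, i.e. J ≤ I. Suppose that for every valuation ring R and every morphism p : Spec R ⟶ X such that
I.comap p is the ideal sheaf of an effective Cartier divisor on Spec R (so p is a minimal morphism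
of modulus pairs for (X, I)) whose open complement consists of the generic point of Spec R only, the
two divisors agree after pull-back, I.comap p = J.comap p. Then I = J. -/
theorem result {X : Scheme.{u}} (I J : X.IdealSheafData)
    (hI : BlowUp.IsEffCartierIdeal I) (hJ : BlowUp.IsEffCartierIdeal J) (hJI : J ≤ I)
    (h : ∀ (R : Type u) [CommRing R] [IsDomain R] [ValuationRing R]
      (p : Spec (CommRingCat.of R) ⟶ X), BlowUp.IsEffCartierIdeal (I.comap p) →
        (∀ x : Spec (CommRingCat.of R),
          x ∈ (ModPair.interior (I.comap p) : Set (Spec (CommRingCat.of R))) ↔ x.asIdeal = ⊥) →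
        I.comap p = J.comap p) :
    I = J := by
  choose V t s a hxV hs hJt hIs hta using
    Groth.Agent.Helper28.EqLocus.exists_joint_chart J I hJ hI hJI
  have hcover : ⨆ x, (V x).1 = ⊤ := by
    rw [eq_top_iff]
    intro x _
    rw [Opens.mem_iSup]
    exact ⟨x, hxV x⟩
  apply Scheme.IdealSheafData.ext_of_iSup_eq_top V hcover
  intro x
  suffices hu : IsUnit (a x) by
    rw [hJt x, hIs x, hta x]
    exact (Ideal.span_singleton_mul_left_unit hu _).symm
  by_contra hu
  obtain ⟨R, i1, i2, i3, ψ, hψs, hψa, hprimes⟩ :=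
    exists_valuationRing_rank (s x) (a x) (hs x) hu
  have hcI := comap_ideal_top I (V x) (CommRingCat.of R) (CommRingCat.ofHom ψ)
  rw [hIs x, Ideal.map_span, Set.image_singleton] at hcI
  have hcI' : (I.comap (Spec.map (CommRingCat.ofHom ψ) ≫ (V x).2.fromSpec)).ideal
      ⟨⊤, isAffineOpen_top _⟩ =
      Ideal.span {(Scheme.ΓSpecIso (CommRingCat.of R)).inv.hom (ψ (s x))} := hcI
  have hcJ := comap_ideal_top J (V x) (CommRingCat.of R) (CommRingCat.ofHom ψ)
  rw [hJt x, Ideal.map_span, Set.image_singleton, hta x] at hcJ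
  have hcJ' : (J.comap (Spec.map (CommRingCat.ofHom ψ) ≫ (V x).2.fromSpec)).ideal
      ⟨⊤, isAffineOpen_top _⟩ =
      Ideal.span {(Scheme.ΓSpecIso (CommRingCat.of R)).inv.hom (ψ (a x)) *
        (Scheme.ΓSpecIso (CommRingCat.of R)).inv.hom (ψ (s x))} := by
    rw [hcJ]
    congr 2
    show (Scheme.ΓSpecIso (CommRingCat.of R)).inv.hom (ψ (a x * s x)) = _
    rw [map_mul, map_mul]
  have heff := isEffCartier_of_ideal_top _ (ψ (s x)) hψs hcI'
  have hint : ∀ y : Spec (CommRingCat.of R),
      y ∈ (ModPair.interior (I.comap (Spec.map (CommRingCat.ofHom ψ) ≫ (V x).2.fromSpec)) :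
        Set (Spec (CommRingCat.of R))) ↔ y.asIdeal = ⊥ := by
    intro y
    rw [mem_interior_iff _ (ψ (s x)) hcI' y]
    constructor
    · intro hy
      by_contra hne
      exact hy (hprimes _ y.isPrime hne)
    · intro hy hmem
      rw [hy] at hmem
      exact hψs hmem
  have heq := h R _ heff hint
  rw [heq, hcJ'] at hcI'
  have hunit := Groth.Agent.Helper28.EqLocus.isUnit_of_span_mul_eq
    (inv_mem_nonZeroDivisors hψs) hcI'
  exact hψa (isUnit_of_inv_isUnit hunit)


end Groth.Agent.S19335
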