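import Groth.Statements.S19336
import Mathlib
import Groth.Agent.Lib.Helper28.IdealExt4
import Groth.Agent.Lib.Helper28.BlowUpExist
import Groth.Agent.Lib.Helper28.StrictTr
open Groth.Agent.Helper28.IdealExt Groth.Agent.Helper28.BlowUpExist Groth.Agent.Helper28.EffCartierOld

set_option autoImplicit false
universe u
open CategoryTheory CategoryTheory.Limits AlgebraicGeometry TopologicalSpace
open ModPair

namespace Groth.Agent.S19336

/-- Let (S, I) be a modulus pair, i.e. a scheme S with the quasi-coherent ideal sheaf I of an effective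
Cartier divisor, with S quasi-compact and quasi-separated and with interior U, and let (V_i) be a
covering of U by quasi-compact open subsets. Then there are a quasi-coherent ideal sheaf F of finite
type on S whose support is disjoint from U, a blow-up b : Y ⟶ S of S in F (an admissible blow-up)
such that I.comap b is again the ideal sheaf of an effective Cartier divisor, and a covering of Y by
quasi-compact open subsets W_j such that each W_j ∩ b⁻¹(U) is contained in b⁻¹(V_i) for some i: the
Zariski covering of the interior extends, after an admissible blow-up, to a Zariski covering of the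
total space. -/
theorem result {S : Scheme.{u}}
    [CompactSpace S] [QuasiSeparatedSpace S] (I : S.IdealSheafData)
    (hI : BlowUp.IsEffCartierIdeal I) {ι : Type u} (V : ι → S.Opens)
    (hVU : ∀ i, V i ≤ ModPair.interior I) (hVqc : ∀ i, IsCompact (V i : Set S))
    (hcov : ModPair.interior I ≤ ⨆ i, V i) :
    ∃ (F : S.IdealSheafData) (Y : Scheme.{u}) (b : Y ⟶ S) (κ : Type u) (W : κ → Y.Opens),
      BlowUp.IsAdmissibleFor (ModPair.interior I) F ∧ BlowUp.IsBlowUp b F ∧
        BlowUp.IsEffCartierIdeal (I.comap b) ∧ (∀ k, IsCompact (W k : Set Y)) ∧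
        (⨆ k, W k) = ⊤ ∧ ∀ k, ∃ i, W k ⊓ b ⁻¹ᵁ ModPair.interior I ≤ b ⁻¹ᵁ V i := by
  classical
  set U : S.Opens := ModPair.interior I with hUdef
  have hUc : IsCompact (U : Set S) := by
    haveI : IsAffineHom (Scheme.Opens.ι (X := S) I.support.compl) :=
      Groth.Agent.Helper28.StrictTr.isAffineHom_ι_compl_support I hI
    haveI : QuasiCompact U.ι := (inferInstance : QuasiCompact (Scheme.Opens.ι (X := S) I.support.compl))
    haveI : CompactSpace U.toScheme := QuasiCompact.compactSpace_of_compactSpace U.ι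
    exact isCompact_iff_compactSpace.mpr this
  obtain ⟨t, ht⟩ := hUc.elim_finite_subcover (fun i => (V i : Set S)) (fun i => (V i).2) (by
    intro x hx
    have := hcov hx
    rw [TopologicalSpace.Opens.mem_iSup] at this
    exact Set.mem_iUnion.mpr this)
  let T : t → Set S := fun i => (U : Set S) \ (V i.1 : Set S)
  let K : t → S.IdealSheafData := fun i =>
    Scheme.IdealSheafData.vanishingIdeal ⟨closure (T i), isClosed_closure⟩
  have hKs : ∀ i, ((K i).support : Set S) = closure (T i) := fun i =>
    Scheme.IdealSheafData.coe_support_vanishingIdeal _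
  have hclT : ∀ i, closure (T i) ∩ (U : Set S) ⊆ T i := by
    rintro i x ⟨hx, hxU⟩
    refine ⟨hxU, fun hxV => ?_⟩
    obtain ⟨z, hzV, hzT⟩ := mem_closure_iff.mp hx (V i.1) (V i.1).2 hxV
    exact hzT.2 hzV
  have hKd : Disjoint ((⨆ i, K i).support : Set S) (U : Set S) := by
    rw [Set.disjoint_left]
    intro x hx hxU
    rw [Scheme.IdealSheafData.support_iSup] at hx
    obtain ⟨i, hit, hxi⟩ := Set.mem_iUnion₂.mp (ht hxU)
    have h1 : x ∈ ((K ⟨i, hit⟩).support : Set S) := by
      have := hx
      rw [SetLike.mem_coe, TopologicalSpace.Closeds.mem_iInf] at this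
      exact this ⟨i, hit⟩
    rw [hKs] at h1
    exact (hclT ⟨i, hit⟩ ⟨h1, hxU⟩).2 hxi
  obtain ⟨J, hJft, hJK, hJd⟩ := exists_ft_family U hUc K hKd
  obtain ⟨Y, b, hb⟩ := exists_isBlowUp S (⨆ i, J i)
  refine ⟨⨆ i, J i, Y, b, {A : Y.affineOpens // ∃ i : ι, A.1 ⊓ b ⁻¹ᵁ U ≤ b ⁻¹ᵁ V i},
    fun k => k.1.1, ⟨isFiniteTypeIdeal_iSup J hJft, hJd⟩, hb,
    isEffCartierIdeal_comap_of_isBlowUp _ b hb I hI, fun k => k.1.2.isCompact, ?_, fun k => k.2⟩
  rw [eq_top_iff]
  intro y _
  obtain ⟨i, hyi⟩ := exists_notMem_closure_of_isEffCartier_iSup J b hb.1 T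
    (fun i => by
      intro x hx
      have h1 : x ∈ ((K i).support : Set S) := by rw [hKs]; exact subset_closure hx
      exact Scheme.IdealSheafData.support_antitone (hJK i) h1)
    (fun i => hJd.mono_right Set.sdiff_subset) y
  obtain ⟨_, ⟨A, hA, rfl⟩, hyA, hAO⟩ := Y.isBasis_affineOpens.exists_subset_of_mem_open
    (show y ∈ (closure (b.base ⁻¹' T i))ᶜ from hyi) isClosed_closure.isOpen_compl
  refine TopologicalSpace.Opens.mem_iSup.mpr ⟨⟨⟨A, hA⟩, i.1, ?_⟩, hyA⟩
  rintro z ⟨hzA, hzU⟩
  by_contra hzV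
  exact hAO hzA (subset_closure ⟨hzU, hzV⟩)


end Groth.Agent.S19336
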