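import Groth.Statements.S19338
import Mathlib

set_option autoImplicit false
universe w v u
open CategoryTheory
open ModPair

namespace Groth.Agent.S19338

theorem ore {C : Type u} [Category.{v} C]
    (S : MorphismProperty C) [S.HasRightCalculusOfFractions]
    {X Y Y' : C} (f : X ⟶ Y') (s : Y ⟶ Y') (hs : S s) :
    ∃ (X' : C) (s' : X' ⟶ X) (f' : X' ⟶ Y), S s' ∧ s' ≫ f = f' ≫ s := by
  obtain ⟨ψ, hψ⟩ := MorphismProperty.HasRightCalculusOfFractions.exists_rightFraction
    (W := S) ⟨f, s, hs⟩
  exact ⟨ψ.X', ψ.s, ψ.f, ψ.hs, hψ⟩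

/-- Let C be a category and S a class of morphisms which contains the identities, is closed under
composition, admits a right calculus of fractions, and consists of monomorphisms. Then the sieves
containing a morphism of S are the covering sieves of a Grothendieck topology on C, and for every
such topology J a presheaf of types F on C is a J-sheaf if and only if it is S-local, i.e. F sends
every morphism of S to a bijection. -/
theorem result {C : Type u} [Category.{v} C]
    (S : MorphismProperty C) [S.HasRightCalculusOfFractions]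
    (hmono : ∀ ⦃X Y : C⦄ (s : X ⟶ Y), S s → Mono s) :
    (∃ J : GrothendieckTopology C, ∀ (X : C) (T : Sieve X),
        T ∈ J X ↔ ∃ (Y : C) (s : Y ⟶ X), S s ∧ T s) ∧
      ∀ J : GrothendieckTopology C, (∀ (X : C) (T : Sieve X),
          T ∈ J X ↔ ∃ (Y : C) (s : Y ⟶ X), S s ∧ T s) →
        ∀ F : Cᵒᵖ ⥤ Type w,
          Presheaf.IsSheaf J F ↔ ∀ ⦃X Y : C⦄ (s : X ⟶ Y), S s → IsIso (F.map s.op) := by
  constructor
  · refine ⟨{ sieves := fun X => {T | ∃ (Y : C) (s : Y ⟶ X), S s ∧ T s}
              top_mem' := fun X => ⟨X, 𝟙 X, S.id_mem X, trivial⟩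
              pullback_stable' := ?_
              transitive' := ?_ }, fun X T => Iff.rfl⟩
    · rintro X X' T f ⟨Y, s, hs, hTs⟩
      obtain ⟨Y', s', f', hs', hcomm⟩ := ore S f s hs
      refine ⟨Y', s', hs', ?_⟩
      show T (s' ≫ f)
      rw [hcomm]
      exact T.downward_closed hTs f'
    · rintro X T ⟨Y, s, hs, hTs⟩ R hR
      obtain ⟨Z, t, ht, hRt⟩ := hR hTs
      exact ⟨Z, t ≫ s, S.comp_mem _ _ ht hs, hRt⟩
  · intro J hJ F
    rw [isSheaf_iff_isSheaf_of_type]
    constructor
    · intro hF X Y s hs
      haveI := hmono s hs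
      have hcov : Sieve.generate (Presieve.singleton s) ∈ J Y := by
        rw [hJ]
        exact ⟨X, s, hs, Sieve.le_generate _ _ _ (Presieve.singleton_self s)⟩
      have hsh := hF _ hcov
      rw [isIso_iff_bijective]
      constructor
      · intro y₁ y₂ h
        -- both are amalgamations of the same family
        apply (hsh.isSeparatedFor).ext
        rintro Z f ⟨W, g, _, ⟨⟩, rfl⟩
        rw [op_comp, F.map_comp]
        change F.map g.op (F.map s.op y₁) = F.map g.op (F.map s.op y₂)
        rw [h]
      · intro x
        have hsmem : (Sieve.generate (Presieve.singleton s)).arrows s :=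
          Sieve.le_generate _ _ _ (Presieve.singleton_self s)
        have hex : ∀ {Z : C} (f : Z ⟶ Y), (Sieve.generate (Presieve.singleton s)).arrows f →
            ∃ g : Z ⟶ X, g ≫ s = f := by
          rintro Z f ⟨W, g, _, ⟨⟩, rfl⟩
          exact ⟨g, rfl⟩
        let fam : Presieve.FamilyOfElements F (Sieve.generate (Presieve.singleton s)).arrows :=
          fun Z f hf => F.map (Classical.choose (hex f hf)).op x
        have hfam : ∀ {Z : C} (g : Z ⟶ X) (hf : (Sieve.generate (Presieve.singleton s)).arrows (g ≫ s)),
            fam (g ≫ s) hf = F.map g.op x := by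
          intro Z g hf
          have : Classical.choose (hex (g ≫ s) hf) = g := by
            rw [← cancel_mono s]; exact Classical.choose_spec (hex (g ≫ s) hf)
          show F.map (Classical.choose (hex (g ≫ s) hf)).op x = _
          rw [this]
        have hcompat : fam.Compatible := by
          intro Y₁ Y₂ Z g₁ g₂ f₁ f₂ hf₁ hf₂ hcomm
          obtain ⟨h₁, rfl⟩ := hex f₁ hf₁
          obtain ⟨h₂, rfl⟩ := hex f₂ hf₂
          rw [hfam h₁ hf₁, hfam h₂ hf₂]
          have : g₁ ≫ h₁ = g₂ ≫ h₂ := by
            rw [← cancel_mono s]; simpa using hcomm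
          change (F.map h₁.op ≫ F.map g₁.op) x = (F.map h₂.op ≫ F.map g₂.op) x
          rw [← F.map_comp, ← F.map_comp, ← op_comp, ← op_comp, this]
        obtain ⟨y, hy, -⟩ := hsh fam hcompat
        refine ⟨y, ?_⟩
        have h1 := hy s hsmem
        rw [h1]
        have hfam' : ∀ {Z : C} (f : Z ⟶ Y) (hf : (Sieve.generate (Presieve.singleton s)).arrows f)
            (g : Z ⟶ X), g ≫ s = f → fam f hf = F.map g.op x := by
          intro Z f hf g hg
          subst hg
          exact hfam g hf
        rw [hfam' s hsmem (𝟙 X) (Category.id_comp s)]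
        simp
    · intro hinv X T hT x hx
      obtain ⟨Y, s, hs, hTs⟩ := (hJ X T).1 hT
      haveI := hinv s hs
      have hbij := (isIso_iff_bijective (F.map s.op)).1 inferInstance
      obtain ⟨t, ht⟩ := hbij.2 (x s hTs)
      refine ⟨t, ?_, ?_⟩
      · intro Z f hf
        obtain ⟨Z', s', f', hs', hcomm⟩ := ore S f s hs
        haveI := hinv s' hs'
        have hbij' := (isIso_iff_bijective (F.map s'.op)).1 inferInstance
        apply hbij'.1
        have e1 : F.map s'.op (F.map f.op t) = F.map f'.op (F.map s.op t) := by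
          change (F.map f.op ≫ F.map s'.op) t = (F.map s.op ≫ F.map f'.op) t
          rw [← F.map_comp, ← F.map_comp, ← op_comp, ← op_comp, hcomm]
        rw [e1, ht]
        exact hx f' s' hTs hf hcomm.symm
      · intro t' ht'
        apply hbij.1
        rw [ht, ht' s hTs]

end Groth.Agent.S19338
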