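import Groth.Statements.S19340
import Mathlib

set_option autoImplicit false
universe v v' u u'
open CategoryTheory
open ModPair

namespace Groth.Agent.S19340

/-- Let C be a category, S a class of morphisms of C containing the identities, closed under composition
and admitting a right calculus of fractions, and L : C ⥤ D a localization functor for S. Then for
every object X of C the comma category of L under X, whose objects are pairs (Y, L(X) ⟶ L(Y)) and
whose morphisms are morphisms Y ⟶ Y' of C compatible with the structure maps, is cofiltered. The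
published statement calls this category filtered; its proof verifies, and this row states,
cofilteredness. -/
theorem result {C : Type u}
    [Category.{v} C] {D : Type u'} [Category.{v'} D] (S : MorphismProperty C)
    [S.HasRightCalculusOfFractions] (L : C ⥤ D) [L.IsLocalization S] (X : C) :
    IsCofiltered (StructuredArrow (L.obj X) L) := by
  have hinv := Localization.inverts L S
  -- every object receives a map from an object of the form (X', inv (L s))
  have key : ∀ A : StructuredArrow (L.obj X) L, ∃ (X' : C) (s : X' ⟶ X) (_ : S s) (f : X' ⟶ A.right),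
      L.map s ≫ A.hom = L.map f := by
    intro A
    obtain ⟨φ, hφ⟩ := Localization.exists_rightFraction L S A.hom
    refine ⟨φ.X', φ.s, φ.hs, φ.f, ?_⟩
    rw [hφ]
    exact MorphismProperty.RightFraction.map_s_comp_map φ L hinv
  refine { cone_objs := ?_, cone_maps := ?_, nonempty := ⟨StructuredArrow.mk (𝟙 (L.obj X))⟩ }
  · intro A B
    obtain ⟨X₁, s₁, hs₁, f₁, h₁⟩ := key A
    obtain ⟨X₂, s₂, hs₂, f₂, h₂⟩ := key B
    obtain ⟨ψ, hψ⟩ := MorphismProperty.HasRightCalculusOfFractions.exists_rightFraction
      (W := S) ⟨s₁, s₂, hs₂⟩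
    -- ψ.s : X'' ⟶ X₁ in S, ψ.f : X'' ⟶ X₂, ψ.s ≫ s₁ = ψ.f ≫ s₂
    have hs : S (ψ.s ≫ s₁) := S.comp_mem _ _ ψ.hs hs₁
    have hiso : IsIso (L.map (ψ.s ≫ s₁)) := hinv _ hs
    simp only at hψ
    refine ⟨StructuredArrow.mk (inv (L.map (ψ.s ≫ s₁))),
      StructuredArrow.homMk (ψ.s ≫ f₁) ?_, StructuredArrow.homMk (ψ.f ≫ f₂) ?_, trivial⟩
    · simp only [StructuredArrow.mk_hom_eq_self, StructuredArrow.mk_right]
      rw [IsIso.inv_comp_eq, Functor.map_comp, Functor.map_comp, Category.assoc, h₁]
    · simp only [StructuredArrow.mk_hom_eq_self, StructuredArrow.mk_right]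
      rw [IsIso.inv_comp_eq, hψ, Functor.map_comp, Functor.map_comp, Category.assoc, h₂]
  · intro A B a b
    obtain ⟨X₁, s₁, hs₁, f₁, h₁⟩ := key A
    have hiso₁ : IsIso (L.map s₁) := hinv s₁ hs₁
    have hab : L.map (f₁ ≫ a.right) = L.map (f₁ ≫ b.right) := by
      have ha := StructuredArrow.w a
      have hb := StructuredArrow.w b
      rw [Functor.map_comp, Functor.map_comp, ← h₁, Category.assoc, Category.assoc, ha, hb]
    obtain ⟨X₂, t, ht, hcomm⟩ := (MorphismProperty.map_eq_iff_precomp L S _ _).1 hab
    have hs : S (t ≫ s₁) := S.comp_mem _ _ ht hs₁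
    have hiso : IsIso (L.map (t ≫ s₁)) := hinv _ hs
    refine ⟨StructuredArrow.mk (inv (L.map (t ≫ s₁))), StructuredArrow.homMk (t ≫ f₁) ?_, ?_⟩
    · simp only [StructuredArrow.mk_hom_eq_self, StructuredArrow.mk_right]
      rw [IsIso.inv_comp_eq, Functor.map_comp, Functor.map_comp, Category.assoc, h₁]
    · ext
      simp only [StructuredArrow.comp_right, StructuredArrow.homMk_right]
      rw [Category.assoc, Category.assoc]
      exact hcomm

end Groth.Agent.S19340
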