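import Groth.Statements.S19345
import Mathlib
import Groth.Agent.Lib.Helper28.AICLocal
open Groth.Agent.Helper28.AICLocal

set_option autoImplicit false
universe u
open CategoryTheory CategoryTheory.Limits AlgebraicGeometry TopologicalSpace
open ModPair

namespace Groth.Agent.S19345

/-- Let P be a quasi-separated scheme. Then P is local for Zariski coverings (for every scheme X, every
jointly surjective family of quasi-compact open immersions into X and every morphism P ⟶ X, the
morphism factors through a member) and for finite coverings (the same for jointly surjective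
families of finite morphisms) — which together is locality for the rqfh coverings, the finite
composites of coverings of these two kinds — if and only if P is affine and Γ(P) is a local integral
domain in which every monic polynomial of positive degree has a root, i.e. the spectrum of an
absolutely integrally closed local domain. The published statement allows any scheme P; this row
assumes P quasi-separated. -/
theorem result (P : Scheme.{u}) [QuasiSeparatedSpace P] :
    ((∀ (X : Scheme.{u}) (R : Presieve X), R ∈ Scheme.precoverage (@IsOpenImmersion ⊓ @QuasiCompact) X →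
        ∀ g : P ⟶ X, ∃ (Y : Scheme.{u}) (w : Y ⟶ X) (h : P ⟶ Y), R w ∧ h ≫ w = g) ∧
      (∀ (X : Scheme.{u}) (R : Presieve X), R ∈ Scheme.precoverage @IsFinite X →
        ∀ g : P ⟶ X, ∃ (Y : Scheme.{u}) (w : Y ⟶ X) (h : P ⟶ Y), R w ∧ h ≫ w = g)) ↔
    (IsAffine P ∧ IsLocalRing Γ(P, ⊤) ∧ IsDomain Γ(P, ⊤) ∧ Curves.IsAIC Γ(P, ⊤)) := by
  constructor
  · rintro ⟨hZ, hF⟩
    have hZ' : ZarLocal P := hZ
    have hF' : FinLocal P := hF
    haveI : IsAffine P := isAffine_of_zarLocal hZ'
    haveI : IsLocalRing Γ(P, ⊤) := isLocalRing_of_zarLocal hZ'
    haveI : IsDomain Γ(P, ⊤) := isDomain_of_finLocal hF'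
    exact ⟨inferInstance, inferInstance, inferInstance, isAIC_of_finLocal hF'⟩
  · rintro ⟨hA, hL, hD, hAIC⟩
    exact ⟨fun X R hR g => zariski_local X R hR g, fun X R hR g => finite_local hAIC X R hR g⟩

end Groth.Agent.S19345
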