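import Groth.Statements.S19348
import Mathlib

set_option autoImplicit false
universe u
open RigCh

namespace Groth.Agent.S19348

/-- Let p be a prime and m a natural number, P a commutative ring complete and separated for the p-adic
topology, and I an ideal of P with a divided power structure of level m, that is a sub-ideal J of I
endowed with divided powers such that x ^ (p ^ m) and p * x lie in J for all x in I. Then an element
of P whose class in P / I is invertible is invertible in P. (The source states this for a lift of a
unit to the p-adically completed level-m divided power envelope of a closed immersion; the statement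
here keeps exactly what its argument uses: completeness for p and the level-m divided powers on the
kernel.) -/
theorem result (p : ℕ) [Fact p.Prime] (m : ℕ)
    (P : Type u) [CommRing P] [IsAdicComplete (Ideal.span {(p : P)}) P]
    (I J : Ideal P) (hJ : DividedPowers J) (hJI : J ≤ I)
    (hpow : ∀ x ∈ I, x ^ (p ^ m) ∈ J) (hmul : ∀ x ∈ I, (p : P) * x ∈ J)
    (u : P) (hu : IsUnit (Ideal.Quotient.mk I u)) : IsUnit u := by
  obtain ⟨w, hw⟩ := isUnit_iff_exists_inv.1 hu
  obtain ⟨v, rfl⟩ := Ideal.Quotient.mk_surjective w
  rw [← map_mul, ← map_one (Ideal.Quotient.mk I), Ideal.Quotient.eq] at hw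
  -- x = 1 - u v ∈ I
  set x : P := 1 - u * v with hx
  have hxI : x ∈ I := by
    have : x = -(u * v - 1) := by rw [hx]; ring
    rw [this]; exact I.neg_mem hw
  have hy : x ^ (p ^ m) ∈ J := hpow x hxI
  have hyp : (x ^ (p ^ m)) ^ p ∈ Ideal.span {(p : P)} := by
    rw [← hJ.factorial_mul_dpow_eq_pow hy]
    apply Ideal.mul_mem_right
    rw [Ideal.mem_span_singleton]
    have hp : p ∣ p.factorial := Nat.dvd_factorial (Fact.out : p.Prime).pos le_rfl
    exact_mod_cast (Nat.cast_dvd_cast (α := P) hp)
  have hjac : (x ^ (p ^ m)) ^ p ∈ (⊥ : Ideal P).jacobson :=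
    IsAdicComplete.le_jacobson_bot (Ideal.span {(p : P)}) hyp
  rw [← pow_mul] at hjac
  have hunit : IsUnit (1 - x ^ (p ^ m * p)) := by
    have := (Ideal.mem_jacobson_bot.1 hjac) (-1)
    have h2 : x ^ (p ^ m * p) * -1 + 1 = 1 - x ^ (p ^ m * p) := by ring
    rw [h2] at this; exact this
  have hgeom : (∑ i ∈ Finset.range (p ^ m * p), x ^ i) * (1 - x) = 1 - x ^ (p ^ m * p) :=
    geom_sum_mul_neg x _
  rw [← hgeom] at hunit
  have h1x : IsUnit (1 - x) := isUnit_of_mul_isUnit_right hunit
  have : 1 - x = u * v := by rw [hx]; ring
  rw [this] at h1x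
  exact isUnit_of_mul_isUnit_left h1x

end Groth.Agent.S19348
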