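import Groth.Statements.S19356
import Mathlib

set_option autoImplicit false
universe u
open AbVar

namespace Groth.Agent.S19356

section partA
variable {R : Type u} [Ring R] [Algebra ℚ R] [Module.Finite ℚ R] [StarRing R] [StarModule ℚ R]

/-- in a finite-dimensional algebra, a right inverse is a left inverse. -/
lemma mul_eq_one_symm {a c : R} (h : a * c = 1) : c * a = 1 := by
  haveI : IsArtinianRing R := IsArtinianRing.of_finite ℚ R
  exact mul_eq_one_comm.mp h

lemma inv_mem_adjoin {a c : R} (h : a * c = 1) : c ∈ Algebra.adjoin ℚ ({a} : Set R) := by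
  have h' := mul_eq_one_symm h
  set E := Algebra.adjoin ℚ ({a} : Set R) with hE
  haveI : IsArtinianRing E := IsArtinianRing.of_finite ℚ E
  let aE : E := ⟨a, Algebra.self_mem_adjoin_singleton ℚ a⟩
  have hnzd : aE ∈ nonZeroDivisors E := by
    rw [mem_nonZeroDivisors_iff]
    constructor
    · intro x hx
      have h1 : a * (x : R) = 0 := congrArg Subtype.val hx
      have h2 : c * (a * (x : R)) = 0 := by rw [h1, mul_zero]
      rw [← mul_assoc, h', one_mul] at h2
      exact Subtype.ext h2
    · intro x hx
      have h1 : (x : R) * a = 0 := congrArg Subtype.val hx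
      have h2 : ((x : R) * a) * c = 0 := by rw [h1, zero_mul]
      rw [mul_assoc, h, mul_one] at h2
      exact Subtype.ext h2
  obtain ⟨u, hu⟩ := IsArtinianRing.isUnit_of_mem_nonZeroDivisors hnzd
  have h3 : a * ((u⁻¹ : Eˣ) : E).1 = 1 := by
    have : aE * ((u⁻¹ : Eˣ) : E) = 1 := by rw [← hu]; exact u.mul_inv
    exact congrArg Subtype.val this
  have h4 : c = ((u⁻¹ : Eˣ) : E).1 := by
    calc c = c * (a * ((u⁻¹ : Eˣ) : E).1) := by rw [h3, mul_one]
      _ = ((u⁻¹ : Eˣ) : E).1 := by rw [← mul_assoc, h', one_mul]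
  rw [h4]
  exact ((u⁻¹ : Eˣ) : E).2

end partA

section partB
variable {R : Type u} [Ring R] [Algebra ℚ R] [Module.Finite ℚ R] [StarRing R] [StarModule ℚ R]

open Matrix in
lemma normSq_eq_of_isometry (σ' : R →ₗ[ℚ] ℚ) (hpos' : ∀ x : R, x ≠ 0 → 0 < σ' (x * star x))
    (hsym : ∀ x : R, σ' (star x) = σ' x) (α : R) (q : ℚ) (hq : q ≠ 0)
    (E : Subalgebra ℚ R) (hαmem : α ∈ E)
    (hiso : ∀ x ∈ E, ∀ y ∈ E, σ' ((α * x) * star (α * y)) = q * σ' (x * star y))
    (ρ : E →ₐ[ℚ] ℂ) :
    Complex.normSq (ρ ⟨α, hαmem⟩) = (q : ℝ) := by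
  classical
  set αE : E := ⟨α, hαmem⟩ with hαE
  let Bf : LinearMap.BilinForm ℚ E :=
    LinearMap.mk₂ ℚ (fun x y => σ' ((x : R) * star (y : R)))
      (by intro x y z; simp [add_mul])
      (by intro c x y; simp)
      (by intro x y z; simp [mul_add])
      (by intro c x y; simp)
  have hBf : ∀ x y : E, Bf x y = σ' ((x : R) * star (y : R)) := fun _ _ => rfl
  have hBsymm : LinearMap.IsSymm Bf := by
    refine ⟨fun x y => ?_⟩
    rw [RingHom.id_apply, hBf, hBf, ← hsym, star_mul, star_star]
  haveI : Invertible (2 : ℚ) := invertibleOfNonzero two_ne_zero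
  obtain ⟨v, hv⟩ := LinearMap.BilinForm.exists_orthogonal_basis hBsymm
  let d : Fin (Module.finrank ℚ E) → ℚ := fun i => Bf (v i) (v i)
  have hd : ∀ i, 0 < d i := by
    intro i
    apply hpos'
    intro h0
    exact v.ne_zero i (Subtype.ext h0)
  have horth : ∀ i j, Bf (v i) (v j) = if i = j then d i else 0 := by
    intro i j
    by_cases hij : i = j
    · subst hij
      rw [if_pos rfl]
    · rw [if_neg hij]
      exact hv hij
  let A : Matrix (Fin (Module.finrank ℚ E)) (Fin (Module.finrank ℚ E)) ℚ := fun i j => v.repr (αE * v j) i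
  have hA : ∀ j, αE * v j = ∑ i, A i j • v i := fun j => (v.sum_repr _).symm
  -- the isometry relation
  have hR2 : A.transpose * Matrix.diagonal d * A = q • Matrix.diagonal d := by
    ext i j
    have h1 := hiso (v i) (v i).2 (v j) (v j).2
    have h2 : Bf (αE * v i) (αE * v j) = q * Bf (v i) (v j) := h1
    rw [hA i, hA j] at h2
    simp only [map_sum, map_smul, LinearMap.sum_apply, LinearMap.smul_apply, horth,
      smul_eq_mul, mul_ite, mul_zero, Finset.sum_ite_eq, Finset.sum_ite_eq', Finset.mem_univ,
      if_true] at h2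
    simp only [Matrix.mul_apply, Matrix.transpose_apply, Matrix.diagonal_apply, mul_ite, mul_zero,
      Finset.sum_ite_eq, Finset.sum_ite_eq', Finset.mem_univ, if_true, Matrix.smul_apply,
      smul_eq_mul]
    rw [← h2]
    apply Finset.sum_congr rfl
    intro k _
    ring
  -- the dual relation
  set D := Matrix.diagonal d with hD
  set Di := Matrix.diagonal (fun i => (d i)⁻¹) with hDi
  have hDDi : D * Di = 1 := by
    rw [hD, hDi, Matrix.diagonal_mul_diagonal]
    have : (fun i => d i * (d i)⁻¹) = fun _ => (1 : ℚ) := by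
      funext i
      exact mul_inv_cancel₀ (hd i).ne'
    rw [this, Matrix.diagonal_one]
  have hDiD : Di * D = 1 := by
    rw [hD, hDi, Matrix.diagonal_mul_diagonal]
    have : (fun i => (d i)⁻¹ * d i) = fun _ => (1 : ℚ) := by
      funext i
      exact inv_mul_cancel₀ (hd i).ne'
    rw [this, Matrix.diagonal_one]
  have hX : (q⁻¹ • (Di * A.transpose * D)) * A = 1 := by
    rw [Matrix.smul_mul, Matrix.mul_assoc, Matrix.mul_assoc, ← Matrix.mul_assoc A.transpose, hR2,
      Matrix.mul_smul, hDiD, smul_smul, inv_mul_cancel₀ hq, one_smul]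
  have hX' : A * (q⁻¹ • (Di * A.transpose * D)) = 1 := mul_eq_one_comm.mp hX
  have hR3 : A * Di * A.transpose = q • Di := by
    have h1 : A * (Di * A.transpose * D) = q • 1 := by
      rw [Matrix.mul_smul] at hX'
      rw [← hX', smul_smul, mul_inv_cancel₀ hq, one_smul]
    calc A * Di * A.transpose = (A * (Di * A.transpose * D)) * Di := by
          rw [Matrix.mul_assoc, Matrix.mul_assoc, Matrix.mul_assoc, Matrix.mul_assoc, hDDi,
            Matrix.mul_one]
      _ = q • Di := by rw [h1, Matrix.smul_mul, Matrix.one_mul]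
  -- pass to the complex numbers
  let w : Fin (Module.finrank ℚ E) → ℂ := fun i => ρ (v i)
  set β : ℂ := ρ αE with hβ
  let Ac : Matrix (Fin (Module.finrank ℚ E)) (Fin (Module.finrank ℚ E)) ℂ :=
    A.map (Rat.castHom ℂ)
  let Dic : Matrix (Fin (Module.finrank ℚ E)) (Fin (Module.finrank ℚ E)) ℂ :=
    Di.map (Rat.castHom ℂ)
  have hR3c : Ac * Dic * Ac.transpose = (q : ℂ) • Dic := by
    have := congrArg (fun M : Matrix _ _ ℚ => M.map (Rat.castHom ℂ)) hR3
    simp only [Matrix.map_mul, Matrix.transpose_map] at this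
    rw [this]
    ext i j
    simp [Dic]
  have hAw : Ac.transpose *ᵥ w = β • w := by
    funext j
    have h1 := congrArg ρ (hA j)
    rw [map_mul, map_sum] at h1
    simp only [Matrix.mulVec, dotProduct, Matrix.transpose_apply, Pi.smul_apply, smul_eq_mul]
    rw [hβ, h1]
    apply Finset.sum_congr rfl
    intro i _
    rw [map_smul, Rat.smul_def]
    rfl
  have hstar : star w ᵥ* Ac = star β • star w := by
    have h1 := congrArg star hAw
    rw [Matrix.star_mulVec] at h1
    have h2 : Ac.transposeᴴ = Ac := by
      ext i j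
      simp [Ac, Matrix.conjTranspose_apply]
    rw [h2] at h1
    rw [h1]
    funext i
    simp
  set S : ℂ := star w ⬝ᵥ (Dic *ᵥ w) with hS
  have hT1 : star w ⬝ᵥ ((Ac * Dic * Ac.transpose) *ᵥ w) = (q : ℂ) * S := by
    rw [hR3c, Matrix.smul_mulVec, dotProduct_smul, smul_eq_mul]
  have hT2 : star w ⬝ᵥ ((Ac * Dic * Ac.transpose) *ᵥ w) = (star β * β) * S := by
    rw [← Matrix.mulVec_mulVec, ← Matrix.mulVec_mulVec, hAw, Matrix.dotProduct_mulVec, hstar,
      Matrix.mulVec_smul, smul_dotProduct, dotProduct_smul, smul_eq_mul, smul_eq_mul, hS]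
    ring
  -- S is a positive real number
  have hS' : S = ((∑ i, (d i)⁻¹ * Complex.normSq (w i) : ℝ) : ℂ) := by
    rw [hS]
    simp only [dotProduct, Matrix.mulVec, Pi.star_apply]
    push_cast
    apply Finset.sum_congr rfl
    intro i _
    rw [Finset.sum_eq_single i]
    · simp only [Dic, hDi, Matrix.map_apply, Matrix.diagonal_apply_eq]
      rw [Complex.normSq_eq_conj_mul_self]
      push_cast
      simp only [Complex.star_def, eq_ratCast, Rat.cast_inv]
      ring
    · intro j _ hji
      simp only [Dic, hDi, Matrix.map_apply]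
      rw [Matrix.diagonal_apply_ne _ (Ne.symm hji)]
      simp
    · intro h
      exact absurd (Finset.mem_univ i) h
  have hw : ∃ i, w i ≠ 0 := by
    by_contra hcon
    push Not at hcon
    have h1 : ρ 1 = 0 := by
      rw [← v.sum_repr 1, map_sum]
      apply Finset.sum_eq_zero
      intro i _
      rw [map_smul]
      change _ • w i = 0
      rw [hcon i, smul_zero]
    rw [map_one] at h1
    exact one_ne_zero h1
  have hSpos : 0 < ∑ i, (d i)⁻¹ * Complex.normSq (w i) := by
    obtain ⟨i₀, hi₀⟩ := hw
    apply Finset.sum_pos'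
    · intro i _
      exact mul_nonneg (Rat.cast_nonneg.mpr (inv_nonneg.mpr (hd i).le)) (Complex.normSq_nonneg _)
    · refine ⟨i₀, Finset.mem_univ _, ?_⟩
      exact mul_pos (Rat.cast_pos.mpr (inv_pos.mpr (hd i₀))) (Complex.normSq_pos.mpr hi₀)
  have hS0 : S ≠ 0 := by
    rw [hS']
    exact_mod_cast hSpos.ne'
  have hfin : star β * β = (q : ℂ) := by
    have := hT1.symm.trans hT2
    exact (mul_right_cancel₀ hS0 this).symm
  have h3 : ((Complex.normSq β : ℝ) : ℂ) = ((q : ℝ) : ℂ) := by
    rw [Complex.normSq_eq_conj_mul_self]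
    simp only [Complex.star_def] at hfin
    rw [hfin]
    simp
  exact_mod_cast h3

end partB

/-- Let R be a finite-dimensional ℚ-algebra with a ℚ-linear involution x ↦ x† (an anti-automorphism of
order two) and a ℚ-linear functional σ with σ(x x†) > 0 for every x ≠ 0; this is the positivity of
the involution, σ being the trace of R over ℚ in the case of the endomorphism algebra of an abelian
variety with a Rosati involution, and the trace on a cohomology group in the case of an algebra of
correspondences with the adjoint for a Weil form. Let α ∈ R with α α† = q for a rational number q.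
Then α† lies in the subalgebra ℚ[α], and for every ℚ-algebra homomorphism ρ : ℚ[α] → ℂ one has ρ(α†)
= the complex conjugate of ρ(α) and |ρ(α)|² = q. (The published statement is for the endomorphism
algebra of an abelian variety with a Rosati involution, with σ its trace over ℚ and q an integer;
the form given here, for an arbitrary ℚ-linear functional σ positive on every x x† with x ≠ 0 and
rational q, is what its proof establishes.) -/
theorem result (R : Type u) [Ring R] [Algebra ℚ R]
    [Module.Finite ℚ R] [StarRing R] [StarModule ℚ R]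
    (σ : R →ₗ[ℚ] ℚ) (hpos : ∀ x : R, x ≠ 0 → 0 < σ (x * star x))
    (α : R) (q : ℚ) (hα : α * star α = algebraMap ℚ R q) :
    ∃ hmem : star α ∈ Algebra.adjoin ℚ ({α} : Set R),
      ∀ ρ : Algebra.adjoin ℚ ({α} : Set R) →ₐ[ℚ] ℂ,
        ρ ⟨star α, hmem⟩ = starRingEnd ℂ (ρ ⟨α, Algebra.self_mem_adjoin_singleton ℚ α⟩) ∧
          ‖ρ ⟨α, Algebra.self_mem_adjoin_singleton ℚ α⟩‖ ^ 2 = (q : ℝ) := by
  classical
  by_cases hq : q = 0
  · have hα0 : α = 0 := by
      by_contra hne
      have := hpos α hne
      rw [hα, hq, map_zero, map_zero] at this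
      exact lt_irrefl _ this
    have hs0 : star α = 0 := by rw [hα0, star_zero]
    refine ⟨by rw [hs0]; exact zero_mem _, ?_⟩
    intro ρ
    have h1 : (⟨star α, by rw [hs0]; exact zero_mem _⟩ : Algebra.adjoin ℚ ({α} : Set R)) = 0 :=
      Subtype.ext hs0
    have h2 : (⟨α, Algebra.self_mem_adjoin_singleton ℚ α⟩ : Algebra.adjoin ℚ ({α} : Set R)) = 0 :=
      Subtype.ext hα0
    rw [h1, h2, map_zero, map_zero, hq]
    simp
  · have hγ : α * (q⁻¹ • star α) = 1 := by
      rw [mul_smul_comm, hα, Algebra.algebraMap_eq_smul_one, smul_smul, inv_mul_cancel₀ hq,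
        one_smul]
    have hmem0 : q⁻¹ • star α ∈ Algebra.adjoin ℚ ({α} : Set R) := inv_mem_adjoin hγ
    have hmem : star α ∈ Algebra.adjoin ℚ ({α} : Set R) := by
      have : star α = q • (q⁻¹ • star α) := by rw [smul_smul, mul_inv_cancel₀ hq, one_smul]
      rw [this]
      exact Subalgebra.smul_mem _ hmem0 q
    refine ⟨hmem, ?_⟩
    intro ρ
    -- the symmetrised functional
    let σ' : R →ₗ[ℚ] ℚ :=
      { toFun := fun x => σ x + σ (star x)
        map_add' := by
          intro x y
          simp only [star_add, map_add]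
          ring
        map_smul' := by
          intro c x
          simp only [star_smul, star_trivial, map_smul, smul_eq_mul, RingHom.id_apply]
          ring }
    have hσ' : ∀ x, σ' x = σ x + σ (star x) := fun _ => rfl
    have hpos' : ∀ x : R, x ≠ 0 → 0 < σ' (x * star x) := by
      intro x hx
      rw [hσ', star_mul, star_star]
      have := hpos x hx
      linarith
    have hsym : ∀ x : R, σ' (star x) = σ' x := by
      intro x
      rw [hσ', hσ', star_star, add_comm]
    have hcomm1 : Commute α (star α) := Algebra.commute_of_mem_adjoin_self hmem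
    have hiso : ∀ x ∈ Algebra.adjoin ℚ ({α} : Set R), ∀ y ∈ Algebra.adjoin ℚ ({α} : Set R),
        σ' ((α * x) * star (α * y)) = q * σ' (x * star y) := by
      intro x hx y hy
      have hxα : Commute (star α) x :=
        Algebra.commute_of_mem_adjoin_singleton_of_commute hx hcomm1.symm
      have hyα : Commute α y := Algebra.commute_of_mem_adjoin_self hy
      have h1 : (α * x) * star (α * y) = q • (x * star y) := by
        rw [hyα.eq, star_mul]
        calc α * x * (star α * star y) = α * (x * star α) * star y := by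
              simp only [mul_assoc]
          _ = α * (star α * x) * star y := by rw [hxα.eq]
          _ = (α * star α) * (x * star y) := by simp only [mul_assoc]
          _ = q • (x * star y) := by rw [hα, Algebra.smul_def]
      rw [h1, map_smul, smul_eq_mul]
    have hns := normSq_eq_of_isometry σ' hpos' hsym α q hq (Algebra.adjoin ℚ ({α} : Set R))
      (Algebra.self_mem_adjoin_singleton ℚ α) hiso ρ
    set β : ℂ := ρ ⟨α, Algebra.self_mem_adjoin_singleton ℚ α⟩ with hβ
    have hβ0 : β ≠ 0 := by
      intro h0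
      rw [h0, map_zero] at hns
      exact hq (by exact_mod_cast hns.symm)
    refine ⟨?_, ?_⟩
    · have h1 : ρ ⟨star α, hmem⟩ * β = (q : ℂ) := by
        rw [hβ, ← map_mul]
        have h2 : (⟨star α, hmem⟩ * ⟨α, Algebra.self_mem_adjoin_singleton ℚ α⟩ :
            Algebra.adjoin ℚ ({α} : Set R)) = algebraMap ℚ _ q := by
          apply Subtype.ext
          change star α * α = algebraMap ℚ R q
          rw [← hcomm1.eq, hα]
        rw [h2, AlgHom.commutes]
        simp
      have h3 : starRingEnd ℂ β * β = (q : ℂ) := by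
        rw [← Complex.normSq_eq_conj_mul_self, hns]
        simp
      exact mul_right_cancel₀ hβ0 (h1.trans h3.symm)
    · rw [← Complex.normSq_eq_norm_sq, hns]

end Groth.Agent.S19356
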