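import Groth.Statements.S19365
import Groth.Agent.Lib.Helper7.FanTop

set_option autoImplicit false
universe u
open CategoryTheory Opposite Instab
open Instab Instab.Fan

namespace Groth.Agent.S19365

/-- Let F ⟶ G be a map of formal fans which is bounded and injective on n-cones for every n (a bounded
sub-fan). Then the induced map P F → P G is a closed embedding. (The description of its preimage
under a rational simplex as a finite union of rational sub-simplices is the corresponding assertion
for bounded maps and is not repeated here.) -/
theorem result {F G : Fan.{u}} (ψ : F ⟶ G)
    (hψ : Fan.IsBoundedMap ψ) (hinj : ∀ n : ICone, Function.Injective (ψ.app (op n))) :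
    Topology.IsClosedEmbedding (Fan.P.map ψ) := by
  exact Topology.IsClosedEmbedding.of_continuous_injective_isClosedMap
    (Groth.Agent.Helper7.FanTop.continuous_map ψ)
    (Groth.Agent.Helper7.FanMaps.map_injective ψ hinj)
    (Groth.Agent.Helper7.FanTop.bounded_map_props ψ hψ).1

end Groth.Agent.S19365
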