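import Groth.Statements.S19374
import Groth.Agent.Lib.Helper29.Fan

set_option autoImplicit false
universe u
open CategoryTheory Opposite Instab
open Instab Instab.Fan

namespace Groth.Agent.S19374

open Groth.Agent.Helper29 in
/-- Let F be a formal fan and U ⊆ P F. Then U is locally convex in the simplex-wise sense — for every
rational simplex, a ray lying strictly between two rays that map into U also maps into U — if and
only if, for every n-cone ξ of F, the set of nonzero nonnegative vectors v of ℝ^n whose point of the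
rational simplex of ξ lies in U is a convex subset of ℝ^n (convexity of the preimage of U in each
punctured cone of the affine realization). -/
theorem result (F : Fan.{u}) (U : Set (Fan.P F)) :
    Fan.IsLocallyConvex U ↔
      ∀ (n : ICone) (ξ : F.obj (op n)),
        Convex ℝ {v : Fin n.dim → ℝ | ∃ h : (∀ i, 0 ≤ v i) ∧ v ≠ 0, Fan.P.mk ξ (⟨v, h⟩ : Fan.Orth n) ∈ U} := by
  constructor
  · intro hU n ξ x hx y hy a b ha hb hab
    obtain ⟨hx1, hx2⟩ := hx
    obtain ⟨hy1, hy2⟩ := hy
    rcases ha.eq_or_lt with ha0 | ha0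
    · have hb1 : b = 1 := by rw [← ha0, zero_add] at hab; exact hab
      subst hb1; subst ha0
      simp only [zero_smul, one_smul, zero_add]
      exact ⟨hy1, hy2⟩
    rcases hb.eq_or_lt with hb0 | hb0
    · have ha1 : a = 1 := by rw [← hb0, add_zero] at hab; exact hab
      subst ha1; subst hb0
      simp only [zero_smul, one_smul, add_zero]
      exact ⟨hx1, hx2⟩
    have hnn : ∀ i, 0 ≤ (a • x + b • y) i := by
      intro i
      simp only [Pi.add_apply, Pi.smul_apply, smul_eq_mul]
      exact add_nonneg (mul_nonneg ha (hx1.1 i)) (mul_nonneg hb (hy1.1 i))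
    have hne : a • x + b • y ≠ 0 := by
      intro h0
      apply hx1.2
      funext i
      have hi := congr_fun h0 i
      simp only [Pi.add_apply, Pi.smul_apply, smul_eq_mul, Pi.zero_apply] at hi
      have h1 : 0 ≤ a * x i := mul_nonneg ha (hx1.1 i)
      have h2 : 0 ≤ b * y i := mul_nonneg hb (hy1.1 i)
      have h3 : a * x i = 0 := by linarith
      rcases mul_eq_zero.mp h3 with h | h
      · exact absurd h (ne_of_gt ha0)
      · simpa using h
    refine ⟨⟨hnn, hne⟩, ?_⟩
    exact hU n ξ ⟨x, hx1⟩ ⟨a • x + b • y, ⟨hnn, hne⟩⟩ ⟨y, hy1⟩ hx2 hy2 ⟨a, b, ha0, hb0, rfl⟩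
  · intro hC n ξ v₀ v₁ v₂ h0 h2 hab
    obtain ⟨a, b, ha, hb, h⟩ := hab
    have hs : 0 < a + b := add_pos ha hb
    have hconv := hC n ξ (x := v₀.1) ⟨v₀.2, h0⟩ (y := v₂.1) ⟨v₂.2, h2⟩
      (a := a / (a + b)) (b := b / (a + b)) (div_nonneg ha.le hs.le) (div_nonneg hb.le hs.le)
      (by rw [← add_div, div_self hs.ne'])
    obtain ⟨hw, hwU⟩ := hconv
    have : Fan.P.mk ξ v₁ = Fan.P.mk ξ ⟨_, hw⟩ := by
      apply P_mk_smul ξ v₁ ⟨_, hw⟩ (1 / (a + b)) (by positivity)
      simp only
      rw [h, smul_add, smul_smul, smul_smul]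
      congr 2 <;> field_simp
    rw [this]
    exact hwU

end Groth.Agent.S19374
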