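import Groth.Statements.S19380
import Mathlib

set_option autoImplicit false
universe u
open CAlg

namespace Groth.Agent.S19380

open Matrix Polynomial in
theorem charpolyRev_map_hom {R S : Type u} [CommRing R] [CommRing S] {r : ℕ}
    (f : R →+* S) (M : Matrix (Fin r) (Fin r) R) :
    (M.map f).charpolyRev = M.charpolyRev.map f := by
  unfold Matrix.charpolyRev
  rw [← Polynomial.coe_mapRingHom, RingHom.map_det]
  congr 1
  ext i j : 1
  simp only [RingHom.mapMatrix_apply, Matrix.map_apply, Matrix.sub_apply, Matrix.smul_apply,
    Polynomial.coe_mapRingHom, Polynomial.map_sub, smul_eq_mul, Polynomial.map_mul,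
    Polynomial.map_X, Polynomial.map_C]
  congr 1
  by_cases h : i = j
  · subst h; simp
  · simp [Matrix.one_apply_ne h]

open Matrix Polynomial in
theorem charpolyRev_mul_comm' {R : Type u} [CommRing R] {r : ℕ}
    (A B : Matrix (Fin r) (Fin r) R) :
    (A * B).charpolyRev = (B * A).charpolyRev := by
  unfold Matrix.charpolyRev
  have h1 : (X : R[X]) • (A * B).map C = ((X : R[X]) • A.map C) * B.map C := by
    rw [Matrix.map_mul, Matrix.smul_mul]
  have h2 : (X : R[X]) • (B * A).map C = B.map C * ((X : R[X]) • A.map C) := by
    rw [Matrix.map_mul, Matrix.mul_smul]
  rw [h1, h2, Matrix.det_one_sub_mul_comm]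

/-- Let L be a commutative ring, σ a ring automorphism of L of finite order dividing d (σ^d = 1), and C
an r × r matrix over L. The reverse characteristic polynomial det(1 − T·N) of the twisted product N
= C·σ(C)·σ²(C)⋯σ^(d−1)(C), with σ applied to the entries, is fixed by σ acting on coefficients. (In
the source this is phrased for the fibre at a closed point x of degree d of a convergent F-module
with Frobenius matrix C: the d-th iterate of the semilinear Frobenius of the fibre is the linear map
with matrix N, so its characteristic polynomial has coefficients in the subfield fixed by the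
Frobenius of K(x), namely K, and likewise with the valuation ring in place of K for an integral
F-module; only this linear-algebra statement, over any commutative ring, is given here.) -/
theorem result
    (L : Type u) [CommRing L] (σ : L ≃+* L) (d : ℕ) (hσ : σ ^ d = 1)
    (r : ℕ) (C : Matrix (Fin r) (Fin r) L) :
    (Matrix.charpolyRev (((List.range d).map fun i => C.map ⇑(σ ^ i)).prod)).map (σ : L →+* L) =
      Matrix.charpolyRev (((List.range d).map fun i => C.map ⇑(σ ^ i)).prod) := by
  rw [← charpolyRev_map_hom]
  have hmap : (((List.range d).map fun i => C.map ⇑(σ ^ i)).prod).map (σ : L →+* L) =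
      ((List.range d).map fun i => C.map ⇑(σ ^ (i + 1))).prod := by
    have := map_list_prod (RingHom.mapMatrix (m := Fin r) (σ : L →+* L))
      ((List.range d).map fun i => C.map ⇑(σ ^ i))
    rw [RingHom.mapMatrix_apply] at this
    rw [this, List.map_map]
    congr 1
    apply List.map_congr_left
    intro i _
    simp only [Function.comp_apply, RingHom.mapMatrix_apply]
    ext a b
    simp only [Matrix.map_apply, RingHom.coe_coe, pow_succ']
    rfl
  rw [hmap]
  cases d with
  | zero => simp
  | succ d' =>
    have e1 : ((List.range (d' + 1)).map fun i => C.map ⇑(σ ^ i)).prod =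
        C * ((List.range d').map fun i => C.map ⇑(σ ^ (i + 1))).prod := by
      rw [List.range_succ_eq_map, List.map_cons, List.prod_cons, List.map_map]
      congr 1
    have e2 : ((List.range (d' + 1)).map fun i => C.map ⇑(σ ^ (i + 1))).prod =
        ((List.range d').map fun i => C.map ⇑(σ ^ (i + 1))).prod * C := by
      rw [List.range_succ, List.map_append, List.prod_append, List.map_singleton,
        List.prod_singleton, hσ]
      congr 1
    rw [e1, e2, charpolyRev_mul_comm']

end Groth.Agent.S19380
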