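import Groth.Statements.S19383
import Mathlib

set_option autoImplicit false
universe u
open CAlg

namespace Groth.Agent.S19383

/-- Over a discrete valuation ring, let V be a henselian discrete valuation ring with maximal ideal 𝔪
and B a Noetherian V-algebra, B̂ its 𝔪B-adic completion. Then B is flat over V if and only if B̂ is
flat over V. (The published lemma takes V an excellent normal ring with an ideal I such that (V,
V/I) is a henselian pair and B of finite type; in that generality it fails: for V = ℤ_p[[x]], I =
(p) and B = V[y]/(x, py − 1) ≅ ℚ_p one has IB = B, so B̂ = 0 is flat while B is not flat over V.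
Over a discrete valuation ring flatness is torsion-freeness and the statement holds for every
Noetherian B.) -/
theorem result
    (V : Type u) [CommRing V] [IsDomain V] [IsDiscreteValuationRing V] [HenselianLocalRing V]
    (B : Type u) [CommRing B] [Algebra V B] [IsNoetherianRing B] :
    Module.Flat V B ↔
      Module.Flat V (AdicCompletion ((IsLocalRing.maximalIdeal V).map (algebraMap V B)) B) := by
  set I := (IsLocalRing.maximalIdeal V).map (algebraMap V B) with hI
  constructor
  · intro h
    exact Module.Flat.trans V B (AdicCompletion I B)
  · intro h
    have htf : Module.IsTorsionFree V (AdicCompletion I B) := inferInstance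
    suffices hB : Module.IsTorsionFree V B from inferInstance
    obtain ⟨ϖ, hϖ⟩ := IsDiscreteValuationRing.exists_irreducible V
    have hIspan : I = Ideal.span {algebraMap V B ϖ} := by
      rw [hI, hϖ.maximalIdeal_eq, Ideal.map_span, Set.image_singleton]
    refine ⟨fun v hv => ?_⟩
    have hv0 : v ≠ 0 := hv.ne_zero
    -- it suffices to show v • b = 0 → b = 0
    have key : ∀ b : B, v • b = 0 → b = 0 := by
      intro b hb
      -- image in completion is zero
      have h1 : AdicCompletion.of I B b = 0 := by
        have : v • AdicCompletion.of I B b = 0 := by
          rw [← algebraMap_smul B v (AdicCompletion.of I B b), ← map_smul, algebraMap_smul, hb,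
            map_zero]
        exact (smul_eq_zero_iff_right hv0).mp this
      have h2 : b ∈ (⨅ i, I ^ i • ⊤ : Submodule B B) := by
        rw [Submodule.mem_iInf]
        intro n
        have := congrArg (fun x => x.1 n) h1
        simp only [AdicCompletion.of_apply] at this
        rw [← Submodule.Quotient.mk_eq_zero]
        simpa using this
      obtain ⟨⟨r, hr⟩, hrb⟩ := (Ideal.mem_iInf_smul_pow_eq_bot_iff I b).mp h2
      simp only [smul_eq_mul] at hrb
      rw [hIspan, Ideal.mem_span_singleton'] at hr
      obtain ⟨c, rfl⟩ := hr
      obtain ⟨k, u, hvu⟩ := IsDiscreteValuationRing.eq_unit_mul_pow_irreducible hv0 hϖ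
      -- ϖ^k • b = 0
      have hk : (algebraMap V B ϖ) ^ k * b = 0 := by
        have : v • b = algebraMap V B (u : V) * ((algebraMap V B ϖ) ^ k * b) := by
          rw [hvu, Algebra.smul_def, map_mul, map_pow, mul_assoc]
        rw [this] at hb
        have hu : IsUnit (algebraMap V B (u : V)) := (u.isUnit).map _
        exact (hu.mul_right_eq_zero).mp hb
      have hpow : ∀ j : ℕ, (c * algebraMap V B ϖ) ^ j * b = b := by
        intro j
        induction j with
        | zero => simp
        | succ j ih => rw [pow_succ, mul_assoc, hrb, ih]
      rw [← hpow k, mul_pow, mul_assoc, hk, mul_zero]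
    intro b₁ b₂ hb
    have := key (b₁ - b₂) (by rw [smul_sub]; exact sub_eq_zero.mpr hb)
    exact sub_eq_zero.mp this


end Groth.Agent.S19383
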