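import Groth.Statements.S19398
import Groth.Agent.Lib.Helper29.H12ComodSemisimple

set_option autoImplicit false
universe u
open GIT

namespace Groth.Agent.S19398

open Groth.Agent.Helper29.H12Copy TensorProduct

/-- For a reductive group G (here: every finite-dimensional representation completely reducible, i.e.
linearly reductive) acting linearly on vector spaces V and V′ of any dimension, with Reynolds
operators E and E′ (the projections onto the invariants along the unique invariant complement),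
every G-linear map u : V → V′ satisfies E′ ∘ u = u ∘ E. Stated for comodules over a commutative Hopf
algebra A whose finite-dimensional comodules are semisimple; a Reynolds operator is a comodule
endomorphism that is idempotent and fixes exactly the invariant vectors (such an operator is the
projection onto the invariants along an invariant complement, which is unique). -/
theorem result (k : Type u) [Field k] (A : Type u) [CommRing A] [HopfAlgebra k A]
    (hG : HopfRep.IsLinearlyReductive k A)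
    (V W : Type u) [AddCommGroup V] [Module k V] [HopfRep.Comod k A V]
    [AddCommGroup W] [Module k W] [HopfRep.Comod k A W]
    (E : V →ₗ[k] V) (hE₁ : Hoch.IsComodHom A E) (hE₂ : E ∘ₗ E = E)
    (hE₃ : ∀ x : V, E x = x ↔ x ∈ HopfRep.fixedPts k A V)
    (E' : W →ₗ[k] W) (hE'₁ : Hoch.IsComodHom A E') (hE'₂ : E' ∘ₗ E' = E')
    (hE'₃ : ∀ y : W, E' y = y ↔ y ∈ HopfRep.fixedPts k A W)
    (u : V →ₗ[k] W) (hu : Hoch.IsComodHom A u) :
    E' ∘ₗ u = u ∘ₗ E := by
  have hLR : Groth.Agent.Helper29.H12Copy.ComodSS.LR.{u, u, u} k A := hG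
  have hψ : Hoch.IsComodHom A (E' ∘ₗ u) := isComodHom_comp hu hE'₁
  have hψfix : ∀ x, (E' ∘ₗ u) x ∈ HopfRep.fixedPts k A W := by
    intro x
    rw [← hE'₃]
    exact LinearMap.congr_fun hE'₂ (u x)
  have hufix : ∀ x ∈ HopfRep.fixedPts k A V, u x ∈ HopfRep.fixedPts k A W := by
    intro x hx
    have hx' : HopfRep.Comod.coact (k := k) (A := A) x = x ⊗ₜ[k] (1 : A) := hx
    change HopfRep.Comod.coact (k := k) (A := A) (u x) = u x ⊗ₜ[k] (1 : A)
    rw [isComodHom_apply hu, hx', LinearMap.rTensor_tmul]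
  have hK : HopfRep.IsSubcomod (k := k) (A := A) (LinearMap.ker E) :=
    comap_isSubcomod hE₁ ⊥ isSubcomod_bot
  have hKψ' : HopfRep.IsSubcomod (k := k) (A := A) (LinearMap.ker (E' ∘ₗ u)) :=
    comap_isSubcomod hψ ⊥ isSubcomod_bot
  have hK₀ : HopfRep.IsSubcomod (k := k) (A := A) (LinearMap.ker E ⊓ LinearMap.ker (E' ∘ₗ u)) :=
    isSubcomod_inf hK hKψ'
  obtain ⟨V₁, hV₁, hc⟩ := ComodSS.exists_isCompl hLR _ hK₀
  have hK₁ : HopfRep.IsSubcomod (k := k) (A := A) (V₁ ⊓ LinearMap.ker E) := isSubcomod_inf hV₁ hK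
  have hinj : Function.Injective ((E' ∘ₗ u) ∘ₗ (V₁ ⊓ LinearMap.ker E).subtype) := by
    rw [injective_iff_map_eq_zero]
    rintro ⟨x, hx⟩ h0
    have h0' : (E' ∘ₗ u) x = 0 := h0
    have hx0 : x ∈ LinearMap.ker E ⊓ LinearMap.ker (E' ∘ₗ u) :=
      ⟨hx.2, LinearMap.mem_ker.2 h0'⟩
    have := Submodule.disjoint_def.1 hc.disjoint x hx0 hx.1
    exact Subtype.ext this
  have hK₁fix : ∀ x ∈ V₁ ⊓ LinearMap.ker E, x ∈ HopfRep.fixedPts k A V := by
    intro x hx
    obtain ⟨y, hy⟩ := hK₁ x hx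
    change HopfRep.Comod.coact (k := k) (A := A) x = x ⊗ₜ[k] (1 : A)
    have hz : ((E' ∘ₗ u) ∘ₗ (V₁ ⊓ LinearMap.ker E).subtype).rTensor A
        (y - (⟨x, hx⟩ : ↥(V₁ ⊓ LinearMap.ker E)) ⊗ₜ[k] (1 : A)) = 0 := by
      rw [map_sub, LinearMap.rTensor_tmul, LinearMap.rTensor_comp, LinearMap.comp_apply, hy,
        ← isComodHom_apply hψ]
      have h1 : HopfRep.Comod.coact (k := k) (A := A) ((E' ∘ₗ u) x)
          = (E' ∘ₗ u) x ⊗ₜ[k] (1 : A) := hψfix x
      rw [h1]
      exact sub_self _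
    have hz0 := (rTensor_injective_of_injective A _ hinj) (hz.trans (map_zero _).symm)
    rw [← hy, sub_eq_zero.1 hz0, LinearMap.rTensor_tmul]
    rfl
  have hK₁bot : ∀ x ∈ V₁ ⊓ LinearMap.ker E, x = 0 := by
    intro x hx
    have h1 := (hE₃ x).2 (hK₁fix x hx)
    have h2 : E x = 0 := LinearMap.mem_ker.1 hx.2
    rw [← h1, h2]
  have hKψ : ∀ x ∈ LinearMap.ker E, (E' ∘ₗ u) x = 0 := by
    intro x hx
    have hx' : x ∈ (LinearMap.ker E ⊓ LinearMap.ker (E' ∘ₗ u)) ⊔ V₁ := by
      rw [hc.sup_eq_top]; trivial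
    obtain ⟨a, ha, b, hb, rfl⟩ := Submodule.mem_sup.1 hx'
    have hbK : b ∈ LinearMap.ker E := by
      have := (LinearMap.ker E).sub_mem hx ha.1
      simpa using this
    have hb0 : b = 0 := hK₁bot b ⟨hb, hbK⟩
    rw [hb0, add_zero]
    exact LinearMap.mem_ker.1 ha.2
  apply LinearMap.ext
  intro x
  have hEE : E (E x) = E x := LinearMap.congr_fun hE₂ x
  have hx1 : x - E x ∈ LinearMap.ker E := by
    rw [LinearMap.mem_ker, map_sub, hEE, sub_self]
  have h1 := hKψ _ hx1
  rw [map_sub, sub_eq_zero] at h1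
  have hEx : E x ∈ HopfRep.fixedPts k A V := (hE₃ (E x)).1 hEE
  have h2 : E' (u (E x)) = u (E x) := (hE'₃ _).2 (hufix _ hEx)
  change E' (u x) = u (E x)
  rw [← h2]
  exact h1


end Groth.Agent.S19398
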