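import Groth.Statements.S19408
import Groth.Agent.Lib.Helper22.StrEt3

set_option autoImplicit false
universe u
open TensorProduct
open GLin

namespace Groth.Agent.S19408

/-- Let k be an algebraically closed field of characteristic zero, A a finitely generated commutative
Hopf algebra over k all of whose finite-dimensional comodules are semisimple (a reductive group G),
S and R finitely generated commutative k-algebras with multiplicative A-coactions (G acting on
affine Y = Spec S and X = Spec R), S → R an algebra map compatible with the coactions (a G-morphism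
θ : X → Y), S₀ → S and R₀ → R injective k-algebra maps whose images are the subrings of invariants,
and S₀ → R₀ an algebra map with S₀ → R₀ → R equal to S₀ → S → R (θ/G). Suppose R is étale over S, R₀
is étale over S₀, and the canonical map S ⊗_{S₀} R₀ → R is bijective (θ and θ/G étale and X ≅ Y
×_{Y//G} X//G). Let J be an ideal of S which is a subcomodule (Y' = V(J) a closed G-invariant
subscheme), let S/J and R/JR carry A-coactions for which the quotient maps are compatible with the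
coactions (the induced actions on Y' and X' = Y' ×_Y X), and let S₁ → S/J and R₁ → R/JR be injective
k-algebra maps whose images are the subrings of invariants, with S₁ → R₁ an algebra map such that S₁
→ R₁ → R/JR equals S₁ → S/J → R/JR. Then R/JR is étale over S/J, R₁ is étale over S₁, and the
canonical map (S/J) ⊗_{S₁} R₁ → R/JR is bijective (θ' : X' → Y' and θ'/G are étale and X' ≅ Y'
×_{Y'//G} X'//G). -/
theorem result (k : Type u) [Field k] [IsAlgClosed k] [CharZero k]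
    (A : Type u) [CommRing A] [HopfAlgebra k A] [Algebra.FiniteType k A] (hG : HopfRep.IsLinearlyReductive k A)
    (S : Type u) [CommRing S] [Algebra k S] [Algebra.FiniteType k S] [HopfRep.Comod k A S] [GLin.IsCoactAlg k A S]
    (R : Type u) [CommRing R] [Algebra k R] [Algebra.FiniteType k R] [HopfRep.Comod k A R] [GLin.IsCoactAlg k A R]
    [Algebra S R] [IsScalarTower k S R]
    (hequiv : (∀ s : S, HopfRep.Comod.coact (k := k) (A := A) (algebraMap S R s) =
      Algebra.TensorProduct.map (IsScalarTower.toAlgHom k S R) (AlgHom.id k A) (HopfRep.Comod.coact (k := k) (A := A) s)))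
    (S₀ : Type u) [CommRing S₀] [Algebra k S₀] [Algebra S₀ S] [IsScalarTower k S₀ S]
    (hS₀i : Function.Injective (algebraMap S₀ S)) (hS₀ : (IsScalarTower.toAlgHom k S₀ S).range = GLin.invariants k A S)
    (R₀ : Type u) [CommRing R₀] [Algebra k R₀] [Algebra R₀ R] [IsScalarTower k R₀ R]
    (hR₀i : Function.Injective (algebraMap R₀ R)) (hR₀ : (IsScalarTower.toAlgHom k R₀ R).range = GLin.invariants k A R)
    [Algebra S₀ R₀] [Algebra S₀ R] [IsScalarTower S₀ S R] [IsScalarTower S₀ R₀ R]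
    (het : Algebra.Etale S R) (het₀ : Algebra.Etale S₀ R₀)
    (hcart : Function.Bijective (Algebra.TensorProduct.productMap (IsScalarTower.toAlgHom S₀ S R) (IsScalarTower.toAlgHom S₀ R₀ R)))
    (J : Ideal S) (hJ : HopfRep.IsSubcomod (k := k) (A := A) (J.restrictScalars k))
    [HopfRep.Comod k A (S ⧸ J)] [GLin.IsCoactAlg k A (S ⧸ J)]
    (hqS : (∀ s : S, HopfRep.Comod.coact (k := k) (A := A) ((Ideal.Quotient.mkₐ k J) s) =
        Algebra.TensorProduct.map (Ideal.Quotient.mkₐ k J) (AlgHom.id k A) (HopfRep.Comod.coact (k := k) (A := A) s)))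
    [HopfRep.Comod k A (R ⧸ J.map (algebraMap S R))] [GLin.IsCoactAlg k A (R ⧸ J.map (algebraMap S R))]
    (hqR : (∀ s : R, HopfRep.Comod.coact (k := k) (A := A) ((Ideal.Quotient.mkₐ k (J.map (algebraMap S R))) s) =
        Algebra.TensorProduct.map (Ideal.Quotient.mkₐ k (J.map (algebraMap S R))) (AlgHom.id k A) (HopfRep.Comod.coact (k := k) (A := A) s)))
    (S₁ : Type u) [CommRing S₁] [Algebra k S₁] [Algebra S₁ (S ⧸ J)] [IsScalarTower k S₁ (S ⧸ J)]
    (hS₁i : Function.Injective (algebraMap S₁ (S ⧸ J)))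
    (hS₁ : (IsScalarTower.toAlgHom k S₁ (S ⧸ J)).range = GLin.invariants k A (S ⧸ J))
    (R₁ : Type u) [CommRing R₁] [Algebra k R₁] [Algebra R₁ (R ⧸ J.map (algebraMap S R))] [IsScalarTower k R₁ (R ⧸ J.map (algebraMap S R))]
    (hR₁i : Function.Injective (algebraMap R₁ (R ⧸ J.map (algebraMap S R))))
    (hR₁ : (IsScalarTower.toAlgHom k R₁ (R ⧸ J.map (algebraMap S R))).range = GLin.invariants k A (R ⧸ J.map (algebraMap S R)))
    [Algebra S₁ R₁] [Algebra S₁ (R ⧸ J.map (algebraMap S R))]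
    [IsScalarTower S₁ (S ⧸ J) (R ⧸ J.map (algebraMap S R))] [IsScalarTower S₁ R₁ (R ⧸ J.map (algebraMap S R))] :
    Algebra.Etale (S ⧸ J) (R ⧸ J.map (algebraMap S R)) ∧ Algebra.Etale S₁ R₁ ∧
      Function.Bijective (Algebra.TensorProduct.productMap
        (IsScalarTower.toAlgHom S₁ (S ⧸ J) (R ⧸ J.map (algebraMap S R)))
        (IsScalarTower.toAlgHom S₁ R₁ (R ⧸ J.map (algebraMap S R)))) := by
  classical
  have hS₀mem : ∀ s : S, s ∈ GLin.invariants k A S ↔ ∃ s₀ : S₀, algebraMap S₀ S s₀ = s := by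
    intro s
    rw [← hS₀]
    exact AlgHom.mem_range _
  have hR₀mem : ∀ r : R, r ∈ GLin.invariants k A R ↔ ∃ r₀ : R₀, algebraMap R₀ R r₀ = r := by
    intro r
    rw [← hR₀]
    exact AlgHom.mem_range _
  have hS₁mem : ∀ s : S ⧸ J, s ∈ GLin.invariants k A (S ⧸ J) ↔
      ∃ s₁ : S₁, algebraMap S₁ (S ⧸ J) s₁ = s := by
    intro s
    rw [← hS₁]
    exact AlgHom.mem_range _
  have hR₁mem : ∀ r : R ⧸ J.map (algebraMap S R),
      r ∈ GLin.invariants k A (R ⧸ J.map (algebraMap S R)) ↔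
      ∃ r₁ : R₁, algebraMap R₁ (R ⧸ J.map (algebraMap S R)) r₁ = r := by
    intro r
    rw [← hR₁]
    exact AlgHom.mem_range _
  -- the maps α and β
  have hα_ex : ∀ s₀ : S₀, ∃ s₁ : S₁, algebraMap S₁ (S ⧸ J) s₁ =
      ((Ideal.Quotient.mk J).comp (algebraMap S₀ S)) s₀ := by
    intro s₀
    have h1 : algebraMap S₀ S s₀ ∈ GLin.invariants k A S := (hS₀mem _).2 ⟨s₀, rfl⟩
    have h2 := Groth.Agent.Helper22.StrEt.map_mem_invariants (Ideal.Quotient.mkₐ k J) hqS h1
    exact (hS₁mem _).1 h2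
  obtain ⟨α, hα'⟩ := Groth.Agent.Helper22.StrEt.exists_ringHom_of_injective
    (algebraMap S₁ (S ⧸ J)) hS₁i _ hα_ex
  have hα'' : ∀ s₀ : S₀, algebraMap S₁ (S ⧸ J) (α s₀) =
      Ideal.Quotient.mk J (algebraMap S₀ S s₀) := hα'
  have hβ_ex : ∀ r₀ : R₀, ∃ r₁ : R₁, algebraMap R₁ (R ⧸ J.map (algebraMap S R)) r₁ =
      ((Ideal.Quotient.mk (J.map (algebraMap S R))).comp (algebraMap R₀ R)) r₀ := by
    intro r₀
    have h1 : algebraMap R₀ R r₀ ∈ GLin.invariants k A R := (hR₀mem _).2 ⟨r₀, rfl⟩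
    have h2 := Groth.Agent.Helper22.StrEt.map_mem_invariants
      (Ideal.Quotient.mkₐ k (J.map (algebraMap S R))) hqR h1
    exact (hR₁mem _).1 h2
  obtain ⟨β, hβ'⟩ := Groth.Agent.Helper22.StrEt.exists_ringHom_of_injective
    (algebraMap R₁ (R ⧸ J.map (algebraMap S R))) hR₁i _ hβ_ex
  have hβ'' : ∀ r₀ : R₀, algebraMap R₁ (R ⧸ J.map (algebraMap S R)) (β r₀) =
      Ideal.Quotient.mk (J.map (algebraMap S R)) (algebraMap R₀ R r₀) := hβ'
  have hα : Function.Surjective α := by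
    intro s₁
    have h1 : algebraMap S₁ (S ⧸ J) s₁ ∈ GLin.invariants k A (S ⧸ J) :=
      (hS₁mem _).2 ⟨s₁, rfl⟩
    obtain ⟨s, hs, hsq⟩ := Groth.Agent.Helper22.StrEt.exists_invariant_lift hG
      (Ideal.Quotient.mkₐ k J) hqS (Ideal.Quotient.mkₐ_surjective k J) _ h1
    obtain ⟨s₀, rfl⟩ := (hS₀mem s).1 hs
    refine ⟨s₀, hS₁i ?_⟩
    rw [hα'']
    exact hsq
  have hβ : Function.Surjective β := by
    intro r₁
    have h1 : algebraMap R₁ (R ⧸ J.map (algebraMap S R)) r₁ ∈
        GLin.invariants k A (R ⧸ J.map (algebraMap S R)) := (hR₁mem _).2 ⟨r₁, rfl⟩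
    obtain ⟨r, hr, hrq⟩ := Groth.Agent.Helper22.StrEt.exists_invariant_lift hG
      (Ideal.Quotient.mkₐ k (J.map (algebraMap S R))) hqR
      (Ideal.Quotient.mkₐ_surjective k (J.map (algebraMap S R))) _ h1
    obtain ⟨r₀, rfl⟩ := (hR₀mem r).1 hr
    refine ⟨r₀, hR₁i ?_⟩
    rw [hβ'']
    exact hrq
  have hαβ : ∀ s₀, algebraMap S₁ R₁ (α s₀) = β (algebraMap S₀ R₀ s₀) := by
    intro s₀
    apply hR₁i
    rw [hβ'', ← IsScalarTower.algebraMap_apply S₁ R₁ (R ⧸ J.map (algebraMap S R)),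
      IsScalarTower.algebraMap_apply S₁ (S ⧸ J) (R ⧸ J.map (algebraMap S R)), hα'',
      ← IsScalarTower.algebraMap_apply S₀ R₀ R, IsScalarTower.algebraMap_apply S₀ S R]
    rfl
  have hkerα : Ideal.comap (algebraMap S₀ S) J ≤ RingHom.ker α := by
    intro s₀ hs₀
    rw [RingHom.mem_ker]
    apply hS₁i
    rw [hα'', map_zero]
    exact Ideal.Quotient.eq_zero_iff_mem.2 hs₀
  have hkerβ : RingHom.ker β ≤ Ideal.map (algebraMap S₀ R₀) (RingHom.ker α) := by
    intro r₀ hr₀
    have h1 : Ideal.Quotient.mk (J.map (algebraMap S R)) (algebraMap R₀ R r₀) = 0 := by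
      rw [← hβ'', RingHom.mem_ker.1 hr₀, map_zero]
    have h2 : algebraMap R₀ R r₀ ∈ J.map (algebraMap S R) :=
      Ideal.Quotient.eq_zero_iff_mem.1 h1
    obtain ⟨r, hrT, hr⟩ := Groth.Agent.Helper22.StrEt.stepC hG hequiv
      (fun s hs => (hS₀mem s).1 hs) (fun r₀ => (hR₀mem _).2 ⟨r₀, rfl⟩) hcart.2 J hJ _ h2
      ((hR₀mem _).2 ⟨r₀, rfl⟩)
    have hrr : r = r₀ := hR₀i hr
    rw [← hrr]
    exact Ideal.map_mono hkerα hrT
  haveI := het₀
  have het₁ : Algebra.Etale S₁ R₁ :=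
    Groth.Agent.Helper22.StrEt.etale_quot α β hα hβ hαβ hkerβ
  have hcart₁ := Groth.Agent.Helper22.StrEt.cart_quot hcart (Ideal.Quotient.mk J)
    (Ideal.Quotient.mk (J.map (algebraMap S R))) Ideal.Quotient.mk_surjective
    Ideal.Quotient.mk_surjective (fun s => rfl) (by rw [Ideal.mk_ker, Ideal.mk_ker])
    α β hβ hα'' hβ'' hαβ
  haveI := het₁
  exact ⟨Groth.Agent.Helper22.StrEt.etale_of_cart (S₀ := S₁) (S := S ⧸ J) (R₀ := R₁)
    (R := R ⧸ J.map (algebraMap S R)) hcart₁, het₁, hcart₁⟩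

end Groth.Agent.S19408
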