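import Groth.Statements.S19427
import Groth.Agent.Lib.Helper29.MilK

set_option autoImplicit false
universe u
open MilnorK

namespace Groth.Agent.S19427

open Groth.Agent.Helper29 in
/-- For a field F and nonzero b, c with b + c ≠ 0, in the Milnor K-group K_2(F) one has {b, c} + {b + c,
-b/c} = 0, that is {b, c} = -{b + c, -b/c} = {b + c, -c/b}. (The identity as displayed in the source
is {b, c} = {b + c, -b/c}, which differs from this by a sign and fails in general: for b = 3, c = 5
over the rationals the tame symbol at 5 takes the values 3 and 1/3 on the two sides; the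
accompanying derivation from the Steinberg relation b/(b+c) + c/(b+c) = 1 gives exactly the identity
stated here.) -/
theorem result (F : Type u) [Field F] (b c : Fˣ)
    (h : (b : F) + (c : F) ≠ 0) :
    (MilK.symbol ![b, c] : MilK.K F 2) + MilK.symbol ![Units.mk0 ((b : F) + (c : F)) h, -(b / c)] = 0 := by
  set s : Fˣ := Units.mk0 ((b : F) + (c : F)) h with hs
  change sym2 b c + sym2 s (-(b / c)) = 0
  have hst : sym2 (b / s) (c / s) = 0 := by
    apply sym2_steinberg
    simp only [Units.val_div_eq_div_val, hs, Units.val_mk0]
    rw [← add_div, div_self h]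
  rw [sym2_div_left, sym2_div_right, sym2_div_right] at hst
  have e : -(b / c) = (-1 : Fˣ) * b / c := by
    rw [neg_one_mul, neg_div']
  have h2 : sym2 s (-(b / c)) = sym2 s (-1) + sym2 s b - sym2 s c := by
    rw [e, sym2_div_right, sym2_mul_right]
  have h3 : sym2 s (-1) + sym2 s s = 0 := by
    have := sym2_self_neg s
    rwa [← neg_one_mul, sym2_mul_right] at this
  have h4 := sym2_swap b s
  have h5 := sym2_neg_one_two s
  rw [h2]
  have : sym2 b c + (sym2 s (-1) + sym2 s b - sym2 s c) =
      (sym2 b c - sym2 b s - (sym2 s c - sym2 s s)) + (sym2 b s + sym2 s b)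
        + (sym2 s (-1) + sym2 s (-1)) - (sym2 s (-1) + sym2 s s) := by abel
  rw [this, hst, h3, h4, h5]
  simp

end Groth.Agent.S19427
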