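import Groth.Statements.S19429
import Groth.Agent.Lib.Helper20.KRRCounit1

set_option autoImplicit false
universe u
open KRR

namespace Groth.Agent.S19429


open CategoryTheory CategoryTheory.Limits AlgebraicGeometry in
theorem result (n : ℕ) (T : Scheme.{u}) (F : (KRR.PY n T).Modules)
    (hF : Coh.IsQCoh F) (hreg : KRR.IsRegSheaf n T F) :
    Epi ((Scheme.Modules.pullbackPushforwardAdjunction (KRR.pr n T)).counit.app F) := by
  exact Groth.Agent.Helper20.KRRCounit.epi_counit n T F hF hreg

end Groth.Agent.S19429
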