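import Groth.Statements.S19431
import Groth.Agent.Lib.Helper20.KRRReg1

set_option autoImplicit false
universe u
open KRR

namespace Groth.Agent.S19431


open CategoryTheory CategoryTheory.Limits AlgebraicGeometry in
theorem result (n : ℕ) (T : Scheme.{u}) (S : ShortComplex (KRR.PY n T).Modules)
    (hS : S.ShortExact) (h₁ : Coh.IsQCoh S.X₁) (h₂ : Coh.IsQCoh S.X₂) (h₃ : Coh.IsQCoh S.X₃)
    (hreg₁ : KRR.IsRegSheaf n T S.X₁) (hreg₃ : KRR.IsRegSheaf n T S.X₃) :
    KRR.IsRegSheaf n T S.X₂ := by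
  exact Groth.Agent.Helper20.KRRReg.isRegSheaf_X₂ n T S hS hreg₁ hreg₃

end Groth.Agent.S19431
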