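import Groth.Statements.S19433
import Groth.Agent.Lib.Helper20.KRRReg2

set_option autoImplicit false
universe u
open KRR

namespace Groth.Agent.S19433


open CategoryTheory CategoryTheory.Limits AlgebraicGeometry in
theorem result (n : ℕ) (T : Scheme.{u}) (S : ShortComplex (KRR.PY n T).Modules)
    (hS : S.ShortExact) (h₁ : Coh.IsQCoh S.X₁) (h₂ : Coh.IsQCoh S.X₂) (h₃ : Coh.IsQCoh S.X₃)
    (hreg₂ : KRR.IsRegSheaf n T (KRR.twF n T 1 S.X₂)) (hreg₃ : KRR.IsRegSheaf n T S.X₃)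
    (hepi : Epi ((Scheme.Modules.pushforward (KRR.pr n T)).map S.g)) :
    KRR.IsRegSheaf n T (KRR.twF n T 1 S.X₁) := by
  exact Groth.Agent.Helper20.KRRReg.isRegSheaf_twF_one_X₁ n T S hS hreg₂ hreg₃ hepi

end Groth.Agent.S19433
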