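import Groth.Statements.S19436
import Mathlib

set_option autoImplicit false
universe u
open CAlg

namespace Groth.Agent.S19436

/-- For a Noetherian local commutative algebra R over a field k, with maximal ideal M, and an ideal I of
R whose quotient R/I is finite-dimensional over k of dimension n, the power M^n lies in I. -/
theorem result (k : Type u) [Field k] (R : Type u) [CommRing R]
    [Algebra k R] [IsNoetherianRing R] [IsLocalRing R] (I : Ideal R) [Module.Finite k (R ⧸ I)] (n : ℕ)
    (hn : Module.finrank k (R ⧸ I) = n) : IsLocalRing.maximalIdeal R ^ n ≤ I := by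
  classical
  set M := IsLocalRing.maximalIdeal R with hMdef
  -- the k-subspaces W i of R ⧸ I
  let W : ℕ → Submodule k (R ⧸ I) := fun i =>
    ((M ^ i).map (Ideal.Quotient.mk I)).restrictScalars k
  have hWmem : ∀ i (a : R ⧸ I), a ∈ W i ↔ ∃ y ∈ M ^ i, Ideal.Quotient.mk I y = a := by
    intro i a
    simp only [W, Submodule.restrictScalars_mem]
    rw [Ideal.mem_map_iff_of_surjective _ Ideal.Quotient.mk_surjective]
  have hWanti : ∀ i, W (i + 1) ≤ W i := by
    intro i a ha
    obtain ⟨y, hy, rfl⟩ := (hWmem _ _).mp ha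
    exact (hWmem _ _).mpr ⟨y, Ideal.pow_le_pow_right (Nat.le_succ i) hy, rfl⟩
  -- Nakayama step
  have hnak : ∀ i, W (i + 1) = W i → M ^ i ≤ I := by
    intro i hi
    have hfg : (M ^ i : Ideal R).FG := IsNoetherian.noetherian _
    have hjac : M ≤ Ideal.jacobson (⊥ : Ideal R) := by
      rw [hMdef, IsLocalRing.jacobson_eq_maximalIdeal ⊥ bot_ne_top]
    apply Submodule.le_of_le_smul_of_le_jacobson_bot hfg hjac
    intro x hx
    have hxW : Ideal.Quotient.mk I x ∈ W i := (hWmem _ _).mpr ⟨x, hx, rfl⟩
    rw [← hi] at hxW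
    obtain ⟨y, hy, hyx⟩ := (hWmem _ _).mp hxW
    have hxy : x - y ∈ I := by
      rw [← Ideal.Quotient.eq_zero_iff_mem, map_sub, hyx, sub_self]
    have : x = (x - y) + y := by ring
    rw [this]
    apply Submodule.add_mem_sup hxy
    rw [smul_eq_mul, ← pow_succ']
    exact hy
  -- the induction
  have key : ∀ i, (∃ j ≤ i, M ^ j ≤ I) ∨ Module.finrank k (W i) + i ≤ n := by
    intro i
    induction i with
    | zero =>
      right
      have : W 0 = ⊤ := by
        apply top_unique
        intro a _
        obtain ⟨x, rfl⟩ := Ideal.Quotient.mk_surjective a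
        exact (hWmem _ _).mpr ⟨x, by simp, rfl⟩
      rw [this, finrank_top, hn, add_zero]
    | succ i ih =>
      rcases ih with ⟨j, hj, hjI⟩ | ih
      · exact Or.inl ⟨j, Nat.le_succ_of_le hj, hjI⟩
      · by_cases hW : W (i + 1) = W i
        · exact Or.inl ⟨i, Nat.le_succ i, hnak i hW⟩
        · right
          have hlt : W (i + 1) < W i := lt_of_le_of_ne (hWanti i) hW
          have := Submodule.finrank_lt_finrank_of_lt hlt
          omega
  rcases key n with ⟨j, hj, hjI⟩ | h
  · exact (Ideal.pow_le_pow_right hj).trans hjI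
  · have h0 : Module.finrank k (W n) = 0 := by omega
    have hbot : W n = ⊥ := Submodule.finrank_eq_zero.mp h0
    intro x hx
    have hxW : Ideal.Quotient.mk I x ∈ W n := (hWmem _ _).mpr ⟨x, hx, rfl⟩
    rw [hbot, Submodule.mem_bot] at hxW
    exact Ideal.Quotient.eq_zero_iff_mem.mp hxW


end Groth.Agent.S19436
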