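import Groth.Statements.S19438
import Mathlib

set_option autoImplicit false
universe u
open CAlg

namespace Groth.Agent.S19438

/-- First assertion: let A be a Noetherian local commutative algebra over a field k with maximal ideal
M, residue field k (the map from k to A/M is onto) and embedding dimension dim M/M^2 at least 2, and
let I be a proper ideal with A/I finite-dimensional over k. If A/I is generated as a k-algebra by
one element, then some element of I does not lie in M^2; that is, the finite closed subscheme
defined by I lies on a smooth hypersurface germ (it is curvilinear). (The published statement is for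
the local ring of a smooth surface at a closed point; only a Noetherian local algebra with residue
field k and embedding dimension at least 2 is assumed here, which is what the published argument
uses.) -/
theorem result (k : Type u) [Field k]
    (A : Type u) [CommRing A] [Algebra k A] [IsNoetherianRing A] [IsLocalRing A]
    (hres : Function.Surjective (algebraMap k (IsLocalRing.ResidueField A)))
    (hemb : 2 ≤ Module.finrank (IsLocalRing.ResidueField A) (IsLocalRing.CotangentSpace A))
    (I : Ideal A) (hI : I ≠ ⊤) [Module.Finite k (A ⧸ I)]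
    (f : A ⧸ I) (hf : Algebra.adjoin k {f} = ⊤) :
    ∃ g ∈ I, g ∉ IsLocalRing.maximalIdeal A ^ 2 := by
  by_contra hcon
  push Not at hcon
  obtain ⟨f₀, rfl⟩ := Ideal.Quotient.mk_surjective f
  obtain ⟨c, hc⟩ := hres (IsLocalRing.residue A f₀)
  have hm₀M : f₀ - algebraMap k A c ∈ IsLocalRing.maximalIdeal A := by
    rw [← IsLocalRing.residue_eq_zero_iff, map_sub, ← hc, sub_eq_zero,
      IsScalarTower.algebraMap_apply k A (IsLocalRing.ResidueField A)]
    rfl
  have key : ∀ a ∈ IsLocalRing.maximalIdeal A, ∃ q : k,
      a - algebraMap k A q * (f₀ - algebraMap k A c) ∈ IsLocalRing.maximalIdeal A ^ 2 := by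
    intro a ha
    have h1 : Ideal.Quotient.mk I a ∈ Algebra.adjoin k {Ideal.Quotient.mk I f₀} := by
      rw [hf]; exact Algebra.mem_top
    rw [Algebra.adjoin_singleton_eq_range_aeval] at h1
    obtain ⟨P, hP⟩ := h1
    have h2 : Polynomial.aeval f₀ P - a ∈ I := by
      rw [← Ideal.Quotient.eq]
      have := Polynomial.aeval_algHom_apply (Ideal.Quotient.mkₐ k I) f₀ P
      exact this.symm.trans hP
    obtain ⟨m₀, hm₀⟩ : ∃ m₀, m₀ = f₀ - algebraMap k A c := ⟨_, rfl⟩
    rw [← hm₀] at hm₀M ⊢
    obtain ⟨Q, hQ⟩ : ∃ Q, Q = P.comp (Polynomial.X + Polynomial.C c) := ⟨_, rfl⟩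
    have h3 : Polynomial.aeval m₀ Q = Polynomial.aeval f₀ P := by
      rw [hQ, Polynomial.aeval_comp]
      congr 1
      simp [hm₀]
    have h4 : Q = (Q.divX.divX * Polynomial.X + Polynomial.C (Q.divX.coeff 0)) * Polynomial.X
        + Polynomial.C (Q.coeff 0) := by
      rw [Polynomial.divX_mul_X_add, Polynomial.divX_mul_X_add]
    have h5 : Polynomial.aeval m₀ Q = (Polynomial.aeval m₀ Q.divX.divX * m₀
        + algebraMap k A (Q.divX.coeff 0)) * m₀ + algebraMap k A (Q.coeff 0) := by
      have := congrArg (Polynomial.aeval m₀) h4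
      simpa only [map_add, map_mul, Polynomial.aeval_X, Polynomial.aeval_C] using this
    have hmm : m₀ * m₀ ∈ IsLocalRing.maximalIdeal A ^ 2 := by
      rw [pow_two]; exact Ideal.mul_mem_mul hm₀M hm₀M
    have h6 : a - algebraMap k A (Q.divX.coeff 0) * m₀ - algebraMap k A (Q.coeff 0)
        ∈ IsLocalRing.maximalIdeal A ^ 2 := by
      have : a - algebraMap k A (Q.divX.coeff 0) * m₀ - algebraMap k A (Q.coeff 0)
          = -(Polynomial.aeval f₀ P - a) + (Polynomial.aeval m₀ Q.divX.divX) * (m₀ * m₀) := by
        rw [← h3, h5]; ring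
      rw [this]
      exact Ideal.add_mem _ (neg_mem (hcon _ h2)) (Ideal.mul_mem_left _ _ hmm)
    have h7 : Q.coeff 0 = 0 := by
      by_contra hne
      have hu : IsUnit (algebraMap k A (Q.coeff 0)) := (IsUnit.mk0 _ hne).map (algebraMap k A)
      have hmem : algebraMap k A (Q.coeff 0) ∈ IsLocalRing.maximalIdeal A := by
        have h8 : a - algebraMap k A (Q.divX.coeff 0) * m₀ - algebraMap k A (Q.coeff 0)
            ∈ IsLocalRing.maximalIdeal A := Ideal.pow_le_self two_ne_zero h6
        have h9 : a - algebraMap k A (Q.divX.coeff 0) * m₀ ∈ IsLocalRing.maximalIdeal A :=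
          Ideal.sub_mem _ ha (Ideal.mul_mem_left _ _ hm₀M)
        have := Ideal.sub_mem _ h9 h8
        simpa using this
      exact (IsLocalRing.mem_maximalIdeal _).1 hmem hu
    refine ⟨Q.divX.coeff 0, ?_⟩
    rw [h7, map_zero, sub_zero] at h6
    exact h6
  have hle : Module.finrank (IsLocalRing.ResidueField A) (IsLocalRing.CotangentSpace A) ≤ 1 := by
    refine finrank_le_one ((IsLocalRing.maximalIdeal A).toCotangent
      ⟨f₀ - algebraMap k A c, hm₀M⟩) ?_
    intro w
    obtain ⟨⟨a, ha⟩, rfl⟩ := Ideal.toCotangent_surjective _ w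
    obtain ⟨q, hq⟩ := key a ha
    refine ⟨algebraMap A (IsLocalRing.ResidueField A) (algebraMap k A q), ?_⟩
    rw [algebraMap_smul, ← map_smul]
    symm
    rw [Ideal.toCotangent_eq]
    exact hq
  omega


end Groth.Agent.S19438
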