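import Groth.Statements.S19443
import Mathlib

set_option autoImplicit false
universe u
open LinAlg

namespace Groth.Agent.S19443

theorem sum_mem_invariants {k : Type u} [Field k] {G : Type u} [Group G] [Fintype G]
    {V : Type u} [AddCommGroup V] [Module k V] (ρ : Representation k G V) (w : V) :
    (∑ g : G, ρ g w) ∈ ρ.invariants := by
  intro h
  rw [map_sum]
  have : ∀ g : G, ρ h (ρ g w) = ρ (h * g) w := by
    intro g; rw [map_mul]; rfl
  simp_rw [this]
  exact Fintype.sum_bijective (fun g => h * g) (Group.mulLeft_bijective h) _ _ (fun _ => rfl)

/-- Algebraic form: let G be a finite group with order invertible in the field k, ρ a linear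
representation of G on a k-vector space V, and ω a nondegenerate bilinear form on V invariant under
G. Then ω restricted to the fixed subspace V^G is nondegenerate (for a finite group of symplectic
automorphisms, the fixed subspace is a symplectic subspace). -/
theorem result (k : Type u) [Field k]
    (G : Type u) [Group G] [Finite G] (hG : (Nat.card G : k) ≠ 0)
    (V : Type u) [AddCommGroup V] [Module k V] (ρ : Representation k G V)
    (ω : LinearMap.BilinForm k V) (hω : ω.Nondegenerate)
    (hinv : ∀ (g : G) (v w : V), ω (ρ g v) (ρ g w) = ω v w) :
    (ω.restrict ρ.invariants).Nondegenerate := by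
  classical
  haveI : Fintype G := Fintype.ofFinite G
  have hcard : (Fintype.card G : k) ≠ 0 := by
    rwa [Nat.card_eq_fintype_card] at hG
  constructor
  · intro v hv
    have hv0 : (v : V) = 0 := by
      apply hω.1
      intro w
      have h1 := hv ⟨∑ g : G, ρ g w, sum_mem_invariants ρ w⟩
      simp only [LinearMap.BilinForm.restrict_apply, LinearMap.domRestrict_apply] at h1
      rw [map_sum] at h1
      have h2 : ∀ g : G, ω (v : V) (ρ g w) = ω (v : V) w := by
        intro g
        have := hinv g (v : V) w
        rwa [v.2 g] at this
      simp_rw [h2] at h1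
      rw [Finset.sum_const, Finset.card_univ, nsmul_eq_mul] at h1
      exact (mul_eq_zero.mp h1).resolve_left hcard
    exact Subtype.ext hv0
  · intro v hv
    have hv0 : (v : V) = 0 := by
      apply hω.2
      intro w
      have h1 := hv ⟨∑ g : G, ρ g w, sum_mem_invariants ρ w⟩
      simp only [LinearMap.BilinForm.restrict_apply, LinearMap.domRestrict_apply] at h1
      rw [map_sum, LinearMap.sum_apply] at h1
      have h2 : ∀ g : G, ω (ρ g w) (v : V) = ω w (v : V) := by
        intro g
        have := hinv g w (v : V)
        rwa [v.2 g] at this
      simp_rw [h2] at h1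
      rw [Finset.sum_const, Finset.card_univ, nsmul_eq_mul] at h1
      exact (mul_eq_zero.mp h1).resolve_left hcard
    exact Subtype.ext hv0

end Groth.Agent.S19443
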