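import Groth.Statements.S19448
import Groth.Agent.Lib.Helper29.Unip

set_option autoImplicit false
universe u
open CAlg

namespace Groth.Agent.S19448

/-- Let k be a field, A a Noetherian local k-algebra with maximal ideal M and residue field k, and G a
finite group with |G| ≠ 0 in k acting on A by k-algebra automorphisms. An element of G which acts
trivially on M/M^2 acts trivially on A; in other words the stabilizer acts faithfully on the
cotangent space whenever it acts faithfully on the local ring. -/
theorem result (k : Type u) [Field k] (A : Type u) [CommRing A]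
    [Algebra k A] [IsLocalRing A] [IsNoetherianRing A]
    (hres : Function.Surjective (algebraMap k (IsLocalRing.ResidueField A)))
    (G : Type u) [Group G] [Finite G] [MulSemiringAction G A] [SMulCommClass G k A]
    (hG : (Nat.card G : k) ≠ 0) (g : G)
    (hg : ∀ a ∈ IsLocalRing.maximalIdeal A, g • a - a ∈ IsLocalRing.maximalIdeal A ^ 2) (a : A) :
    g • a = a := by
  have hM : (⨅ j, (IsLocalRing.maximalIdeal A) ^ j) = ⊥ :=
    Ideal.iInf_pow_eq_bot_of_isLocalRing _ Ideal.IsPrime.ne_top'
  have hnk : ((orderOf g : ℕ) : k) ≠ 0 := by
    intro h0
    obtain ⟨c, hc⟩ := orderOf_dvd_natCard g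
    apply hG
    rw [hc, Nat.cast_mul, h0, zero_mul]
  have key : MulSemiringAction.toRingHom G A g a = a := by
    refine Groth.Agent.Helper29.Unip.eq_self_of_iterate_eq (IsLocalRing.maximalIdeal A) hM
      (MulSemiringAction.toRingHom G A g) (orderOf g) ?_ ?_ ?_ ?_ a
    · intro j x hx
      have : x = algebraMap k A ((orderOf g : k)⁻¹) * ((orderOf g : A) * x) := by
        rw [← mul_assoc, ← map_natCast (algebraMap k A) (orderOf g), ← map_mul,
          inv_mul_cancel₀ hnk, map_one, one_mul]
      rw [this]
      exact Ideal.mul_mem_left _ _ hx
    · intro b
      have : ∀ m : ℕ, (MulSemiringAction.toRingHom G A g)^[m] b = g ^ m • b := by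
        intro m
        induction m with
        | zero => simp
        | succ m ih =>
          rw [Function.iterate_succ_apply', ih, pow_succ', mul_smul]
          rfl
      rw [this, pow_orderOf_eq_one, one_smul]
    · intro b
      obtain ⟨c, hc⟩ := hres (IsLocalRing.residue A b)
      have hmM : b - algebraMap k A c ∈ IsLocalRing.maximalIdeal A := by
        rw [← IsLocalRing.residue_eq_zero_iff, map_sub, ← hc, sub_eq_zero,
          IsScalarTower.algebraMap_apply k A (IsLocalRing.ResidueField A)]
        rfl
      have hgc : g • algebraMap k A c = algebraMap k A c := by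
        rw [Algebra.algebraMap_eq_smul_one, smul_comm, smul_one]
      have e : MulSemiringAction.toRingHom G A g b - b
          = g • (b - algebraMap k A c) - (b - algebraMap k A c) := by
        rw [MulSemiringAction.toRingHom_apply, smul_sub, hgc]; ring
      rw [e]
      exact Ideal.pow_le_self two_ne_zero (hg _ hmM)
    · intro b hb
      exact hg b hb
  exact key


end Groth.Agent.S19448
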