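import Groth.Statements.S19458
import Groth.Agent.Lib.Helper23.ZeroSch5
import Groth.Agent.Lib.Helper13.GenLocusQcqs

set_option autoImplicit false
universe u
open CategoryTheory CategoryTheory.Limits AlgebraicGeometry TopologicalSpace Opposite
open Mero

namespace Groth.Agent.S19458

open Groth.Agent.Helper23.ZeroSch Groth.Agent.Helper13.MeroLib in
theorem divCond_one_of_effective {X : Scheme.{u}} (D : Mero.Divisor X) (hD : Mero.IsEffective D)
    (y : X) : Mero.DivCond D y 1 := by
  obtain ⟨a, ha⟩ := hD y
  intro g' hg'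
  have h1 : ((IsLocalization.map_units (Mero.KStalk X y) a).unit)⁻¹ * g' ∈ Mero.stalkUnits X y :=
    QuotientGroup.eq.1 (ha.symm.trans hg')
  obtain ⟨u, hu⟩ := h1
  have h3 : (g' : Mero.KStalk X y) = ((IsLocalization.map_units (Mero.KStalk X y) a).unit :
      (Mero.KStalk X y)ˣ) * ((((IsLocalization.map_units (Mero.KStalk X y) a).unit)⁻¹ * g' :
        (Mero.KStalk X y)ˣ) : Mero.KStalk X y) := by
    rw [← Units.val_mul, mul_inv_cancel_left]
  rw [one_mul, h3, ← hu]
  exact ⟨(a : X.presheaf.stalk y) * (u : X.presheaf.stalk y), map_mul _ _ _⟩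

/-- Let X be an integral scheme, L an invertible O_X-module and D an effective Cartier divisor on X (a
global section of the sheaf of units of K_X modulo units of O_X whose germ at every point is the
class of a germ of a regular function) such that O_X(D) is isomorphic to L. Then there is a nonzero
global section s of L, given as a nonzero morphism O_X → L, whose zero scheme Z(s) is D: around
every point of X, on some affine open neighbourhood, the ideal of Z(s) is generated by a regular
function whose classes are the germs of D there. (The published statement is for an irreducible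
variety over an algebraically closed field; this row states it for an arbitrary integral scheme.) -/
theorem result (X : Scheme.{u}) [AlgebraicGeometry.IsIntegral X]
    (L : X.Modules) (hL : PicF.IsInvertible L) (D : Mero.Divisor X) (hD : Mero.IsEffective D)
    (e : L ≅ Mero.divMod D) :
    ∃ s : Coh.structureModule X ⟶ L, s ≠ 0 ∧ Mero.IsDivOfIdeal D (PicF2.zeroScheme L s) := by
  open Groth.Agent.Helper23.ZeroSch Groth.Agent.Helper13.MeroLib Groth.Agent.Helper13.GenLoc in
  let t : Γ(Mero.divMod D, ⊤) := ⟨(1 : Γ(Mero.kmod X, ⊤)).1, (1 : Γ(Mero.kmod X, ⊤)).2,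
    fun y => divCond_one_of_effective D hD y.1⟩
  have ht : (Mero.divModι D).app ⊤ t = 1 := rfl
  let s₁ : Γ(L, ⊤) := e.inv.app ⊤ t
  have hes : e.hom.app ⊤ s₁ = t := hom_inv_app e ⊤ t
  have hs₁ : s₁ ≠ 0 := by
    intro h0
    have h2 : (Mero.divModι D).app ⊤ (e.hom.app ⊤ s₁) = 1 := by rw [hes]; exact ht
    rw [h0] at h2
    have h3 : (Mero.divModι D).app ⊤ (e.hom.app ⊤ (0 : Γ(L, ⊤))) = 0 := by
      rw [map_zero (e.hom.app ⊤).hom]
      exact map_zero ((Mero.divModι D).app ⊤).hom
    have h4 : (1 : Γ(Mero.kmod X, ⊤)) = 0 := h2.symm.trans h3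
    have h5 : (1 : Γ(X, ⊤)) = 0 :=
      toK_injective ⊤ ((map_one _).trans (h4.trans (map_zero _).symm))
    exact one_ne_zero h5
  have hsec : PicF2.secVal L (Groth.Agent.Helper13.LocFree.homOfSec L s₁) ⊤ = s₁ := sec_homOfSec L s₁
  have hs₁' : PicF2.secVal L (Groth.Agent.Helper13.LocFree.homOfSec L s₁) ⊤ ≠ 0 := by rw [hsec]; exact hs₁
  refine ⟨Groth.Agent.Helper13.LocFree.homOfSec L s₁, ?_, ?_⟩
  · intro h0
    apply hs₁'
    rw [h0]
    rfl
  · apply isDivOfIdeal_of_iso hL e _ hs₁'
    rw [hsec, hes]
    exact ht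

end Groth.Agent.S19458
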