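import Groth.Statements.S19479
import Groth.Agent.Lib.Helper29.H12ComodSemisimple

set_option autoImplicit false
universe u v w
open HopfRep

namespace Groth.Agent.S19479

open Groth.Agent.Helper29.H12Copy

open TensorProduct in
/-- Let K be a field, C a K-coalgebra and V a right C-comodule. The following are equivalent: (i) V is
the internal direct sum of a family of simple subcomodules, i.e. there is an independent family of
subcomodules W_i with sum V, each W_i nonzero and having no subcomodules inside it other than 0 and
W_i; (ii) every subcomodule of V has a complementary subcomodule. A subcomodule is a subspace W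
whose coaction lands in the image of W ⊗ C. (The source states this for left comodules; a left
comodule over C is a right comodule over the co-opposite coalgebra, so the statement is the same.) -/
theorem result {K : Type u} {C : Type v} [Field K]
    [AddCommGroup C] [Module K C] [Coalgebra K C] (V : Type w) [AddCommGroup V] [Module K V] [HopfRep.Comod K C V] :
    (∃ (ι : Type w) (W : ι → Submodule K V), iSupIndep W ∧ iSup W = ⊤ ∧ ∀ i,
        HopfRep.IsSubcomod (k := K) (A := C) (W i) ∧ W i ≠ ⊥ ∧
          ∀ W' : Submodule K V, HopfRep.IsSubcomod (k := K) (A := C) W' → W' ≤ W i → W' = ⊥ ∨ W' = W i) ↔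
      HopfRep.IsSemisimpleComod K C V := by
  constructor
  · rintro ⟨ι, W, -, hsup, hW⟩ U hU
    obtain ⟨s, hsA, -, hcompl⟩ := exists_subset_sSupIndep_isCompl (α := Submodule K V)
      (fun W => HopfRep.IsSubcomod (k := K) (A := C) W)
      (fun _ _ => isSubcomod_inf) (fun _ _ => isSubcomod_sup) isSubcomod_sSup
      (Set.range W) (by rintro _ ⟨i, rfl⟩; exact ⟨(hW i).1, (hW i).2.2⟩)
      (by rw [sSup_range]; exact hsup) U hU
    refine ⟨sSup s, isSubcomod_sSup s fun x hx => ?_, hcompl⟩
    obtain ⟨i, rfl⟩ := hsA hx
    exact (hW i).1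
  · intro hss
    have hAtop : sSup {S : Submodule K V | ComodSS.IsSimpleSub K C S} = ⊤ := by
      obtain ⟨T', hT', hc⟩ := hss (sSup {S : Submodule K V | ComodSS.IsSimpleSub K C S})
        (isSubcomod_sSup _ fun S hS => hS.1)
      by_contra hne
      have hT'0 : T' ≠ ⊥ := by
        rintro rfl
        exact hne (by simpa using hc.sup_eq_top)
      obtain ⟨v, hv, hv0⟩ := Submodule.exists_mem_ne_zero_of_ne_bot hT'0
      have hgle : gen (k := K) (C := C) v ≤ T' := by
        refine Submodule.span_le.mpr ?_
        rintro _ ⟨l, rfl⟩
        exact slice_mem_of_mem_range T' l _ (hT' v hv)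
      have := gen_finite (k := K) (C := C) v
      have hg0 : gen (k := K) (C := C) v ≠ ⊥ := by
        intro h0
        have := mem_gen (k := K) (C := C) v
        rw [h0, Submodule.mem_bot] at this
        exact hv0 this
      obtain ⟨S, hSle, hS⟩ :=
        ComodSS.exists_simple_le (gen (k := K) (C := C) v) (gen_isSubcomod v) hg0
      have h1 : S ≤ sSup {S : Submodule K V | ComodSS.IsSimpleSub K C S} := le_sSup hS
      have h2 : S ≤ T' := hSle.trans hgle
      have h3 : S ≤ ⊥ := by rw [← hc.inf_eq_bot]; exact le_inf h1 h2
      exact hS.2.1 (le_bot_iff.1 h3)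
    obtain ⟨s, hsA, hsind, hcompl⟩ := exists_subset_sSupIndep_isCompl (α := Submodule K V)
      (fun W => HopfRep.IsSubcomod (k := K) (A := C) W)
      (fun _ _ => isSubcomod_inf) (fun _ _ => isSubcomod_sup) isSubcomod_sSup
      {S : Submodule K V | ComodSS.IsSimpleSub K C S} (fun a ha => ⟨ha.1, ha.2.2⟩) hAtop ⊥
      isSubcomod_bot
    have hstop : sSup s = ⊤ := by simpa using hcompl.sup_eq_top
    refine ⟨↥s, fun i => (i : Submodule K V), ?_, ?_, fun i => ?_⟩
    · exact (sSupIndep_iff s).1 hsind
    · rw [← sSup_eq_iSup']; exact hstop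
    · exact hsA i.2


end Groth.Agent.S19479
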