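import Groth.Statements.S19502
import Mathlib

set_option autoImplicit false
universe u
open W4c3ghconstell

namespace Groth.Agent.S19502

theorem tsum_ite_split {ι : Type u} [DecidableEq ι] (a : ι → ℝ) (ha : Summable a) (D D' : Finset ι)
    (hDD' : D ⊆ D') :
    (∑' i, if i ∈ D then (0 : ℝ) else a i) =
      (∑' i, if i ∈ D' then (0 : ℝ) else a i) + ∑ i ∈ D' \ D, a i := by
  have h1 : Summable (fun i => if i ∈ D' then (0 : ℝ) else a i) := by
    have := ha.indicator ((D' : Set ι)ᶜ)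
    refine this.congr ?_
    intro i
    by_cases hi : i ∈ D' <;> simp [hi]
  have h2 : Summable (fun i => if i ∈ D' \ D then a i else (0 : ℝ)) := by
    apply summable_of_ne_finset_zero (s := D' \ D)
    intro i hi
    rw [if_neg hi]
  have h3 : (fun i => if i ∈ D then (0 : ℝ) else a i) =
      fun i => (if i ∈ D' then (0 : ℝ) else a i) + (if i ∈ D' \ D then a i else (0 : ℝ)) := by
    funext i
    by_cases hi : i ∈ D
    · have : i ∈ D' := hDD' hi
      simp [hi, this]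
    · by_cases hi' : i ∈ D'
      · simp [hi, hi']
      · simp [hi, hi']
  rw [h3, h1.tsum_add h2]
  congr 1
  rw [tsum_eq_sum (s := D' \ D) (fun i hi => by rw [if_neg hi])]
  apply Finset.sum_congr rfl
  intro i hi
  rw [if_pos hi]

theorem tsum_ite_compl {ι : Type u} [DecidableEq ι] (g : ι → ℝ) (hg : Summable g) (D : Finset ι) :
    (∑' i, g i) - ∑ i ∈ D, g i = ∑' i, if i ∈ D then (0 : ℝ) else g i := by
  have := tsum_ite_split g hg ∅ D (Finset.empty_subset D)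
  simp only [Finset.notMem_empty, if_false, Finset.sdiff_empty] at this
  rw [this]
  ring

/-- Let ι index the irreducible representations, θ : ι → ℚ a weight which is negative exactly on the
finite set D₋, h h' : ι → ℕ with h' ≤ h pointwise (the isotypic dimensions of an object and of a
sub-object) and Σ_i θ_i h_i summable. For a finite set D of indices put S_D = Σ_{i ∉ D} θ_i h_i, d =
#(D ∖ D₋) and θ̃_D = Σ_{i ∈ D} θ_i h'_i + (S_D / d) · Σ_{i ∈ D ∖ D₋} h'_i / h_i, the modified weight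
attached to the parameters chosen for D (a quotient by zero is read as zero). Then for finite sets
D₋ ⊆ D ⊆ D̃ contained in the locus θ ≠ 0: (first error term) θ̃_{D̃} − θ̃_D = Σ_{τ ∈ D̃ ∖ D} (θ_τ
h_τ + S_{D̃}/d̃) · (h'_τ/h_τ − (1/d) Σ_{σ ∈ D ∖ D₋} h'_σ/h_σ); (second error term) Σ_i θ_i h'_i −
θ̃_D = Σ_{τ ∉ D} θ_τ h_τ · (h'_τ/h_τ − (1/d) Σ_{σ ∈ D ∖ D₋} h'_σ/h_σ). -/
theorem result {ι : Type u} [DecidableEq ι]
    (θ : ι → ℚ) (h h' : ι → ℕ) (hle : ∀ i, h' i ≤ h i) (hfin : {i | θ i < 0}.Finite)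
    (hsum : Summable (fun i => (θ i : ℝ) * (h i : ℝ))) (D D' : Finset ι)
    (hDm : hfin.toFinset ⊆ D) (hDD' : D ⊆ D') (hsupp : ∀ i ∈ D', θ i ≠ 0) :
    (((∑ i ∈ D', (θ i : ℝ) * (h' i : ℝ)) + ((∑' i, if i ∈ D' then (0 : ℝ) else (θ i : ℝ) * (h i : ℝ)) / ((D' \ hfin.toFinset).card : ℝ)) * (∑ σ ∈ D' \ hfin.toFinset, ((h' σ : ℝ) / (h σ : ℝ)))) - ((∑ i ∈ D, (θ i : ℝ) * (h' i : ℝ)) + ((∑' i, if i ∈ D then (0 : ℝ) else (θ i : ℝ) * (h i : ℝ)) / ((D \ hfin.toFinset).card : ℝ)) * (∑ σ ∈ D \ hfin.toFinset, ((h' σ : ℝ) / (h σ : ℝ)))) =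
      ∑ τ ∈ D' \ D, ((θ τ : ℝ) * (h τ : ℝ) + (∑' i, if i ∈ D' then (0 : ℝ) else (θ i : ℝ) * (h i : ℝ)) / ((D' \ hfin.toFinset).card : ℝ)) *
        (((h' τ : ℝ) / (h τ : ℝ)) - (1 / ((D \ hfin.toFinset).card : ℝ)) * (∑ σ ∈ D \ hfin.toFinset, ((h' σ : ℝ) / (h σ : ℝ))))) ∧
    ((∑' i, (θ i : ℝ) * (h' i : ℝ)) - ((∑ i ∈ D, (θ i : ℝ) * (h' i : ℝ)) + ((∑' i, if i ∈ D then (0 : ℝ) else (θ i : ℝ) * (h i : ℝ)) / ((D \ hfin.toFinset).card : ℝ)) * (∑ σ ∈ D \ hfin.toFinset, ((h' σ : ℝ) / (h σ : ℝ)))) =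
      ∑' τ, if τ ∈ D then (0 : ℝ) else (θ τ : ℝ) * (h τ : ℝ) *
        (((h' τ : ℝ) / (h τ : ℝ)) - (1 / ((D \ hfin.toFinset).card : ℝ)) * (∑ σ ∈ D \ hfin.toFinset, ((h' σ : ℝ) / (h σ : ℝ))))) := by
  classical
  set Dm := hfin.toFinset with hDmdef
  set a : ι → ℝ := fun i => (θ i : ℝ) * (h i : ℝ) with hadef
  set g : ι → ℝ := fun i => (θ i : ℝ) * (h' i : ℝ) with hgdef
  set b : ι → ℝ := fun i => (h' i : ℝ) / (h i : ℝ) with hbdef
  have hab : ∀ i, a i * b i = g i := by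
    intro i
    simp only [hadef, hbdef, hgdef]
    by_cases hi : h i = 0
    · have : h' i = 0 := Nat.le_zero.mp (hi ▸ hle i)
      simp [hi, this]
    · have : (h i : ℝ) ≠ 0 := by exact_mod_cast hi
      field_simp
  have hgsum : Summable g := by
    refine Summable.of_norm_bounded hsum.norm ?_
    intro i
    simp only [hgdef, hadef, norm_mul, Real.norm_natCast]
    apply mul_le_mul_of_nonneg_left _ (norm_nonneg _)
    exact_mod_cast hle i
  -- abbreviations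
  have hS := tsum_ite_split a hsum D D' hDD'
  set S' : ℝ := ∑' i, if i ∈ D' then (0 : ℝ) else a i with hS'def
  set SD : ℝ := ∑' i, if i ∈ D then (0 : ℝ) else a i with hSDdef
  have hdisj : Disjoint (D \ Dm) (D' \ D) := by
    rw [Finset.disjoint_left]
    intro i hi hi'
    exact (Finset.mem_sdiff.mp hi').2 (Finset.mem_sdiff.mp hi).1
  have hunion : D' \ Dm = (D \ Dm) ∪ (D' \ D) := by
    ext i
    simp only [Finset.mem_sdiff, Finset.mem_union]
    constructor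
    · rintro ⟨h1, h2⟩
      by_cases hi : i ∈ D
      · exact Or.inl ⟨hi, h2⟩
      · exact Or.inr ⟨h1, hi⟩
    · rintro (⟨h1, h2⟩ | ⟨h1, h2⟩)
      · exact ⟨hDD' h1, h2⟩
      · exact ⟨h1, fun h3 => h2 (hDm h3)⟩
  have hR : ∑ σ ∈ D' \ Dm, b σ = ∑ σ ∈ D \ Dm, b σ + ∑ σ ∈ D' \ D, b σ := by
    rw [hunion, Finset.sum_union hdisj]
  have hcard : ((D' \ Dm).card : ℝ) = ((D \ Dm).card : ℝ) + ((D' \ D).card : ℝ) := by
    rw [hunion, Finset.card_union_of_disjoint hdisj]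
    push_cast; rfl
  have hG : ∑ i ∈ D', g i = ∑ i ∈ D, g i + ∑ i ∈ D' \ D, g i := by
    rw [add_comm, Finset.sum_sdiff hDD']
  set R : ℝ := ∑ σ ∈ D \ Dm, b σ with hRdef
  set d : ℝ := ((D \ Dm).card : ℝ) with hddef
  set e : ℝ := ((D' \ D).card : ℝ) with hedef
  have hd0 : d = 0 → R = 0 := by
    intro hd
    have : (D \ Dm).card = 0 := by
      rw [hddef] at hd
      exact_mod_cast hd
    rw [hRdef, Finset.card_eq_zero.mp this, Finset.sum_empty]
  have hdnn : 0 ≤ d := Nat.cast_nonneg _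
  have henn : 0 ≤ e := Nat.cast_nonneg _
  constructor
  · -- first identity
    show ((∑ i ∈ D', g i) + (S' / ((D' \ Dm).card : ℝ)) * (∑ σ ∈ D' \ Dm, b σ)) -
        ((∑ i ∈ D, g i) + (SD / d) * R) =
      ∑ τ ∈ D' \ D, (a τ + S' / ((D' \ Dm).card : ℝ)) * (b τ - (1 / d) * R)
    rw [hcard, hR, hG, hS]
    have hexp : ∀ τ, (a τ + S' / (d + e)) * (b τ - (1 / d) * R) =
        g τ + (S' / (d + e)) * b τ - ((1 / d) * R) * a τ - (S' / (d + e)) * ((1 / d) * R) := by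
      intro τ
      rw [← hab τ]; ring
    rw [Finset.sum_congr rfl (fun τ _ => hexp τ)]
    rw [Finset.sum_sub_distrib, Finset.sum_sub_distrib, Finset.sum_add_distrib, ← Finset.mul_sum,
      ← Finset.mul_sum, Finset.sum_const, nsmul_eq_mul]
    show _ = _ - e * _
    by_cases hd : d = 0
    · rw [hd0 hd]; ring
    · have hde : d + e ≠ 0 := by positivity
      field_simp
      ring
  · -- second identity
    show (∑' i, g i) - ((∑ i ∈ D, g i) + (SD / d) * R) =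
      ∑' τ, if τ ∈ D then (0 : ℝ) else a τ * (b τ - (1 / d) * R)
    have h1 : (fun τ => if τ ∈ D then (0 : ℝ) else a τ * (b τ - (1 / d) * R)) =
        fun τ => (if τ ∈ D then (0 : ℝ) else g τ) - ((1 / d) * R) * (if τ ∈ D then (0 : ℝ) else a τ) := by
      funext τ
      by_cases hτ : τ ∈ D
      · simp [hτ]
      · simp only [hτ, if_false]
        rw [← hab τ]; ring
    have hs1 : Summable (fun τ => if τ ∈ D then (0 : ℝ) else g τ) := by
      have := hgsum.indicator ((D : Set ι)ᶜ)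
      refine this.congr ?_
      intro i
      by_cases hi : i ∈ D <;> simp [hi]
    have hs2 : Summable (fun τ => if τ ∈ D then (0 : ℝ) else a τ) := by
      have := hsum.indicator ((D : Set ι)ᶜ)
      refine this.congr ?_
      intro i
      by_cases hi : i ∈ D <;> simp [hi]
    rw [h1, hs1.tsum_sub (hs2.mul_left _), tsum_mul_left, ← tsum_ite_compl g hgsum D]
    ring


end Groth.Agent.S19502
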