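import Groth.Statements.S19507
import Groth.Agent.Lib.Helper12.FieldSm2
import Groth.Agent.Lib.Helper16.Sch.GrpSm1

set_option autoImplicit false
universe u
open CategoryTheory MonoidalCategory CartesianMonoidalCategory MonObj GrpObj AlgebraicGeometry
open AlgGrp

namespace Groth.Agent.S19507

/-- (iv) ⇒ (i): let k be a field, G a k-group scheme of finite type and e ∈ G the identity point (the
image of the unit section Spec k → G). If the local ring of G at e is regular, then G is smooth over
k. (The corollary lists six equivalent conditions; (i) ⇒ (iv) is the standard fact that smooth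
schemes over a field have regular local rings, and the remaining conditions concern the base change
to an algebraic closure and the completed local ring.) -/
theorem result (k : Type u) [Field k]
    (G : Over (Spec (CommRingCat.of k))) [GrpObj G] [LocallyOfFiniteType G.hom] [QuasiCompact G.hom]
    (e : G.left) (he : e ∈ Set.range (η[G]).left.base)
    (hreg : IsRegularLocalRing (G.left.presheaf.stalk e)) : Smooth G.hom := by
  obtain ⟨pt, rfl⟩ := he
  haveI := Groth.Agent.Helper12.FieldSm.lfp G.hom
  apply Groth.Agent.Helper16.GrpSm.smooth_of_smoothLocus_nonempty G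
  refine ⟨η[G].left pt, ?_⟩
  rw [SetLike.mem_coe, Groth.Agent.Helper12.FieldSm.mem_smoothLocus_iff]
  letI := (Groth.Agent.Helper12.FieldSm.stalkHom G.hom (η[G].left pt)).toAlgebra
  haveI := Groth.Agent.Helper12.FieldSm.essFiniteType_stalk G.hom (η[G].left pt)
  haveI : IsRegularLocalRing (G.left.presheaf.stalk (η[G].left pt)) := hreg
  apply Groth.Agent.Helper12.FieldSm.formallySmooth_of_regular_of_rational
  apply Groth.Agent.Helper12.FieldSm.surjective_algebraMap_residueField_of_retraction k _ _
    ((η[G].left.stalkMap pt).hom)
  have h1 := Groth.Agent.Helper12.FieldSm.stalkMap_comp_stalkHom η[G].left G.hom pt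
  have h2 : η[G].left ≫ G.hom = 𝟙 _ := Over.w η[G]
  change Function.Surjective ((η[G].left.stalkMap pt).hom.comp
    (Groth.Agent.Helper12.FieldSm.stalkHom G.hom (η[G].left pt)))
  rw [h1]
  have h3 : Groth.Agent.Helper12.FieldSm.stalkHom (η[G].left ≫ G.hom) pt =
      Groth.Agent.Helper12.FieldSm.stalkHom (𝟙 (Spec (CommRingCat.of k))) pt := by
    rw [h2]
    rfl
  rw [h3]
  exact (Groth.Agent.Helper12.FieldSm.stalkHom_id_bijective pt).2

end Groth.Agent.S19507
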