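import Groth.Statements.S19514

set_option autoImplicit false
universe u
open CategoryTheory CategoryTheory.Limits AlgebraicGeometry
open Variety

namespace Groth.Agent.S19514

/-- Let k be a field and f : X → Y a k-morphism between proper k-schemes which is a fibration, i.e. O_Y
→ f_*O_X is an isomorphism (Γ(V, O_Y) → Γ(f⁻¹V, O_X) bijective for every open V ⊆ Y). If X is
geometrically integral over k, then so is Y. (The assertion of (iii) for geometric normality is not
stated here.) -/
theorem result (k : Type u) [Field k] (X Y : Scheme.{u})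
    [X.Over (Spec (CommRingCat.of k))] [Y.Over (Spec (CommRingCat.of k))] [IsProper (X ↘ Spec (CommRingCat.of k))] [IsProper (Y ↘ Spec (CommRingCat.of k))]
    (f : X ⟶ Y) (hf : f ≫ (Y ↘ Spec (CommRingCat.of k)) = X ↘ Spec (CommRingCat.of k)) (hfib : ∀ V : Y.Opens, IsIso (f.app V))
    [GeometricallyIntegral (X ↘ Spec (CommRingCat.of k))] : GeometricallyIntegral (Y ↘ Spec (CommRingCat.of k)) := by
  have hfqc : QuasiCompact f := by
    have : QuasiCompact (f ≫ (Y ↘ Spec (CommRingCat.of k))) := by rw [hf]; infer_instance
    exact QuasiCompact.of_comp f (Y ↘ Spec (CommRingCat.of k))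
  have hfdom : IsSchemeTheoreticallyDominant f := by
    rw [isSchemeTheoreticallyDominant_iff]
    refine Scheme.IdealSheafData.ext ?_
    funext U
    rw [Scheme.Hom.ker_apply]
    have : IsIso (f.app U.1) := hfib U.1
    simp only [Scheme.IdealSheafData.ideal_bot, Pi.bot_apply]
    rw [← RingHom.injective_iff_ker_eq_bot]
    exact ((ConcreteCategory.isIso_iff_bijective (f.app U.1)).mp this).1
  constructor
  intro K _ y Z fst snd h
  have hflat : Flat fst := MorphismProperty.of_isPullback (P := @Flat) h.flip inferInstance
  have hsq : IsPullback (pullback.fst f fst) (pullback.snd f fst ≫ snd)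
      (X ↘ Spec (CommRingCat.of k)) y := by
    rw [← hf]
    exact (IsPullback.of_hasPullback f fst).paste_vert h
  have hXK : IsIntegral (pullback f fst) :=
    GeometricallyIntegral.geometrically_isIntegral (f := X ↘ Spec (CommRingCat.of k)) y _ _ hsq
  have hdomK : IsSchemeTheoreticallyDominant (pullback.snd f fst) := inferInstance
  have hqcK : QuasiCompact (pullback.snd f fst) := inferInstance
  have hred : IsReduced Z := IsSchemeTheoreticallyDominant.isReduced (pullback.snd f fst)
  have hd : IsDominant (pullback.snd f fst) := inferInstance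
  rw [isIntegral_iff_irreducibleSpace_and_isReduced]
  refine ⟨?_, hred⟩
  have hirr : IsIrreducible (Set.univ : Set ↥(pullback f fst)) :=
    IrreducibleSpace.isIrreducible_univ _
  have h2 := (hirr.image _ (pullback.snd f fst).continuous.continuousOn).closure
  rw [Set.image_univ, (pullback.snd f fst).denseRange.closure_eq] at h2
  have : PreirreducibleSpace ↥Z := ⟨h2.2⟩
  exact ⟨⟨h2.1.some⟩⟩

end Groth.Agent.S19514
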