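import Groth.Statements.S19530
import Mathlib
import Groth.Agent.S14765
import Groth.Agent.Lib.Helper4.ValChain

set_option autoImplicit false
universe u
open CategoryTheory CategoryTheory.Limits AlgebraicGeometry
open Subtr

namespace Groth.Agent.S19530

open CategoryTheory.Limits

/-- Finite chains lift along a surjective generalizing map. -/
theorem lift_chain {A B : Type*} [TopologicalSpace A] [TopologicalSpace B] (φ : A → B)
    (hg : GeneralizingMap φ) (hs : Function.Surjective φ) :
    ∀ (n : ℕ) (b : ℕ → B), (∀ k < n, b k ⤳ b (k + 1)) →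
      ∃ a : ℕ → A, (∀ k < n, a k ⤳ a (k + 1)) ∧ ∀ k ≤ n, φ (a k) = b k := by
  intro n
  induction n with
  | zero =>
    intro b _
    obtain ⟨a₀, ha₀⟩ := hs (b 0)
    refine ⟨fun _ => a₀, fun k hk => absurd hk (Nat.not_lt_zero k), fun k hk => ?_⟩
    obtain rfl : k = 0 := Nat.le_zero.1 hk
    exact ha₀
  | succ n ih =>
    intro b hb
    obtain ⟨a', ha'1, ha'2⟩ := ih (fun k => b (k + 1)) (fun k hk => hb (k + 1) (Nat.succ_lt_succ hk))
    have h01 : b 0 ⤳ φ (a' 0) := by
      rw [ha'2 0 (Nat.zero_le n)]
      exact hb 0 (Nat.succ_pos n)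
    obtain ⟨a₀, ha₀, ha₀'⟩ := hg h01
    refine ⟨fun k => Nat.casesOn k a₀ a', ?_, ?_⟩
    · intro k hk
      cases k with
      | zero => exact ha₀
      | succ k => exact ha'1 k (Nat.lt_of_succ_lt_succ hk)
    · intro k hk
      cases k with
      | zero => exact ha₀'
      | succ k => exact ha'2 k (Nat.le_of_succ_le_succ hk)

theorem specializes_of_chain {A : Type*} [TopologicalSpace A] (a : ℕ → A) (n : ℕ)
    (h : ∀ k < n, a k ⤳ a (k + 1)) : ∀ i j, i ≤ j → j ≤ n → a i ⤳ a j := by
  intro i j hij hjn
  induction j, hij using Nat.le_induction with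
  | base => exact specializes_rfl
  | succ j hij ih =>
    exact (ih (Nat.le_of_succ_le hjn)).trans (h j hjn)


/-- Let f : X ⟶ Y be a morphism of schemes such that every base change of f has the lifting property for
ordered pairs of points (every point together with a specialization of it is the image of such a
pair). Then every finite chain of points y_0, y_1, …, y_n of Y, in which y_j is a specialization of
y_i whenever i ≤ j, lifts to a chain in X: there are points x_0, …, x_n of X with x_j a
specialization of x_i for i ≤ j and f(x_i) = y_i for every i. (The published statement is for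
universally subtrusive f, which adds submersiveness for the constructible topologies, and for
arbitrary chains having a lower bound in Y; this row keeps the pair-lifting property alone and
finite chains, whose most special member is a lower bound.) -/
theorem result {X Y : Scheme.{u}} (f : X ⟶ Y)
    (hf : Subtr.UnivSSubtrusive f) (n : ℕ) (y : Fin (n + 1) → Y)
    (hy : ∀ i j : Fin (n + 1), i ≤ j → y i ⤳ y j) :
    ∃ x : Fin (n + 1) → X, (∀ i j : Fin (n + 1), i ≤ j → x i ⤳ x j) ∧ ∀ i, f (x i) = y i := by
  let y' : ℕ → Y := fun k => y ⟨min k n, by omega⟩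
  have hy' : ∀ k < n, y' k ⤳ y' (k + 1) := by
    intro k hk
    apply hy
    show min k n ≤ min (k + 1) n
    omega
  obtain ⟨W, _, _, _, g, p, hp1, hp2, -⟩ :=
    Groth.Agent.Helper4.ValChain.exists_valuationRing_chain y' n hy'
  have hfW : Subtr.UnivSSubtrusive (pullback.snd f g) := by
    intro X' Y' i₁ i₂ f' hpb
    exact hf (i₁ ≫ pullback.fst f g) (i₂ ≫ g) f'
      (hpb.paste_vert (IsPullback.of_hasPullback f g).flip)
  obtain ⟨Z, i, _, hfl, hsj⟩ := ((Groth.Agent.S14765.result W (pullback.snd f g)).out 0 5).1 hfW
  have hgen : GeneralizingMap (i ≫ pullback.snd f g) := Flat.generalizingMap _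
  obtain ⟨z, hz1, hz2⟩ := lift_chain (i ≫ pullback.snd f g) hgen
    (i ≫ pullback.snd f g).surjective n p hp1
  let u : Z ⟶ X := i ≫ pullback.fst f g
  have hu : u ≫ f = (i ≫ pullback.snd f g) ≫ g := by
    simp only [u, Category.assoc, pullback.condition]
  have hzc := specializes_of_chain z n hz1
  refine ⟨fun k => u (z k.val), ?_, ?_⟩
  · intro a b hab
    exact (hzc a.val b.val hab (Nat.le_of_lt_succ b.isLt)).map u.continuous
  · intro a
    have ha : a.val ≤ n := Nat.le_of_lt_succ a.isLt
    show f (u (z a.val)) = y a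
    rw [← Scheme.Hom.comp_apply, hu, Scheme.Hom.comp_apply, hz2 a.val ha, hp2 a.val ha]
    show y ⟨min a.val n, _⟩ = y a
    congr 1
    exact Fin.ext (Nat.min_eq_left ha)

end Groth.Agent.S19530
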