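import Groth.Statements.S19540
import Mathlib

set_option autoImplicit false
open CategoryTheory CategoryTheory.Limits Opposite
universe w v u
open CohSite

namespace Groth.Agent.S19540

section helpers

variable {C : Type u} [Category.{v} C] (J : GrothendieckTopology C)
  [HasSheafify J AddCommGrpCat.{w}] [J.WEqualsLocallyBijective AddCommGrpCat.{w}]

/-- Sections over `U`. -/
noncomputable abbrev ΓU (U : C) : Sheaf J AddCommGrpCat.{w} ⥤ AddCommGrpCat.{w} :=
  sheafToPresheaf J AddCommGrpCat.{w} ⋙ (evaluation Cᵒᵖ AddCommGrpCat.{w}).obj (op U)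

instance (U : C) : (ΓU J U).Additive where
  map_add := by intros; rfl

instance (U : C) : PreservesFiniteLimits (ΓU J U) := by
  have : PreservesLimitsOfSize.{0, 0} (sheafToPresheaf J AddCommGrpCat.{w}) :=
    (sheafificationAdjunction J AddCommGrpCat.{w}).rightAdjoint_preservesLimits
  have : PreservesFiniteLimits (sheafToPresheaf J AddCommGrpCat.{w}) :=
    PreservesLimitsOfSize.preservesFiniteLimits _
  infer_instance

lemma surj_of_wc {W : C}
    (hW : ∀ (P Q : Sheaf J (Type w)) (ψ : P ⟶ Q), Epi ψ → Function.Surjective (ψ.hom.app (op W)))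
    {M N : Sheaf J AddCommGrpCat.{w}} (g : M ⟶ N) [Epi g] :
    Function.Surjective (g.hom.app (op W)) := by
  have h1 : Sheaf.IsLocallySurjective g := (Sheaf.isLocallySurjective_iff_epi' (φ := g)).2 inferInstance
  let g' := (sheafCompose J (forget AddCommGrpCat.{w})).map g
  have h2 : Sheaf.IsLocallySurjective g' :=
    (Presheaf.isLocallySurjective_iff_whisker_forget J g.hom).1 h1
  have h3 : Epi g' := inferInstance
  exact hW _ _ g' h3

/-- The complex `ker g → G → H`. -/
noncomputable abbrev kerSC (S : ShortComplex (Sheaf J AddCommGrpCat.{w})) :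
    ShortComplex (Sheaf J AddCommGrpCat.{w}) :=
  ShortComplex.mk (kernel.ι S.g) S.g (kernel.condition S.g)

lemma kerSC_exact (S : ShortComplex (Sheaf J AddCommGrpCat.{w})) : (kerSC J S).Exact :=
  ShortComplex.exact_kernel S.g

lemma kerSC_map_exact (S : ShortComplex (Sheaf J AddCommGrpCat.{w})) (U : C) :
    ((kerSC J S).map (ΓU J U)).Exact :=
  (kerSC_exact J S).map_of_mono_of_preservesKernel (ΓU J U)
    (by dsimp; infer_instance) inferInstance

lemma ι_injective (S : ShortComplex (Sheaf J AddCommGrpCat.{w})) (U : C) :
    Function.Injective ((kernel.ι S.g).hom.app (op U)) := by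
  have : Mono ((ΓU J U).map (kernel.ι S.g)) := inferInstance
  exact (AddCommGrpCat.mono_iff_injective _).1 this

end helpers

/-- Let (C, J) be a site and B a class of objects of C, each weakly contractible (every epimorphism of
sheaves of sets, valued in a fixed universe, is surjective on sections over it), such that every
object V of C has a covering sieve all of whose arrows factor through some object of B. Then a
three-term complex F ⟶ G ⟶ H of abelian sheaves on (C, J) is exact if and only if for every U in B
the sequence of section groups F(U) ⟶ G(U) ⟶ H(U) is exact. (The published statement is for sheaves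
of modules over a sheaf of rings O; this row is the case of the constant sheaf of rings ℤ, i.e.
abelian sheaves, to which exactness questions for O-modules reduce. The universe set-up assumes that
abelian sheafification exists and inverts exactly the locally bijective maps, as on any small site.) -/
theorem result
    {C : Type u} [Category.{v} C] (J : GrothendieckTopology C) [HasSheafify J AddCommGrpCat.{w}]
    [J.WEqualsLocallyBijective AddCommGrpCat.{w}]
    (B : C → Prop)
    (hB : ∀ U : C, B U → ∀ (P Q : Sheaf J (Type w)) (ψ : P ⟶ Q), Epi ψ → Function.Surjective (ψ.hom.app (op U)))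
    (hcov : ∀ V : C, ∃ S : Sieve V, S ∈ J V ∧ ∀ ⦃W : C⦄ (f : W ⟶ V), S.arrows f →
      ∃ (U : C) (g : W ⟶ U) (h : U ⟶ V), B U ∧ g ≫ h = f)
    (S : ShortComplex (Sheaf J AddCommGrpCat.{w})) :
    S.Exact ↔ ∀ U : C, B U →
      (S.map (sheafToPresheaf J AddCommGrpCat.{w} ⋙ (evaluation Cᵒᵖ AddCommGrpCat.{w}).obj (op U))).Exact := by
  rw [S.exact_iff_epi_kernel_lift]
  constructor
  · intro hS U hU
    rw [ShortComplex.ab_exact_iff]
    intro y hy
    obtain ⟨z, hz⟩ := (ShortComplex.ab_exact_iff _).1 (kerSC_map_exact J S U) y hy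
    obtain ⟨x, hx⟩ := surj_of_wc J (hB U hU) (kernel.lift S.g S.f S.zero) z
    refine ⟨x, ?_⟩
    have h1 : kernel.lift S.g S.f S.zero ≫ kernel.ι S.g = S.f := kernel.lift_ι _ _ _
    have h2 : (ΓU J U).map (kernel.lift S.g S.f S.zero) ≫ (ΓU J U).map (kernel.ι S.g) =
        (ΓU J U).map S.f := by rw [← Functor.map_comp, h1]
    have h3 := ConcreteCategory.congr_hom h2 x
    refine h3.symm.trans ?_
    change (kernel.ι S.g).hom.app (op U) ((kernel.lift S.g S.f S.zero).hom.app (op U) x) = y
    rw [hx]
    exact hz
  · intro h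
    suffices hls : Sheaf.IsLocallySurjective (kernel.lift S.g S.f S.zero) from inferInstance
    refine ⟨fun {V} s => ?_⟩
    obtain ⟨T, hT, hTf⟩ := hcov V
    refine J.superset_covering ?_ hT
    intro W f hf
    obtain ⟨U, g, k, hU, rfl⟩ := hTf f hf
    have hex := (ShortComplex.ab_exact_iff _).1 (h U hU)
    let sU := (kernel S.g).obj.map k.op s
    have hzero : (S.g).hom.app (op U) ((kernel.ι S.g).hom.app (op U) sU) = 0 := by
      have h2 : (ΓU J U).map (kernel.ι S.g) ≫ (ΓU J U).map S.g = 0 := by
        rw [← Functor.map_comp, kernel.condition, Functor.map_zero]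
      exact ConcreteCategory.congr_hom h2 sU
    obtain ⟨x, hx⟩ := hex _ hzero
    have hx' : (kernel.lift S.g S.f S.zero).hom.app (op U) x = sU := by
      apply ι_injective J S U
      have h1 : kernel.lift S.g S.f S.zero ≫ kernel.ι S.g = S.f := kernel.lift_ι _ _ _
      have h2 : (ΓU J U).map (kernel.lift S.g S.f S.zero) ≫ (ΓU J U).map (kernel.ι S.g) =
          (ΓU J U).map S.f := by rw [← Functor.map_comp, h1]
      exact (ConcreteCategory.congr_hom h2 x).trans hx
    refine ⟨S.X₁.obj.map g.op x, ?_⟩
    have hnat := ConcreteCategory.congr_hom ((kernel.lift S.g S.f S.zero).hom.naturality g.op) x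
    have hnat' : (kernel.lift S.g S.f S.zero).hom.app (op W) (S.X₁.obj.map g.op x) =
        (kernel S.g).obj.map g.op ((kernel.lift S.g S.f S.zero).hom.app (op U) x) := hnat
    rw [hnat', hx']
    change (kernel S.g).obj.map g.op ((kernel S.g).obj.map k.op s) = _
    rw [op_comp, Functor.map_comp]
    rfl

end Groth.Agent.S19540
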