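import Groth.Statements.S19554
import Mathlib
import Groth.Agent.Lib.Helper10.TransferEt

set_option autoImplicit false
universe u
open CategoryTheory AlgebraicGeometry
open CohProp

namespace Groth.Agent.S19554

section helpers

open CategoryTheory.Limits Opposite
open Groth.Agent.Helper10 Groth.Agent.Helper10.Transfer

variable {X : Scheme.{u}} {T' : X.Etale} (p : T' ⟶ EtCoh.top X) {W : X.Etale}
  (w : W ⟶ EtCoh.top X) (Sp : Split X.smallEtaleTopology p w)

/-- the representable presheaf, lifted -/
noncomputable abbrev PP (T' : X.Etale) : X.Etaleᵒᵖ ⥤ Type (u + 1) :=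
  yoneda.obj T' ⋙ uliftFunctor.{u + 1, u}

/-- the comparison map of presheaves on the over-site -/
noncomputable def phi :
    (Over.forget W).op ⋙ (Functor.const (X.Etale)ᵒᵖ).obj (ULift.{u + 1} (Fin Sp.n)) ⟶
      (Over.forget W).op ⋙ PP T' where
  app V := ↾ fun m => ULift.up (V.unop.hom ≫ Sp.σ m.down)
  naturality V V' k := by
    ext m
    apply ULift.ext
    show V'.unop.hom ≫ Sp.σ m.down = k.unop.left ≫ V.unop.hom ≫ Sp.σ m.down
    rw [← Category.assoc, Over.w k.unop]

lemma hom_top_ext {V : X.Etale} (a b : V ⟶ EtCoh.top X) : a = b := by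
  apply MorphismProperty.Over.Hom.ext
  have ha : a.left ≫ (EtCoh.top X).hom = V.hom := Over.w a.hom
  have hb : b.left ≫ (EtCoh.top X).hom = V.hom := Over.w b.hom
  have h1 : (EtCoh.top X).hom = 𝟙 X := rfl
  rw [h1] at ha hb
  exact ((Category.comp_id a.left).symm.trans ha).trans ((Category.comp_id b.left).symm.trans hb).symm

instance phi_inj : Presheaf.IsLocallyInjective (X.smallEtaleTopology.over W) (phi p w Sp) where
  equalizerSieve_mem {V} x y h := by
    rw [GrothendieckTopology.mem_over_iff]
    have h1 : V.unop.hom ≫ Sp.σ x.down = V.unop.hom ≫ Sp.σ y.down :=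
      congrArg ULift.down h
    by_cases hxy : x.down = y.down
    · have : x = y := ULift.ext _ _ hxy
      subst this
      rw [Presheaf.equalizerSieve_self_eq_top, Sieve.overEquiv_top]
      exact (X.smallEtaleTopology).top_mem _
    · exact (X.smallEtaleTopology).superset_covering bot_le
        (Sp.disjoint V.unop.hom x.down y.down hxy h1)

instance phi_surj : Presheaf.IsLocallySurjective (X.smallEtaleTopology.over W) (phi p w Sp) where
  imageSieve_mem {V} t := by
    rw [GrothendieckTopology.mem_over_iff]
    have hc := Sp.complete V.hom t.down (hom_top_ext _ _)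
    refine (X.smallEtaleTopology).superset_covering ?_ hc
    rintro Z k ⟨i, hi⟩
    rw [Sieve.overEquiv_iff]
    refine ⟨ULift.up i, ?_⟩
    apply ULift.ext
    show (k ≫ V.hom) ≫ Sp.σ i = k ≫ t.down
    rw [Category.assoc, hi]

theorem over_iso :
    Nonempty (((presheafToSheaf X.smallEtaleTopology (Type (u + 1))).obj (PP T')).over W ≅
      ((constantSheaf X.smallEtaleTopology (Type (u + 1))).obj
        (ULift.{u + 1} (Fin Sp.n))).over W) := by
  have hW : (X.smallEtaleTopology.over W).W (phi p w Sp) :=
    GrothendieckTopology.W_of_isLocallyBijective _ _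
  have hiso : IsIso ((presheafToSheaf (X.smallEtaleTopology.over W) (Type (u + 1))).map
      (phi p w Sp)) := (GrothendieckTopology.W_iff _ _).1 hW
  let c := (Over.forget W).pushforwardContinuousSheafificationCompatibility (Type (u + 1))
    (X.smallEtaleTopology.over W) X.smallEtaleTopology
  exact ⟨(c.app (PP T')).symm ≪≫ (asIso ((presheafToSheaf (X.smallEtaleTopology.over W)
    (Type (u + 1))).map (phi p w Sp))).symm ≪≫
    c.app ((Functor.const (X.Etale)ᵒᵖ).obj (ULift.{u + 1} (Fin Sp.n)))⟩

theorem main (S X : Scheme.{u}) (f : X ⟶ S) [Etale f] [IsFinite f] :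
    CohProp.IsFinLocConstSet (EtDesc.repSh (Scheme.Etale.mk f)) := by
  let T' : S.Etale := Scheme.Etale.mk f
  let p : T' ⟶ EtCoh.top S := MorphismProperty.Over.homMk f (by
    show f ≫ 𝟙 S = f
    rw [Category.comp_id]) trivial
  haveI : IsFinite p.left := ‹IsFinite f›
  have h := fun s : S => Groth.Agent.S9559.result p.left s
  choose U g hg u hu n V c hc e he using h
  refine ⟨S, fun s => TransferEt.Wob (T := EtCoh.top S) (g s), ?_, ?_⟩
  · intro x
    refine ⟨x, u x, ?_⟩
    have h1 : (g x ≫ 𝟙 S : U x ⟶ S) = g x := Category.comp_id (g x)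
    exact (congrArg (fun m : U x ⟶ S => m.base (u x)) h1).trans (hu x)
  · intro s
    have := hg s
    let Sp := TransferEt.split p (g s) (V s) (c s) (hc s) (e s) (he s)
    exact ⟨ULift.{u + 1} (Fin Sp.n), inferInstance, over_iso p _ Sp⟩

end helpers

/-- For any scheme S and any finite étale morphism f : X → S, the sheaf of sets h_X on the small étale
site of S attached to the étale S-scheme X is finite locally constant: S admits a jointly surjective
family of étale S-schemes over each member of which h_X becomes isomorphic to a constant sheaf with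
finite value. (This is the first assertion of the published result, that X ↦ h_X sends finite étale
S-schemes to finite locally constant sheaves of sets; the equivalence it goes on to assert is not
stated here.) -/
theorem result (S X : Scheme.{u}) (f : X ⟶ S) [Etale f] [IsFinite f] :
    CohProp.IsFinLocConstSet (EtDesc.repSh (Scheme.Etale.mk f)) := by
  exact main S X f

end Groth.Agent.S19554
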