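import Groth.Statements.S19556
import Mathlib

set_option autoImplicit false
universe u
open CategoryTheory AlgebraicGeometry
open Mor

namespace Groth.Agent.S19556

/-- Let S be a scheme, p : X → S and q : Y → S schemes over S, and π : X → Y a finite surjective
morphism over S (π ≫ q = p). If X is separated over S then Y is separated over S. (The published
statement is about the quotient map X → X/G of a scheme by an action of a finite group scheme,
assumed to exist and then finite and surjective; this row keeps of it only a finite surjective
S-morphism π, which is all the argument uses.) -/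
theorem result {S X Y : Scheme.{u}} (p : X ⟶ S) (q : Y ⟶ S)
    (π : X ⟶ Y) (hπ : π ≫ q = p) [IsFinite π] [Surjective π] [IsSeparated p] :
    IsSeparated q := by
  subst hπ
  have : IsPreimmersion (Limits.pullback.diagonal q) := inferInstance
  refine ⟨IsClosedImmersion.of_isPreimmersion _ ?_⟩
  -- the map π ×_S π
  let ππ : Limits.pullback (π ≫ q) (π ≫ q) ⟶ Limits.pullback q q :=
    Limits.pullback.map (π ≫ q) (π ≫ q) q q π π (𝟙 S) (by simp) (by simp)
  have hfin : IsFinite ππ :=
    MorphismProperty.pullbackMap (P := @IsFinite) (inferInstance : IsFinite π)
      (inferInstance : IsFinite π) rfl rfl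
  have hsq : Limits.pullback.diagonal (π ≫ q) ≫ ππ = π ≫ Limits.pullback.diagonal q := by
    apply Limits.pullback.hom_ext
    · simp only [ππ, Category.assoc, Limits.pullback.lift_fst, Limits.pullback.diagonal_fst,
        Limits.pullback.diagonal_fst_assoc, Category.comp_id]
    · simp only [ππ, Category.assoc, Limits.pullback.lift_snd, Limits.pullback.diagonal_snd,
        Limits.pullback.diagonal_snd_assoc, Category.comp_id]
  have hrange : Set.range (Limits.pullback.diagonal q) =
      ππ '' (Set.range (Limits.pullback.diagonal (π ≫ q))) := by
    have h1 : Set.range (π ≫ Limits.pullback.diagonal q) = Set.range (Limits.pullback.diagonal q) := by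
      rw [Scheme.Hom.comp_base, TopCat.coe_comp, Set.range_comp, Set.range_eq_univ.mpr π.surjective,
        Set.image_univ]
    rw [← h1, ← hsq, Scheme.Hom.comp_base, TopCat.coe_comp, Set.range_comp]
  rw [hrange]
  apply ππ.isClosedMap
  exact (Limits.pullback.diagonal (π ≫ q)).isClosedEmbedding.isClosed_range


end Groth.Agent.S19556
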