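import Groth.Statements.S19560
import Mathlib

set_option autoImplicit false
universe u
open W4c1limliniiii

namespace Groth.Agent.S19560

open Polynomial in
/-- Let k be an algebraically closed field of characteristic p (a prime or zero) and let F, G be
polynomials spanning a base-point-free pencil V of degree d (a two-dimensional space of polynomials
of degree at most d containing one of degree d and with no common zero in k), so that V encodes a
degree-d self-map F/G of the projective line up to automorphisms of the target. Suppose the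
Wronskian W = F′G − FG′ is non-zero and vanishes at the point a to order exactly e − 1 with e ≥ 1,
and that p = 0 or e − 1 < p. Then the map is tamely ramified at a with index e: the largest order of
vanishing at a of a non-zero member of V is e, and p does not divide e. (The hypothesis W ≠ 0 makes
the order of vanishing meaningful; for W = 0 the map is inseparable.) -/
theorem result
    (k : Type u) [Field k] [IsAlgClosed k] (p : ℕ) [CharP k p]
    (d : ℕ) (F G : k[X]) (hV : W4c1limliniiii.IsPencil d (Submodule.span k {F, G}))
    (hW : Polynomial.wronskian F G ≠ 0) (a : k) (e : ℕ)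
    (he : (Polynomial.wronskian F G).rootMultiplicity a + 1 = e) (hp : p = 0 ∨ e - 1 < p) :
    W4c1limliniiii.HasRamIdx (Submodule.span k {F, G}) a e ∧ ¬ p ∣ e := by
  obtain ⟨_, _, _, hbpf⟩ := hV
  obtain ⟨S₀, hSV, hSa⟩ := hbpf a
  obtain ⟨α, β, rfl⟩ := Submodule.mem_span_pair.1 hSV
  have hbil : ∀ x y : k, Polynomial.wronskian (x • F + y • G) (α • F + β • G)
      = C (x * β - y * α) * Polynomial.wronskian F G := by
    intro x y
    simp only [Polynomial.wronskian, map_add,
      Polynomial.smul_eq_C_mul, Polynomial.derivative_C_mul, map_sub, map_mul]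
    ring
  have hSev : ∀ x y : k, (x • F + y • G).eval a = x * F.eval a + y * G.eval a := by
    intro x y; simp only [eval_add, eval_smul, smul_eq_mul]
  have hder : ∀ (n : ℕ) (q : k[X]), (X - C a) ^ (n + 1) ∣ q → (X - C a) ^ n ∣ derivative q := by
    rintro n q ⟨u, rfl⟩
    rw [derivative_mul, derivative_X_sub_C_pow, Nat.add_sub_cancel]
    exact dvd_add (dvd_mul_of_dvd_left (dvd_mul_left _ _) _)
      (dvd_mul_of_dvd_left (pow_dvd_pow _ (Nat.le_succ n)) _)
  have hupper : ∀ s ∈ Submodule.span k {F, G}, s ≠ 0 → rootMultiplicity a s ≤ e := by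
    intro T hT hT0
    obtain ⟨x, y, rfl⟩ := Submodule.mem_span_pair.1 hT
    by_cases hTa : (x • F + y • G).IsRoot a
    · have hTa' : (x • F + y • G).eval a = 0 := hTa
      have hc : x * β - y * α ≠ 0 := by
        intro hc
        have hx : x * (α • F + β • G).eval a = α * (x • F + y • G).eval a := by
          rw [hSev, hSev]
          linear_combination (G.eval a) * hc
        have hy : y * (α • F + β • G).eval a = β * (x • F + y • G).eval a := by
          rw [hSev, hSev]
          linear_combination (-(F.eval a)) * hc
        rw [hTa', mul_zero] at hx hy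
        have hx0 : x = 0 := (mul_eq_zero.1 hx).resolve_right hSa
        have hy0 : y = 0 := (mul_eq_zero.1 hy).resolve_right hSa
        apply hT0; rw [hx0, hy0]; simp
      have hr1 : (X - C a) ^ rootMultiplicity a (x • F + y • G) ∣ x • F + y • G :=
        pow_rootMultiplicity_dvd _ a
      rcases Nat.eq_zero_or_pos (rootMultiplicity a (x • F + y • G)) with h0 | hpos
      · omega
      · obtain ⟨n, hn⟩ : ∃ n, rootMultiplicity a (x • F + y • G) = n + 1 :=
          ⟨rootMultiplicity a (x • F + y • G) - 1, by omega⟩
        rw [hn] at hr1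
        have h1 : (X - C a) ^ n ∣ Polynomial.wronskian (x • F + y • G) (α • F + β • G) := by
          unfold Polynomial.wronskian
          exact dvd_sub (dvd_mul_of_dvd_left ((pow_dvd_pow _ (Nat.le_succ n)).trans hr1) _)
            (dvd_mul_of_dvd_left (hder n _ hr1) _)
        rw [hbil] at h1
        have h2 : (X - C a) ^ n ∣ Polynomial.wronskian F G :=
          (IsUnit.dvd_mul_left (Polynomial.isUnit_C.2 (IsUnit.mk0 _ hc))).1 h1
        have h3 := (le_rootMultiplicity_iff hW).2 h2
        omega
    · rw [rootMultiplicity_eq_zero hTa]; exact Nat.zero_le _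
  have hHV : (G.eval a) • F + (-(F.eval a)) • G ∈ Submodule.span k {F, G} :=
    Submodule.mem_span_pair.2 ⟨_, _, rfl⟩
  have hHW : Polynomial.wronskian ((G.eval a) • F + (-(F.eval a)) • G) (α • F + β • G)
      = C ((α • F + β • G).eval a) * Polynomial.wronskian F G := by
    rw [hbil, hSev]; congr 2; ring
  have hHroot : ((G.eval a) • F + (-(F.eval a)) • G).IsRoot a := by
    rw [IsRoot.def, hSev]; ring
  generalize hS : α • F + β • G = S at hbil hSa hHW
  generalize hHdef : (G.eval a) • F + (-(F.eval a)) • G = H at hHV hHW hHroot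
  have hCS : C (S.eval a) * Polynomial.wronskian F G ≠ 0 := mul_ne_zero (C_ne_zero.2 hSa) hW
  have hH0 : H ≠ 0 := by
    rintro rfl
    rw [wronskian_zero_left] at hHW
    exact hCS hHW.symm
  have hmpos : 0 < rootMultiplicity a H := (rootMultiplicity_pos hH0).2 hHroot
  obtain ⟨U, hU, hUnd⟩ := exists_eq_pow_rootMultiplicity_mul_and_not_dvd H hH0 a
  obtain ⟨n, hn⟩ : ∃ n, rootMultiplicity a H = n + 1 := ⟨rootMultiplicity a H - 1, by omega⟩
  rw [hn] at hU
  have hUa : U.eval a ≠ 0 := fun h => hUnd (dvd_iff_isRoot.2 h)
  have hid : C (S.eval a) * Polynomial.wronskian F G = (X - C a) ^ n *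
      ((X - C a) * (U * derivative S - derivative U * S) - C ((n + 1 : ℕ) : k) * U * S) := by
    rw [← hHW, hU]
    unfold Polynomial.wronskian
    rw [derivative_mul, derivative_X_sub_C_pow, Nat.add_sub_cancel]
    ring
  have hWS : rootMultiplicity a (C (S.eval a) * Polynomial.wronskian F G)
      = rootMultiplicity a (Polynomial.wronskian F G) := by
    rw [rootMultiplicity_mul hCS, rootMultiplicity_C, zero_add]
  by_cases hzero : (((n + 1 : ℕ)) : k) = 0
  · exfalso
    have hdvd : p ∣ n + 1 := (CharP.cast_eq_zero_iff k p (n + 1)).1 hzero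
    have h1 : (X - C a) ^ (n + 1) ∣ C (S.eval a) * Polynomial.wronskian F G := by
      refine ⟨U * derivative S - derivative U * S, ?_⟩
      rw [hid, hzero, map_zero, pow_succ]; ring
    have h2 : (X - C a) ^ (n + 1) ∣ Polynomial.wronskian F G :=
      (IsUnit.dvd_mul_left (Polynomial.isUnit_C.2 (IsUnit.mk0 _ hSa))).1 h1
    have h3 := (le_rootMultiplicity_iff hW).2 h2
    rcases hp with rfl | hlt
    · have := Nat.eq_zero_of_zero_dvd hdvd
      omega
    · have := Nat.le_of_dvd (Nat.succ_pos n) hdvd
      omega
  · have hRa : ¬ ((X - C a) * (U * derivative S - derivative U * S)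
        - C ((n + 1 : ℕ) : k) * U * S).IsRoot a := by
      rw [IsRoot.def]
      simp only [eval_sub, eval_mul, eval_X, eval_C, sub_self, zero_mul, zero_sub, neg_eq_zero]
      exact mul_ne_zero (mul_ne_zero hzero hUa) hSa
    have h2 : rootMultiplicity a (C (S.eval a) * Polynomial.wronskian F G) = n := by
      have hne := hCS
      rw [hid] at hne
      rw [hid, rootMultiplicity_mul hne, rootMultiplicity_X_sub_C_pow,
        rootMultiplicity_eq_zero hRa, add_zero]
    rw [hWS] at h2
    have hen : e = n + 1 := by omega
    refine ⟨⟨⟨H, hHV, hH0, ?_⟩, hupper⟩, ?_⟩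
    · rw [hn, hen]
    · rw [hen]
      intro hdvd
      exact hzero ((CharP.cast_eq_zero_iff k p (n + 1)).2 hdvd)


end Groth.Agent.S19560
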