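import Groth.Statements.S19568
import Mathlib
import Groth.Agent.Lib.Helper26.PHTransfer

set_option autoImplicit false
universe u
open Hensel

namespace Groth.Agent.S19568

/-- Let A be a ring, I an ideal of A and B an A-algebra which is a henselization of the pair (A, I).
Consider étale A-algebras A' for which the induced map A/I → A'/IA' is bijective. Then: (a) every
such A' admits exactly one A-algebra map to B; (b) every element of B is the image of an element of
some such A' under an A-algebra map A' → B; (c) if an A-algebra map A' → B from such an algebra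
sends an element s to 0, then there are another such algebra A'' and an A-algebra map A' → A''
sending s to 0. (All algebras are taken in the universe of A. Together with the filteredness of the
category of these algebras, (a), (b) and (c) express that B, with the maps of (a), is their
colimit.) -/
theorem result (A : Type u) [CommRing A] (I : Ideal A)
    (B : Type u) [CommRing B] [Algebra A B] (hB : Hens2.IsPairHenselization A I B) :
    (∀ (A' : Type u) [CommRing A'] [Algebra A A'] [Algebra.Etale A A'],
        Function.Bijective (Ideal.quotientMap (I.map (algebraMap A A')) (algebraMap A A') Ideal.le_comap_map) →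
          Nonempty (Unique (A' →ₐ[A] B))) ∧
    (∀ x : B, ∃ (A' : Type u) (_ : CommRing A') (_ : Algebra A A') (_ : Algebra.Etale A A'),
        Function.Bijective (Ideal.quotientMap (I.map (algebraMap A A')) (algebraMap A A') Ideal.le_comap_map) ∧
          ∃ (φ : A' →ₐ[A] B) (s : A'), φ s = x) ∧
    (∀ (A' : Type u) [CommRing A'] [Algebra A A'] [Algebra.Etale A A'],
        Function.Bijective (Ideal.quotientMap (I.map (algebraMap A A')) (algebraMap A A') Ideal.le_comap_map) →
          ∀ (φ : A' →ₐ[A] B) (s : A'), φ s = 0 →
            ∃ (A'' : Type u) (_ : CommRing A'') (_ : Algebra A A'') (_ : Algebra.Etale A A''),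
              Function.Bijective (Ideal.quotientMap (I.map (algebraMap A A'')) (algebraMap A A'') Ideal.le_comap_map) ∧
                ∃ ψ : A' →ₐ[A] A'', ψ s = 0) := by
  refine ⟨?_, ?_, ?_⟩
  · intro A' _ _ _ hbij
    have hN : Groth.Agent.Helper26.PH.IsNbhd A I A' := ⟨inferInstance, hbij⟩
    obtain ⟨σ, -, hσ⟩ := Groth.Agent.Helper26.PH.existsUnique_algHom_of_isNbhd hB A' hN
    exact ⟨{ default := σ, uniq := fun τ => hσ τ trivial }⟩
  · intro x
    obtain ⟨A', _, _, hN, σ, s, hs⟩ := Groth.Agent.Helper26.PH.exists_nbhd_rep hB x
    exact ⟨A', inferInstance, inferInstance, hN.etale, hN.bij, σ, s, hs⟩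
  · intro A' _ _ _ hbij φ s hs
    have hN : Groth.Agent.Helper26.PH.IsNbhd A I A' := ⟨inferInstance, hbij⟩
    obtain ⟨A'', _, _, hN'', ψ, hψ⟩ := Groth.Agent.Helper26.PH.exists_nbhd_kill hB hN φ s hs
    exact ⟨A'', inferInstance, inferInstance, hN''.etale, hN''.bij, ψ, hψ⟩

end Groth.Agent.S19568
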