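import Groth.Statements.S19572
import Groth.Agent.Lib.Helper12.IsogDim
import Groth.Agent.Lib.Helper16.Sch.HomFibD

set_option autoImplicit false
universe u
open CategoryTheory CategoryTheory.Limits MonoidalCategory CartesianMonoidalCategory MonObj GrpObj AlgebraicGeometry
open AbVar

namespace Groth.Agent.S19572

/-- Let X and Y be abelian varieties over a field k (proper, geometrically integral k-group schemes) and
f : X → Y a homomorphism. If f is surjective and dim X = dim Y (Krull dimensions of the underlying
topological spaces), then f is finite and flat; together with surjectivity, f is an isogeny. -/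
theorem result (k : Type u) [Field k]
    (X Y : Over (Spec (CommRingCat.of k)))
    [GrpObj X] [IsProper X.hom] [GeometricallyIntegral X.hom]
    [GrpObj Y] [IsProper Y.hom] [GeometricallyIntegral Y.hom]
    (f : X ⟶ Y) [IsMonHom f] [Surjective f.left]
    (hdim : topologicalKrullDim X.left = topologicalKrullDim Y.left) :
    IsFinite f.left ∧ Flat f.left := by
  haveI : IsIntegral Y.left := GeometricallyIntegral.isIntegral_of_subsingleton Y.hom
  haveI : CompactSpace Y.left := QuasiCompact.compactSpace_of_compactSpace Y.hom
  obtain ⟨n, hn⟩ := Groth.Agent.Helper12.IsogDim.exists_nat_dim Y.hom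
  haveI : QuasiCompact (f.left ≫ Y.hom) := by rw [Over.w]; infer_instance
  haveI : QuasiCompact f.left := QuasiCompact.of_comp f.left Y.hom
  haveI hlqf : LocallyQuasiFinite f.left :=
    (Groth.Agent.Helper12.IsogDim.lqf_iff_surjective f n (hdim.trans hn) hn).mpr inferInstance
  haveI : Flat f.left := Groth.Agent.Helper16.Isog.flat_field f
  haveI : LocallyOfFinitePresentation X.hom := inferInstance
  haveI := Groth.Agent.Helper16.HomFibCrit.lfp_left f
  exact ⟨(Groth.Agent.Helper16.Isog.finite_surjective_field f).1, inferInstance⟩

end Groth.Agent.S19572
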