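import Groth.Statements.S19575
import Groth.Agent.Lib.Helper20.EtaMore

set_option autoImplicit false
universe u
open EtaPt

namespace Groth.Agent.S19575


theorem result (η : EtaPt.FieldEndo.{u}) {A B : Type u} [CommRing A] [CommRing B]
    (hA : (minimalPrimes A).Finite) (φ : A →+* B) (hs : Function.Surjective (PrimeSpectrum.comap φ))
    (h : Function.Bijective (η.qRel φ)) (f : A) :
    Function.Bijective (η.qRel (Localization.awayMap φ f)) := by
  exact Groth.Agent.Helper20.EtaMore.bijective_qRel_awayMap η hA φ h f

end Groth.Agent.S19575
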