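import Groth.Statements.S19576
import Groth.Agent.Lib.Helper20.EtaMore

set_option autoImplicit false
universe u
open EtaPt

namespace Groth.Agent.S19576


theorem result (η : EtaPt.FieldEndo.{u}) {A B : Type u} [CommRing A] [CommRing B]
    (hA : (minimalPrimes A).Finite) (φ : A →+* B) (hs : Function.Surjective (PrimeSpectrum.comap φ))
    (s : Finset A) (hspan : Ideal.span (s : Set A) = ⊤)
    (h : ∀ f ∈ s, Function.Bijective (η.qRel (Localization.awayMap φ f))) :
    Function.Bijective (η.qRel φ) := by
  exact Groth.Agent.Helper20.EtaMore.bijective_qRel_of_cover η hA φ s hspan h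

end Groth.Agent.S19576
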