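import Groth.Statements.S19577
import Groth.Agent.Lib.Helper20.EtaMore

set_option autoImplicit false
universe u
open EtaPt

namespace Groth.Agent.S19577


theorem result (η : EtaPt.FieldEndo.{u}) {A B : Type u} [CommRing A] [CommRing B]
    (hA : (minimalPrimes A).Finite) (hB : (minimalPrimes B).Finite) (f : A →+* B)
    (g : η.M A →+* η.M B) (hg : ∀ x : η.M A, ((g x : η.M B) : η.N B) = η.Nmap f (x : η.N A)) :
    (f.IsIntegral ↔ g.IsIntegral) ∧
      (Function.Surjective (PrimeSpectrum.comap f) ↔ Function.Surjective (PrimeSpectrum.comap g)) := by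
  exact ⟨Groth.Agent.Helper20.EtaMore.Mmap_isIntegral_iff η f g hg hA hB,
    Groth.Agent.Helper20.EtaMore.Mmap_comap_surjective_iff η f g hg hA hB⟩

end Groth.Agent.S19577
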