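import Groth.Statements.S19578
import Groth.Agent.Lib.Helper20.EtaMore

set_option autoImplicit false
universe u
open EtaPt

namespace Groth.Agent.S19578


theorem result (η : EtaPt.FieldEndo.{u}) {A B : Type u} [CommRing A] [CommRing B]
    (hA : (minimalPrimes A).Finite) (hB : (minimalPrimes B).Finite) (f : A →+* B)
    (g : η.M A →+* η.M B) (hg : ∀ x : η.M A, ((g x : η.M B) : η.N B) = η.Nmap f (x : η.N A))
    (hbij : Function.Bijective g) :
    Function.Bijective (PrimeSpectrum.comap f) ∧
      ∀ Q : PrimeSpectrum B,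
        ∃ φ : Q.asIdeal.ResidueField →+* η.obj (PrimeSpectrum.comap f Q).asIdeal.ResidueField,
          φ.comp (Ideal.ResidueField.map (PrimeSpectrum.comap f Q).asIdeal Q.asIdeal f rfl) =
            η.eta (PrimeSpectrum.comap f Q).asIdeal.ResidueField := by
  exact ⟨Groth.Agent.Helper20.EtaMore.Mmap_comap_bijective η f g hg hA hB hbij,
    fun Q => Groth.Agent.Helper20.EtaMore.Mmap_residue_factor η f g hg hA hB hbij Q⟩

end Groth.Agent.S19578
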