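import Groth.Statements.S1959
-- import your own Groth.Agent.* helpers here

set_option autoImplicit false
universe u
open Polynomial
open EtAlg

namespace Groth.Agent.S1959

/-- Let I be an ideal of a ring A, A -> B an integral ring map and b an element of B whose image in B/IB
is idempotent. Then there are d ≥ 1 and a monic polynomial f over A with f(b) = 0 whose reduction
modulo I is x^d (x - 1)^d. -/
theorem result (A B : Type u) [CommRing A] [CommRing B] [Algebra A B]
    [Algebra.IsIntegral A B] (I : Ideal A) (b : B)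
    (hb : IsIdempotentElem (Ideal.Quotient.mk (I.map (algebraMap A B)) b)) :
    ∃ (f : A[X]) (d : ℕ), f.Monic ∧ 1 ≤ d ∧ aeval b f = 0 ∧
      f.map (Ideal.Quotient.mk I) = X ^ d * (X - 1) ^ d := by
  classical
  rcases subsingleton_or_nontrivial A with hA | hA
  · have hB : Subsingleton B := (algebraMap A B).codomain_trivial
    exact ⟨X ^ 1 * (X - 1) ^ 1, 1, Subsingleton.elim _ _, le_refl _, Subsingleton.elim _ _,
      Subsingleton.elim _ _⟩
  set c := b ^ 2 - b with hc_def
  have hc : c ∈ I.map (algebraMap A B) := by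
    rw [← Ideal.Quotient.eq_zero_iff_mem, map_sub, map_pow, pow_two, hb.eq, sub_self]
  -- step 1: a finite set `s` with `c ∈ I • adjoin s`
  have h1 : ∃ s : Finset B, c ∈ I • Subalgebra.toSubmodule (Algebra.adjoin A (s : Set B)) := by
    have hc' : c ∈ I • (⊤ : Submodule A B) := by
      rw [Ideal.smul_top_eq_map]; exact hc
    refine Submodule.smul_induction_on hc' ?_ ?_
    · intro r hr n _
      exact ⟨{n}, Submodule.smul_mem_smul hr (Algebra.subset_adjoin (by simp))⟩
    · rintro x y ⟨s, hs⟩ ⟨t, ht⟩
      refine ⟨s ∪ t, Submodule.add_mem _ ?_ ?_⟩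
      · refine Submodule.smul_mono (le_refl I) ?_ hs
        exact Subalgebra.toSubmodule.monotone (Algebra.adjoin_mono (by simp))
      · refine Submodule.smul_mono (le_refl I) ?_ ht
        exact Subalgebra.toSubmodule.monotone (Algebra.adjoin_mono (by simp))
  obtain ⟨s, hs⟩ := h1
  set S := Algebra.adjoin A (insert b (s : Set B)) with hS
  have hSfin : Module.Finite A S :=
    Algebra.finite_adjoin_of_finite_of_isIntegral ((Finset.finite_toSet s).insert b)
      (fun x _ => Algebra.IsIntegral.isIntegral x)
  have hcS : c ∈ I • Subalgebra.toSubmodule S := by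
    refine Submodule.smul_mono (le_refl I) ?_ hs
    exact Subalgebra.toSubmodule.monotone (Algebra.adjoin_mono (Set.subset_insert _ _))
  -- transfer to `S`
  have hmap : I • Subalgebra.toSubmodule S =
      Submodule.map S.val.toLinearMap (I • (⊤ : Submodule A S)) := by
    rw [Submodule.map_smul'']
    congr 1
    ext x
    simp
  rw [hmap] at hcS
  obtain ⟨c', hc', hcc'⟩ := hcS
  rw [Ideal.smul_top_eq_map] at hc'
  have hc'' : c' ∈ I.map (algebraMap A S) := hc'
  -- Cayley–Hamilton
  have hrange : LinearMap.range (Algebra.lmul A S c') ≤ I • (⊤ : Submodule A S) := by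
    rintro _ ⟨y, rfl⟩
    rw [Ideal.smul_top_eq_map]
    exact Ideal.mul_mem_right _ _ hc''
  obtain ⟨p, hpm, -, hpc, hp0⟩ :=
    LinearMap.exists_monic_and_natDegree_eq_and_coeff_mem_pow_and_aeval_eq_zero A
      (Algebra.lmul A S c') I hrange
  have hp1 : aeval c' p = 0 := by
    rw [Polynomial.aeval_algHom_apply] at hp0
    have := congrArg (fun φ : Module.End A S => φ 1) hp0
    simpa using this
  have hp2 : aeval c p = 0 := by
    have := congrArg S.val hp1
    rw [← Polynomial.aeval_algHom_apply, map_zero] at this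
    rw [← this]
    have hcc'' : S.val c' = c := hcc'
    rw [hcc'']
  have hpmap : p.map (Ideal.Quotient.mk I) = X ^ p.natDegree := by
    ext k
    rw [Polynomial.coeff_map, Polynomial.coeff_X_pow]
    rcases lt_trichotomy k p.natDegree with hk | hk | hk
    · rw [if_neg hk.ne, Ideal.Quotient.eq_zero_iff_mem]
      have := hpc k
      refine Ideal.pow_le_self ?_ this
      omega
    · rw [if_pos hk, hk, hpm.coeff_natDegree, map_one]
    · rw [if_neg hk.ne', Polynomial.coeff_eq_zero_of_natDegree_lt hk, map_zero]
  have hq : (X ^ 2 - X : A[X]).Monic := by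
    exact Polynomial.monic_X_pow_sub (by rw [Polynomial.degree_X]; norm_num)
  have hqdeg : (X ^ 2 - X : A[X]).natDegree ≠ 0 := by
    have : (X ^ 2 - X : A[X]).natDegree = 2 := by
      rw [Polynomial.natDegree_sub_eq_left_of_natDegree_lt] <;> simp
    omega
  refine ⟨(p * X).comp (X ^ 2 - X), p.natDegree + 1, ?_, by omega, ?_, ?_⟩
  · exact (hpm.mul Polynomial.monic_X).comp hq hqdeg
  · rw [Polynomial.aeval_comp]
    simp only [map_sub, map_pow, Polynomial.aeval_X, map_mul]
    rw [← hc_def, hp2, zero_mul]
  · rw [Polynomial.map_comp, Polynomial.map_mul, hpmap]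
    simp only [Polynomial.map_sub, Polynomial.map_pow, Polynomial.map_X]
    rw [← pow_succ, Polynomial.X_pow_comp, ← mul_pow]
    congr 1
    ring

end Groth.Agent.S1959
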