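import Groth.Statements.S19590
import Mathlib
import Groth.Agent.Lib.Helper29.Minkowski

set_option autoImplicit false
open BddFin

namespace Groth.Agent.S19590

/-- For every n, the orders of the finite subgroups of GL_n(ℤ) are bounded: there is B such that every
finite subgroup of GL_n(ℤ) has at most B elements. -/
theorem result (n : ℕ) :
    ∃ B : ℕ, ∀ H : Subgroup (Matrix.GeneralLinearGroup (Fin n) ℤ), Finite H → Nat.card H ≤ B := by
  exact Groth.Agent.Helper29.Minkowski.main n


end Groth.Agent.S19590
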