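import Groth.Statements.S19591
import Mathlib

set_option autoImplicit false
universe u v
open BddFin

namespace Groth.Agent.S19591

/-- Let K be a perfect field of characteristic 2, V a finite-dimensional K-vector space with dim V > 2
and q a quadratic form on V whose polar bilinear form is non-degenerate. Then q represents zero
non-trivially. (Non-degeneracy of the polar form, which is alternating in characteristic 2, forces
dim V to be even, as the published lemma notes.) -/
theorem result
    (K : Type u) [Field K] [CharP K 2] [PerfectField K]
    (V : Type v) [AddCommGroup V] [Module K V] [FiniteDimensional K V]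
    (hV : 2 < Module.finrank K V) (q : QuadraticForm K V)
    (hq : (QuadraticMap.polarBilin q).Nondegenerate) :
    ∃ v : V, v ≠ 0 ∧ q v = 0 := by
  have : Nontrivial V := Module.nontrivial_of_finrank_pos (R := K) (by omega)
  obtain ⟨v, hv⟩ := exists_ne (0 : V)
  by_cases hqv : q v = 0
  · exact ⟨v, hv, hqv⟩
  let φ : V →ₗ[K] K := QuadraticMap.polarBilin q v
  have hker : 2 ≤ Module.finrank K (LinearMap.ker φ) := by
    have h1 := LinearMap.finrank_range_add_finrank_ker φ
    have h2 : Module.finrank K (LinearMap.range φ) ≤ 1 := by
      have := Submodule.finrank_le (LinearMap.range φ)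
      simpa using this
    omega
  have hnot : ¬ (LinearMap.ker φ ≤ Submodule.span K {v}) := by
    intro hle
    have h1 := Submodule.finrank_mono hle
    have h2 : Module.finrank K (Submodule.span K {v}) ≤ 1 := by
      have := finrank_span_le_card (R := K) ({v} : Set V)
      simpa using this
    omega
  obtain ⟨w, hwker, hwspan⟩ := SetLike.not_le_iff_exists.mp hnot
  have hpolar : QuadraticMap.polar q v w = 0 := by
    have : φ w = 0 := hwker
    simpa [φ] using this
  have : ExpChar K 2 := ExpChar.prime Nat.prime_two
  obtain ⟨α, hα⟩ := surjective_frobenius K 2 (q v)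
  obtain ⟨β, hβ⟩ := surjective_frobenius K 2 (q w)
  simp only [frobenius_def] at hα hβ
  have hα0 : α ≠ 0 := by
    rintro rfl
    apply hqv
    rw [← hα]; simp
  refine ⟨β • v + α • w, ?_, ?_⟩
  · intro h0
    apply hwspan
    have : w = (-(β / α)) • v := by
      have h1 : α • w = -(β • v) := by
        rw [eq_neg_iff_add_eq_zero, add_comm]; exact h0
      calc w = α⁻¹ • (α • w) := by rw [smul_smul, inv_mul_cancel₀ hα0, one_smul]
        _ = α⁻¹ • (-(β • v)) := by rw [h1]
        _ = (-(β / α)) • v := by rw [smul_neg, smul_smul, neg_smul]; congr 2; field_simp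
    rw [this]
    exact Submodule.smul_mem _ _ (Submodule.mem_span_singleton_self v)
  · rw [QuadraticMap.map_add (⇑q), QuadraticMap.map_smul, QuadraticMap.map_smul,
      QuadraticMap.polar_smul_left, QuadraticMap.polar_smul_right, hpolar, ← hα, ← hβ]
    simp only [smul_eq_mul, mul_zero, add_zero]
    have : β * β * α ^ 2 = α * α * β ^ 2 := by ring
    rw [this]
    exact CharTwo.add_self_eq_zero _


end Groth.Agent.S19591
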