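import Groth.Statements.S19596
import Mathlib
import Groth.Agent.Lib.Helper2.NodeColon
-- import your own Groth.Agent.* helpers here

set_option autoImplicit false
universe u
open ArLef ArLef.NodeAlg

namespace Groth.Agent.S19596

section

set_option linter.style.haveILetI false
set_option linter.unusedVariables false
set_option linter.unusedSectionVars false

open ArLef ArLef.NodeAlg
open Groth.Agent.Helper23.NodeFix Groth.Agent.Helper23.NodeAlgLib Groth.Agent.Helper23.NodeLen
open Groth.Agent.Helper23.NodeCol Groth.Agent.S15323 Groth.Agent.Helper2.NodeColon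

variable {B : Type u} [CommRing B] [IsDomain B] [IsDiscreteValuationRing B] (π : B)

/-- the length computation for the ideal `(a t, b e, t^(m₁+1) e^(m₂+1))` -/
theorem core (hπ : Irreducible π) (m₁ m₂ : ℕ) (hm : m₂ ≤ m₁) (a b G : NodeAlg B π)
    (α : (NodeAlg B π)ˣ)
    (hbα : b * (α : NodeAlg B π) = G * (NodeAlg.t π ^ m₁ * NodeAlg.e π ^ m₂) - a)
    (hea : ¬ (NodeAlg.e π ∣ a)) (htb : ¬ (NodeAlg.t π ∣ b)) :
    Module.length (NodeAlg B π) (NodeAlg B π ⧸ Ideal.span ({a * NodeAlg.t π, b * NodeAlg.e π,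
      NodeAlg.t π ^ (m₁ + 1) * NodeAlg.e π ^ (m₂ + 1)} : Set (NodeAlg B π))) =
      1 + ((m₁ + 1 : ℕ) : ℕ∞) * Module.length (NodeAlg B π)
        (NodeAlg B π ⧸ Ideal.span ({NodeAlg.t π, b} : Set (NodeAlg B π))) +
        ((m₂ + 1 : ℕ) : ℕ∞) * Module.length (NodeAlg B π)
          (NodeAlg B π ⧸ Ideal.span ({NodeAlg.e π, a} : Set (NodeAlg B π))) := by
  haveI : IsNoetherianRing (NodeAlg B π) := inferInstance
  set t := NodeAlg.t π with ht_def
  set e := NodeAlg.e π with he_def
  have htp := t_prime π hπ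
  have hep := e_prime π hπ
  have htreg := t_regular π hπ
  have hereg := Groth.Agent.S15320.e_regular π hπ
  set I : Ideal (NodeAlg B π) := Ideal.span {a * t, b * e, t ^ (m₁ + 1) * e ^ (m₂ + 1)} with hIeq
  have hPj : t ^ (m₁ + 1) * e ^ (m₂ + 1) = t * (t ^ m₁ * e ^ (m₂ + 1)) := by ring
  -- first colon: by t
  set K₁ : Ideal (NodeAlg B π) := Ideal.span {a, b * e, t ^ m₁ * e ^ (m₂ + 1)} with hK₁
  have hbt : b ∉ Ideal.span ({t} : Set (NodeAlg B π)) := fun h => htb (Ideal.mem_span_singleton.1 h)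
  have hae : a ∉ Ideal.span ({e} : Set (NodeAlg B π)) := fun h => hea (Ideal.mem_span_singleton.1 h)
  have hcol1 : ∀ z, z ∈ K₁ ↔ t * z ∈ I := by
    intro z
    constructor
    · intro hz
      rw [hIeq]
      rw [hK₁] at hz
      obtain ⟨u, v, w, rfl⟩ := mem_span3.1 hz
      have : t * (u * a + v * (b * e) + w * (t ^ m₁ * e ^ (m₂ + 1))) =
          u * (a * t) + (t * v) * (b * e) + w * (t ^ (m₁ + 1) * e ^ (m₂ + 1)) := by
        ring
      rw [this]
      exact mem_span3.2 ⟨_, _, _, rfl⟩
    · intro hz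
      rw [hIeq] at hz
      obtain ⟨u, v, w, huvw⟩ := mem_span3.1 hz
      have h1 : v * (b * e) ∈ Ideal.span ({t} : Set (NodeAlg B π)) := by
        rw [Ideal.mem_span_singleton']
        refine ⟨z - u * a - w * (t ^ m₁ * e ^ (m₂ + 1)), ?_⟩
        rw [hPj] at huvw
        linear_combination (-1 : NodeAlg B π) * huvw
      have h2 : v ∈ Ideal.span ({t} : Set (NodeAlg B π)) := by
        rcases htp.mem_or_mem h1 with h | h
        · exact h
        · exfalso
          rcases htp.mem_or_mem h with h | h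
          · exact hbt h
          · exact e_not_mem_t π hπ h
      obtain ⟨v', rfl⟩ := Ideal.mem_span_singleton'.1 h2
      have h3 : t * (z - (u * a + v' * (b * e) + w * (t ^ m₁ * e ^ (m₂ + 1)))) = 0 := by
        rw [hPj] at huvw
        linear_combination (-1 : NodeAlg B π) * huvw
      have h4 := sub_eq_zero.1 (htreg _ h3)
      rw [h4, hK₁]
      exact mem_span3.2 ⟨_, _, _, rfl⟩
  have hsup1 : I ⊔ Ideal.span {t} = Ideal.span {e} * Ideal.span {b} ⊔ Ideal.span {t} := by
    rw [Ideal.span_singleton_mul_span_singleton, hIeq]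
    apply le_antisymm
    · refine sup_le ?_ le_sup_right
      rw [Ideal.span_le]
      intro x hx
      simp only [Set.mem_insert_iff, Set.mem_singleton_iff] at hx
      rcases hx with rfl | rfl | rfl
      · exact Ideal.mem_sup_right (Ideal.mul_mem_left _ _ (Ideal.subset_span rfl))
      · rw [mul_comm b e]; exact Ideal.mem_sup_left (Ideal.subset_span rfl)
      · rw [hPj]; exact Ideal.mem_sup_right (Ideal.mul_mem_right _ _ (Ideal.subset_span rfl))
    · refine sup_le ?_ le_sup_right
      rw [Ideal.span_le, Set.singleton_subset_iff, mul_comm e b]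
      exact Ideal.mem_sup_left (Ideal.subset_span (by simp))
  have hlen1 : Module.length (NodeAlg B π) (NodeAlg B π ⧸ (I ⊔ Ideal.span {t})) =
      1 + Module.length (NodeAlg B π) (NodeAlg B π ⧸ Ideal.span ({t, b} : Set (NodeAlg B π))) := by
    rw [hsup1]
    have hreg : IsSMulRegular (NodeAlg B π ⧸ Ideal.span ({t} : Set (NodeAlg B π))) e := by
      apply isSMulRegular_of
      intro z hz
      rcases htp.mem_or_mem hz with h | h
      · exact absurd h (e_not_mem_t π hπ)
      · exact h
    rw [Groth.Agent.S15315.result (NodeAlg B π) e t (Ideal.span {b}) hreg]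
    have h1 : Ideal.span ({e, t} : Set (NodeAlg B π)) = Ideal.span {t, e} := by
      rw [Set.pair_comm]
    have h2 : Ideal.span ({b} : Set (NodeAlg B π)) ⊔ Ideal.span {t} = Ideal.span {t, b} := by
      rw [sup_comm, ← Ideal.span_union, Set.singleton_union]
    rw [h1, h2]
    haveI := Groth.Agent.S15320.te_max π hπ
    rw [length_quot_maximal]
  -- second colon: by e
  set K₂ : Ideal (NodeAlg B π) := Ideal.span {a, b, t ^ m₁ * e ^ m₂} with hK₂
  have hPj' : e * (t ^ m₁ * e ^ m₂) = t ^ m₁ * e ^ (m₂ + 1) := by ring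
  have hcol2 : ∀ z, z ∈ K₂ ↔ e * z ∈ K₁ := by
    intro z
    constructor
    · intro hz
      rw [hK₂] at hz
      obtain ⟨u, v, w, rfl⟩ := mem_span3.1 hz
      have : e * (u * a + v * b + w * (t ^ m₁ * e ^ m₂)) =
          (e * u) * a + v * (b * e) + w * (t ^ m₁ * e ^ (m₂ + 1)) := by
        ring
      rw [this, hK₁]
      exact mem_span3.2 ⟨_, _, _, rfl⟩
    · intro hz
      rw [hK₁] at hz
      obtain ⟨u, v, w, huvw⟩ := mem_span3.1 hz
      have h1 : u * a ∈ Ideal.span ({e} : Set (NodeAlg B π)) := by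
        rw [Ideal.mem_span_singleton']
        refine ⟨z - v * b - w * (t ^ m₁ * e ^ m₂), ?_⟩
        rw [← hPj'] at huvw
        linear_combination (-1 : NodeAlg B π) * huvw
      have h2 : u ∈ Ideal.span ({e} : Set (NodeAlg B π)) := by
        rcases hep.mem_or_mem h1 with h | h
        · exact h
        · exact absurd h hae
      obtain ⟨u', rfl⟩ := Ideal.mem_span_singleton'.1 h2
      have h3 : e * (z - (u' * a + v * b + w * (t ^ m₁ * e ^ m₂))) = 0 := by
        rw [← hPj'] at huvw
        linear_combination (-1 : NodeAlg B π) * huvw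
      have h4 := sub_eq_zero.1 (hereg _ h3)
      rw [h4, hK₂]
      exact mem_span3.2 ⟨_, _, _, rfl⟩
  have hsup2 : K₁ ⊔ Ideal.span {e} = Ideal.span {e, a} := by
    rw [hK₁]
    apply le_antisymm
    · refine sup_le ?_ ?_
      · rw [Ideal.span_le]
        intro x hx
        simp only [Set.mem_insert_iff, Set.mem_singleton_iff] at hx
        rcases hx with rfl | rfl | rfl
        · exact Ideal.subset_span (by simp)
        · exact Ideal.mul_mem_left _ _ (Ideal.subset_span (by simp))
        · rw [pow_succ, ← mul_assoc]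
          exact Ideal.mul_mem_left _ _ (Ideal.subset_span (by simp))
      · exact Ideal.span_mono (by simp)
    · rw [Ideal.span_le]
      intro x hx
      simp only [Set.mem_insert_iff, Set.mem_singleton_iff] at hx
      rcases hx with rfl | rfl
      · exact Ideal.mem_sup_right (Ideal.subset_span rfl)
      · exact Ideal.mem_sup_left (Ideal.subset_span (by simp))
  have hlenK2 : Module.length (NodeAlg B π) (NodeAlg B π ⧸ K₂) =
      (m₁ : ℕ∞) * Module.length (NodeAlg B π) (NodeAlg B π ⧸ Ideal.span ({t, b} : Set (NodeAlg B π))) +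
      (m₂ : ℕ∞) * Module.length (NodeAlg B π) (NodeAlg B π ⧸ Ideal.span ({e, a} : Set (NodeAlg B π))) := by
    rcases Nat.eq_zero_or_pos m₁ with hj0 | hjpos
    · have hm20 : m₂ = 0 := by omega
      have htop : K₂ = ⊤ := by
        rw [Ideal.eq_top_iff_one, hK₂, hj0, hm20, pow_zero, pow_zero, mul_one]
        exact Ideal.subset_span (by simp)
      rw [htop, hj0, hm20, Nat.cast_zero, zero_mul, zero_mul, zero_add, Module.length_eq_zero_iff]
      exact Submodule.Quotient.subsingleton_iff.2 rfl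
    · obtain ⟨m₁', rfl⟩ : ∃ m₁', m₁ = m₁' + 1 := ⟨m₁ - 1, by omega⟩
      have hPt : t ^ (m₁' + 1) * e ^ m₂ = t * (t ^ m₁' * e ^ m₂) := by ring
      have hbeq : b = (↑α⁻¹ : NodeAlg B π) * (G * (t ^ (m₁' + 1) * e ^ m₂) - a) := by
        rw [← hbα, mul_comm b, ← mul_assoc, Units.inv_mul, one_mul]
      have hat : a ∉ Ideal.span ({t} : Set (NodeAlg B π)) := by
        intro h
        have h1 : b * (α : NodeAlg B π) ∈ Ideal.span ({t} : Set (NodeAlg B π)) := by
          rw [hbα, hPt]
          exact Ideal.sub_mem _ (Ideal.mul_mem_left _ _ (Ideal.mul_mem_right _ _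
            (Ideal.subset_span rfl))) h
        rcases htp.mem_or_mem h1 with h2 | h2
        · exact hbt h2
        · exact htp.ne_top (Ideal.eq_top_of_isUnit_mem _ h2 α.isUnit)
      have hregt : IsSMulRegular (NodeAlg B π ⧸ Ideal.span ({a} : Set (NodeAlg B π))) t := by
        apply isSMulRegular_of
        refine Groth.Agent.S15319.swap_regular t a htreg ?_
        intro w hw
        rcases htp.mem_or_mem hw with h | h
        · exact absurd h hat
        · exact h
      have hrege : IsSMulRegular (NodeAlg B π ⧸ Ideal.span ({a} : Set (NodeAlg B π))) e := by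
        apply isSMulRegular_of
        refine Groth.Agent.S15319.swap_regular e a hereg ?_
        intro w hw
        rcases hep.mem_or_mem hw with h | h
        · exact absurd h hae
        · exact h
      have hK₂eq : K₂ = Ideal.span {t ^ (m₁' + 1) * e ^ m₂} ⊔ Ideal.span {a} := by
        rw [hK₂]
        apply le_antisymm
        · rw [Ideal.span_le]
          intro x hx
          simp only [Set.mem_insert_iff, Set.mem_singleton_iff] at hx
          rcases hx with rfl | rfl | rfl
          · exact Ideal.mem_sup_right (Ideal.subset_span rfl)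
          · rw [hbeq]
            apply Ideal.mul_mem_left
            exact Ideal.sub_mem _ (Ideal.mem_sup_left (Ideal.mul_mem_left _ _ (Ideal.subset_span rfl)))
              (Ideal.mem_sup_right (Ideal.subset_span rfl))
          · exact Ideal.mem_sup_left (Ideal.subset_span rfl)
        · refine sup_le ?_ ?_
          · exact Ideal.span_mono (by simp)
          · exact Ideal.span_mono (by simp)
      have hta : Ideal.span ({t, a} : Set (NodeAlg B π)) = Ideal.span {t, b} := by
        apply le_antisymm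
        · rw [Ideal.span_le]
          intro x hx
          simp only [Set.mem_insert_iff, Set.mem_singleton_iff] at hx
          rcases hx with hx | hx
          · rw [hx]; exact Ideal.subset_span (by simp)
          · have : a = G * (t ^ (m₁' + 1) * e ^ m₂) - b * (α : NodeAlg B π) := by rw [hbα]; ring
            rw [hx, this, hPt]
            exact Ideal.sub_mem _ (Ideal.mul_mem_left _ _ (Ideal.mul_mem_right _ _
              (Ideal.subset_span (by simp)))) (Ideal.mul_mem_right _ _ (Ideal.subset_span (by simp)))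
        · rw [Ideal.span_le]
          intro x hx
          simp only [Set.mem_insert_iff, Set.mem_singleton_iff] at hx
          rcases hx with hx | hx
          · rw [hx]; exact Ideal.subset_span (by simp)
          · rw [hx, hbeq, hPt]
            apply Ideal.mul_mem_left
            exact Ideal.sub_mem _ (Ideal.mul_mem_left _ _ (Ideal.mul_mem_right _ _
              (Ideal.subset_span (by simp)))) (Ideal.subset_span (by simp))
      rw [hK₂eq, length_peel a t e hregt hrege, hta]
  rw [length_colon I K₁ t hcol1, hlen1, length_colon K₁ K₂ e hcol2, hsup2, hlenK2]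
  push_cast
  ring

theorem main (hπ : Irreducible π)
    (j i₁ i₂ : ℕ) (h12 : i₁ ≤ i₂) (h2 : 0 < i₂) (h2j : i₂ < j) (γ : B) (hγ : IsUnit γ)
    (σ : ArLef.NodeAlg B π ≃+* ArLef.NodeAlg B π)
    (hσB : ∀ c : B, σ (algebraMap B (ArLef.NodeAlg B π) c) - algebraMap B (ArLef.NodeAlg B π) c ∈
      Ideal.span ({algebraMap B (ArLef.NodeAlg B π) (π ^ j)} : Set (ArLef.NodeAlg B π)))
    (hσπ : σ (algebraMap B (ArLef.NodeAlg B π) π) = algebraMap B (ArLef.NodeAlg B π) (π + γ * π ^ j))
    (α β : (ArLef.NodeAlg B π)ˣ) (ht : σ (ArLef.NodeAlg.t π) = (α : ArLef.NodeAlg B π) * ArLef.NodeAlg.t π) (he : σ (ArLef.NodeAlg.e π) = (β : ArLef.NodeAlg B π) * ArLef.NodeAlg.e π)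
    (a b : ArLef.NodeAlg B π) (ha : (α : ArLef.NodeAlg B π) - 1 = ArLef.NodeAlg.t π ^ i₁ * ArLef.NodeAlg.e π ^ i₂ * a) (hb : (β : ArLef.NodeAlg B π) - 1 = ArLef.NodeAlg.t π ^ i₁ * ArLef.NodeAlg.e π ^ i₂ * b)
    (hea : ¬ (ArLef.NodeAlg.e π ∣ a)) (htb : ¬ (ArLef.NodeAlg.t π ∣ b)) :
    Module.length (ArLef.NodeAlg B π) (ArLef.NodeAlg B π ⧸ (ArLef.fixIdeal σ).colon ({ArLef.NodeAlg.t π ^ i₁ * ArLef.NodeAlg.e π ^ i₂} : Set (ArLef.NodeAlg B π))) =
      1 + ((j - i₁ : ℕ) : ℕ∞) * Module.length (ArLef.NodeAlg B π) (ArLef.NodeAlg B π ⧸ Ideal.span ({ArLef.NodeAlg.t π, b} : Set (ArLef.NodeAlg B π))) +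
        ((j - i₂ : ℕ) : ℕ∞) * Module.length (ArLef.NodeAlg B π) (ArLef.NodeAlg B π ⧸ Ideal.span ({ArLef.NodeAlg.e π, a} : Set (ArLef.NodeAlg B π))) := by
  obtain ⟨m₂, rfl⟩ : ∃ m₂, j = i₂ + m₂ + 1 := ⟨j - i₂ - 1, by omega⟩
  obtain ⟨d, rfl⟩ : ∃ d, i₂ = i₁ + d := ⟨i₂ - i₁, by omega⟩
  set m₁ := d + m₂ with hm₁
  set t := NodeAlg.t π with ht_def
  set e := NodeAlg.e π with he_def
  set P : NodeAlg B π := algebraMap B (NodeAlg B π) π with hP
  set G : NodeAlg B π := algebraMap B (NodeAlg B π) γ with hG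
  set D : NodeAlg B π := t ^ i₁ * e ^ (i₁ + d) with hD
  have hte : t * e = P := (mkN_C_eq π).symm
  have hDreg : ∀ w, D * w = 0 → w = 0 := fun w hw => te_regular π hπ i₁ (i₁ + d) w hw
  have hI := fixIdeal_eq π hπ (i₁ + d + m₂ + 1) γ hγ σ hσB hσπ α β ht he
  have hI' : fixIdeal σ = Ideal.span {D * (a * t), D * (b * e),
      D * (t ^ (m₁ + 1) * e ^ (m₂ + 1))} := by
    rw [hI, ha, hb, ← hP, ← hte, hD, hm₁]
    congr 2
    · ring
    · congr 1
      · ring
      · congr 1
        ring
  have hcolon := colon_eq D (a * t) (b * e) (t ^ (m₁ + 1) * e ^ (m₂ + 1)) hDreg (fixIdeal σ) hI'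
  have hαβ := alpha_mul_beta π hπ (i₁ + d + m₂) γ σ hσπ α β ht he
  have hbα : b * (α : NodeAlg B π) = G * (t ^ m₁ * e ^ m₂) - a := by
    have hα : (α : NodeAlg B π) = 1 + D * a := by rw [← ha]; ring
    have hβ : (β : NodeAlg B π) = 1 + D * b := by rw [← hb]; ring
    have h1 : D * (a + b + D * a * b - G * (t ^ m₁ * e ^ m₂)) = 0 := by
      have h2 : D * (G * (t ^ m₁ * e ^ m₂)) = G * P ^ (i₁ + d + m₂) := by
        rw [← hte, hD, hm₁]; ring
      rw [mul_sub, h2]
      rw [hα, hβ] at hαβ
      linear_combination hαβ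
    have h3 := hDreg _ h1
    rw [hα]
    linear_combination h3
  rw [hcolon, core π hπ m₁ m₂ (by omega) a b G α hbα hea htb]
  have e1 : i₁ + d + m₂ + 1 - i₁ = m₁ + 1 := by omega
  have e2 : i₁ + d + m₂ + 1 - (i₁ + d) = m₂ + 1 := by omega
  rw [e1, e2]

end

/-- In the cases where σ fixes the two branches through the point, these lie on different components,
and the second branch lies in the divisorial part of the fixed locus with multiplicity i₂ strictly
between 0 and j while the first has multiplicity i₁ ≤ i₂, let B be a discrete valuation ring with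
uniformizer π, N = B[[t, e]]/(te - π) the complete local ring of a semi-stable arithmetic surface
over B at a singular point x of the closed fibre, and σ a ring automorphism of N with σ(π) = π + γ
π^j (γ a unit of B, j ≥ 1) and σ(c) - c ∈ π^j N for all c ∈ B. Suppose σ(t) = α t and σ(e) = β e
with units α, β, and α - 1 = t^{i₁} e^{i₂} a, β - 1 = t^{i₁} e^{i₂} b with i₁ ≤ i₂, 0 < i₂ < j, e
not dividing a and t not dividing b. Then, I being the fixed-point ideal of σ, whose divisorial part
near x is t^{i₁} e^{i₂}, the residual fixed-point scheme with ideal (I : t^{i₁} e^{i₂}) has length 1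
+ (j - i₁)·Leng N/(t, b) + (j - i₂)·Leng N/(e, a) at x; here Leng N/(t, b) + i₂ + 1 and Leng N/(e,
a) + i₁ + 1 are the orders at x of the derivations σ induces on the two components (the fixed-point
multiplicities when the component is outside the divisorial part). -/
theorem result (B : Type u) [CommRing B] [IsDomain B] [IsDiscreteValuationRing B] (π : B) (hπ : Irreducible π)
    (j i₁ i₂ : ℕ) (h12 : i₁ ≤ i₂) (h2 : 0 < i₂) (h2j : i₂ < j) (γ : B) (hγ : IsUnit γ)
    (σ : ArLef.NodeAlg B π ≃+* ArLef.NodeAlg B π)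
    (hσB : ∀ c : B, σ (algebraMap B (ArLef.NodeAlg B π) c) - algebraMap B (ArLef.NodeAlg B π) c ∈
      Ideal.span ({algebraMap B (ArLef.NodeAlg B π) (π ^ j)} : Set (ArLef.NodeAlg B π)))
    (hσπ : σ (algebraMap B (ArLef.NodeAlg B π) π) = algebraMap B (ArLef.NodeAlg B π) (π + γ * π ^ j))
    (α β : (ArLef.NodeAlg B π)ˣ) (ht : σ (ArLef.NodeAlg.t π) = (α : ArLef.NodeAlg B π) * ArLef.NodeAlg.t π) (he : σ (ArLef.NodeAlg.e π) = (β : ArLef.NodeAlg B π) * ArLef.NodeAlg.e π)
    (a b : ArLef.NodeAlg B π) (ha : (α : ArLef.NodeAlg B π) - 1 = ArLef.NodeAlg.t π ^ i₁ * ArLef.NodeAlg.e π ^ i₂ * a) (hb : (β : ArLef.NodeAlg B π) - 1 = ArLef.NodeAlg.t π ^ i₁ * ArLef.NodeAlg.e π ^ i₂ * b)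
    (hea : ¬ (ArLef.NodeAlg.e π ∣ a)) (htb : ¬ (ArLef.NodeAlg.t π ∣ b)) :
    Module.length (ArLef.NodeAlg B π) (ArLef.NodeAlg B π ⧸ (ArLef.fixIdeal σ).colon ({ArLef.NodeAlg.t π ^ i₁ * ArLef.NodeAlg.e π ^ i₂} : Set (ArLef.NodeAlg B π))) =
      1 + ((j - i₁ : ℕ) : ℕ∞) * Module.length (ArLef.NodeAlg B π) (ArLef.NodeAlg B π ⧸ Ideal.span ({ArLef.NodeAlg.t π, b} : Set (ArLef.NodeAlg B π))) +
        ((j - i₂ : ℕ) : ℕ∞) * Module.length (ArLef.NodeAlg B π) (ArLef.NodeAlg B π ⧸ Ideal.span ({ArLef.NodeAlg.e π, a} : Set (ArLef.NodeAlg B π))) := by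
  exact Groth.Agent.S19596.main π hπ j i₁ i₂ h12 h2 h2j γ hγ σ hσB hσπ α β ht he a b ha hb hea htb

end Groth.Agent.S19596
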