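import Groth.Statements.S19597
import Mathlib
import Groth.Agent.Lib.Helper2.NodeColon
-- import your own Groth.Agent.* helpers here

set_option autoImplicit false
universe u
open ArLef ArLef.NodeAlg

namespace Groth.Agent.S19597

section

set_option linter.style.haveILetI false
set_option linter.unusedVariables false
set_option linter.unusedSectionVars false

open ArLef ArLef.NodeAlg
open Groth.Agent.Helper23.NodeFix Groth.Agent.Helper23.NodeAlgLib Groth.Agent.Helper23.NodeLen
open Groth.Agent.Helper23.NodeCol Groth.Agent.S15323 Groth.Agent.Helper2.NodeColon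

variable {B : Type u} [CommRing B] [IsDomain B] [IsDiscreteValuationRing B] (π : B)

/-- the length computation for the ideal `(a t, b, t^(m+1))` -/
theorem core (hπ : Irreducible π) (m : ℕ) (a b G : NodeAlg B π)
    (α : (NodeAlg B π)ˣ)
    (hbα : b * (α : NodeAlg B π) = G * NodeAlg.t π ^ m - NodeAlg.e π * a)
    (htb : ¬ (NodeAlg.t π ∣ b)) :
    Module.length (NodeAlg B π) (NodeAlg B π ⧸ Ideal.span ({a * NodeAlg.t π, b,
      NodeAlg.t π ^ (m + 1)} : Set (NodeAlg B π))) + (m : ℕ∞) =
      ((m + 1 : ℕ) : ℕ∞) * Module.length (NodeAlg B π)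
        (NodeAlg B π ⧸ Ideal.span ({NodeAlg.t π, b} : Set (NodeAlg B π))) := by
  haveI : IsNoetherianRing (NodeAlg B π) := inferInstance
  set t := NodeAlg.t π with ht_def
  set e := NodeAlg.e π with he_def
  have htp := t_prime π hπ
  have htreg := t_regular π hπ
  set I : Ideal (NodeAlg B π) := Ideal.span {a * t, b, t ^ (m + 1)} with hIeq
  set K₁ : Ideal (NodeAlg B π) := Ideal.span {a, b, t ^ m} with hK₁
  have hbt : b ∉ Ideal.span ({t} : Set (NodeAlg B π)) := fun h => htb (Ideal.mem_span_singleton.1 h)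
  have hcol1 : ∀ z, z ∈ K₁ ↔ t * z ∈ I := by
    intro z
    constructor
    · intro hz
      rw [hIeq]
      rw [hK₁] at hz
      obtain ⟨u, v, w, rfl⟩ := mem_span3.1 hz
      have : t * (u * a + v * b + w * t ^ m) =
          u * (a * t) + (t * v) * b + w * t ^ (m + 1) := by
        ring
      rw [this]
      exact mem_span3.2 ⟨_, _, _, rfl⟩
    · intro hz
      rw [hIeq] at hz
      obtain ⟨u, v, w, huvw⟩ := mem_span3.1 hz
      have h1 : v * b ∈ Ideal.span ({t} : Set (NodeAlg B π)) := by
        rw [Ideal.mem_span_singleton']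
        refine ⟨z - u * a - w * t ^ m, ?_⟩
        linear_combination (-1 : NodeAlg B π) * huvw
      have h2 : v ∈ Ideal.span ({t} : Set (NodeAlg B π)) := by
        rcases htp.mem_or_mem h1 with h | h
        · exact h
        · exact absurd h hbt
      obtain ⟨v', rfl⟩ := Ideal.mem_span_singleton'.1 h2
      have h3 : t * (z - (u * a + v' * b + w * t ^ m)) = 0 := by
        linear_combination (-1 : NodeAlg B π) * huvw
      have h4 := sub_eq_zero.1 (htreg _ h3)
      rw [h4, hK₁]
      exact mem_span3.2 ⟨_, _, _, rfl⟩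
  have hsup1 : I ⊔ Ideal.span {t} = Ideal.span {t, b} := by
    rw [hIeq]
    apply le_antisymm
    · refine sup_le ?_ (Ideal.span_mono (by simp))
      rw [Ideal.span_le]
      intro x hx
      simp only [Set.mem_insert_iff, Set.mem_singleton_iff] at hx
      rcases hx with hx | hx | hx
      · rw [hx]; exact Ideal.mul_mem_left _ _ (Ideal.subset_span (by simp))
      · rw [hx]; exact Ideal.subset_span (by simp)
      · rw [hx, pow_succ]; exact Ideal.mul_mem_left _ _ (Ideal.subset_span (by simp))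
    · rw [Ideal.span_le]
      intro x hx
      simp only [Set.mem_insert_iff, Set.mem_singleton_iff] at hx
      rcases hx with hx | hx
      · rw [hx]; exact Ideal.mem_sup_right (Ideal.subset_span rfl)
      · rw [hx]; exact Ideal.mem_sup_left (Ideal.subset_span (by simp))
  rw [length_colon I K₁ t hcol1, hsup1]
  rcases Nat.eq_zero_or_pos m with hm0 | hmpos
  · have htop : K₁ = ⊤ := by
      rw [Ideal.eq_top_iff_one, hK₁, hm0, pow_zero]
      exact Ideal.subset_span (by simp)
    have h0 : Module.length (NodeAlg B π) (NodeAlg B π ⧸ K₁) = 0 := by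
      rw [htop, Module.length_eq_zero_iff]
      exact Submodule.Quotient.subsingleton_iff.2 rfl
    rw [h0, hm0]
    simp
  · obtain ⟨m', rfl⟩ : ∃ m', m = m' + 1 := ⟨m - 1, by omega⟩
    have hPt : t ^ (m' + 1) = t * t ^ m' := by ring
    have hbeq : b = (↑α⁻¹ : NodeAlg B π) * (G * t ^ (m' + 1) - e * a) := by
      rw [← hbα, mul_comm b, ← mul_assoc, Units.inv_mul, one_mul]
    have hat : a ∉ Ideal.span ({t} : Set (NodeAlg B π)) := by
      intro h
      have h1 : b * (α : NodeAlg B π) ∈ Ideal.span ({t} : Set (NodeAlg B π)) := by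
        rw [hbα, hPt]
        exact Ideal.sub_mem _ (Ideal.mul_mem_left _ _ (Ideal.mul_mem_right _ _
          (Ideal.subset_span rfl))) (Ideal.mul_mem_left _ _ h)
      rcases htp.mem_or_mem h1 with h2 | h2
      · exact hbt h2
      · exact htp.ne_top (Ideal.eq_top_of_isUnit_mem _ h2 α.isUnit)
    have hregt : IsSMulRegular (NodeAlg B π ⧸ Ideal.span ({a} : Set (NodeAlg B π))) t := by
      apply isSMulRegular_of
      refine Groth.Agent.S15319.swap_regular t a htreg ?_
      intro w hw
      rcases htp.mem_or_mem hw with h | h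
      · exact absurd h hat
      · exact h
    have hK₁eq : K₁ = Ideal.span {t ^ (m' + 1) * t ^ 0} ⊔ Ideal.span {a} := by
      rw [hK₁, pow_zero, mul_one]
      apply le_antisymm
      · rw [Ideal.span_le]
        intro x hx
        simp only [Set.mem_insert_iff, Set.mem_singleton_iff] at hx
        rcases hx with hx | hx | hx
        · rw [hx]; exact Ideal.mem_sup_right (Ideal.subset_span rfl)
        · rw [hx, hbeq]
          apply Ideal.mul_mem_left
          exact Ideal.sub_mem _ (Ideal.mem_sup_left (Ideal.mul_mem_left _ _ (Ideal.subset_span rfl)))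
            (Ideal.mem_sup_right (Ideal.mul_mem_left _ _ (Ideal.subset_span rfl)))
        · rw [hx]; exact Ideal.mem_sup_left (Ideal.subset_span rfl)
      · refine sup_le ?_ ?_
        · exact Ideal.span_mono (by simp)
        · exact Ideal.span_mono (by simp)
    -- `(t, b) = (t, e a)`
    have htb' : Ideal.span ({t, b} : Set (NodeAlg B π)) =
        Ideal.span {e} * Ideal.span {a} ⊔ Ideal.span {t} := by
      rw [Ideal.span_singleton_mul_span_singleton]
      apply le_antisymm
      · rw [Ideal.span_le]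
        intro x hx
        simp only [Set.mem_insert_iff, Set.mem_singleton_iff] at hx
        rcases hx with hx | hx
        · rw [hx]; exact Ideal.mem_sup_right (Ideal.subset_span rfl)
        · rw [hx, hbeq, hPt]
          apply Ideal.mul_mem_left
          exact Ideal.sub_mem _ (Ideal.mem_sup_right (Ideal.mul_mem_left _ _
            (Ideal.mul_mem_right _ _ (Ideal.subset_span rfl))))
            (Ideal.mem_sup_left (Ideal.subset_span rfl))
      · refine sup_le ?_ (Ideal.span_mono (by simp))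
        rw [Ideal.span_le, Set.singleton_subset_iff]
        have : e * a = G * t ^ (m' + 1) - b * (α : NodeAlg B π) := by rw [hbα]; ring
        rw [SetLike.mem_coe, this, hPt]
        exact Ideal.sub_mem _ (Ideal.mul_mem_left _ _ (Ideal.mul_mem_right _ _
          (Ideal.subset_span (by simp)))) (Ideal.mul_mem_right _ _ (Ideal.subset_span (by simp)))
    have hlenb : Module.length (NodeAlg B π) (NodeAlg B π ⧸ Ideal.span ({t, b} : Set (NodeAlg B π))) =
        1 + Module.length (NodeAlg B π) (NodeAlg B π ⧸ Ideal.span ({t, a} : Set (NodeAlg B π))) := by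
      rw [htb']
      have hreg : IsSMulRegular (NodeAlg B π ⧸ Ideal.span ({t} : Set (NodeAlg B π))) e := by
        apply isSMulRegular_of
        intro z hz
        rcases htp.mem_or_mem hz with h | h
        · exact absurd h (e_not_mem_t π hπ)
        · exact h
      rw [Groth.Agent.S15315.result (NodeAlg B π) e t (Ideal.span {a}) hreg]
      have h1 : Ideal.span ({e, t} : Set (NodeAlg B π)) = Ideal.span {t, e} := by
        rw [Set.pair_comm]
      have h2 : Ideal.span ({a} : Set (NodeAlg B π)) ⊔ Ideal.span {t} = Ideal.span {t, a} := by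
        rw [sup_comm, ← Ideal.span_union, Set.singleton_union]
      rw [h1, h2]
      haveI := Groth.Agent.S15320.te_max π hπ
      rw [length_quot_maximal]
    rw [hK₁eq, length_peel a t t hregt hregt, hlenb]
    push_cast
    ring

theorem main (hπ : Irreducible π)
    (j i₁ : ℕ) (h1 : i₁ < j) (γ : B) (hγ : IsUnit γ)
    (σ : ArLef.NodeAlg B π ≃+* ArLef.NodeAlg B π)
    (hσB : ∀ c : B, σ (algebraMap B (ArLef.NodeAlg B π) c) - algebraMap B (ArLef.NodeAlg B π) c ∈
      Ideal.span ({algebraMap B (ArLef.NodeAlg B π) (π ^ j)} : Set (ArLef.NodeAlg B π)))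
    (hσπ : σ (algebraMap B (ArLef.NodeAlg B π) π) = algebraMap B (ArLef.NodeAlg B π) (π + γ * π ^ j))
    (α β : (ArLef.NodeAlg B π)ˣ) (ht : σ (ArLef.NodeAlg.t π) = (α : ArLef.NodeAlg B π) * ArLef.NodeAlg.t π) (he : σ (ArLef.NodeAlg.e π) = (β : ArLef.NodeAlg B π) * ArLef.NodeAlg.e π)
    (a b : ArLef.NodeAlg B π) (ha : (α : ArLef.NodeAlg B π) - 1 = ArLef.NodeAlg.t π ^ i₁ * ArLef.NodeAlg.e π ^ j * a) (hb : (β : ArLef.NodeAlg B π) - 1 = ArLef.NodeAlg.t π ^ i₁ * ArLef.NodeAlg.e π ^ (j - 1) * b)
    (htb : ¬ (ArLef.NodeAlg.t π ∣ b)) :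
    Module.length (ArLef.NodeAlg B π) (ArLef.NodeAlg B π ⧸ (ArLef.fixIdeal σ).colon ({ArLef.NodeAlg.t π ^ i₁ * ArLef.NodeAlg.e π ^ j} : Set (ArLef.NodeAlg B π))) + ((j - 1 - i₁ : ℕ) : ℕ∞) =
      ((j - i₁ : ℕ) : ℕ∞) * Module.length (ArLef.NodeAlg B π) (ArLef.NodeAlg B π ⧸ Ideal.span ({ArLef.NodeAlg.t π, b} : Set (ArLef.NodeAlg B π))) := by
  obtain ⟨m, rfl⟩ : ∃ m, j = i₁ + m + 1 := ⟨j - i₁ - 1, by omega⟩
  have hj1 : i₁ + m + 1 - 1 = i₁ + m := by omega
  rw [hj1] at hb
  set t := NodeAlg.t π with ht_def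
  set e := NodeAlg.e π with he_def
  set P : NodeAlg B π := algebraMap B (NodeAlg B π) π with hP
  set G : NodeAlg B π := algebraMap B (NodeAlg B π) γ with hG
  set D : NodeAlg B π := t ^ i₁ * e ^ (i₁ + m + 1) with hD
  set D₀ : NodeAlg B π := t ^ i₁ * e ^ (i₁ + m) with hD₀
  have hte : t * e = P := (mkN_C_eq π).symm
  have hDreg : ∀ w, D * w = 0 → w = 0 := fun w hw => te_regular π hπ i₁ (i₁ + m + 1) w hw
  have hD₀reg : ∀ w, D₀ * w = 0 → w = 0 := fun w hw => te_regular π hπ i₁ (i₁ + m) w hw
  have hDD₀ : D = D₀ * e := by rw [hD, hD₀]; ring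
  have hI := fixIdeal_eq π hπ (i₁ + m + 1) γ hγ σ hσB hσπ α β ht he
  have hI' : fixIdeal σ = Ideal.span {D * (a * t), D * b, D * t ^ (m + 1)} := by
    rw [hI, ha, hb, ← hP, ← hte, hD]
    congr 2
    · ring
    · congr 1
      · ring
      · congr 1
        ring
  have hcolon := colon_eq D (a * t) b (t ^ (m + 1)) hDreg (fixIdeal σ) hI'
  have hαβ := alpha_mul_beta π hπ (i₁ + m) γ σ hσπ α β ht he
  have hbα : b * (α : NodeAlg B π) = G * t ^ m - e * a := by
    have hα : (α : NodeAlg B π) = 1 + D * a := by rw [← ha]; ring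
    have hβ : (β : NodeAlg B π) = 1 + D₀ * b := by rw [← hb]; ring
    have h1 : D₀ * (e * a + b + D * a * b - G * t ^ m) = 0 := by
      have h2 : D₀ * (G * t ^ m) = G * P ^ (i₁ + m) := by
        rw [← hte, hD₀]; ring
      rw [mul_sub, h2]
      rw [hα, hβ, hDD₀] at hαβ
      rw [hDD₀]
      linear_combination hαβ
    have h3 := hD₀reg _ h1
    rw [hα]
    linear_combination h3
  rw [hcolon]
  have e1 : i₁ + m + 1 - 1 - i₁ = m := by omega
  have e2 : i₁ + m + 1 - i₁ = m + 1 := by omega
  rw [e1, e2]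
  exact core π hπ m a b G α hbα htb

end

/-- In the cases where σ fixes the two branches through the point, these lie on different components,
the second lies in the divisorial part of the fixed locus with the maximal multiplicity j and the
first with multiplicity i₁ < j, let B be a discrete valuation ring with uniformizer π, N = B[[t,
e]]/(te - π) the complete local ring of a semi-stable arithmetic surface over B at a singular point
x of the closed fibre, and σ a ring automorphism of N with σ(π) = π + γ π^j (γ a unit of B, j ≥ 1)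
and σ(c) - c ∈ π^j N for all c ∈ B. Suppose σ(t) = α t and σ(e) = β e with units α, β, that α - 1 =
t^{i₁} e^j a and β - 1 = t^{i₁} e^{j-1} b with i₁ < j and t not dividing b. Then, I being the
fixed-point ideal of σ, whose divisorial part near x is t^{i₁} e^j, the length l of the residual
fixed-point scheme with ideal (I : t^{i₁} e^j) satisfies l + (j - 1 - i₁) = (j - i₁)·Leng N/(t, b);
for i₁ = 0, Leng N/(t, b) + j is the fixed-point multiplicity s₁ of σ at x on the first component
and l = j (s₁ - j - 1) + 1. -/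
theorem result (B : Type u) [CommRing B] [IsDomain B] [IsDiscreteValuationRing B] (π : B) (hπ : Irreducible π)
    (j i₁ : ℕ) (h1 : i₁ < j) (γ : B) (hγ : IsUnit γ)
    (σ : ArLef.NodeAlg B π ≃+* ArLef.NodeAlg B π)
    (hσB : ∀ c : B, σ (algebraMap B (ArLef.NodeAlg B π) c) - algebraMap B (ArLef.NodeAlg B π) c ∈
      Ideal.span ({algebraMap B (ArLef.NodeAlg B π) (π ^ j)} : Set (ArLef.NodeAlg B π)))
    (hσπ : σ (algebraMap B (ArLef.NodeAlg B π) π) = algebraMap B (ArLef.NodeAlg B π) (π + γ * π ^ j))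
    (α β : (ArLef.NodeAlg B π)ˣ) (ht : σ (ArLef.NodeAlg.t π) = (α : ArLef.NodeAlg B π) * ArLef.NodeAlg.t π) (he : σ (ArLef.NodeAlg.e π) = (β : ArLef.NodeAlg B π) * ArLef.NodeAlg.e π)
    (a b : ArLef.NodeAlg B π) (ha : (α : ArLef.NodeAlg B π) - 1 = ArLef.NodeAlg.t π ^ i₁ * ArLef.NodeAlg.e π ^ j * a) (hb : (β : ArLef.NodeAlg B π) - 1 = ArLef.NodeAlg.t π ^ i₁ * ArLef.NodeAlg.e π ^ (j - 1) * b)
    (htb : ¬ (ArLef.NodeAlg.t π ∣ b)) :
    Module.length (ArLef.NodeAlg B π) (ArLef.NodeAlg B π ⧸ (ArLef.fixIdeal σ).colon ({ArLef.NodeAlg.t π ^ i₁ * ArLef.NodeAlg.e π ^ j} : Set (ArLef.NodeAlg B π))) + ((j - 1 - i₁ : ℕ) : ℕ∞) =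
      ((j - i₁ : ℕ) : ℕ∞) * Module.length (ArLef.NodeAlg B π) (ArLef.NodeAlg B π ⧸ Ideal.span ({ArLef.NodeAlg.t π, b} : Set (ArLef.NodeAlg B π))) := by
  exact Groth.Agent.S19597.main π hπ j i₁ h1 γ hγ σ hσB hσπ α β ht he a b ha hb htb

end Groth.Agent.S19597
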