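import Groth.Statements.S19599
import Groth.Agent.Lib.Helper18.MultTypeFree
import Groth.Agent.Lib.Helper18.GrpSchOm

set_option autoImplicit false
open CategoryTheory MonoidalCategory CartesianMonoidalCategory MonObj GrpObj AlgebraicGeometry
universe u
open SGA3x

namespace Groth.Agent.S19599

/-- Let G be an affine group scheme of finite presentation over a scheme S and H ⊆ G a closed subgroup
scheme of finite presentation over S which is of multiplicative type (of finite type). Then the
centralizer of H in G (points of G commuting with every point of H after any base change) is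
representable by a closed subscheme of G. Here G is not assumed smooth, and smoothness of the
centralizer is not asserted. -/
theorem result {S : Scheme.{u}} (G H : Over S) [GrpObj G] [GrpObj H]
    (hGa : IsAffineHom G.hom) (hGfp : LocallyOfFinitePresentation G.hom)
    (i : H ⟶ G) [IsMonHom i] (hi : IsClosedImmersion i.left) (hHfp : LocallyOfFinitePresentation H.hom)
    (hH : SGA3x.IsMultTypeFT H) :
    ∃ (C : Over S) (c : C ⟶ G), IsClosedImmersion c.left ∧
      ∀ (X : Over S) (g : X ⟶ G), (∃ z : X ⟶ C, z ≫ c = g) ↔
        ∀ (X' : Over S) (x : X' ⟶ X) (a : X' ⟶ H), (x ≫ g) * (a ≫ i) = (a ≫ i) * (x ≫ g) := by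
  haveI := hGa
  haveI : IsSeparated G.hom := inferInstance
  haveI : IsClosedImmersion η[G].left :=
    (Groth.Agent.Helper18.GrpSchOm.isSeparated_iff G).mp inferInstance
  obtain ⟨C, c, hc, -, h⟩ := Groth.Agent.Helper18.EssFree.pts_closed_essFreeFam True
    (Groth.Agent.Helper18.EssFree.essFreeHypFam_snd_of_multType H G hH)
    (snd H G * (fst H G ≫ i) * (snd H G)⁻¹ * (fst H G ≫ i)⁻¹) η[G]
  refine ⟨C, c, hc, ?_⟩
  intro T g
  rw [h]
  refine forall_congr' fun T' => forall_congr' fun s => forall_congr' fun x => ?_
  simp only [MonObj.comp_mul, GrpObj.comp_inv, lift_snd, lift_fst_assoc]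
  constructor
  · rintro ⟨x', hx'⟩
    have : x' ≫ η[G] = (1 : T' ⟶ G) := by
      rw [Hom.one_def, toUnit_unique x' (toUnit _)]
    rw [this, mul_inv_eq_one, mul_inv_eq_iff_eq_mul] at hx'
    exact hx'
  · intro hx
    refine ⟨toUnit _, ?_⟩
    rw [← Hom.one_def, mul_inv_eq_one, mul_inv_eq_iff_eq_mul]
    exact hx

end Groth.Agent.S19599
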