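import Groth.Statements.S19609
import Mathlib

set_option autoImplicit false
universe u
open CartMod

namespace Groth.Agent.S19609

theorem mem_pow_smul_top_iff {A : Type u} [CommRing A] (p : A) (n : ℕ) (x : A) :
    x ∈ ((Ideal.span {p}) ^ n • ⊤ : Submodule A A) ↔ p ^ n ∣ x := by
  rw [smul_eq_mul, Ideal.mul_top, Ideal.span_singleton_pow, Ideal.mem_span_singleton]

theorem hausdorff_dvd {A : Type u} [CommRing A] (p : A) [IsHausdorff (Ideal.span {p}) A] (x : A)
    (h : ∀ n : ℕ, p ^ n ∣ x) : x = 0 := by
  apply IsHausdorff.haus (I := Ideal.span {p}) (M := A) inferInstance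
  intro n
  rw [SModEq.sub_mem, sub_zero, mem_pow_smul_top_iff]
  exact h n

/-- Let p be a prime and u : A → B a ring homomorphism between commutative rings which are complete and
separated for the p-adic topology and have no p-torsion (flat over the p-adic base). If u induces a
bijection A/pA → B/pB (injectivity: u a ∈ pB forces a ∈ pA; surjectivity: every b ∈ B is congruent
to some u a modulo pB), then u is bijective. (The published statement is for a morphism of flat
p-adic formal schemes over the Witt vectors of a perfect field: if its special fibre is an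
isomorphism, so is the morphism; this row is its affine, ring-level case.) -/
theorem result (p : ℕ) [Fact p.Prime]
    {A B : Type u} [CommRing A] [CommRing B]
    [IsAdicComplete (Ideal.span {(p : A)}) A] [IsAdicComplete (Ideal.span {(p : B)}) B]
    (hA : IsSMulRegular A (p : A)) (hB : IsSMulRegular B (p : B)) (u : A →+* B)
    (hinj : ∀ a : A, u a ∈ Ideal.span {(p : B)} → a ∈ Ideal.span {(p : A)})
    (hsurj : ∀ b : B, ∃ a : A, b - u a ∈ Ideal.span {(p : B)}) :
    Function.Bijective u := by
  have hpu : ∀ a : A, u ((p : A) * a) = (p : B) * u a := by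
    intro a; rw [map_mul, map_natCast]
  have hpnu : ∀ (n : ℕ) (a : A), u ((p : A) ^ n * a) = (p : B) ^ n * u a := by
    intro n a; rw [map_mul, map_pow, map_natCast]
  have hBreg : ∀ n : ℕ, IsSMulRegular B ((p : B) ^ n) := fun n => hB.pow n
  constructor
  · -- injectivity
    rw [injective_iff_map_eq_zero]
    intro a ha
    have key : ∀ n : ℕ, ∀ a : A, u a = 0 → (p : A) ^ n ∣ a := by
      intro n
      induction n with
      | zero => intro a _; simp
      | succ n ih =>
        intro a ha
        have h1 : a ∈ Ideal.span {(p : A)} := hinj a (by rw [ha]; exact Ideal.zero_mem _)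
        obtain ⟨a', rfl⟩ := Ideal.mem_span_singleton.mp h1
        have h2 : u a' = 0 := by
          have h3 : (p : B) * u a' = 0 := by rw [← hpu, ha]
          have h4 : (p : B) • u a' = (p : B) • (0 : B) := by
            rw [smul_eq_mul, smul_eq_mul, h3, mul_zero]
          exact hB h4
        obtain ⟨c, rfl⟩ := ih a' h2
        exact ⟨c, by ring⟩
    exact hausdorff_dvd (p : A) a (fun n => key n a ha)
  · -- surjectivity
    intro b
    choose α hα using hsurj
    have hβ : ∀ b : B, ∃ b' : B, b - u (α b) = (p : B) * b' := fun b =>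
      Ideal.mem_span_singleton.mp (hα b)
    choose β hβ using hβ
    let bs : ℕ → B := fun n => β^[n] b
    let s : ℕ → A := fun n => ∑ i ∈ Finset.range n, (p : A) ^ i * α (bs i)
    have hs : ∀ n, b - u (s n) = (p : B) ^ n * bs n := by
      intro n
      induction n with
      | zero => simp [s, bs]
      | succ n ih =>
        have e1 : s (n + 1) = s n + (p : A) ^ n * α (bs n) := Finset.sum_range_succ _ _
        have e2 : bs (n + 1) = β (bs n) := Function.iterate_succ_apply' β n b
        rw [e1, map_add, hpnu, e2, pow_succ, mul_assoc, ← hβ (bs n)]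
        have : b - (u (s n) + (p : B) ^ n * u (α (bs n))) = (b - u (s n)) - (p : B) ^ n * u (α (bs n)) := by ring
        rw [this, ih]
        ring
    have hcauchy : ∀ {m n : ℕ}, m ≤ n → s m ≡ s n [SMOD ((Ideal.span {(p : A)}) ^ m • ⊤ : Submodule A A)] := by
      intro m n hmn
      rw [SModEq.sub_mem, mem_pow_smul_top_iff]
      have : s n = s m + ∑ i ∈ Finset.Ico m n, (p : A) ^ i * α (bs i) := by
        simp only [s]
        rw [Finset.sum_range_add_sum_Ico _ hmn]
      rw [this, sub_add_cancel_left, dvd_neg]
      apply Finset.dvd_sum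
      intro i hi
      exact Dvd.dvd.mul_right (pow_dvd_pow _ (Finset.mem_Ico.mp hi).1) _
    obtain ⟨L, hL⟩ := IsPrecomplete.prec' (I := Ideal.span {(p : A)}) (M := A) s hcauchy
    refine ⟨L, ?_⟩
    have : b - u L = 0 := by
      apply hausdorff_dvd (p : B)
      intro n
      have h1 := hL n
      rw [SModEq.sub_mem, mem_pow_smul_top_iff] at h1
      obtain ⟨c, hc⟩ := h1
      have h2 : b - u L = (b - u (s n)) + u (s n - L) := by rw [map_sub]; ring
      rw [h2, hs n, hc, hpnu]
      exact ⟨bs n + u c, by ring⟩
    exact (sub_eq_zero.mp this).symm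


end Groth.Agent.S19609
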