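import Groth.Statements.S19610
import Groth.Agent.Lib.Helper29.H1LocalCriterion

set_option autoImplicit false
universe u
open scoped TensorProduct
open CartMod

namespace Groth.Agent.S19610

/-- Let p be a prime and B a commutative algebra over the commutative ring A, both complete and
separated for the p-adic topology and both without p-torsion (flat over the p-adic base). If B/pB is
flat over A/pA, then B/p^nB is flat over A/p^nA for every n ≥ 1 (the quotients are written as base
changes (A/p^n) ⊗_A B). (The published statement is for a morphism of flat p-adic formal schemes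
over the Witt vectors of a perfect field: if its special fibre is flat, so are the induced morphisms
of schemes modulo every power of p; this row is its affine, ring-level case.) -/
theorem result (p : ℕ) [Fact p.Prime]
    {A B : Type u} [CommRing A] [CommRing B] [Algebra A B]
    [IsAdicComplete (Ideal.span {(p : A)}) A] [IsAdicComplete (Ideal.span {(p : B)}) B]
    (hA : IsSMulRegular A (p : A)) (hB : IsSMulRegular B (p : B))
    (h : Module.Flat (A ⧸ Ideal.span {(p : A)}) ((A ⧸ Ideal.span {(p : A)}) ⊗[A] B))
    (n : ℕ) (hn : 1 ≤ n) :
    Module.Flat (A ⧸ (Ideal.span {(p : A)} ^ n)) ((A ⧸ (Ideal.span {(p : A)} ^ n)) ⊗[A] B) := by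
  have H1 : Function.Injective ((Ideal.span {(p : A)}).subtype.rTensor B) := by
    have hmem : ∀ a : A, a * (p : A) ∈ Ideal.span {(p : A)} :=
      fun a => Ideal.mul_mem_left _ _ (Ideal.subset_span rfl)
    let e₀ : A →ₗ[A] ↥(Ideal.span {(p : A)}) :=
      { toFun := fun a => ⟨a * (p : A), hmem a⟩
        map_add' := fun a b => Subtype.ext (add_mul a b _)
        map_smul' := fun r a => Subtype.ext (by simp [mul_assoc]) }
    have he₀surj : Function.Surjective e₀ := by
      rintro ⟨x, hx⟩
      obtain ⟨a, rfl⟩ := Ideal.mem_span_singleton'.1 hx
      exact ⟨a, rfl⟩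
    have hsurj : Function.Surjective (e₀.rTensor B) := LinearMap.rTensor_surjective B he₀surj
    have hcomp : ∀ z : A ⊗[A] B, TensorProduct.lid A B
        ((Ideal.span {(p : A)}).subtype.rTensor B (e₀.rTensor B z))
          = (p : B) • TensorProduct.lid A B z := by
      intro z
      induction z using TensorProduct.induction_on with
      | zero => simp
      | tmul a b =>
        simp only [LinearMap.rTensor_tmul, TensorProduct.lid_tmul, Submodule.subtype_apply]
        change (a * (p : A)) • b = (p : B) • a • b
        rw [mul_comm, mul_smul, Algebra.smul_def (p : A), map_natCast, smul_eq_mul]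
      | add z w hz hw => simp only [map_add, smul_add, hz, hw]
    intro x y hxy
    obtain ⟨x', rfl⟩ := hsurj x
    obtain ⟨y', rfl⟩ := hsurj y
    have h1 := congrArg (TensorProduct.lid A B) hxy
    rw [hcomp, hcomp] at h1
    have h2 : TensorProduct.lid A B x' = TensorProduct.lid A B y' := hB h1
    rw [(TensorProduct.lid A B).injective h2]
  have := h
  exact Groth.Agent.Helper29.H1Copy.flat_quotient_pow (Ideal.span {(p : A)}) H1 n


end Groth.Agent.S19610
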