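import Groth.Statements.S19612
import Groth.Agent.Lib.Helper29.PAdicFlat

set_option autoImplicit false
universe u
open scoped TensorProduct
open CartMod

namespace Groth.Agent.S19612

/-- Let k be a perfect field of characteristic p, W = W(k) the ring of Witt vectors of k, and A a
commutative W-algebra which is complete and separated for the p-adic topology (an adic W-algebra).
Then flatness of A over W is equivalent to flatness of A/p^nA = (W/p^nW) ⊗_W A over W/p^nW for every
n ≥ 1. -/
theorem result (p : ℕ) [Fact p.Prime] (k : Type u) [Field k]
    [CharP k p] [PerfectRing k p] (A : Type u) [CommRing A] [Algebra (WittVector p k) A]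
    [IsAdicComplete (Ideal.span {(p : WittVector p k)}) A] :
    Module.Flat (WittVector p k) A ↔
      ∀ n : ℕ, 1 ≤ n →
        Module.Flat (WittVector p k ⧸ (Ideal.span {(p : WittVector p k)} ^ n))
          ((WittVector p k ⧸ (Ideal.span {(p : WittVector p k)} ^ n)) ⊗[WittVector p k] A) := by
  constructor
  · intro h n _
    infer_instance
  · intro h
    have hp0 : (p : WittVector p k) ≠ 0 := WittVector.p_nonzero p k
    have hpt : ∀ x : A, (p : WittVector p k) • x = 0 → x = 0 :=
      Groth.Agent.Helper29.PAdicFlat.eq_zero_of_smul_eq_zero (p : WittVector p k) hp0 h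
    have htors : Submodule.torsion (WittVector p k) A = ⊥ := by
      rw [eq_bot_iff]
      rintro x ⟨⟨r, hr⟩, hrx⟩
      rw [Submodule.mem_bot]
      have hr0 : r ≠ 0 := nonZeroDivisors.ne_zero hr
      obtain ⟨m, b, rfl⟩ := WittVector.exists_eq_pow_p_mul' r hr0
      have h1 : ((p : WittVector p k) ^ m * (b : WittVector p k)) • x = 0 := hrx
      have h2 : (p : WittVector p k) ^ m • x = 0 := by
        have := congrArg (fun z => ((b⁻¹ : (WittVector p k)ˣ) : WittVector p k) • z) h1
        simp only [smul_zero, smul_smul] at this
        rw [mul_comm ((p : WittVector p k) ^ m), ← mul_assoc, Units.inv_mul, one_mul] at this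
        exact this
      clear h1 hrx hr hr0
      induction m with
      | zero => simpa using h2
      | succ m ih =>
        apply ih
        apply hpt
        rw [smul_smul, ← pow_succ']
        exact h2
    exact IsDedekindDomain.flat_iff_torsion_eq_bot.2 htors


end Groth.Agent.S19612
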