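import Groth.Statements.S19613
import Mathlib
import Groth.Agent.Lib.Helper6.ThickAffB
import Groth.Agent.Lib.Helper13.AffSurj
-- import your own Groth.Agent.* helpers here

set_option autoImplicit false
universe u
open CategoryTheory AlgebraicGeometry TopologicalSpace
open CartMod

namespace Groth.Agent.S19613

set_option linter.style.haveILetI false
set_option linter.unusedVariables false

theorem surj_of_nil {T Tc : Scheme.{u}} (i : T ⟶ Tc) [IsClosedImmersion i]
    (hnil : ∃ n : ℕ, ∀ V : Tc.affineOpens, i.ker.ideal V ^ n = ⊥) :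
    Function.Surjective i.base := by
  obtain ⟨n, hn⟩ := hnil
  intro x
  have hx : x ∈ (i.ker.support : Set Tc) := by
    obtain ⟨_, ⟨V, hV, rfl⟩, hxV, -⟩ :=
      Tc.isBasis_affineOpens.exists_subset_of_mem_open (Set.mem_univ x) isOpen_univ
    have hxV' : x ∈ (⟨V, hV⟩ : Tc.affineOpens).1 := hxV
    change x ∈ i.ker.support
    rw [Scheme.IdealSheafData.mem_support_iff_of_mem hxV', Scheme.mem_zeroLocus_iff]
    intro a ha hxa
    have han : a ^ n = 0 := by
      have : a ^ n ∈ i.ker.ideal ⟨V, hV⟩ ^ n := Ideal.pow_mem_pow ha n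
      rw [hn] at this
      exact this
    have hu := (Tc.mem_basicOpen a x hxV).mp hxa
    have hu' := hu.pow n
    rw [← map_pow, han, map_zero] at hu'
    exact not_isUnit_zero hu'
  rw [Scheme.Hom.support_ker, i.isClosedEmbedding.isClosed_range.closure_eq] at hx
  exact hx

/-- Let u : T → U be an affine morphism of schemes and i : T → T♮ a nilpotent closed immersion (its
ideal has a vanishing power), so that |T♮| = |T|; let g : |T♮| → |U| be the continuous map
underlying u, and v : (T♮, O_{T♮}) → (U, g_*O_{T♮}) the induced morphism of ringed spaces (identity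
on structure rings), with direct image v_* (sections over g⁻¹ of an open) and inverse image v^* its
left adjoint. Then the restriction of v_* to quasi-coherent O_{T♮}-modules is exact; since v_* is a
right adjoint, the content is that v_* of an epimorphism between quasi-coherent O_{T♮}-modules is an
epimorphism of sheaves of g_*O_{T♮}-modules on U, which is what is stated. -/
theorem result
    {T Tc U : Scheme.{u}} (i : T ⟶ Tc) [IsClosedImmersion i]
    (hnil : ∃ n : ℕ, ∀ V : Tc.affineOpens, i.ker.ideal V ^ n = ⊥)
    (u : T ⟶ U) [IsAffineHom u] (g : Tc.carrier ⟶ U.carrier) (hg : i.base ≫ g = u.base)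
    (M N : Tc.Modules) [M.IsQuasicoherent] [N.IsQuasicoherent] (φ : M ⟶ N) [Epi φ] :
    Epi ((SheafOfModules.pushforward (F := Opens.map g) (R := Tc.ringCatSheaf)
      (𝟙 (((Opens.map g).sheafPushforwardContinuous RingCat.{u} (Opens.grothendieckTopology U)
        (Opens.grothendieckTopology Tc)).obj Tc.ringCatSheaf))).map φ) := by
  have hsurj := surj_of_nil i hnil
  let R' := ((Opens.map g).sheafPushforwardContinuous RingCat.{u} (Opens.grothendieckTopology U)
        (Opens.grothendieckTopology Tc)).obj Tc.ringCatSheaf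
  haveI hfaith : (SheafOfModules.toSheaf.{u} R').Faithful := inferInstance
  haveI : (SheafOfModules.toSheaf.{u} R').ReflectsEpimorphisms :=
    Functor.reflectsEpimorphisms_of_faithful _
  apply (SheafOfModules.toSheaf.{u} R').epi_of_epi_map
  refine (CategoryTheory.Sheaf.isLocallySurjective_iff_epi' (A := AddCommGrpCat.{u}) _).mp ?_
  refine (TopCat.Presheaf.isLocallySurjective_iff (X := U.carrier) _).mpr ?_
  intro W t x hxW
  obtain ⟨_, ⟨W', hW', rfl⟩, hxW', hW'W⟩ :=
    U.isBasis_affineOpens.exists_subset_of_mem_open hxW W.2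
  have hW'a : IsAffineOpen W' := hW'
  refine ⟨W', hW'W, ?_, hxW'⟩
  let V : Tc.Opens := (Opens.map g).obj W'
  have hV : IsAffineOpen V := by
    apply Groth.Agent.Helper6.ThickAff.isAffineOpen_of_isAffineOpen_preimage i hsurj
    have e : i ⁻¹ᵁ V = u ⁻¹ᵁ W' := by
      ext y
      change g (i.base y) ∈ W' ↔ u.base y ∈ W'
      have := congrArg (fun k => k y) hg
      rw [← hg]
      rfl
    rw [e]
    exact hW'a.preimage u
  obtain ⟨e, he⟩ := Groth.Agent.Helper13.AffSurj.surjective_app_of_epi φ hV (TopCat.Presheaf.restrictOpen t W' hW'W)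
  exact ⟨e, he⟩

end Groth.Agent.S19613
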