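import Groth.Statements.S19620
import Mathlib
import Groth.Agent.Lib.Helper9.SuppD

set_option autoImplicit false
universe u
open CategoryTheory CategoryTheory.Limits AlgebraicGeometry
attribute [local instance] HasDerivedCategory.standard
open DCoh

namespace Groth.Agent.S19620

/-- Let f : X → Y be a proper morphism of schemes, with Rf_* the total right derived functor of f_* on
the unbounded derived categories of modules (assumed to exist), let Z ⊆ X be a closed subset and E
an object of D(O_X) whose cohomology sheaves are all supported in Z (every stalk at a point outside
Z is trivial). Then the cohomology sheaves of Rf_*E are supported in the closed subset f(Z) of Y.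
(The published statement, made in a setting where all schemes are separated and of finite type over
a regular base, takes f proper and perfect and concludes that Rf_* carries perfect complexes acyclic
outside Z to perfect complexes acyclic outside f(Z); the perfectness of Rf_*E is a separate result,
and the support inclusion, which is what the published proof establishes, holds for every proper f
and every E and is stated in that generality.) -/
theorem result {X Y : Scheme.{u}} (f : X ⟶ Y) [IsProper f]
    [DCoh.HasRpush f] (Z : Set ↥X) (hZ : IsClosed Z) (E : DCoh.D X)
    (hE : ∀ i : ℤ, CohB1.support (DCoh.HD E i) ⊆ Z) (i : ℤ) :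
    CohB1.support (DCoh.HD ((DCoh.Rpush f).obj E) i) ⊆ f.base '' Z := by
  intro y hy
  by_contra hyZ
  have hcl : IsClosed (f.base '' Z) := f.isClosedMap _ hZ
  let V : Y.Opens := ⟨(f.base '' Z)ᶜ, hcl.isOpen_compl⟩
  have hyV : y ∈ V := hyZ
  have h0 : IsZero ((DCoh.restrictD (f ⁻¹ᵁ V).ι).obj E) := by
    apply Groth.Agent.Helper9.SuppD.isZero_restrictD_of_support E _ Z hE
    intro x hx hxZ
    exact hx ⟨x, hxZ, rfl⟩
  have h1 := Groth.Agent.Helper9.SuppD.isZero_restrictD_Rpush f V E h0
  exact hy (Groth.Agent.Helper9.SuppD.subsingleton_stalk_HD_of_isZero_restrictD _ V h1 i y hyV)

end Groth.Agent.S19620
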