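import Mathlib
import Groth.Statements.S1963
import Groth.Agent.Lib.Helper19.ValEt.Main

set_option autoImplicit false
universe u
open EtAlg

namespace Groth.Agent.S1963

/-- Let A be a valuation ring, B an etale A-algebra and m a prime of B lying over the maximal ideal of
A. Then the localization B_m is a valuation ring, the map A -> B_m is injective and local, and the
extension is weakly unramified: every nonzero element of B_m is a unit multiple of the image of an
element of A. -/
theorem result (A B : Type u) [CommRing A] [IsDomain A] [ValuationRing A]
    [CommRing B] [Algebra A B] [Algebra.Etale A B] (m : Ideal B) [m.IsPrime]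
    (hm : m.comap (algebraMap A B) = IsLocalRing.maximalIdeal A) :
    IsDomain (Localization.AtPrime m) ∧ (∀ _ : IsDomain (Localization.AtPrime m), ValuationRing (Localization.AtPrime m)) ∧
    Function.Injective (algebraMap A (Localization.AtPrime m)) ∧ IsLocalHom (algebraMap A (Localization.AtPrime m)) ∧
    ∀ b : Localization.AtPrime m, b ≠ 0 → ∃ (a : A) (u : (Localization.AtPrime m)ˣ),
      b = u * algebraMap A (Localization.AtPrime m) a := by
  haveI : Algebra.FiniteType A B := inferInstance
  haveI : Module.Flat A B := inferInstance
  haveI : Module.Flat B (Localization.AtPrime m) := IsLocalization.flat _ m.primeCompl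
  haveI : Module.Flat A (Localization.AtPrime m) := Module.Flat.trans A B (Localization.AtPrime m)
  haveI : Algebra.FormallyUnramified A (Localization.AtPrime m) := inferInstance
  haveI : Algebra.EssFiniteType A (Localization.AtPrime m) := inferInstance
  have hdom : IsDomain (Localization.AtPrime m) :=
    Groth.Agent.Helper19.ValEt.isDomain_of_local A _
  refine ⟨hdom, fun _ => Groth.Agent.Helper19.ValEt.valuationRing_of_local A _,
    Groth.Agent.Helper19.ValEt.algebraMap_injective_of_flat A _, ?_,
    fun b hb => Groth.Agent.Helper19.ValEt.exists_unit_mul A _ b hb⟩
  constructor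
  intro a ha
  rw [IsScalarTower.algebraMap_apply A B (Localization.AtPrime m),
    IsLocalization.AtPrime.isUnit_to_map_iff (Localization.AtPrime m) m] at ha
  by_contra hna
  have h1 : a ∈ IsLocalRing.maximalIdeal A := (IsLocalRing.mem_maximalIdeal a).mpr hna
  rw [← hm, Ideal.mem_comap] at h1
  exact ha h1

end Groth.Agent.S1963
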