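import Groth.Statements.S19630
import Groth.Agent.Lib.Helper29.DeRhamLib

set_option autoImplicit false
universe u
open DeRham

namespace Groth.Agent.S19630

open exteriorPower in
/-- In the affine case, at ring level, let k ⊆ K be a finite extension of fields of characteristic zero
and B a smooth K-algebra, so that Y = Spec B is a smooth affine variety over K which may also be
regarded over k. Let ψ be the map of de Rham complexes from Ω•_{B/k} to Ω•_{B/K} induced by the
identity of B. Then ψ is bijective in every degree: the de Rham complex of Y over k and over K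
coincide, and hence the natural map H^i_dR(Y/k) → H^i_dR(Y/K) is an isomorphism. (The source states
the isomorphism on de Rham cohomology for any smooth variety Y over K, through the equality of the
two de Rham complexes; this row is that equality for affine Y.) -/
theorem result
    (k K : Type u) [Field k] [Field K] [CharZero k] [Algebra k K] [Module.Finite k K]
    (B : Type u) [CommRing B] [Algebra K B] [Algebra k B] [IsScalarTower k K B] [Algebra.Smooth K B]
    (ψ : ∀ p : ℕ, ↥(⋀[B]^p (Ω[B⁄k])) →+ ↥(⋀[B]^p (Ω[B⁄K])))
    (hψ : DeRham.IsCxMap (KaehlerDifferential.D k B) (KaehlerDifferential.D K B) (RingHom.id B) ψ)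
    (p : ℕ) :
    Function.Bijective (ψ p) := by
  let π : Ω[B⁄k] →ₗ[B] Ω[B⁄K] := KaehlerDifferential.map k K B B
  have hπD : ∀ a, π (KaehlerDifferential.D k B a) = KaehlerDifferential.D K B a := by
    intro a
    simp [π, KaehlerDifferential.map_D]
  have hsurj : Function.Surjective π := KaehlerDifferential.map_surjective k K B
  have hunr : Algebra.FormallyUnramified k K := Algebra.FormallyUnramified.of_isSeparable k K
  have hzero : ∀ y : TensorProduct K B Ω[K⁄k], y = 0 := by
    intro y
    induction y using TensorProduct.induction_on with
    | zero => rfl
    | tmul b w => rw [Subsingleton.elim w 0, TensorProduct.tmul_zero]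
    | add a b ha hb => rw [ha, hb, add_zero]
  have hinj : Function.Injective π := by
    rw [injective_iff_map_eq_zero]
    intro x hx
    obtain ⟨y, rfl⟩ := (KaehlerDifferential.exact_mapBaseChange_map k K B x).1 hx
    rw [hzero y, map_zero]
  let e : Ω[B⁄k] ≃ₗ[B] Ω[B⁄K] := LinearEquiv.ofBijective π ⟨hinj, hsurj⟩
  have hψ' : ψ p = (exteriorPower.map p π).toAddMonoidHom := by
    apply Groth.Agent.Helper29.DeRhamLib.addMonoidHom_ext_of_gen (KaehlerDifferential.D k B)
      (KaehlerDifferential.span_range_derivation k B) p
    intro b₀ b
    rw [hψ p b₀ b]
    show _ = exteriorPower.map p π _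
    rw [Groth.Agent.Helper29.DeRhamLib.map_gen (KaehlerDifferential.D k B)
      (KaehlerDifferential.D K B) π hπD]
    rfl
  rw [hψ']
  constructor
  · apply exteriorPower.map_injective (g := e.symm.toLinearMap)
    exact LinearMap.ext (fun x => e.symm_apply_apply x)
  · exact exteriorPower.map_surjective hsurj


end Groth.Agent.S19630
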