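import Groth.Statements.S19631
import Mathlib

set_option autoImplicit false
universe u
open Hyper

namespace Groth.Agent.S19631

section helpers
set_option linter.unusedSectionVars false
universe v' u'
open CategoryTheory CategoryTheory.Limits Opposite SimplexCategory


variable {C : Type u'} [Category.{v'} C] [HasFiniteProducts C] (X : C)

/-- vertex map -/
noncomputable def bb (n : ℕ) (G : SimplicialObject C)
    (β : (Truncated.inclusion n).op ⋙ G ⟶ (Truncated.inclusion n).op ⋙ cechNerveTerminalFrom X) :
    G.obj (op (SimplexCategory.mk 0)) ⟶ X :=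
  β.app (op ⟨SimplexCategory.mk 0, by simp⟩) ≫ Pi.π (fun _ : Fin (0 + 1) => X) 0

noncomputable def lift (n : ℕ) (G : SimplicialObject C)
    (β : (Truncated.inclusion n).op ⋙ G ⟶ (Truncated.inclusion n).op ⋙ cechNerveTerminalFrom X) :
    G ⟶ cechNerveTerminalFrom X where
  app m := Pi.lift (fun i => G.map ((SimplexCategory.mk 0).const m.unop i).op ≫ bb X n G β)
  naturality m m' g := by
    dsimp [cechNerveTerminalFrom]
    ext i
    simp only [Category.assoc, Pi.lift_π]
    rw [← Category.assoc, ← G.map_comp]
    rfl


variable {C : Type u'} [Category.{v'} C] [HasFiniteProducts C] (X : C)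

lemma cech_map_π {m m' : SimplexCategoryᵒᵖ} (g : m ⟶ m') (i : Fin (m'.unop.len + 1)) :
    (cechNerveTerminalFrom X).map g ≫ Pi.π (fun _ : Fin (m'.unop.len + 1) => X) i =
      Pi.π (fun _ : Fin (m.unop.len + 1) => X) (g.unop.toOrderHom i) := by
  simp [cechNerveTerminalFrom]


lemma lift_app_π (n : ℕ) (G : SimplicialObject C)
    (β : (Truncated.inclusion n).op ⋙ G ⟶ (Truncated.inclusion n).op ⋙ cechNerveTerminalFrom X)
    (m : SimplexCategoryᵒᵖ) (i : Fin (m.unop.len + 1)) :
    (lift X n G β).app m ≫ Pi.π (fun _ : Fin (m.unop.len + 1) => X) i =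
      G.map ((SimplexCategory.mk 0).const m.unop i).op ≫ bb X n G β :=
  Pi.lift_π _ i

lemma cech_const_π (m : SimplexCategory) (i : Fin (m.len + 1)) :
    (cechNerveTerminalFrom X).map ((SimplexCategory.mk 0).const m i).op ≫
      Pi.π (fun _ : Fin (0 + 1) => X) 0 = Pi.π (fun _ : Fin (m.len + 1) => X) i := by
  have h1 := cech_map_π X ((SimplexCategory.mk 0).const m i).op 0
  have h3 : ((SimplexCategory.mk 0).const m i).op.unop.toOrderHom 0 = i := by simp
  rw [h3] at h1
  exact h1

lemma lift_fac (n : ℕ) (G : SimplicialObject C)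
    (β : (Truncated.inclusion n).op ⋙ G ⟶ (Truncated.inclusion n).op ⋙ cechNerveTerminalFrom X) :
    Functor.whiskerLeft (Truncated.inclusion n).op (lift X n G β) = β := by
  ext ⟨m⟩
  refine Pi.hom_ext _ _ (fun i => ?_)
  have nat := β.naturality
    (X := op ⟨m.obj, m.property⟩) (Y := op ⟨SimplexCategory.mk 0, by simp⟩)
    (Quiver.Hom.op (ObjectProperty.homMk ((SimplexCategory.mk 0).const m.obj i)))
  refine (lift_app_π X n G β (op m.obj) i).trans ?_
  have h1 := cech_const_π X m.obj i
  show G.map ((SimplexCategory.mk 0).const m.obj i).op ≫ bb X n G β =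
    β.app (op m) ≫ Pi.π (fun _ : Fin (m.obj.len + 1) => X) i
  rw [← h1]
  dsimp only [bb]
  rw [← Category.assoc, ← Category.assoc]
  exact congrArg (fun k => k ≫ Pi.π (fun _ : Fin (0 + 1) => X) 0) nat

lemma lift_uniq (n : ℕ) (G : SimplicialObject C)
    (β : (Truncated.inclusion n).op ⋙ G ⟶ (Truncated.inclusion n).op ⋙ cechNerveTerminalFrom X)
    (τ : G ⟶ cechNerveTerminalFrom X)
    (hτ : Functor.whiskerLeft (Truncated.inclusion n).op τ = β) : τ = lift X n G β := by
  ext m
  refine Pi.hom_ext _ _ (fun i => ?_)
  refine Eq.trans ?_ (lift_app_π X n G β m i).symm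
  have h0 : τ.app (op (SimplexCategory.mk 0)) =
      β.app (op (⟨SimplexCategory.mk 0, by simp⟩ : Truncated n)) := by
    rw [← hτ]; rfl
  have h1 := cech_const_π X m.unop i
  show τ.app m ≫ Pi.π (fun _ : Fin (m.unop.len + 1) => X) i = _
  rw [← h1]
  dsimp only [bb]
  rw [← h0, ← Category.assoc, ← Category.assoc]
  exact congrArg (fun k => k ≫ Pi.π (fun _ : Fin (0 + 1) => X) 0)
    (τ.naturality ((SimplexCategory.mk 0).const m.unop i).op).symm

theorem isCoskeletal_cech (n : ℕ) :
    SimplicialObject.IsCoskeletal (cechNerveTerminalFrom X) n := by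
  refine ⟨⟨⟨?_⟩⟩⟩
  refine IsTerminal.ofUniqueHom (fun E => CostructuredArrow.homMk (lift X n E.left E.hom) ?_) ?_
  · have := lift_fac X n E.left E.hom
    exact (Category.comp_id _).trans this
  · intro E τ
    apply CostructuredArrow.hom_ext
    have hw := CostructuredArrow.w τ
    exact lift_uniq X n E.left E.hom τ.left ((Category.comp_id _).symm.trans hw)


end helpers

open CategoryTheory CategoryTheory.Limits AlgebraicGeometry in
/-- Let f : X → Y be a morphism of schemes and X_• = cosk_0^Y(X) its Čech nerve, the simplicial scheme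
over Y with X_p = X ×_Y ⋯ ×_Y X (p + 1 factors), face maps the projections forgetting one factor and
degeneracies induced by diagonals. Then X_•, as a simplicial object of the category of schemes over
Y, is n-coskeletal for every n, i.e. the adjunction morphisms X_• → cosk_n sk_n X_• (coskeleta
relative to Y) are isomorphisms. In the source this is phrased as: for a class S of covering maps of
varieties containing the identities, X_• → Y is an S-hypercover whenever X → Y lies in S, the
adjunction maps X_p → (cosk_{p-1} sk_{p-1} X_•)_p being isomorphisms for p ≥ 1 and X_0 → Y being f.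
(Stated for arbitrary schemes; the source has varieties over a field.) -/
theorem result (X Y : Scheme.{u}) (f : X ⟶ Y) (n : ℕ) :
    SimplicialObject.IsCoskeletal (cechNerveTerminalFrom (Over.mk f)) n := by
  exact isCoskeletal_cech (Over.mk f) n

end Groth.Agent.S19631
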