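import Groth.Statements.S19632
import Mathlib

set_option autoImplicit false
universe u
open DeRham

namespace Groth.Agent.S19632

open LaurentPolynomial in
/-- the Euler derivation `T d/dT` as a linear map -/
noncomputable def euler (k : Type u) [Field k] : k[T;T⁻¹] →ₗ[k] k[T;T⁻¹] :=
  (AddMonoidAlgebra.coeffLinearEquiv k).symm.toLinearMap ∘ₗ
    (Finsupp.lsum k (fun n : ℤ => (n : k) • Finsupp.lsingle (R := k) (M := k) n)) ∘ₗ
      (AddMonoidAlgebra.coeffLinearEquiv k).toLinearMap

open LaurentPolynomial in
theorem euler_coeff (k : Type u) [Field k] (f : k[T;T⁻¹]) (m : ℤ) :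
    (euler k f).coeff m = (m : k) * f.coeff m := by
  unfold euler
  simp only [LinearMap.coe_comp, LinearEquiv.coe_coe, Function.comp_apply,
    AddMonoidAlgebra.coeffLinearEquiv_symm_apply, AddMonoidAlgebra.coeffLinearEquiv_apply,
    Finsupp.coe_lsum]
  rw [Finsupp.sum_apply]
  simp only [LinearMap.smul_apply, Finsupp.lsingle_apply, Finsupp.smul_apply, Finsupp.single_apply,
    smul_eq_mul, mul_ite, mul_zero]
  rw [Finsupp.sum_ite_eq']
  split_ifs with h
  · rfl
  · rw [Finsupp.notMem_support_iff.mp h, mul_zero]

open LaurentPolynomial in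
theorem euler_C_mul_T (k : Type u) [Field k] (a : k) (n : ℤ) :
    euler k (C a * T n) = C ((n : k) * a) * T n := by
  ext m
  rw [euler_coeff, ← single_eq_C_mul_T, ← single_eq_C_mul_T]
  simp only [AddMonoidAlgebra.coeff_single, Finsupp.single_apply]
  split_ifs with h
  · rw [h]
  · rw [mul_zero]

open LaurentPolynomial in
theorem euler_leibniz (k : Type u) [Field k] (p q : k[T;T⁻¹]) :
    euler k (p * q) = p • euler k q + q • euler k p := by
  induction p using LaurentPolynomial.induction_on' with
  | add p₁ p₂ h₁ h₂ =>
    rw [add_mul, map_add, h₁, h₂, map_add, add_smul, smul_add]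
    abel
  | C_mul_T n a =>
    induction q using LaurentPolynomial.induction_on' with
    | add q₁ q₂ h₁ h₂ =>
      rw [mul_add, map_add, h₁, h₂, map_add, add_smul, smul_add]
      abel
    | C_mul_T m b =>
      have e : C a * T n * (C b * T m) = C (a * b) * T (n + m) := by
        rw [T_add, map_mul]
        ring
      rw [e, euler_C_mul_T, euler_C_mul_T, euler_C_mul_T, smul_eq_mul, smul_eq_mul]
      simp only [map_mul, map_add, T_add, Int.cast_add]
      ring

open LaurentPolynomial in
/-- the Euler derivation `T d/dT` -/
noncomputable def eulerDer (k : Type u) [Field k] : Derivation k k[T;T⁻¹] k[T;T⁻¹] :=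
  Derivation.mk' (euler k) (euler_leibniz k)

/-- Let k be a field of characteristic zero and G_m = Spec k[t, t⁻¹] the multiplicative group. The
kernel of the differential d : k[t, t⁻¹] → Ω¹ of the de Rham complex of G_m consists of the
constants: for a Laurent polynomial f, df = 0 if and only if f lies in the image of k. Equivalently
H^0_dR(G_m/k) = k. (Characteristic zero is used: in characteristic p the element t^p is closed.) -/
theorem result (k : Type u) [Field k] [CharZero k]
    (f : LaurentPolynomial k) :
    KaehlerDifferential.D k (LaurentPolynomial k) f = 0 ↔ f ∈ Set.range (algebraMap k (LaurentPolynomial k)) := by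
  constructor
  · intro h
    have h1 : eulerDer k f = 0 := by
      have := congrArg ((eulerDer k).liftKaehlerDifferential) h
      rwa [Derivation.liftKaehlerDifferential_comp_D, map_zero] at this
    have h2 : ∀ m : ℤ, m ≠ 0 → f.coeff m = 0 := by
      intro m hm
      have h3 : (euler k f).coeff m = 0 := by
        have : euler k f = 0 := h1
        rw [this]; rfl
      rw [euler_coeff] at h3
      rcases mul_eq_zero.mp h3 with h4 | h4
      · exact absurd (by exact_mod_cast h4) hm
      · exact h4
    refine ⟨f.coeff 0, ?_⟩
    rw [← LaurentPolynomial.C_eq_algebraMap]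
    ext m
    rw [LaurentPolynomial.C_apply]
    split_ifs with hm
    · rw [hm]
    · exact (h2 m hm).symm
  · rintro ⟨c, rfl⟩
    exact Derivation.map_algebraMap _ c


end Groth.Agent.S19632
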