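import Groth.Statements.S19652
import Groth.Agent.Lib.Helper29.BilinPoly

set_option autoImplicit false
universe u v
open AbVar

namespace Groth.Agent.S19652

open Polynomial in
/-- Stated for an arbitrary invariant nondegenerate bilinear form, as the argument there allows. Let k
be a field, V a finite-dimensional k-vector space with a nondegenerate bilinear form B and M a
linear automorphism of V with B(Mx, My) = B(x, y) for all x, y. If Q is a polynomial associated to
its own reciprocal polynomial (its coefficient list reversed), then B restricted to the generalized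
kernel of Q(M), the union of the kernels of the powers Q(M)^n, is nondegenerate. (The published
statement takes M symplectic and Q a self-reciprocal divisor of the characteristic polynomial;
divisibility plays no role and is not assumed.) -/
theorem result
    {k : Type u} [Field k] {V : Type v} [AddCommGroup V] [Module k V] [FiniteDimensional k V]
    (B : LinearMap.BilinForm k V) (hB : B.Nondegenerate) (M : V ≃ₗ[k] V)
    (hM : ∀ x y : V, B (M x) (M y) = B x y)
    (Q : k[X]) (hQ : Associated Q Q.reverse) :
    (B.restrict (⨆ n : ℕ, LinearMap.ker (Polynomial.aeval (M : V →ₗ[k] V) Q ^ n))).Nondegenerate := by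
  classical
  set f : Module.End k V := Polynomial.aeval (M : V →ₗ[k] V) Q with hf
  obtain ⟨N, hN⟩ := Filter.eventually_atTop.mp
    (f.eventually_isCompl_ker_pow_range_pow.and f.eventually_iSup_ker_pow_eq)
  obtain ⟨hcompl, hsup⟩ := hN N le_rfl
  -- orthogonality of W and the range
  have orth1 : ∀ x ∈ LinearMap.ker (f ^ N), ∀ w : V, B x ((f ^ N) w) = 0 := by
    intro x hx w
    have h1 := Groth.Agent.Helper29.bilin_aeval_adjoint' B M hM (Q ^ N) x w
    rw [map_pow, map_pow] at h1
    rw [← h1, Groth.Agent.Helper29.aeval_symm_pow_eq_zero_of_selfReciprocal M Q hQ N x hx, map_zero,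
      LinearMap.zero_apply]
  have orth2 : ∀ x ∈ LinearMap.ker (f ^ N), ∀ w : V, B ((f ^ N) w) x = 0 := by
    intro x hx w
    have h1 := Groth.Agent.Helper29.bilin_aeval_adjoint B M hM (Q ^ N) w x
    rw [map_pow, map_pow] at h1
    rw [h1, Groth.Agent.Helper29.aeval_symm_pow_eq_zero_of_selfReciprocal M Q hQ N x hx, map_zero]
  have hdecomp : ∀ v : V, ∃ w' ∈ LinearMap.ker (f ^ N), ∃ w : V, v = w' + (f ^ N) w := by
    intro v
    have hv : v ∈ LinearMap.ker (f ^ N) ⊔ LinearMap.range (f ^ N) := by
      rw [hcompl.sup_eq_top]; trivial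
    obtain ⟨w', hw', r, ⟨w, rfl⟩, rfl⟩ := Submodule.mem_sup.mp hv
    exact ⟨w', hw', w, rfl⟩
  rw [hsup]
  constructor
  · intro x hx
    have hx0 : (x : V) = 0 := by
      apply hB.1
      intro v
      obtain ⟨w', hw', w, rfl⟩ := hdecomp v
      rw [map_add, orth1 x x.2 w, add_zero]
      exact hx ⟨w', hw'⟩
    exact Subtype.ext hx0
  · intro x hx
    have hx0 : (x : V) = 0 := by
      apply hB.2
      intro v
      obtain ⟨w', hw', w, rfl⟩ := hdecomp v
      rw [map_add, LinearMap.add_apply, orth2 x x.2 w, add_zero]
      exact hx ⟨w', hw'⟩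
    exact Subtype.ext hx0


end Groth.Agent.S19652
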