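import Groth.Statements.S19655
import Groth.Agent.Lib.Helper12.WeilG

set_option autoImplicit false
set_option linter.style.haveILetI false
universe u
open CategoryTheory CategoryTheory.Limits MonoidalCategory CartesianMonoidalCategory AlgebraicGeometry
open Neron

namespace Groth.Agent.S19655

/-- Let R be a Dedekind domain with fraction field K, A an abelian variety over K (a proper smooth
geometrically connected K-group scheme) and N a Néron model of A over Spec R. Then for every smooth
R-scheme Y, every K-morphism to A defined on a dense open subscheme of the generic fibre of Y is the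
restriction of exactly one R-morphism Y → N: K-rational maps from smooth R-schemes to A extend
uniquely to the Néron model. (The text works over a connected Dedekind scheme; the affine case is
stated.) -/
theorem result
    (R : Type u) [CommRing R] [IsDedekindDomain R]
    (N : Over (Spec (CommRingCat.of R))) (A : Over (Spec (CommRingCat.of (FractionRing R))))
    (e : (Neron.genericFibre R).obj N ≅ A) (hN : Neron.IsNeronModelOf R N A e)
    [GrpObj A] [IsProper A.hom] [Smooth A.hom] [GeometricallyConnected A.hom]
    (Y : Over (Spec (CommRingCat.of R))) [Smooth Y.hom]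
    (W : ((Neron.genericFibre R).obj Y).left.Opens) (hW : Dense (W : Set ↥((Neron.genericFibre R).obj Y).left))
    (g : (W : Scheme.{u}) ⟶ A.left) (hg : g ≫ A.hom = W.ι ≫ ((Neron.genericFibre R).obj Y).hom) :
    ∃! h : Y ⟶ N, W.ι ≫ ((Neron.genericFibre R).map h ≫ e.hom).left = g := by
  haveI : Smooth ((Neron.genericFibre R).obj Y).hom := by
    show Smooth (pullback.snd Y.hom (Neron.genPt R))
    infer_instance
  obtain ⟨g', ⟨hg'1, hg'2⟩, hg'u⟩ :=
    Groth.Agent.Helper12.WeilG.existsUnique_extension_dedekind (FractionRing R)
      (Z := (Neron.genericFibre R).obj Y) (G := A) W hW g hg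
  obtain ⟨hinj, hsurj⟩ := hN.2.2.2.2 Y inferInstance
  obtain ⟨h, hh⟩ := hsurj (Over.homMk g' hg'2)
  have hh' : ((Neron.genericFibre R).map h ≫ e.hom).left = g' := by
    have := congrArg (fun φ => φ.left) hh
    simpa using this
  refine ⟨h, by show W.ι ≫ ((Neron.genericFibre R).map h ≫ e.hom).left = g; rw [hh', hg'1], ?_⟩
  intro h' hh'1
  apply hinj
  apply Over.OverMorphism.ext
  show ((Neron.genericFibre R).map h' ≫ e.hom).left = ((Neron.genericFibre R).map h ≫ e.hom).left
  rw [hh']
  exact hg'u _ ⟨hh'1, Over.w ((Neron.genericFibre R).map h' ≫ e.hom)⟩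

end Groth.Agent.S19655
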