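import Groth.Statements.S1966
import Mathlib.Dynamics.Newton
import Mathlib.RingTheory.Jacobson.Ideal

set_option autoImplicit false
universe u
open EtAlg

namespace Groth.Agent.S1966

/-- Towers indexed by the natural numbers: let (A_k) be rings with surjective transition maps A_{k+1} ->
A_k whose kernels consist of nilpotent elements, and let A be a ring with compatible projections p_k
: A -> A_k identifying A with the set of compatible sequences (p is jointly injective and every
compatible sequence comes from an element of A). Then for every k the pair (A, ker p_k) is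
henselian. -/
theorem result (A : Type u) [CommRing A] (As : ℕ → Type u) [∀ k, CommRing (As k)]
    (t : ∀ k, As (k + 1) →+* As k) (ht : ∀ k, Function.Surjective (t k))
    (hnil : ∀ k (x : As (k + 1)), t k x = 0 → IsNilpotent x)
    (p : ∀ k, A →+* As k) (hp : ∀ k, (t k).comp (p (k + 1)) = p k)
    (hinj : ∀ a b : A, (∀ k, p k a = p k b) → a = b)
    (hsurj : ∀ x : ∀ k, As k, (∀ k, t k (x (k + 1)) = x k) → ∃ a : A, ∀ k, p k a = x k) (k : ℕ) :
    HenselianRing A (RingHom.ker (p k)) := by
  classical
  -- compatibility in applied form
  have hp' : ∀ j (a : A), t j (p (j + 1) a) = p j a := fun j a => by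
    rw [← hp j]; rfl
  -- Lemma 1: elements of ker p_k have nilpotent images everywhere
  have hzero : ∀ x : A, p k x = 0 → ∀ j, j ≤ k → p j x = 0 := by
    intro x hx j hj
    induction k, hj using Nat.le_induction generalizing x with
    | base => exact hx
    | succ n hn ih =>
      apply ih
      rw [← hp' n x, hx, map_zero]
  have hnilp : ∀ x : A, p k x = 0 → ∀ j, IsNilpotent (p j x) := by
    intro x hx j
    rcases le_total j k with hj | hj
    · rw [hzero x hx j hj]; exact IsNilpotent.zero
    · induction j, hj using Nat.le_induction with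
      | base => rw [hx]; exact IsNilpotent.zero
      | succ n hn ih =>
        obtain ⟨N, hN⟩ := ih
        have h1 : t n ((p (n + 1) x) ^ N) = 0 := by rw [map_pow, hp', hN]
        obtain ⟨N', hN'⟩ := hnil n _ h1
        exact ⟨N * N', by rw [pow_mul, hN']⟩
  -- Lemma 2: units are detected levelwise
  have hunit : ∀ a : A, (∀ j, IsUnit (p j a)) → IsUnit a := by
    intro a ha
    choose v hv using fun j => (isUnit_iff_exists_inv.1 (ha j))
    have hcomp : ∀ j, t j (v (j + 1)) = v j := by
      intro j
      have h1 : p j a * t j (v (j + 1)) = 1 := by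
        rw [← hp' j a, ← map_mul, hv, map_one]
      calc t j (v (j + 1)) = (v j * p j a) * t j (v (j + 1)) := by
            rw [mul_comm (v j), hv j, one_mul]
        _ = v j := by rw [mul_assoc, h1, mul_one]
    obtain ⟨w, hw⟩ := hsurj v hcomp
    refine isUnit_iff_exists_inv.2 ⟨w, hinj _ _ fun j => ?_⟩
    rw [map_mul, hw, hv, map_one]
  refine ⟨?_, ?_⟩
  · intro x hx
    rw [RingHom.mem_ker] at hx
    rw [Ideal.mem_jacobson_bot]
    intro y
    apply hunit
    intro j
    rw [map_add, map_mul, map_one]
    exact ((Commute.all _ _).isNilpotent_mul_right (hnilp x hx j)).isUnit_add_one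
  · intro f hf a₀ h0 hder
    rw [RingHom.mem_ker] at h0
    obtain ⟨u, hu⟩ := Ideal.Quotient.mk_surjective (hder.unit⁻¹ : _).val
    have hu1 : Polynomial.eval a₀ (Polynomial.derivative f) * u - 1 ∈ RingHom.ker (p k) := by
      rw [← Ideal.Quotient.eq, map_mul, hu, map_one]
      exact hder.mul_val_inv
    rw [RingHom.mem_ker] at hu1
    -- levelwise data
    have hev : ∀ j (g : Polynomial A) (a : A),
        Polynomial.aeval (p j a) (g.map (p j)) = p j (Polynomial.eval a g) := by
      intro j g a
      rw [Polynomial.coe_aeval_eq_eval, Polynomial.eval_map, Polynomial.eval₂_hom]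
    have hN : ∀ j, IsNilpotent (Polynomial.aeval (p j a₀) (f.map (p j))) := fun j => by
      rw [hev]; exact hnilp _ h0 j
    have hU : ∀ j, IsUnit (Polynomial.aeval (p j a₀) (Polynomial.derivative (f.map (p j)))) := by
      intro j
      rw [Polynomial.derivative_map, hev]
      have h1 := (hnilp _ hu1 j).isUnit_add_one
      rw [map_sub, map_one, sub_add_cancel, map_mul] at h1
      exact isUnit_of_mul_isUnit_left h1
    have hex := fun j => Polynomial.existsUnique_nilpotent_sub_and_aeval_eq_zero (hN j) (hU j)
    choose r hr hruniq using fun j => (hex j)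
    have hmapt : ∀ j, (f.map (p (j + 1))).map (t j) = f.map (p j) := by
      intro j
      rw [Polynomial.map_map, hp j]
    have hcomp : ∀ j, t j (r (j + 1)) = r j := by
      intro j
      apply hruniq j
      refine ⟨?_, ?_⟩
      · rw [← hp' j a₀, ← map_sub]
        exact (hr (j + 1)).1.map (t j)
      · have h2 := (hr (j + 1)).2
        rw [Polynomial.coe_aeval_eq_eval] at h2 ⊢
        rw [← hmapt j, Polynomial.eval_map, Polynomial.eval₂_hom, h2, map_zero]
    obtain ⟨a, ha⟩ := hsurj r hcomp
    refine ⟨a, ?_, ?_⟩
    · rw [Polynomial.IsRoot.def]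
      apply hinj
      intro j
      rw [map_zero, ← hev, ha]
      exact (hr j).2
    · rw [RingHom.mem_ker, map_sub, ha, sub_eq_zero]
      symm
      apply hruniq k
      refine ⟨by rw [sub_self]; exact IsNilpotent.zero, ?_⟩
      rw [hev, h0]

end Groth.Agent.S1966
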