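import Groth.Statements.S19660
import Groth.Agent.Lib.Helper29.Similitude

set_option autoImplicit false
universe u v
open AbVar

namespace Groth.Agent.S19660

/-- The text applies this to the Frobenius acting on the points of prime order of a principally
polarised abelian variety over a finite field with q elements and to their Weil pairing. Let k be a
field, V a finite-dimensional k-vector space with a nondegenerate bilinear form B, q a nonzero
element of k and M a linear automorphism of V with B(Mx, My) = q·B(x, y) for all x, y. Write V₁ and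
V_q for the generalized eigenspaces of M at 1 and at q. Then every vector of V₁ that is B-orthogonal
to all of V_q is zero, every vector of V_q that is B-orthogonal (on the right) to all of V₁ is zero,
and when q ≠ 1 the form B vanishes identically on V₁ × V₁ and on V_q × V_q. (The text asserts this
as the evident adaptation, to a form scaled by q, of the orthogonality and nondegeneracy facts for
generalized kernels of an automorphism preserving a form; the abstract statement is recorded here,
the application to the Weil pairing needing that pairing's formalism.) -/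
theorem result
    {k : Type u} [Field k] {V : Type v} [AddCommGroup V] [Module k V] [FiniteDimensional k V]
    (B : LinearMap.BilinForm k V) (hB : B.Nondegenerate) (q : k) (hq : q ≠ 0)
    (M : V ≃ₗ[k] V) (hM : ∀ x y : V, B (M x) (M y) = q * B x y) :
    (∀ x ∈ Module.End.maxGenEigenspace (M : Module.End k V) 1,
        (∀ y ∈ Module.End.maxGenEigenspace (M : Module.End k V) q, B x y = 0) → x = 0) ∧
      (∀ y ∈ Module.End.maxGenEigenspace (M : Module.End k V) q,
        (∀ x ∈ Module.End.maxGenEigenspace (M : Module.End k V) 1, B x y = 0) → y = 0) ∧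
      (q ≠ 1 → ∀ x ∈ Module.End.maxGenEigenspace (M : Module.End k V) 1,
        ∀ x' ∈ Module.End.maxGenEigenspace (M : Module.End k V) 1, B x x' = 0) ∧
      (q ≠ 1 → ∀ y ∈ Module.End.maxGenEigenspace (M : Module.End k V) q,
        ∀ y' ∈ Module.End.maxGenEigenspace (M : Module.End k V) q, B y y' = 0) := by
  classical
  have fitting : ∀ (c : k) (n : ℕ), ∃ N, n ≤ N ∧ ∀ v : V,
      ∃ w' : V, ((((M : V →ₗ[k] V) - c • (1 : Module.End k V)) ^ N) w' = 0) ∧
        ∃ w : V, v = w' + (((M : V →ₗ[k] V) - c • (1 : Module.End k V)) ^ N) w := by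
    intro c n
    obtain ⟨N, hN⟩ := Filter.eventually_atTop.mp
      (((M : V →ₗ[k] V) - c • (1 : Module.End k V)).eventually_isCompl_ker_pow_range_pow)
    refine ⟨max N n, le_max_right _ _, fun v => ?_⟩
    have hc := hN (max N n) (le_max_left _ _)
    have hv : v ∈ LinearMap.ker (((M : V →ₗ[k] V) - c • (1 : Module.End k V)) ^ (max N n)) ⊔
        LinearMap.range (((M : V →ₗ[k] V) - c • (1 : Module.End k V)) ^ (max N n)) := by
      rw [hc.sup_eq_top]; trivial
    obtain ⟨w', hw', r, ⟨w, rfl⟩, rfl⟩ := Submodule.mem_sup.mp hv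
    exact ⟨w', hw', w, rfl⟩
  refine ⟨?_, ?_, ?_, ?_⟩
  · intro x hx hxy
    obtain ⟨n, hn⟩ := (Module.End.mem_maxGenEigenspace _ _ _).mp hx
    obtain ⟨N, hnN, hdec⟩ := fitting q n
    have hxN := Groth.Agent.Helper29.pow_apply_eq_zero_of_le _ hnN x hn
    apply hB.1
    intro v
    obtain ⟨w', hw', w, rfl⟩ := hdec v
    have h1 := (Groth.Agent.Helper29.sim_orth B q 1 q (one_mul q) M hM N x hxN w).1
    rw [map_add, h1, add_zero]
    exact hxy w' ((Module.End.mem_maxGenEigenspace _ _ _).mpr ⟨N, hw'⟩)
  · intro y hy hxy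
    obtain ⟨n, hn⟩ := (Module.End.mem_maxGenEigenspace _ _ _).mp hy
    obtain ⟨N, hnN, hdec⟩ := fitting 1 n
    have hyN := Groth.Agent.Helper29.pow_apply_eq_zero_of_le _ hnN y hn
    apply hB.2
    intro v
    obtain ⟨w', hw', w, rfl⟩ := hdec v
    have h1 := (Groth.Agent.Helper29.sim_orth B q q 1 (mul_one q) M hM N y hyN w).2
    rw [map_add, LinearMap.add_apply, h1, add_zero]
    exact hxy w' ((Module.End.mem_maxGenEigenspace _ _ _).mpr ⟨N, hw'⟩)
  · intro hq1 x hx x' hx'
    obtain ⟨n, hn⟩ := (Module.End.mem_maxGenEigenspace _ _ _).mp hx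
    obtain ⟨n', hn'⟩ := (Module.End.mem_maxGenEigenspace _ _ _).mp hx'
    have hxN := Groth.Agent.Helper29.pow_apply_eq_zero_of_le _ (le_max_left n n') x hn
    have hx'N := Groth.Agent.Helper29.pow_apply_eq_zero_of_le _ (le_max_right n n') x' hn'
    obtain ⟨w, hw⟩ := Groth.Agent.Helper29.mem_range_of_coprime 1 q (Ne.symm hq1) (M : V →ₗ[k] V)
      (max n n') x' hx'N
    rw [← hw]
    exact (Groth.Agent.Helper29.sim_orth B q 1 q (one_mul q) M hM _ x hxN w).1
  · intro hq1 y hy y' hy'
    obtain ⟨n, hn⟩ := (Module.End.mem_maxGenEigenspace _ _ _).mp hy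
    obtain ⟨n', hn'⟩ := (Module.End.mem_maxGenEigenspace _ _ _).mp hy'
    have hyN := Groth.Agent.Helper29.pow_apply_eq_zero_of_le _ (le_max_left n n') y hn
    have hy'N := Groth.Agent.Helper29.pow_apply_eq_zero_of_le _ (le_max_right n n') y' hn'
    obtain ⟨w, hw⟩ := Groth.Agent.Helper29.mem_range_of_coprime q 1 hq1 (M : V →ₗ[k] V)
      (max n n') y hyN
    rw [← hw]
    exact (Groth.Agent.Helper29.sim_orth B q q 1 (mul_one q) M hM _ y' hy'N w).2


end Groth.Agent.S19660
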