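import Groth.Statements.S19679
import Groth.Agent.Lib.Helper18.QSh2

set_option autoImplicit false
universe u
open CategoryTheory MonoidalCategory CartesianMonoidalCategory MonObj AlgebraicGeometry
open ChGrp

namespace Groth.Agent.S19679

/-- Let k be an algebraically closed field of characteristic zero, G and H affine group schemes of
finite type over k (algebraic groups) with i : H → G a homomorphism which is a closed immersion, and
Z a reduced affine k-scheme of finite type (an affine variety) with an action of H. Let Y, with its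
G-action and j : G × Z → Y, be the balanced product G ×^H Z for the fppf topology: j is
G-equivariant for left translation on the first factor, it is a torsor for the twisted H-action
h·(g, z) = (g i(h)⁻¹, h·z), and it has sections fppf-locally on Y. If π_Z : Z → P is a categorical
quotient of Z by H and π_Y : Y → Q a categorical quotient of Y by G, then the projection G × Z → Z
induces an isomorphism Q ≅ P, inverse to the morphism induced by the H-invariant map z ↦ π_Y(j(e,
z)): there are mutually inverse φ : P → Q and χ : Q → P with π_Z followed by φ equal to z ↦ π_Y(j(e,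
z)) and j followed by π_Y and χ equal to the projection followed by π_Z (so Y//G ≅ Z//H). (The
source assumes G and H reductive and defines G ×^H Z as the quotient (G × Z)//H, a principal
H-bundle; here the quotients are part of the data, the balanced product is taken in its torsor form,
and reductivity is not needed.) -/
theorem result
    (k : Type u) [Field k] [IsAlgClosed k] [CharZero k]
    (G H Z Y P Q : Over (Spec (CommRingCat.of k))) [GrpObj G] [GrpObj H]
    [IsAffine G.left] [LocallyOfFiniteType G.hom] [IsAffine H.left] [LocallyOfFiniteType H.hom]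
    (i : H ⟶ G) [IsMonHom i] [IsClosedImmersion i.left]
    [IsAffine Z.left] [LocallyOfFiniteType Z.hom] [IsReduced Z.left]
    (aZ : AlgGrp.Action H Z) (aY : AlgGrp.Action G Y) (j : G ⊗ Z ⟶ Y)
    (hY : ChGrp.IsBalProd Scheme.fppfPrecoverage i aZ aY j)
    (πZ : Z ⟶ P) (hP : GIT.IsCatQuot aZ πZ) (πY : Y ⟶ Q) (hQ : GIT.IsCatQuot aY πY) :
    ∃ (φ : P ⟶ Q) (χ : Q ⟶ P), φ ≫ χ = 𝟙 P ∧ χ ≫ φ = 𝟙 Q ∧
      πZ ≫ φ = lift (toUnit Z ≫ η[G]) (𝟙 Z) ≫ j ≫ πY ∧ j ≫ πY ≫ χ = snd G Z ≫ πZ := by
  obtain ⟨hequiv, hcart, hloc⟩ := hY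
  obtain ⟨hPinv, hPuniv⟩ := hP
  obtain ⟨hQinv, hQuniv⟩ := hQ
  have hsecj := Groth.Agent.Helper18.DescHomK.secSieve_mem_of_loc Scheme.fppfPrecoverage j hloc
  -- points form of the hypotheses
  have hjH : ∀ (T : Over (Spec (CommRingCat.of k))) (h : T ⟶ H) (g : T ⟶ G) (z : T ⟶ Z),
      lift (g * (h ≫ i)⁻¹) (lift h z ≫ aZ.act) ≫ j = lift g z ≫ j := by
    intro T h g z
    have := congrArg (fun m => lift h (lift g z) ≫ m) hcart.w
    simp only [← Category.assoc] at this
    rw [ChGrp.lift_twist_act, lift_snd] at this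
    exact this
  have hjG : ∀ (T : Over (Spec (CommRingCat.of k))) (g' g : T ⟶ G) (z : T ⟶ Z),
      lift (g' * g) z ≫ j = lift g' (lift g z ≫ j) ≫ aY.act := by
    intro T g' g z
    have := congrArg (fun m => lift g' (lift g z) ≫ m) hequiv
    simp only [← Category.assoc] at this
    rw [AlgGrp.Action.lift_prod_act, AlgGrp.Action.lift_trivial_act, lift_whiskerLeft] at this
    have e : lift g' g ≫ (NonAbH1.trivialAction G).act = g' * g := by
      show lift g' g ≫ μ[G] = g' * g
      rw [Hom.mul_def]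
    rw [e] at this
    exact this
  have hπY : ∀ (T : Over (Spec (CommRingCat.of k))) (g : T ⟶ G) (y : T ⟶ Y),
      lift g y ≫ aY.act ≫ πY = y ≫ πY := by
    intro T g y
    have := congrArg (fun m => lift g y ≫ m) hQinv
    simp only [← Category.assoc] at this
    rw [lift_snd] at this
    simpa only [Category.assoc] using this
  have hπZ : ∀ (T : Over (Spec (CommRingCat.of k))) (h : T ⟶ H) (z : T ⟶ Z),
      lift h z ≫ aZ.act ≫ πZ = z ≫ πZ := by
    intro T h z
    have := congrArg (fun m => lift h z ≫ m) hPinv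
    simp only [← Category.assoc] at this
    rw [lift_snd] at this
    simpa only [Category.assoc] using this
  -- (F1)
  have F1 : ∀ (T : Over (Spec (CommRingCat.of k))) (g : T ⟶ G) (z : T ⟶ Z),
      lift g z ≫ j ≫ πY = lift (1 : T ⟶ G) z ≫ j ≫ πY := by
    intro T g z
    have h1 := hjG T g 1 z
    rw [_root_.mul_one] at h1
    rw [← Category.assoc, h1, Category.assoc, hπY]
    rw [Category.assoc]
  have he1 : lift (toUnit Z ≫ η[G]) (𝟙 Z) = lift (1 : Z ⟶ G) (𝟙 Z) := by rw [Hom.one_def]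
  -- (a)
  have hψZ : GIT.IsInvariant aZ (lift (1 : Z ⟶ G) (𝟙 Z) ≫ j ≫ πY) := by
    unfold GIT.IsInvariant
    apply AlgGrp.Action.hom_ext_lift₂
    intro T h z
    have e1 : ∀ (w : T ⟶ Z), w ≫ lift (1 : Z ⟶ G) (𝟙 Z) = lift (1 : T ⟶ G) w := by
      intro w
      rw [comp_lift, Category.comp_id, comp_one]
    have h2 := hjH T h (h ≫ i) z
    rw [mul_inv_cancel] at h2
    calc lift h z ≫ aZ.act ≫ lift 1 (𝟙 Z) ≫ j ≫ πY
        = ((lift h z ≫ aZ.act) ≫ lift 1 (𝟙 Z)) ≫ j ≫ πY := by simp only [Category.assoc]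
      _ = lift 1 (lift h z ≫ aZ.act) ≫ j ≫ πY := by rw [e1]
      _ = (lift (h ≫ i) z ≫ j) ≫ πY := by rw [← Category.assoc, h2]
      _ = lift 1 z ≫ j ≫ πY := by rw [Category.assoc, F1]
      _ = (z ≫ lift 1 (𝟙 Z)) ≫ j ≫ πY := by rw [e1]
      _ = lift h z ≫ snd H Z ≫ lift 1 (𝟙 Z) ≫ j ≫ πY := by rw [lift_snd_assoc, Category.assoc]
  obtain ⟨φ, hφ, hφu⟩ := hPuniv Q _ hψZ
  -- (b)
  have hc : ∀ (V : Over (Spec (CommRingCat.of k))) (s s' : V ⟶ G ⊗ Z), s ≫ j = s' ≫ j →
      s ≫ snd G Z ≫ πZ = s' ≫ snd G Z ≫ πZ := by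
    intro V s s' hss
    obtain ⟨r, hr1, hr2⟩ : ∃ r, r ≫ (twist i aZ).act = s ∧ r ≫ snd H (G ⊗ Z) = s' :=
      ⟨hcart.lift s s' hss, hcart.lift_fst _ _ _, hcart.lift_snd _ _ _⟩
    obtain ⟨hh, gg, zz, rfl⟩ : ∃ hh gg zz, r = lift hh (lift gg zz) := by
      refine ⟨r ≫ fst _ _, r ≫ snd _ _ ≫ fst _ _, r ≫ snd _ _ ≫ snd _ _, ?_⟩
      apply CartesianMonoidalCategory.hom_ext
      · simp
      · apply CartesianMonoidalCategory.hom_ext <;> simp
    rw [ChGrp.lift_twist_act] at hr1
    rw [lift_snd] at hr2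
    rw [← hr1, ← hr2, lift_snd_assoc, lift_snd_assoc, Category.assoc, hπZ]
  obtain ⟨m, hm⟩ := Groth.Agent.Helper18.DescHomK.desc_of_secSieve Scheme.fppfPrecoverage j hsecj
    (snd G Z ≫ πZ) hc
  have hminv : GIT.IsInvariant aY m := by
    unfold GIT.IsInvariant
    apply Groth.Agent.Helper18.DescHomK.epi_of_secSieve Scheme.fppfPrecoverage (G ◁ j)
      (Groth.Agent.Helper18.DescHomK.secSieve_whiskerLeft Scheme.fppfPrecoverage j hsecj G)
    rw [← Category.assoc, ← hequiv, Category.assoc, hm, whiskerLeft_snd_assoc, hm]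
    apply AlgGrp.Action.hom_ext_lift₂
    intro T g' p
    have hp : p = lift (p ≫ fst G Z) (p ≫ snd G Z) := by
      apply CartesianMonoidalCategory.hom_ext <;> simp
    rw [hp, AlgGrp.Action.lift_prod_act_assoc, lift_snd_assoc, AlgGrp.Action.lift_trivial_act, lift_snd_assoc,
      lift_snd_assoc]
  obtain ⟨χ, hχ, hχu⟩ := hQuniv P m hminv
  have hjepi : ∀ {W : Over (Spec (CommRingCat.of k))} (f f' : Y ⟶ W), j ≫ f = j ≫ f' → f = f' :=
    fun f f' h => Groth.Agent.Helper18.DescHomK.epi_of_secSieve Scheme.fppfPrecoverage j hsecj f f' h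
  refine ⟨φ, χ, ?_, ?_, ?_, ?_⟩
  · -- φ ≫ χ = 𝟙 P
    obtain ⟨ξ, _, hξu⟩ := hPuniv P πZ hPinv
    have h1 : πZ ≫ φ ≫ χ = πZ := by
      rw [← Category.assoc, hφ, Category.assoc, Category.assoc, hχ, hm, lift_snd_assoc, Category.id_comp]
    rw [hξu (φ ≫ χ) h1, hξu (𝟙 P) (Category.comp_id _)]
  · -- χ ≫ φ = 𝟙 Q
    obtain ⟨ξ, _, hξu⟩ := hQuniv Q πY hQinv
    have h2 : m ≫ φ = πY := by
      apply hjepi
      rw [← Category.assoc, hm, Category.assoc, hφ]
      apply AlgGrp.Action.hom_ext_lift₂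
      intro T g z
      rw [lift_snd_assoc, ← Category.assoc z, comp_lift, Category.comp_id, comp_one]
      exact (F1 T g z).symm
    have h1 : πY ≫ χ ≫ φ = πY := by
      rw [← Category.assoc, hχ, h2]
    rw [hξu (χ ≫ φ) h1, hξu (𝟙 Q) (Category.comp_id _)]
  · rw [hφ, he1]
  · rw [hχ, hm]

end Groth.Agent.S19679
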