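import Groth.Statements.S1969
import Groth.Statements.S1969
import Mathlib
-- import your own Groth.Agent.* helpers here

set_option autoImplicit false
universe u
open EtAlg

namespace Groth.Agent.S1969

section

/-- a free ideal is principal, generated by a non-zero-divisor unless it is zero -/
theorem free_ideal {B : Type u} [CommRing B] [Nontrivial B] (J : Ideal B) [Module.Free B J] :
    ∃ c : B, J = Ideal.span {c} ∧ (J ≠ ⊥ → ∀ r : B, r * c = 0 → r = 0) := by
  classical
  let b := Module.Free.chooseBasis B J
  have hsub : ∀ i j : Module.Free.ChooseBasisIndex B J, i = j := by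
    intro i j
    by_contra hij
    have hrel : ((b j : J) : B) • b i - ((b i : J) : B) • b j = 0 := by
      apply Subtype.ext
      simp [mul_comm]
    have hli := b.linearIndependent
    rw [linearIndependent_iff'] at hli
    have := hli {i, j} (fun k => if k = i then ((b j : J) : B) else -((b i : J) : B)) (by
      rw [Finset.sum_pair hij]
      simp only [if_true, if_neg (Ne.symm hij)]
      rw [neg_smul, ← sub_eq_add_neg]
      exact hrel) i (by simp)
    simp only [if_true] at this
    exact b.ne_zero j (Subtype.ext this)
  by_cases hemp : IsEmpty (Module.Free.ChooseBasisIndex B J)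
  · refine ⟨0, ?_, ?_⟩
    · have : Subsingleton J := by
        refine ⟨fun x y => ?_⟩
        apply b.ext_elem
        intro i
        exact hemp.elim i
      rw [Ideal.span_singleton_zero] -- span {0} = ⊥
      rw [eq_bot_iff]
      intro x hx
      have : (⟨x, hx⟩ : J) = 0 := Subsingleton.elim _ _
      exact congrArg Subtype.val this
    · intro hne
      exfalso
      apply hne
      rw [eq_bot_iff]
      intro x hx
      have : Subsingleton J := by
        refine ⟨fun x y => ?_⟩
        apply b.ext_elem
        intro i
        exact hemp.elim i
      have : (⟨x, hx⟩ : J) = 0 := Subsingleton.elim _ _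
      exact congrArg Subtype.val this
  · rw [not_isEmpty_iff] at hemp
    obtain ⟨i⟩ := hemp
    haveI : Unique (Module.Free.ChooseBasisIndex B J) := ⟨⟨i⟩, fun k => hsub k i⟩
    refine ⟨(b i : J), ?_, ?_⟩
    · apply le_antisymm
      · intro x hx
        have hrepr := b.sum_repr ⟨x, hx⟩
        rw [Fintype.sum_unique] at hrepr
        have hdef : (default : Module.Free.ChooseBasisIndex B J) = i := hsub _ _
        rw [hdef] at hrepr
        have : x = (b.repr ⟨x, hx⟩ i) * ((b i : J) : B) := by
          have := congrArg Subtype.val hrepr
          simpa using this.symm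
        rw [this]
        exact Ideal.mul_mem_left _ _ (Ideal.subset_span rfl)
      · rw [Ideal.span_le]
        intro x hx
        rw [Set.mem_singleton_iff] at hx
        rw [hx]
        exact (b i).2
    · intro _ r hr
      have : r • b i = 0 := by
        apply Subtype.ext
        simpa using hr
      have h2 := congrArg (fun z => b.repr z i) this
      simpa using h2

end

section
variable {A : Type u} [CommRing A]

/-- the ideal generated by two fractions is the extension of a 2-generated ideal -/
theorem span_pair_eq_map (S : Submonoid A) (B : Type u) [CommRing B] [Algebra A B]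
    [IsLocalization S B] (x y : B) :
    ∃ a b : A, (Ideal.span {x, y} : Ideal B) = Ideal.map (algebraMap A B) (Ideal.span {a, b}) := by
  obtain ⟨⟨a, s⟩, hx⟩ := IsLocalization.surj S x
  obtain ⟨⟨b, t⟩, hy⟩ := IsLocalization.surj S y
  simp only at hx hy
  have hs : IsUnit (algebraMap A B s) := IsLocalization.map_units B s
  have ht : IsUnit (algebraMap A B t) := IsLocalization.map_units B t
  refine ⟨a, b, ?_⟩
  rw [Ideal.map_span, Set.image_pair]
  apply le_antisymm
  · rw [Ideal.span_le]
    intro z hz
    rcases hz with rfl | rfl
    · obtain ⟨u, hu⟩ := hs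
      have : z = algebraMap A B a * ↑u⁻¹ := by
        rw [← hx, ← hu, mul_assoc, Units.mul_inv, mul_one]
      rw [this]
      exact Ideal.mul_mem_right _ _ (Ideal.subset_span (by simp))
    · obtain ⟨u, hu⟩ := ht
      have : z = algebraMap A B b * ↑u⁻¹ := by
        rw [← hy, ← hu, mul_assoc, Units.mul_inv, mul_one]
      rw [this]
      exact Ideal.mul_mem_right _ _ (Ideal.subset_span (by simp))
  · rw [Ideal.span_le]
    intro z hz
    rcases hz with rfl | hz
    · rw [← hx]
      exact Ideal.mul_mem_right _ _ (Ideal.subset_span (by simp))
    · have hz' : z = algebraMap A B b := hz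
      rw [hz', ← hy]
      exact Ideal.mul_mem_right _ _ (Ideal.subset_span (by simp))

theorem two_to_four (h2 : ∀ I : Ideal A, I.FG → Module.Flat A I) (p : Ideal A) [p.IsPrime] :
    ∃ _ : IsDomain (Localization.AtPrime p), ValuationRing (Localization.AtPrime p) := by
  -- every 2-generated ideal of the localization is free
  have hfree : ∀ x y : Localization.AtPrime p,
      Module.Free (Localization.AtPrime p) (Ideal.span {x, y} : Ideal (Localization.AtPrime p)) := by
    intro x y
    obtain ⟨a, b, hab⟩ := span_pair_eq_map p.primeCompl (Localization.AtPrime p) x y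
    rw [hab]
    haveI : Module.Flat A (Ideal.span {a, b} : Ideal A) :=
      h2 _ (Submodule.fg_span (Set.toFinite {a, b}))
    haveI : Module.Flat (Localization.AtPrime p)
        (Ideal.map (algebraMap A (Localization.AtPrime p)) (Ideal.span {a, b})) :=
      Module.Flat.of_isLocalizedModule (Localization.AtPrime p) p.primeCompl
        (Algebra.idealMap (S := Localization.AtPrime p) (Ideal.span {a, b}))
    haveI : Module.Finite (Localization.AtPrime p)
        (Ideal.map (algebraMap A (Localization.AtPrime p)) (Ideal.span {a, b})) := by
      rw [Ideal.map_span, Set.image_pair]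
      exact Module.Finite.of_fg (Submodule.fg_span (Set.toFinite _))
    exact Module.free_of_flat_of_isLocalRing
  have hdom : IsDomain (Localization.AtPrime p) := by
    haveI : NoZeroDivisors (Localization.AtPrime p) := by
      refine ⟨fun {a b} hab => ?_⟩
      by_contra hne
      push Not at hne
      obtain ⟨ha, hb⟩ := hne
      haveI := hfree b b
      obtain ⟨c, hc, hreg⟩ := free_ideal (Ideal.span {b, b} : Ideal (Localization.AtPrime p))
      have hJ : (Ideal.span {b, b} : Ideal (Localization.AtPrime p)) = Ideal.span {b} := by simp
      rw [hJ] at hc hreg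
      have hne : (Ideal.span {b} : Ideal (Localization.AtPrime p)) ≠ ⊥ := by
        rw [Ne, Ideal.span_singleton_eq_bot]; exact hb
      have hbc : b ∈ Ideal.span {c} := by rw [← hc]; exact Ideal.subset_span rfl
      have hcb : c ∈ Ideal.span {b} := by rw [hc]; exact Ideal.subset_span rfl
      rw [Ideal.mem_span_singleton'] at hbc hcb
      obtain ⟨u, hu⟩ := hbc
      obtain ⟨v, hv⟩ := hcb
      -- a * b = 0, b = u c  => a u c = 0 => a u = 0
      have h1 : a * u = 0 := hreg hne _ (by rw [mul_assoc, hu, hab])
      -- c = v b = v u c => (v u - 1) c = 0 => v u = 1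
      have h3 : v * u - 1 = 0 := hreg hne _ (by rw [sub_mul, mul_assoc, hu, hv, one_mul, sub_self])
      have h4 : v * u = 1 := sub_eq_zero.1 h3
      apply ha
      calc a = a * (v * u) := by rw [h4, mul_one]
        _ = (a * u) * v := by ring
        _ = 0 := by rw [h1, zero_mul]
    exact ⟨⟩
  refine ⟨hdom, ?_⟩
  haveI : IsBezout (Localization.AtPrime p) := by
    rw [IsBezout.iff_span_pair_isPrincipal]
    intro x y
    haveI := hfree x y
    obtain ⟨c, hc, _⟩ := free_ideal (Ideal.span {x, y} : Ideal (Localization.AtPrime p))
    rw [hc]
    exact ⟨⟨c, rfl⟩⟩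
  infer_instance

theorem four_to_three
    (h4 : ∀ (p : Ideal A) [p.IsPrime],
      ∃ _ : IsDomain (Localization.AtPrime p), ValuationRing (Localization.AtPrime p))
    (M : Type u) [AddCommGroup M] [Module A M] (hM : Module.Flat A M) (N : Submodule A M) :
    Module.Flat A N := by
  apply Module.flat_of_localized_maximal
  intro P hP
  obtain ⟨hdom, hval⟩ := h4 P
  rw [← Module.flat_iff_of_isLocalization (Localization P.primeCompl) P.primeCompl]
  rw [Module.Flat.flat_iff_torsion_eq_bot_of_isBezout]
  have htM : Submodule.torsion (Localization P.primeCompl) (LocalizedModule P.primeCompl M) = ⊥ :=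
    Module.Flat.torsion_eq_bot
  rw [eq_bot_iff]
  intro x hx
  rw [Submodule.mem_torsion_iff] at hx
  obtain ⟨a, ha⟩ := hx
  have hinj := LocalizedModule.map_injective P.primeCompl N.subtype N.injective_subtype
  have h1 : LocalizedModule.map P.primeCompl N.subtype x ∈
      Submodule.torsion (Localization P.primeCompl) (LocalizedModule P.primeCompl M) := by
    rw [Submodule.mem_torsion_iff]
    refine ⟨a, ?_⟩
    change (a : Localization P.primeCompl) • (LocalizedModule.map P.primeCompl N.subtype x) = 0
    rw [← map_smul]
    have : (a : Localization P.primeCompl) • x = 0 := ha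
    rw [this, map_zero]
  rw [htM, Submodule.mem_bot] at h1
  rw [Submodule.mem_bot]
  exact hinj (by rw [h1, map_zero])

theorem main : List.TFAE [∀ I : Ideal A, Module.Flat A I,
      ∀ I : Ideal A, I.FG → Module.Flat A I,
      ∀ (M : Type u) [AddCommGroup M] [Module A M], Module.Flat A M → ∀ N : Submodule A M, Module.Flat A N,
      ∀ (p : Ideal A) [p.IsPrime], ∃ _ : IsDomain (Localization.AtPrime p), ValuationRing (Localization.AtPrime p)] := by
  tfae_have 1 → 2 := fun h I _ => h I
  tfae_have 2 → 4 := fun h p _ => two_to_four h p
  tfae_have 4 → 3 := fun h M _ _ hM N => four_to_three h M hM N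
  tfae_have 3 → 1 := fun h I => h A inferInstance I
  tfae_finish

end

/-- For a commutative ring A these are equivalent — all ideals are flat A-modules; all finitely
generated ideals are flat; flatness passes to submodules of flat modules; each localization at a
prime is a valuation ring (in particular a domain). Condition (1), weak dimension at most one, is
not stated. -/
theorem result (A : Type u) [CommRing A] :
    List.TFAE [∀ I : Ideal A, Module.Flat A I,
      ∀ I : Ideal A, I.FG → Module.Flat A I,
      ∀ (M : Type u) [AddCommGroup M] [Module A M], Module.Flat A M → ∀ N : Submodule A M, Module.Flat A N,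
      ∀ (p : Ideal A) [p.IsPrime], ∃ _ : IsDomain (Localization.AtPrime p), ValuationRing (Localization.AtPrime p)] := by
  exact Groth.Agent.S1969.main

end Groth.Agent.S1969
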