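import Groth.Statements.S1968
import Groth.Statements.S1968
import Mathlib
import Groth.Agent.S1969
-- import your own Groth.Agent.* helpers here

set_option autoImplicit false
universe u
open EtAlg

namespace Groth.Agent.S1968

section
variable {J : Type u} (A : J → Type u) [∀ j, CommRing (A j)] [∀ j, IsDomain (A j)]
    [∀ j, ValuationRing (A j)]

/-- 2-generated ideals of the product are principal -/
theorem isBezout_pi : IsBezout (∀ j, A j) := by
  classical
  rw [IsBezout.iff_span_pair_isPrincipal]
  intro x y
  let c : ∀ j, A j := fun j => if x j ∣ y j then x j else y j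
  let e : ∀ j, A j := fun j => if x j ∣ y j then 1 else 0
  have hc : c = e * x + (1 - e) * y := by
    funext j
    by_cases h : x j ∣ y j <;> simp [c, e, h]
  have hxc : ∀ j, c j ∣ x j := by
    intro j
    by_cases h : x j ∣ y j
    · simp [c, h]
    · simp only [c, h, if_false]
      exact (ValuationRing.dvd_total (x j) (y j)).resolve_left h
  have hyc : ∀ j, c j ∣ y j := by
    intro j
    by_cases h : x j ∣ y j
    · simpa [c, h] using h
    · simp [c, h]
  choose dx hdx using hxc
  choose dy hdy using hyc
  refine ⟨⟨c, ?_⟩⟩
  apply le_antisymm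
  · rw [Ideal.span_le]
    intro z hz
    rcases hz with rfl | hz
    · change z ∈ Ideal.span {c}
      rw [Ideal.mem_span_singleton]
      exact ⟨dx, funext fun j => hdx j⟩
    · have hz' : z = y := hz
      change z ∈ Ideal.span {c}
      rw [hz', Ideal.mem_span_singleton]
      exact ⟨dy, funext fun j => hdy j⟩
  · change Ideal.span {c} ≤ Ideal.span {x, y}
    rw [Ideal.span_le]
    intro z hz
    rw [Set.mem_singleton_iff] at hz
    rw [hz, hc]
    exact Ideal.add_mem _ (Ideal.mul_mem_left _ _ (Ideal.subset_span (by simp)))
      (Ideal.mul_mem_left _ _ (Ideal.subset_span (by simp)))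

/-- principal ideals of the product are projective -/
theorem projective_principal (c : ∀ j, A j) :
    Module.Projective (∀ j, A j) (Ideal.span {c} : Ideal (∀ j, A j)) := by
  classical
  let e : ∀ j, A j := fun j => if c j = 0 then 0 else 1
  have hce : c * e = c := by
    funext j
    change c j * e j = c j
    by_cases h : c j = 0
    · simp [h]
    · simp [e, h]
  have hker : ∀ y : (∀ j, A j), c * y = 0 → e * y = 0 := by
    intro y hy
    funext j
    change e j * y j = 0
    by_cases h : c j = 0
    · simp [e, h]
    · have h1 : c j * y j = 0 := congrFun hy j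
      have h2 : y j = 0 := (mul_eq_zero.1 h1).resolve_left h
      rw [h2, mul_zero]
  let s : (∀ j, A j) →ₗ[∀ j, A j] (Ideal.span {c} : Ideal (∀ j, A j)) :=
    LinearMap.codRestrict _ (LinearMap.mulLeft (∀ j, A j) c) (fun y => by
      change c * y ∈ Ideal.span {c}
      exact Ideal.mul_mem_right _ _ (Ideal.subset_span rfl))
  have hs : Function.Surjective s := by
    rintro ⟨z, hz⟩
    rw [Ideal.mem_span_singleton'] at hz
    obtain ⟨y, rfl⟩ := hz
    exact ⟨y, Subtype.ext (mul_comm _ _)⟩
  let me : (∀ j, A j) →ₗ[∀ j, A j] (∀ j, A j) := LinearMap.mulLeft (∀ j, A j) e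
  have hle : LinearMap.ker s ≤ LinearMap.ker me := by
    intro y hy
    rw [LinearMap.mem_ker] at hy ⊢
    have : c * y = 0 := congrArg Subtype.val hy
    exact hker y this
  let i : (Ideal.span {c} : Ideal (∀ j, A j)) →ₗ[∀ j, A j] (∀ j, A j) :=
    ((LinearMap.ker s).liftQ me hle) ∘ₗ (LinearMap.quotKerEquivOfSurjective s hs).symm.toLinearMap
  refine Module.Projective.of_split i s ?_
  apply LinearMap.ext
  intro x
  obtain ⟨y, rfl⟩ := hs x
  have h1 : (LinearMap.quotKerEquivOfSurjective s hs).symm (s y) = Submodule.Quotient.mk y := by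
    rw [LinearEquiv.symm_apply_eq]
    rfl
  change s (((LinearMap.ker s).liftQ me hle) ((LinearMap.quotKerEquivOfSurjective s hs).symm (s y))) = s y
  rw [h1, Submodule.liftQ_apply]
  apply Subtype.ext
  change c * (e * y) = c * y
  rw [← mul_assoc, hce]

theorem flat_ideals (I : Ideal (∀ j, A j)) : Module.Flat (∀ j, A j) I := by
  have h2 : ∀ I : Ideal (∀ j, A j), I.FG → Module.Flat (∀ j, A j) I := by
    intro I hI
    haveI := isBezout_pi A
    obtain ⟨c, hc⟩ := (IsBezout.isPrincipal_of_FG I hI).principal
    have hc' : I = Ideal.span {c} := hc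
    rw [hc']
    haveI := projective_principal A c
    infer_instance
  have h := (Groth.Agent.S1969.main (A := ∀ j, A j)).out 1 0
  exact h.1 h2 I

end

section
variable {J : Type u} (A : J → Type u) [∀ j, CommRing (A j)] [∀ j, IsDomain (A j)]
    (K : J → Type u) [∀ j, Field (K j)] [∀ j, Algebra (A j) (K j)]
    [∀ j, IsFractionRing (A j) (K j)]

theorem isLocalization_pi : IsLocalization (nonZeroDivisors (∀ j, A j)) (∀ j, K j) := by
  classical
  rw [isLocalization_iff]
  refine ⟨?_, ?_, ?_⟩
  · intro y
    rw [Pi.isUnit_iff]
    intro j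
    have hyj : (y : ∀ j, A j) j ≠ 0 := by
      intro h0
      have hy := (mem_nonZeroDivisors_iff_right.1 y.2) (Pi.single j 1) (by
        funext k
        by_cases hk : k = j
        · subst hk; simp [h0]
        · simp [Pi.single_eq_of_ne hk])
      have := congrFun hy j
      simp at this
    change IsUnit (algebraMap (A j) (K j) ((y : ∀ j, A j) j))
    exact IsUnit.mk0 _ ((map_ne_zero_iff _ (IsFractionRing.injective (A j) (K j))).2 hyj)
  · intro z
    have : ∀ j, ∃ x : A j × nonZeroDivisors (A j),
        z j * algebraMap (A j) (K j) x.2 = algebraMap (A j) (K j) x.1 :=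
      fun j => IsLocalization.surj (nonZeroDivisors (A j)) (z j)
    choose x hx using this
    refine ⟨(fun j => (x j).1, ⟨fun j => ((x j).2 : A j), ?_⟩), ?_⟩
    · rw [mem_nonZeroDivisors_iff_right]
      intro w hw
      funext j
      have := congrFun hw j
      exact (mem_nonZeroDivisors_iff_right.1 (x j).2.2) (w j) this
    · funext j
      exact hx j
  · intro x y hxy
    refine ⟨1, ?_⟩
    have : x = y := by
      funext j
      have := congrFun hxy j
      exact IsFractionRing.injective (A j) (K j) this
    rw [this]

end

/-- Let (A_j) be a family of valuation rings with fraction fields K_j. Then every ideal of the product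
ring Π A_j is a flat Π A_j-module (that is, Π A_j has weak dimension at most 1), and Π K_j is the
localization of Π A_j at its non-zero-divisors. -/
theorem result {J : Type u} (A : J → Type u) [∀ j, CommRing (A j)] [∀ j, IsDomain (A j)]
    [∀ j, ValuationRing (A j)] (K : J → Type u) [∀ j, Field (K j)] [∀ j, Algebra (A j) (K j)]
    [∀ j, IsFractionRing (A j) (K j)] :
    (∀ I : Ideal (∀ j, A j), Module.Flat (∀ j, A j) I) ∧
      IsLocalization (nonZeroDivisors (∀ j, A j)) (∀ j, K j) := by
  exact ⟨Groth.Agent.S1968.flat_ideals A, Groth.Agent.S1968.isLocalization_pi A K⟩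

end Groth.Agent.S1968
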