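import Groth.Statements.S19681
import Groth.Agent.Lib.Helper18.QSh2
import Groth.Agent.Lib.Helper18.ActRestrict

set_option autoImplicit false
universe u
open CategoryTheory MonoidalCategory CartesianMonoidalCategory MonObj AlgebraicGeometry
open ChGrp

namespace Groth.Agent.S19681

/-- Let k be an algebraically closed field of characteristic zero, G and H affine group schemes of
finite type over k with i : H → G a homomorphism which is a closed immersion, and Z a reduced affine
k-scheme of finite type with an action of H. Let Y, with its G-action and j : G × Z → Y, be the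
balanced product G ×^H Z for the fppf topology (j is G-equivariant for left translation on the first
factor, a torsor for the twisted H-action h·(g, z) = (g i(h)⁻¹, h·z), with sections fppf-locally on
Y). Let c : Y' → Y be a closed immersion from a reduced scheme Y' with a G-action making c
equivariant (a closed G-invariant subvariety of Y). Then Y' is again a balanced product: there are a
closed immersion c' : Z' → Z, an H-action on Z' for which c' is equivariant (a closed H-invariant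
subscheme of Z), and a morphism j' : G × Z' → Y' with j' followed by c equal to G × c' followed by
j, such that j' makes Y' the balanced product G ×^H Z' for the fppf topology. (The source assumes G
and H reductive and defines G ×^H Z as the quotient (G × Z)//H, a principal H-bundle; here the
balanced product is taken in its torsor form and reductivity is not needed.) -/
theorem result
    (k : Type u) [Field k] [IsAlgClosed k] [CharZero k]
    (G H Z Y Y' : Over (Spec (CommRingCat.of k))) [GrpObj G] [GrpObj H]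
    [IsAffine G.left] [LocallyOfFiniteType G.hom] [IsAffine H.left] [LocallyOfFiniteType H.hom]
    (i : H ⟶ G) [IsMonHom i] [IsClosedImmersion i.left]
    [IsAffine Z.left] [LocallyOfFiniteType Z.hom] [IsReduced Z.left]
    (aZ : AlgGrp.Action H Z) (aY : AlgGrp.Action G Y) (j : G ⊗ Z ⟶ Y)
    (hY : ChGrp.IsBalProd Scheme.fppfPrecoverage i aZ aY j)
    (c : Y' ⟶ Y) [IsClosedImmersion c.left] [IsReduced Y'.left]
    (aY' : AlgGrp.Action G Y') (hc : AlgGrp.Action.IsEquivariant aY' aY c) :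
    ∃ (Z' : Over (Spec (CommRingCat.of k))) (c' : Z' ⟶ Z) (aZ' : AlgGrp.Action H Z') (j' : G ⊗ Z' ⟶ Y'),
      IsClosedImmersion c'.left ∧ AlgGrp.Action.IsEquivariant aZ' aZ c' ∧
      j' ≫ c = (G ◁ c') ≫ j ∧ ChGrp.IsBalProd Scheme.fppfPrecoverage i aZ' aY' j' := by
  obtain ⟨hequiv, hcart, hloc⟩ := hY
  have hsecj := Groth.Agent.Helper18.DescHomK.secSieve_mem_of_loc Scheme.fppfPrecoverage j hloc
  -- points form of the hypotheses
  have hjH : ∀ (T : Over (Spec (CommRingCat.of k))) (h : T ⟶ H) (g : T ⟶ G) (z : T ⟶ Z),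
      lift (g * (h ≫ i)⁻¹) (lift h z ≫ aZ.act) ≫ j = lift g z ≫ j := by
    intro T h g z
    have := congrArg (fun m => lift h (lift g z) ≫ m) hcart.w
    simp only [← Category.assoc] at this
    rw [ChGrp.lift_twist_act, lift_snd] at this
    exact this
  have hjG : ∀ (T : Over (Spec (CommRingCat.of k))) (g' g : T ⟶ G) (z : T ⟶ Z),
      lift (g' * g) z ≫ j = lift g' (lift g z ≫ j) ≫ aY.act := by
    intro T g' g z
    have := congrArg (fun m => lift g' (lift g z) ≫ m) hequiv
    simp only [← Category.assoc] at this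
    rw [AlgGrp.Action.lift_prod_act, AlgGrp.Action.lift_trivial_act, lift_whiskerLeft] at this
    have e : lift g' g ≫ (NonAbH1.trivialAction G).act = g' * g := by
      show lift g' g ≫ μ[G] = g' * g
      rw [Hom.mul_def]
    rw [e] at this
    exact this
  have hcpt : ∀ (T : Over (Spec (CommRingCat.of k))) (g : T ⟶ G) (y' : T ⟶ Y'),
      (lift g y' ≫ aY'.act) ≫ c = lift g (y' ≫ c) ≫ aY.act := by
    intro T g y'
    have hc' : aY'.act ≫ c = (G ◁ c) ≫ aY.act := hc
    rw [Category.assoc, hc', lift_whiskerLeft_assoc]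
  haveI : Mono c := by
    haveI : Mono c.left := inferInstance
    exact Over.mono_of_mono_left c
  obtain ⟨ιZ, hιdef⟩ : ∃ ιZ : Z ⟶ Y, ιZ = lift (1 : Z ⟶ G) (𝟙 Z) ≫ j := ⟨_, rfl⟩
  have hι : ∀ (T : Over (Spec (CommRingCat.of k))) (z : T ⟶ Z), z ≫ ιZ = lift (1 : T ⟶ G) z ≫ j := by
    intro T z
    rw [hιdef, ← Category.assoc, comp_lift, Category.comp_id, comp_one]
  have hjι : ∀ (T : Over (Spec (CommRingCat.of k))) (g : T ⟶ G) (z : T ⟶ Z),
      lift g z ≫ j = lift g (z ≫ ιZ) ≫ aY.act := by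
    intro T g z
    have := hjG T g 1 z
    rwa [_root_.mul_one, ← hι] at this
  have hιH : ∀ (T : Over (Spec (CommRingCat.of k))) (h : T ⟶ H) (z : T ⟶ Z),
      (lift h z ≫ aZ.act) ≫ ιZ = lift (h ≫ i) (z ≫ ιZ) ≫ aY.act := by
    intro T h z
    have h2 := hjH T h (h ≫ i) z
    rw [mul_inv_cancel] at h2
    rw [hι, h2, hjι]
  -- the subscheme `Z'`
  have hsnd : Limits.pullback.snd ιZ.left c.left ≫ Y'.hom = Limits.pullback.fst ιZ.left c.left ≫ Z.hom := by
    rw [← Over.w c, ← Over.w ιZ, ← Category.assoc, ← Category.assoc, Limits.pullback.condition]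
  obtain ⟨Z', c', d, sq, hcl⟩ : ∃ (Z' : Over (Spec (CommRingCat.of k))) (c' : Z' ⟶ Z) (d : Z' ⟶ Y'),
      IsPullback c' d ιZ c ∧ IsClosedImmersion c'.left := by
    refine ⟨Over.mk (Limits.pullback.fst ιZ.left c.left ≫ Z.hom),
      Over.homMk (Limits.pullback.fst ιZ.left c.left) rfl,
      Over.homMk (Limits.pullback.snd ιZ.left c.left) hsnd,
      IsPullback.of_map_of_faithful (Over.forget _) (IsPullback.of_hasPullback ιZ.left c.left), ?_⟩
    show IsClosedImmersion (Limits.pullback.fst ιZ.left c.left)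
    infer_instance
  haveI hmc' : Mono c' := by
    refine ⟨fun x y hxy => sq.hom_ext hxy ?_⟩
    rw [← cancel_mono c, Category.assoc, Category.assoc, ← sq.w, ← Category.assoc, ← Category.assoc, hxy]
  -- the action on `Z'`
  have hcompat : ((H ◁ c') ≫ aZ.act) ≫ ιZ = (lift (fst H Z' ≫ i) (snd H Z' ≫ d) ≫ aY'.act) ≫ c := by
    apply AlgGrp.Action.hom_ext_lift₂
    intro T h z'
    have e1 : lift h z' ≫ ((H ◁ c') ≫ aZ.act) ≫ ιZ = (lift h (z' ≫ c') ≫ aZ.act) ≫ ιZ := by
      rw [← Category.assoc, ← Category.assoc, lift_whiskerLeft]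
    have e2 : lift h z' ≫ (lift (fst H Z' ≫ i) (snd H Z' ≫ d) ≫ aY'.act) ≫ c =
        (lift (h ≫ i) (z' ≫ d) ≫ aY'.act) ≫ c := by
      rw [← Category.assoc, ← Category.assoc, comp_lift, lift_fst_assoc, lift_snd_assoc]
    rw [e1, e2, hιH, hcpt, Category.assoc, Category.assoc, sq.w]
  obtain ⟨act', hact', hactd⟩ : ∃ act' : H ⊗ Z' ⟶ Z', act' ≫ c' = (H ◁ c') ≫ aZ.act ∧
      act' ≫ d = lift (fst H Z' ≫ i) (snd H Z' ≫ d) ≫ aY'.act :=
    ⟨sq.lift ((H ◁ c') ≫ aZ.act) (lift (fst H Z' ≫ i) (snd H Z' ≫ d) ≫ aY'.act) hcompat,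
      sq.lift_fst _ _ _, sq.lift_snd _ _ _⟩
  obtain ⟨aZ', haZ'⟩ : ∃ aZ' : AlgGrp.Action H Z', aZ'.act = act' :=
    ⟨Groth.Agent.Helper18.ActRestrict.restrictMono aZ c' act' hact', rfl⟩
  obtain ⟨j', hj'def⟩ : ∃ j' : G ⊗ Z' ⟶ Y', j' = (G ◁ d) ≫ aY'.act := ⟨_, rfl⟩
  have hj'pt : ∀ (T : Over (Spec (CommRingCat.of k))) (g : T ⟶ G) (z' : T ⟶ Z'),
      lift g z' ≫ j' = lift g (z' ≫ d) ≫ aY'.act := by
    intro T g z'
    rw [hj'def, lift_whiskerLeft_assoc]
  have hj'c : j' ≫ c = (G ◁ c') ≫ j := by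
    apply AlgGrp.Action.hom_ext_lift₂
    intro T g z'
    rw [← Category.assoc, hj'pt, hcpt, lift_whiskerLeft_assoc, hjι, Category.assoc, Category.assoc, sq.w]
  have hmono : ∀ {T : Over (Spec (CommRingCat.of k))} (x y : T ⟶ G ⊗ Z'), x ≫ (G ◁ c') = y ≫ (G ◁ c') → x = y := by
    intro T x y hxy
    apply CartesianMonoidalCategory.hom_ext
    · have := congrArg (fun m => m ≫ fst G Z) hxy
      simpa using this
    · have := congrArg (fun m => m ≫ snd G Z) hxy
      simp only [Category.assoc, whiskerLeft_snd] at this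
      rw [← cancel_mono c']
      simpa only [Category.assoc] using this
  have haZ'pt : ∀ (T : Over (Spec (CommRingCat.of k))) (h : T ⟶ H) (z' : T ⟶ Z'),
      (lift h z' ≫ aZ'.act) ≫ c' = lift h (z' ≫ c') ≫ aZ.act := by
    intro T h z'
    rw [haZ', Category.assoc, hact', lift_whiskerLeft_assoc]
  have htw : (ChGrp.twist i aZ').act ≫ (G ◁ c') = (H ◁ (G ◁ c')) ≫ (ChGrp.twist i aZ).act := by
    apply AlgGrp.Action.hom_ext_lift₂
    intro T h p
    obtain ⟨g, z', rfl⟩ : ∃ g z', p = lift g z' := ⟨p ≫ fst _ _, p ≫ snd _ _, by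
      apply CartesianMonoidalCategory.hom_ext <;> simp⟩
    rw [ChGrp.lift_twist_act_assoc, lift_whiskerLeft, haZ'pt, lift_whiskerLeft_assoc, lift_whiskerLeft,
      ChGrp.lift_twist_act]
  have hequiv' : AlgGrp.Action.IsEquivariant aZ' aZ c' := by
    show aZ'.act ≫ c' = (H ◁ c') ≫ aZ.act
    rw [haZ', hact']
  refine ⟨Z', c', aZ', j', hcl, hequiv', hj'c, ?_, ?_, ?_⟩
  · -- equivariance
    show ((NonAbH1.trivialAction G).prod (AlgGrp.Action.trivial G Z')).act ≫ j' = (G ◁ j') ≫ aY'.act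
    apply AlgGrp.Action.hom_ext_lift₂
    intro T g' p
    obtain ⟨g, z', rfl⟩ : ∃ g z', p = lift g z' := ⟨p ≫ fst _ _, p ≫ snd _ _, by
      apply CartesianMonoidalCategory.hom_ext <;> simp⟩
    have e : lift g' g ≫ (NonAbH1.trivialAction G).act = g' * g := by
      show lift g' g ≫ μ[G] = g' * g
      rw [Hom.mul_def]
    rw [AlgGrp.Action.lift_prod_act_assoc, AlgGrp.Action.lift_trivial_act, e, hj'pt, lift_whiskerLeft_assoc, hj'pt,
      AlgGrp.Action.lift_mul_act]
  · -- the torsor square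
    have w' : (ChGrp.twist i aZ').act ≫ j' = snd H (G ⊗ Z') ≫ j' := by
      rw [← cancel_mono c, Category.assoc, Category.assoc, hj'c, ← Category.assoc, htw, Category.assoc, hcart.w,
        whiskerLeft_snd_assoc]
    refine Groth.Agent.Helper18.TorsComp.isPullback_of_points _ _ _ _ w' ?_ ?_
    · intro T x y hxy
      have hxy' : (x ≫ (G ◁ c')) ≫ j = (y ≫ (G ◁ c')) ≫ j := by
        rw [Category.assoc, Category.assoc, ← hj'c, ← Category.assoc, ← Category.assoc, hxy]
      obtain ⟨r, hr1, hr2⟩ : ∃ r, r ≫ (ChGrp.twist i aZ).act = x ≫ (G ◁ c') ∧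
          r ≫ snd H (G ⊗ Z) = y ≫ (G ◁ c') :=
        ⟨hcart.lift _ _ hxy', hcart.lift_fst _ _ _, hcart.lift_snd _ _ _⟩
      refine ⟨lift (r ≫ fst _ _) y, hmono _ _ ?_, lift_snd _ _⟩
      rw [Category.assoc, htw, lift_whiskerLeft_assoc, ← hr2, ← hr1]
      congr 1
      apply CartesianMonoidalCategory.hom_ext <;> simp
    · intro T m m' h1 h2
      apply CartesianMonoidalCategory.hom_ext
      · have e1 : (m ≫ (H ◁ (G ◁ c'))) ≫ (ChGrp.twist i aZ).act = (m' ≫ (H ◁ (G ◁ c'))) ≫ (ChGrp.twist i aZ).act := by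
          rw [Category.assoc, Category.assoc, ← htw, ← Category.assoc, ← Category.assoc, h1]
        have e2 : (m ≫ (H ◁ (G ◁ c'))) ≫ snd H (G ⊗ Z) = (m' ≫ (H ◁ (G ◁ c'))) ≫ snd H (G ⊗ Z) := by
          rw [Category.assoc, Category.assoc, whiskerLeft_snd, ← Category.assoc, ← Category.assoc, h2]
        have e3 := hcart.hom_ext e1 e2
        have := congrArg (fun q => q ≫ fst H (G ⊗ Z)) e3
        simpa using this
      · exact h2
  · -- local triviality
    have sq2 : IsPullback (G ◁ c') j' j c := by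
      refine Groth.Agent.Helper18.TorsComp.isPullback_of_points _ _ _ _ hj'c.symm ?_ ?_
      · intro T x y' hxy
        obtain ⟨g, z, rfl⟩ : ∃ g z, x = lift g z := ⟨x ≫ fst _ _, x ≫ snd _ _, by
          apply CartesianMonoidalCategory.hom_ext <;> simp⟩
        have hz : z ≫ ιZ = (lift g⁻¹ y' ≫ aY'.act) ≫ c := by
          rw [hcpt, ← hxy, hjι, ← AlgGrp.Action.lift_mul_act, inv_mul_cancel, AlgGrp.Action.lift_one_act]
        refine ⟨lift g (sq.lift z (lift g⁻¹ y' ≫ aY'.act) hz), ?_, ?_⟩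
        · rw [lift_whiskerLeft, sq.lift_fst]
        · rw [hj'pt, sq.lift_snd, ← AlgGrp.Action.lift_mul_act, mul_inv_cancel, AlgGrp.Action.lift_one_act]
      · intro T m m' h1 _
        exact hmono _ _ h1
    have hsecj' := Groth.Agent.Helper18.DescHomK.secSieve_of_isPullback Scheme.fppfPrecoverage sq2 hsecj
    exact Groth.Agent.Helper18.DescHomK.loc_of_secSieve_mem Scheme.fppfPrecoverage j' hsecj'

end Groth.Agent.S19681
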