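import Mathlib
import Groth.Statements.S1975
import Groth.Agent.Lib.Helper19.ValEt.Hens
import Groth.Agent.Lib.Helper1.HFlat4
import Groth.Agent.Lib.Helper1.SH1
import Groth.Agent.Lib.Helper26.SHIndEt1

set_option autoImplicit false
universe u
open EtAlg

namespace Groth.Agent.S1975

/-- Let A be a valuation ring and S a henselization or strict henselization of A. Then S is a valuation
ring, A -> S is injective, and every nonzero element of S is a unit multiple of the image of an
element of A (the value groups agree). -/
theorem result (A S : Type u) [CommRing A] [IsDomain A] [ValuationRing A] [CommRing S]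
    [IsLocalRing S] [Algebra A S] [IsLocalHom (algebraMap A S)]
    (h : Hensel.IsHenselization A S ∨ Hensel.IsStrictHenselization A S) :
    IsDomain S ∧ (∀ _ : IsDomain S, ValuationRing S) ∧ Function.Injective (algebraMap A S) ∧
      ∀ s : S, s ≠ 0 → ∃ (a : A) (u : Sˣ), s = u * algebraMap A S a := by
  rcases h with h | h
  · haveI := h
    haveI : Module.FaithfullyFlat A S :=
      Groth.Agent.Helper1.HFlat.faithfullyFlat_of_isHenselization A S
    exact Groth.Agent.Helper19.ValEt.of_isEt A S
      (Groth.Agent.Helper19.ValEt.isEt_of_isHenselization A S)
  · haveI := h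
    haveI : Module.FaithfullyFlat A S :=
      Groth.Agent.Helper1.HFlat.faithfullyFlat_of_isStrictHenselization A S
    exact Groth.Agent.Helper19.ValEt.of_isEt A S
      (Groth.Agent.Helper26.SHIndEt.isEt A S)

end Groth.Agent.S1975
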