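import Groth.Statements.S19754
import Groth.Agent.Lib.Helper20.GrSM8

set_option autoImplicit false
universe u
open scoped TensorProduct
open GrSegre

namespace Groth.Agent.S19754

open Groth.Agent.Helper20.Seg Groth.Agent.Helper20.GrInj Groth.Agent.Helper20.GrSM
  Groth.Agent.Helper20.SegFin

theorem result (k : Type u) [Field k] (R : Type u) [CommRing R] [Algebra k R] (𝒜 : ℤ → Submodule k R) [GradedAlgebra 𝒜] (hposR : ∀ n : ℤ, n < 0 → 𝒜 n = ⊥) (h0R : 𝒜 0 = Submodule.span k {(1 : R)}) [Algebra.FiniteType k R] (S : Type u) [CommRing S] [Algebra k S] (ℬ : ℤ → Submodule k S) [GradedAlgebra ℬ] (hposS : ∀ n : ℤ, n < 0 → ℬ n = ⊥) (h0S : ℬ 0 = Submodule.span k {(1 : S)}) [Algebra.FiniteType k S] (T : Type u) [CommRing T] [Algebra k T] (𝒯 : ℤ → Submodule k T) [GradedAlgebra 𝒯] (ψ : T →ₐ[k] TensorProduct k R S) (hT : GrSeg.IsSegreRing 𝒜 ℬ 𝒯 ψ) (M : Type u) [AddCommGroup M] [Module R M] [Module k M] [IsScalarTower k R M] (ℳ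 : ℤ → AddSubgroup M) [DirectSum.Decomposition ℳ] [SetLike.GradedSMul 𝒜 ℳ] [Module.Finite R M] (N : Type u) [AddCommGroup N] [Module S N] [Module k N] [IsScalarTower k S N] (𝒩 : ℤ → AddSubgroup N) [DirectSum.Decomposition 𝒩] [SetLike.GradedSMul ℬ 𝒩] [Module.Finite S N] (P : Type u) [AddCommGroup P] [Module T P] [Module k P] [IsScalarTower k T P] (𝒬 : ℤ → AddSubgroup P) [DirectSum.Decomposition 𝒬] (φ : P →ₗ[k] TensorProduct k M N) (hP : GrSeg.IsSegreMod ψ ℳ 𝒩 𝒬 φ) (r s : ℕ) (h1r : 1 ≤ r) (h1s : 1 ≤ s) (hdM : Module.supportDim R M = r) (hdN : Module.supportDim S N = s) (hMcm : (∀ (q : Ideal R) [q.IsPrime], Subsingleton (LocalizedModule q.primeCompl M) ∨ LocCoh.IsCohenMacaulayModule (Localization.AtPrime q) (LocalizedModule q.primeCompl M))) (hNcm : (∀ (q : Ideal S) [q.IsPrime], Subsingleton (LocalizedModule q.primeCompl N) ∨ LocCoh.IsCohenMacaulayModule (Localization.AtPrime q) (LocalizedModule q.primeCompl N))) : Module.supportDim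 T P = ((r + s - 1 : ℕ) : WithBot ℕ∞) ∨ Subsingleton P := by
  by_cases hP0 : Subsingleton P
  · exact Or.inr hP0
  left
  rw [not_subsingleton_iff_nontrivial] at hP0
  haveI : Nontrivial M := by
    rw [← Module.supportDim_ne_bot_iff_nontrivial R, hdM]
    exact WithBot.coe_ne_bot
  haveI : Nontrivial N := by
    rw [← Module.supportDim_ne_bot_iff_nontrivial S, hdN]
    exact WithBot.coe_ne_bot
  haveI : Nontrivial R := Module.nontrivial R M
  haveI : Nontrivial S := Module.nontrivial S N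
  haveI : IsNoetherianRing R := Algebra.FiniteType.isNoetherianRing k R
  haveI : IsNoetherianRing S := Algebra.FiniteType.isNoetherianRing k S
  haveI := gradedSMul_of_isSegreMod hT hP
  let mR := irrelK 𝒜
  have hmR : mR.toIdeal = Ideal.span (⋃ n ∈ Set.Ioi (0 : ℤ), (𝒜 n : Set R)) := rfl
  let mS := irrelK ℬ
  have hmS : mS.toIdeal = Ideal.span (⋃ n ∈ Set.Ioi (0 : ℤ), (ℬ n : Set S)) := rfl
  let EM := starInjRes 𝒜 ℳ
  let EN := starInjRes ℬ 𝒩
  have hvanM : ∀ q : ℕ, q ≠ r → ∀ n : ℤ, EM.Hcomp mR q n = ⊥ := by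
    intro q hq n
    rcases Nat.lt_or_ge q r with h | h
    · exact (cmK_iff_Hcomp EM mR hposR h0R hmR r hdM).1 hMcm q h n
    · exact Hcomp_eq_bot_of_gt EM mR r (le_of_eq hdM) q (by omega) n
  have hvanN : ∀ q : ℕ, q ≠ s → ∀ n : ℤ, EN.Hcomp mS q n = ⊥ := by
    intro q hq n
    rcases Nat.lt_or_ge q s with h | h
    · exact (cmK_iff_Hcomp EN mS hposS h0S hmS s hdN).1 hNcm q h n
    · exact Hcomp_eq_bot_of_gt EN mS s (le_of_eq hdN) q (by omega) n
  exact segre_mod_supportDim k R 𝒜 hposR h0R S ℬ hposS h0S T 𝒯 ψ hT mR hmR mS hmS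
    M ℳ EM N 𝒩 EN P 𝒬 φ hP r s h1r h1s hvanM hvanN (le_of_eq hdM) (le_of_eq hdN)

end Groth.Agent.S19754
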