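import Groth.Statements.S19756
import Groth.Agent.Lib.Helper20.GrSM8

set_option autoImplicit false
universe u
open scoped TensorProduct
open GrSegre

namespace Groth.Agent.S19756

open Groth.Agent.Helper20.Seg Groth.Agent.Helper20.GrInj Groth.Agent.Helper20.GrSM
  Groth.Agent.Helper20.SegFin

theorem result (k : Type u) [Field k] (R : Type u) [CommRing R] [Algebra k R] (𝒜 : ℤ → Submodule k R) [GradedAlgebra 𝒜] (hposR : ∀ n : ℤ, n < 0 → 𝒜 n = ⊥) (h0R : 𝒜 0 = Submodule.span k {(1 : R)}) [Algebra.FiniteType k R] (S : Type u) [CommRing S] [Algebra k S] (ℬ : ℤ → Submodule k S) [GradedAlgebra ℬ] (hposS : ∀ n : ℤ, n < 0 → ℬ n = ⊥) (h0S : ℬ 0 = Submodule.span k {(1 : S)}) [Algebra.FiniteType k S] (T : Type u) [CommRing T] [Algebra k T] (𝒯 : ℤ → Submodule k T) [GradedAlgebra 𝒯] (ψ : T →ₐ[k] TensorProduct k R S) (hT : GrSeg.IsSegreRing 𝒜 ℬ 𝒯 ψ) (mR : HomogeneousIdeal 𝒜) (hmR : mR.toIdeal = Ideal.span (⋃ n ∈ Set.Ioi (0 : ℤ),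 (𝒜 n : Set R))) (M : Type u) [AddCommGroup M] [Module R M] [Module k M] [IsScalarTower k R M] (ℳ : ℤ → AddSubgroup M) [DirectSum.Decomposition ℳ] [SetLike.GradedSMul 𝒜 ℳ] [Module.Finite R M] (EM : GrLC.StarInjRes 𝒜 ℳ) (N : Type u) [AddCommGroup N] [Module S N] [Module k N] [IsScalarTower k S N] (𝒩 : ℤ → AddSubgroup N) [DirectSum.Decomposition 𝒩] [SetLike.GradedSMul ℬ 𝒩] [Module.Finite S N] (P : Type u) [AddCommGroup P] [Module T P] [Module k P] [IsScalarTower k T P] (𝒬 : ℤ → AddSubgroup P) [DirectSum.Decomposition 𝒬] (φ : P →ₗ[k] TensorProduct k M N) (hP : GrSeg.IsSegreMod ψ ℳ 𝒩 𝒬 φ) [Nontrivial P] (s : ℕ) (h1s : 1 ≤ s) (hdM : Module.supportDim R M = 1) (hdN : Module.supportDim S N = s) (hMcm : (∀ (q : Ideal R) [q.IsPrime], Subsingleton (LocalizedModule q.primeCompl M) ∨ LocCoh.IsCohenMacaulayModule (Localization.AtPrime q) (LocalizedModule q.primeCompl M))) (hNcm : (∀ (q : Ideal S) [q.IsPrime], Subsingleton (LocalizedModule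 q.primeCompl N) ∨ LocCoh.IsCohenMacaulayModule (Localization.AtPrime q) (LocalizedModule q.primeCompl N))) : (2 ≤ s → ((∀ (q : Ideal T) [q.IsPrime], Subsingleton (LocalizedModule q.primeCompl P) ∨ LocCoh.IsCohenMacaulayModule (Localization.AtPrime q) (LocalizedModule q.primeCompl P)) ↔ ∀ d : ℤ, EM.Hcomp mR 1 d = ⊥ ∨ 𝒩 d = ⊥)) ∧ (s = 1 → (∀ (q : Ideal T) [q.IsPrime], Subsingleton (LocalizedModule q.primeCompl P) ∨ LocCoh.IsCohenMacaulayModule (Localization.AtPrime q) (LocalizedModule q.primeCompl P))) := by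
  have hdM' : Module.supportDim R M = ((1 : ℕ) : WithBot ℕ∞) := by
    rw [hdM]
    rfl
  haveI : Nontrivial M := by
    rw [← Module.supportDim_ne_bot_iff_nontrivial R, hdM']
    exact WithBot.coe_ne_bot
  haveI : Nontrivial N := by
    rw [← Module.supportDim_ne_bot_iff_nontrivial S, hdN]
    exact WithBot.coe_ne_bot
  haveI : Nontrivial R := Module.nontrivial R M
  haveI : Nontrivial S := Module.nontrivial S N
  haveI : IsNoetherianRing R := Algebra.FiniteType.isNoetherianRing k R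
  haveI : IsNoetherianRing S := Algebra.FiniteType.isNoetherianRing k S
  haveI := gradedSMul_of_isSegreMod hT hP
  let mS := irrelK ℬ
  have hmS : mS.toIdeal = Ideal.span (⋃ n ∈ Set.Ioi (0 : ℤ), (ℬ n : Set S)) := rfl
  let EN := starInjRes ℬ 𝒩
  have hvanM : ∀ q : ℕ, q ≠ 1 → ∀ n : ℤ, EM.Hcomp mR q n = ⊥ := by
    intro q hq n
    rcases Nat.lt_or_ge q 1 with h | h
    · exact (cmK_iff_Hcomp EM mR hposR h0R hmR 1 hdM').1 hMcm q h n
    · exact Hcomp_eq_bot_of_gt EM mR 1 (le_of_eq hdM') q (by omega) n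
  have hvanN : ∀ q : ℕ, q ≠ s → ∀ n : ℤ, EN.Hcomp mS q n = ⊥ := by
    intro q hq n
    rcases Nat.lt_or_ge q s with h | h
    · exact (cmK_iff_Hcomp EN mS hposS h0S hmS s hdN).1 hNcm q h n
    · exact Hcomp_eq_bot_of_gt EN mS s (le_of_eq hdN) q (by omega) n
  have key := segre_mod_cm_iff k R 𝒜 hposR h0R S ℬ hposS h0S T 𝒯 ψ hT mR hmR mS hmS
    M ℳ EM N 𝒩 EN P 𝒬 φ hP 1 s le_rfl h1s hvanM hvanN (le_of_eq hdM') (le_of_eq hdN)
  constructor
  · intro h2s
    rw [key]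
    constructor
    · rintro ⟨_, h⟩
      exact h h2s
    · intro h
      exact ⟨fun h' => absurd h' (by omega), fun _ => h⟩
  · intro hs1
    rw [key]
    exact ⟨fun h' => absurd h' (by omega), fun h' => absurd h' (by omega)⟩

end Groth.Agent.S19756
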