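import Groth.Statements.S1976
import Groth.Agent.Lib.Helper3.WEField
import Groth.Agent.Lib.Helper3.FGColim
import Groth.Agent.S0736

set_option autoImplicit false
universe u
open CategoryTheory
open EtAlg

namespace Groth.Agent.S1976

/-- (2) ⇔ (3): a K-algebra B over a field K is weakly etale exactly when it can be written as a filtered
colimit of etale K-algebras, and in that case its finitely generated K-subalgebras are etale. -/
theorem result (K : Type u) [Field K] (B : Type u) [CommRing B] [Algebra K B] :
    (Algebra.WeaklyEtale K B ↔ EtPBC.IsIndEtale K B) ∧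
    (Algebra.WeaklyEtale K B → ∀ S : Subalgebra K B, S.FG → Algebra.Etale K S) := by
  have key : Algebra.WeaklyEtale K B → ∀ S : Subalgebra K B, S.FG → Algebra.Etale K S :=
    fun _ S hS => Groth.Agent.Helper3.WEField.etale_of_fg_subalgebra S hS
  refine ⟨⟨fun h => ?_, fun h => Groth.Agent.S0736.result K B h⟩, key⟩
  refine ⟨Groth.Agent.Helper3.FGColim.FGSub K B, inferInstance, inferInstance,
    Groth.Agent.Helper3.FGColim.diagram K B, Groth.Agent.Helper3.FGColim.cocone K B,
    Groth.Agent.Helper3.FGColim.isColimit, ?_, ⟨Iso.refl _⟩⟩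
  intro S
  have h1 := key h S.1 S.2
  have e : ((Groth.Agent.Helper3.FGColim.diagram K B).obj S).hom.hom.toAlgebra =
      (inferInstance : Algebra K S.1) := Algebra.algebra_ext _ _ (fun r => rfl)
  change @Algebra.Etale K S.1 _ _
    ((Groth.Agent.Helper3.FGColim.diagram K B).obj S).hom.hom.toAlgebra
  rw [e]
  exact h1

end Groth.Agent.S1976
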