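import Groth.Statements.S19764
import Groth.Agent.Lib.Helper20.GrSP3

set_option autoImplicit false
universe u
open scoped TensorProduct
attribute [local instance] MvPolynomial.weightedGradedAlgebra
open GrSegre

namespace Groth.Agent.S19764

open Groth.Agent.Helper20.Seg Groth.Agent.Helper20.GrInj Groth.Agent.Helper20.GrSM
  Groth.Agent.Helper20.SegFin Groth.Agent.Helper20.GorType


theorem result (k : Type u) [Field k] (s : ℕ) (h2s : 2 ≤ s) (T : Type u) [CommRing T] [Algebra k T] (𝒯 : ℤ → Submodule k T) [GradedAlgebra 𝒯] (ψ : T →ₐ[k] TensorProduct k (MvPolynomial (Fin 1) k) (MvPolynomial (Fin s) k)) (hT : GrSeg.IsSegreRing (MvPolynomial.weightedHomogeneousSubmodule k (fun _ : Fin 1 => (1 : ℤ))) (MvPolynomial.weightedHomogeneousSubmodule k (fun _ : Fin s => (1 : ℤ))) 𝒯 ψ) (mT : HomogeneousIdeal 𝒯) (hmT : mT.toIdeal = Ideal.span (⋃ n ∈ Set.Ioi (0 : ℤ), (𝒯 n : Set T))) (a b : ℤ) (P : Type u) [AddCommGroup P] [Module T P] [Module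 k P] [IsScalarTower k T P] (𝒬 : ℤ → AddSubgroup P) [DirectSum.Decomposition 𝒬] (φ : P →ₗ[k] TensorProduct k (MvPolynomial (Fin 1) k) (MvPolynomial (Fin s) k)) (hP : GrSeg.IsSegreMod ψ (fun n : ℤ => (MvPolynomial.weightedHomogeneousSubmodule k (fun _ : Fin 1 => (1 : ℤ))) (n + a)) (fun n : ℤ => (MvPolynomial.weightedHomogeneousSubmodule k (fun _ : Fin s => (1 : ℤ))) (n + b)) 𝒬 φ) : (b ≤ a → (∀ (q : Ideal T) [q.IsPrime], Subsingleton (LocalizedModule q.primeCompl P) ∨ LocCoh.IsCohenMacaulayModule (Localization.AtPrime q) (LocalizedModule q.primeCompl P))) ∧ (a < b → LocCoh.idealDepth mT.toIdeal P = (1 : ℕ∞)) := by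
  have h1s : 1 ≤ s := by omega
  have hP' := isSegreMod_shiftGr k 1 s T ψ a b P 𝒬 φ hP
  haveI := gradedSMul_of_isSegreMod hT hP'
  haveI : IsNoetherianRing T :=
    Groth.Agent.Helper27.Segre.isNoetherianRing (Wp k 1) (Wp k s) 𝒯 ψ hT.2 hT.1
  haveI : Module.Finite T P := finite_of_isSegreMod hT hP'
  have key := Hcomp_segre_poly_eq_bot_iff k 1 s le_rfl h1s T 𝒯 ψ hT mT hmT a b P 𝒬 φ hP
    (starInjRes 𝒯 𝒬)
  refine ⟨?_, ?_⟩
  · intro hab
    rw [cm_segre_poly_iff k 1 s le_rfl h1s T 𝒯 ψ hT a b P 𝒬 φ hP]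
    refine ⟨fun h => ?_, fun _ => ?_⟩
    · omega
    · push_cast
      omega
  · intro hab
    apply idealDepth_eq_of_Hcomp (starInjRes 𝒯 𝒬) mT 1
    · intro Q hQ n
      rw [key]
      omega
    · refine ⟨-b, ?_⟩
      rw [Ne, key]
      push Not
      right
      left
      refine ⟨rfl, ?_, ?_⟩
      · push_cast
        omega
      · omega

end Groth.Agent.S19764
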