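import Groth.Statements.S19766
import Groth.Agent.Lib.Helper23.KLCalc

set_option autoImplicit false
universe u
open CategoryTheory MonoidalCategory CartesianMonoidalCategory MonObj GrpObj AlgebraicGeometry
open AbVar

namespace Groth.Agent.S19766

/-- Let X be an abelian variety over a field k (a proper, geometrically integral k-group scheme), L an
invertible O_X-module, and i : K → X a closed immersion exhibiting K as K(L): the maximal closed
subscheme of X over which the Mumford bundle m^*L ⊗ p_1^*L⁻¹ ⊗ p_2^*L⁻¹ on X ×_k X, restricted to X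
×_k K, is the inverse image of an invertible module on K, with its universal property for morphisms
T → X. Let T be a k-scheme and x : T → X a T-valued point, t_x : X_T → X_T the translation by x and
L_T the inverse image of L on X_T = X ×_k T. Then x factors through i if and only if t_x^*L_T ⊗
L_T⁻¹ is the inverse image of a line bundle on T, stated without inverses: there is an invertible
O_T-module M with L_T ⊗ pr_T^*M ≅ t_x^*L_T. -/
theorem result (k : Type u) [Field k] (X : Over (Spec (CommRingCat.of k)))
    [GrpObj X] [IsProper X.hom] [GeometricallyIntegral X.hom] (L : X.left.Modules) (hL : PicF.IsInvertible L)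
    (K : Over (Spec (CommRingCat.of k))) (i : K ⟶ X) (hK : ThetaGrp.IsKL X L i)
    (T : Over (Spec (CommRingCat.of k))) (x : T ⟶ X) :
    (∃ y : T ⟶ K, y ≫ i = x) ↔ ∃ M : T.left.Modules, PicF.IsInvertible M ∧
      Nonempty (CohB1.tensorMod ((Scheme.Modules.pullback (fst X T).left).obj L)
          ((Scheme.Modules.pullback (snd X T).left).obj M) ≅
        (Scheme.Modules.pullback (ThetaGrp.transl X x ≫ fst X T).left).obj L) := by
  rw [← hK.univ T x, Groth.Agent.Helper23.KLCalc.mumford_iff X L hL x]
  constructor
  · intro h
    refine ⟨(Scheme.Modules.pullback x.left).obj L,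
      Groth.Agent.Helper13.PbInv.isInvertible_pullback _ L hL, ?_⟩
    rw [ThetaGrp.transl_fst]
    refine (Groth.Agent.Helper23.PicCalc.cl_eq_iff
      (Groth.Agent.Helper13.Inv.isInvertible_tensorMod _ _
        (Groth.Agent.Helper13.PbInv.isInvertible_pullback _ L hL)
        (Groth.Agent.Helper13.PbInv.isInvertible_pullback _ _
          (Groth.Agent.Helper13.PbInv.isInvertible_pullback _ L hL)))
      (Groth.Agent.Helper13.PbInv.isInvertible_pullback _ L hL)).1 ?_
    change Groth.Agent.Helper23.KLCalc.br X L hL (fst X T) +
        Groth.Agent.Helper23.PicCalc.pull (snd X T).left (Groth.Agent.Helper23.KLCalc.br X L hL x) =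
      Groth.Agent.Helper23.KLCalc.br X L hL (fst X T * (snd X T ≫ x))
    rw [Groth.Agent.Helper23.KLCalc.pull_br]
    exact h
  · rintro ⟨M, hM, hiso⟩
    rw [ThetaGrp.transl_fst] at hiso
    have h1 : Groth.Agent.Helper23.KLCalc.br X L hL (fst X T) +
        Groth.Agent.Helper23.PicCalc.pull (snd X T).left (Groth.Agent.Helper23.PicCalc.cl M hM) =
      Groth.Agent.Helper23.KLCalc.br X L hL (fst X T * (snd X T ≫ x)) :=
      (Groth.Agent.Helper23.PicCalc.cl_eq_iff
        (Groth.Agent.Helper13.Inv.isInvertible_tensorMod _ _
          (Groth.Agent.Helper13.PbInv.isInvertible_pullback _ L hL)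
          (Groth.Agent.Helper13.PbInv.isInvertible_pullback _ _ hM))
        (Groth.Agent.Helper13.PbInv.isInvertible_pullback _ L hL)).2 hiso
    let e : T ⟶ X ⊗ T := lift 1 (𝟙 T)
    have he₂ : e.left ≫ (snd X T).left = 𝟙 T.left := by
      rw [← Over.comp_left, lift_snd]
      rfl
    have h2 := congrArg (Groth.Agent.Helper23.PicCalc.pull e.left) h1
    rw [map_add, Groth.Agent.Helper23.KLCalc.pull_br, Groth.Agent.Helper23.KLCalc.pull_br,
      Groth.Agent.Helper23.PicCalc.pull_pull, Groth.Agent.Helper23.PicCalc.pull_congr he₂,
      Groth.Agent.Helper23.PicCalc.pull_id, MonObj.comp_mul, lift_fst, ← Category.assoc, lift_snd,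
      Category.id_comp, _root_.one_mul, Groth.Agent.Helper23.KLCalc.br_one, zero_add] at h2
    rw [h2, Groth.Agent.Helper23.KLCalc.pull_br] at h1
    exact h1

end Groth.Agent.S19766
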