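import Groth.Statements.S19767
import Groth.Agent.Lib.Helper23.PicTools

set_option autoImplicit false
universe u
open CategoryTheory MonoidalCategory CartesianMonoidalCategory MonObj GrpObj AlgebraicGeometry
open AbVar

namespace Groth.Agent.S19767

/-- Let X be an abelian variety over a field k (a proper, geometrically integral k-group scheme), L an
invertible O_X-module, T a k-scheme, x : T → X a T-valued point with translation t_x : X_T → X_T,
and L_T the inverse image of L on X_T = X ×_k T. If an O_T-module M satisfies L_T ⊗ pr_T^*M ≅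
t_x^*L_T (that is, t_x^*L_T ⊗ L_T⁻¹ ≅ pr_T^*M), then M ≅ x^*L (existence of an isomorphism). (The
published statement takes M invertible; invertibility is not needed.) -/
theorem result (k : Type u) [Field k] (X : Over (Spec (CommRingCat.of k)))
    [GrpObj X] [IsProper X.hom] [GeometricallyIntegral X.hom] (L : X.left.Modules) (hL : PicF.IsInvertible L)
    (T : Over (Spec (CommRingCat.of k))) (x : T ⟶ X) (M : T.left.Modules)
    (h : Nonempty (CohB1.tensorMod ((Scheme.Modules.pullback (fst X T).left).obj L)
          ((Scheme.Modules.pullback (snd X T).left).obj M) ≅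
        (Scheme.Modules.pullback (ThetaGrp.transl X x ≫ fst X T).left).obj L)) :
    Nonempty (M ≅ (Scheme.Modules.pullback x.left).obj L) := by
  obtain ⟨h⟩ := h
  let e : T ⟶ X ⊗ T := lift (1 : T ⟶ X) (𝟙 T)
  have he₂ : e.left ≫ (snd X T).left = 𝟙 T.left := by
    rw [← Over.comp_left, lift_snd]
    rfl
  have heq : e.left ≫ (ThetaGrp.transl X x ≫ fst X T).left = x.left := by
    rw [← Over.comp_left]
    congr 1
    rw [ThetaGrp.transl_fst, MonObj.comp_mul, lift_fst, ← Category.assoc, lift_snd, Category.id_comp,
      _root_.one_mul]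
  have htriv : Nonempty ((Scheme.Modules.pullback (e.left ≫ (fst X T).left)).obj L ≅
      Coh.structureModule T.left) := by
    have h1 : e.left ≫ (fst X T).left = (toUnit T).left ≫ (η[X]).left := by
      rw [← Over.comp_left, lift_fst, ← Over.comp_left]
      rfl
    have hN : PicF.IsInvertible ((Scheme.Modules.pullback (η[X]).left).obj L) :=
      Groth.Agent.Helper13.PbInv.isInvertible_pullback _ L hL
    haveI : Subsingleton ↥(𝟙_ (Over (Spec (CommRingCat.of k)))).left :=
      inferInstanceAs (Subsingleton (PrimeSpectrum k))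
    obtain ⟨tN⟩ := Groth.Agent.Helper23.PicTools.nonempty_iso_unit_of_subsingleton _ hN
      (show ↥(Spec (CommRingCat.of k)) from ⟨⊥, Ideal.isPrime_bot⟩)
    exact ⟨(Scheme.Modules.pullbackCongr h1).app L ≪≫
      ((Scheme.Modules.pullbackComp _ _).app L).symm ≪≫
      (Scheme.Modules.pullback (toUnit T).left).mapIso tN ≪≫
      Groth.Agent.Helper13.PbUnit.pullbackUnitIso _⟩
  obtain ⟨r⟩ := Groth.Agent.Helper23.PicTools.nonempty_iso_of_section (fst X T).left
    (snd X T).left (ThetaGrp.transl X x ≫ fst X T).left e.left he₂ L hL M htriv h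
  exact ⟨r ≪≫ (Scheme.Modules.pullbackCongr heq).app L⟩

end Groth.Agent.S19767
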