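import Groth.Statements.S19770
import Groth.Agent.Lib.Helper23.KLCalc

set_option autoImplicit false
universe u
open CategoryTheory MonoidalCategory CartesianMonoidalCategory MonObj GrpObj AlgebraicGeometry
open AbVar

namespace Groth.Agent.S19770

/-- Let X be an abelian variety over a field k (a proper, geometrically integral k-group scheme), L an
invertible O_X-module, i : K → X a closed immersion exhibiting K as K(L) (the maximal closed
subscheme over which the Mumford bundle m^*L ⊗ p_1^*L⁻¹ ⊗ p_2^*L⁻¹, restricted to X ×_k K, is the
inverse image of an invertible module on K, with its universal property), and B a k-group scheme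
with a homomorphism j : B → X that factors through i. Write M = j^*L. Then M ⊗ [-1]^*M ≅ O_B, where
[-1] : B → B is the inversion (existence of an isomorphism). (The published statement assumes k
algebraically closed and takes for B the reduced identity component of K(L), an abelian subvariety;
the argument — restrict the Mumford bundle to B × B and pull back along (1, -1) — applies to any
group scheme over k mapping homomorphically into K(L).) -/
theorem result (k : Type u) [Field k] (X : Over (Spec (CommRingCat.of k)))
    [GrpObj X] [IsProper X.hom] [GeometricallyIntegral X.hom] (L : X.left.Modules) (hL : PicF.IsInvertible L)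
    (K : Over (Spec (CommRingCat.of k))) (i : K ⟶ X) (hK : ThetaGrp.IsKL X L i)
    (B : Over (Spec (CommRingCat.of k))) [GrpObj B] (j : B ⟶ X) [IsMonHom j] (hj : ∃ y : B ⟶ K, y ≫ i = j) :
    Nonempty (CohB1.tensorMod ((Scheme.Modules.pullback j.left).obj L)
        ((Scheme.Modules.pullback ((𝟙 B)⁻¹ ≫ j).left).obj L) ≅ Coh.structureModule B.left) := by
  have hMT : ThetaGrp.IsMumfordTriv X L j := (hK.univ B j).2 hj
  have h1 := Groth.Agent.Helper23.KLCalc.mumford_pull X L hL j hMT j ((𝟙 B)⁻¹)
  rw [GrpObj.inv_comp, Category.id_comp, mul_inv_cancel, Groth.Agent.Helper23.KLCalc.br_one] at h1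
  have h2 : ((𝟙 B)⁻¹ ≫ j) = j⁻¹ := by rw [GrpObj.inv_comp, Category.id_comp]
  rw [h2]
  exact (Groth.Agent.Helper23.PicCalc.cl_eq_iff
    (Groth.Agent.Helper13.Inv.isInvertible_tensorMod _ _
      (Groth.Agent.Helper13.PbInv.isInvertible_pullback _ L hL)
      (Groth.Agent.Helper13.PbInv.isInvertible_pullback _ L hL))
    Groth.Agent.Helper13.Inv.isInvertible_structureModule).1 h1

end Groth.Agent.S19770
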