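import Groth.Statements.S19804
import Mathlib

set_option autoImplicit false
open scoped TensorProduct
universe u v w
open Brauer

namespace Groth.Agent.S19804

theorem idem_zero_of_baseChange {R : Type u} [CommRing R]
    [ConnectedSpace (PrimeSpectrum R)] {A : Type v} [Ring A] [Algebra R A]
    [Module.Finite R A] [Module.Projective R A]
    (e : A) (he : IsIdempotentElem e) (R' : Type w) [CommRing R'] [Nontrivial R'] [Algebra R R']
    (h0 : (1 : R') ⊗ₜ[R] e = (0 : R' ⊗[R] A)) : e = 0 := by
  let M : Submodule R A := LinearMap.range (LinearMap.mulLeft R e)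
  let π : A →ₗ[R] M := (LinearMap.mulLeft R e).rangeRestrict
  have hπ : π ∘ₗ M.subtype = LinearMap.id := by
    ext ⟨m, a, rfl⟩
    simp [π, ← mul_assoc, he.eq]
  have : Module.Projective R M := Module.Projective.of_split M.subtype π hπ
  have : Module.Finite R M := Module.Finite.of_surjective π (LinearMap.surjective_rangeRestrict _)
  have : Module.FinitePresentation R M := Module.finitePresentation_of_projective R M
  have hinj : Function.Injective (M.subtype.lTensor R') := by
    have hcomp : (π.lTensor R') ∘ₗ (M.subtype.lTensor R') = LinearMap.id := by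
      rw [← LinearMap.lTensor_comp, hπ, LinearMap.lTensor_id]
    exact Function.LeftInverse.injective (g := π.lTensor R') (fun x => LinearMap.congr_fun hcomp x)
  have hsub : Subsingleton (R' ⊗[R] M) := by
    refine ⟨fun x y => ?_⟩
    have hz : ∀ z : R' ⊗[R] M, z = 0 := by
      intro z
      induction z using TensorProduct.induction_on with
      | zero => rfl
      | add x y hx hy => rw [hx, hy, add_zero]
      | tmul r m =>
        apply hinj
        obtain ⟨m, a, rfl⟩ := m
        simp only [LinearMap.lTensor_tmul, Submodule.subtype_apply, map_zero, LinearMap.mulLeft_apply]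
        have : r ⊗ₜ[R] (e * a) = ((1 : R') ⊗ₜ[R] e) * (r ⊗ₜ[R] a) := by
          simp [Algebra.TensorProduct.tmul_mul_tmul]
        rw [this, h0, zero_mul]
    rw [hz x, hz y]
  obtain ⟨p'⟩ := (inferInstance : Nonempty (PrimeSpectrum R'))
  have h1 : Module.rankAtStalk (R' ⊗[R] M) p' = 0 := by
    rw [Module.rankAtStalk_eq_zero_of_subsingleton]; rfl
  rw [Module.rankAtStalk_baseChange] at h1
  have hconst : Module.rankAtStalk (R := R) M = 0 := by
    ext p
    have := (Module.isLocallyConstant_rankAtStalk (R := R) (M := M)).apply_eq_of_preconnectedSpace p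
      (p'.comap (algebraMap R R'))
    rw [this, h1]; rfl
  have hM : Subsingleton M := Module.rankAtStalk_eq_zero_iff_subsingleton.mp hconst
  have heM : e ∈ M := ⟨1, by simp⟩
  have := Subsingleton.elim (⟨e, heM⟩ : M) 0
  exact congrArg Subtype.val this

/-- Let R be a commutative ring with Spec R connected, A an Azumaya R-algebra and e an idempotent
element of A. If for some nonzero commutative R-algebra R' the element 1 ⊗ e of R' ⊗_R A is 0, then
e = 0; and if 1 ⊗ e = 1 in R' ⊗_R A, then e = 1. (The published statement is for an Azumaya algebra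
over a connected scheme S and base change to an arbitrary nonempty S-scheme T; this row takes S and
T affine.) -/
theorem result {R : Type u} [CommRing R]
    [ConnectedSpace (PrimeSpectrum R)] {A : Type v} [Ring A] [Algebra R A] [IsAzumaya R A]
    (e : A) (he : IsIdempotentElem e) (R' : Type w) [CommRing R'] [Nontrivial R'] [Algebra R R'] :
    ((1 : R') ⊗ₜ[R] e = (0 : R' ⊗[R] A) → e = 0) ∧ ((1 : R') ⊗ₜ[R] e = (1 : R' ⊗[R] A) → e = 1) := by
  refine ⟨fun h0 => idem_zero_of_baseChange e he R' h0, fun h1 => ?_⟩
  have he' : IsIdempotentElem (1 - e) := he.one_sub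
  have h2 : (1 : R') ⊗ₜ[R] (1 - e) = (0 : R' ⊗[R] A) := by
    rw [TensorProduct.tmul_sub, h1, ← Algebra.TensorProduct.one_def, sub_self]
  have h3 := idem_zero_of_baseChange (1 - e) he' R' h2
  exact (sub_eq_zero.mp h3).symm


end Groth.Agent.S19804
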