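import Groth.Statements.S19856
import Groth.Agent.Lib.Helper29.Unip

set_option autoImplicit false
universe u v
open CAlg

namespace Groth.Agent.S19856

/-- Ring-level form: let O be a discrete valuation ring and G a finite group acting faithfully on O by
ring automorphisms, such that every element of G acts trivially on the residue field of O (that is,
g • a - a lies in the maximal ideal for all a) and such that the order of G is nonzero in the
residue field of O. Then G is cyclic. (The source states this for a finite group of order invertible
in an algebraically closed field k acting faithfully on a smooth connected k-variety and the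
subgroup of elements fixing pointwise a codimension-one irreducible component of the ramification
locus, applied to the local ring at the generic point of that component; it is stated here for an
arbitrary discrete valuation ring with a faithful action. The source also shows that this subgroup
is nontrivial; that geometric part is not stated.) -/
theorem result
    (O : Type u) [CommRing O] [IsDomain O] [IsDiscreteValuationRing O]
    (G : Type v) [Group G] [Finite G] [MulSemiringAction G O] [FaithfulSMul G O]
    (htriv : ∀ (g : G) (a : O), g • a - a ∈ IsLocalRing.maximalIdeal O)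
    (hcard : ((Nat.card G : ℕ) : IsLocalRing.ResidueField O) ≠ 0) :
    IsCyclic G := by
  classical
  obtain ⟨ϖ, hϖ⟩ := IsDiscreteValuationRing.exists_irreducible O
  have hϖ0 : ϖ ≠ 0 := hϖ.ne_zero
  have hϖM : ϖ ∈ IsLocalRing.maximalIdeal O := by
    rw [hϖ.maximalIdeal_eq]; exact Ideal.mem_span_singleton_self ϖ
  have hassoc : ∀ g : G, Associated ϖ (g • ϖ) := by
    intro g
    apply IsDiscreteValuationRing.associated_of_irreducible O hϖ
    exact (MulEquiv.irreducible_iff (MulSemiringAction.toRingEquiv G O g)).2 hϖ
  obtain ⟨u, hu⟩ : ∃ u : G → Oˣ, ∀ g, ϖ * (u g : O) = g • ϖ :=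
    ⟨fun g => Classical.choose (hassoc g), fun g => Classical.choose_spec (hassoc g)⟩
  have hres_eq : ∀ (g : G) (a : O), IsLocalRing.residue O (g • a) = IsLocalRing.residue O a := by
    intro g a
    rw [← sub_eq_zero, ← map_sub, IsLocalRing.residue_eq_zero_iff]
    exact htriv g a
  have hu1 : (u 1 : O) = 1 := by
    apply mul_left_cancel₀ hϖ0
    rw [hu 1, one_smul, mul_one]
  have humul : ∀ g h : G, (u (g * h) : O) = (u g : O) * g • (u h : O) := by
    intro g h
    apply mul_left_cancel₀ hϖ0
    rw [hu (g * h), mul_smul, ← hu h, smul_mul', ← hu g, mul_assoc]
  let θ : G →* IsLocalRing.ResidueField O :=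
    { toFun := fun g => IsLocalRing.residue O (u g : O)
      map_one' := by rw [hu1, map_one]
      map_mul' := fun g h => by rw [humul g h, map_mul, hres_eq] }
  have hinj : Function.Injective θ := by
    rw [injective_iff_map_eq_one]
    intro g hθ
    have hθ' : IsLocalRing.residue O (u g : O) = 1 := hθ
    have hug : (u g : O) - 1 ∈ IsLocalRing.maximalIdeal O := by
      rw [← IsLocalRing.residue_eq_zero_iff, map_sub, hθ', map_one, sub_self]
    have hM : (⨅ j, (IsLocalRing.maximalIdeal O) ^ j) = ⊥ :=
      Ideal.iInf_pow_eq_bot_of_isLocalRing _ Ideal.IsPrime.ne_top'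
    have hnk : ((orderOf g : ℕ) : IsLocalRing.ResidueField O) ≠ 0 := by
      intro h0
      obtain ⟨c, hc⟩ := orderOf_dvd_natCard g
      apply hcard
      rw [hc, Nat.cast_mul, h0, zero_mul]
    have hunit : IsUnit ((orderOf g : ℕ) : O) := by
      rw [← IsLocalRing.notMem_maximalIdeal, ← IsLocalRing.residue_eq_zero_iff, map_natCast]
      exact hnk
    have key : ∀ a : O, MulSemiringAction.toRingHom G O g a = a := by
      intro a
      refine Groth.Agent.Helper29.Unip.eq_self_of_iterate_eq (IsLocalRing.maximalIdeal O) hM
        (MulSemiringAction.toRingHom G O g) (orderOf g) ?_ ?_ ?_ ?_ a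
      · intro j x hx
        obtain ⟨v, hv⟩ := hunit
        have : x = ((v⁻¹ : Oˣ) : O) * ((orderOf g : O) * x) := by
          rw [← hv, ← mul_assoc, Units.inv_mul, one_mul]
        rw [this]
        exact Ideal.mul_mem_left _ _ hx
      · intro b
        have : ∀ m : ℕ, (MulSemiringAction.toRingHom G O g)^[m] b = g ^ m • b := by
          intro m
          induction m with
          | zero => simp
          | succ m ih =>
            rw [Function.iterate_succ_apply', ih, pow_succ', mul_smul]
            rfl
        rw [this, pow_orderOf_eq_one, one_smul]
      · intro b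
        exact htriv g b
      · intro b hb
        rw [hϖ.maximalIdeal_eq, Ideal.mem_span_singleton] at hb
        obtain ⟨b', rfl⟩ := hb
        have e : MulSemiringAction.toRingHom G O g (ϖ * b') - ϖ * b'
            = ϖ * ((u g : O) - 1) * (g • b') + ϖ * (g • b' - b') := by
          rw [MulSemiringAction.toRingHom_apply, smul_mul', ← hu g]; ring
        rw [e, pow_two]
        refine Ideal.add_mem _ (Ideal.mul_mem_right _ _ (Ideal.mul_mem_mul hϖM hug))
          (Ideal.mul_mem_mul hϖM (htriv g b'))
    apply eq_of_smul_eq_smul (α := O)
    intro a
    rw [one_smul]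
    exact key a
  exact isCyclic_of_injective_ringHom θ hinj


end Groth.Agent.S19856
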