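import Groth.Statements.S19891
import Groth.Agent.Lib.Helper4.ValSep

set_option autoImplicit false
universe u
open CategoryTheory AlgebraicGeometry
open ValCrit

namespace Groth.Agent.S19891

/-- Let h : Z → Y and f : Y → X be morphisms of quasi-compact quasi-separated schemes, with h dominant.
Then f is separated if and only if the following refined uniqueness criterion holds: for every point
z of Z, every valuation ring R of the residue field κ(z) and every morphism φ : Spec R → X whose
restriction to Spec κ(z) is the canonical morphism Spec κ(z) → Z → Y → X, any two morphisms Spec R →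
Y lying over φ and restricting to Spec κ(z) → Z → Y on the generic point coincide. (The published
statement does not require h to be dominant; its proof uses that every point of Y generalises to a
point of h(Z), and for Z empty the criterion holds whatever f is, so dominance of h is assumed
here.) -/
theorem result {X Y Z : Scheme.{u}} (h : Z ⟶ Y) (f : Y ⟶ X)
    [CompactSpace ↥Z] [QuasiSeparatedSpace ↥Z] [CompactSpace ↥Y] [QuasiSeparatedSpace ↥Y]
    [CompactSpace ↥X] [QuasiSeparatedSpace ↥X] (hd : DenseRange h.base) :
    IsSeparated f ↔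
      ∀ (z : ↥Z) (R : ValuationSubring ↑(Z.residueField z)) (φ : Spec (CommRingCat.of ↥R) ⟶ X),
        Spec.map (CommRingCat.ofHom R.subtype) ≫ φ = Z.fromSpecResidueField z ≫ h ≫ f →
        ∀ φ₁ φ₂ : Spec (CommRingCat.of ↥R) ⟶ Y,
          Spec.map (CommRingCat.ofHom R.subtype) ≫ φ₁ = Z.fromSpecResidueField z ≫ h → φ₁ ≫ f = φ →
          Spec.map (CommRingCat.ofHom R.subtype) ≫ φ₂ = Z.fromSpecResidueField z ≫ h → φ₂ ≫ f = φ →
          φ₁ = φ₂ := by
  constructor
  · intro hsep z R φ hφ φ₁ φ₂ h₁ hf₁ h₂ hf₂
    let S : ValuativeCommSq f :=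
      { R := R, K := Z.residueField z, i₁ := Z.fromSpecResidueField z ≫ h, i₂ := φ,
        commSq := ⟨by rw [Category.assoc]; exact hφ.symm⟩ }
    have hsub : Subsingleton S.commSq.LiftStruct := IsSeparated.valuativeCriterion f S
    let l₁ : S.commSq.LiftStruct := ⟨φ₁, h₁, hf₁⟩
    let l₂ : S.commSq.LiftStruct := ⟨φ₂, h₂, hf₂⟩
    have : l₁ = l₂ := Subsingleton.elim _ _
    exact congrArg CommSq.LiftStruct.l this
  · intro H
    haveI : QuasiSeparated f := inferInstance
    haveI : QuasiCompact h := inferInstance
    apply Groth.Agent.Helper4.ValSep.isSeparated_of_valuationSubring f h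
    · intro y
      exact Groth.Agent.Helper4.SpecCl.exists_specializes_of_mem_closure_range h y
        (by rw [hd.closure_range]; trivial)
    · intro z A l₁ l₂ hl e₁ e₂
      exact H z A (l₁ ≫ f) (by rw [← Category.assoc, e₁, Category.assoc]) l₁ l₂ e₁ rfl e₂ hl.symm

end Groth.Agent.S19891
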