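import Mathlib
import Groth.Statements.S19892
import Groth.Agent.Lib.Helper19.ValEx2
import Groth.Agent.Lib.Helper4.ValSep

set_option autoImplicit false
universe u
open CategoryTheory AlgebraicGeometry
open ValCrit

namespace Groth.Agent.S19892

/-- Let h : Z → Y and f : Y → X be morphisms of quasi-compact quasi-separated schemes, with h dominant
and f locally of finite type. Then f is proper if and only if the following refined valuative
criterion holds: for every point z of Z, every valuation ring R of the residue field κ(z) and every
morphism φ : Spec R → X whose restriction to Spec κ(z) is the canonical morphism Spec κ(z) → Z → Y →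
X, there is exactly one morphism Spec R → Y lying over φ and restricting to Spec κ(z) → Z → Y on the
generic point. (The published statement does not require h to be dominant; its proof uses that every
point of Y generalises to a point of h(Z), and for Z empty the criterion holds whatever f is, so
dominance of h is assumed here.) -/
theorem result {X Y Z : Scheme.{u}} (h : Z ⟶ Y) (f : Y ⟶ X)
    [CompactSpace ↥Z] [QuasiSeparatedSpace ↥Z] [CompactSpace ↥Y] [QuasiSeparatedSpace ↥Y]
    [CompactSpace ↥X] [QuasiSeparatedSpace ↥X] (hd : DenseRange h.base)
    [LocallyOfFiniteType f] :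
    IsProper f ↔
      ∀ (z : ↥Z) (R : ValuationSubring ↑(Z.residueField z)) (φ : Spec (CommRingCat.of ↥R) ⟶ X),
        Spec.map (CommRingCat.ofHom R.subtype) ≫ φ = Z.fromSpecResidueField z ≫ h ≫ f →
        ∃! φ' : Spec (CommRingCat.of ↥R) ⟶ Y,
          Spec.map (CommRingCat.ofHom R.subtype) ≫ φ' = Z.fromSpecResidueField z ≫ h ∧ φ' ≫ f = φ := by
  constructor
  · intro hp z R φ hφ
    let S : ValuativeCommSq f :=
      { R := R, K := Z.residueField z, i₁ := Z.fromSpecResidueField z ≫ h, i₂ := φ,
        commSq := ⟨by rw [Category.assoc]; exact hφ.symm⟩ }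
    have hex : ValuativeCriterion.Existence f := by
      have : (ValuativeCriterion.Existence ⊓ @QuasiCompact) f := by
        rw [← UniversallyClosed.eq_valuativeCriterion]; infer_instance
      exact this.1
    have hsub : Subsingleton S.commSq.LiftStruct := IsSeparated.valuativeCriterion f S
    obtain ⟨⟨l⟩⟩ := hex S
    refine ⟨l.l, ⟨l.fac_left, l.fac_right⟩, ?_⟩
    rintro φ' ⟨h1, h2⟩
    exact congrArg CommSq.LiftStruct.l
      (Subsingleton.elim (⟨φ', h1, h2⟩ : S.commSq.LiftStruct) l)
  · intro H
    haveI : QuasiSeparated f := inferInstance
    haveI : QuasiCompact f := inferInstance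
    haveI : QuasiCompact h := inferInstance
    have hG : ∀ y : Y, ∃ z : Z, h.base z ⤳ y := fun y =>
      Groth.Agent.Helper4.SpecCl.exists_specializes_of_mem_closure_range h y
        (by rw [hd.closure_range]; trivial)
    haveI hsep : IsSeparated f := by
      apply Groth.Agent.Helper4.ValSep.isSeparated_of_valuationSubring f h hG
      intro z A l₁ l₂ hl e₁ e₂
      exact (H z A (l₁ ≫ f) (by rw [← Category.assoc, e₁, Category.assoc])).unique
        ⟨e₁, rfl⟩ ⟨e₂, hl.symm⟩
    have hex := Groth.Agent.Lib.Helper19.ValEx.existence f h hG H
    haveI huc : UniversallyClosed f := UniversallyClosed.of_valuativeCriterion f hex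
    exact {}

end Groth.Agent.S19892
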