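import Mathlib
import Groth.Statements.S19903
import Groth.Agent.Lib.Helper19.InertiaLib

set_option autoImplicit false
universe u
open CategoryTheory AlgebraicGeometry
open AlgSt

namespace Groth.Agent.S19903

/-- For a morphism f : 𝒳 → 𝒴 of algebraic stacks, if the relative inertia 𝓘_{𝒳/𝒴} → 𝒳 is locally
separated then the neutral section e : 𝒳 → 𝓘_{𝒳/𝒴} (the second diagonal of f) is an immersion, and
likewise if the diagonal of f is locally separated. The inertia and the diagonal are representable
by algebraic spaces and local separatedness is the property of such morphisms. (The published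
statement asserts the equivalence of the three conditions: inertia locally separated, diagonal
locally separated, neutral section an immersion; only the two implications towards the last
condition are stated here.) -/
theorem result
    (S : Scheme.{u}) (𝒳 : AlgSt.Cat S) (𝒴 : AlgSt.Cat S)
    (h𝒳 : AlgSt.IsAlgStack Scheme.fppfPrecoverage 𝒳)
    (h𝒴 : AlgSt.IsAlgStack Scheme.fppfPrecoverage 𝒴)
    (f : 𝒳 ⥤ᵇ 𝒴) :
    (AlgSt.RepByAlgSpWith AlgSp.IsLocallySeparatedMor (FibCat.inertiaToBase f) →
        AlgSt.IsImm (FibCat.inertiaNeutral f)) ∧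
      (AlgSt.RepByAlgSpWith AlgSp.IsLocallySeparatedMor (FibCat.diag f) →
        AlgSt.IsImm (FibCat.inertiaNeutral f)) := by
  have hsec : Groth.Agent.Helper19.DiagRep.SectionEqOf (S := S) AlgSp.IsLocallySeparatedMor
      (AlgSp.RepWith @IsImmersion) := by
    intro A T a s₁ s₂ hR h₁ h₂
    exact (AlgSp.RepWith @IsImmersion).of_isPullback
      (Groth.Agent.Helper19.DiagRep.isPullback_fst_diagonal a s₁ s₂ h₁ h₂) hR
  have h1 : AlgSt.RepByAlgSpWith AlgSp.IsLocallySeparatedMor (FibCat.inertiaToBase f) →
      AlgSt.IsImm (FibCat.inertiaNeutral f) := fun h =>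
    (Groth.Agent.Helper19.InertiaLib.repByAlgSpWith_neutral_iff f).2
      (Groth.Agent.Helper19.InertiaLib.repByAlgSpWith_second_diag_of_inertia f hsec h)
  refine ⟨h1, fun h2 => h1 ?_⟩
  exact (Groth.Agent.Helper19.InertiaLib.repByAlgSpWith_inertiaToBase_iff f).2
    (Groth.Agent.Helper19.StLib.repByAlgSpWith_fpFst (FibCat.diag f) (FibCat.diag f) h2)

end Groth.Agent.S19903
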