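import Groth.Statements.S19904
import Mathlib

set_option autoImplicit false
universe u v
open CategoryTheory
open ArtFun

namespace Groth.Agent.S19904

/-- For functors F, G, G' on Artinian local Λ-algebras with residue field k and morphisms φ : F → G, ψ :
G' → G: if φ is smooth then the base change F ×_G G' → G' (second projection of the fibre product of
functors) is smooth. -/
theorem result {Λ : Type u} {k : Type u} [CommRing Λ] [Field k] [Algebra Λ k]
    [IsNoetherianRing Λ] [Module.Finite Λ k]
    {F G G' : ArtFun.Art Λ k ⥤ Type v} (φ : F ⟶ G) (ψ : G' ⟶ G) (hφ : ArtFun.IsSmooth φ) :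
    ArtFun.IsSmooth (Limits.pullback.snd φ ψ) := by
  intro B A μ hμ
  have hPB : ∀ C : ArtFun.Art Λ k, IsPullback ((Limits.pullback.fst φ ψ).app C)
      ((Limits.pullback.snd φ ψ).app C) (φ.app C) (ψ.app C) := fun C =>
    (IsPullback.of_hasPullback φ ψ).map ((evaluation _ _).obj C)
  rintro ⟨⟨p, y'⟩, hpy⟩
  have hpy' : (Limits.pullback.snd φ ψ).app A p = G'.map μ y' := hpy
  have hw : φ.app A ((Limits.pullback.fst φ ψ).app A p) = G.map μ (ψ.app B y') := by
    have h1 := ConcreteCategory.congr_hom (hPB A).w p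
    rw [ConcreteCategory.comp_apply, ConcreteCategory.comp_apply] at h1
    rw [h1, hpy']
    exact NatTrans.naturality_apply ψ μ y'
  obtain ⟨z, hz⟩ := hφ μ hμ ⟨((Limits.pullback.fst φ ψ).app A p, ψ.app B y'), hw⟩
  have hz1 : F.map μ z = (Limits.pullback.fst φ ψ).app A p := congrArg (fun t => t.1.1) hz
  have hz2 : φ.app B z = ψ.app B y' := congrArg (fun t => t.1.2) hz
  obtain ⟨q, hq1, hq2⟩ := Limits.Types.exists_of_isPullback (hPB B) z y' hz2
  refine ⟨q, Subtype.ext (Prod.ext ?_ ?_)⟩
  · change (Limits.pullback φ ψ).map μ q = p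
    apply Limits.Types.ext_of_isPullback (hPB A)
    · rw [NatTrans.naturality_apply, hq1, hz1]
    · rw [NatTrans.naturality_apply, hq2]; exact hpy'.symm
  · exact hq2


end Groth.Agent.S19904
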