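import Groth.Statements.S19917
import Mathlib
import Groth.Agent.Lib.Helper22.InerKum

set_option autoImplicit false
universe u
open CategoryTheory CategoryTheory.Limits AlgebraicGeometry MonObj
open SGA7

namespace Groth.Agent.S19917

/-- Let R be a discrete valuation ring with fraction field K and residue field k, Ω a separable closure
of K and W a valuation subring of Ω lying over R. Assume that every K-automorphism of Ω belongs to
the inertia group at W, i.e. K coincides with its maximal extension inside Ω at which the
restriction of W is unramified over R. Let r ≥ 1 be an integer whose image in k is non-zero. Then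
there is exactly one intermediate field L of Ω over K with [L : K] = r and L Galois over K; moreover
every such L is totally (and tamely) ramified over R: every maximal ideal of the integral closure of
R in L has ramification index r over R. -/
theorem result (R K Ω : Type u) [CommRing R] [IsDomain R]
    [IsDiscreteValuationRing R] [Field K] [Algebra R K] [IsFractionRing R K] [Field Ω] [Algebra K Ω]
    [IsSepClosure K Ω] [Algebra R Ω] [IsScalarTower R K Ω]
    (W : ValuationSubring Ω) (hW : SGA7.LiesOver K R W)
    (hI : ∀ σ : Ω ≃ₐ[K] Ω, SGA7.IsInertia W σ)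
    (r : ℕ) (hr : 0 < r) (hrk : (r : IsLocalRing.ResidueField R) ≠ 0) :
    (∃! L : IntermediateField K Ω, Module.finrank K L = r ∧ IsGalois K L) ∧
      ∀ L : IntermediateField K Ω, Module.finrank K L = r → IsGalois K L →
        ∀ P : Ideal (integralClosure R L), P.IsMaximal → P.ramificationIdx R = r := by
  classical
  have hvr := Groth.Agent.Helper22.InerKum.val_natCast W hW r hrk
  obtain ⟨ϖ, hϖ⟩ := IsDiscreteValuationRing.exists_irreducible R
  haveI : IsSepClosed Ω := IsSepClosure.sep_closed K
  have hr0 : ((r : ℕ) : Ω) ≠ 0 := by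
    intro h0; rw [h0, map_zero] at hvr; exact zero_ne_one hvr
  haveI : NeZero ((r : ℕ) : Ω) := ⟨hr0⟩
  obtain ⟨t, ht⟩ := IsSepClosed.exists_pow_nat_eq (algebraMap R Ω ϖ) r
  obtain ⟨hfin, hgal⟩ := Groth.Agent.Helper22.InerKum.exists_galois W hW hI r hr hvr ϖ hϖ t ht
  have hdata : ∀ M : IntermediateField K Ω, Module.finrank K M = r → IsGalois K M →
      (∀ P : Ideal (integralClosure R M), P.IsMaximal → P.ramificationIdx R = r) ∧
      (∀ ϖ : R, Irreducible ϖ → ∃ θ u : Ω, θ ∈ M ∧ u ∈ M ∧ W.valuation u = 1 ∧
        algebraMap R Ω ϖ = u * θ ^ r) := by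
    intro M hM hMgal
    haveI := hMgal
    haveI : FiniteDimensional K M := Module.finite_of_finrank_pos (by rw [hM]; exact hr)
    exact Groth.Agent.Helper22.InerKum.galois_data W hW hI r hrk M hM
  refine ⟨⟨IntermediateField.adjoin K {t}, ⟨hfin, hgal⟩, ?_⟩, ?_⟩
  · rintro M ⟨hM, hMgal⟩
    obtain ⟨_, h2⟩ := hdata M hM hMgal
    obtain ⟨θ, u, hθ, hu, hu1, hθu⟩ := h2 ϖ hϖ
    exact Groth.Agent.Helper22.InerKum.eq_adjoin W hW hI r hr hvr ϖ hϖ t ht M hM θ u hθ hu hu1 hθu
  · intro M hM hMgal P hP
    exact (hdata M hM hMgal).1 P hP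

end Groth.Agent.S19917
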