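import Groth.Statements.S1996
import Groth.Agent.Lib.Helper3.Flat

set_option autoImplicit false
universe u
open EtAlg

namespace Groth.Agent.S1996

open TensorProduct in
/-- Let A -> B -> C be ring maps with B -> C faithfully flat. Weak etaleness of A -> C then implies weak
etaleness of A -> B. -/
theorem result (A B C : Type u) [CommRing A] [CommRing B] [CommRing C] [Algebra A B]
    [Algebra B C] [Algebra A C] [IsScalarTower A B C] [Module.FaithfullyFlat B C] [Algebra.WeaklyEtale A C] :
    Algebra.WeaklyEtale A B := by
  have hAB : Module.Flat A B := Groth.Agent.Helper3.flat_of_flat_of_faithfullyFlat A B C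
  refine ⟨hAB, ?_⟩
  -- the map B ⊗ B → C ⊗ C
  let φ : B ⊗[A] B →ₐ[A] C ⊗[A] C :=
    Algebra.TensorProduct.map (IsScalarTower.toAlgHom A B C) (IsScalarTower.toAlgHom A B C)
  have hφ : φ.Flat := by
    apply RingHom.Flat.tensorProductMap
    · change (algebraMap B C).Flat
      rw [RingHom.flat_algebraMap_iff]; infer_instance
    · change (algebraMap B C).Flat
      rw [RingHom.flat_algebraMap_iff]; infer_instance
  have hC : (Algebra.TensorProduct.lmul' A (S := C)).Flat := Algebra.WeaklyEtale.flat_lmul' A C
  have hcomp : ((Algebra.TensorProduct.lmul' A (S := C)).comp φ).Flat := RingHom.Flat.comp hφ hC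
  have heq : ((Algebra.TensorProduct.lmul' A (S := C)).comp φ : B ⊗[A] B →+* C) =
      (algebraMap B C).comp (Algebra.TensorProduct.lmul' A (S := B) : B ⊗[A] B →+* B) := by
    have : (Algebra.TensorProduct.lmul' A (S := C)).comp φ =
        (IsScalarTower.toAlgHom A B C).comp (Algebra.TensorProduct.lmul' A (S := B)) := by
      ext <;> simp [φ]
    exact congrArg (fun t : B ⊗[A] B →ₐ[A] C => (t : B ⊗[A] B →+* C)) this
  apply Groth.Agent.Helper3.ringHom_flat_of_comp_of_faithfullyFlat _ (algebraMap B C)
  · rw [RingHom.faithfullyFlat_algebraMap_iff]; infer_instance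
  · exact heq ▸ hcomp

end Groth.Agent.S1996
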