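import Groth.Statements.S19969
import Groth.Agent.Lib.Helper18.FixedLoc3

set_option autoImplicit false
universe u
open CategoryTheory MonoidalCategory CartesianMonoidalCategory AlgebraicGeometry
open AlgGrp

namespace Groth.Agent.S19969

/-- Let k be a field, X and Y arbitrary k-schemes and a : Y ×_k X → X a k-morphism such that every open
subscheme U of X is stable under a, in the sense that the preimage of U under the projection Y ×_k X
→ X is contained in the preimage of U under a. Consider the subfunctor X^a of X whose T-valued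
points, for a k-scheme T, are the k-morphisms x : T → X with a ∘ (id_Y × x) = x ∘ pr_T as morphisms
Y ×_k T → X. Then X^a is represented by a closed subscheme of X: there is a closed immersion j : Z →
X over k lying in X^a(Z) through which every element of X^a(T) factors. Neither separatedness of X
nor any finiteness condition on X or Y is assumed. -/
theorem result (k : Type u) [Field k]
    (X Y : Over (Spec (CommRingCat.of k))) (a : Y ⊗ X ⟶ X)
    (hstab : ∀ U : X.left.Opens, (CartesianMonoidalCategory.snd Y X).left ⁻¹ᵁ U ≤ a.left ⁻¹ᵁ U) :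
    ∃ (Z : Over (Spec (CommRingCat.of k))) (j : Z ⟶ X), IsClosedImmersion j.left ∧
      (Y ◁ j) ≫ a = CartesianMonoidalCategory.snd Y Z ≫ j ∧
      ∀ (T : Over (Spec (CommRingCat.of k))) (x : T ⟶ X),
        (Y ◁ x) ≫ a = CartesianMonoidalCategory.snd Y T ≫ x → ∃ z : T ⟶ Z, z ≫ j = x := by
  apply Groth.Agent.Helper18.FixedLoc.closed_of_HypI a
  intro B _ _ ι A _ _ u _
  apply Groth.Agent.Helper18.FixedLoc.hI_stable ((ι ▷ X) ≫ a) u
  rintro _ ⟨p, rfl⟩
  let p' : (Y ⊗ X).left := ((Groth.Agent.Helper18.FixedLoc.TT k B ◁ u) ≫ (ι ▷ X)).left.base p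
  have h1 : (CartesianMonoidalCategory.snd Y X).left.base p' ∈ Set.range u.left.base := by
    refine ⟨(CartesianMonoidalCategory.snd (Groth.Agent.Helper18.FixedLoc.TT k B)
      (Groth.Agent.Helper18.FixedLoc.TT k A)).left.base p, ?_⟩
    have e : (CartesianMonoidalCategory.snd (Groth.Agent.Helper18.FixedLoc.TT k B)
        (Groth.Agent.Helper18.FixedLoc.TT k A)) ≫ u =
        ((Groth.Agent.Helper18.FixedLoc.TT k B ◁ u) ≫ (ι ▷ X)) ≫
          CartesianMonoidalCategory.snd Y X := by
      rw [Category.assoc, whiskerRight_snd, whiskerLeft_snd]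
    have e' := congrArg (fun f => f.left.base p) e
    exact e'
  have h2 := hstab u.left.opensRange (show p' ∈ (CartesianMonoidalCategory.snd Y X).left ⁻¹ᵁ
    u.left.opensRange from h1)
  have h3 : a.left.base p' ∈ Set.range u.left.base := h2
  have e2 : ((Groth.Agent.Helper18.FixedLoc.TT k B ◁ u) ≫ (ι ▷ X) ≫ a).left.base p =
      a.left.base p' := by
    simp [p']
  rw [e2]
  exact h3

end Groth.Agent.S19969
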