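import Groth.Statements.S1997
import Mathlib

set_option autoImplicit false
universe u
open CategoryTheory
open EtAlg

namespace Groth.Agent.S1997

open TensorProduct in
theorem flat_of_le_flat {A : Type u} [CommRing A] (hA : ∀ I : Ideal A, Module.Flat A I)
    {N : Type u} [AddCommGroup N] [Module A N] [Module.Flat A N] (N' : Submodule A N) :
    Module.Flat A N' := by
  rw [Module.Flat.iff_rTensor_injective']
  intro I
  have := hA I
  have h1 : Function.Injective (LinearMap.lTensor I N'.subtype) :=
    Module.Flat.lTensor_preserves_injective_linearMap _ N'.injective_subtype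
  have h2 : Function.Injective (LinearMap.rTensor N I.subtype) :=
    Module.Flat.rTensor_preserves_injective_linearMap _ I.injective_subtype
  have h3 : (LinearMap.lTensor A N'.subtype).comp (LinearMap.rTensor N' I.subtype) =
      (LinearMap.rTensor N I.subtype).comp (LinearMap.lTensor I N'.subtype) := by
    ext; simp
  refine Function.Injective.of_comp (f := LinearMap.lTensor A N'.subtype) ?_
  rw [← LinearMap.coe_comp, h3]
  exact h2.comp h1

/-- Let A be a ring all of whose ideals are flat (weak dimension at most one) and A -> B a flat,
injective ring map which is an epimorphism in the category of commutative rings. Then A is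
integrally closed in B. -/
theorem result (A B : Type u) [CommRing A] [CommRing B] [Algebra A B]
    (hA : ∀ I : Ideal A, Module.Flat A I) [Module.Flat A B] (hinj : Function.Injective (algebraMap A B))
    (hepi : Epi (CommRingCat.ofHom (algebraMap A B))) : IsIntegrallyClosedIn A B := by
  rw [isIntegrallyClosedIn_iff]
  refine ⟨hinj, fun {x} hx => ?_⟩
  have hepi' : Algebra.IsEpi A B := CommRingCat.epi_iff_epi.mp hepi
  let A' : Subalgebra A B := Algebra.adjoin A {x}
  have hfin : Module.Finite A A' := Algebra.finite_adjoin_simple_of_isIntegral hx
  have hflat : Module.Flat A A' := flat_of_le_flat hA (Subalgebra.toSubmodule A')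
  have hepiA' : Algebra.IsEpi A A' := by
    rw [Algebra.isEpi_iff_forall_one_tmul_eq]
    intro a
    let ι : A' →ₗ[A] B := A'.val.toLinearMap
    have hι : Function.Injective ι := Subtype.val_injective
    have hinj2 : Function.Injective (TensorProduct.map ι ι) := by
      rw [← LinearMap.lTensor_comp_rTensor]
      exact (Module.Flat.lTensor_preserves_injective_linearMap ι hι).comp
        (Module.Flat.rTensor_preserves_injective_linearMap ι hι)
    apply hinj2
    simp only [TensorProduct.map_tmul]
    exact (Algebra.isEpi_iff_forall_one_tmul_eq A B).mp hepi' a
  have hsurj := Algebra.isEpi_iff_surjective_algebraMap_of_finite.mp hepiA'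
  obtain ⟨y, hy⟩ := hsurj ⟨x, Algebra.subset_adjoin (Set.mem_singleton x)⟩
  exact ⟨y, by simpa using congrArg Subtype.val hy⟩

end Groth.Agent.S1997
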