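import Groth.Statements.S19975
import Mathlib
import Groth.Agent.Lib.Helper10.MTors

set_option autoImplicit false
universe u
open CategoryTheory Opposite AlgebraicGeometry
open EtCoh

namespace Groth.Agent.S19975

section helpers

open CategoryTheory.Limits

attribute [-instance] Groth.Agent.Helper13.DeltaFColim.forgetPres

open Groth.Agent.Helper10.MTors

section abstract

open CategoryTheory.Abelian

variable {C : Type*} [Category C] [Abelian C] [HasExt C]

/-- every class in every `Ext Z K n` is killed by an integer in `P` -/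
def ExtTors (P : ℤ → Prop) (Z K : C) : Prop :=
  ∀ (n : ℕ) (ξ : Ext Z K n), ∃ m : ℤ, P m ∧ m • ξ = 0

lemma ker_comp_factor {F G : C} (φ : F ⟶ G) : kernel.ι φ ≫ Abelian.factorThruImage φ = 0 := by
  rw [← cancel_mono (Abelian.image.ι φ), Category.assoc, Abelian.image.fac, kernel.condition,
    zero_comp]

lemma factor_zero {F G W : C} (φ : F ⟶ G) (g : W ⟶ F) (hg : g ≫ Abelian.factorThruImage φ = 0) :
    g ≫ φ = 0 := by
  have : g ≫ Abelian.factorThruImage φ ≫ Abelian.image.ι φ = 0 := by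
    rw [← Category.assoc, hg, zero_comp]
  rwa [Abelian.image.fac] at this

noncomputable def isKer {F G : C} (φ : F ⟶ G) :
    IsLimit (KernelFork.ofι (kernel.ι φ) (ker_comp_factor φ)) :=
  KernelFork.IsLimit.ofι _ _ (fun {W} g hg => kernel.lift φ g (factor_zero φ g hg))
    (fun {W} g hg => kernel.lift_ι _ _ _)
    (fun {W} g hg b hb => by
      rw [← cancel_mono (kernel.ι φ), hb]
      exact (kernel.lift_ι _ _ _).symm)

/-- the short complex `ker φ → F → im φ` -/
noncomputable def S₁ {F G : C} (φ : F ⟶ G) : ShortComplex C :=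
  ShortComplex.mk (kernel.ι φ) (Abelian.factorThruImage φ) (ker_comp_factor φ)

lemma S₁_shortExact {F G : C} (φ : F ⟶ G) : (S₁ φ).ShortExact := by
  have hex : (S₁ φ).Exact := ShortComplex.exact_of_f_is_kernel _ (isKer φ)
  have : Mono (S₁ φ).f := by dsimp [S₁]; infer_instance
  have : Epi (S₁ φ).g := by dsimp [S₁]; infer_instance
  exact ShortComplex.ShortExact.mk hex

/-- the short complex `im φ → G → coker φ` -/
noncomputable def S₂ {F G : C} (φ : F ⟶ G) : ShortComplex C :=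
  ShortComplex.mk (Abelian.image.ι φ) (cokernel.π φ) (kernel.condition _)

lemma S₂_shortExact {F G : C} (φ : F ⟶ G) : (S₂ φ).ShortExact := by
  have hex : (S₂ φ).Exact := by
    apply ShortComplex.exact_of_f_is_kernel
    exact kernelIsKernel (cokernel.π φ)
  have : Mono (S₂ φ).f := by dsimp [S₂]; infer_instance
  have : Epi (S₂ φ).g := by dsimp [S₂]; infer_instance
  exact ShortComplex.ShortExact.mk hex

lemma zsmul_comp {A B D : C} {a b c : ℕ} (m : ℤ) (x : Abelian.Ext A B a) (y : Abelian.Ext B D b)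
    (h : a + b = c) : (m • x).comp y h = m • x.comp y h :=
  map_zsmul (y.postcomp A h) m x

lemma zsmul_comp_eq_zero {A B D : C} {a b c : ℕ} (m : ℤ) (x : Abelian.Ext A B a)
    (y : Abelian.Ext B D b) (h : a + b = c) (hk : m • x = 0) : m • x.comp y h = 0 := by
  rw [← zsmul_comp, hk, Abelian.Ext.zero_comp]

lemma comp_fac {F G : C} (φ : F ⟶ G) (Z : C) {n : ℕ} (x : Abelian.Ext Z F n) :
    (x.comp (Abelian.Ext.mk₀ (Abelian.factorThruImage φ)) (add_zero n)).comp
      (Abelian.Ext.mk₀ (Abelian.image.ι φ)) (add_zero n) =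
    x.comp (Abelian.Ext.mk₀ φ) (add_zero n) := by
  rw [Abelian.Ext.comp_assoc_of_third_deg_zero, Abelian.Ext.mk₀_comp_mk₀, Abelian.image.fac]

lemma ker_tors (P : ℤ → Prop) (hmul : ∀ a b, P a → P b → P (a * b)) (Z : C) {F G : C}
    (φ : F ⟶ G) (hK : ExtTors P Z (kernel φ)) (hC : ExtTors P Z (cokernel φ)) (n : ℕ)
    (x : Abelian.Ext Z F n) (hx : x.comp (Abelian.Ext.mk₀ φ) (add_zero n) = 0) :
    ∃ m : ℤ, P m ∧ m • x = 0 := by
  have hx' := (comp_fac φ Z x).trans hx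
  -- step 1
  have h1 : ∃ m₁ : ℤ, P m₁ ∧
      (m₁ • x).comp (Abelian.Ext.mk₀ (Abelian.factorThruImage φ)) (add_zero n) = 0 := by
    cases n with
    | zero =>
      obtain ⟨m₁, hm₁, -⟩ := hK 0 0
      refine ⟨m₁, hm₁, ?_⟩
      rw [zsmul_comp]
      have hinj := Abelian.Ext.postcomp_mk₀_injective_of_mono Z (Abelian.image.ι φ)
      have : x.comp (Abelian.Ext.mk₀ (Abelian.factorThruImage φ)) (add_zero 0) = 0 :=
        hinj (hx'.trans (map_zero _).symm)
      rw [this, smul_zero]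
    | succ n₀ =>
      obtain ⟨c, hc⟩ := Abelian.Ext.covariant_sequence_exact₁ Z (S₂_shortExact φ)
        (x.comp (Abelian.Ext.mk₀ (Abelian.factorThruImage φ)) (add_zero _)) hx' (rfl : n₀ + 1 = _)
      obtain ⟨m₁, hm₁, hk⟩ := hC n₀ c
      refine ⟨m₁, hm₁, ?_⟩
      rw [zsmul_comp, ← hc]
      exact zsmul_comp_eq_zero m₁ c _ _ hk
  obtain ⟨m₁, hm₁, h1⟩ := h1
  obtain ⟨y, hy⟩ := Abelian.Ext.covariant_sequence_exact₂ Z (S₁_shortExact φ) (m₁ • x) h1
  obtain ⟨m₂, hm₂, hk⟩ := hK n y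
  refine ⟨m₂ * m₁, hmul _ _ hm₂ hm₁, ?_⟩
  rw [mul_smul, ← hy]
  exact zsmul_comp_eq_zero m₂ y _ _ hk

lemma coker_tors (P : ℤ → Prop) (hmul : ∀ a b, P a → P b → P (a * b)) (Z : C) {F G : C}
    (φ : F ⟶ G) (hK : ExtTors P Z (kernel φ)) (hC : ExtTors P Z (cokernel φ)) (n : ℕ)
    (y : Abelian.Ext Z G n) :
    ∃ m : ℤ, P m ∧ ∃ x : Abelian.Ext Z F n, x.comp (Abelian.Ext.mk₀ φ) (add_zero n) = m • y := by
  obtain ⟨m₁, hm₁, hk₁⟩ := hC n (y.comp (Abelian.Ext.mk₀ (cokernel.π φ)) (add_zero n))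
  have hk₁' : (m₁ • y).comp (Abelian.Ext.mk₀ (cokernel.π φ)) (add_zero n) = 0 :=
    (zsmul_comp _ _ _ _).trans hk₁
  obtain ⟨z, hz⟩ := Abelian.Ext.covariant_sequence_exact₂ Z (S₂_shortExact φ) (m₁ • y) hk₁'
  let z' : Abelian.Ext Z (S₁ φ).X₃ n := z
  obtain ⟨m₂, hm₂, hk₂⟩ := hK (n + 1) (z'.comp (S₁_shortExact φ).extClass rfl)
  have hk₂' : (m₂ • z').comp (S₁_shortExact φ).extClass rfl = 0 :=
    (zsmul_comp _ _ _ _).trans hk₂
  obtain ⟨x, hx⟩ := Abelian.Ext.covariant_sequence_exact₃ Z (S₁_shortExact φ) (m₂ • z') rfl hk₂'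
  refine ⟨m₂ * m₁, hmul _ _ hm₂ hm₁, x, ?_⟩
  have e1 : (x.comp (Abelian.Ext.mk₀ (Abelian.factorThruImage φ)) (add_zero n)).comp
      (Abelian.Ext.mk₀ (Abelian.image.ι φ)) (add_zero n) =
      (m₂ • z').comp (Abelian.Ext.mk₀ (Abelian.image.ι φ)) (add_zero n) :=
    congrArg (fun t => Abelian.Ext.comp t (Abelian.Ext.mk₀ (Abelian.image.ι φ)) (add_zero n)) hx
  rw [← comp_fac]
  exact e1.trans ((zsmul_comp _ _ _ _).trans
    ((congrArg (fun t => m₂ • t) hz).trans (mul_smul _ _ _).symm))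

end abstract

section sheaves

variable {X : Scheme.{u}}

lemma exists_affine_nbhd (U : X.Etale) (x : U.left) :
    ∃ (V : X.Etale) (g : V ⟶ U), IsAffine V.left ∧ ∃ v : V.left, g.left.base v = x := by
  obtain ⟨O, hO, hxO, -⟩ := TopologicalSpace.Opens.isBasis_iff_nbhd.mp
    (Scheme.isBasis_affineOpens U.left) (TopologicalSpace.Opens.mem_top x)
  let O' : (U.left : Scheme.{u}).Opens := O
  let Z : X.Etale := Scheme.Etale.mk (O'.ι ≫ U.hom)
  let k : Z ⟶ U := MorphismProperty.Over.homMk O'.ι rfl trivial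
  have hA : IsAffine Z.left := hO
  exact ⟨Z, k, hA, ⟨⟨x, hxO⟩, rfl⟩⟩

/-- every section is locally killed by a member of `S` -/
def IsSTors (S : Submonoid ℤ) (K : EtCoh.Ab X) : Prop :=
  ∀ (U : X.Etale) (t : K.obj.obj (op U)) (x : U.left), ∃ (V : X.Etale) (g : V ⟶ U) (c : ℤ),
    (∃ v : V.left, g.left.base v = x) ∧ c ∈ S ∧ c • K.obj.map g.op t = 0

/-- absolute values of the members of `S`, when `0 ∉ S` -/
def MS (S : Submonoid ℤ) (h0 : (0 : ℤ) ∉ S) : MulSet where
  S := {m | ∃ s ∈ S, s.natAbs = m}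
  one_mem := ⟨1, S.one_mem, rfl⟩
  mul_mem := by
    rintro a ⟨s, hs, ha⟩ b ⟨t, ht, hb⟩
    exact ⟨s * t, S.mul_mem hs ht, by rw [Int.natAbs_mul, ha, hb]⟩
  pos := by
    rintro a ⟨s, hs, ha⟩
    subst ha
    exact Int.natAbs_pos.2 (fun h => h0 (h ▸ hs))

lemma natAbs_nsmul_eq_zero {A : Type*} [AddCommGroup A] (c : ℤ) (a : A) (h : c • a = 0) :
    c.natAbs • a = 0 := by
  rcases Int.natAbs_eq c with h' | h'
  · rw [h', natCast_zsmul] at h
    exact h
  · rw [h', neg_smul, natCast_zsmul, neg_eq_zero] at h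
    exact h

lemma zsmul_eq_zero_of_natAbs {A : Type*} [AddCommGroup A] (c : ℤ) (a : A)
    (h : c.natAbs • a = 0) : c • a = 0 := by
  rcases Int.natAbs_eq c with h' | h'
  · rw [h', natCast_zsmul]
    exact h
  · rw [h', neg_smul, natCast_zsmul, h, neg_zero]

lemma isMTorsion_of_isSTors (S : Submonoid ℤ) (h0 : (0 : ℤ) ∉ S) (K : EtCoh.Ab X)
    (hK : IsSTors S K) : IsMTorsion (MS S h0) K := by
  intro U t x
  obtain ⟨V, g, c, hv, hc, hk⟩ := hK U t x
  exact ⟨V, g, c.natAbs, hv, ⟨c, hc, rfl⟩, natAbs_nsmul_eq_zero c _ hk⟩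

theorem exists_nsmul_eq_zero_HF [CompactSpace X] [QuasiSeparatedSpace X] (M : MulSet) (n : ℕ)
    (F : EtCoh.Ab X) (hF : IsMTorsion M F) (ξ : (EtCoh.HF X n).obj F) :
    ∃ m ∈ M.S, m • ξ = 0 := by
  have hpres : PreservesColimitsOfShape (Idx M) (EtCoh.HF X n) := by
    have hI : IsFiltered (AsSmall.{u} (Idx M)) :=
      IsFiltered.of_equivalence (AsSmall.equiv (C := Idx M))
    have := Groth.Agent.S0099.result X n (AsSmall.{u} (Idx M))
    exact preservesColimitsOfShape_of_equiv (AsSmall.equiv (C := Idx M)).symm _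
  let c := (EtCoh.HF X n).mapCocone (colimit.cocone (D M F))
  have hc : IsColimit c := isColimitOfPreserves _ (colimit.isColimit _)
  let one : Idx M := ⟨1, M.one_mem⟩
  have hz : c.ι.app one ξ = 0 := by
    have : IsZero c.pt := (EtCoh.HF X n).map_isZero (isZero_colimit M F hF)
    exact (AddCommGrpCat.subsingleton_of_isZero this).elim _ _
  obtain ⟨b, g, hk⟩ :=
    Groth.Agent.Helper13.DeltaFColim.eq_zero_of_rep (D M F ⋙ EtCoh.HF X n) hc ξ hz
  refine ⟨b.1, b.2, ?_⟩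
  have hD : (D M F).map g = b.1 • 𝟙 F := by
    change (b.1 / 1) • 𝟙 F = b.1 • 𝟙 F
    rw [Nat.div_one]
  have h0 : (EtCoh.HF X n).map (b.1 • 𝟙 F) = b.1 • 𝟙 ((EtCoh.HF X n).obj F) := by
    rw [Functor.map_nsmul, CategoryTheory.Functor.map_id]
  have h1 : (EtCoh.HF X n).map ((D M F).map g) = b.1 • 𝟙 ((EtCoh.HF X n).obj F) :=
    (congrArg (fun φ => (EtCoh.HF X n).map φ) hD).trans h0
  have h2 := ConcreteCategory.congr_hom h1 ξ
  exact h2.symm.trans hk

theorem exists_zsmul_eq_zero_HF [CompactSpace X] [QuasiSeparatedSpace X] (S : Submonoid ℤ)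
    (n : ℕ) (K : EtCoh.Ab X) (hK : IsSTors S K) (ξ : (EtCoh.HF X n).obj K) :
    ∃ m : ℤ, m ∈ S ∧ m • ξ = 0 := by
  by_cases h0 : (0 : ℤ) ∈ S
  · exact ⟨0, h0, zero_smul _ _⟩
  · obtain ⟨m, ⟨s, hs, rfl⟩, hm⟩ :=
      exists_nsmul_eq_zero_HF (MS S h0) n K (isMTorsion_of_isSTors S h0 K hK) ξ
    exact ⟨s, hs, zsmul_eq_zero_of_natAbs s ξ hm⟩

lemma app_zsmul_comp {F P : EtCoh.Ab X} (N : ℤ) (ψ : F ⟶ P) (V : X.Etale)
    (x : F.obj.obj (op V)) :
    ((N • 𝟙 F) ≫ ψ).hom.app (op V) x = ψ.hom.app (op V) (N • x) := by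
  rw [Preadditive.zsmul_comp, Category.id_comp]
  let ev : (F ⟶ P) →+ P.obj.obj (op V) :=
    AddMonoidHom.mk' (fun φ => φ.hom.app (op V) x) (fun a b => rfl)
  have h1 : (N • ψ).hom.app (op V) x = N • ψ.hom.app (op V) x := map_zsmul ev N ψ
  rw [h1, map_zsmul]

lemma app_comp_zsmul {F P : EtCoh.Ab X} (N : ℤ) (ψ : F ⟶ P) (V : X.Etale)
    (x : F.obj.obj (op V)) :
    (ψ ≫ (N • 𝟙 P)).hom.app (op V) x = N • ψ.hom.app (op V) x := by
  rw [Preadditive.comp_zsmul, Category.comp_id]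
  let ev : (F ⟶ P) →+ P.obj.obj (op V) :=
    AddMonoidHom.mk' (fun φ => φ.hom.app (op V) x) (fun a b => rfl)
  exact map_zsmul ev N ψ

lemma injective_app_of_mono {K F : EtCoh.Ab X} (ι : K ⟶ F) [Mono ι] (V : X.Etale) :
    Function.Injective (ι.hom.app (op V)) := by
  have h1 : Mono ι.hom := (Sheaf.Hom.mono_iff_presheaf_mono _ _ ι).1 inferInstance
  have h2 : Mono (ι.hom.app (op V)) := (NatTrans.mono_iff_mono_app ι.hom).1 h1 (op V)
  exact (AddCommGrpCat.mono_iff_injective _).1 h2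

variable (S : Submonoid ℤ) {F G : EtCoh.Ab X} (φ : F ⟶ G)
  (hφ : ∀ U : X.Etale, IsAffine U.left →
      IsLocalizedModule S (φ.hom.app (op U)).hom.toIntLinearMap)

include hφ

lemma isSTors_kernel : IsSTors S (kernel φ) := by
  intro U t x
  obtain ⟨V, g, hV, hv⟩ := exists_affine_nbhd U x
  have hloc := hφ V hV
  let t' := (kernel φ).obj.map g.op t
  have h0 : φ.hom.app (op V) ((kernel.ι φ).hom.app (op V) t') = 0 := by
    have h1 : (kernel.ι φ ≫ φ).hom.app (op V) t' = 0 := by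
      rw [kernel.condition]
      rfl
    exact h1
  obtain ⟨c, hc⟩ := hloc.exists_of_eq (x₁ := (kernel.ι φ).hom.app (op V) t') (x₂ := 0)
    (h0.trans (map_zero _).symm)
  refine ⟨V, g, c.1, hv, c.2, ?_⟩
  apply injective_app_of_mono (kernel.ι φ) V
  rw [map_zsmul, map_zero]
  have : c • (0 : F.obj.obj (op V)) = 0 := smul_zero _
  exact hc.trans this

lemma isSTors_cokernel : IsSTors S (cokernel φ) := by
  intro U t x
  have hls : Sheaf.IsLocallySurjective (cokernel.π φ) :=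
    (Sheaf.isLocallySurjective_iff_epi' _ _).2 inferInstance
  have himg := Presheaf.imageSieve_mem X.smallEtaleTopology (cokernel.π φ).hom t
  rw [Groth.Agent.Helper10.EtLoc.mem_iff] at himg
  obtain ⟨V, g, v, ⟨a, ha⟩, hv⟩ := himg x
  obtain ⟨V', g', hV', v', hv'⟩ := exists_affine_nbhd V v
  let a' := G.obj.map g'.op a
  obtain ⟨⟨f₀, c⟩, hc⟩ := (hφ V' hV').surj a'
  refine ⟨V', g' ≫ g, c.1, ⟨v', ?_⟩, c.2, ?_⟩
  · rw [← hv, ← hv']
    rfl
  · have e1 : (cokernel φ).obj.map (g' ≫ g).op t =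
        (cokernel.π φ).hom.app (op V') a' := by
      rw [op_comp, (cokernel φ).obj.map_comp, ConcreteCategory.comp_apply, ← ha]
      have hnat := ConcreteCategory.congr_hom ((cokernel.π φ).hom.naturality g'.op) a
      rw [ConcreteCategory.comp_apply, ConcreteCategory.comp_apply] at hnat
      exact hnat.symm
    rw [e1, ← map_zsmul]
    have e2 : (c.1 : ℤ) • a' = φ.hom.app (op V') f₀ := hc
    rw [e2]
    have h1 : (φ ≫ cokernel.π φ).hom.app (op V') f₀ = 0 := by
      rw [cokernel.condition]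
      rfl
    exact h1

lemma isIso_zsmul (s : ℤ) (hs : s ∈ S) : IsIso (s • 𝟙 G) := by
  have hbij : ∀ V : X.Etale, IsAffine V.left →
      Function.Bijective (fun y : G.obj.obj (op V) => s • y) := by
    intro V hV
    have hu := (hφ V hV).map_units ⟨s, hs⟩
    exact (Module.End.isUnit_iff _).1 hu
  have hm : Mono (s • 𝟙 G) := by
    apply Preadditive.mono_of_cancel_zero
    intro P g hg
    apply Groth.Agent.S0124.hom_eq_zero_of_locally
    intro U t x
    obtain ⟨V, k, hV, hv⟩ := exists_affine_nbhd U x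
    refine ⟨V, k, hv, ?_⟩
    apply (hbij V hV).1
    change s • g.hom.app (op V) (P.obj.map k.op t) = s • 0
    rw [smul_zero, ← app_comp_zsmul, hg]
    rfl
  have he : Epi (s • 𝟙 G) := by
    apply Preadditive.epi_of_cancel_zero
    intro P g hg
    apply Groth.Agent.S0124.hom_eq_zero_of_locally
    intro U t x
    obtain ⟨V, k, hV, hv⟩ := exists_affine_nbhd U x
    refine ⟨V, k, hv, ?_⟩
    obtain ⟨t', ht'⟩ := (hbij V hV).2 (G.obj.map k.op t)
    rw [← ht']
    change g.hom.app (op V) (s • t') = 0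
    rw [← app_zsmul_comp, hg]
    rfl
  exact isIso_of_mono_of_epi _

end sheaves


/-- the constant sheaf `ℤ` -/
noncomputable abbrev ZZ (X : Scheme.{u}) : EtCoh.Ab X :=
  (constantSheaf X.smallEtaleTopology AddCommGrpCat.{u+1}).obj (AddCommGrpCat.of (ULift ℤ))

theorem main (X : Scheme.{u})
    [CompactSpace X] [QuasiSeparatedSpace X] (S : Submonoid ℤ)
    (F G : EtCoh.Ab X) (φ : F ⟶ G)
    (hφ : ∀ U : X.Etale, IsAffine U.left →
      IsLocalizedModule S (φ.hom.app (op U)).hom.toIntLinearMap)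
    (i : ℕ) : IsLocalizedModule S ((EtCoh.HF X i).map φ).hom.toIntLinearMap := by
  have hK : ExtTors (· ∈ S) (ZZ X) (kernel φ) := fun n ξ =>
    exists_zsmul_eq_zero_HF S n _ (isSTors_kernel S φ hφ) ξ
  have hC : ExtTors (· ∈ S) (ZZ X) (cokernel φ) := fun n ξ =>
    exists_zsmul_eq_zero_HF S n _ (isSTors_cokernel S φ hφ) ξ
  have hmul : ∀ a b : ℤ, a ∈ S → b ∈ S → a * b ∈ S := fun a b => S.mul_mem
  refine ⟨?_, ?_, ?_⟩
  · rintro ⟨s, hs⟩
    rw [Module.End.isUnit_iff]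
    have hiso := isIso_zsmul S φ hφ s hs
    have h2 : IsIso ((EtCoh.HF X i).map (s • 𝟙 G)) := inferInstance
    have h3 : (EtCoh.HF X i).map (s • 𝟙 G) = s • 𝟙 _ := by
      rw [Functor.map_zsmul, CategoryTheory.Functor.map_id]
    rw [h3] at h2
    have hb := ConcreteCategory.bijective_of_isIso (s • 𝟙 ((EtCoh.HF X i).obj G))
    exact hb
  · intro y
    obtain ⟨m, hm, x, hx⟩ := coker_tors (· ∈ S) hmul (ZZ X) φ hK hC i y
    exact ⟨⟨x, ⟨m, hm⟩⟩, hx.symm⟩
  · intro x₁ x₂ h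
    have h0 : Abelian.Ext.comp (x₁ - x₂ : Abelian.Ext (ZZ X) F i) (Abelian.Ext.mk₀ φ)
        (add_zero i) = 0 := by
      have := map_sub ((Abelian.Ext.mk₀ φ).postcomp (ZZ X) (add_zero i)) x₁ x₂
      refine this.trans ?_
      rw [sub_eq_zero]
      exact h
    obtain ⟨m, hm, hk⟩ := ker_tors (· ∈ S) hmul (ZZ X) φ hK hC i _ h0
    refine ⟨⟨m, hm⟩, ?_⟩
    let y₁ : Abelian.Ext (ZZ X) F i := x₁
    let y₂ : Abelian.Ext (ZZ X) F i := x₂
    have hk' : m • (y₁ - y₂) = 0 := hk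
    have hk2 : m • y₁ = m • y₂ := by rwa [smul_sub, sub_eq_zero] at hk'
    exact hk2

end helpers

/-- In the case of the small etale topos of a quasi-compact quasi-separated scheme X (X is then a
coherent object of it), let R = S⁻¹ℤ be a localization of the ring of integers at a multiplicative
subset S, and let φ : F ⟶ G be a morphism of abelian etale sheaves on X which exhibits G as F ⊗ R:
over every affine scheme U etale over X, the map on sections F(U) → G(U) is a localization of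
ℤ-modules at S. Then for every i the induced map on etale cohomology Hⁱ(X, F) → Hⁱ(X, G) is a
localization at S, i.e. the natural map Hⁱ(X, F) ⊗ R → Hⁱ(X, F ⊗ R) is invertible. (The source
states this for a coherent object of an arbitrary topos; the tensor product F ⊗ R is rendered
through its characterisation on affine etale schemes over X.) -/
theorem result (X : Scheme.{u})
    [CompactSpace X] [QuasiSeparatedSpace X] (S : Submonoid ℤ)
    (F G : EtCoh.Ab X) (φ : F ⟶ G)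
    (hφ : ∀ U : X.Etale, IsAffine U.left →
      IsLocalizedModule S (φ.hom.app (op U)).hom.toIntLinearMap)
    (i : ℕ) : IsLocalizedModule S ((EtCoh.HF X i).map φ).hom.toIntLinearMap := by
  exact main X S F G φ hφ i

end Groth.Agent.S19975
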