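import Groth.Statements.S1998
import Mathlib.Algebra.Polynomial.Lifts
import Mathlib.RingTheory.Jacobson.Ideal

set_option autoImplicit false
universe u
open EtAlg

namespace Groth.Agent.S1998

/-- Let (A_j, I_j) be a directed system of henselian pairs (ring maps A_j -> A_k for j ≤ k carrying I_j
into I_k). Then the direct limit A of the A_j together with the ideal generated by the images of the
I_j is a henselian pair. -/
theorem result {ι : Type u} [Preorder ι] [IsDirected ι (· ≤ ·)] [Nonempty ι]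
    (G : ι → Type u) [∀ i, CommRing (G i)] (f : ∀ i j, i ≤ j → G i →+* G j)
    [DirectedSystem G fun i j h => f i j h] (I : ∀ i, Ideal (G i))
    (hI : ∀ i j (h : i ≤ j), (I i).map (f i j h) ≤ I j) (hh : ∀ i, HenselianRing (G i) (I i)) :
    HenselianRing (Ring.DirectLimit G fun i j h => f i j h)
      (⨆ i, (I i).map (Ring.DirectLimit.of G (fun i j h => f i j h) i)) := by
  classical
  set φ := Ring.DirectLimit.of G (fun i j h => f i j h) with hφ
  set J : Ideal (Ring.DirectLimit G fun i j h => f i j h) := ⨆ i, (I i).map (φ i) with hJ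
  have hφf : ∀ i j (h : i ≤ j) (x : G i), φ j (f i j h x) = φ i x := fun i j h x =>
    Ring.DirectLimit.of_f (G := G) (f := fun i j h => f i j h) h x
  have hff : ∀ i j k (hij : i ≤ j) (hjk : j ≤ k) (x : G i),
      f j k hjk (f i j hij x) = f i k (hij.trans hjk) x := fun i j k hij hjk x =>
    DirectedSystem.map_map' (f := f) hij hjk x
  have hImem : ∀ i j (h : i ≤ j) (x : G i), x ∈ I i → f i j h x ∈ I j := fun i j h x hx =>
    hI i j h (Ideal.mem_map_of_mem _ hx)
  -- Lemma A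
  have hA : ∀ i (x y : G i), φ i x = φ i y → ∃ k, ∃ hik : i ≤ k, f i k hik x = f i k hik y := by
    intro i x y hxy
    have h0 : φ i (x - y) = 0 := by rw [map_sub, hxy, sub_self]
    obtain ⟨k, hik, hk⟩ := Ring.DirectLimit.of.zero_exact (f' := f) h0
    exact ⟨k, hik, by rwa [map_sub, sub_eq_zero] at hk⟩
  -- Lemma B
  have hB : ∀ z, z ∈ J → ∃ i x, x ∈ I i ∧ φ i x = z := by
    let J' : Ideal (Ring.DirectLimit G fun i j h => f i j h) :=
      { carrier := {z | ∃ i x, x ∈ I i ∧ φ i x = z}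
        zero_mem' := ⟨Classical.arbitrary ι, 0, Ideal.zero_mem _, map_zero _⟩
        add_mem' := by
          rintro _ _ ⟨i, x, hx, rfl⟩ ⟨j, y, hy, rfl⟩
          obtain ⟨k, hik, hjk⟩ := exists_ge_ge i j
          refine ⟨k, f i k hik x + f j k hjk y,
            Ideal.add_mem _ (hImem _ _ _ _ hx) (hImem _ _ _ _ hy), ?_⟩
          rw [map_add, hφf, hφf]
        smul_mem' := by
          rintro c _ ⟨i, x, hx, rfl⟩
          obtain ⟨j, y, rfl⟩ := Ring.DirectLimit.exists_of c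
          obtain ⟨k, hik, hjk⟩ := exists_ge_ge i j
          refine ⟨k, f j k hjk y * f i k hik x, Ideal.mul_mem_left _ _ (hImem _ _ _ _ hx), ?_⟩
          rw [map_mul, hφf, hφf, smul_eq_mul] }
    have hle : J ≤ J' := by
      rw [hJ]
      refine iSup_le fun i => ?_
      rw [Ideal.map_le_iff_le_comap]
      intro x hx
      exact ⟨i, x, hx, rfl⟩
    intro z hz
    exact hle hz
  -- Lemma C
  have hC : ∀ i (x : G i), φ i x ∈ J → ∃ k, ∃ hik : i ≤ k, f i k hik x ∈ I k := by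
    intro i x hx
    obtain ⟨j, c, hc, hcx⟩ := hB _ hx
    obtain ⟨k₀, hik₀, hjk₀⟩ := exists_ge_ge i j
    have h1 : φ k₀ (f i k₀ hik₀ x) = φ k₀ (f j k₀ hjk₀ c) := by rw [hφf, hφf, hcx]
    obtain ⟨k, hk₀k, hk⟩ := hA _ _ _ h1
    refine ⟨k, hik₀.trans hk₀k, ?_⟩
    rw [← hff i k₀ k hik₀ hk₀k, hk]
    exact hImem _ _ _ _ (hImem _ _ _ _ hc)
  have hJmem : ∀ i (x : G i), x ∈ I i → φ i x ∈ J := fun i x hx =>
    (le_iSup (fun i => (I i).map (φ i)) i) (Ideal.mem_map_of_mem _ hx)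
  refine ⟨?_, ?_⟩
  · intro z hz
    obtain ⟨i, x, hx, rfl⟩ := hB z hz
    rw [Ideal.mem_jacobson_bot]
    intro y
    obtain ⟨j, y, rfl⟩ := Ring.DirectLimit.exists_of y
    obtain ⟨k, hik, hjk⟩ := exists_ge_ge i j
    have h1 : IsUnit (f i k hik x * f j k hjk y + 1) :=
      Ideal.mem_jacobson_bot.1 ((hh k).jac (hImem _ _ _ _ hx)) _
    have h2 := h1.map (φ k)
    rwa [map_add, map_mul, map_one, hφf, hφf] at h2
  · intro F hF a₀ h0 hder
    obtain ⟨i₁, P₁, hP₁⟩ := Ring.DirectLimit.Polynomial.exists_of F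
    obtain ⟨P, hP, -, hPm⟩ := Polynomial.lifts_and_natDegree_eq_and_monic
      ((Polynomial.mem_lifts _).2 ⟨P₁, hP₁⟩) hF
    obtain ⟨i₂, a, rfl⟩ := Ring.DirectLimit.exists_of a₀
    obtain ⟨u, hu⟩ := Ideal.Quotient.mk_surjective (hder.unit⁻¹ : _).val
    have hu1 : Polynomial.eval (φ i₂ a) (Polynomial.derivative F) * u - 1 ∈ J := by
      rw [← Ideal.Quotient.eq, map_mul, hu, map_one]
      exact hder.mul_val_inv
    obtain ⟨i₄, u', rfl⟩ := Ring.DirectLimit.exists_of u
    obtain ⟨k', hi₁k', hi₂k'⟩ := exists_ge_ge i₁ i₂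
    obtain ⟨k₀, hk'k₀, hi₄k₀⟩ := exists_ge_ge k' i₄
    have hi₁ := hi₁k'.trans hk'k₀
    have hi₂ := hi₂k'.trans hk'k₀
    set P₀ := P.map (f i₁ k₀ hi₁) with hP₀
    set a' := f i₂ k₀ hi₂ a with ha'
    set u'' := f i₄ k₀ hi₄k₀ u' with hu''
    have hcomp : ∀ i j (h : i ≤ j), (φ j).comp (f i j h) = φ i := fun i j h =>
      RingHom.ext fun x => hφf i j h x
    have hP₀F : P₀.map (φ k₀) = F := by
      rw [hP₀, Polynomial.map_map, hcomp, ← hP]
    have hev : ∀ {S T : Type u} [CommRing S] [CommRing T] (g : S →+* T) (Q : Polynomial S)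
        (x : S), Polynomial.eval (g x) (Q.map g) = g (Polynomial.eval x Q) := by
      intro S T _ _ g Q x
      rw [Polynomial.eval_map, Polynomial.eval₂_hom]
    have h0' : φ k₀ (Polynomial.eval a' P₀) ∈ J := by
      rw [← hev, hP₀F, ha', hφf]; exact h0
    have h1' : φ k₀ (Polynomial.eval a' (Polynomial.derivative P₀) * u'' - 1) ∈ J := by
      rw [map_sub, map_mul, map_one, ← hev, ← Polynomial.derivative_map, hP₀F, ha', hu'', hφf,
        hφf]
      exact hu1
    obtain ⟨k₁, hk₁, h0''⟩ := hC _ _ h0'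
    obtain ⟨k₂, hk₂, h1''⟩ := hC _ _ h1'
    obtain ⟨k, hk₁k, hk₂k⟩ := exists_ge_ge k₁ k₂
    have hk := hk₁.trans hk₁k
    set Pk := P₀.map (f k₀ k hk) with hPk
    set ak := f k₀ k hk a' with hak
    set uk := f k₀ k hk u'' with huk
    have e0 : Polynomial.eval ak Pk ∈ I k := by
      rw [hPk, hak, hev, ← hff k₀ k₁ k hk₁ hk₁k]
      exact hImem _ _ _ _ h0''
    have e1 : Polynomial.eval ak (Polynomial.derivative Pk) * uk - 1 ∈ I k := by
      have := hImem _ _ hk₂k _ h1''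
      rw [hff k₀ k₂ k hk₂ hk₂k, map_sub, map_mul, map_one, ← hev, ← Polynomial.derivative_map]
        at this
      exact this
    have e1' : IsUnit (Ideal.Quotient.mk (I k) (Polynomial.eval ak (Polynomial.derivative Pk))) := by
      refine isUnit_iff_exists_inv.2 ⟨Ideal.Quotient.mk (I k) uk, ?_⟩
      rw [← map_mul, ← map_one (Ideal.Quotient.mk (I k)), Ideal.Quotient.eq]
      exact e1
    have hPkm : Pk.Monic := (hPm.map _).map _
    obtain ⟨r, hr, hra⟩ := (hh k).is_henselian Pk hPkm ak e0 e1'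
    have hPkF : Pk.map (φ k) = F := by
      rw [hPk, Polynomial.map_map, hcomp, hP₀F]
    refine ⟨φ k r, ?_, ?_⟩
    · rw [Polynomial.IsRoot.def, ← hPkF, hev, hr, map_zero]
    · have : φ i₂ a = φ k ak := by rw [hak, ha', hφf, hφf]
      rw [this, ← map_sub]
      exact hJmem _ _ hra

end Groth.Agent.S1998
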