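import Groth.Statements.S2001
import Groth.Agent.Lib.Helper3.BL

set_option autoImplicit false
universe u
open TensorProduct
open EtAlg

namespace Groth.Agent.S2001

/-- Let (R -> R', f) be a glueing pair and M, N R-modules glueable for it. Given an R'-linear map φ' :
R' ⊗_R M -> R' ⊗_R N and an R-linear map φ₁ : M_f -> N_f which induce the same map into (R' ⊗_R N)_f
on elements of M, there is a unique R-linear map ψ : M -> N whose base change to R' is φ' and whose
localization is φ₁. -/
theorem result (R R' : Type u) [CommRing R] [CommRing R'] [Algebra R R'] (f : R)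
    (hRR : EtGlue.IsGlueingPair R R' f) (M N : Type u) [AddCommGroup M] [Module R M] [AddCommGroup N] [Module R N]
    (hM : EtGlue.IsGlueable R R' f M) (hN : EtGlue.IsGlueable R R' f N)
    (φ' : R' ⊗[R] M →ₗ[R'] R' ⊗[R] N)
    (φ₁ : LocalizedModule (Submonoid.powers f) M →ₗ[R] LocalizedModule (Submonoid.powers f) N)
    (hc : ∀ m : M, EtGlue.locOfTensor R R' f N (φ' ((1 : R') ⊗ₜ[R] m)) =
      EtGlue.tensorOfLoc R R' f N (φ₁ (LocalizedModule.mkLinearMap (Submonoid.powers f) M m))) :
    ∃! ψ : M →ₗ[R] N, ψ.baseChange R' = φ' ∧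
      IsLocalizedModule.map (Submonoid.powers f) (LocalizedModule.mkLinearMap (Submonoid.powers f) M)
        (LocalizedModule.mkLinearMap (Submonoid.powers f) N) ψ = φ₁ := by
  classical
  obtain ⟨hNinj, hNmid⟩ := hN
  choose ψf hψ1 hψ2 using fun m =>
    hNmid (φ' ((1 : R') ⊗ₜ[R] m)) (φ₁ (LocalizedModule.mkLinearMap (Submonoid.powers f) M m)) (hc m)
  have key : ∀ n n' : N, (1 : R') ⊗ₜ[R] n = (1 : R') ⊗ₜ[R] n' →
      LocalizedModule.mkLinearMap (Submonoid.powers f) N n =
        LocalizedModule.mkLinearMap (Submonoid.powers f) N n' → n = n' :=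
    fun n n' h1 h2 => hNinj (Prod.ext h1 h2)
  let ψ : M →ₗ[R] N :=
    { toFun := ψf
      map_add' := fun a b => key _ _
        (by rw [hψ1, tmul_add, map_add, ← hψ1, ← hψ1, ← tmul_add])
        (by rw [hψ2, map_add, map_add, map_add, hψ2, hψ2])
      map_smul' := fun c a => key _ _
        (by
          rw [hψ1, RingHom.id_apply, tmul_smul, tmul_smul, hψ1 a]
          rw [← algebraMap_smul R' c ((1 : R') ⊗ₜ[R] a), map_smul, algebraMap_smul])
        (by rw [hψ2, RingHom.id_apply, map_smul, map_smul, map_smul, hψ2]) }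
  have hψ1' : ∀ m, (1 : R') ⊗ₜ[R] ψ m = φ' ((1 : R') ⊗ₜ[R] m) := hψ1
  have hψ2' : ∀ m, LocalizedModule.mkLinearMap (Submonoid.powers f) N (ψ m) =
      φ₁ (LocalizedModule.mkLinearMap (Submonoid.powers f) M m) := hψ2
  refine ⟨ψ, ⟨?_, ?_⟩, ?_⟩
  · apply TensorProduct.AlgebraTensorModule.ext
    intro r' m
    rw [LinearMap.baseChange_tmul]
    have h1 : r' ⊗ₜ[R] ψ m = r' • ((1 : R') ⊗ₜ[R] ψ m) := by
      rw [TensorProduct.smul_tmul', smul_eq_mul, mul_one]
    have h2 : r' ⊗ₜ[R] m = r' • ((1 : R') ⊗ₜ[R] m) := by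
      rw [TensorProduct.smul_tmul', smul_eq_mul, mul_one]
    rw [h1, h2, map_smul, hψ1']
  · apply IsLocalizedModule.ext (Submonoid.powers f)
      (LocalizedModule.mkLinearMap (Submonoid.powers f) M)
      (IsLocalizedModule.map_units (LocalizedModule.mkLinearMap (Submonoid.powers f) N))
    ext m
    rw [LinearMap.comp_apply, LinearMap.comp_apply, IsLocalizedModule.map_apply, hψ2']
  · rintro ψ' ⟨h1, h2⟩
    ext m
    apply key
    · rw [hψ1', ← h1, LinearMap.baseChange_tmul]
    · rw [hψ2', ← h2, IsLocalizedModule.map_apply]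

end Groth.Agent.S2001
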