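import Groth.Statements.S20010
import Mathlib

set_option autoImplicit false
universe u
open CategoryTheory CategoryTheory.Limits AlgebraicGeometry TopologicalSpace
open ModPair

namespace Groth.Agent.S20010

/-- Let (X_i) be a cofiltered system of schemes with affine transition morphisms such that X_{i₀} is
quasi-compact and quasi-separated for some index i₀, let X be its limit, and let {U_a ⟶ X} be a
family of quasi-compact open immersions (open immersions of finite presentation) which is jointly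
surjective (a covering family for the Zariski class). Then the covering descends: for some index i
there is a finite jointly surjective family {V_j ⟶ X_i}_{j < n} of quasi-compact open immersions
such that every V_j ×_{X_i} X is one of the U_a, i.e. for each j some U_{a_j} ⟶ X is the base change
of V_j ⟶ X_i along X ⟶ X_i. -/
theorem result {I : Type u} [SmallCategory I] [IsCofiltered I]
    (D : I ⥤ Scheme.{u}) (c : Cone D) (hc : IsLimit c)
    [∀ (i j : I) (t : i ⟶ j), IsAffineHom (D.map t)] (i₀ : I) [CompactSpace (D.obj i₀)]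
    [QuasiSeparatedSpace (D.obj i₀)] {ι : Type u} (U : ι → Scheme.{u}) (u : ∀ a, U a ⟶ c.pt)
    [∀ a, IsOpenImmersion (u a)] [∀ a, QuasiCompact (u a)] (hcov : ∀ x : c.pt, ∃ (a : ι) (y : U a), (u a).base y = x) :
    ∃ (i : I) (n : ℕ) (V : Fin n → Scheme.{u}) (v : ∀ j, V j ⟶ D.obj i) (a : Fin n → ι)
      (e : ∀ j, U (a j) ⟶ V j),
      (∀ j, IsOpenImmersion (v j) ∧ QuasiCompact (v j)) ∧
      (∀ x : D.obj i, ∃ (j : Fin n) (y : V j), (v j).base y = x) ∧
      ∀ j, IsPullback (e j) (u (a j)) (v j) (c.π.app i) := by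
  classical
  haveI hAff : ∀ {i j : I} (f : i ⟶ j), IsAffineHom (D.map f) := fun f => inferInstance
  haveI hπ : ∀ i, IsAffineHom (c.π.app i) := fun i => isAffineHom_π_app D c hc i
  haveI : CompactSpace c.pt := QuasiCompact.compactSpace_of_compactSpace (c.π.app i₀)
  -- a finite subcover
  let O : ι → c.pt.Opens := fun a => (u a).opensRange
  have hOc : ∀ a, IsCompact (O a : Set c.pt) := by
    intro a
    have h1 : IsCompact ((u a) ⁻¹' Set.univ) :=
      QuasiCompact.isCompact_preimage _ isOpen_univ isCompact_univ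
    rw [Set.preimage_univ] at h1
    have h2 := h1.image (u a).continuous
    rw [Set.image_univ] at h2
    exact h2
  have hOcov : (Set.univ : Set c.pt) ⊆ ⋃ a, (O a : Set c.pt) := by
    intro x _
    obtain ⟨a, y, rfl⟩ := hcov x
    exact Set.mem_iUnion.mpr ⟨a, ⟨y, rfl⟩⟩
  obtain ⟨t, ht⟩ := isCompact_univ.elim_finite_subcover (fun a => (O a : Set c.pt))
    (fun a => (O a).isOpen) hOcov
  -- descend each member
  have hdesc : ∀ a : ι, ∃ (i : I) (V : (D.obj i).Opens),
      IsCompact (V : Set (D.obj i)) ∧ c.π.app i ⁻¹ᵁ V = O a :=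
    fun a => exists_preimage_eq D c hc (O a) (hOc a)
  choose iA VA hVAc hVA using hdesc
  obtain ⟨k₀, hk₀⟩ := IsCofiltered.inf_objs_exists (insert i₀ (t.image iA))
  have f₀ : k₀ ⟶ i₀ := (hk₀ (Finset.mem_insert_self _ _)).some
  have fA : ∀ a ∈ t, k₀ ⟶ iA a := fun a ha =>
    (hk₀ (Finset.mem_insert_of_mem (Finset.mem_image_of_mem _ ha))).some
  let W₀ : ι → (D.obj k₀).Opens := fun a =>
    if ha : a ∈ t then D.map (fA a ha) ⁻¹ᵁ VA a else ⊥
  have hW₀ : ∀ a ∈ t, c.π.app k₀ ⁻¹ᵁ W₀ a = O a := by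
    intro a ha
    simp only [W₀, dif_pos ha]
    rw [← Scheme.Hom.comp_preimage, c.w, hVA]
  have hW₀c : ∀ a ∈ t, IsCompact (W₀ a : Set (D.obj k₀)) := by
    intro a ha
    simp only [W₀, dif_pos ha]
    exact QuasiCompact.isCompact_preimage (f := D.map (fA a ha)) _ (VA a).isOpen (hVAc a)
  haveI : CompactSpace (D.obj k₀) := QuasiCompact.compactSpace_of_compactSpace (D.map f₀)
  let W : (D.obj k₀).Opens := ⨆ a ∈ t, W₀ a
  have hWtop : c.π.app k₀ ⁻¹ᵁ W = ⊤ := by
    rw [eq_top_iff]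
    intro x _
    have hx := ht (Set.mem_univ x)
    simp only [Set.mem_iUnion] at hx
    obtain ⟨a, ha, hxa⟩ := hx
    have hx2 : x ∈ c.π.app k₀ ⁻¹ᵁ W₀ a := by rw [hW₀ a ha]; exact hxa
    change c.π.app k₀ x ∈ W
    exact TopologicalSpace.Opens.mem_iSup.mpr ⟨a, TopologicalSpace.Opens.mem_iSup.mpr ⟨ha, hx2⟩⟩
  obtain ⟨k, fk, hk⟩ := exists_map_preimage_le_map_preimage D c hc (i := k₀) (U := ⊤) (V := W)
    isCompact_univ (by rw [hWtop]; exact le_top)
  haveI : CompactSpace (D.obj k) := QuasiCompact.compactSpace_of_compactSpace (D.map fk)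
  haveI : QuasiSeparatedSpace (D.obj k) :=
    quasiSeparatedSpace_of_quasiSeparated (D.map (fk ≫ f₀))
  let Vf : ι → (D.obj k).Opens := fun a => D.map fk ⁻¹ᵁ W₀ a
  have hVf : ∀ a ∈ t, c.π.app k ⁻¹ᵁ Vf a = O a := by
    intro a ha
    simp only [Vf]
    rw [← Scheme.Hom.comp_preimage, c.w, hW₀ a ha]
  have hVfc : ∀ a ∈ t, IsCompact (Vf a : Set (D.obj k)) := fun a ha =>
    QuasiCompact.isCompact_preimage (f := D.map fk) _ (W₀ a).isOpen (hW₀c a ha)
  let n := t.card
  let E : ↥t ≃ Fin n := t.equivFin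
  let aa : Fin n → ι := fun j => (E.symm j).1
  have haa : ∀ j, aa j ∈ t := fun j => (E.symm j).2
  let ε : ∀ j, U (aa j) ≅ ((c.π.app k ⁻¹ᵁ Vf (aa j) : c.pt.Opens) : Scheme.{u}) := fun j =>
    (u (aa j)).isoOpensRange ≪≫ c.pt.isoOfEq (hVf (aa j) (haa j)).symm
  have hε : ∀ j, (ε j).hom ≫ (c.π.app k ⁻¹ᵁ Vf (aa j)).ι = u (aa j) := by
    intro j
    simp only [ε, Iso.trans_hom, Category.assoc]
    rw [Scheme.isoOfEq_hom_ι c.pt (hVf (aa j) (haa j)).symm, Scheme.Hom.isoOpensRange_hom_ι]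
  refine ⟨k, n, fun j => ((Vf (aa j) : (D.obj k).Opens) : Scheme.{u}), fun j => (Vf (aa j)).ι, aa,
    fun j => (ε j).hom ≫ (c.π.app k ∣_ Vf (aa j)), ?_, ?_, ?_⟩
  · intro j
    haveI : CompactSpace ((Vf (aa j) : (D.obj k).Opens) : Scheme.{u}) :=
      isCompact_iff_compactSpace.mp (hVfc (aa j) (haa j))
    exact ⟨inferInstance, inferInstance⟩
  · intro x
    have hx : x ∈ D.map fk ⁻¹ᵁ W := hk (Set.mem_univ x)
    have hx' : D.map fk x ∈ W := hx
    obtain ⟨a, hxa⟩ := TopologicalSpace.Opens.mem_iSup.mp hx'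
    obtain ⟨ha, hxa⟩ := TopologicalSpace.Opens.mem_iSup.mp hxa
    have haj : aa (E ⟨a, ha⟩) = a := by simp [aa]
    refine ⟨E ⟨a, ha⟩, ⟨x, ?_⟩, rfl⟩
    rw [haj]
    exact hxa
  · intro j
    have h1 : IsPullback (ε j).hom (u (aa j)) (c.π.app k ⁻¹ᵁ Vf (aa j)).ι (𝟙 c.pt) :=
      IsPullback.of_horiz_isIso ⟨by rw [hε j, Category.comp_id]⟩
    have h2 := h1.paste_horiz (isPullback_morphismRestrict (c.π.app k) (Vf (aa j)))
    rwa [Category.id_comp] at h2

end Groth.Agent.S20010
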