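import Groth.Statements.S20018
import Mathlib

set_option autoImplicit false
open CAlg

namespace Groth.Agent.S20018

universe u

theorem trunc_eq_iff {R : Type u} [CommRing R] (n : ℕ) (φ ψ : PowerSeries R) :
    PowerSeries.trunc n φ = PowerSeries.trunc n ψ ↔
      ∀ m < n, PowerSeries.coeff m φ = PowerSeries.coeff m ψ := by
  constructor
  · intro h m hm
    have := congrArg (fun q => Polynomial.coeff q m) h
    simpa [PowerSeries.coeff_trunc, hm] using this
  · intro h
    ext m
    rw [PowerSeries.coeff_trunc, PowerSeries.coeff_trunc]
    split_ifs with hm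
    · exact h m hm
    · rfl

theorem coeff_mul_factor {R : Type u} [CommRing R] (P : PowerSeries R) (a : R) (d m : ℕ) :
    PowerSeries.coeff m (P * (1 - PowerSeries.C a * PowerSeries.X ^ d)) =
      PowerSeries.coeff m P - (if d ≤ m then a * PowerSeries.coeff (m - d) P else 0) := by
  have : P * (1 - PowerSeries.C a * PowerSeries.X ^ d) =
      P - PowerSeries.C a * (P * PowerSeries.X ^ d) := by ring
  rw [this, map_sub, PowerSeries.coeff_C_mul, PowerSeries.coeff_mul_X_pow']
  split_ifs <;> simp

/-- the partial products, defined recursively -/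
noncomputable def PP {R : Type u} [CommRing R] (x : PowerSeries R) : ℕ → PowerSeries R
  | 0 => 1
  | (N + 1) => PP x N * (1 - PowerSeries.C (PowerSeries.coeff (N + 1) (PP x N) - PowerSeries.coeff (N + 1) x)
      * PowerSeries.X ^ (N + 1))

noncomputable def alpha {R : Type u} [CommRing R] (x : PowerSeries R) (N : ℕ) : R :=
  PowerSeries.coeff (N + 1) (PP x N) - PowerSeries.coeff (N + 1) x

theorem PP_eq_prod {R : Type u} [CommRing R] (x : PowerSeries R) (N : ℕ) :
    PP x N = ∏ i ∈ Finset.range N,
      (1 - PowerSeries.C (alpha x i) * PowerSeries.X ^ (i + 1) : PowerSeries R) := by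
  induction N with
  | zero => simp [PP]
  | succ N ih =>
    rw [Finset.prod_range_succ, ← ih]
    rfl

theorem PP_inv {R : Type u} [CommRing R] (x : PowerSeries R)
    (hx : PowerSeries.constantCoeff x = 1) (N : ℕ) :
    ∀ m < N + 1, PowerSeries.coeff m x = PowerSeries.coeff m (PP x N) := by
  induction N with
  | zero =>
    intro m hm
    have : m = 0 := by omega
    subst this
    simp only [PP, PowerSeries.coeff_zero_eq_constantCoeff, hx, map_one]
  | succ N ih =>
    intro m hm
    have h0 : PowerSeries.coeff 0 (PP x N) = 1 := by
      rw [← ih 0 (by omega), PowerSeries.coeff_zero_eq_constantCoeff_apply, hx]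
    show _ = PowerSeries.coeff m (PP x N * _)
    rw [coeff_mul_factor]
    by_cases hm' : m < N + 1
    · rw [if_neg (by omega), sub_zero]
      exact ih m hm'
    · have : m = N + 1 := by omega
      subst this
      rw [if_pos le_rfl, Nat.sub_self, h0, mul_one]
      ring

open PowerSeries in
/-- Product expansion of big Witt vectors: let R be a commutative ring and x ∈ 1 + tR[[t]] a formal
power series with constant term 1. Then x can be written uniquely as an infinite product ∏_{i ≥ 1}
(1 - α_i t^i) with α_i ∈ R. The infinite product is expressed through its truncations: there is a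
unique sequence α : ℕ → R (α i standing for the coefficient attached to t^{i+1}) such that for every
N the series x and the finite product ∏_{i=0}^{N} (1 - α_i t^{i+1}) agree modulo t^{N+2}. -/
theorem result
    (R : Type*) [CommRing R] (x : PowerSeries R) (hx : PowerSeries.constantCoeff x = 1) :
    ∃! α : ℕ → R, ∀ N : ℕ,
      PowerSeries.trunc (N + 2) x =
        PowerSeries.trunc (N + 2) (∏ i ∈ Finset.range (N + 1),
          (1 - PowerSeries.C (α i) * PowerSeries.X ^ (i + 1) : PowerSeries R)) := by
  refine ⟨alpha x, ?_, ?_⟩
  · intro N
    rw [trunc_eq_iff, ← PP_eq_prod]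
    exact PP_inv x hx (N + 1)
  · intro α' hα'
    have hC : ∀ N, ∀ m < N + 2, PowerSeries.coeff m x =
        PowerSeries.coeff m (∏ i ∈ Finset.range (N + 1),
          (1 - PowerSeries.C (α' i) * PowerSeries.X ^ (i + 1) : PowerSeries R)) := by
      intro N
      exact (trunc_eq_iff _ _ _).mp (hα' N)
    funext N
    induction N using Nat.strong_induction_on with
    | _ N ih =>
      have hprod : (∏ i ∈ Finset.range N,
          (1 - PowerSeries.C (α' i) * PowerSeries.X ^ (i + 1) : PowerSeries R)) = PP x N := by
        rw [PP_eq_prod]
        apply Finset.prod_congr rfl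
        intro i hi
        rw [ih i (Finset.mem_range.mp hi)]
      have h1 := hC N (N + 1) (by omega)
      rw [Finset.prod_range_succ, hprod, coeff_mul_factor, if_pos le_rfl, Nat.sub_self] at h1
      have h0 : PowerSeries.coeff 0 (PP x N) = 1 := by
        rw [← PP_inv x hx N 0 (by omega), PowerSeries.coeff_zero_eq_constantCoeff_apply, hx]
      rw [h0, mul_one] at h1
      unfold alpha
      rw [h1]
      ring


end Groth.Agent.S20018
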