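import Groth.Statements.S2008
import Mathlib

set_option autoImplicit false
universe u
open TensorProduct
open EtAlg

namespace Groth.Agent.S2008

/-- For a ring map R -> S and an ideal I of R the following are equivalent: (1) S is flat over R and
S/IS is faithfully flat over R/I; (2) S is flat over R and Spec(S/IS) -> Spec(R/I) is surjective;
(3) S is flat over R and S ⊗_R M is nonzero for every nonzero R-module M killed by I; (4) S is flat
over R and S ⊗_R M is nonzero for every nonzero I-power torsion R-module M. (Faithfulness of base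
change on these subcategories is stated as detection of nonzero objects, which is equivalent for an
exact functor.) -/
theorem result (R S : Type u) [CommRing R] [CommRing S] [Algebra R S] (I : Ideal R) :
    List.TFAE [
      Module.Flat R S ∧ Module.FaithfullyFlat (R ⧸ I) (S ⧸ I.map (algebraMap R S)),
      Module.Flat R S ∧ Function.Surjective (PrimeSpectrum.comap (Ideal.quotientMap (I.map (algebraMap R S)) (algebraMap R S) Ideal.le_comap_map)),
      Module.Flat R S ∧ ∀ (M : Type u) [AddCommGroup M] [Module R M], (∀ (a : R) (m : M), a ∈ I → a • m = 0) →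
        Nontrivial M → Nontrivial (S ⊗[R] M),
      Module.Flat R S ∧ ∀ (M : Type u) [AddCommGroup M] [Module R M], (∀ m : M, ∃ n : ℕ, ∀ a ∈ I ^ n, a • m = 0) →
        Nontrivial M → Nontrivial (S ⊗[R] M)] := by
  have hflat : Module.Flat R S → Module.Flat (R ⧸ I) (S ⧸ I.map (algebraMap R S)) := by
    intro h
    exact Module.Flat.of_linearEquiv
      (Algebra.TensorProduct.quotIdealMapEquivQuotTensor S I).toLinearEquiv
  tfae_have 1 → 2 := by
    rintro ⟨h1, h2⟩
    exact ⟨h1, PrimeSpectrum.comap_surjective_of_faithfullyFlat⟩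
  tfae_have 2 → 1 := by
    rintro ⟨h1, h2⟩
    haveI := hflat h1
    exact ⟨h1, Module.FaithfullyFlat.of_comap_surjective h2⟩
  tfae_have 2 → 3 := by
    rintro ⟨h1, h2⟩
    refine ⟨h1, fun M _ _ hM hnt => ?_⟩
    obtain ⟨m, hm⟩ := exists_ne (0 : M)
    -- the annihilator of `m`
    have hJ : Ideal.torsionOf R M m ≠ ⊤ := by
      intro h
      have : (1 : R) ∈ Ideal.torsionOf R M m := h ▸ Submodule.mem_top
      rw [Ideal.mem_torsionOf_iff, one_smul] at this
      exact hm this
    have hIJ : I ≤ Ideal.torsionOf R M m := fun a ha =>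
      (Ideal.mem_torsionOf_iff _ _).2 (hM a m ha)
    obtain ⟨𝔪, hmax, hle⟩ := Ideal.exists_le_maximal _ hJ
    have hI𝔪 : I ≤ 𝔪 := hIJ.trans hle
    -- the prime of `R/I`
    have hker : RingHom.ker (Ideal.Quotient.mk I) ≤ 𝔪 := by rwa [Ideal.mk_ker]
    haveI : (𝔪.map (Ideal.Quotient.mk I)).IsPrime :=
      Ideal.map_isPrime_of_surjective Ideal.Quotient.mk_surjective hker
    obtain ⟨y, hy⟩ := h2 ⟨𝔪.map (Ideal.Quotient.mk I), inferInstance⟩
    have hy' := congrArg PrimeSpectrum.asIdeal hy
    rw [PrimeSpectrum.comap_asIdeal] at hy'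
    -- the prime of `S`
    have hP : (y.asIdeal.comap (Ideal.Quotient.mk (I.map (algebraMap R S)))).comap
        (algebraMap R S) = 𝔪 := by
      rw [Ideal.comap_comap]
      have hc : (Ideal.Quotient.mk (I.map (algebraMap R S))).comp (algebraMap R S) =
          (Ideal.quotientMap (I.map (algebraMap R S)) (algebraMap R S) Ideal.le_comap_map).comp
            (Ideal.Quotient.mk I) := rfl
      rw [hc, ← Ideal.comap_comap, hy',
        Ideal.comap_map_of_surjective _ Ideal.Quotient.mk_surjective,
        ← RingHom.ker_eq_comap_bot, Ideal.mk_ker, sup_eq_left.2 hI𝔪]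
    have hJS : (Ideal.torsionOf R M m).map (algebraMap R S) ≠ ⊤ := by
      intro htop
      have h3 : (Ideal.torsionOf R M m).map (algebraMap R S) ≤
          y.asIdeal.comap (Ideal.Quotient.mk (I.map (algebraMap R S))) := by
        rw [Ideal.map_le_iff_le_comap, hP]
        exact hle
      rw [htop, top_le_iff] at h3
      exact (Ideal.comap_isPrime _ y.asIdeal).ne_top h3
    -- nontriviality
    haveI : Nontrivial (S ⧸ (Ideal.torsionOf R M m).map (algebraMap R S)) :=
      Ideal.Quotient.nontrivial_iff.2 hJS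
    haveI : Nontrivial (S ⊗[R] (R ⧸ Ideal.torsionOf R M m)) :=
      (Algebra.TensorProduct.quotIdealMapEquivTensorQuot S
        (Ideal.torsionOf R M m)).symm.toEquiv.nontrivial
    -- the embedding `R/J → M`
    let ι : (R ⧸ Ideal.torsionOf R M m) →ₗ[R] M :=
      Submodule.liftQ _ (LinearMap.toSpanSingleton R M m) le_rfl
    have hι : Function.Injective ι := by
      rw [← LinearMap.ker_eq_bot]
      exact Submodule.ker_liftQ_eq_bot _ _ _ le_rfl
    exact (Module.Flat.lTensor_preserves_injective_linearMap (M := S) ι hι).nontrivial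
  tfae_have 3 → 4 := by
    rintro ⟨h1, h3⟩
    refine ⟨h1, fun M _ _ hM hnt => ?_⟩
    -- the submodule killed by `I`
    let T : Submodule R M := Submodule.torsionBySet R M (I : Set R)
    have hT : ∀ (a : R) (x : T), a ∈ I → a • x = 0 := by
      intro a x ha
      apply Subtype.ext
      have := (Submodule.mem_torsionBySet_iff _ _).1 x.2 ⟨a, ha⟩
      exact this
    have hTnt : Nontrivial T := by
      obtain ⟨m, hm⟩ := exists_ne (0 : M)
      obtain ⟨n, hn⟩ := hM m
      -- minimal n
      classical
      have hex : ∃ n : ℕ, ∀ a ∈ I ^ n, a • m = 0 := ⟨n, hn⟩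
      have hmin : ∀ {j : ℕ}, j < Nat.find hex → ¬ (∀ a ∈ I ^ j, a • m = 0) :=
        fun h => Nat.find_min hex h
      have hspec := Nat.find_spec hex
      set k := Nat.find hex with hk
      have hk0 : k ≠ 0 := by
        intro h0
        rw [h0, pow_zero, Ideal.one_eq_top] at hspec
        have := hspec 1 Submodule.mem_top
        rw [one_smul] at this
        exact hm this
      obtain ⟨k', hk'⟩ := Nat.exists_eq_succ_of_ne_zero hk0
      have hlt : k' < k := by omega
      have hnot := hmin hlt
      push Not at hnot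
      obtain ⟨b, hb, hbm⟩ := hnot
      have hmem : b • m ∈ T := by
        rw [Submodule.mem_torsionBySet_iff]
        rintro ⟨a, ha⟩
        show a • b • m = 0
        rw [smul_smul]
        apply hspec
        rw [hk', pow_succ']
        exact Ideal.mul_mem_mul ha hb
      exact ⟨⟨⟨b • m, hmem⟩, 0, fun h => hbm (congrArg Subtype.val h)⟩⟩
    haveI := h3 T (fun a x ha => hT a x ha) hTnt
    haveI := h1
    exact (Module.Flat.lTensor_preserves_injective_linearMap (M := S) T.subtype
      T.injective_subtype).nontrivial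
  tfae_have 4 → 3 := by
    rintro ⟨h1, h4⟩
    refine ⟨h1, fun M _ _ hM hnt => h4 M (fun m => ⟨1, fun a ha => ?_⟩) hnt⟩
    rw [pow_one] at ha
    exact hM a m ha
  tfae_have 3 → 2 := by
    rintro ⟨h1, h3⟩
    refine ⟨h1, fun x => ?_⟩
    haveI : (x.asIdeal.comap (Ideal.Quotient.mk I)).IsPrime := Ideal.comap_isPrime _ _
    let 𝔭 : PrimeSpectrum R := ⟨x.asIdeal.comap (Ideal.Quotient.mk I), inferInstance⟩
    have hI𝔭 : I ≤ 𝔭.asIdeal := by
      intro a ha
      show Ideal.Quotient.mk I a ∈ x.asIdeal
      rw [Ideal.Quotient.eq_zero_iff_mem.2 ha]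
      exact Submodule.zero_mem _
    have hnt := h3 𝔭.asIdeal.ResidueField (fun a m ha => by
      rw [Algebra.smul_def, Ideal.algebraMap_residueField_eq_zero.2 (hI𝔭 ha), zero_mul])
      inferInstance
    haveI : Nontrivial (𝔭.asIdeal.ResidueField ⊗[R] S) :=
      (TensorProduct.comm R S 𝔭.asIdeal.ResidueField).symm.toEquiv.nontrivial
    obtain ⟨q, hq⟩ := (PrimeSpectrum.nontrivial_iff_mem_rangeComap (S := S) 𝔭).1 inferInstance
    -- `q` contains `IS`
    have hq' := congrArg PrimeSpectrum.asIdeal hq
    rw [PrimeSpectrum.comap_asIdeal] at hq'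
    have hIq : I.map (algebraMap R S) ≤ q.asIdeal := by
      rw [Ideal.map_le_iff_le_comap, hq']
      exact hI𝔭
    have hkerq : RingHom.ker (Ideal.Quotient.mk (I.map (algebraMap R S))) ≤ q.asIdeal := by
      rwa [Ideal.mk_ker]
    haveI : (q.asIdeal.map (Ideal.Quotient.mk (I.map (algebraMap R S)))).IsPrime :=
      Ideal.map_isPrime_of_surjective Ideal.Quotient.mk_surjective hkerq
    refine ⟨⟨q.asIdeal.map (Ideal.Quotient.mk (I.map (algebraMap R S))), inferInstance⟩, ?_⟩
    apply PrimeSpectrum.ext
    rw [PrimeSpectrum.comap_asIdeal]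
    -- compare after pulling back to `R`
    apply Ideal.comap_injective_of_surjective (Ideal.Quotient.mk I) Ideal.Quotient.mk_surjective
    rw [Ideal.comap_comap]
    have hc : (Ideal.quotientMap (I.map (algebraMap R S)) (algebraMap R S) Ideal.le_comap_map).comp
        (Ideal.Quotient.mk I) =
        (Ideal.Quotient.mk (I.map (algebraMap R S))).comp (algebraMap R S) := rfl
    rw [hc, ← Ideal.comap_comap, Ideal.comap_map_of_surjective _ Ideal.Quotient.mk_surjective,
      ← RingHom.ker_eq_comap_bot, Ideal.mk_ker, sup_eq_left.2 hIq, hq']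
  tfae_finish

end Groth.Agent.S2008
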