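import Groth.Statements.S2009
import Mathlib
import Groth.Agent.Lib.Helper22.PowTors

set_option autoImplicit false
universe u
open TensorProduct
open EtAlg

namespace Groth.Agent.S2009

/-- Let R -> S be flat with S/IS faithfully flat over R/I. Then the natural map M -> S ⊗_R M is
bijective for every I-power torsion R-module M if and only if R/I -> S/IS is bijective. -/
theorem result (R S : Type u) [CommRing R] [CommRing S] [Algebra R S] (I : Ideal R)
    [Module.Flat R S] [Module.FaithfullyFlat (R ⧸ I) (S ⧸ I.map (algebraMap R S))] :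
    (∀ (M : Type u) [AddCommGroup M] [Module R M], (∀ m : M, ∃ n : ℕ, ∀ a ∈ I ^ n, a • m = 0) →
      Function.Bijective (TensorProduct.mk R S M 1)) ↔
    Function.Bijective (Ideal.quotientMap (I.map (algebraMap R S)) (algebraMap R S) Ideal.le_comap_map) := by
  constructor
  · intro h
    have hb := h (R ⧸ I) (by
      intro m
      refine ⟨1, fun a ha => ?_⟩
      obtain ⟨r, rfl⟩ := Ideal.Quotient.mk_surjective m
      rw [pow_one] at ha
      have h0 : a • Ideal.Quotient.mk I r = Ideal.Quotient.mk I (a * r) := by
        rw [Algebra.smul_def, map_mul]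
        rfl
      rw [h0, Ideal.Quotient.eq_zero_iff_mem]
      exact I.mul_mem_right r ha)
    set e := Algebra.TensorProduct.quotIdealMapEquivTensorQuot S I with he
    have hcomp : ∀ q : R ⧸ I,
        e (Ideal.quotientMap (I.map (algebraMap R S)) (algebraMap R S) Ideal.le_comap_map q) =
          TensorProduct.mk R S (R ⧸ I) 1 q := by
      intro q
      obtain ⟨r, rfl⟩ := Ideal.Quotient.mk_surjective q
      rw [Ideal.quotientMap_mk, he, Algebra.TensorProduct.quotIdealMapEquivTensorQuot_mk]
      show (algebraMap R S r) ⊗ₜ[R] (1 : R ⧸ I) = (1 : S) ⊗ₜ[R] (Ideal.Quotient.mk I r)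
      have h1 : algebraMap R S r = r • (1 : S) := by rw [Algebra.smul_def, mul_one]
      have h2 : Ideal.Quotient.mk I r = r • (1 : R ⧸ I) := by
        rw [← map_one (Ideal.Quotient.mk I)]
        show _ = Ideal.Quotient.mk I (r • 1)
        rw [smul_eq_mul, mul_one]
      rw [h1, h2, TensorProduct.smul_tmul]
    have hfun : (Ideal.quotientMap (I.map (algebraMap R S)) (algebraMap R S) Ideal.le_comap_map :
        R ⧸ I → S ⧸ I.map (algebraMap R S)) =
        fun q => e.symm (TensorProduct.mk R S (R ⧸ I) 1 q) := by
      funext q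
      rw [← hcomp q, AlgEquiv.symm_apply_apply]
    rw [hfun]
    exact e.symm.bijective.comp hb
  · intro hq M _ _ hM
    exact Groth.Agent.Helper22.PowTors.bij_of_powTorsion I hq M hM

end Groth.Agent.S2009
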