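import Groth.Statements.S2011
import Mathlib.RingTheory.Localization.Ideal
import Groth.Agent.Lib.Helper2.JacobsonNoeth
-- import your own Groth.Agent.* helpers here

set_option autoImplicit false
universe u
open EtAlg

namespace Groth.Agent.S2011

section
open Groth.Agent.Helper2.JacobsonNoeth Groth.Agent.Helper2.HeightOne

theorem disjoint_powers {A : Type*} [CommRing A] (f : A) (P : Ideal A) [P.IsPrime] (hf : f ∉ P) :
    Disjoint (Submonoid.powers f : Set A) (P : Set A) := by
  rw [Set.disjoint_left]
  rintro x ⟨n, rfl⟩ hx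
  exact hf (Ideal.IsPrime.mem_of_pow_mem inferInstance n hx)

theorem main (A : Type u) [CommRing A] [IsNoetherianRing A] (I : Ideal A)
    (hI : I ≤ (⊥ : Ideal A).jacobson) (f : A) (hf : f ∈ I) :
    IsJacobsonRing (Localization.Away f) := by
  classical
  set B := Localization.Away f with hB
  haveI : IsNoetherianRing B := IsLocalization.isNoetherianRing (Submonoid.powers f) B inferInstance
  by_contra hn
  obtain ⟨p', hp', hnm, hfin, -⟩ := exists_prime_of_not_jacobson hn
  haveI := hp'
  -- a maximal ideal strictly above p'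
  obtain ⟨m', hm', hpm'⟩ := Ideal.exists_le_maximal p' hp'.ne_top
  have hlt' : p' < m' := lt_of_le_of_ne hpm' (fun h => hnm (h ▸ hm'))
  haveI := hm'.isPrime
  let φ : A →+* B := algebraMap A B
  let p : Ideal A := p'.comap φ
  let q : Ideal A := m'.comap φ
  haveI : p.IsPrime := Ideal.comap_isPrime φ p'
  haveI : q.IsPrime := Ideal.comap_isPrime φ m'
  have hfunit : IsUnit (φ f) := IsLocalization.Away.algebraMap_isUnit f
  have hfnot : ∀ J : Ideal B, J.IsPrime → f ∉ J.comap φ := by
    intro J hJ hfJ
    exact hJ.ne_top (Ideal.eq_top_of_isUnit_mem _ hfJ hfunit)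
  have hpq : p < q := by
    refine lt_of_le_of_ne (Ideal.comap_mono hpm') ?_
    intro h
    have h1 : Ideal.map φ p = p' := IsLocalization.map_under (Submonoid.powers f) B p'
    have h2 : Ideal.map φ q = m' := IsLocalization.map_under (Submonoid.powers f) B m'
    rw [h] at h1
    exact hlt'.ne (h1.symm.trans h2)
  obtain ⟨n, hn, hqn⟩ := Ideal.exists_le_maximal q (Ideal.IsPrime.ne_top inferInstance)
  haveI := hn.isPrime
  have hfn : f ∈ n := by
    have := hI hf
    rw [Ideal.jacobson, Ideal.mem_sInf] at this
    exact this ⟨bot_le, hn⟩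
  -- pass to the quotient D = A / p
  let π : A →+* A ⧸ p := Ideal.Quotient.mk p
  have hπ : Function.Surjective π := Ideal.Quotient.mk_surjective
  have hker : RingHom.ker π = p := Ideal.mk_ker
  have hkq : RingHom.ker π ≤ q := hker.le.trans hpq.le
  have hkn : RingHom.ker π ≤ n := hkq.trans hqn
  haveI hqbar : (q.map π).IsPrime := Ideal.map_isPrime_of_surjective hπ hkq
  haveI hnbar : (n.map π).IsPrime := Ideal.map_isPrime_of_surjective hπ hkn
  have hcq : (q.map π).comap π = q := by
    rw [Ideal.comap_map_of_surjective π hπ, sup_eq_left, ← RingHom.ker_eq_comap_bot]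
    exact hkq
  have hcn : (n.map π).comap π = n := by
    rw [Ideal.comap_map_of_surjective π hπ, sup_eq_left, ← RingHom.ker_eq_comap_bot]
    exact hkn
  have hq0 : q.map π ≠ ⊥ := by
    intro h0
    rw [h0, ← RingHom.ker_eq_comap_bot, hker] at hcq
    exact hpq.ne hcq
  have hqn' : q.map π < n.map π := by
    refine lt_of_le_of_ne (Ideal.map_mono hqn) ?_
    intro h
    have : q = n := by rw [← hcq, ← hcn, h]
    apply hfnot m' inferInstance
    change f ∈ q
    rw [this]
    exact hfn
  have h2 : 2 ≤ (n.map π).height := by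
    have h1 := Ideal.height_add_one_le_of_lt_of_isPrime hqn'
    have h0 : 1 ≤ (q.map π).height := by
      rw [Order.one_le_iff_pos, pos_iff_ne_zero]
      intro h
      exact hq0 (Ideal.height_eq_zero_iff_eq_bot.mp h)
    calc (2 : ℕ∞) = 1 + 1 := one_add_one_eq_two.symm
      _ ≤ (q.map π).height + 1 := by gcongr
      _ ≤ _ := h1
  have hf0 : π f ≠ 0 := by
    intro h
    have : f ∈ RingHom.ker π := h
    rw [hker] at this
    exact hfnot p' inferInstance this
  have hinf := infinite_height_one (n.map π) h2
  have hfinf := finite_height_one_mem (π f) hf0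
  have hSinf := hinf.sdiff hfinf
  apply hSinf
  -- the set injects into V(p')
  have hinj : Set.InjOn (PrimeSpectrum.comap π)
      ({P | P.asIdeal.height = 1 ∧ P.asIdeal ≤ n.map π} \
        {P | P.asIdeal.height = 1 ∧ π f ∈ P.asIdeal}) :=
    (PrimeSpectrum.comap_injective_of_surjective π hπ).injOn
  refine Set.Finite.of_finite_image ?_ hinj
  refine (hfin.image (PrimeSpectrum.comap φ)).subset ?_
  rintro _ ⟨Pbar, ⟨⟨hP1, -⟩, hP2⟩, rfl⟩
  have hfP : f ∉ (PrimeSpectrum.comap π Pbar).asIdeal := by
    intro hfP
    exact hP2 ⟨hP1, hfP⟩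
  have hd := disjoint_powers f (PrimeSpectrum.comap π Pbar).asIdeal hfP
  have hprime : ((PrimeSpectrum.comap π Pbar).asIdeal.map φ).IsPrime :=
    IsLocalization.isPrime_of_isPrime_disjoint (Submonoid.powers f) B _
      (PrimeSpectrum.comap π Pbar).isPrime hd
  refine ⟨⟨_, hprime⟩, ?_, ?_⟩
  · change p' ≤ (PrimeSpectrum.comap π Pbar).asIdeal.map φ
    have h1 : Ideal.map φ p = p' := IsLocalization.map_under (Submonoid.powers f) B p'
    rw [← h1]
    apply Ideal.map_mono
    change p ≤ Pbar.asIdeal.comap π
    exact hker.ge.trans (Ideal.ker_le_comap π)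
  · apply PrimeSpectrum.ext
    exact IsLocalization.under_map_of_isPrime_disjoint (Submonoid.powers f) B
      (PrimeSpectrum.comap π Pbar).isPrime hd

end

/-- Let A be a Noetherian ring and I an ideal contained in the Jacobson radical of A (a Zariski pair).
Then for every f in I the localization A_f is a Jacobson ring. -/
theorem result (A : Type u) [CommRing A] [IsNoetherianRing A] (I : Ideal A)
    (hI : I ≤ (⊥ : Ideal A).jacobson) (f : A) (hf : f ∈ I) : IsJacobsonRing (Localization.Away f) := by
  exact Groth.Agent.S2011.main A I hI f hf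

end Groth.Agent.S2011
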