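import Groth.Statements.S2012
import Mathlib.RingTheory.Ideal.Pure
import Mathlib.RingTheory.Nakayama
import Mathlib.RingTheory.IntegralClosure.IsIntegralClosure.Basic

set_option autoImplicit false
universe u
open EtAlg

namespace Groth.Agent.S2012

/-- Let A be a ring and I an ideal contained in its Jacobson radical. Let B be an A-algebra which is
flat, integral and of finite presentation over A and such that A/I -> B/IB is bijective. Then A -> B
is bijective. -/
theorem result (A B : Type u) [CommRing A] [CommRing B] [Algebra A B]
    (I : Ideal A) (hI : I ≤ (⊥ : Ideal A).jacobson) [Module.Flat A B] [Algebra.IsIntegral A B] [Algebra.FinitePresentation A B]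
    (hq : Function.Bijective (Ideal.quotientMap (I.map (algebraMap A B)) (algebraMap A B) Ideal.le_comap_map)) :
    Function.Bijective (algebraMap A B) := by
  classical
  have hfin : Module.Finite A B := Algebra.IsIntegral.finite
  -- surjectivity by Nakayama
  have hsurj : Function.Surjective (algebraMap A B) := by
    have hle : (⊤ : Submodule A B) ≤ LinearMap.range (Algebra.linearMap A B) :=
      Submodule.le_of_le_smul_of_le_jacobson_bot (I := I) hfin.fg_top hI (by
        intro b _
        obtain ⟨a, ha⟩ := hq.2 (Ideal.Quotient.mk _ b)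
        obtain ⟨a, rfl⟩ := Ideal.Quotient.mk_surjective a
        rw [Ideal.quotientMap_mk, Ideal.Quotient.eq] at ha
        have h2 : b - algebraMap A B a ∈ I • (⊤ : Submodule A B) := by
          rw [Ideal.smul_top_eq_map]
          have := Ideal.neg_mem_iff _ |>.2 ha
          simpa using this
        have : b = algebraMap A B a + (b - algebraMap A B a) := by ring
        rw [this]
        exact Submodule.add_mem_sup ⟨a, rfl⟩ h2)
    intro b
    obtain ⟨a, ha⟩ := hle (Submodule.mem_top : b ∈ ⊤)
    exact ⟨a, ha⟩
  refine ⟨?_, hsurj⟩
  set K := RingHom.ker (algebraMap A B) with hK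
  have hKfg : K.FG :=
    Algebra.FinitePresentation.ker_fG_of_surjective (Algebra.ofId A B) hsurj
  have hKI : K ≤ I := by
    intro x hx
    have h0 : Ideal.quotientMap (I.map (algebraMap A B)) (algebraMap A B) Ideal.le_comap_map
        (Ideal.Quotient.mk I x) = 0 := by
      rw [Ideal.quotientMap_mk, (RingHom.mem_ker).1 hx, map_zero]
    have := hq.1 (h0.trans (map_zero _).symm)
    exact Ideal.Quotient.eq_zero_iff_mem.1 this
  have hflat : Module.Flat A (A ⧸ K) := by
    have e : (A ⧸ K) ≃ₗ[A] B :=
      (LinearMap.quotKerEquivOfSurjective (Algebra.linearMap A B) hsurj)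
    exact Module.Flat.of_linearEquiv e
  have hKK : K ≤ I • K := by
    have := Ideal.inf_eq_mul_of_pure K I
    rw [smul_eq_mul, mul_comm, ← this]
    exact le_inf le_rfl hKI
  have hbot : K = ⊥ := Submodule.eq_bot_of_le_smul_of_le_jacobson_bot I K hKfg hKK hI
  exact (RingHom.injective_iff_ker_eq_bot _).2 hbot

end Groth.Agent.S2012
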