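import Groth.Statements.S7117
import Groth.Agent.Lib.Helper12.SopLength
import Groth.Agent.Lib.Helper12.SamuelAssoc

set_option autoImplicit false
universe u
open CAlg

namespace Groth.Agent.S7117

/-- Let R be a Noetherian local ring of Krull dimension d with maximal ideal m, and suppose g_1, ...,
g_d in m form a system of parameters (they generate an ideal with radical m). Then the number of
minimal prime ideals p of R with R/p of Krull dimension d is at most the length of R/(g_1, ...,
g_d). -/
theorem result (R : Type u) [CommRing R] [IsNoetherianRing R] [IsLocalRing R]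
    (d : ℕ) (hd : ringKrullDim R = d) (g : Fin d → R) (hg : ∀ i, g i ∈ IsLocalRing.maximalIdeal R)
    (hsop : IsLocalRing.maximalIdeal R ≤ (Ideal.span (Set.range g)).radical) :
    (Set.ncard {p : Ideal R | p ∈ minimalPrimes R ∧ ringKrullDim (R ⧸ p) = d} : ℕ∞) ≤
      Module.length R (R ⧸ Ideal.span (Set.range g)) := by
  open Groth.Agent.Helper12 Groth.Agent.Helper12.KoszEuler Groth.Agent.Helper12.HK
    Groth.Agent.Helper12.SamuelAssoc IsLocalRing Filter Topology in
  classical
  set q : Ideal R := Ideal.span (Set.range g) with hq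
  obtain ⟨N, hN⟩ : ∃ N : ℕ, maximalIdeal R ^ N ≤ q :=
    Ideal.exists_pow_le_of_le_radical_of_fg hsop (IsNoetherian.noetherian _)
  have hfl : ∀ (M : Type u) [AddCommGroup M] [Module R M] [Module.Finite R M],
      IsFiniteLength R (M ⧸ (q • (⊤ : Submodule R M))) := by
    intro M _ _ _
    rw [← Module.length_ne_top_iff]
    exact ne_top_of_le_ne_top (E_pow_eq_sam (M := M) N).1 (E_anti hN)
  -- the limits
  have hlimR := tendsto_samuel_chi (M := R) g (hfl R)
  set e : PrimeSpectrum R → ℝ := fun p => ((chi (R ⧸ p.asIdeal) (List.ofFn g) : ℤ) : ℝ) with he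
  have hlimp : ∀ p : PrimeSpectrum R, ringKrullDim (R ⧸ p.asIdeal) = d →
      Tendsto (fun t : ℕ => (d.factorial : ℝ) * ((E (q ^ t) (R ⧸ p.asIdeal)).toNat : ℝ) / (t : ℝ) ^ d)
        atTop (𝓝 (e p)) := fun p _ => tendsto_samuel_chi (M := R ⧸ p.asIdeal) g (hfl _)
  have hdimR : Module.supportDim R R ≤ d := by
    rw [Module.supportDim_self_eq_ringKrullDim, hd]
  have hassoc := assoc_formula q ⟨N, hN⟩ d e hlimp R hdimR
  have huniq := tendsto_nhds_unique hlimR hassoc
  -- the index set
  set T : Set (PrimeSpectrum R) := {p | ringKrullDim (R ⧸ p.asIdeal) = d} with hT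
  have hann : Module.annihilator R R = ⊥ :=
    Module.annihilator_eq_bot.mpr ((faithfulSMul_iff_algebraMap_injective R R).mpr fun {a₁ a₂} a ↦ a)
  have hwt : ∀ p ∈ T, 1 ≤ wt p R := by
    intro p hp
    unfold wt
    have hsupp : p ∈ Module.support R R := by
      rw [Module.mem_support_iff_of_finite, hann]
      exact bot_le
    have : Nontrivial (LocalizedModule p.asIdeal.primeCompl R) := Module.mem_support_iff.mp hsupp
    have h0 : lenAt p R ≠ 0 := by
      unfold lenAt
      rw [Ne, Module.length_eq_zero_iff]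
      exact not_subsingleton _
    have h1 : lenAt p R ≠ ⊤ := lenAt_ne_top R d hdimR p hp
    have h2 : (lenAt p R).toNat ≠ 0 := fun h => (ENat.toNat_eq_zero.mp h).elim h0 h1
    have h3 : 1 ≤ (lenAt p R).toNat := Nat.one_le_iff_ne_zero.mpr h2
    exact_mod_cast h3
  have hmin : ∀ p ∈ T, p.asIdeal ∈ minimalPrimes R := by
    intro p hp
    have h1 : wt p R ≠ 0 := by
      have := hwt p hp
      intro h
      rw [h] at this
      linarith
    have := mem_minimalPrimes_of_wt_ne_zero R d hdimR p hp h1
    rwa [hann] at this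
  have hTfin : T.Finite := by
    have := (Ideal.finite_minimalPrimes_of_isNoetherianRing R ⊥).preimage
      (f := PrimeSpectrum.asIdeal) (fun p _ q _ h => PrimeSpectrum.ext h)
    exact this.subset fun p hp => hmin p hp
  have he1 : ∀ p ∈ T, 1 ≤ e p := by
    intro p hp
    have hflq : FLQ (R ⧸ p.asIdeal) (Ideal.span (Set.range g)) := (flq_iff _).mpr (hfl _)
    have hdimp : Module.supportDim R (R ⧸ p.asIdeal) = (d : WithBot ℕ∞) := by
      rw [Module.supportDim_quotient_eq_ringKrullDim]
      exact hp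
    have := chi_pos_of_supportDim_eq d g hg (R ⧸ p.asIdeal) hflq hdimp
    have h2 : (1 : ℤ) ≤ chi (R ⧸ p.asIdeal) (List.ofFn g) := this
    show (1 : ℝ) ≤ ((chi (R ⧸ p.asIdeal) (List.ofFn g) : ℤ) : ℝ)
    exact_mod_cast h2
  -- lower bound
  have hsum : (hTfin.toFinset.card : ℝ) ≤ ∑ᶠ p ∈ T, wt p R * e p := by
    rw [finsum_mem_eq_finite_toFinset_sum _ hTfin]
    have : (hTfin.toFinset.card : ℝ) = ∑ p ∈ hTfin.toFinset, (1 : ℝ) := by simp
    rw [this]
    refine Finset.sum_le_sum fun p hp => ?_
    have hp' : p ∈ T := hTfin.mem_toFinset.mp hp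
    have h1 := hwt p hp'
    have h2 := he1 p hp'
    nlinarith
  -- upper bound
  have hupper := SopLength.chi_le_length g R (hfl R)
  have hquot : Module.length R (R ⧸ (q • (⊤ : Submodule R R))) =
      Module.length R (R ⧸ q) := by
    have h : (q • (⊤ : Submodule R R) : Submodule R R) = q := by
      rw [Ideal.smul_top_eq_map]
      simp
    exact (Submodule.quotEquivOfEq _ _ h).length_eq
  have hne : Module.length R (R ⧸ q) ≠ ⊤ := by
    rw [← hquot]
    exact Module.length_ne_top_iff.mpr (hfl R)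
  -- the count
  have hcard : Set.ncard {p : Ideal R | p ∈ minimalPrimes R ∧ ringKrullDim (R ⧸ p) = d} =
      hTfin.toFinset.card := by
    rw [← Set.ncard_coe_finset, Set.Finite.coe_toFinset]
    have himg : {p : Ideal R | p ∈ minimalPrimes R ∧ ringKrullDim (R ⧸ p) = d} =
        PrimeSpectrum.asIdeal '' T := by
      ext p
      constructor
      · rintro ⟨hp1, hp2⟩
        exact ⟨⟨p, hp1.1.1⟩, hp2, rfl⟩
      · rintro ⟨p', hp', rfl⟩
        exact ⟨hmin p' hp', hp'⟩
    rw [himg]
    exact Set.ncard_image_of_injective _ (fun p q h => PrimeSpectrum.ext h)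
  rw [hcard]
  have hfin : ((hTfin.toFinset.card : ℤ) : ℝ) ≤ ((chi R (List.ofFn g) : ℤ) : ℝ) := by
    rw [huniq]
    exact_mod_cast hsum
  have hfin' : (hTfin.toFinset.card : ℤ) ≤ chi R (List.ofFn g) := by exact_mod_cast hfin
  have h3 : (hTfin.toFinset.card : ℤ) ≤
      ((Module.length R (R ⧸ (q • (⊤ : Submodule R R)))).toNat : ℤ) := hfin'.trans hupper
  rw [hquot] at h3
  have h4 : hTfin.toFinset.card ≤ (Module.length R (R ⧸ q)).toNat := by exact_mod_cast h3
  calc ((hTfin.toFinset.card : ℕ) : ℕ∞) ≤ (((Module.length R (R ⧸ q)).toNat : ℕ) : ℕ∞) := by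
        exact_mod_cast h4
    _ = Module.length R (R ⧸ q) := ENat.natCast_toNat hne

end Groth.Agent.S7117
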