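import Groth.Statements.S7119
import Mathlib
import Groth.Agent.S14359
import Groth.Agent.S7116
import Groth.Agent.Lib.Lead.SOP1
-- import your own Groth.Agent.* helpers here

set_option autoImplicit false
universe u
open CAlg

namespace Groth.Agent.S7119

section
open IsLocalRing

variable {R : Type u} [CommRing R] [IsDomain R] [IsNoetherianRing R]

/-- (E): divisibility can be checked at the height-one primes (normal Noetherian domain). -/
lemma dvd_of_local [IsIntegrallyClosed R] (y : R) (hy : y ≠ 0) (x : R)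
    (H : ∀ q : Ideal R, q.IsPrime → q.height = 1 → y ∈ q → ∃ r, r ∉ q ∧ r * x ∈ Ideal.span {y}) :
    x ∈ Ideal.span {y} := by
  by_contra hx
  have hne : (Ideal.Quotient.mk (Ideal.span {y}) x) ≠ 0 := by
    rwa [Ne, Ideal.Quotient.eq_zero_iff_mem]
  obtain ⟨P, hP, hle⟩ := exists_le_isAssociatedPrime_of_isNoetherianRing R
    (M := R ⧸ Ideal.span {y}) (Ideal.Quotient.mk (Ideal.span {y}) x) hne
  have hPht : P.height = 1 := Groth.Agent.S14359.result R y hy P hP
  have hPprime : P.IsPrime := hP.isPrime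
  have hyP : y ∈ P := by
    apply hle
    rw [Submodule.mem_colon_singleton]
    show y • (Ideal.Quotient.mk (Ideal.span {y}) x) ∈ (⊥ : Submodule R (R ⧸ Ideal.span {y}))
    rw [Submodule.mem_bot, ← Ideal.Quotient.mk_eq_mk, ← Submodule.Quotient.mk_smul,
      Ideal.Quotient.mk_eq_mk, Ideal.Quotient.eq_zero_iff_mem, smul_eq_mul]
    exact Ideal.mul_mem_right _ _ (Ideal.mem_span_singleton_self y)
  obtain ⟨r, hr, hrx⟩ := H P hPprime hPht hyP
  apply hr
  apply hle
  rw [Submodule.mem_colon_singleton]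
  show r • (Ideal.Quotient.mk (Ideal.span {y}) x) ∈ (⊥ : Submodule R (R ⧸ Ideal.span {y}))
  rw [Submodule.mem_bot, ← Ideal.Quotient.mk_eq_mk, ← Submodule.Quotient.mk_smul,
    Ideal.Quotient.mk_eq_mk, Ideal.Quotient.eq_zero_iff_mem, smul_eq_mul]
  exact hrx

/-- the localization at a height-one prime has principal maximal ideal -/
lemma exists_local_generator [IsIntegrallyClosed R] (q : Ideal R) [hq : q.IsPrime]
    (hht : q.height = 1) :
    ∃ π₀ ∈ q, ∀ x ∈ q, ∃ r, r ∉ q ∧ r * x ∈ Ideal.span {π₀} := by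
  let Rq := Localization.AtPrime q
  have hic : IsIntegrallyClosed Rq :=
    isIntegrallyClosed_of_isLocalization Rq q.primeCompl
      (fun x hx => mem_nonZeroDivisors_of_ne_zero (fun h0 => hx (h0 ▸ q.zero_mem)))
  have hdim : ringKrullDim Rq = 1 := by
    rw [IsLocalization.AtPrime.ringKrullDim_eq_height q Rq, hht]; rfl
  have h1 : Ring.KrullDimLE 1 Rq := Ring.krullDimLE_iff.mpr hdim.le
  have hmax := Ring.krullDimLE_one_iff_of_noZeroDivisors.mp h1
  have hprinc : (maximalIdeal Rq).IsPrincipal := by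
    have h34 := (tfae_of_isNoetherianRing_of_isLocalRing_of_isDomain Rq).out 3 4
    refine h34.mp ⟨hic, fun P hP0 hPprime => ?_⟩
    exact IsLocalRing.eq_maximalIdeal (hmax P hP0 hPprime)
  obtain ⟨ϖ, hϖ⟩ := hprinc.principal
  obtain ⟨a, t, rfl⟩ := IsLocalization.exists_mk'_eq q.primeCompl ϖ
  have hunit : IsUnit (algebraMap R Rq (t : R)) := IsLocalization.map_units Rq t
  have hspan : maximalIdeal Rq = Ideal.span {algebraMap R Rq a} := by
    rw [hϖ]
    apply le_antisymm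
    · rw [Submodule.span_singleton_le_iff_mem, Submodule.mem_span_singleton]
      refine ⟨hunit.unit⁻¹.1, ?_⟩
      rw [smul_eq_mul, Units.inv_mul_eq_iff_eq_mul, IsUnit.unit_spec, mul_comm]
      exact (IsLocalization.mk'_spec Rq a t).symm
    · rw [Submodule.span_singleton_le_iff_mem, Submodule.mem_span_singleton]
      refine ⟨algebraMap R Rq (t : R), ?_⟩
      rw [smul_eq_mul, mul_comm]
      exact IsLocalization.mk'_spec Rq a t
  have haq : a ∈ q := by
    rw [← IsLocalization.AtPrime.to_map_mem_maximal_iff Rq q a, hspan]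
    exact Ideal.mem_span_singleton_self _
  refine ⟨a, haq, fun x hx => ?_⟩
  have hxm : algebraMap R Rq x ∈ maximalIdeal Rq :=
    (IsLocalization.AtPrime.to_map_mem_maximal_iff Rq q x).mpr hx
  rw [hspan, Ideal.mem_span_singleton'] at hxm
  obtain ⟨b, hb⟩ := hxm
  obtain ⟨b', u, rfl⟩ := IsLocalization.exists_mk'_eq q.primeCompl b
  refine ⟨(u : R), u.2, ?_⟩
  rw [Ideal.mem_span_singleton']
  refine ⟨b', ?_⟩
  have hinj : Function.Injective (algebraMap R Rq) :=
    IsLocalization.injective Rq (M := q.primeCompl) (fun y hy => mem_nonZeroDivisors_of_ne_zero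
      (fun h0 => hy (h0 ▸ q.zero_mem)))
  apply hinj
  rw [map_mul, map_mul, ← hb, ← mul_assoc, mul_comm (algebraMap R Rq (u : R)),
    IsLocalization.mk'_spec]

omit [IsDomain R] [IsNoetherianRing R] in
lemma eq_of_le_of_height_one {p q : Ideal R} [p.IsPrime] [q.IsPrime] (hp : p.height = 1)
    (hq : q.height = 1) (h : p ≤ q) : p = q := by
  by_contra hne
  have hlt : p < q := lt_of_le_of_ne h hne
  have hfin : q.FiniteHeight := q.finiteHeight_iff.mpr (Or.inr (by rw [hq]; exact ENat.one_ne_top))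
  have := Ideal.height_strict_mono_of_isPrime_of_isPrime hlt
  rw [hp, hq] at this
  exact lt_irrefl _ this

omit [IsDomain R] in
/-- bound for the number of height-one primes over `f'` in terms of a coheight -/
lemma card_le_coheight [IsLocalRing R] (g₀ : R) (hg₀ : g₀ ∈ maximalIdeal R) (f' : R)
    (T : Finset (Ideal R))
    (hT : ∀ q ∈ T, q.IsPrime ∧ q.height = 1 ∧ f' ∈ q ∧ g₀ ∉ q) :
    (T.card : ℕ∞) ≤ Order.coheight (Ideal.span {f', g₀}) := by
  classical
  have key : ∀ T : Finset (Ideal R), (∀ q ∈ T, q.IsPrime ∧ q.height = 1 ∧ f' ∈ q ∧ g₀ ∉ q) →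
      (T.card : ℕ∞) ≤ Order.coheight (T.inf id ⊔ Ideal.span {g₀}) := by
    intro T
    induction T using Finset.induction_on with
    | empty => intro _; simp
    | insert q T hqT ih =>
      intro hT
      have hT' : ∀ q ∈ T, q.IsPrime ∧ q.height = 1 ∧ f' ∈ q ∧ g₀ ∉ q :=
        fun q' hq' => hT q' (Finset.mem_insert_of_mem hq')
      obtain ⟨hqp, hqh, hqf, hqg⟩ := hT q (Finset.mem_insert_self q T)
      have ih' := ih hT'
      rw [Finset.card_insert_of_notMem hqT, Finset.inf_insert, id]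
      have hlt : (q ⊓ T.inf id) ⊔ Ideal.span {g₀} < T.inf id ⊔ Ideal.span {g₀} := by
        refine lt_of_le_of_ne (sup_le_sup_right inf_le_right _) ?_
        intro heq
        -- Nakayama
        have h1 : T.inf id ≤ (q ⊓ T.inf id) ⊔ Ideal.span {g₀} • T.inf id := by
          intro x hx
          have hx' : x ∈ (q ⊓ T.inf id) ⊔ Ideal.span {g₀} := by
            rw [heq]; exact Ideal.mem_sup_left hx
          obtain ⟨y, hy, z, hz, rfl⟩ := Submodule.mem_sup.mp hx'
          obtain ⟨r, rfl⟩ := Ideal.mem_span_singleton'.mp hz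
          have hrg : r * g₀ ∈ T.inf id := by
            have := (T.inf id).sub_mem hx (hy.2)
            simpa using this
          have hr : r ∈ T.inf id := by
            rw [Submodule.mem_finsetInf] at hrg ⊢ 
            intro q' hq'
            obtain ⟨hq'p, _, _, hq'g⟩ := hT' q' hq'
            exact (hq'p.mem_or_mem (hrg q' hq')).resolve_right hq'g
          refine Submodule.mem_sup.mpr ⟨y, hy, r * g₀, ?_, rfl⟩
          rw [mul_comm]
          exact Submodule.smul_mem_smul (Ideal.mem_span_singleton_self g₀) hr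
        have h2 : T.inf id ≤ q ⊓ T.inf id :=
          Submodule.le_of_le_smul_of_le_jacobson_bot (IsNoetherian.noetherian _)
            (by
              rw [IsLocalRing.jacobson_eq_maximalIdeal ⊥ bot_ne_top]
              exact (Ideal.span_singleton_le_iff_mem _).mpr hg₀) h1
        have h3 : T.inf id ≤ q := h2.trans inf_le_left
        obtain ⟨q', hq'T, hq'q⟩ := (Ideal.IsPrime.inf_le' hqp).mp h3
        obtain ⟨hq'p, hq'h, _, _⟩ := hT' q' hq'T
        have : q' = q := eq_of_le_of_height_one hq'h hqh hq'q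
        exact hqT (this ▸ hq'T)
      calc ((T.card + 1 : ℕ) : ℕ∞) = (T.card : ℕ∞) + 1 := by push_cast; rfl
        _ ≤ Order.coheight (T.inf id ⊔ Ideal.span {g₀}) + 1 := by gcongr
        _ ≤ Order.coheight ((q ⊓ T.inf id) ⊔ Ideal.span {g₀}) := Order.coheight_add_one_le hlt
  refine (key T hT).trans (Order.coheight_anti ?_)
  rw [Ideal.span_insert]
  refine sup_le_sup_right ?_ _
  rw [Ideal.span_singleton_le_iff_mem, Submodule.mem_finsetInf]
  intro q hq
  exact (hT q hq).2.2.1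

omit [IsDomain R] [IsNoetherianRing R] in
lemma exists_notMem_of_primes (J : Ideal R) (A : Finset (Ideal R)) (hA : ∀ p ∈ A, p.IsPrime)
    (hJ : ∀ p ∈ A, ¬ J ≤ p) : ∃ y ∈ J, ∀ p ∈ A, y ∉ p := by
  by_contra hcon
  push Not at hcon
  have hsub : (J : Set R) ⊆ ⋃ p ∈ (↑A : Set (Ideal R)), (id p : Ideal R) := by
    intro y hy
    obtain ⟨p, hpA, hyp⟩ := hcon y hy
    exact Set.mem_biUnion (Finset.mem_coe.mpr hpA) hyp
  obtain ⟨p, hpA, hJp⟩ := (Ideal.subset_union_prime (f := id) ⊥ ⊥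
    (fun i hi _ _ => hA i hi)).mp hsub
  exact hJ p hpA hJp

/-- a local generator of `q` avoiding finitely many other height-one primes -/
lemma exists_avoiding_generator [IsIntegrallyClosed R] (q : Ideal R) [hq : q.IsPrime]
    (hht : q.height = 1) (T : Finset (Ideal R))
    (hT : ∀ p ∈ T, p.IsPrime ∧ p.height = 1 ∧ p ≠ q) :
    ∃ π ∈ q, (∀ p ∈ T, π ∉ p) ∧ ∀ x ∈ q, ∃ r, r ∉ q ∧ r * x ∈ Ideal.span {π} := by
  classical
  obtain ⟨π₀, hπ₀q, hπ₀⟩ := exists_local_generator q hht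
  let A := T.filter (fun p => π₀ ∈ p)
  let B := T.filter (fun p => π₀ ∉ p)
  have hAT : ∀ p ∈ A, p ∈ T := fun p hp => (Finset.mem_filter.mp hp).1
  have hBT : ∀ p ∈ B, p ∈ T := fun p hp => (Finset.mem_filter.mp hp).1
  obtain ⟨y₁, hy₁J, hy₁A⟩ := exists_notMem_of_primes (q ⊓ B.inf id) A
    (fun p hp => (hT p (hAT p hp)).1) (by
      intro p hp hle
      obtain ⟨hpp, hph, hpq⟩ := hT p (hAT p hp)
      rcases (hpp.inf_le).mp hle with h | h
      · exact hpq (eq_of_le_of_height_one hht hph h).symm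
      · obtain ⟨p', hp'B, hp'p⟩ := (Ideal.IsPrime.inf_le' hpp).mp h
        obtain ⟨hp'p', hp'h, _⟩ := hT p' (hBT p' hp'B)
        have : p' = p := eq_of_le_of_height_one hp'h hph hp'p
        have h1 : π₀ ∈ p := (Finset.mem_filter.mp hp).2
        have h2 : π₀ ∉ p' := (Finset.mem_filter.mp hp'B).2
        exact h2 (this ▸ h1))
  have hy₁q : y₁ ∈ q := hy₁J.1
  have hy₁B : ∀ p ∈ B, y₁ ∈ p := fun p hp => (Submodule.mem_finsetInf.mp hy₁J.2) p hp
  refine ⟨π₀ + y₁ ^ 2, q.add_mem hπ₀q (q.pow_mem_of_mem hy₁q 2 (by norm_num)), ?_, ?_⟩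
  · intro p hpT hmem
    obtain ⟨hpp, _, _⟩ := hT p hpT
    by_cases hπp : π₀ ∈ p
    · have hpA : p ∈ A := Finset.mem_filter.mpr ⟨hpT, hπp⟩
      have : y₁ ^ 2 ∈ p := by
        have := p.sub_mem hmem hπp
        simpa using this
      exact hy₁A p hpA (hpp.mem_of_pow_mem 2 this)
    · have hpB : p ∈ B := Finset.mem_filter.mpr ⟨hpT, hπp⟩
      have : π₀ ∈ p := by
        have := p.sub_mem hmem (p.pow_mem_of_mem (hy₁B p hpB) 2 (by norm_num))
        simpa using this
      exact hπp this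
  · intro x hx
    obtain ⟨r₁, hr₁, hr₁y⟩ := hπ₀ y₁ hy₁q
    obtain ⟨d₁, hd₁⟩ := Ideal.mem_span_singleton'.mp hr₁y
    obtain ⟨r, hr, hrx⟩ := hπ₀ x hx
    obtain ⟨d, hd⟩ := Ideal.mem_span_singleton'.mp hrx
    refine ⟨(r₁ ^ 2 + π₀ * d₁ ^ 2) * r, ?_, ?_⟩
    · intro hmem
      rcases hq.mem_or_mem hmem with h | h
      · have : r₁ ^ 2 ∈ q := by
          have := q.sub_mem h (q.mul_mem_right (d₁ ^ 2) hπ₀q)
          simpa using this
        exact hr₁ (hq.mem_of_pow_mem 2 this)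
      · exact hr h
    · rw [Ideal.mem_span_singleton']
      refine ⟨r₁ ^ 2 * d, ?_⟩
      have e1 : r₁ * y₁ = d₁ * π₀ := hd₁.symm
      have e2 : r * x = d * π₀ := hd.symm
      calc r₁ ^ 2 * d * (π₀ + y₁ ^ 2) = r₁ ^ 2 * (d * π₀) + d * (r₁ * y₁) ^ 2 := by ring
        _ = r₁ ^ 2 * (r * x) + d * (d₁ * π₀) ^ 2 := by rw [e1, e2]
        _ = r₁ ^ 2 * (r * x) + π₀ * d₁ ^ 2 * (d * π₀) := by ring
        _ = r₁ ^ 2 * (r * x) + π₀ * d₁ ^ 2 * (r * x) := by rw [e2]
        _ = (r₁ ^ 2 + π₀ * d₁ ^ 2) * r * x := by ring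

lemma height_maximalIdeal [IsLocalRing R] (hdim : ringKrullDim R = 2) :
    (maximalIdeal R).height = 2 := by
  have h := IsLocalRing.maximalIdeal_height_eq_ringKrullDim (R := R)
  rw [hdim] at h
  have h2 : ((maximalIdeal R).height : WithBot ℕ∞) = ((2 : ℕ∞) : WithBot ℕ∞) := h
  exact WithBot.coe_injective h2

omit [IsNoetherianRing R] in
lemma one_le_height_of_ne_bot (q : Ideal R) [q.IsPrime] (hq : q ≠ ⊥) : 1 ≤ q.height := by
  have hlt : (⊥ : Ideal R) < q := bot_lt_iff_ne_bot.mpr hq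
  haveI : (⊥ : Ideal R).IsPrime := Ideal.isPrime_bot
  by_cases hfin : q.height = ⊤
  · rw [hfin]; exact le_top
  · haveI : q.FiniteHeight := q.finiteHeight_iff.mpr (Or.inr hfin)
    have := Ideal.height_strict_mono_of_isPrime_of_isPrime hlt
    exact Order.one_le_iff_pos.mpr (lt_of_le_of_lt (zero_le) this)

/-- the height-one primes are not contained in `m`-avoidable unions: a new height-one prime -/
lemma exists_new_prime [IsLocalRing R] (hdim : ringKrullDim R = 2) (T : Finset (Ideal R))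
    (hT : ∀ q ∈ T, q.IsPrime ∧ q.height = 1) (hne : T.Nonempty) :
    ∃ q' : Ideal R, q'.IsPrime ∧ q'.height = 1 ∧ q' ∉ T := by
  obtain ⟨x, hxm, hxT⟩ := exists_notMem_of_primes (maximalIdeal R) T (fun q hq => (hT q hq).1)
    (by
      intro q hq hle
      have h1 := Ideal.height_mono hle
      rw [height_maximalIdeal hdim, (hT q hq).2] at h1
      exact absurd h1 (by decide))
  have hx0 : x ≠ 0 := by
    obtain ⟨q, hq⟩ := hne
    intro h0
    exact hxT q hq (h0 ▸ q.zero_mem)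
  obtain ⟨q', hq'min, _⟩ := Ideal.exists_minimalPrimes_le
    (I := Ideal.span {x}) (J := maximalIdeal R)
    ((Ideal.span_singleton_le_iff_mem _).mpr hxm)
  have hq'p : q'.IsPrime := hq'min.1.1
  have hxq' : x ∈ q' := hq'min.1.2 (Ideal.mem_span_singleton_self x)
  refine ⟨q', hq'p, ?_, ?_⟩
  · apply le_antisymm
    · exact Ideal.height_le_one_of_isPrincipal_of_mem_minimalPrimes _ _ hq'min
    · apply one_le_height_of_ne_bot
      intro hbot
      rw [hbot] at hxq'
      exact hx0 (by simpa using hxq')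
  · intro hq'T
    exact hxT q' hq'T hxq'

/-- the perturbation step: if `R/(f')` is not reduced, a perturbation of `f'` acquires a new
height-one prime while keeping the old ones -/
lemma perturb [IsLocalRing R] [IsIntegrallyClosed R] (hdim : ringKrullDim R = 2) (f' : R)
    (hf' : f' ≠ 0) (T : Finset (Ideal R))
    (hT : ∀ q : Ideal R, q ∈ T ↔ q.IsPrime ∧ q.height = 1 ∧ f' ∈ q)
    (hnr : ¬ (Ideal.span {f'}).IsRadical) (N : ℕ) :
    ∃ h' ∈ maximalIdeal R ^ N, (∀ q ∈ T, h' ∈ q) ∧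
      ∃ q₀ : Ideal R, q₀.IsPrime ∧ q₀.height = 1 ∧ q₀ ∉ T ∧ f' + h' ∈ q₀ := by
  classical
  -- step 1: a witness of non-reducedness
  obtain ⟨x, hxrad, hxn⟩ : ∃ x, x ∈ (Ideal.span {f'}).radical ∧ x ∉ Ideal.span {f'} := by
    by_contra hcon
    push Not at hcon
    exact hnr (fun x hx => hcon x hx)
  obtain ⟨n, hn⟩ := hxrad
  -- step 2: a height-one prime where `x` is not locally divisible by `f'`
  obtain ⟨q₁, hq₁p, hq₁h, hfq₁, hq₁x⟩ : ∃ q₁ : Ideal R, q₁.IsPrime ∧ q₁.height = 1 ∧ f' ∈ q₁ ∧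
      ∀ r, r ∉ q₁ → r * x ∉ Ideal.span {f'} := by
    by_contra hcon
    push Not at hcon
    exact hxn (dvd_of_local f' hf' x (fun q hqp hqh hfq => hcon q hqp hqh hfq))
  have hq₁T : q₁ ∈ T := (hT q₁).mpr ⟨hq₁p, hq₁h, hfq₁⟩
  have hxq₁ : x ∈ q₁ := by
    apply hq₁p.mem_of_pow_mem n
    exact (Ideal.span_singleton_le_iff_mem _).mpr hfq₁ hn
  -- step 4: a good local generator
  have hT' : ∀ p ∈ T.erase q₁, p.IsPrime ∧ p.height = 1 ∧ p ≠ q₁ := by
    intro p hp
    obtain ⟨hne, hpT⟩ := Finset.mem_erase.mp hp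
    obtain ⟨h1, h2, _⟩ := (hT p).mp hpT
    exact ⟨h1, h2, hne⟩
  obtain ⟨π, hπq₁, hπT', hπgen⟩ := exists_avoiding_generator q₁ hq₁h (T.erase q₁) hT'
  -- step 5: `s f' = c π²`
  obtain ⟨s, hs, c, hsc⟩ : ∃ s, s ∉ q₁ ∧ ∃ c, s * f' = c * π ^ 2 := by
    obtain ⟨s₁, hs₁, hs₁f⟩ := hπgen f' hfq₁
    obtain ⟨c₁, hc₁⟩ := Ideal.mem_span_singleton'.mp hs₁f
    by_cases hc₁q : c₁ ∈ q₁
    · obtain ⟨s₃, hs₃, hs₃c⟩ := hπgen c₁ hc₁q
      obtain ⟨c, hc⟩ := Ideal.mem_span_singleton'.mp hs₃c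
      refine ⟨s₃ * s₁, ?_, c, ?_⟩
      · intro h
        rcases hq₁p.mem_or_mem h with h | h
        · exact hs₃ h
        · exact hs₁ h
      · calc s₃ * s₁ * f' = s₃ * (s₁ * f') := by ring
          _ = s₃ * (c₁ * π) := by rw [hc₁]
          _ = (s₃ * c₁) * π := by ring
          _ = (c * π) * π := by rw [hc]
          _ = c * π ^ 2 := by ring
    · exfalso
      obtain ⟨s₂, hs₂, hs₂x⟩ := hπgen x hxq₁
      obtain ⟨d, hd⟩ := Ideal.mem_span_singleton'.mp hs₂x
      apply hq₁x (c₁ * s₂)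
      · intro h
        rcases hq₁p.mem_or_mem h with h | h
        · exact hc₁q h
        · exact hs₂ h
      · rw [Ideal.mem_span_singleton']
        refine ⟨d * s₁, ?_⟩
        calc d * s₁ * f' = d * (s₁ * f') := by ring
          _ = d * (c₁ * π) := by rw [hc₁]
          _ = c₁ * (d * π) := by ring
          _ = c₁ * (s₂ * x) := by rw [hd]
          _ = c₁ * s₂ * x := by ring
  -- step 6: a new prime
  have hTprime : ∀ q ∈ T, q.IsPrime ∧ q.height = 1 := fun q hq =>
    ⟨((hT q).mp hq).1, ((hT q).mp hq).2.1⟩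
  obtain ⟨q', hq'p, hq'h, hq'T⟩ := exists_new_prime hdim T hTprime ⟨q₁, hq₁T⟩
  -- step 7: the element `z₁`
  obtain ⟨z₁, hz₁J, hz₁q₁⟩ := exists_notMem_of_primes
    (maximalIdeal R ^ N ⊓ q' ⊓ (T.erase q₁).inf id) {q₁}
    (fun p hp => by rw [Finset.mem_singleton.mp hp]; exact hq₁p)
    (by
      intro p hp hle
      rw [Finset.mem_singleton.mp hp] at hle
      rcases (hq₁p.inf_le).mp hle with h | h
      · rcases (hq₁p.inf_le).mp h with h | h
        · have h1 := Ideal.height_mono (Ideal.IsPrime.le_of_pow_le h)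
          rw [height_maximalIdeal hdim, hq₁h] at h1
          exact absurd h1 (by decide)
        · exact hq'T ((eq_of_le_of_height_one hq'h hq₁h h) ▸ hq₁T)
      · obtain ⟨p', hp', hp'q⟩ := (Ideal.IsPrime.inf_le' hq₁p).mp h
        obtain ⟨h1, h2, h3⟩ := hT' p' hp'
        exact h3 (eq_of_le_of_height_one h2 hq₁h hp'q))
  have hz₁q₁' : z₁ ∉ q₁ := hz₁q₁ q₁ (Finset.mem_singleton_self q₁)
  have hz₁m : z₁ ∈ maximalIdeal R ^ N := hz₁J.1.1
  have hz₁q' : z₁ ∈ q' := hz₁J.1.2
  have hz₁T' : ∀ p ∈ T.erase q₁, z₁ ∈ p := fun p hp => (Submodule.mem_finsetInf.mp hz₁J.2) p hp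
  -- step 8: the perturbation
  have hh'T : ∀ q ∈ T, π * c * z₁ ∈ q := by
    intro q hq
    by_cases hqq : q = q₁
    · rw [hqq]
      exact q₁.mul_mem_right _ (q₁.mul_mem_right _ hπq₁)
    · exact q.mul_mem_left _ (hz₁T' q (Finset.mem_erase.mpr ⟨hqq, hq⟩))
  refine ⟨π * c * z₁, Ideal.mul_mem_left _ _ hz₁m, hh'T, ?_⟩
  by_contra hcon
  push Not at hcon
  -- all height-one primes over `f''` are in `T`
  have hall : ∀ q₀ : Ideal R, q₀.IsPrime → q₀.height = 1 → f' + π * c * z₁ ∈ q₀ → q₀ ∈ T := by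
    intro q₀ h1 h2 h3
    by_contra h4
    exact hcon q₀ h1 h2 h4 h3
  have hid : (π + s * z₁) * f' = π * (f' + π * c * z₁) := by
    calc (π + s * z₁) * f' = π * f' + z₁ * (s * f') := by ring
      _ = π * f' + z₁ * (c * π ^ 2) := by rw [hsc]
      _ = π * (f' + π * c * z₁) := by ring
  have hvT : ∀ q ∈ T, π + s * z₁ ∉ q := by
    intro q hq hmem
    obtain ⟨hqp, _, _⟩ := (hT q).mp hq
    by_cases hqq : q = q₁
    · rw [hqq] at hmem
      have : s * z₁ ∈ q₁ := by
        have := q₁.sub_mem hmem hπq₁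
        simpa using this
      rcases hq₁p.mem_or_mem this with h | h
      · exact hs h
      · exact hz₁q₁' h
    · have hqe : q ∈ T.erase q₁ := Finset.mem_erase.mpr ⟨hqq, hq⟩
      have : π ∈ q := by
        have := q.sub_mem hmem (q.mul_mem_left s (hz₁T' q hqe))
        simpa using this
      exact hπT' q hqe this
  have hf''0 : f' + π * c * z₁ ≠ 0 := by
    intro h0
    rw [h0, mul_zero] at hid
    rcases mul_eq_zero.mp hid with h | h
    · exact hvT q₁ hq₁T (h ▸ q₁.zero_mem)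
    · exact hf' h
  have hdvd : f' ∈ Ideal.span {f' + π * c * z₁} := by
    apply dvd_of_local _ hf''0
    intro q hqp hqh hfq
    refine ⟨π + s * z₁, hvT q (hall q hqp hqh hfq), ?_⟩
    rw [hid]
    exact Ideal.mul_mem_left _ _ (Ideal.mem_span_singleton_self _)
  obtain ⟨w, hw⟩ := Ideal.mem_span_singleton'.mp hdvd
  have hvw : (π + s * z₁) * w = π := by
    apply mul_right_cancel₀ hf''0
    rw [mul_assoc, hw, hid]
  by_cases hwu : IsUnit w
  · obtain ⟨w', hw'⟩ := hwu.exists_right_inv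
    apply hvT q₁ hq₁T
    have : π + s * z₁ = π * w' := by
      calc π + s * z₁ = (π + s * z₁) * (w * w') := by rw [hw', mul_one]
        _ = ((π + s * z₁) * w) * w' := by ring
        _ = π * w' := by rw [hvw]
    rw [this]
    exact q₁.mul_mem_right _ hπq₁
  · have hwm : w ∈ maximalIdeal R := (IsLocalRing.mem_maximalIdeal w).mpr hwu
    have hu : IsUnit (1 - w) := by
      by_contra h
      have h1 : 1 - w ∈ maximalIdeal R := (IsLocalRing.mem_maximalIdeal _).mpr h
      have : (1 : R) ∈ maximalIdeal R := by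
        have := (maximalIdeal R).add_mem h1 hwm
        simp at this
      exact (Ideal.ne_top_iff_one _).mp (IsLocalRing.maximalIdeal.isMaximal R).ne_top this
    obtain ⟨u', hu'⟩ := hu.exists_right_inv
    have hh' : π * c * z₁ = (f' + π * c * z₁) * (1 - w) := by
      rw [mul_sub, mul_one, mul_comm _ w, hw]; ring
    have hf''q' : f' + π * c * z₁ ∈ q' := by
      have : f' + π * c * z₁ = (π * c * z₁) * u' := by
        calc f' + π * c * z₁ = (f' + π * c * z₁) * ((1 - w) * u') := by rw [hu', mul_one]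
          _ = ((f' + π * c * z₁) * (1 - w)) * u' := by ring
          _ = (π * c * z₁) * u' := by rw [← hh']
      rw [this]
      exact q'.mul_mem_right _ (q'.mul_mem_left _ hz₁q')
    exact hq'T (hall q' hq'p hq'h hf''q')

theorem main (R : Type u) [CommRing R] [IsDomain R]
    [IsNoetherianRing R] [IsLocalRing R] [IsIntegrallyClosed R] (hdim : ringKrullDim R = 2)
    (s : Finset (Ideal R)) (hs : ∀ p ∈ s, p.IsPrime ∧ p.height = 1) :
    ∃ f : R, f ≠ 0 ∧ (∀ p ∈ s, f ∈ p) ∧ IsReduced (R ⧸ Ideal.span {f}) := by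
  classical
  by_cases hse : s = ∅
  · refine ⟨1, one_ne_zero, by simp [hse], ?_⟩
    apply (Ideal.isRadical_iff_quotient_reduced _).mp
    rw [Ideal.span_singleton_one]
    intro x _
    exact Submodule.mem_top
  have hsne : s.Nonempty := Finset.nonempty_iff_ne_empty.mpr hse
  -- a nonzero element of all the primes
  have hex : ∀ p ∈ s, ∃ a : R, a ∈ p ∧ a ≠ 0 := by
    intro p hp
    obtain ⟨hpp, hph⟩ := hs p hp
    have hpne : p ≠ ⊥ := by
      intro h0
      rw [h0, Ideal.height_bot] at hph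
      exact zero_ne_one hph
    obtain ⟨a, ha, ha0⟩ := Submodule.exists_mem_ne_zero_of_ne_bot hpne
    exact ⟨a, ha, ha0⟩
  choose! a ha using hex
  set f₀ : R := ∏ p ∈ s, a p with hf₀def
  have hf₀0 : f₀ ≠ 0 := Finset.prod_ne_zero_iff.mpr (fun p hp => (ha p hp).2)
  have hf₀s : ∀ p ∈ s, f₀ ∈ p := fun p hp =>
    Ideal.mem_of_dvd p (Finset.dvd_prod_of_mem a hp) (ha p hp).1
  have hf₀m : f₀ ∈ maximalIdeal R := by
    obtain ⟨p, hp⟩ := hsne
    exact IsLocalRing.le_maximalIdeal (hs p hp).1.ne_top (hf₀s p hp)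
  have hmin : ∀ p ∈ minimalPrimes R, f₀ ∉ p := by
    intro p hp
    rw [IsDomain.minimalPrimes_eq_singleton_bot, Set.mem_singleton_iff] at hp
    rw [hp]
    simpa using hf₀0
  have hd : ringKrullDim R = ((2 : ℕ) : WithBot ℕ∞) := by rw [hdim]; rfl
  obtain ⟨g, hg1, hg2⟩ : ∃ g : Fin 1 → R, (∀ i, g i ∈ maximalIdeal R ^ (0 + 1)) ∧
      maximalIdeal R ≤ (Ideal.span (insert f₀ (Set.range g))).radical :=
    Groth.Agent.Lead.SOP.exists_sop 2 hd f₀ hf₀m hmin 0
  obtain ⟨N0, hN0⟩ := Ideal.exists_pow_le_of_le_radical_of_fg hg2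
    (IsNoetherian.noetherian (IsLocalRing.maximalIdeal R))
  set g₀ : R := g 0 with hg₀def
  have hrange : Set.range g = {g₀} := by
    ext y
    simp only [Set.mem_range, Set.mem_singleton_iff]
    constructor
    · rintro ⟨i, rfl⟩
      rw [hg₀def, Subsingleton.elim i 0]
    · rintro rfl
      exact ⟨0, rfl⟩
  have hg₀m : g₀ ∈ maximalIdeal R := by
    have := hg1 0
    rwa [zero_add, pow_one] at this
  set 𝔞 : Ideal R := Ideal.span {f₀, g₀} with h𝔞def
  rw [hrange] at hg2 hN0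
  have hspan : ∀ h ∈ maximalIdeal R ^ (N0 + 1), Ideal.span {f₀ + h, g₀} = 𝔞 := by
    intro h hh
    have := Groth.Agent.Lead.SOP.span_insert_add_eq f₀ g N0 (by rw [hrange]; exact hN0) h hh
    rwa [hrange] at this
  -- finiteness of the length
  have h𝔞m : 𝔞 ≤ maximalIdeal R := by
    rw [h𝔞def, Ideal.span_le]
    rintro y (rfl | rfl)
    · exact hf₀m
    · exact hg₀m
  have hmmin : maximalIdeal R ∈ 𝔞.minimalPrimes := by
    refine ⟨⟨inferInstance, h𝔞m⟩, ?_⟩
    rintro p' ⟨hp', hle⟩ _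
    exact hg2.trans ((Ideal.IsPrime.radical_le_iff hp').mpr hle)
  have hart : IsArtinianRing (R ⧸ 𝔞) :=
    IsLocalRing.quotient_artinian_of_mem_minimalPrimes_of_isLocalRing 𝔞 hmmin
  have hlen : Order.coheight 𝔞 ≠ ⊤ := by
    have h1 : Module.length R (R ⧸ 𝔞) = Module.length (R ⧸ 𝔞) (R ⧸ 𝔞) :=
      Module.length_eq_of_surjective Ideal.Quotient.mk_surjective
    have h2 : Module.length (R ⧸ 𝔞) (R ⧸ 𝔞) ≠ ⊤ := Module.length_ne_top
    rw [← h1, Module.length_quotient] at h2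
    exact h2
  set B : ℕ := (Order.coheight 𝔞).toNat with hBdef
  -- the family of perturbations
  let H : Set R := {h | h ∈ maximalIdeal R ^ (N0 + 1) ∧ ∀ p ∈ s, h ∈ p}
  let S : Set ℕ := {k | ∃ h ∈ H, ∃ T : Finset (Ideal R), T.card = k ∧
    ∀ q ∈ T, q.IsPrime ∧ q.height = 1 ∧ f₀ + h ∈ q}
  have hbound : ∀ h ∈ H, ∀ T : Finset (Ideal R),
      (∀ q ∈ T, q.IsPrime ∧ q.height = 1 ∧ f₀ + h ∈ q) → T.card ≤ B := by
    intro h hh T hT
    have h1 := card_le_coheight g₀ hg₀m (f₀ + h) T (by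
      intro q hq
      obtain ⟨hqp, hqh, hqf⟩ := hT q hq
      refine ⟨hqp, hqh, hqf, ?_⟩
      intro hgq
      have hle : 𝔞 ≤ q := by
        rw [← hspan h hh.1, Ideal.span_le]
        rintro y (rfl | rfl)
        · exact hqf
        · exact hgq
      have hmq : maximalIdeal R ≤ q := hg2.trans ((Ideal.IsPrime.radical_le_iff hqp).mpr hle)
      have h2 := Ideal.height_mono hmq
      rw [height_maximalIdeal hdim, hqh] at h2
      exact absurd h2 (by decide))
    rw [hspan h hh.1] at h1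
    rw [hBdef]
    exact (ENat.natCast_le_natCast).mp (by rw [ENat.natCast_toNat hlen]; exact h1)
  have hSne : S.Nonempty := ⟨0, 0, ⟨Ideal.zero_mem _, fun p _ => p.zero_mem⟩, ∅, rfl, by simp⟩
  have hSbdd : BddAbove S := ⟨B, by
    rintro k ⟨h, hh, T, rfl, hT⟩
    exact hbound h hh T hT⟩
  obtain ⟨h, hh, T, hTcard, hT⟩ := Nat.sSup_mem hSne hSbdd
  -- `T` is the full set of height-one primes over `f₀ + h`
  have hfull : ∀ q : Ideal R, q ∈ T ↔ q.IsPrime ∧ q.height = 1 ∧ f₀ + h ∈ q := by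
    intro q
    refine ⟨fun hq => hT q hq, fun hq => ?_⟩
    by_contra hqT
    have hmem : (insert q T).card ∈ S := ⟨h, hh, insert q T, rfl, by
      intro q' hq'
      rcases Finset.mem_insert.mp hq' with rfl | hq'
      · exact hq
      · exact hT q' hq'⟩
    have := le_csSup hSbdd hmem
    rw [Finset.card_insert_of_notMem hqT, ← hTcard] at this
    omega
  have hsT : ∀ p ∈ s, p ∈ T := fun p hp =>
    (hfull p).mpr ⟨(hs p hp).1, (hs p hp).2, p.add_mem (hf₀s p hp) (hh.2 p hp)⟩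
  have hf0 : f₀ + h ≠ 0 := by
    intro h0
    obtain ⟨p, hp⟩ := hsne
    obtain ⟨q', hq'p, hq'h, hq'T⟩ := exists_new_prime hdim T
      (fun q hq => ⟨(hT q hq).1, (hT q hq).2.1⟩) ⟨p, hsT p hp⟩
    exact hq'T ((hfull q').mpr ⟨hq'p, hq'h, h0 ▸ q'.zero_mem⟩)
  refine ⟨f₀ + h, hf0, fun p hp => p.add_mem (hf₀s p hp) (hh.2 p hp), ?_⟩
  apply (Ideal.isRadical_iff_quotient_reduced _).mp
  by_contra hnr
  obtain ⟨h', hh'm, hh'T, q₀, hq₀p, hq₀h, hq₀T, hq₀f⟩ :=
    perturb hdim (f₀ + h) hf0 T hfull hnr (N0 + 1)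
  have hmem : (insert q₀ T).card ∈ S := by
    refine ⟨h + h', ⟨Ideal.add_mem _ hh.1 hh'm, fun p hp => p.add_mem (hh.2 p hp)
      (hh'T p (hsT p hp))⟩, insert q₀ T, rfl, ?_⟩
    intro q' hq'
    rcases Finset.mem_insert.mp hq' with rfl | hq'
    · refine ⟨hq₀p, hq₀h, ?_⟩
      rw [← add_assoc]; exact hq₀f
    · obtain ⟨h1, h2, h3⟩ := hT q' hq'
      refine ⟨h1, h2, ?_⟩
      rw [← add_assoc]
      exact q'.add_mem h3 (hh'T q' hq')
  have := le_csSup hSbdd hmem
  rw [Finset.card_insert_of_notMem hq₀T, ← hTcard] at this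
  omega

end

/-- Let R be a Noetherian normal local domain of Krull dimension 2 and let p_1, ..., p_r be finitely
many prime ideals of height one. Then there is a nonzero element f lying in all the p_i such that
R/fR is reduced. -/
theorem result (R : Type u) [CommRing R] [IsDomain R]
    [IsNoetherianRing R] [IsLocalRing R] [IsIntegrallyClosed R] (hdim : ringKrullDim R = 2)
    (s : Finset (Ideal R)) (hs : ∀ p ∈ s, p.IsPrime ∧ p.height = 1) :
    ∃ f : R, f ≠ 0 ∧ (∀ p ∈ s, f ∈ p) ∧ IsReduced (R ⧸ Ideal.span {f}) := by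
  exact Groth.Agent.S7119.main R hdim s hs

end Groth.Agent.S7119
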