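import Groth.Statements.S2013
import Mathlib
import Groth.Agent.S7119
import Groth.Agent.S7117
import Groth.Agent.Lib.Helper7.CatDim
import Groth.Agent.Lib.Lead.SOP1
-- import your own Groth.Agent.* helpers here

set_option autoImplicit false
universe u
open EtAlg

namespace Groth.Agent.S2013

section
open IsLocalRing Groth.Agent.S7119

variable {R : Type u} [CommRing R] [IsDomain R] [IsNoetherianRing R]

omit [IsDomain R] [IsNoetherianRing R] in
lemma withBot_arith (x : WithBot ℕ∞) (d : ℕ) (h : (1 : WithBot ℕ∞) + x = (d : WithBot ℕ∞)) :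
    x = ((d - 1 : ℕ) : WithBot ℕ∞) := by
  induction x using WithBot.recBotCoe with
  | bot => simp at h
  | coe y =>
    induction y using ENat.recTopCoe with
    | top =>
      exfalso
      have : ((1 : ℕ∞) + ⊤ : ℕ∞) = (d : ℕ∞) := by exact_mod_cast h
      simp at this
    | coe n =>
      have : ((1 + n : ℕ) : WithBot ℕ∞) = (d : WithBot ℕ∞) := by exact_mod_cast h
      have h2 : 1 + n = d := by exact_mod_cast this
      have : n = d - 1 := by omega
      rw [this]; rfl

omit [IsDomain R] [IsNoetherianRing R] in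
lemma mk_mem_maximalIdeal [IsLocalRing R] (I : Ideal R) [IsLocalRing (R ⧸ I)]
    (x : R) (hx : x ∈ maximalIdeal R) :
    Ideal.Quotient.mk I x ∈ maximalIdeal (R ⧸ I) := by
  rw [IsLocalRing.mem_maximalIdeal, mem_nonunits_iff]
  intro hu
  obtain ⟨y', hy'⟩ := hu.exists_right_inv
  obtain ⟨y, rfl⟩ := Ideal.Quotient.mk_surjective y'
  rw [← map_mul, ← map_one (Ideal.Quotient.mk I), Ideal.Quotient.eq] at hy'
  have hI : I ≤ maximalIdeal R := IsLocalRing.le_maximalIdeal (by
    intro h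
    have : Subsingleton (R ⧸ I) := by rw [h]; exact Ideal.Quotient.subsingleton_iff.mpr rfl
    exact not_subsingleton (R ⧸ I) this)
  have h1 : x * y - 1 ∈ maximalIdeal R := hI hy'
  have h2 : x * y ∈ maximalIdeal R := Ideal.mul_mem_right _ _ hx
  have : (1 : R) ∈ maximalIdeal R := by
    have := (maximalIdeal R).sub_mem h2 h1
    simp at this
  exact (Ideal.ne_top_iff_one _).mp (IsLocalRing.maximalIdeal.isMaximal R).ne_top this

/-- the number of height-one primes over `f'` is bounded by a length -/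
lemma card_le_length [IsLocalRing R] (hcat : CAlg.IsCatenary R) (d : ℕ)
    (hd : ringKrullDim R = d) (g : Fin (d - 1) → R)
    (hg : ∀ i, g i ∈ maximalIdeal R) (f' : R) (hf'0 : f' ≠ 0) (hf'm : f' ∈ maximalIdeal R)
    (hsop : maximalIdeal R ≤ (Ideal.span (insert f' (Set.range g))).radical)
    (T : Finset (Ideal R)) (hT : ∀ q ∈ T, q.IsPrime ∧ q.height = 1 ∧ f' ∈ q) :
    (T.card : ℕ∞) ≤ Module.length R (R ⧸ Ideal.span (insert f' (Set.range g))) := by
  classical
  by_cases hTe : T = ∅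
  · rw [hTe]; simp
  obtain ⟨q₀, hq₀T⟩ := Finset.nonempty_iff_ne_empty.mpr hTe
  set I : Ideal R := Ideal.span {f'} with hIdef
  have hIm : I ≤ maximalIdeal R := (Ideal.span_singleton_le_iff_mem _).mpr hf'm
  haveI : Nontrivial (R ⧸ I) := Ideal.Quotient.nontrivial_iff.mpr (fun h =>
    (IsLocalRing.maximalIdeal.isMaximal R).ne_top (top_le_iff.mp (h ▸ hIm)))
  haveI : IsLocalRing (R ⧸ I) :=
    IsLocalRing.of_surjective' (Ideal.Quotient.mk I) Ideal.Quotient.mk_surjective
  -- dimension of `R ⧸ q` for height-one `q`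
  have heq : ∀ p ∈ minimalPrimes R, ringKrullDim (R ⧸ p) = ringKrullDim R := by
    intro p hp
    rw [IsDomain.minimalPrimes_eq_singleton_bot, Set.mem_singleton_iff] at hp
    rw [hp]
    exact ringKrullDim_eq_of_ringEquiv (RingEquiv.quotientBot R)
  have hdimq : ∀ q ∈ T, ringKrullDim (R ⧸ q) = ((d - 1 : ℕ) : WithBot ℕ∞) := by
    intro q hq
    obtain ⟨hqp, hqh, _⟩ := hT q hq
    have := Groth.Agent.Helper7.CatDim.height_add_dim_quot R hcat heq q
    rw [hqh, hd] at this
    exact withBot_arith _ d this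
  have hIq : ∀ q ∈ T, I ≤ q := fun q hq =>
    (Ideal.span_singleton_le_iff_mem _).mpr (hT q hq).2.2
  -- dimension of `R ⧸ I`
  have hd' : ringKrullDim (R ⧸ I) = ((d - 1 : ℕ) : WithBot ℕ∞) := by
    apply le_antisymm
    · have h1 := Groth.Agent.Lead.SOP.ringKrullDim_quotient_succ_le f' (by
        intro p hp
        rw [IsDomain.minimalPrimes_eq_singleton_bot, Set.mem_singleton_iff] at hp
        rw [hp]; simpa using hf'0)
      rw [hd] at h1
      -- x + 1 ≤ d → x ≤ d - 1
      generalize ringKrullDim (R ⧸ Ideal.span {f'}) = x at h1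
      induction x using WithBot.recBotCoe with
      | bot => exact bot_le
      | coe y =>
        induction y using ENat.recTopCoe with
        | top =>
          exfalso
          have : ((⊤ : ℕ∞) + 1 : ℕ∞) ≤ (d : ℕ∞) := by exact_mod_cast h1
          simp at this
        | coe n =>
          have : ((n + 1 : ℕ) : WithBot ℕ∞) ≤ (d : WithBot ℕ∞) := by exact_mod_cast h1
          have h2 : n + 1 ≤ d := by exact_mod_cast this
          have h3 : n ≤ d - 1 := by omega
          show (((n : ℕ) : ℕ∞) : WithBot ℕ∞) ≤ (((d - 1 : ℕ) : ℕ∞) : WithBot ℕ∞)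
          exact WithBot.coe_le_coe.mpr (Nat.cast_le.mpr h3)
    · rw [← hdimq q₀ hq₀T, ← Groth.Agent.Helper7.CatDim.dim_quot_quot R I q₀ (hIq q₀ hq₀T)]
      exact ringKrullDim_quotient_le _
  -- the system of parameters in the quotient
  set g' : Fin (d - 1) → R ⧸ I := fun i => Ideal.Quotient.mk I (g i) with hg'def
  have hg' : ∀ i, g' i ∈ maximalIdeal (R ⧸ I) := fun i => mk_mem_maximalIdeal I _ (hg i)
  have hmapspan : (Ideal.span (insert f' (Set.range g))).map (Ideal.Quotient.mk I) =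
      Ideal.span (Set.range g') := by
    rw [Ideal.map_span, Set.image_insert_eq, Ideal.span_insert]
    have h0 : Ideal.Quotient.mk I f' = 0 :=
      Ideal.Quotient.eq_zero_iff_mem.mpr (Ideal.mem_span_singleton_self f')
    rw [h0, Ideal.span_singleton_eq_bot.mpr rfl, bot_sup_eq, ← Set.range_comp]
    rfl
  have hsop' : maximalIdeal (R ⧸ I) ≤ (Ideal.span (Set.range g')).radical := by
    intro x' hx'
    obtain ⟨x, rfl⟩ := Ideal.Quotient.mk_surjective x'
    have hxm : x ∈ maximalIdeal R := by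
      rw [IsLocalRing.mem_maximalIdeal, mem_nonunits_iff]
      intro hu
      rw [IsLocalRing.mem_maximalIdeal, mem_nonunits_iff] at hx'
      exact hx' (hu.map _)
    obtain ⟨n, hn⟩ := hsop hxm
    refine ⟨n, ?_⟩
    rw [← hmapspan, ← map_pow]
    exact Ideal.mem_map_of_mem _ hn
  have key := Groth.Agent.S7117.result (R ⧸ I) (d - 1) hd' g' hg' hsop'
  -- transfer the length
  have hlen : Module.length (R ⧸ I) ((R ⧸ I) ⧸ Ideal.span (Set.range g')) =
      Module.length R (R ⧸ Ideal.span (insert f' (Set.range g))) := by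
    rw [← Module.length_eq_of_surjective (S := R) (R := R ⧸ I)
      (M := (R ⧸ I) ⧸ Ideal.span (Set.range g')) Ideal.Quotient.mk_surjective]
    have e1 : ((R ⧸ I) ⧸ Ideal.span (Set.range g')) ≃ₗ[R]
        (R ⧸ (I ⊔ Ideal.span (Set.range g))) := by
      have hmap : (Ideal.span (Set.range g)).map (Ideal.Quotient.mkₐ R I) =
          Ideal.span (Set.range g') := by
        rw [Ideal.map_span, ← Set.range_comp]
        rfl
      rw [← hmap]
      exact (DoubleQuot.quotQuotEquivQuotSupₐ R I (Ideal.span (Set.range g))).toLinearEquiv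
    rw [e1.length_eq, Ideal.span_insert]
  rw [hlen] at key
  refine le_trans ?_ key
  -- inject `T` into the set of minimal primes of maximal dimension
  let φ : Ideal R → Ideal (R ⧸ I) := fun q => q.map (Ideal.Quotient.mk I)
  have hφinj : Set.InjOn φ (T : Set (Ideal R)) := by
    intro q hq q' hq' h
    have h1 : (φ q).comap (Ideal.Quotient.mk I) = (φ q').comap (Ideal.Quotient.mk I) := by rw [h]
    simp only [φ] at h1
    rw [Ideal.comap_map_of_surjective' _ Ideal.Quotient.mk_surjective,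
      Ideal.comap_map_of_surjective' _ Ideal.Quotient.mk_surjective, Ideal.mk_ker,
      sup_eq_left.mpr (hIq q hq), sup_eq_left.mpr (hIq q' hq')] at h1
    exact h1
  have hφmem : ∀ q ∈ T, φ q ∈ {p : Ideal (R ⧸ I) | p ∈ minimalPrimes (R ⧸ I) ∧
      ringKrullDim ((R ⧸ I) ⧸ p) = ((d - 1 : ℕ) : WithBot ℕ∞)} := by
    intro q hq
    obtain ⟨hqp, hqh, hqf⟩ := hT q hq
    refine ⟨?_, ?_⟩
    · have hqmin : q ∈ I.minimalPrimes := by
        refine ⟨⟨hqp, hIq q hq⟩, ?_⟩
        rintro p' ⟨hp'p, hIp'⟩ hp'q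
        have hp'ne : p' ≠ ⊥ := by
          intro h0
          have : f' ∈ p' := hIp' (Ideal.mem_span_singleton_self f')
          rw [h0] at this
          exact hf'0 (by simpa using this)
        have h1 : 1 ≤ p'.height := one_le_height_of_ne_bot p' hp'ne
        have h2 : p'.height ≤ 1 := hqh ▸ Ideal.height_mono hp'q
        exact (eq_of_le_of_height_one (le_antisymm h2 h1) hqh hp'q).ge
      rw [Ideal.minimalPrimes_eq_comap] at hqmin
      obtain ⟨p', hp'min, hp'q⟩ := hqmin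
      have : φ q = p' := by
        simp only [φ]
        rw [← hp'q, Ideal.map_comap_of_surjective _ Ideal.Quotient.mk_surjective]
      rw [this]
      exact hp'min
    · simp only [φ]
      rw [Groth.Agent.Helper7.CatDim.dim_quot_quot R I q (hIq q hq)]
      exact hdimq q hq
  have hfin : {p : Ideal (R ⧸ I) | p ∈ minimalPrimes (R ⧸ I) ∧
      ringKrullDim ((R ⧸ I) ⧸ p) = ((d - 1 : ℕ) : WithBot ℕ∞)}.Finite :=
    (minimalPrimes.finite_of_isNoetherianRing (R ⧸ I)).subset (fun p hp => hp.1)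
  have h1 : (T.image φ : Set (Ideal (R ⧸ I))) ⊆ {p : Ideal (R ⧸ I) | p ∈ minimalPrimes (R ⧸ I) ∧
      ringKrullDim ((R ⧸ I) ⧸ p) = ((d - 1 : ℕ) : WithBot ℕ∞)} := by
    intro p hp
    rw [Finset.mem_coe, Finset.mem_image] at hp
    obtain ⟨q, hq, rfl⟩ := hp
    exact hφmem q hq
  have h2 := Set.ncard_le_ncard h1 hfin
  rw [Set.ncard_coe_finset, Finset.card_image_of_injOn hφinj] at h2
  exact_mod_cast h2

/-- the height-one primes are not contained in `m`-avoidable unions: a new height-one prime -/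
lemma exists_new_prime' [IsLocalRing R]
    (hmq : ∀ q : Ideal R, q.IsPrime → q.height = 1 → ¬ maximalIdeal R ≤ q) (T : Finset (Ideal R))
    (hT : ∀ q ∈ T, q.IsPrime ∧ q.height = 1) (hne : T.Nonempty) :
    ∃ q' : Ideal R, q'.IsPrime ∧ q'.height = 1 ∧ q' ∉ T := by
  obtain ⟨x, hxm, hxT⟩ := exists_notMem_of_primes (maximalIdeal R) T (fun q hq => (hT q hq).1)
    (by
      intro q hq hle
      exact hmq q (hT q hq).1 (hT q hq).2 hle)
  have hx0 : x ≠ 0 := by
    obtain ⟨q, hq⟩ := hne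
    intro h0
    exact hxT q hq (h0 ▸ q.zero_mem)
  obtain ⟨q', hq'min, _⟩ := Ideal.exists_minimalPrimes_le
    (I := Ideal.span {x}) (J := maximalIdeal R)
    ((Ideal.span_singleton_le_iff_mem _).mpr hxm)
  have hq'p : q'.IsPrime := hq'min.1.1
  have hxq' : x ∈ q' := hq'min.1.2 (Ideal.mem_span_singleton_self x)
  refine ⟨q', hq'p, ?_, ?_⟩
  · apply le_antisymm
    · exact Ideal.height_le_one_of_isPrincipal_of_mem_minimalPrimes _ _ hq'min
    · apply one_le_height_of_ne_bot
      intro hbot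
      rw [hbot] at hxq'
      exact hx0 (by simpa using hxq')
  · intro hq'T
    exact hxT q' hq'T hxq'

/-- the perturbation step: if `R/(f')` is not reduced, a perturbation of `f'` acquires a new
height-one prime while keeping the old ones -/
lemma perturb' [IsLocalRing R] [IsIntegrallyClosed R]
    (hmq : ∀ q : Ideal R, q.IsPrime → q.height = 1 → ¬ maximalIdeal R ≤ q) (f' : R)
    (hf' : f' ≠ 0) (T : Finset (Ideal R))
    (hT : ∀ q : Ideal R, q ∈ T ↔ q.IsPrime ∧ q.height = 1 ∧ f' ∈ q)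
    (hnr : ¬ (Ideal.span {f'}).IsRadical) (N : ℕ)
    (P : Finset (Ideal R)) (hP : ∀ p ∈ P, p.IsPrime ∧ p ≠ ⊥) :
    ∃ h' ∈ maximalIdeal R ^ N, (∀ q ∈ T, h' ∈ q) ∧ (∀ p ∈ P, h' ∈ p) ∧ f' + h' ≠ 0 ∧
      ∃ q₀ : Ideal R, q₀.IsPrime ∧ q₀.height = 1 ∧ q₀ ∉ T ∧ f' + h' ∈ q₀ := by
  classical
  -- step 1: a witness of non-reducedness
  obtain ⟨x, hxrad, hxn⟩ : ∃ x, x ∈ (Ideal.span {f'}).radical ∧ x ∉ Ideal.span {f'} := by
    by_contra hcon
    push Not at hcon
    exact hnr (fun x hx => hcon x hx)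
  obtain ⟨n, hn⟩ := hxrad
  -- step 2: a height-one prime where `x` is not locally divisible by `f'`
  obtain ⟨q₁, hq₁p, hq₁h, hfq₁, hq₁x⟩ : ∃ q₁ : Ideal R, q₁.IsPrime ∧ q₁.height = 1 ∧ f' ∈ q₁ ∧
      ∀ r, r ∉ q₁ → r * x ∉ Ideal.span {f'} := by
    by_contra hcon
    push Not at hcon
    exact hxn (dvd_of_local f' hf' x (fun q hqp hqh hfq => hcon q hqp hqh hfq))
  have hq₁T : q₁ ∈ T := (hT q₁).mpr ⟨hq₁p, hq₁h, hfq₁⟩
  have hxq₁ : x ∈ q₁ := by
    apply hq₁p.mem_of_pow_mem n
    exact (Ideal.span_singleton_le_iff_mem _).mpr hfq₁ hn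
  -- step 4: a good local generator
  have hT' : ∀ p ∈ T.erase q₁, p.IsPrime ∧ p.height = 1 ∧ p ≠ q₁ := by
    intro p hp
    obtain ⟨hne, hpT⟩ := Finset.mem_erase.mp hp
    obtain ⟨h1, h2, _⟩ := (hT p).mp hpT
    exact ⟨h1, h2, hne⟩
  obtain ⟨π, hπq₁, hπT', hπgen⟩ := exists_avoiding_generator q₁ hq₁h (T.erase q₁) hT'
  -- step 5: `s f' = c π²`
  obtain ⟨s, hs, c, hsc⟩ : ∃ s, s ∉ q₁ ∧ ∃ c, s * f' = c * π ^ 2 := by
    obtain ⟨s₁, hs₁, hs₁f⟩ := hπgen f' hfq₁
    obtain ⟨c₁, hc₁⟩ := Ideal.mem_span_singleton'.mp hs₁f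
    by_cases hc₁q : c₁ ∈ q₁
    · obtain ⟨s₃, hs₃, hs₃c⟩ := hπgen c₁ hc₁q
      obtain ⟨c, hc⟩ := Ideal.mem_span_singleton'.mp hs₃c
      refine ⟨s₃ * s₁, ?_, c, ?_⟩
      · intro h
        rcases hq₁p.mem_or_mem h with h | h
        · exact hs₃ h
        · exact hs₁ h
      · calc s₃ * s₁ * f' = s₃ * (s₁ * f') := by ring
          _ = s₃ * (c₁ * π) := by rw [hc₁]
          _ = (s₃ * c₁) * π := by ring
          _ = (c * π) * π := by rw [hc]
          _ = c * π ^ 2 := by ring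
    · exfalso
      obtain ⟨s₂, hs₂, hs₂x⟩ := hπgen x hxq₁
      obtain ⟨d, hd⟩ := Ideal.mem_span_singleton'.mp hs₂x
      apply hq₁x (c₁ * s₂)
      · intro h
        rcases hq₁p.mem_or_mem h with h | h
        · exact hc₁q h
        · exact hs₂ h
      · rw [Ideal.mem_span_singleton']
        refine ⟨d * s₁, ?_⟩
        calc d * s₁ * f' = d * (s₁ * f') := by ring
          _ = d * (c₁ * π) := by rw [hc₁]
          _ = c₁ * (d * π) := by ring
          _ = c₁ * (s₂ * x) := by rw [hd]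
          _ = c₁ * s₂ * x := by ring
  -- step 6: a new prime
  have hTprime : ∀ q ∈ T, q.IsPrime ∧ q.height = 1 := fun q hq =>
    ⟨((hT q).mp hq).1, ((hT q).mp hq).2.1⟩
  obtain ⟨q', hq'p, hq'h, hq'T⟩ := exists_new_prime' hmq T hTprime ⟨q₁, hq₁T⟩
  -- step 7: the element `z₁`
  obtain ⟨z₁, hz₁J, hz₁q₁⟩ := exists_notMem_of_primes
    (maximalIdeal R ^ N ⊓ q' ⊓ (T.erase q₁).inf id ⊓ (P.erase q₁).inf id) {q₁}
    (fun p hp => by rw [Finset.mem_singleton.mp hp]; exact hq₁p)
    (by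
      intro p hp hle
      rw [Finset.mem_singleton.mp hp] at hle
      rcases (hq₁p.inf_le).mp hle with h | h
      · rcases (hq₁p.inf_le).mp h with h | h
        · rcases (hq₁p.inf_le).mp h with h | h
          · exact hmq q₁ hq₁p hq₁h (Ideal.IsPrime.le_of_pow_le h)
          · exact hq'T ((eq_of_le_of_height_one hq'h hq₁h h) ▸ hq₁T)
        · obtain ⟨p', hp', hp'q⟩ := (Ideal.IsPrime.inf_le' hq₁p).mp h
          obtain ⟨h1, h2, h3⟩ := hT' p' hp'
          exact h3 (eq_of_le_of_height_one h2 hq₁h hp'q)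
      · obtain ⟨p', hp', hp'q⟩ := (Ideal.IsPrime.inf_le' hq₁p).mp h
        obtain ⟨hne, hp'P⟩ := Finset.mem_erase.mp hp'
        obtain ⟨h1, h2⟩ := hP p' hp'P
        have h3 : 1 ≤ p'.height := one_le_height_of_ne_bot p' h2
        have h4 : p'.height ≤ 1 := hq₁h ▸ Ideal.height_mono hp'q
        exact hne (eq_of_le_of_height_one (le_antisymm h4 h3) hq₁h hp'q))
  have hz₁q₁' : z₁ ∉ q₁ := hz₁q₁ q₁ (Finset.mem_singleton_self q₁)
  have hz₁m : z₁ ∈ maximalIdeal R ^ N := hz₁J.1.1.1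
  have hz₁q' : z₁ ∈ q' := hz₁J.1.1.2
  have hz₁T' : ∀ p ∈ T.erase q₁, z₁ ∈ p := fun p hp => (Submodule.mem_finsetInf.mp hz₁J.1.2) p hp
  have hz₁P' : ∀ p ∈ P.erase q₁, z₁ ∈ p := fun p hp => (Submodule.mem_finsetInf.mp hz₁J.2) p hp
  have hh'P : ∀ p ∈ P, π * c * z₁ ∈ p := by
    intro p hp
    by_cases hpq : p = q₁
    · rw [hpq]
      exact q₁.mul_mem_right _ (q₁.mul_mem_right _ hπq₁)
    · exact p.mul_mem_left _ (hz₁P' p (Finset.mem_erase.mpr ⟨hpq, hp⟩))
  -- step 8: the perturbation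
  have hh'T : ∀ q ∈ T, π * c * z₁ ∈ q := by
    intro q hq
    by_cases hqq : q = q₁
    · rw [hqq]
      exact q₁.mul_mem_right _ (q₁.mul_mem_right _ hπq₁)
    · exact q.mul_mem_left _ (hz₁T' q (Finset.mem_erase.mpr ⟨hqq, hq⟩))
  have hne0 : f' + π * c * z₁ ≠ 0 := by
    intro h0
    have h1 : f' = -(π * c * z₁) := eq_neg_of_add_eq_zero_left h0
    have h2 : f' ∈ q' := by
      rw [h1]
      exact q'.neg_mem (q'.mul_mem_left _ hz₁q')
    exact hq'T ((hT q').mpr ⟨hq'p, hq'h, h2⟩)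
  refine ⟨π * c * z₁, Ideal.mul_mem_left _ _ hz₁m, hh'T, hh'P, hne0, ?_⟩
  by_contra hcon
  push Not at hcon
  -- all height-one primes over `f''` are in `T`
  have hall : ∀ q₀ : Ideal R, q₀.IsPrime → q₀.height = 1 → f' + π * c * z₁ ∈ q₀ → q₀ ∈ T := by
    intro q₀ h1 h2 h3
    by_contra h4
    exact hcon q₀ h1 h2 h4 h3
  have hid : (π + s * z₁) * f' = π * (f' + π * c * z₁) := by
    calc (π + s * z₁) * f' = π * f' + z₁ * (s * f') := by ring
      _ = π * f' + z₁ * (c * π ^ 2) := by rw [hsc]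
      _ = π * (f' + π * c * z₁) := by ring
  have hvT : ∀ q ∈ T, π + s * z₁ ∉ q := by
    intro q hq hmem
    obtain ⟨hqp, _, _⟩ := (hT q).mp hq
    by_cases hqq : q = q₁
    · rw [hqq] at hmem
      have : s * z₁ ∈ q₁ := by
        have := q₁.sub_mem hmem hπq₁
        simpa using this
      rcases hq₁p.mem_or_mem this with h | h
      · exact hs h
      · exact hz₁q₁' h
    · have hqe : q ∈ T.erase q₁ := Finset.mem_erase.mpr ⟨hqq, hq⟩
      have : π ∈ q := by
        have := q.sub_mem hmem (q.mul_mem_left s (hz₁T' q hqe))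
        simpa using this
      exact hπT' q hqe this
  have hf''0 : f' + π * c * z₁ ≠ 0 := by
    intro h0
    rw [h0, mul_zero] at hid
    rcases mul_eq_zero.mp hid with h | h
    · exact hvT q₁ hq₁T (h ▸ q₁.zero_mem)
    · exact hf' h
  have hdvd : f' ∈ Ideal.span {f' + π * c * z₁} := by
    apply dvd_of_local _ hf''0
    intro q hqp hqh hfq
    refine ⟨π + s * z₁, hvT q (hall q hqp hqh hfq), ?_⟩
    rw [hid]
    exact Ideal.mul_mem_left _ _ (Ideal.mem_span_singleton_self _)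
  obtain ⟨w, hw⟩ := Ideal.mem_span_singleton'.mp hdvd
  have hvw : (π + s * z₁) * w = π := by
    apply mul_right_cancel₀ hf''0
    rw [mul_assoc, hw, hid]
  by_cases hwu : IsUnit w
  · obtain ⟨w', hw'⟩ := hwu.exists_right_inv
    apply hvT q₁ hq₁T
    have : π + s * z₁ = π * w' := by
      calc π + s * z₁ = (π + s * z₁) * (w * w') := by rw [hw', mul_one]
        _ = ((π + s * z₁) * w) * w' := by ring
        _ = π * w' := by rw [hvw]
    rw [this]
    exact q₁.mul_mem_right _ hπq₁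
  · have hwm : w ∈ maximalIdeal R := (IsLocalRing.mem_maximalIdeal w).mpr hwu
    have hu : IsUnit (1 - w) := by
      by_contra h
      have h1 : 1 - w ∈ maximalIdeal R := (IsLocalRing.mem_maximalIdeal _).mpr h
      have : (1 : R) ∈ maximalIdeal R := by
        have := (maximalIdeal R).add_mem h1 hwm
        simp at this
      exact (Ideal.ne_top_iff_one _).mp (IsLocalRing.maximalIdeal.isMaximal R).ne_top this
    obtain ⟨u', hu'⟩ := hu.exists_right_inv
    have hh' : π * c * z₁ = (f' + π * c * z₁) * (1 - w) := by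
      rw [mul_sub, mul_one, mul_comm _ w, hw]; ring
    have hf''q' : f' + π * c * z₁ ∈ q' := by
      have : f' + π * c * z₁ = (π * c * z₁) * u' := by
        calc f' + π * c * z₁ = (f' + π * c * z₁) * ((1 - w) * u') := by rw [hu', mul_one]
          _ = ((f' + π * c * z₁) * (1 - w)) * u' := by ring
          _ = (π * c * z₁) * u' := by rw [← hh']
      rw [this]
      exact q'.mul_mem_right _ (q'.mul_mem_left _ hz₁q')
    exact hq'T (hall q' hq'p hq'h hf''q')

theorem main (R : Type u) [CommRing R] [IsDomain R] [IsNoetherianRing R]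
    [IsLocalRing R] [IsIntegrallyClosed R] (hc : CAlg.IsCatenary R) (J : Ideal R)
    (hJ : J.IsRadical) (hJ0 : J ≠ ⊥) :
    ∃ f ∈ J, f ≠ 0 ∧ IsReduced (R ⧸ Ideal.span {f}) := by
  classical
  by_cases hJt : J = ⊤
  · refine ⟨1, by rw [hJt]; exact Submodule.mem_top, one_ne_zero, ?_⟩
    apply (Ideal.isRadical_iff_quotient_reduced _).mp
    rw [Ideal.span_singleton_one]
    intro x _
    exact Submodule.mem_top
  have hJm : J ≤ maximalIdeal R := IsLocalRing.le_maximalIdeal hJt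
  have hmne : maximalIdeal R ≠ ⊥ := fun h => hJ0 (le_bot_iff.mp (h ▸ hJm))
  by_cases hm1 : (maximalIdeal R).height ≤ 1
  · -- dimension one
    have hmh : (maximalIdeal R).height = 1 :=
      le_antisymm hm1 (one_le_height_of_ne_bot _ hmne)
    obtain ⟨π₀, hπ₀m, hπ₀⟩ := exists_local_generator (maximalIdeal R) hmh
    have hspan : maximalIdeal R = Ideal.span {π₀} := by
      apply le_antisymm
      · intro x hx
        obtain ⟨r, hr, hrx⟩ := hπ₀ x hx
        have hru : IsUnit r := by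
          by_contra h
          exact hr ((IsLocalRing.mem_maximalIdeal r).mpr h)
        obtain ⟨r', hr'⟩ := hru.exists_left_inv
        have : x = r' * (r * x) := by rw [← mul_assoc, hr', one_mul]
        rw [this]
        exact Ideal.mul_mem_left _ _ hrx
      · exact (Ideal.span_singleton_le_iff_mem _).mpr hπ₀m
    have hJeq : J = maximalIdeal R := by
      apply le_antisymm hJm
      rw [← hJ.radical, Ideal.radical_eq_sInf]
      apply le_sInf
      rintro p ⟨hJp, hpp⟩
      have hpne : p ≠ ⊥ := fun h => hJ0 (le_bot_iff.mp (h ▸ hJp))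
      have hpm : p ≤ maximalIdeal R := IsLocalRing.le_maximalIdeal hpp.ne_top
      have h1 : 1 ≤ p.height := one_le_height_of_ne_bot p hpne
      have h2 : p.height ≤ 1 := hmh ▸ Ideal.height_mono hpm
      exact (eq_of_le_of_height_one (le_antisymm h2 h1) hmh hpm).ge
    refine ⟨π₀, hJeq ▸ hπ₀m, ?_, ?_⟩
    · intro h0
      rw [h0, Ideal.span_singleton_eq_bot.mpr rfl] at hspan
      exact hmne hspan
    · apply (Ideal.isRadical_iff_quotient_reduced _).mp
      rw [← hspan]
      exact (IsLocalRing.maximalIdeal.isMaximal R).isPrime.isRadical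
  -- dimension at least two
  have hmq : ∀ q : Ideal R, q.IsPrime → q.height = 1 → ¬ maximalIdeal R ≤ q := by
    intro q _ hqh hle
    exact hm1 (hqh ▸ Ideal.height_mono hle)
  -- the minimal primes of `J`
  have hfinP : J.minimalPrimes.Finite := Ideal.finite_minimalPrimes_of_isNoetherianRing R J
  set P : Finset (Ideal R) := hfinP.toFinset with hPdef
  have hP : ∀ p ∈ P, p.IsPrime ∧ p ≠ ⊥ := by
    intro p hp
    rw [hPdef, Set.Finite.mem_toFinset] at hp
    exact ⟨hp.1.1, fun h => hJ0 (le_bot_iff.mp (h ▸ hp.1.2))⟩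
  have hJP : ∀ x : R, (∀ p ∈ P, x ∈ p) → x ∈ J := by
    intro x hx
    rw [← hJ.radical, ← Ideal.sInf_minimalPrimes, Ideal.mem_sInf]
    intro p hp
    exact hx p ((Set.Finite.mem_toFinset hfinP).mpr hp)
  obtain ⟨f₀, hf₀J, hf₀0⟩ := Submodule.exists_mem_ne_zero_of_ne_bot hJ0
  have hf₀m : f₀ ∈ maximalIdeal R := hJm hf₀J
  have hmin : ∀ p ∈ minimalPrimes R, f₀ ∉ p := by
    intro p hp
    rw [IsDomain.minimalPrimes_eq_singleton_bot, Set.mem_singleton_iff] at hp
    rw [hp]
    simpa using hf₀0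
  -- the dimension as a natural number
  have hhfin : (maximalIdeal R).height ≠ ⊤ := (Ideal.height_lt_top_of_isPrime).ne
  set d : ℕ := (maximalIdeal R).height.toNat with hddef
  have hd : ringKrullDim R = ((d : ℕ) : WithBot ℕ∞) := by
    rw [← IsLocalRing.maximalIdeal_height_eq_ringKrullDim, hddef]
    show ((maximalIdeal R).height : WithBot ℕ∞) =
      ((((maximalIdeal R).height.toNat : ℕ) : ℕ∞) : WithBot ℕ∞)
    rw [ENat.natCast_toNat hhfin]
  obtain ⟨g, hg1, hg2⟩ := Groth.Agent.Lead.SOP.exists_sop d hd f₀ hf₀m hmin 0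
  obtain ⟨N0, hN0⟩ := Ideal.exists_pow_le_of_le_radical_of_fg hg2
    (IsNoetherian.noetherian (IsLocalRing.maximalIdeal R))
  have hgm : ∀ i, g i ∈ maximalIdeal R := by
    intro i
    have := hg1 i
    rwa [zero_add, pow_one] at this
  set 𝔞 : Ideal R := Ideal.span (insert f₀ (Set.range g)) with h𝔞def
  have hspan : ∀ h ∈ maximalIdeal R ^ (N0 + 1),
      Ideal.span (insert (f₀ + h) (Set.range g)) = 𝔞 :=
    fun h hh => Groth.Agent.Lead.SOP.span_insert_add_eq f₀ g N0 hN0 h hh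
  have h𝔞m : 𝔞 ≤ maximalIdeal R := by
    rw [h𝔞def, Ideal.span_le]
    rintro y (rfl | ⟨i, rfl⟩)
    · exact hf₀m
    · exact hgm i
  have hmmin : maximalIdeal R ∈ 𝔞.minimalPrimes := by
    refine ⟨⟨inferInstance, h𝔞m⟩, ?_⟩
    rintro p' ⟨hp', hle⟩ _
    exact hg2.trans ((Ideal.IsPrime.radical_le_iff hp').mpr hle)
  have hart : IsArtinianRing (R ⧸ 𝔞) :=
    IsLocalRing.quotient_artinian_of_mem_minimalPrimes_of_isLocalRing 𝔞 hmmin
  have hlen : Module.length R (R ⧸ 𝔞) ≠ ⊤ := by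
    have h1 : Module.length R (R ⧸ 𝔞) = Module.length (R ⧸ 𝔞) (R ⧸ 𝔞) :=
      Module.length_eq_of_surjective Ideal.Quotient.mk_surjective
    rw [h1]
    exact Module.length_ne_top
  set B : ℕ := (Module.length R (R ⧸ 𝔞)).toNat with hBdef
  let H : Set R := {h | h ∈ maximalIdeal R ^ (N0 + 1) ∧ h ∈ J ∧ f₀ + h ≠ 0}
  let S : Set ℕ := {k | ∃ h ∈ H, ∃ T : Finset (Ideal R), T.card = k ∧
    ∀ q ∈ T, q.IsPrime ∧ q.height = 1 ∧ f₀ + h ∈ q}
  have hbound : ∀ h ∈ H, ∀ T : Finset (Ideal R),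
      (∀ q ∈ T, q.IsPrime ∧ q.height = 1 ∧ f₀ + h ∈ q) → T.card ≤ B := by
    intro h hh T hT
    have h1 := card_le_length hc d hd g hgm (f₀ + h) hh.2.2
      ((maximalIdeal R).add_mem hf₀m (hJm hh.2.1)) (by rw [hspan h hh.1]; exact hg2) T hT
    rw [hspan h hh.1] at h1
    rw [hBdef]
    exact (ENat.natCast_le_natCast).mp (by rw [ENat.natCast_toNat hlen]; exact h1)
  have hSne : S.Nonempty := ⟨0, 0, ⟨Ideal.zero_mem _, J.zero_mem, by simpa using hf₀0⟩, ∅, rfl,
    by simp⟩
  have hSbdd : BddAbove S := ⟨B, by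
    rintro k ⟨h, hh, T, rfl, hT⟩
    exact hbound h hh T hT⟩
  obtain ⟨h, hh, T, hTcard, hT⟩ := Nat.sSup_mem hSne hSbdd
  have hfull : ∀ q : Ideal R, q ∈ T ↔ q.IsPrime ∧ q.height = 1 ∧ f₀ + h ∈ q := by
    intro q
    refine ⟨fun hq => hT q hq, fun hq => ?_⟩
    by_contra hqT
    have hmem : (insert q T).card ∈ S := ⟨h, hh, insert q T, rfl, by
      intro q' hq'
      rcases Finset.mem_insert.mp hq' with rfl | hq'
      · exact hq
      · exact hT q' hq'⟩
    have := le_csSup hSbdd hmem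
    rw [Finset.card_insert_of_notMem hqT, ← hTcard] at this
    omega
  refine ⟨f₀ + h, J.add_mem hf₀J hh.2.1, hh.2.2, ?_⟩
  apply (Ideal.isRadical_iff_quotient_reduced _).mp
  by_contra hnr
  obtain ⟨h', hh'm, hh'T, hh'P, hne0, q₀, hq₀p, hq₀h, hq₀T, hq₀f⟩ :=
    perturb' hmq (f₀ + h) hh.2.2 T hfull hnr (N0 + 1) P hP
  have hmem : (insert q₀ T).card ∈ S := by
    refine ⟨h + h', ⟨Ideal.add_mem _ hh.1 hh'm, J.add_mem hh.2.1 (hJP h' hh'P), ?_⟩,
      insert q₀ T, rfl, ?_⟩
    · rw [← add_assoc]; exact hne0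
    · intro q' hq'
      rcases Finset.mem_insert.mp hq' with rfl | hq'
      · refine ⟨hq₀p, hq₀h, ?_⟩
        rw [← add_assoc]; exact hq₀f
      · obtain ⟨h1, h2, h3⟩ := hT q' hq'
        refine ⟨h1, h2, ?_⟩
        rw [← add_assoc]
        exact q'.add_mem h3 (hh'T q' hq')
  have := le_csSup hSbdd hmem
  rw [Finset.card_insert_of_notMem hq₀T, ← hTcard] at this
  omega

end

/-- Let R be a catenary Noetherian local normal domain and J a nonzero radical ideal of R. Then J
contains a nonzero element f such that R/fR is reduced. (The source does not say 'nonzero ideal' but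
its conclusion requires it.) -/
theorem result (R : Type u) [CommRing R] [IsDomain R] [IsNoetherianRing R]
    [IsLocalRing R] [IsIntegrallyClosed R] (hc : CAlg.IsCatenary R) (J : Ideal R) (hJ : J.IsRadical) (hJ0 : J ≠ ⊥) :
    ∃ f ∈ J, f ≠ 0 ∧ IsReduced (R ⧸ Ideal.span {f}) := by
  exact Groth.Agent.S2013.main R hc J hJ hJ0

end Groth.Agent.S2013
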