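import Groth.Statements.S2015
import Groth.Statements.S2015
import Mathlib
-- import your own Groth.Agent.* helpers here

set_option autoImplicit false
universe u
open EtAlg

namespace Groth.Agent.S2015

section

variable {R : Type u} [CommRing R]

/-- quotient of a product by a product submodule -/
noncomputable def quotProd {A B : Type*} [AddCommGroup A] [Module R A] [AddCommGroup B] [Module R B]
    (p : Submodule R A) (q : Submodule R B) :
    ((A × B) ⧸ p.prod q) ≃ₗ[R] (A ⧸ p) × (B ⧸ q) :=
  LinearEquiv.ofLinearMap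
    ((p.prod q).liftQ ((p.mkQ.comp (LinearMap.fst R A B)).prod (q.mkQ.comp (LinearMap.snd R A B)))
      (by
        intro x hx
        rw [Submodule.mem_prod] at hx
        rw [LinearMap.mem_ker, LinearMap.prod_apply]
        have h1 : (p.mkQ.comp (LinearMap.fst R A B)) x = 0 :=
          (Submodule.Quotient.mk_eq_zero p).2 hx.1
        have h2 : (q.mkQ.comp (LinearMap.snd R A B)) x = 0 :=
          (Submodule.Quotient.mk_eq_zero q).2 hx.2
        exact Prod.ext h1 h2))
    (LinearMap.coprod
      (p.liftQ ((p.prod q).mkQ.comp (LinearMap.inl R A B)) (by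
        intro a ha
        rw [LinearMap.mem_ker, LinearMap.comp_apply, Submodule.mkQ_apply,
          Submodule.Quotient.mk_eq_zero]
        exact ⟨ha, q.zero_mem⟩))
      (q.liftQ ((p.prod q).mkQ.comp (LinearMap.inr R A B)) (by
        intro b hb
        rw [LinearMap.mem_ker, LinearMap.comp_apply, Submodule.mkQ_apply,
          Submodule.Quotient.mk_eq_zero]
        exact ⟨p.zero_mem, hb⟩)))
    (by
      apply LinearMap.ext
      rintro ⟨x, y⟩
      induction x using Submodule.Quotient.induction_on with | _ a => ?_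
      induction y using Submodule.Quotient.induction_on with | _ b => ?_
      simp [← Submodule.Quotient.mk_add])
    (by
      apply LinearMap.ext
      intro x
      induction x using Submodule.Quotient.induction_on with | _ ab => ?_
      obtain ⟨a, b⟩ := ab
      simp [← Submodule.Quotient.mk_add])

/-- the change of coordinates -/
def psi {ι : Type} [DecidableEq ι] (i0 : ι) (q : {i // i ≠ i0} → R) :
    (R × ({i // i ≠ i0} → R)) ≃ₗ[R] (ι → R) where
  toFun x := fun i => if hi : i = i0 then x.1 else x.1 * q ⟨i, hi⟩ + x.2 ⟨i, hi⟩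
  map_add' x y := by
    funext i
    by_cases hi : i = i0
    · simp [hi]
    · simp [hi]; ring
  map_smul' r x := by
    funext i
    by_cases hi : i = i0
    · simp [hi]
    · simp [hi]; ring
  invFun w := (w i0, fun i => w i - w i0 * q i)
  left_inv x := by
    refine Prod.ext (by simp) ?_
    funext i
    simp [i.2]
  right_inv w := by
    funext i
    by_cases hi : i = i0
    · simp [hi]
    · simp [hi]

theorem psi_apply_same {ι : Type} [DecidableEq ι] (i0 : ι) (q : {i // i ≠ i0} → R)
    (x : R × ({i // i ≠ i0} → R)) : psi i0 q x i0 = x.1 := by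
  simp [psi]

theorem psi_apply_ne {ι : Type} [DecidableEq ι] (i0 : ι) (q : {i // i ≠ i0} → R)
    (x : R × ({i // i ≠ i0} → R)) (i : ι) (hi : i ≠ i0) :
    psi i0 q x i = x.1 * q ⟨i, hi⟩ + x.2 ⟨i, hi⟩ := by
  simp [psi, hi]

variable (h : ∀ a b : R, a ∣ b ∨ b ∣ a)
include h

theorem exists_min_dvd {α : Type*} (s : Finset α) (hs : s.Nonempty) (g : α → R) :
    ∃ a ∈ s, ∀ b ∈ s, g a ∣ g b := by
  induction hs using Finset.Nonempty.cons_induction with
  | singleton a => exact ⟨a, Finset.mem_singleton_self a, fun b hb => by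
      rw [Finset.mem_singleton] at hb; rw [hb]⟩
  | cons a s ha hs ih =>
    obtain ⟨a0, ha0, hmin⟩ := ih
    rcases h (g a) (g a0) with h1 | h1
    · refine ⟨a, Finset.mem_cons_self a s, fun b hb => ?_⟩
      rw [Finset.mem_cons] at hb
      rcases hb with rfl | hb
      · exact dvd_rfl
      · exact h1.trans (hmin b hb)
    · refine ⟨a0, Finset.mem_cons.2 (Or.inr ha0), fun b hb => ?_⟩
      rw [Finset.mem_cons] at hb
      rcases hb with rfl | hb
      · exact h1
      · exact hmin b hb

omit h in
theorem step {ι : Type} [DecidableEq ι] (i0 : ι) (S : Finset (ι → R)) (ρ : ι → R) (hρ : ρ ∈ S)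
    (hc : ∀ κ ∈ S, ∀ i, ρ i0 ∣ κ i) :
    ∃ (q : {i // i ≠ i0} → R) (K' : Submodule R ({i // i ≠ i0} → R)), K'.FG ∧
      Submodule.span R (S : Set (ι → R)) =
        (Submodule.prod (Ideal.span {ρ i0}) K').map (psi i0 q).toLinearMap := by
  classical
  choose! t ht using hc
  -- ht : ∀ κ ∈ S, ∀ i, κ i = ρ i0 * t κ i
  let q : {i // i ≠ i0} → R := fun i => t ρ i
  have hq : ∀ i : {i // i ≠ i0}, ρ i = ρ i0 * q i := fun i => ht ρ hρ i
  let v : (ι → R) → ({i // i ≠ i0} → R) := fun κ i => κ i - κ i0 * q i
  let K' : Submodule R ({i // i ≠ i0} → R) := Submodule.span R (v '' (S : Set (ι → R)))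
  refine ⟨q, K', Submodule.fg_span ((S.finite_toSet).image v), ?_⟩
  apply le_antisymm
  · rw [Submodule.span_le]
    intro κ hκ
    refine ⟨(κ i0, v κ), ⟨?_, Submodule.subset_span ⟨κ, hκ, rfl⟩⟩, ?_⟩
    · change κ i0 ∈ Ideal.span {ρ i0}
      rw [Ideal.mem_span_singleton]
      exact ⟨_, ht κ hκ i0⟩
    · funext i
      by_cases hi : i = i0
      · subst hi; exact psi_apply_same _ q _
      · change psi i0 q (κ i0, v κ) i = κ i
        rw [psi_apply_ne _ _ _ _ hi]
        simp [v]
  · rw [Submodule.map_le_iff_le_comap]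
    rintro ⟨a, w⟩ ⟨ha, hw⟩
    rw [Submodule.mem_comap]
    have hsplit : ((a, w) : R × ({i // i ≠ i0} → R)) = (a, 0) + (0, w) := by simp
    rw [hsplit, map_add]
    refine Submodule.add_mem _ ?_ ?_
    · change a ∈ Ideal.span {ρ i0} at ha
      rw [Ideal.mem_span_singleton] at ha
      obtain ⟨r, rfl⟩ := ha
      have : (psi i0 q).toLinearMap (ρ i0 * r, 0) = r • ρ := by
        funext i
        by_cases hi : i = i0
        · subst hi
          change psi i q (ρ i * r, 0) i = _
          rw [psi_apply_same]; simp [mul_comm]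
        · change psi i0 q (ρ i0 * r, 0) i = _
          rw [psi_apply_ne _ _ _ _ hi]
          simp only [Pi.zero_apply, add_zero, Pi.smul_apply, smul_eq_mul]
          rw [hq ⟨i, hi⟩]; ring
      rw [this]
      exact Submodule.smul_mem _ _ (Submodule.subset_span hρ)
    · have hK' : K' ≤ Submodule.comap ((psi i0 q).toLinearMap.comp (LinearMap.inr R R _))
          (Submodule.span R (S : Set (ι → R))) := by
        rw [Submodule.span_le]
        rintro _ ⟨κ, hκ, rfl⟩
        change (psi i0 q) (0, v κ) ∈ Submodule.span R (S : Set (ι → R))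
        have : (psi i0 q) (0, v κ) = κ - t κ i0 • ρ := by
          funext i
          by_cases hi : i = i0
          · subst hi
            rw [psi_apply_same]
            simp only [Pi.sub_apply, Pi.smul_apply, smul_eq_mul]
            rw [ht κ hκ i]; ring
          · rw [psi_apply_ne _ _ _ _ hi]
            simp only [v, zero_mul, zero_add, Pi.sub_apply, Pi.smul_apply, smul_eq_mul]
            rw [hq ⟨i, hi⟩, ht κ hκ i0]; ring
        rw [this]
        exact Submodule.sub_mem _ (Submodule.subset_span hκ)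
          (Submodule.smul_mem _ _ (Submodule.subset_span hρ))
      exact hK' hw

end

section
variable {R : Type u} [CommRing R] (h : ∀ a b : R, a ∣ b ∨ b ∣ a)
include h

theorem main_aux : ∀ (n : ℕ) (ι : Type) [Fintype ι] [DecidableEq ι], Fintype.card ι = n →
    ∀ K : Submodule R (ι → R), K.FG →
    ∃ (m : ℕ) (f : Fin m → R),
      Nonempty (((ι → R) ⧸ K) ≃ₗ[R] ((j : Fin m) → R ⧸ Ideal.span {f j})) := by
  intro n
  induction n with
  | zero =>
    intro ι _ _ hcard K hK
    have : IsEmpty ι := Fintype.card_eq_zero_iff.1 hcard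
    refine ⟨0, Fin.elim0, ⟨?_⟩⟩
    exact LinearEquiv.ofSubsingleton _ _
  | succ n ih =>
    intro ι _ _ hcard K hK
    classical
    obtain ⟨S0, hS0⟩ := hK
    let S : Finset (ι → R) := insert 0 S0
    have hS : Submodule.span R (S : Set (ι → R)) = K := by
      rw [← hS0]
      simp only [S, Finset.coe_insert]
      rw [Submodule.span_insert_zero]
    have hne : Nonempty ι := by
      rw [← Fintype.card_pos_iff, hcard]; omega
    obtain ⟨i1⟩ := hne
    obtain ⟨⟨ρ, i0⟩, hmem, hmin⟩ := exists_min_dvd h (S ×ˢ (Finset.univ : Finset ι))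
      ⟨(0, i1), by simp [S]⟩ (fun x => x.1 x.2)
    have hρ : ρ ∈ S := (Finset.mem_product.1 hmem).1
    obtain ⟨q, K', hK', heq⟩ := step i0 S ρ hρ
      (fun κ hκ i => hmin (κ, i) (Finset.mem_product.2 ⟨hκ, Finset.mem_univ i⟩))
    have hcard' : Fintype.card {i // i ≠ i0} = n := by
      have := Set.card_ne_eq i0
      simp only [Set.coe_ofPred] at this
      rw [hcard] at this
      simpa using this
    obtain ⟨m, f, ⟨e⟩⟩ := ih {i // i ≠ i0} hcard' K' hK'
    let g : Fin (m + 1) → R := Fin.cons (ρ i0) f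
    refine ⟨m + 1, g, ⟨?_⟩⟩
    have e1 : ((ι → R) ⧸ K) ≃ₗ[R]
        ((R × ({i // i ≠ i0} → R)) ⧸ (Submodule.prod (Ideal.span {ρ i0}) K')) :=
      (Submodule.Quotient.equiv _ _ (psi i0 q) (by rw [← hS, heq])).symm
    have e2 := quotProd (R := R) (Ideal.span {ρ i0} : Submodule R R) K'
    have e3 : ((R ⧸ (Ideal.span {ρ i0} : Submodule R R)) × (({i // i ≠ i0} → R) ⧸ K')) ≃ₗ[R]
        ((R ⧸ Ideal.span {g 0}) × ((j : Fin m) → R ⧸ Ideal.span {g j.succ})) :=
      LinearEquiv.prodCongr (LinearEquiv.refl R _) e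
    exact e1.trans (e2.trans (e3.trans
      (Fin.consLinearEquiv R (fun j : Fin (m + 1) => R ⧸ Ideal.span {g j}))))

theorem main [Nontrivial R]
    (M : Type u) [AddCommGroup M] [Module R M] [Module.FinitePresentation R M] :
    ∃ (n : ℕ) (f : Fin n → R), Nonempty (M ≃ₗ[R] ((i : Fin n) → R ⧸ Ideal.span {f i})) := by
  obtain ⟨n, K, e, hK⟩ := Module.FinitePresentation.exists_fin R M
  obtain ⟨m, f, ⟨e'⟩⟩ := main_aux h n (Fin n) (by simp) K hK
  exact ⟨m, f, ⟨e.trans e'⟩⟩

end

/-- Let R be a nonzero ring such that for all a, b in R either a divides b or b divides a. Then each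
finitely presented R-module decomposes as a direct sum of finitely many cyclic modules R/fR. -/
theorem result (R : Type u) [CommRing R] [Nontrivial R] (h : ∀ a b : R, a ∣ b ∨ b ∣ a)
    (M : Type u) [AddCommGroup M] [Module R M] [Module.FinitePresentation R M] :
    ∃ (n : ℕ) (f : Fin n → R), Nonempty (M ≃ₗ[R] ((i : Fin n) → R ⧸ Ideal.span {f i})) := by
  exact Groth.Agent.S2015.main h M

end Groth.Agent.S2015
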