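import Groth.Statements.S2016
import Groth.Statements.S2016
import Mathlib
import Groth.Agent.S2015
-- import your own Groth.Agent.* helpers here

set_option autoImplicit false
universe u
open EtAlg

namespace Groth.Agent.S2016

section

variable {R : Type u} [CommRing R]

instance fp_quot (a : R) : Module.FinitePresentation R (R ⧸ Ideal.span {a}) := by
  apply Module.finitePresentation_of_surjective (Submodule.mkQ (Ideal.span {a} : Submodule R R))
    (Submodule.mkQ_surjective _)
  rw [Submodule.ker_mkQ]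
  exact ⟨{a}, by simp [Ideal.span]⟩

variable (M : Type u) [AddCommGroup M] [Module R M]

/-- `r • id_M` factors through a finite product of cyclically presented modules -/
def Retr (r : R) : Prop :=
  ∃ (ι : Type) (_ : Fintype ι) (f : ι → R) (φ : ((i : ι) → R ⧸ Ideal.span {f i}) →ₗ[R] M)
    (σ : M →ₗ[R] ((i : ι) → R ⧸ Ideal.span {f i})), φ ∘ₗ σ = r • LinearMap.id

theorem retr_zero : Retr M (0 : R) :=
  ⟨Empty, inferInstance, Empty.elim, 0, 0, by simp⟩

variable {M}

theorem retr_smul (c : R) {r : R} (hr : Retr M r) : Retr M (c * r) := by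
  obtain ⟨ι, _, f, φ, σ, h⟩ := hr
  refine ⟨ι, inferInstance, f, φ, c • σ, ?_⟩
  rw [LinearMap.comp_smul, h, smul_smul]

theorem retr_add {r1 r2 : R} (h1 : Retr M r1) (h2 : Retr M r2) : Retr M (r1 + r2) := by
  obtain ⟨ι1, _, f1, φ1, σ1, h1⟩ := h1
  obtain ⟨ι2, _, f2, φ2, σ2, h2⟩ := h2
  let E : (((i : ι1 ⊕ ι2) → R ⧸ Ideal.span {Sum.elim f1 f2 i}) ≃ₗ[R]
      (((i : ι1) → R ⧸ Ideal.span {f1 i}) × ((i : ι2) → R ⧸ Ideal.span {f2 i}))) :=
    LinearEquiv.sumPiEquivProdPi R ι1 ι2 (fun i => R ⧸ Ideal.span {Sum.elim f1 f2 i})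
  refine ⟨ι1 ⊕ ι2, inferInstance, Sum.elim f1 f2, (φ1.coprod φ2) ∘ₗ E.toLinearMap,
    E.symm.toLinearMap ∘ₗ (σ1.prod σ2), ?_⟩
  apply LinearMap.ext
  intro x
  have hE : E (E.symm ((σ1.prod σ2) x)) = (σ1 x, σ2 x) := E.apply_symm_apply _
  change (φ1.coprod φ2) (E (E.symm ((σ1.prod σ2) x))) = _
  rw [hE, LinearMap.coprod_apply]
  have e1 := LinearMap.congr_fun h1 x
  have e2 := LinearMap.congr_fun h2 x
  simp only [LinearMap.comp_apply, LinearMap.smul_apply, LinearMap.id_apply] at e1 e2
  change φ1 (σ1 x) + φ2 (σ2 x) = _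
  rw [e1, e2, LinearMap.smul_apply, LinearMap.id_apply, add_smul]

variable (M) in
def retrIdeal : Ideal R where
  carrier := {r | Retr M r}
  add_mem' := retr_add
  zero_mem' := retr_zero M
  smul_mem' c _ hr := retr_smul c hr

end

section
variable {R : Type u} [CommRing R] (m : Ideal R) [m.IsMaximal]

/-- localization of `R/(a)` at `m`, as a quotient of `R_m` -/
abbrev Nloc (a : R) : Type u :=
  Localization.AtPrime m ⧸ (Ideal.span {a} : Submodule R R).localized' (Localization.AtPrime m)
    m.primeCompl (Algebra.linearMap R (Localization.AtPrime m))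

/-- the localization map -/
noncomputable abbrev lamI (a : R) : (R ⧸ Ideal.span {a}) →ₗ[R] Nloc m a :=
  (Ideal.span {a} : Submodule R R).toLocalizedQuotient' (Localization.AtPrime m)
    m.primeCompl (Algebra.linearMap R (Localization.AtPrime m))

noncomputable abbrev lam {k : ℕ} (a : Fin k → R) :
    ((i : Fin k) → R ⧸ Ideal.span {a i}) →ₗ[R] ((i : Fin k) → Nloc m (a i)) :=
  LinearMap.pi (fun i => lamI m (a i) ∘ₗ LinearMap.proj i)

instance {k : ℕ} (a : Fin k → R) : IsLocalizedModule m.primeCompl (lam m a) :=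
  IsLocalizedModule.pi m.primeCompl (fun i => lamI m (a i))

theorem span_eq (g : Localization.AtPrime m) (a : R) (s : m.primeCompl)
    (hx : g * algebraMap R (Localization.AtPrime m) s = algebraMap R (Localization.AtPrime m) a) :
    (Ideal.span {g} : Submodule (Localization.AtPrime m) (Localization.AtPrime m)) =
      (Ideal.span {a} : Submodule R R).localized' (Localization.AtPrime m)
        m.primeCompl (Algebra.linearMap R (Localization.AtPrime m)) := by
  have h1 := Ideal.localized'_eq_map (Localization.AtPrime m) m.primeCompl (Ideal.span {a})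
  rw [h1, Ideal.map_span, Set.image_singleton, ← hx]
  exact (Ideal.span_singleton_mul_right_unit (IsLocalization.map_units _ s) g).symm

end

section
variable {R : Type u} [CommRing R]
variable {M : Type u} [AddCommGroup M] [Module R M]

theorem local_retr
    (h : ∀ (m : Ideal R) [m.IsMaximal], ∀ a b : Localization.AtPrime m, a ∣ b ∨ b ∣ a)
    [Module.FinitePresentation R M] (m : Ideal R) [hm : m.IsMaximal] :
    ∃ r, r ∉ m ∧ Retr M r := by
  obtain ⟨k, g, ⟨e⟩⟩ := Groth.Agent.S2015.main (R := Localization.AtPrime m) (h m)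
    (LocalizedModule m.primeCompl M)
  have hsurj : ∀ i, ∃ x : R × m.primeCompl,
      g i * algebraMap R (Localization.AtPrime m) x.2 = algebraMap R (Localization.AtPrime m) x.1 :=
    fun i => IsLocalization.surj m.primeCompl (g i)
  choose x hx using hsurj
  let a : Fin k → R := fun i => (x i).1
  let θA : LocalizedModule m.primeCompl M ≃ₗ[Localization.AtPrime m] ((i : Fin k) → Nloc m (a i)) :=
    e.trans (LinearEquiv.piCongrRight fun i =>
      Submodule.quotEquivOfEq _ _ (span_eq m (g i) (a i) (x i).2 (hx i)))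
  let θ : LocalizedModule m.primeCompl M ≃ₗ[R] ((i : Fin k) → Nloc m (a i)) :=
    θA.restrictScalars R
  let μ : M →ₗ[R] LocalizedModule m.primeCompl M := LocalizedModule.mkLinearMap m.primeCompl M
  obtain ⟨σ, s1, hσ⟩ := Module.FinitePresentation.exists_lift_of_isLocalizedModule m.primeCompl
    (lam m a) (θ.toLinearMap ∘ₗ μ)
  obtain ⟨φ, s2, hφ⟩ := Module.FinitePresentation.exists_lift_of_isLocalizedModule m.primeCompl
    μ (θ.symm.toLinearMap ∘ₗ lam m a)
  have hcomp : μ ∘ₗ (φ ∘ₗ σ) = μ ∘ₗ (((s1 : R) * (s2 : R)) • LinearMap.id) := by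
    apply LinearMap.ext
    intro y
    have e1 : μ (φ (σ y)) = (s2 : R) • θ.symm (lam m a (σ y)) := LinearMap.congr_fun hφ (σ y)
    have e2 : lam m a (σ y) = (s1 : R) • θ (μ y) := LinearMap.congr_fun hσ y
    change μ (φ (σ y)) = μ (((s1 : R) * (s2 : R)) • y)
    rw [e1, e2, map_smul, LinearEquiv.symm_apply_apply, smul_smul, map_smul, mul_comm]
  obtain ⟨t, ht⟩ := Module.Finite.exists_smul_of_comp_eq_of_isLocalizedModule m.primeCompl μ _ _ hcomp
  refine ⟨(t : R) * ((s1 : R) * (s2 : R)), ?_, Fin k, inferInstance, a, φ, (t : R) • σ, ?_⟩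
  · exact (m.primeCompl.mul_mem t.2 (m.primeCompl.mul_mem s1.2 s2.2))
  · rw [LinearMap.comp_smul]
    have : (t : R) • (φ ∘ₗ σ) = (t : R) • (((s1 : R) * (s2 : R)) • LinearMap.id) := ht
    rw [this, smul_smul]

end

section
variable {R : Type u} [CommRing R]
variable {M : Type u} [AddCommGroup M] [Module R M]

/-- a split surjection gives a product decomposition -/
def splitEquiv {P : Type*} [AddCommGroup P] [Module R P] (φ : P →ₗ[R] M) (σ : M →ₗ[R] P)
    (hφσ : φ ∘ₗ σ = LinearMap.id) : (M × LinearMap.ker φ) ≃ₗ[R] P where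
  toFun x := σ x.1 + x.2
  map_add' x y := by simp only [Prod.fst_add, map_add, Prod.snd_add, Submodule.coe_add]; abel
  map_smul' r x := by simp
  invFun p := (φ p, ⟨p - σ (φ p), by
    have := LinearMap.congr_fun hφσ (φ p)
    simp only [LinearMap.comp_apply, LinearMap.id_apply] at this
    simp [LinearMap.mem_ker, this]⟩)
  left_inv x := by
    have h1 := LinearMap.congr_fun hφσ x.1
    simp only [LinearMap.comp_apply, LinearMap.id_apply] at h1
    have h2 : φ (x.2 : P) = 0 := x.2.2
    refine Prod.ext ?_ (Subtype.ext ?_)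
    · simp [h1, h2]
    · simp [h1, h2]
  right_inv p := by simp

theorem main
    (h : ∀ (m : Ideal R) [m.IsMaximal], ∀ a b : Localization.AtPrime m, a ∣ b ∨ b ∣ a)
    [Module.FinitePresentation R M] :
    ∃ (n : ℕ) (f : Fin n → R) (N : Type u) (_ : AddCommGroup N) (_ : Module R N),
      Nonempty ((M × N) ≃ₗ[R] ((i : Fin n) → R ⧸ Ideal.span {f i})) := by
  have htop : retrIdeal (R := R) M = ⊤ := by
    by_contra hne
    obtain ⟨m, hm, hle⟩ := Ideal.exists_le_maximal _ hne
    obtain ⟨r, hr, hretr⟩ := local_retr (M := M) h m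
    exact hr (hle hretr)
  have h1 : Retr M (1 : R) := by
    have : (1 : R) ∈ retrIdeal (R := R) M := by rw [htop]; exact Submodule.mem_top
    exact this
  obtain ⟨ι, _, f, φ, σ, hφσ⟩ := h1
  rw [one_smul] at hφσ
  let e := Fintype.equivFin ι
  refine ⟨Fintype.card ι, fun j => f (e.symm j), LinearMap.ker φ, inferInstance, inferInstance, ⟨?_⟩⟩
  exact (splitEquiv φ σ hφσ).trans
    (LinearEquiv.piCongrLeft' R (fun i => R ⧸ Ideal.span {f i}) e)

end

/-- Let R be a ring such that for every maximal ideal m and all a, b in R_m, either a divides b or b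
divides a in R_m. Then each finitely presented R-module is a direct summand of a direct sum of
finitely many cyclic modules R/fR. -/
theorem result (R : Type u) [CommRing R]
    (h : ∀ (m : Ideal R) [m.IsMaximal], ∀ a b : Localization.AtPrime m, a ∣ b ∨ b ∣ a)
    (M : Type u) [AddCommGroup M] [Module R M] [Module.FinitePresentation R M] :
    ∃ (n : ℕ) (f : Fin n → R) (N : Type u) (_ : AddCommGroup N) (_ : Module R N),
      Nonempty ((M × N) ≃ₗ[R] ((i : Fin n) → R ⧸ Ideal.span {f i})) := by
  exact Groth.Agent.S2016.main h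

end Groth.Agent.S2016
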