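import Groth.Statements.S2017
import Mathlib.RingTheory.Adjoin.Tower
import Mathlib.RingTheory.FiniteType

set_option autoImplicit false
universe u
open EtAlg

namespace Groth.Agent.S2017

/-- Let R be a Noetherian ring, A, B, C R-algebras of finite type, f : A -> B a surjective R-algebra map
and g : C -> B an R-algebra map making B a finite C-module. Then the fibre product A ×_B C (the
equalizer of f ∘ pr₁ and g ∘ pr₂ in A × C) is an R-algebra of finite type. -/
theorem result (R A B C : Type u) [CommRing R] [IsNoetherianRing R] [CommRing A] [CommRing B]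
    [CommRing C] [Algebra R A] [Algebra R B] [Algebra R C] [Algebra.FiniteType R A] [Algebra.FiniteType R B]
    [Algebra.FiniteType R C] (f : A →ₐ[R] B) (hf : Function.Surjective f) (g : C →ₐ[R] B)
    (hg : (g.toRingHom).Finite) :
    Algebra.FiniteType R ↥(AlgHom.equalizer (f.comp (AlgHom.fst R A C)) (g.comp (AlgHom.snd R A C))) := by
  classical
  set D := AlgHom.equalizer (f.comp (AlgHom.fst R A C)) (g.comp (AlgHom.snd R A C)) with hD
  have hmem : ∀ a c, ((a, c) : A × C) ∈ D ↔ f a = g c := fun a c => by
    rw [hD, AlgHom.mem_equalizer]; simp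
  letI : Algebra C B := g.toRingHom.toAlgebra
  have hfin : Module.Finite C B := hg
  have hsmul : ∀ (c : C) (x : B), c • x = g c * x := fun c x => rfl
  obtain ⟨s, b, hb⟩ := Module.Finite.exists_fin (R := C) (M := B)
  choose a' ha' using fun j => hf (b j)
  have hgen : (⊤ : Submodule D (A × C)) =
      Submodule.span D (insert (1 : A × C) (Set.range fun j => ((a' j, 0) : A × C))) := by
    refine (eq_top_iff.2 ?_).symm
    rintro ⟨a, c⟩ -
    have hx : f a - g c ∈ Submodule.span C (Set.range b) := hb ▸ Submodule.mem_top
    obtain ⟨cj, hcj⟩ := (Submodule.mem_span_range_iff_exists_fun C).1 hx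
    choose α hα using fun j => hf (g (cj j))
    let d : Fin s → D := fun j => ⟨(α j, cj j), (hmem _ _).2 (hα j)⟩
    have hrest : ((a - ∑ j, α j * a' j, c) : A × C) ∈ D := by
      rw [hmem, map_sub, map_sum]
      simp only [map_mul, hα, ha']
      simp only [hsmul] at hcj
      rw [hcj]; ring
    have : ((a, c) : A × C) = (⟨_, hrest⟩ : D) • (1 : A × C) +
        ∑ j, d j • ((a' j, 0) : A × C) := by
      simp only [Subalgebra.smul_def, d]
      ext
      · simp [Prod.fst_sum]
      · simp [Prod.snd_sum]
    rw [this]
    exact Submodule.add_mem _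
      (Submodule.smul_mem _ _ (Submodule.subset_span (Set.mem_insert _ _)))
      (Submodule.sum_mem _ fun j _ => Submodule.smul_mem _ _
        (Submodule.subset_span (Set.mem_insert_of_mem _ ⟨j, rfl⟩)))
  have hfg : (⊤ : Submodule D (A × C)).FG := by
    rw [hgen]; exact Submodule.fg_span ((Set.finite_range _).insert _)
  have hAC : (⊤ : Subalgebra R (A × C)).FG :=
    (inferInstance : Algebra.FiniteType R (A × C)).out
  exact ⟨fg_of_fg_of_fg R D (A × C) hAC hfg Subtype.val_injective⟩

end Groth.Agent.S2017
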