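import Groth.Statements.S2018
-- import your own Groth.Agent.* helpers here

set_option autoImplicit false
universe u
open EtAlg

namespace Groth.Agent.S2018

open Polynomial in
/-- Let g : A' -> A be a surjective ring map and f : B -> A an integral ring map. Then the projection
from the fibre product B ×_A A' (the equalizer of f ∘ pr₁ and g ∘ pr₂ in B × A') to A' is integral. -/
theorem result (A A' B : Type u) [CommRing A] [CommRing A'] [CommRing B] (g : A' →+* A)
    (hg : Function.Surjective g) (f : B →+* A) (hf : f.IsIntegral) :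
    ((RingHom.snd B A').comp ((f.comp (RingHom.fst B A')).eqLocus (g.comp (RingHom.snd B A'))).subtype).IsIntegral := by
  intro a'
  set π := (RingHom.snd B A').comp ((f.comp (RingHom.fst B A')).eqLocus (g.comp (RingHom.snd B A'))).subtype with hπ
  have hker : ∀ c : A', g c = 0 → c ∈ π.range := by
    intro c hc
    refine ⟨⟨(0, c), ?_⟩, rfl⟩
    simp [RingHom.mem_eqLocus, hc]
  rcases subsingleton_or_nontrivial A with hA | hA
  · obtain ⟨e, he⟩ := hker a' (Subsingleton.elim _ _)
    rw [← he]
    exact RingHom.isIntegralElem_map π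
  have hB : Nontrivial B := f.domain_nontrivial
  obtain ⟨p₀, hp₀m, hp₀⟩ := hf (g a')
  -- make the degree positive
  set p := p₀ * X with hp
  have hpm : p.Monic := hp₀m.mul monic_X
  have hpe : eval₂ f (g a') p = 0 := by simp [hp, eval₂_mul, hp₀]
  have hpdeg : 0 < p.natDegree := by
    rw [hp, hp₀m.natDegree_mul monic_X]; simp
  -- lift to A'
  obtain ⟨q, hq, hqdeg, hqm⟩ := lifts_and_natDegree_eq_and_monic
    (mem_lifts_of_surjective hg (p.map f)) (hpm.map f)
  have hqdeg' : 0 < q.natDegree := by
    rw [hqdeg, hpm.natDegree_map]; exact hpdeg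
  set c := q.eval a' with hc
  have hgc : g c = 0 := by
    rw [hc, ← Polynomial.eval_map_apply, hq, eval_map]; exact hpe
  set r := q - C c with hr
  have hrm : r.Monic := by
    apply hqm.sub_of_left
    exact lt_of_le_of_lt degree_C_le (natDegree_pos_iff_degree_pos.mp hqdeg')
  have hrl : r ∈ lifts π := by
    rw [lifts_iff_coeff_lifts]
    intro n
    have h1 : q.coeff n ∈ π.range := by
      refine ⟨⟨(p.coeff n, q.coeff n), ?_⟩, rfl⟩
      have := congrArg (fun t => t.coeff n) hq
      simp only [coeff_map] at this
      simp [RingHom.mem_eqLocus, this]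
    have h2 : (C c).coeff n ∈ π.range := by
      rw [coeff_C]
      split_ifs
      · exact hker c hgc
      · exact π.range.zero_mem
    rw [hr, coeff_sub]
    exact π.range.sub_mem h1 h2
  obtain ⟨P, hP, -, hPm⟩ := lifts_and_natDegree_eq_and_monic hrl hrm
  refine ⟨P, hPm, ?_⟩
  rw [← eval_map, hP, hr, eval_sub, eval_C, hc, sub_self]

end Groth.Agent.S2018
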