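import Groth.Statements.S2022
import Mathlib
import Groth.Agent.Lib.Helper2.IndSm4
-- import your own Groth.Agent.* helpers here

set_option autoImplicit false
universe u
open Smoothing

namespace Groth.Agent.S2022

section

open Groth.Agent.Helper2.IndSm TensorProduct

theorem flat_quotient {R Λ : Type u} [CommRing R] [CommRing Λ] [Algebra R Λ] [Module.Flat R Λ]
    (a : Ideal R) : Module.Flat (R ⧸ a) (Λ ⧸ a.map (algebraMap R Λ)) :=
  Module.Flat.of_linearEquiv
    (Algebra.TensorProduct.quotIdealMapEquivQuotTensor Λ a).toLinearEquiv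

set_option maxHeartbeats 1600000 in
theorem step {R Λ : Type u} [CommRing R] [CommRing Λ] [Algebra R Λ] [Module.Flat R Λ]
    (a c : Ideal R) (hac : a ≤ c) (hc : c ^ 2 ≤ a)
    (h : Smoothing.IndSmooth (R ⧸ c) (Λ ⧸ c.map (algebraMap R Λ))) :
    Smoothing.IndSmooth (R ⧸ a) (Λ ⧸ a.map (algebraMap R Λ)) := by
  have hacΛ : a.map (algebraMap R Λ) ≤ c.map (algebraMap R Λ) := Ideal.map_mono hac
  letI : Algebra (R ⧸ a) (R ⧸ c) := (Ideal.Quotient.factor hac).toAlgebra
  letI : Algebra (Λ ⧸ a.map (algebraMap R Λ)) (Λ ⧸ c.map (algebraMap R Λ)) :=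
    (Ideal.Quotient.factor hacΛ).toAlgebra
  letI : Algebra (R ⧸ a) (Λ ⧸ c.map (algebraMap R Λ)) :=
    ((algebraMap (R ⧸ c) (Λ ⧸ c.map (algebraMap R Λ))).comp
      (algebraMap (R ⧸ a) (R ⧸ c))).toAlgebra
  haveI : IsScalarTower (R ⧸ a) (R ⧸ c) (Λ ⧸ c.map (algebraMap R Λ)) :=
    IsScalarTower.of_algebraMap_eq (fun _ => rfl)
  haveI : IsScalarTower (R ⧸ a) (Λ ⧸ a.map (algebraMap R Λ)) (Λ ⧸ c.map (algebraMap R Λ)) :=
    IsScalarTower.of_algebraMap_eq (fun x => by
      obtain ⟨r, rfl⟩ := Ideal.Quotient.mk_surjective x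
      rfl)
  haveI : Module.Flat (R ⧸ a) (Λ ⧸ a.map (algebraMap R Λ)) := flat_quotient a
  have hI' : (c.map (Ideal.Quotient.mk a)) ^ 2 = ⊥ := by
    rw [← Ideal.map_pow, eq_bot_iff]
    refine (Ideal.map_mono hc).trans ?_
    rw [Ideal.map_quotient_self]
  have hsurjR : Function.Surjective (algebraMap (R ⧸ a) (R ⧸ c)) :=
    Ideal.Quotient.factor_surjective hac
  have hkerR : RingHom.ker (algebraMap (R ⧸ a) (R ⧸ c)) = c.map (Ideal.Quotient.mk a) :=
    Ideal.Quotient.factor_ker hac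
  have hsurjΛ : Function.Surjective
      (algebraMap (Λ ⧸ a.map (algebraMap R Λ)) (Λ ⧸ c.map (algebraMap R Λ))) :=
    Ideal.Quotient.factor_surjective hacΛ
  have hkerΛ : RingHom.ker
      (algebraMap (Λ ⧸ a.map (algebraMap R Λ)) (Λ ⧸ c.map (algebraMap R Λ))) =
      (c.map (Ideal.Quotient.mk a)).map
        (algebraMap (R ⧸ a) (Λ ⧸ a.map (algebraMap R Λ))) := by
    have h1 : RingHom.ker
        (algebraMap (Λ ⧸ a.map (algebraMap R Λ)) (Λ ⧸ c.map (algebraMap R Λ))) =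
        (c.map (algebraMap R Λ)).map (Ideal.Quotient.mk (a.map (algebraMap R Λ))) :=
      Ideal.Quotient.factor_ker hacΛ
    rw [h1, Ideal.map_map, Ideal.map_map]
    rfl
  exact indSmooth_of_sq_zero (R := R ⧸ a) (R₀ := R ⧸ c) (Λ := Λ ⧸ a.map (algebraMap R Λ))
    (Λ₀ := Λ ⧸ c.map (algebraMap R Λ)) (c.map (Ideal.Quotient.mk a)) hI' hsurjR hkerR hsurjΛ hkerΛ h

theorem main {R Λ : Type u} [CommRing R] [CommRing Λ]
    [Algebra R Λ] (I : Ideal R) (hI : IsNilpotent I) [Module.Flat R Λ]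
    (h : Smoothing.IndSmooth (R ⧸ I) (Λ ⧸ I.map (algebraMap R Λ))) :
    Smoothing.IndSmooth R Λ := by
  obtain ⟨n, hn⟩ := hI
  rw [Ideal.zero_eq_bot] at hn
  have key : ∀ k : ℕ, 1 ≤ k → ∀ a : Ideal R, I ^ k ≤ a → a ≤ I →
      Smoothing.IndSmooth (R ⧸ a) (Λ ⧸ a.map (algebraMap R Λ)) := by
    intro k hk
    induction k, hk using Nat.le_induction with
    | base =>
      intro a h1 h2
      rw [pow_one] at h1
      obtain rfl : a = I := le_antisymm h2 h1
      exact h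
    | succ k hk ih =>
      intro a h1 h2
      have hc1 : I ^ k ≤ a ⊔ I ^ k := le_sup_right
      have hc2 : a ⊔ I ^ k ≤ I := sup_le h2 (Ideal.pow_le_self (by omega))
      refine step a (a ⊔ I ^ k) le_sup_left ?_ (ih _ hc1 hc2)
      rw [pow_two, Ideal.sup_mul, Ideal.mul_sup, Ideal.mul_sup]
      refine sup_le (sup_le Ideal.mul_le_left Ideal.mul_le_left) (sup_le Ideal.mul_le_right ?_)
      refine le_trans ?_ h1
      rw [← pow_add]
      exact Ideal.pow_le_pow_right (by omega)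
  have hbot : Smoothing.IndSmooth (R ⧸ (⊥ : Ideal R)) (Λ ⧸ (⊥ : Ideal R).map (algebraMap R Λ)) := by
    rcases Nat.eq_zero_or_pos n with h0 | hpos
    · -- `I ^ 0 = ⊤ = ⊥`: the ring is trivial, `I = ⊥`
      subst h0
      rw [pow_zero, Ideal.one_eq_top] at hn
      have hI : I = ⊥ := by
        rw [eq_bot_iff, ← hn]
        exact le_top
      subst hI
      exact h
    · exact key n hpos ⊥ (by rw [hn]) bot_le
  haveI : IsScalarTower R (R ⧸ (⊥ : Ideal R)) (Λ ⧸ (⊥ : Ideal R).map (algebraMap R Λ)) :=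
    IsScalarTower.of_algebraMap_eq (fun r => rfl)
  exact indSmooth_of_sq_zero (R₀ := R ⧸ (⊥ : Ideal R))
    (Λ₀ := Λ ⧸ (⊥ : Ideal R).map (algebraMap R Λ)) ⊥ (by simp)
    Ideal.Quotient.mk_surjective Ideal.mk_ker Ideal.Quotient.mk_surjective Ideal.mk_ker hbot

end

/-- Let `I` be a nilpotent ideal of `R` and `Λ` a flat `R`-algebra such that `Λ/IΛ` is ind-smooth over
`R/I` (every map from a finitely presented algebra factors through a smooth one). Then `Λ` is
ind-smooth over `R`. -/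
theorem result {R Λ : Type u} [CommRing R] [CommRing Λ]
    [Algebra R Λ] (I : Ideal R) (hI : IsNilpotent I) [Module.Flat R Λ]
    (h : Smoothing.IndSmooth (R ⧸ I) (Λ ⧸ I.map (algebraMap R Λ))) :
    Smoothing.IndSmooth R Λ := by
  exact Groth.Agent.S2022.main I hI h

end Groth.Agent.S2022
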