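import Groth.Statements.S2025
import Mathlib
import Groth.Agent.Lib.Helper2.SymSm5
-- import your own Groth.Agent.* helpers here

set_option autoImplicit false
universe u
open Smoothing

namespace Groth.Agent.S2025

section

open TensorProduct KaehlerDifferential Groth.Agent.Helper2.SymSm

theorem aux {R A : Type u} [CommRing R] [CommRing A] [Algebra R A] [Algebra.Smooth R A]
    {M F : Type u} [AddCommGroup M] [Module A M] [AddCommGroup F] [Module A F]
    {n : ℕ} (bF : Module.Basis (Fin n) A F)
    (cc : M →ₗ[A] F) (l : F →ₗ[A] M) (π : F →ₗ[A] Ω[A⁄R]) (x : Fin n → A)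
    (hl : l ∘ₗ cc = LinearMap.id) (hex : Function.Exact cc π)
    (hπ : Function.Surjective π) (hx : ∀ j, π (bF j) = D R A (x j)) :
    ∃ (B : Type u) (_ : CommRing B) (_ : Algebra R B) (_ : Algebra A B) (_ : IsScalarTower R A B),
      Algebra.Smooth A B ∧ Nonempty (B →ₐ[A] A) ∧ Algebra.IsStandardSmooth R B := by
  classical
  letI : Algebra R (SymmetricAlgebra A M) :=
    ((algebraMap A (SymmetricAlgebra A M)).comp (algebraMap R A)).toAlgebra
  haveI : IsScalarTower R A (SymmetricAlgebra A M) := IsScalarTower.of_algebraMap_eq (fun _ => rfl)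
  haveI : Module.Projective A M := projective_of_retract bF cc l hl
  haveI : Algebra.FormallySmooth A (SymmetricAlgebra A M) := formallySmooth_sym A M
  haveI : Algebra.FinitePresentation A (SymmetricAlgebra A M) := finitePresentation_sym bF cc l hl
  haveI : Algebra.Smooth A (SymmetricAlgebra A M) := ⟨inferInstance, inferInstance⟩
  haveI : Algebra.Smooth R (SymmetricAlgebra A M) := Algebra.Smooth.comp R A (SymmetricAlgebra A M)
  obtain ⟨eC⟩ := nonempty_kaehler_equiv_pi (R := R) bF cc l π hl hex hπ
  obtain ⟨g, hg1, hg2⟩ := exists_g (R := R) bF cc l π x hl hex hπ hx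
  refine ⟨Localization.Away g, inferInstance, inferInstance, inferInstance, ?_, ?_, ?_, ?_⟩
  · refine IsScalarTower.of_algebraMap_eq fun r => ?_
    rw [IsScalarTower.algebraMap_apply R (SymmetricAlgebra A M) (Localization.Away g),
      IsScalarTower.algebraMap_apply R A (SymmetricAlgebra A M),
      ← IsScalarTower.algebraMap_apply A (SymmetricAlgebra A M) (Localization.Away g)]
  · haveI : Algebra.Smooth (SymmetricAlgebra A M) (Localization.Away g) :=
      Algebra.Smooth.of_isLocalization_Away g
    exact Algebra.Smooth.comp A (SymmetricAlgebra A M) (Localization.Away g)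
  · have hu : ∀ y : Submonoid.powers g, IsUnit ((SymmetricAlgebra.algebraMapInv (R := A) (M := M)) y) := by
      rintro ⟨_, k, rfl⟩
      have h1 : (SymmetricAlgebra.algebraMapInv (R := A) (M := M)) g = 1 := by
        have : (SymmetricAlgebra.algebraMapInv (R := A) (M := M)) (g - 1) = 0 := hg1
        rw [map_sub, map_one, sub_eq_zero] at this
        exact this
      simp [h1]
    exact ⟨IsLocalization.liftAlgHom (M := Submonoid.powers g) (S := Localization.Away g) hu⟩
  · haveI : Algebra.Smooth (SymmetricAlgebra A M) (Localization.Away g) :=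
      Algebra.Smooth.of_isLocalization_Away g
    haveI : Algebra.Smooth R (Localization.Away g) :=
      Algebra.Smooth.comp R (SymmetricAlgebra A M) (Localization.Away g)
    exact isStandardSmooth_of_localization g eC (bel bF l x) hg2

theorem main {R A : Type u} [CommRing R] [CommRing A]
    [Algebra R A] [Algebra.Smooth R A] :
    ∃ (B : Type u) (_ : CommRing B) (_ : Algebra R B) (_ : Algebra A B) (_ : IsScalarTower R A B),
      Algebra.Smooth A B ∧ Nonempty (B →ₐ[A] A) ∧ Algebra.IsStandardSmooth R B := by
  obtain ⟨n, ⟨P⟩⟩ := (Algebra.FiniteType.iff_exists_generators (R := R) (S := A)).mp inferInstance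
  haveI : Algebra.FormallySmooth R P.toExtension.Ring :=
    inferInstanceAs (Algebra.FormallySmooth R (MvPolynomial (Fin n) R))
  obtain ⟨l, hl⟩ := (P.toExtension.formallySmooth_iff_split_injection).mp inferInstance
  exact aux P.cotangentSpaceBasis P.toExtension.cotangentComplex l P.toExtension.toKaehler P.val hl
    P.toExtension.exact_cotangentComplex_toKaehler P.toExtension.toKaehler_surjective
    (fun j => P.toKaehler_cotangentSpaceBasis j)

end

/-- If `A` is smooth over `R` there is a smooth `A`-algebra `B` with an `A`-algebra retraction `B → A`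
such that `B` is standard smooth over `R`. -/
theorem result {R A : Type u} [CommRing R] [CommRing A]
    [Algebra R A] [Algebra.Smooth R A] :
    ∃ (B : Type u) (_ : CommRing B) (_ : Algebra R B) (_ : Algebra A B) (_ : IsScalarTower R A B),
      Algebra.Smooth A B ∧ Nonempty (B →ₐ[A] A) ∧ Algebra.IsStandardSmooth R B := by
  exact Groth.Agent.S2025.main

end Groth.Agent.S2025
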