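import Groth.Statements.S2029
import Mathlib
import Groth.Agent.Lib.Helper2.Elem2
import Groth.Agent.Lib.Helper2.Elem3
import Groth.Agent.S2025
-- import your own Groth.Agent.* helpers here

set_option autoImplicit false
universe u
open Smoothing

namespace Groth.Agent.S2029

section

open TensorProduct MvPolynomial Algebra Groth.Agent.Helper2.Elem

attribute [local instance] Algebra.TensorProduct.rightAlgebra

set_option maxHeartbeats 3200000 in
theorem main {R A Λ Rₛ B' : Type u} [CommRing R] [CommRing A] [Algebra R A]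
    [Algebra.FinitePresentation R A] [CommRing Λ] [Algebra R Λ] (φ : A →ₐ[R] Λ) (S : Submonoid R)
    [CommRing Rₛ] [Algebra R Rₛ] [IsLocalization S Rₛ] [CommRing B'] [Algebra Rₛ B']
    [Algebra.Smooth Rₛ B'] (g : Rₛ ⊗[R] A →ₐ[Rₛ] B') (h : B' →ₐ[Rₛ] Rₛ ⊗[R] Λ)
    (hgh : h.comp g = Algebra.TensorProduct.map (AlgHom.id Rₛ Rₛ) φ) :
    ∃ (B : Type u) (_ : CommRing B) (_ : Algebra R B) (α : A →ₐ[R] B) (β : B →ₐ[R] Λ),
      β.comp α = φ ∧ ∃ s ∈ S, Smoothing.IsElementaryStandard R B (algebraMap R B s) := by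
  classical
  -- Step 1: make `B'` standard smooth
  obtain ⟨B'', _, _, _, _, -, ⟨retr⟩, hstd⟩ := Groth.Agent.S2025.result (R := Rₛ) (A := B')
  let g'' : Rₛ ⊗[R] A →ₐ[Rₛ] B'' := (IsScalarTower.toAlgHom Rₛ B' B'').comp g
  let h'' : B'' →ₐ[Rₛ] Rₛ ⊗[R] Λ := h.comp (retr.restrictScalars Rₛ)
  have hgh'' : ∀ x, h'' (g'' x) = Algebra.TensorProduct.map (AlgHom.id Rₛ Rₛ) φ x := by
    intro x
    change h (retr (algebraMap B' B'' (g x))) = _
    rw [retr.commutes]
    exact congrArg (fun F => F x) hgh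
  obtain ⟨ι, σ, _, _, ⟨P₀⟩⟩ := hstd.out
  cases nonempty_fintype ι
  cases nonempty_fintype σ
  -- Step 2: presentation of `A`
  obtain ⟨n, p, hp, T, hT⟩ := Algebra.FinitePresentation.out (R := R) (A := A)
  -- Step 3: the localization property of `Rₛ ⊗ Λ`
  haveI hloc : IsLocalizedModule S (TensorProduct.mk R Rₛ Λ 1) :=
    (isLocalizedModule_iff_isBaseChange S Rₛ _).mpr (TensorProduct.isBaseChange R Λ Rₛ)
  have hkerΛ : ∀ x : Λ, algebraMap Λ (Rₛ ⊗[R] Λ) x = 0 → ∃ s ∈ S, s • x = 0 := by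
    intro x hx
    have h1 : TensorProduct.mk R Rₛ Λ 1 x = 0 := hx
    rw [IsLocalizedModule.eq_zero_iff S] at h1
    obtain ⟨s, hs⟩ := h1
    exact ⟨s.1, s.2, hs⟩
  -- Step 4: rescale the generators so that their images are integral
  have hsurjΛ : ∀ k : ι, ∃ (s : S) (l : Λ), (s : R) • h'' (P₀.val k) = algebraMap Λ (Rₛ ⊗[R] Λ) l := by
    intro k
    obtain ⟨⟨l, s⟩, hls⟩ := IsLocalizedModule.surj S (TensorProduct.mk R Rₛ Λ 1) (h'' (P₀.val k))
    exact ⟨s, l, hls⟩
  choose sk lam₀ hlam₀ using hsurjΛ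
  let uu : ι → Rₛ := fun k => algebraMap R Rₛ (sk k)
  let uinv : ι → Rₛ := fun k => IsLocalization.mk' Rₛ 1 (sk k)
  have huu : ∀ k, uu k * uinv k = 1 := by
    intro k
    simp only [uu, uinv]
    rw [mul_comm, IsLocalization.mk'_spec, map_one]
  let P₁ : SubmersivePresentation Rₛ B'' ι σ := rescale P₀ uu uinv huu
  have hP₁val : ∀ k, P₁.val k = uu k • P₀.val k := fun k => rfl
  -- Step 5: add the generators of `A`
  let a : Fin n → B'' := fun i => g'' ((1 : Rₛ) ⊗ₜ[R] p (X i))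
  let Pt : SubmersivePresentation Rₛ B'' (Fin n ⊕ ι) (Fin n ⊕ σ) := (graph a).comp P₁
  have hPtval : Pt.val = Sum.elim a P₁.val := by
    funext z
    cases z with
    | inl i => rfl
    | inr k => rfl
  let lam : Fin n ⊕ ι → Λ := Sum.elim (fun i => φ (p (X i))) lam₀
  have hlam : ∀ z, h'' (Pt.val z) = algebraMap Λ (Rₛ ⊗[R] Λ) (lam z) := by
    intro z
    rw [hPtval]
    cases z with
    | inl i =>
      change h'' (g'' ((1 : Rₛ) ⊗ₜ[R] p (X i))) = _
      rw [hgh'']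
      simp [lam, Algebra.TensorProduct.right_algebraMap_apply]
    | inr k =>
      change h'' (P₁.val k) = algebraMap Λ (Rₛ ⊗[R] Λ) (lam₀ k)
      rw [hP₁val, map_smul, ← hlam₀ k]
      simp only [uu]
      rw [algebraMap_smul]
  -- Step 6: clear denominators
  obtain ⟨F, hFlam, hK, a₀, s₀, hs₀, hU⟩ := core S Pt h'' hkerΛ lam hlam
  -- Step 7: tail relations
  have haeval : ∀ f : MvPolynomial (Fin n) R,
      aeval Pt.val (map (algebraMap R Rₛ) (rename Sum.inl f)) = g'' ((1 : Rₛ) ⊗ₜ[R] p f) := by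
    intro f
    have h1 : ((aeval Pt.val : MvPolynomial (Fin n ⊕ ι) Rₛ →ₐ[Rₛ] B'').toRingHom.comp
        (map (algebraMap R Rₛ))).comp (rename Sum.inl : MvPolynomial (Fin n) R →ₐ[R] _).toRingHom =
        (g''.toRingHom.comp (Algebra.TensorProduct.includeRight : A →ₐ[R] Rₛ ⊗[R] A).toRingHom).comp
          p.toRingHom := by
      apply MvPolynomial.ringHom_ext
      · intro r
        simp only [RingHom.comp_apply, AlgHom.toRingHom_eq_coe, RingHom.coe_coe, algHom_C,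
          map_C, AlgHom.commutes]
        rw [IsScalarTower.algebraMap_apply R Rₛ (Rₛ ⊗[R] A), AlgHom.commutes]
        rw [MvPolynomial.algebraMap_eq, map_C, aeval_C]
      · intro i
        simp only [RingHom.comp_apply, AlgHom.toRingHom_eq_coe, RingHom.coe_coe, rename_X,
          map_X, aeval_X, Algebra.TensorProduct.includeRight_apply]
        rw [hPtval]
        rfl
    exact congrArg (fun F => F f) h1
  have htail : ∀ l : ↥T, ∃ s ∈ S, C s * rename Sum.inl (l : MvPolynomial (Fin n) R) ∈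
      Ideal.span (Set.range F) := by
    intro l
    apply hK
    rw [haeval]
    have h1 : p (l : MvPolynomial (Fin n) R) = 0 := by
      have h2 : (l : MvPolynomial (Fin n) R) ∈ RingHom.ker p.toRingHom := by
        rw [← hT]
        exact Ideal.subset_span l.2
      exact h2
    rw [h1, tmul_zero, map_zero]
  choose sl hsl hslmem using htail
  -- Step 8: the algebra `B`
  let rel : (Fin n ⊕ σ) ⊕ ↥T → MvPolynomial (Fin n ⊕ ι) R :=
    Sum.elim F (fun l => rename Sum.inl (l : MvPolynomial (Fin n) R))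
  let Irel : Ideal (MvPolynomial (Fin n ⊕ ι) R) := Ideal.span (Set.range rel)
  have hFle : Ideal.span (Set.range F) ≤ Irel := by
    apply Ideal.span_mono
    rintro _ ⟨j, rfl⟩
    exact ⟨Sum.inl j, rfl⟩
  let φB : MvPolynomial (Fin n ⊕ ι) R →ₐ[R] (MvPolynomial (Fin n ⊕ ι) R ⧸ Irel) :=
    Ideal.Quotient.mkₐ R Irel
  have hφBsurj : Function.Surjective φB := Ideal.Quotient.mkₐ_surjective R Irel
  have hφBker : RingHom.ker φB.toRingHom = Ideal.span (Set.range rel) :=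
    Ideal.Quotient.mkₐ_ker R Irel
  have hφB0 : ∀ x ∈ Irel, φB x = 0 := fun x hx => Ideal.Quotient.eq_zero_iff_mem.mpr hx
  have hlamp : ∀ f : MvPolynomial (Fin n) R, aeval lam (rename Sum.inl f) = φ (p f) := by
    intro f
    rw [aeval_rename]
    have h1 : (aeval (lam ∘ Sum.inl) : MvPolynomial (Fin n) R →ₐ[R] Λ) = φ.comp p := by
      apply MvPolynomial.algHom_ext
      intro i
      simp [lam]
    exact congrArg (fun F => F f) h1
  have hpT : ∀ f ∈ RingHom.ker p.toRingHom, rename Sum.inl f ∈ Irel := by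
    intro f hf
    rw [← hT] at hf
    have h1 : Ideal.span (T : Set (MvPolynomial (Fin n) R)) ≤
        Ideal.comap (rename Sum.inl : MvPolynomial (Fin n) R →ₐ[R] MvPolynomial (Fin n ⊕ ι) R) Irel := by
      rw [Ideal.span_le]
      intro l hl
      exact Ideal.subset_span ⟨Sum.inr ⟨l, hl⟩, rfl⟩
    exact h1 hf
  let α : A →ₐ[R] (MvPolynomial (Fin n ⊕ ι) R ⧸ Irel) :=
    AlgHom.liftOfSurjective p hp (φB.comp (rename Sum.inl)) (by
      intro f hf
      rw [RingHom.mem_ker]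
      exact hφB0 _ (hpT f hf))
  have hα : ∀ f, α (p f) = φB (rename Sum.inl f) := fun f =>
    AlgHom.liftOfSurjective_apply p hp _ _ f
  have hβwd : ∀ x ∈ Irel, aeval lam x = 0 := by
    intro x hx
    have h1 : Irel ≤ RingHom.ker (aeval lam : MvPolynomial (Fin n ⊕ ι) R →ₐ[R] Λ).toRingHom := by
      rw [Ideal.span_le]
      rintro _ ⟨z, rfl⟩
      rw [SetLike.mem_coe, RingHom.mem_ker]
      cases z with
      | inl j => exact hFlam j
      | inr l =>
        change aeval lam (rename Sum.inl (l : MvPolynomial (Fin n) R)) = 0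
        rw [hlamp]
        have h2 : (l : MvPolynomial (Fin n) R) ∈ RingHom.ker p.toRingHom := by
          rw [← hT]
          exact Ideal.subset_span l.2
        have h3 : p (l : MvPolynomial (Fin n) R) = 0 := h2
        rw [h3, map_zero]
    exact h1 hx
  let β : (MvPolynomial (Fin n ⊕ ι) R ⧸ Irel) →ₐ[R] Λ := Ideal.Quotient.liftₐ Irel (aeval lam) hβwd
  have hβα : β.comp α = φ := by
    ext x
    obtain ⟨f, rfl⟩ := hp x
    rw [AlgHom.comp_apply, hα]
    change aeval lam (rename Sum.inl f) = φ (p f)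
    exact hlamp f
  refine ⟨MvPolynomial (Fin n ⊕ ι) R ⧸ Irel, inferInstance, inferInstance, α, β, hβα,
    s₀ * ∏ l : ↥T, sl l, S.mul_mem hs₀ (Submonoid.prod_mem S fun l _ => hsl l), ?_⟩
  -- Step 9: elementary standard
  have hb : algebraMap R (MvPolynomial (Fin n ⊕ ι) R ⧸ Irel) (s₀ * ∏ l : ↥T, sl l) =
      φB (C (∏ l : ↥T, sl l) * a₀) *
        φB (Matrix.det (Matrix.of fun j k : Fin n ⊕ σ =>
          pderiv ((⟨Pt.map, Pt.map_inj⟩ : (Fin n ⊕ σ) ↪ (Fin n ⊕ ι)) k)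
            (rel ((⟨Sum.inl, Sum.inl_injective⟩ : (Fin n ⊕ σ) ↪ (Fin n ⊕ σ) ⊕ ↥T) j)))) := by
    have h1 := hφB0 _ (hFle hU)
    rw [map_sub, sub_eq_zero] at h1
    change φB (C (s₀ * ∏ l : ↥T, sl l)) = _
    rw [← map_mul, mul_assoc, map_mul φB (C _) _]
    have h2 : (a₀ * Matrix.det (Matrix.of fun j k : Fin n ⊕ σ =>
          pderiv ((⟨Pt.map, Pt.map_inj⟩ : (Fin n ⊕ σ) ↪ (Fin n ⊕ ι)) k)
            (rel ((⟨Sum.inl, Sum.inl_injective⟩ : (Fin n ⊕ σ) ↪ (Fin n ⊕ σ) ⊕ ↥T) j)))) =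
        a₀ * Matrix.det (Matrix.of fun j k : Fin n ⊕ σ => pderiv (Pt.map k) (F j)) := rfl
    rw [h2, ← h1, ← map_mul, C_mul]
    ring_nf
  refine isElementaryStandard_of_fintype rel φB hφBsurj hφBker
    ⟨Sum.inl, Sum.inl_injective⟩ ⟨Pt.map, Pt.map_inj⟩ _ _ hb ?_
  intro a₁ ha₁ ℓ
  have hrows : Set.range (rel ∘ ⇑(⟨Sum.inl, Sum.inl_injective⟩ :
      (Fin n ⊕ σ) ↪ (Fin n ⊕ σ) ⊕ ↥T)) = Set.range F := by
    congr 1
  rw [hrows]
  have hφBker' : RingHom.ker φB.toRingHom = Irel := Ideal.Quotient.mkₐ_ker R Irel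
  have h1 : a₁ - C (s₀ * ∏ l : ↥T, sl l) ∈ Irel := by
    rw [← hφBker', RingHom.mem_ker]
    change φB (a₁ - C (s₀ * ∏ l : ↥T, sl l)) = 0
    rw [map_sub, ha₁, sub_eq_zero]
    rfl
  have h2 : a₁ * rel ℓ = (a₁ - C (s₀ * ∏ l : ↥T, sl l)) * rel ℓ +
      C (s₀ * ∏ l : ↥T, sl l) * rel ℓ := by ring
  rw [h2]
  refine Ideal.add_mem _ (Ideal.mem_sup_right ?_) (Ideal.mem_sup_left ?_)
  · rw [pow_two]
    exact Ideal.mul_mem_mul h1 (Ideal.subset_span ⟨ℓ, rfl⟩)
  · cases ℓ with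
    | inl j => exact Ideal.mul_mem_left _ _ (Ideal.subset_span ⟨j, rfl⟩)
    | inr l =>
      change C (s₀ * ∏ l : ↥T, sl l) * rename Sum.inl (l : MvPolynomial (Fin n) R) ∈ _
      obtain ⟨c, hc⟩ := Finset.dvd_prod_of_mem sl (Finset.mem_univ l)
      rw [hc]
      have h3 : C (s₀ * (sl l * c)) *
          (rename Sum.inl (l : MvPolynomial (Fin n) R) : MvPolynomial (Fin n ⊕ ι) R) =
          C (s₀ * c) * (C (sl l) * rename Sum.inl (l : MvPolynomial (Fin n) R)) := by
        rw [← mul_assoc (C (s₀ * c)), ← C_mul]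
        congr 2
        ring
      rw [h3]
      exact Ideal.mul_mem_left _ _ (hslmem l)

end

open TensorProduct in
/-- Let `R → A → Λ` with `A` finitely presented over `R`, `S ⊆ R` a multiplicative subset and `R_S` the
localization. If `R_S ⊗ A → R_S ⊗ Λ` factors through a smooth `R_S`-algebra, then `A → Λ` factors
through an `R`-algebra `B` in which some element of `S` is elementary standard over `R`. -/
theorem result {R A Λ Rₛ B' : Type u} [CommRing R] [CommRing A] [Algebra R A]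
    [Algebra.FinitePresentation R A] [CommRing Λ] [Algebra R Λ] (φ : A →ₐ[R] Λ) (S : Submonoid R)
    [CommRing Rₛ] [Algebra R Rₛ] [IsLocalization S Rₛ] [CommRing B'] [Algebra Rₛ B']
    [Algebra.Smooth Rₛ B'] (g : Rₛ ⊗[R] A →ₐ[Rₛ] B') (h : B' →ₐ[Rₛ] Rₛ ⊗[R] Λ)
    (hgh : h.comp g = Algebra.TensorProduct.map (AlgHom.id Rₛ Rₛ) φ) :
    ∃ (B : Type u) (_ : CommRing B) (_ : Algebra R B) (α : A →ₐ[R] B) (β : B →ₐ[R] Λ),
      β.comp α = φ ∧ ∃ s ∈ S, Smoothing.IsElementaryStandard R B (algebraMap R B s) := by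
  exact Groth.Agent.S2029.main φ S g h hgh

end Groth.Agent.S2029
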