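import Groth.Statements.S2050
-- import your own Groth.Agent.* helpers here
import Groth.Agent.Lib.Helper27.LfpB

set_option autoImplicit false
universe u
open CAlg

namespace Groth.Agent.S2050

/-- Let `S = R[x_1, …, x_n]` and `M` a finite `S`-module, flat over `R`, such that for every prime `𝔭`
of `R` the localization `M_𝔭` is finitely presented over `S_𝔭`. If `R` embeds into the product of
finitely many of its local rings, then `M` is finitely presented over `S`. -/
theorem result {R : Type u} [CommRing R] (n : ℕ)
    {M : Type u} [AddCommGroup M] [Module (MvPolynomial (Fin n) R) M] [Module R M]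
    [IsScalarTower R (MvPolynomial (Fin n) R) M] [Module.Finite (MvPolynomial (Fin n) R) M] [Module.Flat R M]
    (s : Finset (PrimeSpectrum R))
    (hs : Function.Injective fun r : R => fun p : s => algebraMap R (Localization.AtPrime p.1.asIdeal) r)
    (hloc : ∀ (p : Ideal R) [p.IsPrime],
      Module.FinitePresentation
        (Localization (Algebra.algebraMapSubmonoid (MvPolynomial (Fin n) R) p.primeCompl))
        (LocalizedModule (Algebra.algebraMapSubmonoid (MvPolynomial (Fin n) R) p.primeCompl) M)) :
    Module.FinitePresentation (MvPolynomial (Fin n) R) M := by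
  classical
  obtain ⟨r, π, hπ⟩ := Module.Finite.exists_fin' (MvPolynomial (Fin n) R) M
  refine Module.finitePresentation_of_surjective π hπ ?_
  refine Groth.Agent.Helper27.Lfp.ker_fg s hs π hπ ?_
  intro p hp
  obtain ⟨W, hW1, hW2⟩ := Groth.Agent.Helper27.Lfp.exists_finset_ker_of_localized_fp
    (Algebra.algebraMapSubmonoid (MvPolynomial (Fin n) R) p.primeCompl) π hπ (hloc p)
  refine ⟨W, hW1, ?_⟩
  intro x hx
  obtain ⟨t, ⟨t0, ht0, rfl⟩, ht⟩ := hW2 x hx
  exact ⟨t0, ht0, ht⟩

end Groth.Agent.S2050
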