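import Groth.Statements.S2055
import Mathlib
import Groth.Agent.Lib.Helper22.PowTors2

set_option autoImplicit false
universe u
open CAlg

namespace Groth.Agent.S2055

open TensorProduct in
/-- Let `R → S` be flat and `I ⊆ R` a finitely generated ideal with `R/I → S/IS` bijective. If one of
the `R`-modules `M`, `N` has every element killed by a power of `I`, then base change of linear maps
`Hom_R(M, N) → Hom_S(S ⊗ M, S ⊗ N)` is bijective. -/
theorem result {R S M N : Type u} [CommRing R] [CommRing S]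
    [Algebra R S] [Module.Flat R S] (I : Ideal R) (hI : I.FG)
    (hq : Function.Bijective (algebraMap (R ⧸ I) (S ⧸ I.map (algebraMap R S))))
    [AddCommGroup M] [Module R M] [AddCommGroup N] [Module R N]
    (hMN : (∀ x : M, ∃ n : ℕ, ∀ a ∈ I ^ n, a • x = 0) ∨ (∀ y : N, ∃ n : ℕ, ∀ a ∈ I ^ n, a • y = 0)) :
    Function.Bijective (fun f : M →ₗ[R] N => LinearMap.baseChange S f) := by
  have hq' : Function.Bijective (Ideal.quotientMap (I.map (algebraMap R S)) (algebraMap R S)
      Ideal.le_comap_map) := hq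
  have hE : ∀ (g : S ⊗[R] M →ₗ[S] S ⊗[R] N) (m : M), ∃ y : N,
      (∃ n : ℕ, ∀ a ∈ I ^ n, a • y = 0) ∧ (1 : S) ⊗ₜ[R] y = g ((1 : S) ⊗ₜ[R] m) := by
    intro g m
    rcases hMN with hM | hN
    · obtain ⟨n, hn⟩ := hM m
      have hz : ∀ a ∈ I ^ n, a • g ((1 : S) ⊗ₜ[R] m) = 0 := by
        intro a ha
        rw [← LinearMap.map_smul_of_tower, ← TensorProduct.tmul_smul, hn a ha,
          TensorProduct.tmul_zero, map_zero]
      obtain ⟨y, hy, hyz⟩ := Groth.Agent.Helper22.PowTors.exists_of_killed I hI hq' N n _ hz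
      exact ⟨y, ⟨n, hy⟩, hyz⟩
    · obtain ⟨y, hy⟩ := (Groth.Agent.Helper22.PowTors.bij_of_powTorsion I hq' N hN).2
        (g ((1 : S) ⊗ₜ[R] m))
      exact ⟨y, hN y, hy⟩
  constructor
  · intro f₁ f₂ h
    ext m
    have ht : ∃ n : ℕ, ∀ a ∈ I ^ n, a • (f₁ m - f₂ m) = 0 := by
      rcases hMN with hM | hN
      · obtain ⟨n, hn⟩ := hM m
        exact ⟨n, fun a ha => by
          rw [smul_sub, ← map_smul, ← map_smul, hn a ha, map_zero, map_zero, sub_zero]⟩
      · exact hN _
    have h0 : (1 : S) ⊗ₜ[R] (f₁ m - f₂ m) = 0 := by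
      have := LinearMap.congr_fun h ((1 : S) ⊗ₜ[R] m)
      simp only [LinearMap.baseChange_tmul] at this
      rw [TensorProduct.tmul_sub, this, sub_self]
    exact sub_eq_zero.1
      (Groth.Agent.Helper22.PowTors.eq_zero_of_tmul_eq_zero I hq' N _ ht h0)
  · intro g
    choose f hf using hE g
    have huniq : ∀ (m : M) (y : N), (∃ n : ℕ, ∀ a ∈ I ^ n, a • y = 0) →
        (1 : S) ⊗ₜ[R] y = g ((1 : S) ⊗ₜ[R] m) → y = f m := by
      intro m y hy hyz
      have ht : ∃ n : ℕ, ∀ a ∈ I ^ n, a • (y - f m) = 0 := by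
        obtain ⟨n₁, h1⟩ := hy
        obtain ⟨n₂, h2⟩ := (hf m).1
        refine ⟨max n₁ n₂, fun a ha => ?_⟩
        rw [smul_sub, h1 a (Ideal.pow_le_pow_right (le_max_left _ _) ha),
          h2 a (Ideal.pow_le_pow_right (le_max_right _ _) ha), sub_zero]
      have h0 : (1 : S) ⊗ₜ[R] (y - f m) = 0 := by
        rw [TensorProduct.tmul_sub, hyz, (hf m).2, sub_self]
      exact sub_eq_zero.1
        (Groth.Agent.Helper22.PowTors.eq_zero_of_tmul_eq_zero I hq' N _ ht h0)
    let F : M →ₗ[R] N :=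
      { toFun := f
        map_add' := by
          intro m₁ m₂
          refine (huniq (m₁ + m₂) (f m₁ + f m₂) ?_ ?_).symm
          · obtain ⟨n₁, h1⟩ := (hf m₁).1
            obtain ⟨n₂, h2⟩ := (hf m₂).1
            refine ⟨max n₁ n₂, fun a ha => ?_⟩
            rw [smul_add, h1 a (Ideal.pow_le_pow_right (le_max_left _ _) ha),
              h2 a (Ideal.pow_le_pow_right (le_max_right _ _) ha), add_zero]
          · rw [TensorProduct.tmul_add, (hf m₁).2, (hf m₂).2, ← map_add, ← TensorProduct.tmul_add]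
        map_smul' := by
          intro c m
          refine (huniq (c • m) (c • f m) ?_ ?_).symm
          · obtain ⟨n, h1⟩ := (hf m).1
            exact ⟨n, fun a ha => by rw [smul_comm, h1 a ha, smul_zero]⟩
          · rw [TensorProduct.tmul_smul, (hf m).2, ← LinearMap.map_smul_of_tower,
              ← TensorProduct.tmul_smul] }
    refine ⟨F, ?_⟩
    apply TensorProduct.AlgebraTensorModule.ext
    intro s m
    show LinearMap.baseChange S F (s ⊗ₜ[R] m) = g (s ⊗ₜ[R] m)
    rw [LinearMap.baseChange_tmul]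
    have h1 : s ⊗ₜ[R] F m = s • ((1 : S) ⊗ₜ[R] F m) := by
      rw [TensorProduct.smul_tmul', smul_eq_mul, mul_one]
    have h2 : s ⊗ₜ[R] m = s • ((1 : S) ⊗ₜ[R] m) := by
      rw [TensorProduct.smul_tmul', smul_eq_mul, mul_one]
    rw [h1, h2, map_smul]
    congr 1
    exact (hf m).2

end Groth.Agent.S2055
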