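import Groth.Statements.S2059
import Groth.Statements.S2059
import Mathlib
-- import your own Groth.Agent.* helpers here

set_option autoImplicit false
universe u
open CAlg

namespace Groth.Agent.S2059

section
open Cardinal

/-- a field generated over `k` by an infinite family of size `< #k` is algebraic over `k`. -/
theorem alg_of_gen {k K ι : Type u} [Field k] [Field K] [Algebra k K] (g : ι → K)
    (hg : Algebra.adjoin k (Set.range g) = ⊤) (hinf : ℵ₀ ≤ #ι) (hcard : #ι < #k) :
    Algebra.IsAlgebraic k K := by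
  refine ⟨fun x => ?_⟩
  by_contra hx
  have hx' : Transcendental k x := hx
  have h1 : #k ≤ Module.rank k K := hx'.linearIndependent_sub_inv.cardinal_le_rank
  have hsurj : Function.Surjective (MvPolynomial.aeval g : MvPolynomial ι k →ₐ[k] K) := by
    rw [← AlgHom.range_eq_top, ← Algebra.adjoin_range_eq_range_aeval]
    exact hg
  have h2 : Module.rank k K ≤ Module.rank k (MvPolynomial ι k) :=
    LinearMap.rank_le_of_surjective (MvPolynomial.aeval g : MvPolynomial ι k →ₐ[k] K).toLinearMap hsurj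
  have hne : Nonempty ι := by
    by_contra hemp
    rw [not_nonempty_iff] at hemp
    have : #ι = 0 := Cardinal.mk_eq_zero ι
    rw [this] at hinf
    exact absurd hinf (by simpa using Cardinal.aleph0_ne_zero)
  rw [MvPolynomial.rank_eq, Cardinal.mk_finsupp_nat, max_eq_left hinf] at h2
  exact absurd (h1.trans h2) (not_le.2 hcard)

variable {k S : Type u} [Field k] [CommRing S] [Algebra k S]

theorem finite_case (s : Set S) (hs : Algebra.adjoin k s = ⊤) (hfin : s.Finite) :
    (∀ (m : Ideal S) [m.IsMaximal], Algebra.IsAlgebraic k (S ⧸ m)) ∧ IsJacobsonRing S := by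
  have hft : Algebra.FiniteType k S := ⟨⟨hfin.toFinset, by simpa using hs⟩⟩
  refine ⟨?_, isJacobsonRing_of_finiteType (A := k)⟩
  intro m hm
  letI : Field (S ⧸ m) := Ideal.Quotient.field m
  have : Algebra.FiniteType k (S ⧸ m) :=
    Algebra.FiniteType.of_surjective (Ideal.Quotient.mkₐ k m) (Ideal.Quotient.mkₐ_surjective k m)
  have : Module.Finite k (S ⧸ m) := finite_of_finite_type_of_isJacobsonRing k (S ⧸ m)
  exact Algebra.IsAlgebraic.of_finite k (S ⧸ m)

theorem alg_field (s : Set S) (hs : Algebra.adjoin k s = ⊤) (hinf : s.Infinite)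
    (hcard : #s < #k) {K : Type u} [Field K] [Algebra k K] (φ : S →ₐ[k] K) (z : K)
    (hgen : ∀ x : K, x ∈ Algebra.adjoin k (insert z (φ '' s))) : Algebra.IsAlgebraic k K := by
  let g : Option s → K := fun o => o.elim z (fun x => φ x)
  have hinf' : ℵ₀ ≤ #s := Cardinal.infinite_iff.1 (Set.infinite_coe_iff.2 hinf)
  have hcardO : #(Option s) = #s := by
    rw [Cardinal.mk_option]
    exact Cardinal.add_one_eq hinf'
  apply alg_of_gen g _ (by rw [hcardO]; exact hinf') (by rw [hcardO]; exact hcard)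
  rw [eq_top_iff]
  intro x _
  have hsub : insert z (φ '' s) ⊆ Set.range g := by
    intro y hy
    rcases hy with rfl | ⟨w, hw, rfl⟩
    · exact ⟨none, rfl⟩
    · exact ⟨some ⟨w, hw⟩, rfl⟩
  exact Algebra.adjoin_mono hsub (hgen x)

theorem map_mem_adjoin (s : Set S) (hs : Algebra.adjoin k s = ⊤) {K : Type u} [CommRing K]
    [Algebra k K] (φ : S →ₐ[k] K) (z : K) (y : S) :
    φ y ∈ Algebra.adjoin k (insert z (φ '' s)) := by
  have h1 : φ y ∈ (Algebra.adjoin k s).map φ := ⟨y, by rw [hs]; exact Algebra.mem_top, rfl⟩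
  rw [AlgHom.map_adjoin] at h1
  exact Algebra.adjoin_mono (Set.subset_insert _ _) h1

theorem residue_alg (s : Set S) (hs : Algebra.adjoin k s = ⊤) (hinf : s.Infinite)
    (hcard : #s < #k) (m : Ideal S) [m.IsMaximal] : Algebra.IsAlgebraic k (S ⧸ m) := by
  letI : Field (S ⧸ m) := Ideal.Quotient.field m
  apply alg_field s hs hinf hcard (Ideal.Quotient.mkₐ k m) 0
  intro x
  obtain ⟨y, rfl⟩ := Ideal.Quotient.mk_surjective x
  exact map_mem_adjoin s hs (Ideal.Quotient.mkₐ k m) 0 y

theorem exists_max (s : Set S) (hs : Algebra.adjoin k s = ⊤) (hinf : s.Infinite)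
    (hcard : #s < #k) (P : Ideal S) [P.IsPrime] (f : S) (hf : f ∉ P) :
    ∃ m : Ideal S, m.IsMaximal ∧ P ≤ m ∧ f ∉ m := by
  let D := S ⧸ P
  let fbar : D := Ideal.Quotient.mk P f
  have hfbar : fbar ≠ 0 := by
    intro h
    exact hf (Ideal.Quotient.eq_zero_iff_mem.1 h)
  let T := Localization.Away fbar
  have hnt : Nontrivial T := by
    have hle : Submonoid.powers fbar ≤ nonZeroDivisors D :=
      Submonoid.powers_le.2 (mem_nonZeroDivisors_of_ne_zero hfbar)
    exact (IsLocalization.injective T hle).nontrivial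
  obtain ⟨n, hn⟩ := Ideal.exists_maximal T
  letI : Field (T ⧸ n) := Ideal.Quotient.field n
  let ψ : S →ₐ[k] T := (IsScalarTower.toAlgHom k D T).comp (Ideal.Quotient.mkₐ k P)
  let φ : S →ₐ[k] (T ⧸ n) := (Ideal.Quotient.mkₐ k n).comp ψ
  let zT : T := IsLocalization.Away.invSelf fbar
  have hzT : algebraMap D T fbar * zT = 1 := IsLocalization.Away.mul_invSelf fbar
  have halg : Algebra.IsAlgebraic k (T ⧸ n) := by
    apply alg_field s hs hinf hcard φ (Ideal.Quotient.mk n zT)
    intro x
    obtain ⟨t, rfl⟩ := Ideal.Quotient.mk_surjective x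
    obtain ⟨j, d, hd⟩ := IsLocalization.Away.surj fbar t
    obtain ⟨y, rfl⟩ := Ideal.Quotient.mk_surjective d
    have ht : t = ψ y * zT ^ j := by
      have : ψ y = t * algebraMap D T fbar ^ j := hd.symm
      rw [this, mul_assoc, ← mul_pow, hzT, one_pow, mul_one]
    rw [ht, map_mul, map_pow]
    refine Subalgebra.mul_mem _ ?_ (Subalgebra.pow_mem _ (Algebra.subset_adjoin (Set.mem_insert _ _)) _)
    exact map_mem_adjoin s hs φ _ y
  let m : Ideal S := RingHom.ker φ
  have hmprime : m.IsPrime := RingHom.ker_isPrime φ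
  refine ⟨m, ?_, ?_, ?_⟩
  · have hinj : Function.Injective (Ideal.kerLiftAlg φ) := Ideal.kerLiftAlg_injective φ
    have : Algebra.IsAlgebraic k (S ⧸ m) := Algebra.IsAlgebraic.of_injective (Ideal.kerLiftAlg φ) hinj
    have : Algebra.IsIntegral k (S ⧸ m) := Algebra.IsAlgebraic.isIntegral
    have hfield : IsField (S ⧸ m) := isField_of_isIntegral_of_isField' (Field.toIsField k)
    exact Ideal.Quotient.maximal_of_isField m hfield
  · intro y hy
    change φ y = 0
    have : (Ideal.Quotient.mk P y) = 0 := Ideal.Quotient.eq_zero_iff_mem.2 hy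
    change Ideal.Quotient.mk n (algebraMap D T (Ideal.Quotient.mk P y)) = 0
    rw [this, map_zero, map_zero]
  · intro hfm
    have h0 : φ f = 0 := hfm
    have h1 : Ideal.Quotient.mk n (algebraMap D T fbar) = 0 := h0
    have h2 : algebraMap D T fbar ∈ n := Ideal.Quotient.eq_zero_iff_mem.1 h1
    have h3 : (1 : T) ∈ n := by
      rw [← hzT]
      exact n.mul_mem_right _ h2
    exact hn.ne_top ((Ideal.eq_top_iff_one n).2 h3)

theorem infinite_case (s : Set S) (hs : Algebra.adjoin k s = ⊤) (hinf : s.Infinite)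
    (hcard : #s < #k) :
    (∀ (m : Ideal S) [m.IsMaximal], Algebra.IsAlgebraic k (S ⧸ m)) ∧ IsJacobsonRing S := by
  refine ⟨fun m _ => residue_alg s hs hinf hcard m, ?_⟩
  rw [isJacobsonRing_iff_prime_eq]
  intro P hP
  refine le_antisymm ?_ Ideal.le_jacobson
  intro f hf
  by_contra hfP
  obtain ⟨m, hm, hPm, hfm⟩ := exists_max s hs hinf hcard P f hfP
  apply hfm
  rw [Ideal.jacobson, Ideal.mem_sInf] at hf
  exact hf ⟨hPm, hm⟩

theorem main (s : Set S) (hs : Algebra.adjoin k s = ⊤) (hcard : Cardinal.mk s < Cardinal.mk k) :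
    (∀ (m : Ideal S) [m.IsMaximal], Algebra.IsAlgebraic k (S ⧸ m)) ∧ IsJacobsonRing S := by
  by_cases hfin : s.Finite
  · exact finite_case s hs hfin
  · exact infinite_case s hs hfin hcard

end

/-- Let `k` be a field and `S` a `k`-algebra generated by a set of cardinality smaller than that of `k`.
Then for every maximal ideal `𝔪` of `S` the residue field `S/𝔪` is algebraic over `k`, and `S` is a
Jacobson ring. -/
theorem result {k S : Type u} [Field k] [CommRing S] [Algebra k S]
    (s : Set S) (hs : Algebra.adjoin k s = ⊤) (hcard : Cardinal.mk s < Cardinal.mk k) :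
    (∀ (m : Ideal S) [m.IsMaximal], Algebra.IsAlgebraic k (S ⧸ m)) ∧ IsJacobsonRing S := by
  exact Groth.Agent.S2059.main s hs hcard

end Groth.Agent.S2059
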