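import Groth.Statements.S2064
import Groth.Agent.S18708
import Groth.Agent.Lib.Lead.Depth13
import Groth.Agent.Lib.Lead.Depth4
import Groth.Agent.Lib.Lead.Depth1

set_option autoImplicit false
universe u
open CategoryTheory
open CAlg


namespace Groth.Agent.S2064

open CategoryTheory LocCoh IsLocalRing Groth.Agent.Lead.Depth

theorem le_sub_one {b k : ℕ∞} (h : k + 1 ≤ b) : k ≤ b - 1 := by
  have h1 : (1 : ℕ∞) ≤ b := le_trans le_add_self h
  have h2 : k + 1 ≤ (b - 1) + 1 := by
    rw [tsub_add_cancel_of_le h1]
    exact h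
  exact (ENat.add_le_add_iff_right ENat.one_ne_top).mp h2

section Aux

variable {R : Type u} [CommRing R] [IsLocalRing R] [IsNoetherianRing R]

theorem depth_eq_top_of_subsingleton (N : Type u) [AddCommGroup N] [Module R N] [Subsingleton N] :
    LocCoh.depth R N = ⊤ := by
  apply idealDepth_of_eq_top
  rw [eq_top_iff]
  intro x _
  rw [Subsingleton.elim x 0]
  exact zero_mem _

theorem subsingleton_range {X Y : Type u} [AddCommGroup X] [Module R X] [AddCommGroup Y]
    [Module R Y] [Subsingleton X] (f : X →ₗ[R] Y) : Subsingleton ↥(LinearMap.range f) := by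
  constructor
  rintro ⟨a, ha⟩ ⟨b, hb⟩
  apply Subtype.ext
  obtain ⟨x, rfl⟩ := ha
  obtain ⟨y, rfl⟩ := hb
  rw [Subsingleton.elim x y]

/-- If `1 ≤ depth X₂` and `2 ≤ depth (im f)` then `1 ≤ depth H(S)`. -/
theorem one_le_depth_homology (S : ShortComplex (ModuleCat.{u} R)) [Module.Finite R S.X₂]
    (h2 : 1 ≤ LocCoh.depth R S.X₂) (h1 : 2 ≤ LocCoh.depth R ↥(LinearMap.range S.f.hom)) :
    1 ≤ LocCoh.depth R S.homology := by
  rw [depth_congr S.moduleCatHomologyIso.toLinearEquiv]
  show 1 ≤ LocCoh.idealDepth (maximalIdeal R)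
    (↥(LinearMap.ker S.g.hom) ⧸ LinearMap.range S.moduleCatToCycles)
  obtain ⟨Z, hZdef⟩ : ∃ Z : Submodule R S.X₂, Z = LinearMap.ker S.g.hom := ⟨_, rfl⟩
  obtain ⟨T, hTdef⟩ : ∃ T : Submodule R ↥(LinearMap.ker S.g.hom),
      T = LinearMap.range S.moduleCatToCycles := ⟨_, rfl⟩
  rw [← hTdef]
  have hZ : 1 ≤ LocCoh.idealDepth (maximalIdeal R) ↥(LinearMap.ker S.g.hom) :=
    Groth.Agent.S18708.one_le_idealDepth_of_injective (maximalIdeal R)
      (LinearMap.ker S.g.hom).subtype (Submodule.injective_subtype _) h2
  have hmap : T.map (LinearMap.ker S.g.hom).subtype = LinearMap.range S.f.hom := by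
    rw [hTdef, ← LinearMap.range_comp, LinearMap.subtype_comp_codRestrict]
  have hT : 2 ≤ LocCoh.idealDepth (maximalIdeal R) ↥T := by
    rw [idealDepth_congr (maximalIdeal R)
      (Submodule.equivMapOfInjective (LinearMap.ker S.g.hom).subtype
        (Submodule.injective_subtype _) T),
      idealDepth_congr (maximalIdeal R) (LinearEquiv.ofEq _ _ hmap)]
    exact h1
  have h3 := (idealDepth_shortExact (maximalIdeal R) ↥T ↥(LinearMap.ker S.g.hom)
    (↥(LinearMap.ker S.g.hom) ⧸ T) T.subtype T.mkQ (Submodule.injective_subtype _)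
    (Submodule.mkQ_surjective _) (LinearMap.exact_subtype_mkQ T)).2.1
  exact le_trans (le_min hZ (Groth.Agent.S18708.one_le_sub_one hT)) h3

end Aux

end Groth.Agent.S2064

namespace Groth.Agent.S2064

open LocCoh IsLocalRing Groth.Agent.Lead.Depth

/-- Let `R` be a Noetherian local ring and `0 → M_e → M_{e-1} → … → M_0` a complex of finite `R`-modules
with `depth(M_j) ≥ j`. If `i > 0` is the largest index at which the complex is not exact, then the
homology at `M_i` has depth at least one. -/
theorem result {R : Type u} [CommRing R] [IsLocalRing R] [IsNoetherianRing R]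
    (C : ChainComplex (ModuleCat.{u} R) ℕ) (e : ℕ) (hzero : ∀ j, e < j → Limits.IsZero (C.X j))
    (hfin : ∀ j, Module.Finite R (C.X j)) (hdepth : ∀ j, j ≤ e → (j : ℕ∞) ≤ LocCoh.depth R (C.X j))
    (i : ℕ) (hi : 0 < i) (hnot : ¬ C.ExactAt i) (habove : ∀ j, i < j → C.ExactAt j) :
    1 ≤ LocCoh.depth R (C.homology i) := by
  classical
  have hie : i ≤ e := by
    by_contra h
    exact hnot (HomologicalComplex.ExactAt.of_isZero (hzero i (not_le.mp h)))
  -- modules with zero source
  have hsub : ∀ j, e ≤ j →
      ((j + 1 : ℕ) : ℕ∞) ≤ LocCoh.depth R ↥(LinearMap.range (C.d (j + 1) j).hom) := by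
    intro j hej
    haveI : Subsingleton (C.X (j + 1)) :=
      ModuleCat.subsingleton_of_isZero (hzero (j + 1) (by omega))
    haveI := subsingleton_range (C.d (j + 1) j).hom
    rw [depth_eq_top_of_subsingleton]
    exact le_top
  have key : ∀ n j, i ≤ j → e ≤ j + n →
      ((j + 1 : ℕ) : ℕ∞) ≤ LocCoh.depth R ↥(LinearMap.range (C.d (j + 1) j).hom) := by
    intro n
    induction n with
    | zero =>
      intro j _ hej
      exact hsub j (by omega)
    | succ n ih =>
      intro j hij hej
      by_cases hej' : e ≤ j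
      · exact hsub j hej'
      · have ih' := ih (j + 1) (by omega) (by omega)
        have hX : ((j + 1 : ℕ) : ℕ∞) ≤ LocCoh.depth R (C.X (j + 1)) :=
          hdepth (j + 1) (by omega)
        haveI := hfin (j + 1)
        haveI := hfin j
        have hex0 : (C.sc' (j + 1 + 1) (j + 1) j).Exact :=
          (C.exactAt_iff' (j + 1 + 1) (j + 1) j (ChainComplex.prev ℕ (j + 1))
            (ChainComplex.next_nat_succ j)).mp (habove (j + 1) (by omega))
        have hrk : LinearMap.range (C.d (j + 1 + 1) (j + 1)).hom =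
            LinearMap.ker (C.d (j + 1) j).hom := hex0.moduleCat_range_eq_ker
        obtain ⟨g, hg⟩ : ∃ g : C.X (j + 1) →ₗ[R] ↥(LinearMap.range (C.d (j + 1) j).hom),
            g = (C.d (j + 1) j).hom.rangeRestrict := ⟨_, rfl⟩
        have hgval : ∀ y, ((g y : ↥(LinearMap.range (C.d (j + 1) j).hom)) : C.X j) =
            (C.d (j + 1) j).hom y := by
          intro y
          rw [hg]
          rfl
        have hgsurj : Function.Surjective g := by
          rw [hg]
          exact LinearMap.surjective_rangeRestrict _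
        have hex : Function.Exact
            (LinearMap.range (C.d (j + 1 + 1) (j + 1)).hom).subtype g := by
          intro y
          constructor
          · intro hy
            have hy' : y ∈ LinearMap.ker (C.d (j + 1) j).hom := by
              rw [LinearMap.mem_ker, ← hgval y, hy]
              rfl
            rw [← hrk] at hy'
            exact ⟨⟨y, hy'⟩, rfl⟩
          · rintro ⟨⟨x, hx⟩, rfl⟩
            apply Subtype.ext
            have hx' : x ∈ LinearMap.ker (C.d (j + 1) j).hom := by
              rw [← hrk]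
              exact hx
            rw [hgval]
            exact hx'
        have h3 := (idealDepth_shortExact (maximalIdeal R)
          ↥(LinearMap.range (C.d (j + 1 + 1) (j + 1)).hom) (C.X (j + 1))
          ↥(LinearMap.range (C.d (j + 1) j).hom)
          (LinearMap.range (C.d (j + 1 + 1) (j + 1)).hom).subtype g
          (Submodule.injective_subtype _) hgsurj hex).2.1
        have ih'' : ((j + 1 : ℕ) : ℕ∞) + 1 ≤
            LocCoh.depth R ↥(LinearMap.range (C.d (j + 1 + 1) (j + 1)).hom) := by
          exact_mod_cast ih'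
        exact le_trans (le_min hX (le_sub_one ih'')) h3
  have hB : 2 ≤ LocCoh.depth R ↥(LinearMap.range (C.d (i + 1) i).hom) := by
    refine le_trans ?_ (key e i le_rfl (by omega))
    exact_mod_cast (by omega : 2 ≤ i + 1)
  have hXi : 1 ≤ LocCoh.depth R (C.X i) := by
    refine le_trans ?_ (hdepth i hie)
    exact_mod_cast (by omega : 1 ≤ i)
  haveI : Module.Finite R ↑(C.sc' (i + 1) i ((ComplexShape.down ℕ).next i)).X₂ := hfin i
  have hmain := one_le_depth_homology (C.sc' (i + 1) i ((ComplexShape.down ℕ).next i)) hXi hB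
  have hcongr : LocCoh.depth R (C.homology i) =
      LocCoh.depth R ↑(C.sc' (i + 1) i ((ComplexShape.down ℕ).next i)).homology :=
    depth_congr (ShortComplex.homologyMapIso
      (C.isoSc' (i + 1) i ((ComplexShape.down ℕ).next i)
        (ChainComplex.prev ℕ i) rfl)).toLinearEquiv
  rw [hcongr]
  exact hmain

end Groth.Agent.S2064
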