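import Groth.Statements.S2071
import Mathlib
-- import your own Groth.Agent.* helpers here

set_option autoImplicit false
universe u
open CAlg

namespace Groth.Agent.S2071

section
open Polynomial

/-- pure field algebra -/
lemma algA {Ω P : Type*} [Field Ω] [Field P] [Algebra P Ω] (u v a ζ ζ' : Ω) (huv : v ≠ u)
    (ha : a ≠ 0) (hζ : IsAlgebraic P ζ) (hζ' : IsAlgebraic P ζ') (h1 : v = ζ * u)
    (h2 : v + a = ζ' * (u + a)) : IsAlgebraic P (u / a) := by
  have hne : ζ - ζ' ≠ 0 := by
    intro h0
    have h3 : ζ = ζ' := sub_eq_zero.mp h0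
    subst h3
    have h4 : a * (ζ - 1) = 0 := by
      have : v + a = v + ζ * a := by rw [h2, h1]; ring
      have h5 : a = ζ * a := add_left_cancel this
      linear_combination -h5
    rcases mul_eq_zero.mp h4 with h | h
    · exact ha h
    · apply huv
      rw [h1, sub_eq_zero.mp h, one_mul]
  have h3 : (ζ - ζ') * u = (ζ' - 1) * a := by
    rw [h1] at h2
    linear_combination h2
  have h4 : u / a = (ζ' - 1) / (ζ - ζ') := by
    field_simp
    linear_combination h3
  rw [h4]
  have m1 := (mem_algebraicClosure_iff (F := P) (E := Ω)).mpr hζ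
  have m2 := (mem_algebraicClosure_iff (F := P) (E := Ω)).mpr hζ'
  exact mem_algebraicClosure_iff.mp (div_mem (sub_mem m2 (one_mem _)) (sub_mem m1 m2))

lemma isAlg_of_pow_one {Ω P : Type*} [Field Ω] [Field P] [Algebra P Ω] (ζ : Ω) (n : ℕ)
    (hn : 0 < n) (h : ζ ^ n = 1) : IsAlgebraic P ζ := by
  apply IsAlgebraic.of_pow hn
  rw [h]
  exact isAlgebraic_one

variable {k k' Ω : Type*} [Field k] [Field k'] [Algebra k k'] [Field Ω] [Algebra k Ω]

lemma zeta_exists (ι σ : k' →ₐ[k] Ω)
    (h : ∀ x : k', ∃ n : ℕ, 0 < n ∧ x ^ n ∈ Set.range (algebraMap k k')) (w : k') (hw : w ≠ 0) :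
    ∃ ζ : Ω, (∃ n : ℕ, 0 < n ∧ ζ ^ n = 1) ∧ σ w = ζ * ι w := by
  obtain ⟨n, hn, b, hb⟩ := h w
  have hι : ι w ≠ 0 := (map_ne_zero_iff _ ι.toRingHom.injective).mpr hw
  refine ⟨σ w / ι w, ⟨n, hn, ?_⟩, by field_simp⟩
  rw [div_pow, ← map_pow, ← map_pow, ← hb, AlgHom.commutes, AlgHom.commutes]
  exact div_self (by rw [← ι.commutes, hb, map_pow]; exact pow_ne_zero _ hι)

lemma key {P : Type*} [Field P] [Algebra P Ω] (ι σ : k' →ₐ[k] Ω)
    (h : ∀ x : k', ∃ n : ℕ, 0 < n ∧ x ^ n ∈ Set.range (algebraMap k k')) (x : k')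
    (hx : σ x ≠ ι x) : ∀ w : k', IsAlgebraic P (ι w) := by
  have hxr : ∀ a : k, x + algebraMap k k' a ≠ 0 := by
    intro a h0
    apply hx
    have : x = algebraMap k k' (-a) := by rw [map_neg]; exact eq_neg_of_add_eq_zero_left h0
    rw [this, AlgHom.commutes, AlgHom.commutes]
  have hx0 : x ≠ 0 := by simpa using hxr 0
  obtain ⟨ζ, ⟨n, hn, hζn⟩, hζ⟩ := zeta_exists ι σ h x hx0
  have hζa : IsAlgebraic P ζ := isAlg_of_pow_one ζ n hn hζn
  have step : ∀ a : k, a ≠ 0 → IsAlgebraic P (ι x / algebraMap k Ω a) := by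
    intro a ha
    obtain ⟨ζ', ⟨n', hn', hζn'⟩, hζ'⟩ := zeta_exists ι σ h _ (hxr a)
    have hζa' : IsAlgebraic P ζ' := isAlg_of_pow_one ζ' n' hn' hζn'
    refine algA (ι x) (σ x) (algebraMap k Ω a) ζ ζ' hx ?_ hζa hζa' hζ ?_
    · exact (map_ne_zero_iff _ (algebraMap k Ω).injective).mpr ha
    · rw [map_add, map_add, AlgHom.commutes, AlgHom.commutes] at hζ'
      exact hζ'
  have hxa : IsAlgebraic P (ι x) := by
    have := step 1 one_ne_zero
    simpa using this
  have hιx : ι x ≠ 0 := (map_ne_zero_iff _ ι.toRingHom.injective).mpr hx0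
  have hka : ∀ a : k, IsAlgebraic P (algebraMap k Ω a) := by
    intro a
    by_cases ha : a = 0
    · subst ha; rw [map_zero]; exact isAlgebraic_zero
    · have h1 := step a ha
      have h2 : algebraMap k Ω a = ι x / (ι x / algebraMap k Ω a) := by
        have : algebraMap k Ω a ≠ 0 := (map_ne_zero_iff _ (algebraMap k Ω).injective).mpr ha
        field_simp
      rw [h2]
      have m1 := (mem_algebraicClosure_iff (F := P) (E := Ω)).mpr hxa
      have m2 := (mem_algebraicClosure_iff (F := P) (E := Ω)).mpr h1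
      exact mem_algebraicClosure_iff.mp (div_mem m1 m2)
  intro w
  obtain ⟨m, hm, b, hb⟩ := h w
  apply IsAlgebraic.of_pow hm
  rw [← map_pow, ← hb, AlgHom.commutes]
  exact hka b


lemma exists_sigma {k k' : Type*} [Field k] [Field k'] [Algebra k k'] [Algebra.IsAlgebraic k k']
    (x : k') (hsep : IsSeparable k x) (hx : x ∉ Set.range (algebraMap k k')) :
    ∃ σ : k' →ₐ[k] AlgebraicClosure k', σ x ≠ algebraMap k' (AlgebraicClosure k') x := by
  have hr := Algebra.IsAlgebraic.range_eval_eq_rootSet_minpoly_of_splits (F := k) (K := k')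
    (AlgebraicClosure k') (fun x => IsAlgClosed.splits _) x
  have hint : IsIntegral k x := Algebra.IsIntegral.isIntegral x
  have h2 : 2 ≤ (minpoly k x).natDegree := (minpoly.two_le_natDegree_iff hint).mpr hx
  have hcard := Polynomial.card_rootSet_eq_natDegree (K := AlgebraicClosure k') hsep
    (IsAlgClosed.splits _)
  have hmem : algebraMap k' (AlgebraicClosure k') x ∈ (minpoly k x).rootSet (AlgebraicClosure k') := by
    rw [Polynomial.mem_rootSet_of_ne (minpoly.ne_zero hint), Polynomial.aeval_algebraMap_apply,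
      minpoly.aeval, map_zero]
  obtain ⟨⟨y, hy⟩, hne⟩ := Fintype.exists_ne_of_one_lt_card (by rw [hcard]; omega)
    (⟨_, hmem⟩ : (minpoly k x).rootSet (AlgebraicClosure k'))
  rw [← hr] at hy
  obtain ⟨σ, rfl⟩ := hy
  exact ⟨σ, fun h => hne (Subtype.ext h)⟩


lemma finite_roots_of_unity (K : Type*) [Field K] [NumberField K] :
    {x : K | ∃ m : ℕ, 0 < m ∧ x ^ m = 1}.Finite := by
  refine (NumberField.Embeddings.finite_of_norm_le K ℂ 1).subset ?_
  rintro x ⟨m, hm, hx⟩
  refine ⟨?_, fun φ => ?_⟩
  · apply IsIntegral.of_pow hm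
    rw [hx]
    exact isIntegral_one
  · have : (φ x) ^ m = 1 := by rw [← map_pow, hx, map_one]
    exact le_of_eq (Complex.norm_eq_one_of_pow_eq_one this hm.ne')

lemma char_zero_contra {Ω : Type*} [Field Ω] [CharZero Ω] (u v : Ω) (huv : v ≠ u)
    (hu : IsAlgebraic ℚ u) (hv : IsAlgebraic ℚ v) (hn : ∀ n : ℕ, u + n ≠ 0)
    (hz : ∀ n : ℕ, ∃ m : ℕ, 0 < m ∧ ((v + n) / (u + n)) ^ m = 1) : False := by
  let K : IntermediateField ℚ Ω := IntermediateField.adjoin ℚ {u, v}
  haveI : FiniteDimensional ℚ K :=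
    IntermediateField.finiteDimensional_adjoin_pair hu.isIntegral hv.isIntegral
  haveI : NumberField K := ⟨⟩
  have huK : u ∈ K := IntermediateField.subset_adjoin ℚ _ (by simp)
  have hvK : v ∈ K := IntermediateField.subset_adjoin ℚ _ (by simp)
  let ζ : ℕ → K := fun n => (⟨v, hvK⟩ + (n : K)) / (⟨u, huK⟩ + (n : K))
  have hζ : ∀ n, ((ζ n : K) : Ω) = (v + n) / (u + n) := by
    intro n
    simp [ζ]
  have hinj : Function.Injective ζ := by
    intro n m hnm
    have h1 : (v + n) / (u + n) = (v + m) / (u + m) := by rw [← hζ, ← hζ, hnm]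
    rw [div_eq_div_iff (hn n) (hn m)] at h1
    have h2 : (v - u) * ((m : Ω) - n) = 0 := by linear_combination h1
    rcases mul_eq_zero.mp h2 with h | h
    · exact absurd (sub_eq_zero.mp h) huv
    · exact (Nat.cast_injective (sub_eq_zero.mp h)).symm
  have hfin := finite_roots_of_unity K
  refine Set.infinite_range_of_injective hinj (hfin.subset ?_)
  rintro _ ⟨n, rfl⟩
  obtain ⟨m, hm, h⟩ := hz n
  refine ⟨m, hm, ?_⟩
  apply Subtype.ext
  rw [SubmonoidClass.coe_pow, hζ, h]
  rfl


lemma pow_mem_of_alg_prime {k' : Type*} [Field k'] (p : ℕ) [hp : Fact p.Prime] [CharP k' p]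
    (halg : Algebra.IsAlgebraic (⊥ : Subfield k') k') (x : k') :
    ∃ n : ℕ, 0 < n ∧ x ^ n = 1 ∨ x = 0 := by
  by_cases hx0 : x = 0
  · exact ⟨0, Or.inr hx0⟩
  letI : Algebra (ZMod p) k' := ZMod.algebra k' p
  have hle : (⊥ : Subfield k') ≤ (algebraMap (ZMod p) k').fieldRange := bot_le
  haveI : Finite (⊥ : Subfield k') := by
    have hfin : ((algebraMap (ZMod p) k').fieldRange : Set k').Finite := by
      rw [RingHom.coe_fieldRange]
      exact Set.finite_range _
    exact (hfin.subset hle).to_subtype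
  have hint : IsIntegral (⊥ : Subfield k') x := (halg.isAlgebraic x).isIntegral
  haveI := IntermediateField.adjoin.finiteDimensional hint
  haveI : Finite (IntermediateField.adjoin (⊥ : Subfield k') {x}) :=
    Module.finite_of_finite (⊥ : Subfield k')
  let y : IntermediateField.adjoin (⊥ : Subfield k') {x} :=
    ⟨x, IntermediateField.mem_adjoin_simple_self _ x⟩
  have hy0 : y ≠ 0 := fun h => hx0 (congrArg Subtype.val h)
  obtain ⟨n, hn, hyn⟩ := (isOfFinOrder_of_finite (Units.mk0 y hy0)).exists_pow_eq_one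
  refine ⟨n, Or.inl ⟨hn, ?_⟩⟩
  have h1 := congrArg (fun u : (IntermediateField.adjoin (⊥ : Subfield k') {x})ˣ =>
    ((u : IntermediateField.adjoin (⊥ : Subfield k') {x}) : k')) hyn
  simpa [y] using h1

theorem main {k k' : Type u} [Field k] [Field k'] [Algebra k k'] :
    (∀ x : k', ∃ n : ℕ, 0 < n ∧ x ^ n ∈ Set.range (algebraMap k k')) ↔
      Function.Surjective (algebraMap k k') ∨
        ∃ p : ℕ, p.Prime ∧ CharP k' p ∧
          (IsPurelyInseparable k k' ∨ Algebra.IsAlgebraic (⊥ : Subfield k') k') := by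
  constructor
  · intro h
    by_cases hs : Function.Surjective (algebraMap k k')
    · exact Or.inl hs
    right
    haveI : Algebra.IsAlgebraic k k' := ⟨fun x => by
      obtain ⟨n, hn, b, hb⟩ := h x
      exact IsAlgebraic.of_pow hn (hb ▸ isAlgebraic_algebraMap b)⟩
    obtain ⟨p, hp⟩ := CharP.exists k'
    by_cases hPI : IsPurelyInseparable k k'
    · rcases CharP.char_is_prime_or_zero k' p with hpp | hp0
      · exact ⟨p, hpp, hp, Or.inl hPI⟩
      · exfalso
        subst hp0
        haveI := CharP.charP_to_charZero k'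
        haveI : CharZero k := (algebraMap k k').charZero
        haveI : Algebra.IsSeparable k k' := Algebra.IsAlgebraic.isSeparable_of_perfectField
        exact hs (IsPurelyInseparable.surjective_algebraMap_of_isSeparable k k')
    · have hsc : separableClosure k k' ≠ ⊥ := fun h0 =>
        hPI (separableClosure.eq_bot_iff.mp h0)
      obtain ⟨x, hxs, hxb⟩ : ∃ x ∈ separableClosure k k', x ∉ (⊥ : IntermediateField k k') := by
        by_contra hcon
        push Not at hcon
        exact hsc (eq_bot_iff.mpr hcon)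
      rw [mem_separableClosure_iff] at hxs
      have hxr : x ∉ Set.range (algebraMap k k') := by rwa [IntermediateField.mem_bot] at hxb
      obtain ⟨σ, hσ⟩ := exists_sigma x hxs hxr
      let ι : k' →ₐ[k] AlgebraicClosure k' := IsScalarTower.toAlgHom k k' _
      have hσ' : σ x ≠ ι x := hσ
      rcases CharP.char_is_prime_or_zero k' p with hpp | hp0
      · refine ⟨p, hpp, hp, Or.inr ⟨fun w => ?_⟩⟩
        have := key (P := (⊥ : Subfield k')) ι σ h x hσ' w
        exact (isAlgebraic_algebraMap_iff (algebraMap k' (AlgebraicClosure k')).injective).mp this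
      · exfalso
        subst hp0
        haveI := CharP.charP_to_charZero k'
        haveI : CharZero (AlgebraicClosure k') :=
          charZero_of_injective_algebraMap (algebraMap k' _).injective
        have hall := key (P := ℚ) ι σ h x hσ'
        have hall' := key (P := ℚ) σ ι h x hσ'.symm
        have hxn : ∀ n : ℕ, x + (n : k') ≠ 0 := by
          intro n h0
          apply hxr
          refine ⟨-(n : k), ?_⟩
          rw [map_neg, map_natCast]
          exact (eq_neg_of_add_eq_zero_left h0).symm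
        refine char_zero_contra (ι x) (σ x) hσ' (hall x) (hall' x) ?_ ?_
        · intro n
          have := (map_ne_zero_iff _ ι.toRingHom.injective).mpr (hxn n)
          simpa using this
        · intro n
          obtain ⟨ζ, ⟨m, hm, hζm⟩, hζ⟩ := zeta_exists ι σ h _ (hxn n)
          refine ⟨m, hm, ?_⟩
          have hne := (map_ne_zero_iff _ ι.toRingHom.injective).mpr (hxn n)
          have : ζ = (σ x + n) / (ι x + n) := by
            rw [eq_div_iff (by simpa using hne)]
            simpa using hζ.symm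
          rw [← this, hζm]
  · rintro (hs | ⟨p, hpp, hp, hPI | halg⟩) x
    · obtain ⟨b, hb⟩ := hs x
      exact ⟨1, one_pos, b, by rw [hb, pow_one]⟩
    · haveI : CharP k p := ((algebraMap k k').charP_iff_charP p).mpr hp
      haveI : Fact p.Prime := ⟨hpp⟩
      haveI : ExpChar k p := ExpChar.prime hpp
      obtain ⟨n, hn⟩ := IsPurelyInseparable.pow_mem k p x
      exact ⟨p ^ n, pow_pos hpp.pos n, hn⟩
    · haveI : Fact p.Prime := ⟨hpp⟩
      obtain ⟨n, h⟩ := pow_mem_of_alg_prime p halg x
      rcases h with ⟨hn, h⟩ | h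
      · exact ⟨n, hn, 1, by rw [map_one, h]⟩
      · exact ⟨1, one_pos, 0, by rw [map_zero, h, pow_one]⟩

end

/-- For a field extension `k'/k`, every element of `k'` has a positive power in `k` if and only if
either `k' = k`, or the characteristic is a prime `p` and either `k'/k` is purely inseparable or
`k'` is algebraic over its prime field. -/
theorem result {k k' : Type u} [Field k] [Field k'] [Algebra k k'] :
    (∀ x : k', ∃ n : ℕ, 0 < n ∧ x ^ n ∈ Set.range (algebraMap k k')) ↔
      Function.Surjective (algebraMap k k') ∨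
        ∃ p : ℕ, p.Prime ∧ CharP k' p ∧
          (IsPurelyInseparable k k' ∨ Algebra.IsAlgebraic (⊥ : Subfield k') k') := by
  exact Groth.Agent.S2071.main

end Groth.Agent.S2071
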