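import Groth.Statements.S2090
import Groth.Agent.Lib.Lead.BijLoc

set_option autoImplicit false
universe u
open CAlg

namespace Groth.Agent.S2090

/-- Let `R` be Noetherian and `φ : M → N` a map of `R`-modules with `M` finite. Suppose that for every
prime `𝔭` either `φ_𝔭` is bijective, or `M_𝔭` has depth at least two and `𝔭` is not an associated
prime of `N`. Then `φ` is bijective. -/
theorem result {R M N : Type u} [CommRing R] [IsNoetherianRing R] [AddCommGroup M]
    [Module R M] [Module.Finite R M] [AddCommGroup N] [Module R N] (φ : M →ₗ[R] N)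
    (h : ∀ (p : Ideal R) [p.IsPrime],
      Function.Bijective (LocalizedModule.map p.primeCompl φ) ∨
        (2 ≤ LocCoh.depth (Localization.AtPrime p) (LocalizedModule p.primeCompl M) ∧
          p ∉ associatedPrimes R N)) :
    Function.Bijective φ := by
  have hinj : Function.Injective φ := by
    apply Groth.Agent.Lead.BijLoc.injective_of_forall
    intro p _ hpAss z hz
    rcases h p with hbij | ⟨hdepth, -⟩
    · have h1 : LocalizedModule.map p.primeCompl φ (LocalizedModule.mk z 1) = 0 := by
        rw [LocalizedModule.map_mk, hz, LocalizedModule.zero_mk]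
      have h2 : (LocalizedModule.mk z 1 : LocalizedModule p.primeCompl M) = 0 :=
        hbij.1 (by rw [h1, map_zero])
      rw [← LocalizedModule.zero_mk (1 : p.primeCompl), LocalizedModule.mk_eq] at h2
      obtain ⟨u, hu⟩ := h2
      simp only [one_smul, smul_zero, Submonoid.smul_def] at hu
      exact ⟨(u : R), u.2, hu⟩
    · exfalso
      have hmemT :=
        Module.associatedPrimes.mem_associatedPrimes_atPrime_of_mem_associatedPrimes hpAss
      have hd : LocCoh.depth (Localization.AtPrime p) (LocalizedModule p.primeCompl M) = 0 :=
        (Groth.Agent.Helper9.Depth.depth_eq_zero_iff_mem_associatedPrimes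
          (A := Localization.AtPrime p) (LocalizedModule p.primeCompl M)).mpr hmemT
      rw [hd] at hdepth
      simp at hdepth
  refine ⟨hinj, ?_⟩
  apply Groth.Agent.Lead.BijLoc.surjective_of_forall
  intro p _ y hy
  rcases h p with hbij | ⟨hdepth, hnot⟩
  · obtain ⟨t, ht⟩ := hbij.2 (LocalizedModule.mk y 1)
    induction t using LocalizedModule.induction_on with
    | _ m s =>
      rw [LocalizedModule.map_mk, LocalizedModule.mk_eq] at ht
      obtain ⟨u, hu⟩ := ht
      simp only [one_smul, Submonoid.smul_def] at hu
      have hmem : ((u : R) * (s : R)) • y ∈ LinearMap.range φ :=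
        ⟨(u : R) • m, by rw [map_smul, hu, mul_smul]⟩
      have hus := (hy _).mp hmem
      rcases (inferInstance : p.IsPrime).mem_or_mem hus with h1 | h1
      · exact u.2 h1
      · exact s.2 h1
  · exact hnot (Groth.Agent.Lead.BijLoc.mem_associatedPrimes_of_depth φ hinj p hdepth y hy)

end Groth.Agent.S2090
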