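import Groth.Statements.S2095
import Mathlib
-- import your own Groth.Agent.* helpers here

set_option autoImplicit false
universe u
open CAlg

namespace Groth.Agent.S2095

open TensorProduct in
/-- Let `R → S` be a ring map, `𝔫 ⊆ S` an ideal and `R → R'` a ring map admitting an `R`-linear
retraction. If `R' → R' ⊗ S` is formally smooth for the adic topology of the extension of `𝔫`, then
`R → S` is formally smooth for the `𝔫`-adic topology. -/
theorem result {R S R' : Type u} [CommRing R] [CommRing S] [Algebra R S]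
    (𝔫 : Ideal S) [CommRing R'] [Algebra R R'] (ρ : R' →ₗ[R] R) (hρ : ∀ r : R, ρ (algebraMap R R' r) = r)
    (h : CAlgX.IsAdicFormallySmooth R' (R' ⊗[R] S)
      (𝔫.map (Algebra.TensorProduct.includeRight : S →ₐ[R] R' ⊗[R] S))) :
    CAlgX.IsAdicFormallySmooth R S 𝔫 := by
  classical
  intro A _ _ J hJ ψ hψ
  obtain ⟨k, hk⟩ := hψ
  let incl : A →ₐ[R] R' ⊗[R] A := Algebra.TensorProduct.includeRight
  have hincl : ∀ a : A, incl a = (1 : R') ⊗ₜ[R] a := fun a => rfl
  let J' : Ideal (R' ⊗[R] A) := J.map incl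
  have hJJ : J * J = ⊥ := (pow_two J).symm.trans hJ
  have hJ' : J' * J' = ⊥ := by
    change J.map incl * J.map incl = ⊥
    rw [← Ideal.map_mul, hJJ, Ideal.map_bot]
  have hJ'2 : J' ^ 2 = ⊥ := (pow_two J').trans hJ'
  let g : R' ⊗[R] A →ₗ[R] A := (TensorProduct.lid R A).toLinearMap ∘ₗ LinearMap.rTensor A ρ
  have hg : ∀ (r' : R') (a : A), g (r' ⊗ₜ[R] a) = ρ r' • a := by
    intro r' a
    simp [g]
  have hρ1 : ρ 1 = 1 := by
    have := hρ 1
    rwa [map_one] at this
  have hg1 : ∀ a : A, g (incl a) = a := by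
    intro a
    rw [hincl, hg, hρ1, one_smul]
  have hgmul : ∀ (a : A) (u : R' ⊗[R] A), g (incl a * u) = a * g u := by
    intro a u
    induction u using TensorProduct.induction_on with
    | zero => simp
    | tmul r' b =>
      rw [hincl, Algebra.TensorProduct.tmul_mul_tmul, one_mul, hg, hg, mul_smul_comm]
    | add x y hx hy => rw [mul_add, map_add, hx, hy, map_add, mul_add]
  have hgJ : ∀ w ∈ J', g w ∈ J := by
    intro w hw
    have hP : ∀ u : R' ⊗[R] A, g (u * w) ∈ J := by
      change w ∈ Ideal.span _ at hw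
      induction hw using Submodule.span_induction with
      | mem x hx =>
        obtain ⟨j, hj, rfl⟩ := hx
        intro u
        rw [mul_comm, hgmul]
        exact J.mul_mem_right _ hj
      | zero => intro u; rw [mul_zero, map_zero]; exact J.zero_mem
      | add x y _ _ hx hy => intro u; rw [mul_add, map_add]; exact J.add_mem (hx u) (hy u)
      | smul a x _ hx =>
        intro u
        rw [smul_eq_mul, ← mul_assoc]
        exact hx (u * a)
    have := hP 1
    rwa [one_mul] at this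
  have hmulg : ∀ (u v : R' ⊗[R] A) (a b : A), u - incl a ∈ J' → v - incl b ∈ J' →
      g (u * v) = g u * g v := by
    intro u v a b hu hv
    have h0 : (u - incl a) * (v - incl b) = 0 := by
      have : (u - incl a) * (v - incl b) ∈ J' * J' := Ideal.mul_mem_mul hu hv
      rwa [hJ'] at this
    have h1 : u * v = incl a * v + incl b * (u - incl a) := by
      have : u * v = incl a * v + incl b * (u - incl a) + (u - incl a) * (v - incl b) := by ring
      rw [this, h0, add_zero]
    have h2 : g (u - incl a) * g (v - incl b) = 0 := by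
      have : g (u - incl a) * g (v - incl b) ∈ J * J := Ideal.mul_mem_mul (hgJ _ hu) (hgJ _ hv)
      rwa [hJJ] at this
    rw [h1, map_add, hgmul, hgmul]
    simp only [map_sub, hg1] at h2 ⊢
    linear_combination (-1 : A) * h2
  -- the base-changed test map
  let ι' : A ⧸ J →ₐ[R] (R' ⊗[R] A) ⧸ J' := Ideal.quotientMapₐ J' incl Ideal.le_comap_map
  have hι' : ∀ a : A, ι' (Ideal.Quotient.mk J a) = Ideal.Quotient.mk J' (incl a) := fun a => rfl
  let ψ' : R' ⊗[R] S →ₐ[R'] (R' ⊗[R] A) ⧸ J' :=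
    Algebra.TensorProduct.lift (Algebra.ofId R' ((R' ⊗[R] A) ⧸ J')) (ι'.comp ψ)
      (fun _ _ => Commute.all _ _)
  have hψ'1 : ∀ s : S, ψ' ((1 : R') ⊗ₜ[R] s) = ι' (ψ s) := by
    intro s
    change Algebra.TensorProduct.lift _ _ _ _ = _
    rw [Algebra.TensorProduct.lift_tmul, map_one, one_mul]
    rfl
  have hψ' : ∃ k : ℕ, ∀ x ∈ (𝔫.map (Algebra.TensorProduct.includeRight : S →ₐ[R] R' ⊗[R] S)) ^ k,
      ψ' x = 0 := by
    refine ⟨k, ?_⟩
    rw [← Ideal.map_pow]
    have : Ideal.map (Algebra.TensorProduct.includeRight : S →ₐ[R] R' ⊗[R] S) (𝔫 ^ k) ≤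
        RingHom.ker ψ' := by
      rw [Ideal.map_le_iff_le_comap]
      intro s hs
      rw [Ideal.mem_comap, RingHom.mem_ker]
      change ψ' ((1 : R') ⊗ₜ[R] s) = 0
      rw [hψ'1, hk s hs, map_zero]
    intro x hx
    exact RingHom.mem_ker.mp (this hx)
  obtain ⟨χ', hχ'⟩ := h (R' ⊗[R] A) J' hJ'2 ψ' hψ'
  have hχ'J : ∀ (s : S) (a : A), Ideal.Quotient.mk J a = ψ s →
      χ' ((1 : R') ⊗ₜ[R] s) - incl a ∈ J' := by
    intro s a ha
    rw [← Ideal.Quotient.eq]
    have h1 := DFunLike.congr_fun hχ' ((1 : R') ⊗ₜ[R] s)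
    change Ideal.Quotient.mk J' (χ' ((1 : R') ⊗ₜ[R] s)) = ψ' ((1 : R') ⊗ₜ[R] s) at h1
    rw [h1, hψ'1, ← ha, hι']
  have hlift : ∀ s : S, ∃ a : A, Ideal.Quotient.mk J a = ψ s :=
    fun s => Ideal.Quotient.mk_surjective (ψ s)
  let χ : S →ₐ[R] A :=
    { toFun := fun s => g (χ' ((1 : R') ⊗ₜ[R] s))
      map_one' := by
        change g (χ' ((1 : R') ⊗ₜ[R] (1 : S))) = 1
        rw [← Algebra.TensorProduct.one_def, map_one]
        have := hg1 1
        rwa [map_one] at this
      map_mul' := by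
        intro s t
        obtain ⟨a, ha⟩ := hlift s
        obtain ⟨b, hb⟩ := hlift t
        change g (χ' ((1 : R') ⊗ₜ[R] (s * t))) = g (χ' ((1 : R') ⊗ₜ[R] s)) * g (χ' ((1 : R') ⊗ₜ[R] t))
        have : ((1 : R') ⊗ₜ[R] (s * t) : R' ⊗[R] S) = ((1 : R') ⊗ₜ[R] s) * ((1 : R') ⊗ₜ[R] t) := by
          rw [Algebra.TensorProduct.tmul_mul_tmul, one_mul]
        rw [this, map_mul]
        exact hmulg _ _ a b (hχ'J s a ha) (hχ'J t b hb)
      map_zero' := by
        change g (χ' ((1 : R') ⊗ₜ[R] (0 : S))) = 0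
        rw [TensorProduct.tmul_zero, map_zero, map_zero]
      map_add' := by
        intro s t
        change g (χ' ((1 : R') ⊗ₜ[R] (s + t))) = g (χ' ((1 : R') ⊗ₜ[R] s)) + g (χ' ((1 : R') ⊗ₜ[R] t))
        rw [TensorProduct.tmul_add, map_add, map_add]
      commutes' := by
        intro r
        change g (χ' ((1 : R') ⊗ₜ[R] (algebraMap R S r))) = algebraMap R A r
        have h1 : ((1 : R') ⊗ₜ[R] (algebraMap R S r) : R' ⊗[R] S) =
            algebraMap R' (R' ⊗[R] S) (algebraMap R R' r) := by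
          rw [Algebra.TensorProduct.algebraMap_apply, Algebra.algebraMap_eq_smul_one r,
            Algebra.algebraMap_eq_smul_one (A := R') r, TensorProduct.tmul_smul,
            TensorProduct.smul_tmul']
          simp
        rw [h1, AlgHom.commutes, Algebra.TensorProduct.algebraMap_apply, hg]
        simp only [Algebra.algebraMap_self, RingHom.id_apply]
        rw [hρ, Algebra.smul_def, mul_one] }
  have hχ : ∀ s, χ s = g (χ' ((1 : R') ⊗ₜ[R] s)) := fun s => rfl
  refine ⟨χ, ?_⟩
  ext s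
  obtain ⟨a, ha⟩ := hlift s
  change Ideal.Quotient.mk J (χ s) = ψ s
  rw [← ha, Ideal.Quotient.eq, hχ]
  have h2 := hgJ _ (hχ'J s a ha)
  rwa [map_sub, hg1] at h2

end Groth.Agent.S2095
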