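import Groth.Statements.S2097
import Mathlib

set_option autoImplicit false
universe u
open CAlg

namespace Groth.Agent.S2097

/-- Let `R → S` be smooth, `A` an `R`-algebra and `I ⊆ A` an ideal all of whose elements are nilpotent.
Every `R`-algebra map `S → A/I` lifts to an `R`-algebra map `S → A`. -/
theorem result {R S A : Type u} [CommRing R] [CommRing S] [Algebra R S] [Algebra.Smooth R S]
    [CommRing A] [Algebra R A] (I : Ideal A) (hI : ∀ x ∈ I, IsNilpotent x) (g : S →ₐ[R] A ⧸ I) :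
    ∃ f : S →ₐ[R] A, (Ideal.Quotient.mkₐ R I).comp f = g := by
  classical
  obtain ⟨n, π, hπ, hker⟩ := (Algebra.FinitePresentation.out : ∃ (n : ℕ)
    (f : MvPolynomial (Fin n) R →ₐ[R] S), Function.Surjective f ∧ (RingHom.ker f.toRingHom).FG)
  obtain ⟨T, hT⟩ := hker
  choose a ha using fun i : Fin n => Ideal.Quotient.mk_surjective (g (π (MvPolynomial.X i)))
  let ev : MvPolynomial (Fin n) R →ₐ[R] A := MvPolynomial.aeval a
  have hev : (Ideal.Quotient.mkₐ R I).comp ev = g.comp π := by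
    apply MvPolynomial.algHom_ext
    intro i
    simp [ev, ha]
  have hev' : ∀ P, Ideal.Quotient.mk I (ev P) = g (π P) := fun P => AlgHom.congr_fun hev P
  let I₀ : Ideal A := Ideal.span (ev '' (T : Set (MvPolynomial (Fin n) R)))
  have hI₀le : I₀ ≤ I := by
    rw [Ideal.span_le]
    rintro _ ⟨t, ht, rfl⟩
    have htk : t ∈ RingHom.ker π.toRingHom := hT ▸ Ideal.subset_span ht
    have : π t = 0 := htk
    rw [SetLike.mem_coe, ← Ideal.Quotient.eq_zero_iff_mem, hev', this, map_zero]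
  have hI₀fg : I₀.FG := ⟨T.image ev, by simp [I₀]⟩
  have hI₀nil : IsNilpotent I₀ := by
    rw [Ideal.FG.isNilpotent_iff_le_nilradical hI₀fg]
    intro x hx
    exact hI x (hI₀le hx)
  have hkerle : RingHom.ker π.toRingHom ≤ I₀.comap ev.toRingHom := by
    rw [← hT, Ideal.span_le]
    intro t ht
    exact Ideal.subset_span ⟨t, ht, rfl⟩
  let g₀ : S →ₐ[R] A ⧸ I₀ :=
    (Ideal.quotientMapₐ I₀ ev hkerle).comp (Ideal.quotientKerAlgEquivOfSurjective hπ).symm.toAlgHom
  have hg₀ : ∀ P, g₀ (π P) = Ideal.Quotient.mk I₀ (ev P) := by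
    intro P
    have : (Ideal.quotientKerAlgEquivOfSurjective hπ).symm (π P) = Ideal.Quotient.mk _ P := by
      rw [AlgEquiv.symm_apply_eq]; rfl
    change (Ideal.quotientMapₐ I₀ ev hkerle)
      ((Ideal.quotientKerAlgEquivOfSurjective hπ).symm (π P)) = _
    rw [this]
    rfl
  obtain ⟨f, hf⟩ := Algebra.FormallySmooth.exists_lift (R := R) (A := S) I₀ hI₀nil g₀
  refine ⟨f, ?_⟩
  ext s
  obtain ⟨P, rfl⟩ := hπ s
  have h1 : Ideal.Quotient.mk I₀ (f (π P)) = Ideal.Quotient.mk I₀ (ev P) := by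
    rw [← hg₀]; exact AlgHom.congr_fun hf (π P)
  have h2 : f (π P) - ev P ∈ I := hI₀le (Ideal.Quotient.eq.mp h1)
  change Ideal.Quotient.mk I (f (π P)) = g (π P)
  rw [← hev']
  exact Ideal.Quotient.eq.mpr h2

end Groth.Agent.S2097
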