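import Groth.Statements.S2098
import Groth.Agent.Lib.Helper5.ArtinRees2

set_option autoImplicit false
universe u
open CAlg

namespace Groth.Agent.S2098

/-- Let `R` be Noetherian, `I` an ideal inside the Jacobson radical and `u : N → M` a map of finite
`R`-modules. If for arbitrarily large `n` the induced map `N/IⁿN → M/IⁿM` has a left inverse, then
`u` has a left inverse. -/
theorem result {R M N : Type u} [CommRing R] [IsNoetherianRing R] (I : Ideal R)
    (hI : I ≤ (⊥ : Ideal R).jacobson) [AddCommGroup M] [Module R M] [Module.Finite R M] [AddCommGroup N] [Module R N]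
    [Module.Finite R N] (u : N →ₗ[R] M)
    (h : ∀ n₀ : ℕ, ∃ n, n₀ ≤ n ∧ ∃ s : (M ⧸ (I ^ n) • (⊤ : Submodule R M)) →ₗ[R] (N ⧸ (I ^ n) • (⊤ : Submodule R N)),
      ∀ x : N, s (Submodule.Quotient.mk (u x)) = Submodule.Quotient.mk x) :
    ∃ s : M →ₗ[R] N, s.comp u = LinearMap.id := by
  obtain ⟨c, hc⟩ := Groth.Agent.Helper5.ArtinRees.exists_approx_lift I M N
  obtain ⟨n, hn, s, hs⟩ := h (c + 1)
  obtain ⟨n₀, rfl⟩ : ∃ n₀, n = n₀ + c := ⟨n - c, by omega⟩
  obtain ⟨φ, hφ⟩ := hc n₀ (s ∘ₗ (I ^ (n₀ + c) • (⊤ : Submodule R M)).mkQ)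
  have hφu : ∀ x : N, φ (u x) - x ∈ (I • ⊤ : Submodule R N) := by
    intro x
    have h1 := hφ (u x) x (by
      rw [LinearMap.comp_apply, Submodule.mkQ_apply, hs])
    have h2 : I ^ n₀ ≤ I := by
      have : I ^ n₀ ≤ I ^ 1 := Ideal.pow_le_pow_right (by omega)
      rwa [pow_one] at this
    exact Submodule.smul_mono_left h2 h1
  set ψ : N →ₗ[R] N := φ ∘ₗ u with hψ
  have hsurj : Function.Surjective ψ := by
    rw [← LinearMap.range_eq_top, eq_top_iff]
    apply Submodule.le_of_le_smul_of_le_jacobson_bot (I := I) (Module.Finite.fg_top) hI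
    intro x _
    have : x = ψ x + (x - ψ x) := by abel
    rw [this]
    refine Submodule.add_mem_sup (LinearMap.mem_range_self ψ x) ?_
    have := hφu x
    rw [← neg_sub]
    exact neg_mem this
  have hinj : Function.Injective ψ :=
    OrzechProperty.injective_of_surjective_endomorphism ψ hsurj
  let e : N ≃ₗ[R] N := LinearEquiv.ofBijective ψ ⟨hinj, hsurj⟩
  refine ⟨e.symm.toLinearMap ∘ₗ φ, ?_⟩
  ext x
  simp only [LinearMap.comp_apply, LinearEquiv.coe_coe, LinearMap.id_apply]
  rw [LinearEquiv.symm_apply_eq]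
  rfl

end Groth.Agent.S2098
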