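import Groth.Statements.S2102
-- import your own Groth.Agent.* helpers here

set_option autoImplicit false
universe u
open CategoryTheory AlgebraicGeometry
open Mor

namespace Groth.Agent.S2102

section
open AlgebraicGeometry CategoryTheory TopologicalSpace Opposite

theorem alg_key {R S : Type*} [CommRing R] [IsDomain R] [CommRing S] [IsDomain S]
    [IsIntegrallyClosed S]
    (φ : R →+* S) (hφ : Function.Injective φ) (a b : R) (hb : b ≠ 0)
    (h : IsIntegral R (algebraMap R (FractionRing R) a / algebraMap R (FractionRing R) b)) :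
    ∃ s : S, φ b * s = φ a := by
  set K := FractionRing R
  set L := FractionRing S
  have hinj : Function.Injective ((algebraMap S L).comp φ) :=
    (IsFractionRing.injective S L).comp hφ
  let ψ : K →+* L := IsFractionRing.lift hinj
  have hψ : ∀ r : R, ψ (algebraMap R K r) = algebraMap S L (φ r) := fun r =>
    IsFractionRing.lift_algebraMap hinj r
  have h1 : IsIntegral S (ψ (algebraMap R K a / algebraMap R K b)) := by
    refine IsIntegral.map_of_comp_eq φ ψ ?_ h
    ext r
    simp [hψ]
  obtain ⟨s, hs⟩ := (isIntegrallyClosed_iff L).mp inferInstance h1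
  refine ⟨s, ?_⟩
  apply IsFractionRing.injective S L
  have hb' : algebraMap R K b ≠ 0 := by
    simpa using (IsFractionRing.injective R K).ne hb
  rw [map_mul, hs, ← hψ, ← hψ, ← map_mul, mul_div_cancel₀ _ hb']

theorem glue (X : Scheme.{u}) [IsIntegral X] (a b : Γ(X, ⊤)) (hb : b ≠ 0)
    (h : ∀ x : X, ∃ s : X.presheaf.stalk x,
      X.presheaf.germ ⊤ x trivial b * s = X.presheaf.germ ⊤ x trivial a) :
    ∃ s : Γ(X, ⊤), b * s = a := by
  -- local sections
  have loc : ∀ x : X, ∃ (W : X.Opens) (_ : x ∈ W) (t : Γ(X, W)),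
      X.presheaf.map (homOfLE (le_top : W ≤ ⊤)).op b * t =
        X.presheaf.map (homOfLE (le_top : W ≤ ⊤)).op a := by
    intro x
    obtain ⟨s, hs⟩ := h x
    obtain ⟨V, hxV, t, rfl⟩ := X.presheaf.exists_germ_eq s
    have e : X.presheaf.germ V x hxV (X.presheaf.map (homOfLE (le_top : V ≤ ⊤)).op b * t) =
        X.presheaf.germ V x hxV (X.presheaf.map (homOfLE (le_top : V ≤ ⊤)).op a) := by
      rw [map_mul, TopCat.Presheaf.germ_res_apply, TopCat.Presheaf.germ_res_apply]
      exact hs
    obtain ⟨W, hxW, i1, i2, e'⟩ := X.presheaf.germ_eq x hxV hxV _ _ e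
    refine ⟨W, hxW, X.presheaf.map i1.op t, ?_⟩
    have e1 : ∀ c : Γ(X, ⊤), X.presheaf.map (homOfLE (le_top : W ≤ ⊤)).op c =
        X.presheaf.map i1.op (X.presheaf.map (homOfLE (le_top : V ≤ ⊤)).op c) := by
      intro c
      rw [← ConcreteCategory.comp_apply, ← X.presheaf.map_comp]
      rfl
    rw [e1, e1, ← map_mul]
    cases Subsingleton.elim i1 i2
    exact e'
  choose W hW t ht using loc
  have hbz : ∀ z : X, X.presheaf.germ ⊤ z trivial b ≠ 0 := by
    intro z hz
    apply hb
    apply germ_injective_of_isIntegral X z (U := ⊤) trivial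
    rw [hz, map_zero]
  have germ_t : ∀ (x z : X) (hz : z ∈ W x),
      X.presheaf.germ ⊤ z trivial b * X.presheaf.germ (W x) z hz (t x) =
        X.presheaf.germ ⊤ z trivial a := by
    intro x z hz
    have := congrArg (X.presheaf.germ (W x) z hz) (ht x)
    rw [map_mul, TopCat.Presheaf.germ_res_apply, TopCat.Presheaf.germ_res_apply] at this
    exact this
  have compat : TopCat.Presheaf.IsCompatible X.sheaf.1 W t := by
    intro x y
    apply TopCat.Presheaf.section_ext X.sheaf
    intro z hz
    have hzx : z ∈ W x := (inf_le_left : W x ⊓ W y ≤ W x) hz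
    have hzy : z ∈ W y := (inf_le_right : W x ⊓ W y ≤ W y) hz
    have e1 := TopCat.Presheaf.germ_res_apply X.presheaf (Opens.infLELeft (W x) (W y)) z hz (t x)
    have e2 := TopCat.Presheaf.germ_res_apply X.presheaf (Opens.infLERight (W x) (W y)) z hz (t y)
    refine e1.trans (Eq.trans ?_ e2.symm)
    apply mul_left_cancel₀ (hbz z)
    rw [germ_t x z hzx, germ_t y z hzy]
  obtain ⟨s, hs, -⟩ := X.sheaf.existsUnique_gluing' W ⊤ (fun x => homOfLE le_top)
    (fun z _ => Opens.mem_iSup.mpr ⟨z, hW z⟩) t compat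
  refine ⟨s, ?_⟩
  apply TopCat.Presheaf.section_ext X.sheaf
  intro z hz
  have e1 : X.presheaf.germ ⊤ z trivial s = X.presheaf.germ (W z) z (hW z) (t z) := by
    rw [← hs z]
    exact (TopCat.Presheaf.germ_res_apply X.presheaf (homOfLE le_top) z (hW z) s).symm
  have := germ_t z z (hW z)
  rw [← e1, ← map_mul] at this
  exact this

theorem main (X : Scheme.{u}) [IsIntegral X] (hX : Pi1.IsNormalScheme X) :
    IsIntegrallyClosed (Γ(X, ⊤) : Type u) := by
  rw [isIntegrallyClosed_iff (FractionRing Γ(X, ⊤))]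
  intro f hf
  obtain ⟨a, b, hb, rfl⟩ := IsFractionRing.div_surjective (A := Γ(X, ⊤)) f
  have hb0 : b ≠ 0 := nonZeroDivisors.ne_zero hb
  have key : ∀ x : X, ∃ s : X.presheaf.stalk x,
      X.presheaf.germ ⊤ x trivial b * s = X.presheaf.germ ⊤ x trivial a := by
    intro x
    haveI := (hX x).2
    exact alg_key (X.presheaf.germ ⊤ x trivial).hom
      (germ_injective_of_isIntegral X x (U := ⊤) trivial) a b hb0 hf
  obtain ⟨s, hs⟩ := glue X a b hb0 key
  refine ⟨s, ?_⟩
  have hb' : algebraMap Γ(X, ⊤) (FractionRing Γ(X, ⊤)) b ≠ 0 := by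
    simpa using (IsFractionRing.injective Γ(X, ⊤) (FractionRing Γ(X, ⊤))).ne hb0
  rw [eq_div_iff hb', ← map_mul, mul_comm, hs]
end

/-- The ring of global sections of an integral normal scheme is an integrally closed domain. -/
theorem result (X : Scheme.{u}) [IsIntegral X] (hX : Pi1.IsNormalScheme X) :
    IsIntegrallyClosed (Γ(X, ⊤) : Type u) := by
  exact Groth.Agent.S2102.main X hX

end Groth.Agent.S2102
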