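import Groth.Statements.S2105
import Mathlib
-- import your own Groth.Agent.* helpers here

set_option autoImplicit false
universe u
open CAlg

namespace Groth.Agent.S2105

section

variable {A : Type u} [CommRing A] {n m : ℕ}

/-- extension by zero on the right -/
def inlL (A : Type u) [CommRing A] (n m : ℕ) : (Fin n → A) →ₗ[A] (Fin (n + m) → A) where
  toFun v := Fin.append v 0
  map_add' v w := by
    funext k
    induction k using Fin.addCases with
    | left i => simp [Fin.append_left]
    | right j => simp [Fin.append_right]
  map_smul' c v := by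
    funext k
    induction k using Fin.addCases with
    | left i => simp [Fin.append_left]
    | right j => simp [Fin.append_right]

def inrL (A : Type u) [CommRing A] (n m : ℕ) : (Fin m → A) →ₗ[A] (Fin (n + m) → A) where
  toFun w := Fin.append 0 w
  map_add' v w := by
    funext k
    induction k using Fin.addCases with
    | left i => simp [Fin.append_left]
    | right j => simp [Fin.append_right]
  map_smul' c v := by
    funext k
    induction k using Fin.addCases with
    | left i => simp [Fin.append_left]
    | right j => simp [Fin.append_right]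

theorem inlL_single [DecidableEq (Fin n)] [DecidableEq (Fin (n + m))] (i : Fin n) (x : A) :
    inlL A n m (Pi.single i x) = Pi.single (Fin.castAdd m i) x := by
  funext k
  change Fin.append (Pi.single i x) 0 k = _
  induction k using Fin.addCases with
  | left i' =>
    rw [Fin.append_left]
    by_cases h : i' = i
    · subst h; simp
    · rw [Pi.single_eq_of_ne h, Pi.single_eq_of_ne]
      intro h'; exact h (Fin.castAdd_injective _ _ h')
  | right j =>
    rw [Fin.append_right, Pi.single_eq_of_ne]
    · rfl
    · intro h'
      have := congrArg Fin.val h'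
      simp at this
      omega

theorem inrL_single [DecidableEq (Fin m)] [DecidableEq (Fin (n + m))] (j : Fin m) (x : A) :
    inrL A n m (Pi.single j x) = Pi.single (Fin.natAdd n j) x := by
  funext k
  change Fin.append 0 (Pi.single j x) k = _
  induction k using Fin.addCases with
  | left i =>
    rw [Fin.append_left, Pi.single_eq_of_ne]
    · rfl
    · intro h'
      have := congrArg Fin.val h'
      simp at this
      omega
  | right j' =>
    rw [Fin.append_right]
    by_cases h : j' = j
    · subst h; simp
    · rw [Pi.single_eq_of_ne h, Pi.single_eq_of_ne]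
      intro h'; exact h (Fin.natAdd_injective _ _ h')

theorem append_eq (v : Fin n → A) (w : Fin m → A) :
    Fin.append v w = inlL A n m v + inrL A n m w := by
  funext k
  change _ = Fin.append v 0 k + Fin.append 0 w k
  induction k using Fin.addCases with
  | left i => simp [Fin.append_left]
  | right j => simp [Fin.append_right]

theorem fun_eq_sum_single {k : ℕ} (w : Fin k → A) :
    w = ∑ j, LinearMap.single A (fun _ : Fin k => A) j (w j) := by
  funext j'
  rw [Finset.sum_apply]
  simp [Pi.single_apply]

theorem main {A : Type u} [CommRing A] {n m : ℕ} (f : Fin n → A)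
    (g : Fin m → A) (hf : CAlgX.IsH1Regular f)
    (hg : CAlgX.IsH1Regular (fun j => Ideal.Quotient.mk (Ideal.span (Set.range f)) (g j))) :
    CAlgX.IsH1Regular (Fin.append f g) := by
  classical
  set h := Fin.append f g with hh
  set I := Ideal.span (Set.range f) with hI
  have hhl : ∀ i, h (Fin.castAdd m i) = f i := fun i => Fin.append_left f g i
  have hhr : ∀ j, h (Fin.natAdd n j) = g j := fun j => Fin.append_right f g j
  let T : Submodule A (Fin (n + m) → A) :=
    Submodule.span A {v | ∃ i j, v = Pi.single i (h j) - Pi.single j (h i)}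
  have htriv : ∀ i j, Pi.single i (h j) - Pi.single j (h i) ∈ T :=
    fun i j => Submodule.subset_span ⟨i, j, rfl⟩
  have hTrel : ∀ v ∈ T, ∑ k, v k * h k = 0 := by
    intro v hv
    refine Submodule.span_induction ?_ ?_ ?_ ?_ hv
    · rintro _ ⟨i, j, rfl⟩
      simp only [Pi.sub_apply, sub_mul, Finset.sum_sub_distrib, Pi.single_apply, ite_mul,
        zero_mul, Finset.sum_ite_eq', Finset.mem_univ, if_true]
      ring
    · simp
    · intro v w _ _ hv hw
      simp only [Pi.add_apply, add_mul, Finset.sum_add_distrib, hv, hw, add_zero]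
    · intro c v _ hv
      simp only [Pi.smul_apply, smul_eq_mul, mul_assoc, ← Finset.mul_sum, hv, mul_zero]
  intro a ha
  change a ∈ T
  let α : Fin n → A := fun i => a (Fin.castAdd m i)
  let β : Fin m → A := fun j => a (Fin.natAdd n j)
  have ha_eq : a = inlL A n m α + inrL A n m β := by
    rw [← append_eq]
    funext k
    induction k using Fin.addCases with
    | left i => rw [Fin.append_left]
    | right j => rw [Fin.append_right]
  have hrel_of : ∀ (v : Fin n → A) (w : Fin m → A),
      ∑ k, (inlL A n m v + inrL A n m w) k * h k = ∑ i, v i * f i + ∑ j, w j * g j := by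
    intro v w
    rw [← append_eq, Fin.sum_univ_add]
    simp only [Fin.append_left, Fin.append_right, hhl, hhr]
  have hsum : ∑ i, α i * f i + ∑ j, β j * g j = 0 := by
    rw [← hrel_of, ← ha_eq]; exact ha
  have hβrel : ∑ j, Ideal.Quotient.mk I (β j) * Ideal.Quotient.mk I (g j) = 0 := by
    have h1 : Ideal.Quotient.mk I (∑ i, α i * f i + ∑ j, β j * g j) = 0 := by
      rw [hsum, map_zero]
    rw [map_add, map_sum, map_sum] at h1
    have h0 : ∑ i, Ideal.Quotient.mk I (α i * f i) = 0 :=
      Finset.sum_eq_zero fun i _ => Ideal.Quotient.eq_zero_iff_mem.mpr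
        (Ideal.mul_mem_left _ _ (Ideal.subset_span ⟨i, rfl⟩))
    rw [h0, zero_add] at h1
    simpa only [map_mul] using h1
  have hβspan := hg (fun j => Ideal.Quotient.mk I (β j)) hβrel
  have key : ∀ v ∈ Submodule.span (A ⧸ I) {v : Fin m → A ⧸ I | ∃ i j : Fin m,
      v = Pi.single i (Ideal.Quotient.mk I (g j)) - Pi.single j (Ideal.Quotient.mk I (g i))},
      ∃ β' : Fin m → A, (∀ j, Ideal.Quotient.mk I (β' j) = v j) ∧ inrL A n m β' ∈ T := by
    intro v hv
    refine Submodule.span_induction ?_ ?_ ?_ ?_ hv
    · rintro v ⟨i, j, rfl⟩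
      refine ⟨Pi.single i (g j) - Pi.single j (g i), ?_, ?_⟩
      · intro k
        simp only [Pi.sub_apply, map_sub, Pi.single_apply]
        split_ifs <;> simp
      · rw [map_sub, inrL_single, inrL_single, ← hhr, ← hhr]
        exact htriv _ _
    · exact ⟨0, fun j => by simp, by rw [map_zero]; exact T.zero_mem⟩
    · rintro v w _ _ ⟨b1, h1, h1'⟩ ⟨b2, h2, h2'⟩
      refine ⟨b1 + b2, fun j => by simp [h1, h2], ?_⟩
      rw [map_add]; exact T.add_mem h1' h2'
    · rintro c v _ ⟨b1, h1, h1'⟩
      obtain ⟨C, rfl⟩ := Ideal.Quotient.mk_surjective c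
      refine ⟨C • b1, fun j => by simp [h1], ?_⟩
      rw [map_smul]; exact T.smul_mem _ h1'
  obtain ⟨β', hβ', hβ'T⟩ := key _ hβspan
  have hd : ∀ j, ∃ d : Fin n → A, β j - β' j = ∑ i, d i * f i := by
    intro j
    have h1 : β j - β' j ∈ I := by
      rw [← Ideal.Quotient.eq_zero_iff_mem, map_sub, hβ' j, sub_self]
    rw [hI, Ideal.mem_span_range_iff_exists_fun] at h1
    obtain ⟨d, hd⟩ := h1
    exact ⟨d, hd.symm⟩
  choose d hd using hd
  let δ : Fin n → A := fun i => ∑ j, d j i * g j
  let τ : Fin (n + m) → A := inrL A n m (β - β') - inlL A n m δ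
  have hτT : τ ∈ T := by
    have e1 : β - β' = ∑ j, ∑ i, d j i • LinearMap.single A (fun _ : Fin m => A) j (f i) := by
      rw [fun_eq_sum_single (β - β')]
      refine Finset.sum_congr rfl fun j _ => ?_
      rw [Pi.sub_apply, hd j, map_sum]
      refine Finset.sum_congr rfl fun i _ => ?_
      rw [← map_smul, smul_eq_mul]
    have e2 : δ = ∑ j, ∑ i, d j i • LinearMap.single A (fun _ : Fin n => A) i (g j) := by
      rw [fun_eq_sum_single δ, Finset.sum_comm]
      refine Finset.sum_congr rfl fun i _ => ?_
      simp only [δ, map_sum]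
      refine Finset.sum_congr rfl fun j _ => ?_
      rw [← map_smul, smul_eq_mul]
    have e3 : τ = ∑ j, ∑ i, d j i • (Pi.single (Fin.natAdd n j) (h (Fin.castAdd m i)) -
        Pi.single (Fin.castAdd m i) (h (Fin.natAdd n j))) := by
      simp only [τ]
      rw [e1, e2, map_sum, map_sum, ← Finset.sum_sub_distrib]
      refine Finset.sum_congr rfl fun j _ => ?_
      rw [map_sum, map_sum, ← Finset.sum_sub_distrib]
      refine Finset.sum_congr rfl fun i _ => ?_
      rw [map_smul, map_smul, ← smul_sub, LinearMap.coe_single, LinearMap.coe_single,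
        inrL_single, inlL_single, hhl, hhr]
    rw [e3]
    exact T.sum_mem fun j _ => T.sum_mem fun i _ => T.smul_mem _ (htriv _ _)
  let α' : Fin n → A := α + δ
  have hdecomp : a = inlL A n m α' + inrL A n m β' + τ := by
    simp only [τ, α', map_add, map_sub]
    rw [ha_eq]
    abel
  have hα'rel : ∑ i, α' i * f i = 0 := by
    have h1 : ∑ k, (inlL A n m α' + inrL A n m 0) k * h k = 0 := by
      have h2 : inlL A n m α' + inrL A n m 0 = a - (inrL A n m β' + τ) := by
        rw [hdecomp, map_zero]; abel
      rw [h2]
      have h3 := hTrel _ (T.add_mem hβ'T hτT)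
      simp only [Pi.sub_apply, sub_mul, Finset.sum_sub_distrib, ha, h3, sub_zero]
    rw [hrel_of] at h1
    simpa using h1
  have hα'span := hf α' hα'rel
  have hα'T : inlL A n m α' ∈ T := by
    have hle : Submodule.span A {v : Fin n → A | ∃ i j : Fin n,
        v = Pi.single i (f j) - Pi.single j (f i)} ≤ T.comap (inlL A n m) := by
      rw [Submodule.span_le]
      rintro _ ⟨i, j, rfl⟩
      rw [SetLike.mem_coe, Submodule.mem_comap, map_sub, inlL_single, inlL_single, ← hhl, ← hhl]
      exact htriv _ _
    exact hle hα'span
  rw [hdecomp]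
  exact T.add_mem (T.add_mem hα'T hβ'T) hτT

end

/-- Appending to an `H_1`-regular sequence `f` a sequence `g` whose image modulo the ideal `(f)` is
`H_1`-regular yields an `H_1`-regular sequence. -/
theorem result {A : Type u} [CommRing A] {n m : ℕ} (f : Fin n → A)
    (g : Fin m → A) (hf : CAlgX.IsH1Regular f)
    (hg : CAlgX.IsH1Regular (fun j => Ideal.Quotient.mk (Ideal.span (Set.range f)) (g j))) :
    CAlgX.IsH1Regular (Fin.append f g) := by
  exact Groth.Agent.S2105.main f g hf hg

end Groth.Agent.S2105
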