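import Groth.Statements.S2110
import Groth.Agent.Lib.Helper4.SymLoc2

set_option autoImplicit false
universe u
open Smoothing

namespace Groth.Agent.S2110

/-- Let `A` be a finitely presented `R`-algebra. There is an `A`-algebra `C` of finite type with an
`A`-algebra retraction `C → A` such that for every `a ∈ A` with `A_a` smooth over `R`, the module of
differentials of `C_a` over `R` is a free `C_a`-module. -/
theorem result {R A : Type u} [CommRing R] [CommRing A] [Algebra R A]
    [Algebra.FinitePresentation R A] :
    ∃ (C : Type u) (_ : CommRing C) (_ : Algebra A C) (_ : Algebra R C) (_ : IsScalarTower R A C),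
      Algebra.FiniteType A C ∧ Nonempty (C →ₐ[A] A) ∧
      ∀ a : A, Algebra.Smooth R (Localization.Away a) →
        Module.Free (Localization.Away (algebraMap A C a)) Ω[Localization.Away (algebraMap A C a)⁄R] := by
  classical
  let Q := Algebra.Presentation.ofFinitePresentation R A
  let P := Q.toGenerators
  have hkerFG : P.toExtension.ker.FG := by
    have h1 : P.toExtension.ker = Ideal.span (Set.range Q.relation) :=
      Q.span_range_relation_eq_ker.symm
    rw [h1]
    exact Submodule.fg_span (Set.finite_range _)
  haveI : Module.Finite A P.toExtension.Cotangent := Algebra.Extension.Cotangent.finite hkerFG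
  refine Groth.Agent.Helper4.SymLoc.aux P.cotangentSpaceBasis P.toExtension.cotangentComplex
    P.toExtension.toKaehler P.toExtension.exact_cotangentComplex_toKaehler
    P.toExtension.toKaehler_surjective ?_
  intro a hsm
  haveI : Algebra.FormallySmooth R (Localization.Away a) := hsm.formallySmooth
  change Subsingleton (TensorProduct A (Localization.Away a) P.toExtension.H1Cotangent)
  let e2 := (TensorProduct.AlgebraTensorModule.congr
      (LinearEquiv.refl (Localization.Away a) (Localization.Away a)) P.equivH1Cotangent) ≪≫ₗ
    Algebra.tensorH1CotangentOfIsLocalization R (Localization.Away a) (Submonoid.powers a)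
  exact e2.toEquiv.subsingleton

end Groth.Agent.S2110
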