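import Groth.Statements.S2113
import Groth.Agent.Lib.Helper2.JacobsonNoeth
-- import your own Groth.Agent.* helpers here

set_option autoImplicit false
universe u
open CAlg

namespace Groth.Agent.S2113

section
open Groth.Agent.Helper2.JacobsonNoeth

theorem main {R : Type u} [CommRing R] [IsNoetherianRing R]
    (h : ∀ (p : Ideal R) [p.IsPrime], p.IsMaximal ∨ {q : PrimeSpectrum R | p ≤ q.asIdeal}.Infinite) :
    IsJacobsonRing R := by
  by_contra hn
  obtain ⟨p, hp, hnm, hfin, -⟩ := exists_prime_of_not_jacobson hn
  rcases @h p hp with hm | hinf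
  · exact hnm hm
  · exact hinf hfin

end

/-- A Noetherian ring in which each prime is maximal or else lies below infinitely many primes is a
Jacobson ring. -/
theorem result {R : Type u} [CommRing R] [IsNoetherianRing R]
    (h : ∀ (p : Ideal R) [p.IsPrime], p.IsMaximal ∨ {q : PrimeSpectrum R | p ≤ q.asIdeal}.Infinite) :
    IsJacobsonRing R := by
  exact Groth.Agent.S2113.main h

end Groth.Agent.S2113
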