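import Groth.Statements.S2118
import Mathlib

set_option autoImplicit false
universe u
open CategoryTheory
open CAlg

namespace Groth.Agent.S2118

section helpers

open CategoryTheory.Limits

/-- Index category for Lazard: pairs `(n, x : Rⁿ → M)`. -/
structure Idx (R : Type u) [CommRing R] (M : Type u) [AddCommGroup M] [Module R M] : Type u where
  n : ℕ
  x : (Fin n →₀ R) →ₗ[R] M

namespace Idx

variable {R : Type u} [CommRing R] {M : Type u} [AddCommGroup M] [Module R M]

@[ext]
structure Hom (A B : Idx R M) : Type u where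
  a : (Fin A.n →₀ R) →ₗ[R] (Fin B.n →₀ R)
  w : B.x ∘ₗ a = A.x

noncomputable instance : Category.{u} (Idx R M) where
  Hom := Hom
  id A := ⟨LinearMap.id, LinearMap.comp_id _⟩
  comp f g := ⟨g.a ∘ₗ f.a, by rw [← LinearMap.comp_assoc, g.w, f.w]⟩
  id_comp _ := Hom.ext (LinearMap.comp_id _)
  comp_id _ := Hom.ext (LinearMap.id_comp _)
  assoc _ _ _ := Hom.ext (LinearMap.comp_assoc _ _ _).symm

@[ext]
lemma hom_ext' {A B : Idx R M} (f g : A ⟶ B) (h : f.a = g.a) : f = g := Hom.ext h

@[simp] lemma id_a (A : Idx R M) : (𝟙 A : A ⟶ A).a = LinearMap.id := rfl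
@[simp] lemma comp_a {A B C : Idx R M} (f : A ⟶ B) (g : B ⟶ C) : (f ≫ g).a = g.a ∘ₗ f.a := rfl

/-- The diagram of finite free modules. -/
noncomputable def functor (R : Type u) [CommRing R] (M : Type u) [AddCommGroup M] [Module R M] :
    Idx R M ⥤ ModuleCat.{u} R where
  obj A := ModuleCat.of R (Fin A.n →₀ R)
  map f := ModuleCat.ofHom f.a
  map_id _ := rfl
  map_comp _ _ := rfl

/-- The cocone with vertex `M`. -/
noncomputable def cocone (R : Type u) [CommRing R] (M : Type u) [AddCommGroup M] [Module R M] :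
    Cocone (functor R M) where
  pt := ModuleCat.of R M
  ι :=
    { app := fun A => ModuleCat.ofHom A.x
      naturality := fun A B f => by
        ext v
        simp only [functor, Functor.const_obj_obj, Functor.const_obj_map, Category.comp_id,
          ModuleCat.hom_comp, ModuleCat.hom_ofHom]
        rw [← f.w] }

instance : Nonempty (Idx R M) := ⟨⟨0, 0⟩⟩

lemma isFiltered [Module.Flat R M] : IsFiltered (Idx R M) := by
  have : IsFilteredOrEmpty (Idx R M) :=
    { cocone_objs := fun A B => by
        obtain ⟨k, a, y, hy, -⟩ :=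
          Module.Flat.exists_factorization_of_comp_eq_zero_of_free (R := R) (M := M)
            (K := PUnit.{u+1}) (N := (Fin A.n →₀ R) × (Fin B.n →₀ R))
            (f := 0) (x := A.x.coprod B.x) (by simp)
        refine ⟨⟨k, y⟩, ⟨a ∘ₗ LinearMap.inl R _ _, ?_⟩, ⟨a ∘ₗ LinearMap.inr R _ _, ?_⟩, trivial⟩
        · rw [← LinearMap.comp_assoc, ← hy, LinearMap.coprod_inl]
        · rw [← LinearMap.comp_assoc, ← hy, LinearMap.coprod_inr]
      cocone_maps := fun A B f g => by
        have h0 : B.x ∘ₗ (f.a - g.a) = 0 := by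
          rw [LinearMap.comp_sub, f.w, g.w, sub_self]
        obtain ⟨k, c, y, hy, hc⟩ :=
          Module.Flat.exists_factorization_of_comp_eq_zero_of_free (R := R) (M := M) h0
        refine ⟨⟨k, y⟩, ⟨c, hy.symm⟩, ?_⟩
        apply Hom.ext
        show c ∘ₗ f.a = c ∘ₗ g.a
        rw [LinearMap.comp_sub] at hc
        exact sub_eq_zero.mp hc }
  exact {}

lemma surj_aux (m : M) : ∃ (A : Idx R M) (v : Fin A.n →₀ R), m = A.x v :=
  ⟨⟨1, Finsupp.linearCombination R (fun _ : Fin 1 => m)⟩, Finsupp.single (0 : Fin 1) (1 : R), by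
    rw [Finsupp.linearCombination_single, one_smul]⟩

lemma inj_aux [Module.Flat R M] (A : Idx R M) (v w : Fin A.n →₀ R) (h : A.x v = A.x w) :
    ∃ (B : Idx R M) (f : A ⟶ B), f.a v = f.a w := by
  have h0 : A.x (v - w) = 0 := by rw [map_sub, h, sub_self]
  obtain ⟨k, a, y, hy, ha⟩ :=
    Module.Flat.exists_factorization_of_apply_eq_zero_of_free (R := R) (M := M) h0
  refine ⟨⟨k, y⟩, ⟨a, hy.symm⟩, ?_⟩
  change a v = a w
  rw [map_sub] at ha
  exact sub_eq_zero.mp ha

/-- The cocone is a colimit cocone when `M` is flat. -/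
lemma nonempty_isColimit [Module.Flat R M] : Nonempty (IsColimit (cocone R M)) := by
  have := isFiltered (R := R) (M := M)
  refine ⟨isColimitOfReflects (forget (ModuleCat.{u} R)) ?_⟩
  refine Types.FilteredColimit.isColimitOf' _ _ ?_ ?_
  · intro m
    obtain ⟨A, v, hv⟩ := surj_aux (R := R) (M := M) m
    exact ⟨A, v, hv⟩
  · intro A v w h
    obtain ⟨B, f, hf⟩ := inj_aux A v w h
    exact ⟨B, f, hf⟩

end Idx

lemma forward (R : Type u) [CommRing R] (M : Type u) [AddCommGroup M] [Module R M]
    [Module.Flat R M] :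
    ∃ (J : Type u) (_ : Preorder J) (_ : IsDirected J (fun a b => a ≤ b)) (_ : Nonempty J)
        (F : J ⥤ ModuleCat.{u} R), (∀ j, Module.Finite R (F.obj j) ∧ Module.Free R (F.obj j)) ∧
        Nonempty (Limits.colimit F ≅ ModuleCat.of R M) := by
  have := Idx.isFiltered (R := R) (M := M)
  obtain ⟨α, iα, hdir, hne, G, hG⟩ := IsFiltered.exists_directed (Idx R M)
  obtain ⟨hc⟩ := Idx.nonempty_isColimit (R := R) (M := M)
  refine ⟨α, iα.toPreorder, hdir, hne, G ⋙ Idx.functor R M, ?_, ?_⟩
  · intro j
    exact ⟨inferInstanceAs (Module.Finite R (Fin _ →₀ R)),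
      inferInstanceAs (Module.Free R (Fin _ →₀ R))⟩
  · exact ⟨Functor.Final.colimitIso G (Idx.functor R M) ≪≫
      IsColimit.coconePointUniqueUpToIso (colimit.isColimit _) hc⟩

section backward

variable {R : Type u} [CommRing R] {J : Type u} [Preorder J] [IsDirected J (fun a b => a ≤ b)]
  [Nonempty J] (F : J ⥤ ModuleCat.{u} R)

/-- every map from a finite free module to the colimit factors through a stage -/
lemma exists_factor_stage {l : ℕ} (x : (Fin l →₀ R) →ₗ[R] (colimit F : ModuleCat.{u} R)) :
    ∃ (j : J) (x' : (Fin l →₀ R) →ₗ[R] F.obj j), x = (colimit.ι F j).hom ∘ₗ x' := by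
  have : IsFiltered J := isFiltered_of_directed_le_nonempty J
  have hrep : ∀ i : Fin l, ∃ (j : J) (y : F.obj j),
      (colimit.ι F j).hom y = x (Finsupp.single i 1) := fun i =>
    Concrete.colimit_exists_rep F (x (Finsupp.single i 1))
  choose js ys hys using hrep
  classical
  obtain ⟨j, hj⟩ := Finset.exists_le (Finset.univ.image js)
  have hle : ∀ i, js i ≤ j := fun i => hj _ (Finset.mem_image_of_mem _ (Finset.mem_univ i))
  refine ⟨j, Finsupp.linearCombination R (fun i => (F.map (homOfLE (hle i))).hom (ys i)), ?_⟩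
  apply Finsupp.lhom_ext
  intro i r
  rw [LinearMap.comp_apply, Finsupp.linearCombination_single, map_smul,
    ← Finsupp.smul_single_one i r, map_smul]
  congr 1
  rw [← hys i]
  have := colimit.w F (homOfLE (hle i))
  rw [← this]
  rfl

lemma flat_colimit (hF : ∀ j, Module.Finite R (F.obj j) ∧ Module.Free R (F.obj j)) :
    Module.Flat R (colimit F : ModuleCat.{u} R) := by
  have : IsFiltered J := isFiltered_of_directed_le_nonempty J
  apply Module.Flat.of_forall_exists_factorization
  intro l f x hx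
  obtain ⟨j, x', rfl⟩ := exists_factor_stage F x
  rw [LinearMap.comp_apply] at hx
  have hx' : (colimit.ι F j) (x' f) = (colimit.ι F j) (0 : F.obj j) := by
    rw [map_zero]; exact hx
  obtain ⟨k, g₁, g₂, hg⟩ := Concrete.colimit_exists_of_rep_eq F _ _ hx'
  rw [map_zero] at hg
  have := (hF k).1
  have := (hF k).2
  let e := ((Module.Free.chooseBasis R (F.obj k)).reindex (Fintype.equivFin _)).repr
  refine ⟨_, e.toLinearMap ∘ₗ (F.map g₁).hom ∘ₗ x', (colimit.ι F k).hom ∘ₗ e.symm.toLinearMap,
    ?_, ?_⟩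
  · ext v
    simp only [LinearMap.comp_apply, LinearEquiv.coe_coe, LinearEquiv.symm_apply_apply]
    have := colimit.w F g₁
    rw [← this]
    rfl
  · rw [LinearMap.comp_apply, LinearMap.comp_apply]
    change e ((F.map g₁) (x' f)) = 0
    rw [hg, map_zero]

end backward

lemma backward (R : Type u) [CommRing R] (M : Type u) [AddCommGroup M] [Module R M]
    (h : ∃ (J : Type u) (_ : Preorder J) (_ : IsDirected J (fun a b => a ≤ b)) (_ : Nonempty J)
        (F : J ⥤ ModuleCat.{u} R), (∀ j, Module.Finite R (F.obj j) ∧ Module.Free R (F.obj j)) ∧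
        Nonempty (Limits.colimit F ≅ ModuleCat.of R M)) : Module.Flat R M := by
  obtain ⟨J, _, _, _, F, hF, ⟨e⟩⟩ := h
  have := flat_colimit F hF
  exact Module.Flat.of_linearEquiv e.symm.toLinearEquiv

theorem main {R : Type u} [CommRing R] (M : Type u) [AddCommGroup M] [Module R M] :
    Module.Flat R M ↔
      ∃ (J : Type u) (_ : Preorder J) (_ : IsDirected J (fun a b => a ≤ b)) (_ : Nonempty J)
        (F : J ⥤ ModuleCat.{u} R), (∀ j, Module.Finite R (F.obj j) ∧ Module.Free R (F.obj j)) ∧
        Nonempty (Limits.colimit F ≅ ModuleCat.of R M) :=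
  ⟨fun _ => forward R M, backward R M⟩

end helpers

/-- An `R`-module `M` is flat if and only if it is isomorphic to the colimit of a diagram of finite free
`R`-modules indexed by a nonempty directed preorder (in the same universe). -/
theorem result {R : Type u} [CommRing R] (M : Type u) [AddCommGroup M] [Module R M] :
    Module.Flat R M ↔
      ∃ (J : Type u) (_ : Preorder J) (_ : IsDirected J (fun a b => a ≤ b)) (_ : Nonempty J)
        (F : J ⥤ ModuleCat.{u} R), (∀ j, Module.Finite R (F.obj j) ∧ Module.Free R (F.obj j)) ∧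
        Nonempty (Limits.colimit F ≅ ModuleCat.of R M) := by
  exact main M

end Groth.Agent.S2118
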