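import Groth.Statements.S2120
import Mathlib.AlgebraicGeometry.Morphisms.Immersion
set_option autoImplicit false
universe u
open CategoryTheory AlgebraicGeometry
open Mor
namespace Groth.Agent.S2120
open CategoryTheory.Limits

/-- Let `f : X → Y` be surjective and universally closed. If `X` is quasi-separated then so is `Y`; if
`X` is separated then so is `Y`. -/
theorem result {X Y : Scheme.{u}} (f : X ⟶ Y) [Surjective f] [UniversallyClosed f] :
    (QuasiSeparatedSpace X → QuasiSeparatedSpace Y) ∧ (X.IsSeparated → Y.IsSeparated) := by
  constructor
  · intro hX
    refine ⟨fun U V hUo hUc hVo hVc => ?_⟩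
    have h1 : IsCompact (f ⁻¹' U) := QuasiCompact.isCompact_preimage (f := f) _ hUo hUc
    have h2 : IsCompact (f ⁻¹' V) := QuasiCompact.isCompact_preimage (f := f) _ hVo hVc
    have h3 : IsCompact (f ⁻¹' U ∩ f ⁻¹' V) :=
      hX.inter_isCompact _ _ (hUo.preimage f.continuous) h1 (hVo.preimage f.continuous) h2
    have : U ∩ V = f '' (f ⁻¹' U ∩ f ⁻¹' V) := by
      rw [← Set.preimage_inter, Set.image_preimage_eq _ f.surjective]
    rw [this]
    exact h3.image f.continuous
  · intro hX
    rw [Scheme.isSeparated_iff, AlgebraicGeometry.isSeparated_iff] at hX ⊢
    apply IsClosedImmersion.of_isPreimmersion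
    let F : pullback (terminal.from X) (terminal.from X) ⟶
        pullback (terminal.from Y) (terminal.from Y) :=
      pullback.map _ _ _ _ f f (𝟙 _) ((Category.comp_id _).trans (terminal.comp_from f).symm)
        ((Category.comp_id _).trans (terminal.comp_from f).symm)
    have hF : UniversallyClosed F :=
      MorphismProperty.pullbackMap (P := @UniversallyClosed) inferInstance inferInstance
        (terminal.comp_from f).symm (terminal.comp_from f).symm
    have hcomm : pullback.diagonal (terminal.from X) ≫ F = f ≫ pullback.diagonal (terminal.from Y) := by
      apply pullback.hom_ext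
      · rw [Category.assoc, Category.assoc, pullback.diagonal_fst, Category.comp_id]
        have : F ≫ pullback.fst _ _ = pullback.fst _ _ ≫ f := pullback.lift_fst _ _ _
        rw [this, ← Category.assoc, pullback.diagonal_fst, Category.id_comp]
      · rw [Category.assoc, Category.assoc, pullback.diagonal_snd, Category.comp_id]
        have : F ≫ pullback.snd _ _ = pullback.snd _ _ ≫ f := pullback.lift_snd _ _ _
        rw [this, ← Category.assoc, pullback.diagonal_snd, Category.id_comp]
    have hrange : Set.range (pullback.diagonal (terminal.from Y)) =
        F '' Set.range (pullback.diagonal (terminal.from X)) := by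
      rw [← Set.range_comp]
      have : (F : _ → _) ∘ (pullback.diagonal (terminal.from X) : _ → _) =
          (pullback.diagonal (terminal.from Y) : _ → _) ∘ (f : _ → _) := by
        funext x
        simp only [Function.comp_apply, ← Scheme.Hom.comp_apply, hcomm]
      rw [this, Set.range_comp, Set.range_eq_univ.mpr f.surjective, Set.image_univ]
    rw [hrange]
    exact F.isClosedMap _ (pullback.diagonal (terminal.from X)).isClosedEmbedding.isClosed_range
end Groth.Agent.S2120
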