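import Groth.Statements.S2123
import Mathlib


set_option autoImplicit false
universe u
open CategoryTheory AlgebraicGeometry
open Mor

namespace Groth.Agent.S2123

/-- Let `X` be an integral separated scheme and `x, y` points such that the closure of `x` is not
contained in the closure of `y`. Then, inside the function field of `X`, the local ring at `x` is
not contained in the local ring at `y`. -/
theorem result (X : Scheme.{u}) [IsIntegral X] [X.IsSeparated] (x y : X)
    (h : ¬ closure ({x} : Set X) ⊆ closure {y}) :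
    ¬ Set.range (X.presheaf.stalkSpecializes (genericPoint_specializes x)) ⊆
        Set.range (X.presheaf.stalkSpecializes (genericPoint_specializes y)) := by
  intro hsub
  apply h
  obtain ⟨ιx, hιx⟩ : ∃ ιx, ιx = X.presheaf.stalkSpecializes (genericPoint_specializes x) :=
    ⟨_, rfl⟩
  obtain ⟨ιy, hιy⟩ : ∃ ιy, ιy = X.presheaf.stalkSpecializes (genericPoint_specializes y) :=
    ⟨_, rfl⟩
  rw [← hιx, ← hιy] at hsub
  have hinj : Function.Injective ιy.hom := by
    rw [hιy]
    exact IsFractionRing.injective (X.presheaf.stalk y) X.functionField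
  have hφ : ∀ a : X.presheaf.stalk x, ∃ b : X.presheaf.stalk y, ιy.hom b = ιx.hom a :=
    fun a => hsub ⟨a, rfl⟩
  choose φ0 hφ0 using hφ
  let φ : X.presheaf.stalk x →+* X.presheaf.stalk y :=
    { toFun := φ0
      map_one' := hinj (by rw [hφ0, map_one, map_one])
      map_mul' := fun a b => hinj (by rw [hφ0, map_mul, map_mul, hφ0, hφ0])
      map_zero' := hinj (by rw [hφ0, map_zero, map_zero])
      map_add' := fun a b => hinj (by rw [hφ0, map_add, map_add, hφ0, hφ0]) }
  obtain ⟨φc, hφc⟩ : ∃ φc : X.presheaf.stalk x ⟶ X.presheaf.stalk y, φc.hom = φ :=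
    ⟨CommRingCat.ofHom φ, rfl⟩
  have hcomp : φc ≫ ιy = ιx := by
    ext a
    show ιy.hom (φc.hom a) = ιx.hom a
    rw [hφc]; exact hφ0 a
  haveI hdom : IsDominant (Spec.map ιy) := by
    constructor
    have := (PrimeSpectrum.denseRange_comap_iff_ker_le_nilRadical (f := ιy.hom)).mpr
      (by rw [(RingHom.injective_iff_ker_eq_bot _).mp hinj]; exact bot_le)
    exact this
  have e1 : Spec.map ιy ≫ (Spec.map φc ≫ X.fromSpecStalk x) =
      Spec.map ιy ≫ X.fromSpecStalk y := by
    rw [← Category.assoc, ← Spec.map_comp, hcomp, hιx, hιy,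
      Scheme.SpecMap_stalkSpecializes_fromSpecStalk,
      Scheme.SpecMap_stalkSpecializes_fromSpecStalk]
  have e2 := ext_of_isDominant (Spec.map ιy) e1
  have e3 : y ∈ Set.range (X.fromSpecStalk x) := by
    refine ⟨(Spec.map φc) (IsLocalRing.closedPoint _), ?_⟩
    rw [← Scheme.Hom.comp_apply, e2, Scheme.fromSpecStalk_closedPoint]
  rw [Scheme.range_fromSpecStalk] at e3
  exact specializes_iff_closure_subset.mp e3

end Groth.Agent.S2123
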