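import Groth.Statements.S2131

set_option autoImplicit false
universe u
open CAlg

namespace Groth.Agent.S2131
theorem mk_eq_zero_iff' {R M : Type u} [CommRing R] [AddCommGroup M] [Module R M]
    (S : Submonoid R) (m : M) (s : S) :
    (LocalizedModule.mk m s : LocalizedModule S M) = 0 ↔ ∃ u : S, u • m = 0 := by
  rw [← LocalizedModule.zero_mk (1 : S), LocalizedModule.mk_eq]
  simp only [one_smul, smul_zero]

theorem bijective_of_powers {R M N : Type u} [CommRing R] [AddCommGroup M] [Module R M]
    [AddCommGroup N] [Module R N] (φ : M →ₗ[R] N) (r : R)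
    (hr : Function.Bijective (LocalizedModule.map (Submonoid.powers r) φ))
    (q : Ideal R) [q.IsPrime] (hrq : r ∉ q) :
    Function.Bijective (LocalizedModule.map q.primeCompl φ) := by
  have hpow : ∀ k : ℕ, r ^ k ∈ q.primeCompl := fun k hk => hrq (Ideal.IsPrime.mem_of_pow_mem ‹_› k hk)
  constructor
  · rw [injective_iff_map_eq_zero]
    intro x hx
    induction x using LocalizedModule.induction_on with
    | h m s =>
      rw [LocalizedModule.map_mk, mk_eq_zero_iff'] at hx
      obtain ⟨u, hu⟩ := hx
      rw [Submonoid.smul_def] at hu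
      have h1 : LocalizedModule.map (Submonoid.powers r) φ
          (LocalizedModule.mk ((u : R) • m) (1 : Submonoid.powers r)) = 0 := by
        rw [LocalizedModule.map_mk, mk_eq_zero_iff']
        refine ⟨1, ?_⟩
        rw [one_smul, map_smul]
        exact hu
      have h2 := (injective_iff_map_eq_zero _).mp hr.1 _ h1
      rw [mk_eq_zero_iff'] at h2
      obtain ⟨⟨_, k, rfl⟩, hk⟩ := h2
      rw [Submonoid.smul_def] at hk
      rw [mk_eq_zero_iff']
      refine ⟨⟨r ^ k, hpow k⟩ * u, ?_⟩
      rw [Submonoid.smul_def, Submonoid.coe_mul, mul_smul]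
      exact hk
  · intro y
    induction y using LocalizedModule.induction_on with
    | h n s =>
      obtain ⟨x, hx⟩ := hr.2 (LocalizedModule.mk n (1 : Submonoid.powers r))
      induction x using LocalizedModule.induction_on with
      | h m t =>
        rw [LocalizedModule.map_mk, LocalizedModule.mk_eq] at hx
        obtain ⟨⟨_, j, rfl⟩, hj⟩ := hx
        obtain ⟨_, k, rfl⟩ := t
        simp only [one_smul, Submonoid.smul_def] at hj
        -- hj : r^j • φ m = r^j • r^k • n
        refine ⟨LocalizedModule.mk (r ^ j • m) (⟨r ^ j, hpow j⟩ * ⟨r ^ k, hpow k⟩ * s), ?_⟩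
        rw [LocalizedModule.map_mk, LocalizedModule.mk_eq]
        refine ⟨1, ?_⟩
        simp only [one_smul, Submonoid.smul_def, Submonoid.coe_mul, map_smul, mul_smul]
        rw [hj]
        rw [smul_comm (s : R) (r ^ j) (r ^ k • n), smul_comm (s : R) (r ^ k) n]

/-- For an `R`-linear map from a finite module to a finitely presented module, the primes at which its
localization is bijective form an open subset of `Spec R`. -/
theorem result {R M N : Type u} [CommRing R] [AddCommGroup M] [Module R M] [Module.Finite R M]
    [AddCommGroup N] [Module R N] [Module.FinitePresentation R N] (φ : M →ₗ[R] N) :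
    IsOpen {p : PrimeSpectrum R | Function.Bijective (LocalizedModule.map p.asIdeal.primeCompl φ)} := by
  rw [isOpen_iff_forall_mem_open]
  intro p hp
  have hp' : Function.Bijective (LocalizedModule.map p.asIdeal.primeCompl φ) := hp
  have hb : Function.Bijective (IsLocalizedModule.map p.asIdeal.primeCompl
      (LocalizedModule.mkLinearMap p.asIdeal.primeCompl M)
      (LocalizedModule.mkLinearMap p.asIdeal.primeCompl N) φ) := hp'
  obtain ⟨g, hg, hbij⟩ := Module.FinitePresentation.exists_notMem_bijective φ p.asIdeal
    (LocalizedModule.mkLinearMap p.asIdeal.primeCompl M)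
    (LocalizedModule.mkLinearMap p.asIdeal.primeCompl N) hb
  refine ⟨PrimeSpectrum.basicOpen g, ?_, (PrimeSpectrum.basicOpen g).isOpen, hg⟩
  intro q hq
  exact bijective_of_powers φ g hbij q.asIdeal hq

end Groth.Agent.S2131
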