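import Groth.Statements.S2132
import Groth.Agent.Lib.Helper5.SysHens

set_option autoImplicit false
set_option linter.style.haveILetI false
universe u
open CategoryTheory
open CAlg

namespace Groth.Agent.S2132

/-- Let `F : J ⥤ CommRingCat` be a filtered diagram of henselian local rings with local transition maps
and `c` a colimit cocone. Then the colimit is a henselian local ring. -/
theorem result {J : Type u} [SmallCategory J] [IsFiltered J] (F : J ⥤ CommRingCat.{u})
    (hF : ∀ j, HenselianLocalRing (F.obj j)) (hloc : ∀ (i j : J) (a : i ⟶ j), IsLocalHom (F.map a).hom)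
    (c : Limits.Cocone F) (hc : Limits.IsColimit c) : HenselianLocalRing c.pt := by
  classical
  haveI : Nonempty J := IsFiltered.nonempty
  haveI := hF
  have hw : ∀ {i j : J} (a : i ⟶ j) (x : F.obj i),
      ((c.ι.app j).hom ((F.map a).hom x) : c.pt) = (c.ι.app i).hom x := by
    intro i j a x
    have := c.w a
    rw [← this]
    rfl
  have hsys : Groth.Agent.Helper5.SysHens.IsSys (L := c.pt) (fun j => (F.obj j : Type u))
      (fun j => (c.ι.app j).hom) := by
    refine ⟨?_, ?_, ?_⟩
    · intro a
      obtain ⟨j, y, hy⟩ := Limits.Concrete.isColimit_exists_rep F hc a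
      exact ⟨j, y, hy⟩
    · intro i j
      refine ⟨IsFiltered.max i j, (F.map (IsFiltered.leftToMax i j)).hom,
        (F.map (IsFiltered.rightToMax i j)).hom, hloc _ _ _, hloc _ _ _, ?_, ?_⟩
      · intro x; exact hw _ x
      · intro x; exact hw _ x
    · intro i x hx
      have hx' : (ConcreteCategory.hom (c.ι.app i)) x = (ConcreteCategory.hom (c.ι.app i)) 0 := by
        rw [map_zero]
        exact hx
      obtain ⟨k, a, b, hab⟩ := Limits.Concrete.isColimit_exists_of_rep_eq F hc x 0 hx'
      refine ⟨k, (F.map a).hom, hloc _ _ _, fun y => hw a y, ?_⟩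
      have h0 : (ConcreteCategory.hom (F.map b)) (0 : F.obj i) = 0 := map_zero _
      rw [h0] at hab
      exact hab
  exact Groth.Agent.Helper5.SysHens.henselianLocalRing hsys

end Groth.Agent.S2132
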