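import Groth.Statements.S2133
import Mathlib
-- import your own Groth.Agent.* helpers here

set_option autoImplicit false
universe u
open CAlg

namespace Groth.Agent.S2133

section
open TrivSqZeroExt

variable {R : Type u} [CommRing R]

/-- the ring hom `R → B[ε]` attached to a derivation composed with `R → B` -/
noncomputable def toTSZ (B : Type u) [CommRing B] [Algebra R B] (D : Derivation ℤ R R) :
    R →+* TrivSqZeroExt B B where
  toFun r := inl (algebraMap R B r) + inr (algebraMap R B (D r))
  map_one' := by
    ext
    · simp only [fst_add, fst_inl, fst_inr, add_zero, map_one, fst_one]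
    · simp only [snd_add, snd_inl, snd_inr, zero_add, Derivation.map_one_eq_zero, map_zero,
        snd_one]
  map_mul' a b := by
    ext
    · simp only [fst_add, fst_inl, fst_inr, add_zero, map_mul, fst_mul]
    · simp only [snd_add, snd_inl, snd_inr, zero_add, fst_add, fst_inl, fst_inr, add_zero,
        snd_mul, Derivation.leibniz, smul_eq_mul, map_add, map_mul, MulOpposite.smul_eq_mul_unop,
        MulOpposite.unop_op]
      ring
  map_zero' := by
    ext
    · simp only [fst_add, fst_inl, fst_inr, add_zero, map_zero, fst_zero]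
    · simp only [snd_add, snd_inl, snd_inr, zero_add, map_zero, snd_zero]
  map_add' a b := by
    ext
    · simp only [fst_add, fst_inl, fst_inr, add_zero, map_add]
    · simp only [snd_add, snd_inl, snd_inr, zero_add, map_add]

theorem toTSZ_fst (B : Type u) [CommRing B] [Algebra R B] (D : Derivation ℤ R R) (r : R) :
    (toTSZ B D r).fst = algebraMap R B r := by
  simp only [toTSZ, RingHom.coe_mk, MonoidHom.coe_mk, OneHom.coe_mk, fst_add, fst_inl, fst_inr,
    add_zero]

theorem toTSZ_snd (B : Type u) [CommRing B] [Algebra R B] (D : Derivation ℤ R R) (r : R) :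
    (toTSZ B D r).snd = algebraMap R B (D r) := by
  simp only [toTSZ, RingHom.coe_mk, MonoidHom.coe_mk, OneHom.coe_mk, snd_add, snd_inl, snd_inr,
    zero_add]

/-- derivation-like map on a localization `B` of `R` away from `g` -/
theorem exists_delta (B : Type u) [CommRing B] [Algebra R B] (g : R) [IsLocalization.Away g B]
    (D : Derivation ℤ R R) :
    ∃ δ : B →+ B, (∀ a b, δ (a * b) = a * δ b + b * δ a) ∧
      ∀ r, δ (algebraMap R B r) = algebraMap R B (D r) := by
  have hu : IsUnit (toTSZ B D g) := by
    rw [isUnit_iff_isUnit_fst, toTSZ_fst]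
    exact IsLocalization.Away.algebraMap_isUnit g
  let F : B →+* TrivSqZeroExt B B := IsLocalization.Away.lift g hu
  have hF : ∀ r, F (algebraMap R B r) = toTSZ B D r := fun r => IsLocalization.Away.lift_eq g hu r
  have hfst : ∀ b, (F b).fst = b := by
    intro b
    have : (TrivSqZeroExt.fstHom B B B).toRingHom.comp F = RingHom.id B := by
      apply IsLocalization.ringHom_ext (Submonoid.powers g)
      ext r
      simp [hF, toTSZ_fst]
    exact congrArg (fun f => f b) this
  refine ⟨(TrivSqZeroExt.sndHom B B).toAddMonoidHom.comp F.toAddMonoidHom, ?_, ?_⟩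
  · intro a b
    simp only [AddMonoidHom.coe_comp, Function.comp_apply]
    change (F (a * b)).snd = a * (F b).snd + b * (F a).snd
    rw [map_mul, snd_mul, hfst, hfst]
    simp only [smul_eq_mul, MulOpposite.smul_eq_mul_unop, MulOpposite.unop_op]
    ring
  · intro r
    change (F (algebraMap R B r)).snd = _
    rw [hF, toTSZ_snd]

theorem isLocalization_away {R' : Type u} [CommRing R'] [Algebra R R']
    (hinj : Function.Injective (algebraMap R R')) (g : R)
    (hloc : ∀ x : R', ∃ n : ℕ, (algebraMap R R' g) ^ n * x ∈ Set.range (algebraMap R R')) :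
    IsLocalization.Away g (Localization.Away (algebraMap R R' g)) := by
  set g' := algebraMap R R' g with hg'
  rw [IsLocalization.Away, isLocalization_iff]
  have hmap : ∀ r : R, algebraMap R (Localization.Away g') r =
      algebraMap R' (Localization.Away g') (algebraMap R R' r) :=
    fun r => IsScalarTower.algebraMap_apply R R' _ r
  refine ⟨?_, ?_, ?_⟩
  · rintro ⟨_, n, rfl⟩
    rw [hmap, map_pow, map_pow]
    exact (IsLocalization.Away.algebraMap_isUnit g').pow n
  · intro z
    obtain ⟨⟨x, ⟨_, n, rfl⟩⟩, hx⟩ := IsLocalization.surj (Submonoid.powers g') z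
    obtain ⟨m, r, hr⟩ := hloc x
    refine ⟨⟨r, ⟨g ^ (n + m), n + m, rfl⟩⟩, ?_⟩
    simp only at hx ⊢
    rw [hmap, hmap, hr, map_pow (algebraMap R R'), ← hg', pow_add, map_mul, map_mul, ← hx]
    ring
  · intro x y hxy
    rw [hmap, hmap] at hxy
    obtain ⟨⟨_, n, rfl⟩, hc⟩ := (IsLocalization.eq_iff_exists (Submonoid.powers g') _).mp hxy
    refine ⟨⟨g ^ n, n, rfl⟩, hinj ?_⟩
    simp only at hc ⊢
    rw [map_mul, map_mul, map_pow]
    exact hc

theorem main {R' : Type u} [CommRing R'] [Algebra R R'] [Algebra.FiniteType R R']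
    (hinj : Function.Injective (algebraMap R R')) (g : R)
    (hg : IsSMulRegular R' (algebraMap R R' g))
    (hloc : ∀ x : R', ∃ n : ℕ, (algebraMap R R' g) ^ n * x ∈ Set.range (algebraMap R R'))
    (D : Derivation ℤ R R) :
    ∃ (N : ℕ) (D' : Derivation ℤ R' R'),
      ∀ r : R, D' (algebraMap R R' r) = algebraMap R R' (g ^ N * D r) := by
  classical
  set g' := algebraMap R R' g with hg'
  haveI := isLocalization_away hinj g hloc
  obtain ⟨δ, hδmul, hδR⟩ := exists_delta (Localization.Away g') g D
  have hnzd : g' ∈ nonZeroDivisors R' := by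
    rw [mem_nonZeroDivisors_iff_right]
    intro y hy
    apply hg
    simp only [smul_eq_mul, mul_zero]
    rw [mul_comm]; exact hy
  have hjinj : Function.Injective (algebraMap R' (Localization.Away g')) :=
    IsLocalization.injective _ (Submonoid.powers_le.mpr hnzd)
  set j := algebraMap R' (Localization.Away g') with hj
  have hmap : ∀ r : R, algebraMap R (Localization.Away g') r = j (algebraMap R R' r) :=
    fun r => IsScalarTower.algebraMap_apply R R' _ r
  obtain ⟨s, hs⟩ := (Algebra.FiniteType.out : (⊤ : Subalgebra R R').FG)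
  -- exponents for generators
  have hex : ∀ b : Localization.Away g', ∃ n : ℕ, j g' ^ n * b ∈ Set.range j := by
    intro b
    obtain ⟨⟨x, ⟨_, n, rfl⟩⟩, hx⟩ := IsLocalization.surj (Submonoid.powers g') b
    exact ⟨n, x, by simp only at hx; rw [← hx, map_pow, mul_comm]⟩
  choose nn hnn using hex
  set N := s.sup (fun x => nn (δ (j x))) with hN
  have hup : ∀ (b : Localization.Away g') (n m : ℕ), n ≤ m → j g' ^ n * b ∈ Set.range j →
      j g' ^ m * b ∈ Set.range j := by
    rintro b n m hnm ⟨y, hy⟩
    refine ⟨g' ^ (m - n) * y, ?_⟩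
    rw [map_mul, hy, map_pow, ← mul_assoc, ← pow_add, Nat.sub_add_cancel hnm]
  have good : ∀ y : R', j g' ^ N * δ (j y) ∈ Set.range j := by
    intro y
    have hy : y ∈ Algebra.adjoin R (s : Set R') := hs ▸ Algebra.mem_top
    induction hy using Algebra.adjoin_induction with
    | mem x hx =>
      exact hup _ _ _ (Finset.le_sup (f := fun x => nn (δ (j x))) hx) (hnn (δ (j x)))
    | algebraMap r =>
      have e1 : δ (j (algebraMap R R' r)) = j (algebraMap R R' (D r)) := by
        rw [← hmap, hδR, hmap]
      rw [e1]
      exact ⟨g' ^ N * algebraMap R R' (D r), by rw [map_mul, map_pow]⟩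
    | add x y _ _ hx hy =>
      obtain ⟨x', hx'⟩ := hx
      obtain ⟨y', hy'⟩ := hy
      exact ⟨x' + y', by rw [map_add, map_add, map_add, mul_add, hx', hy']⟩
    | mul x y _ _ hx hy =>
      obtain ⟨x', hx'⟩ := hx
      obtain ⟨y', hy'⟩ := hy
      refine ⟨x * y' + y * x', ?_⟩
      rw [map_add, map_mul, map_mul, hx', hy', map_mul, hδmul]
      ring
  choose D'fun hD' using good
  have hadd : ∀ x y, D'fun (x + y) = D'fun x + D'fun y := by
    intro x y
    apply hjinj
    rw [map_add, hD', hD', hD', map_add, map_add, mul_add]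
  have hmul : ∀ x y, D'fun (x * y) = x * D'fun y + y * D'fun x := by
    intro x y
    apply hjinj
    rw [map_add, map_mul, map_mul, hD', hD', hD', map_mul, hδmul]
    ring
  have hzero : D'fun 0 = 0 := by
    have := hadd 0 0
    rw [add_zero] at this
    exact left_eq_add.mp this |>.symm ▸ rfl
  let D'add : R' →+ R' := ⟨⟨D'fun, hzero⟩, hadd⟩
  let D' : Derivation ℤ R' R' := Derivation.mk' D'add.toIntLinearMap (by
    intro a b
    change D'fun (a * b) = a • D'fun b + b • D'fun a
    rw [hmul]; rfl)
  refine ⟨N, D', fun r => ?_⟩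
  change D'fun (algebraMap R R' r) = _
  apply hjinj
  have e1 : δ (j (algebraMap R R' r)) = j (algebraMap R R' (D r)) := by
    rw [← hmap, hδR, hmap]
  rw [hD', e1, map_mul (algebraMap R R'), map_mul, map_pow (algebraMap R R'), map_pow]

end

/-- Let `R → R'` be an injective ring map of finite type and `g ∈ R` a nonzerodivisor on `R'` such that
every element of `R'` lands in `R` after multiplication by a power of `g` (so `R_g = R'_g`). Then
for every derivation `D` of `R` there is `N` such that `g^N D` extends to a derivation of `R'`. -/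
theorem result {R R' : Type u} [CommRing R] [CommRing R'] [Algebra R R'] [Algebra.FiniteType R R']
    (hinj : Function.Injective (algebraMap R R')) (g : R) (hg : IsSMulRegular R' (algebraMap R R' g))
    (hloc : ∀ x : R', ∃ n : ℕ, (algebraMap R R' g) ^ n * x ∈ Set.range (algebraMap R R')) (D : Derivation ℤ R R) :
    ∃ (N : ℕ) (D' : Derivation ℤ R' R'), ∀ r : R, D' (algebraMap R R' r) = algebraMap R R' (g ^ N * D r) := by
  exact Groth.Agent.S2133.main hinj g hg hloc D

end Groth.Agent.S2133
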