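import Groth.Statements.S2134
-- import your own Groth.Agent.* helpers here
import Groth.Agent.Lib.Helper25.Misc1

set_option autoImplicit false
universe u
open CAlg

namespace Groth.Agent.S2134

/-- Let `K/k` be a field extension and `(K_α)` a nonempty family of intermediate fields, directed
downwards, with intersection `k`. For a `K`-subspace `V` of `K^n` (`n ≥ 1`), `V` contains a nonzero
vector with all coordinates in `k` if and only if for every `α` it contains a nonzero vector with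
all coordinates in `K_α`. -/
theorem result {k K : Type u} [Field k] [Field K] [Algebra k K] {ι : Type u} [Nonempty ι]
    (F : ι → IntermediateField k K) (hdir : ∀ a b : ι, ∃ c, F c ≤ F a ⊓ F b) (hinf : ⨅ a, F a = ⊥) (n : ℕ) (hn : 1 ≤ n)
    (V : Submodule K (Fin n → K)) :
    (∃ v ∈ V, v ≠ 0 ∧ ∀ i, v i ∈ Set.range (algebraMap k K)) ↔
      ∀ a, ∃ v ∈ V, v ≠ 0 ∧ ∀ i, v i ∈ F a := by
  classical
  constructor
  · rintro ⟨v, hvV, hv0, hv⟩ a
    refine ⟨v, hvV, hv0, fun i => ?_⟩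
    obtain ⟨x, hx⟩ := hv i
    rw [← hx]
    exact (F a).algebraMap_mem x
  · intro h
    have hmem : ∀ x : K, (∀ a, x ∈ F a) → x ∈ (⨅ a, F a) := by
      intro x hx
      have h1 : x ∈ ((⨅ a, F a : IntermediateField k K) : Set K) := by
        rw [IntermediateField.coe_iInf]
        exact Set.mem_iInter.mpr hx
      exact h1
    obtain ⟨P, hP⟩ : ∃ P : ι → Finset (Fin n) → Prop, ∀ α S, P α S ↔
        ∃ v ∈ V, v ≠ 0 ∧ (∀ i, v i ∈ F α) ∧ (∀ i, v i ≠ 0 → i ∈ S) := ⟨_, fun _ _ => Iff.rfl⟩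
    have hPmono : ∀ α β S, F α ≤ F β → P α S → P β S := by
      intro α β S hαβ hPα
      rw [hP] at hPα ⊢
      obtain ⟨v, hvV, hv0, hv, hvS⟩ := hPα
      exact ⟨v, hvV, hv0, fun i => hαβ (hv i), hvS⟩
    have hPuniv : ∀ α, P α Finset.univ := by
      intro α
      rw [hP]
      obtain ⟨v, hvV, hv0, hv⟩ := h α
      exact ⟨v, hvV, hv0, hv, fun i _ => Finset.mem_univ i⟩
    obtain ⟨𝒮, h𝒮⟩ : ∃ 𝒮 : ι → Finset (Finset (Fin n)), ∀ α S, S ∈ 𝒮 α ↔ P α S :=
      ⟨fun α => Finset.univ.filter (fun S => P α S), fun α S => by simp⟩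
    obtain ⟨α₀, hα₀⟩ : ∃ α₀, ∀ α, (𝒮 α₀).card ≤ (𝒮 α).card :=
      ⟨Function.argmin (fun α => (𝒮 α).card),
        fun α => Function.argmin_le (fun α => (𝒮 α).card) α⟩
    have heq : ∀ γ, F γ ≤ F α₀ → ∀ S, P α₀ S → P γ S := by
      intro γ hγ S hS
      have hsub : 𝒮 γ ⊆ 𝒮 α₀ := fun T hT =>
        (h𝒮 α₀ T).mpr (hPmono γ α₀ T hγ ((h𝒮 γ T).mp hT))
      have h2 := Finset.eq_of_subset_of_card_le hsub (hα₀ γ)
      rw [← h𝒮, h2, h𝒮]
      exact hS
    obtain ⟨S₀, hS₀mem, hS₀min⟩ := Finset.exists_min_image (𝒮 α₀) Finset.card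
      ⟨Finset.univ, (h𝒮 _ _).mpr (hPuniv α₀)⟩
    have hS₀ : P α₀ S₀ := (h𝒮 _ _).mp hS₀mem
    have hmin : ∀ T, P α₀ T → S₀.card ≤ T.card := fun T hT => hS₀min T ((h𝒮 _ _).mpr hT)
    have hfull : ∀ γ, F γ ≤ F α₀ → ∀ v ∈ V, v ≠ 0 → (∀ i, v i ∈ F γ) →
        (∀ i, v i ≠ 0 → i ∈ S₀) → ∀ i ∈ S₀, v i ≠ 0 := by
      intro γ hγ v hvV hv0 hv hvS i hi hvi
      have hP' : P α₀ (S₀.erase i) := by
        apply hPmono γ α₀ _ hγ
        rw [hP]
        refine ⟨v, hvV, hv0, hv, fun j hj => ?_⟩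
        rw [Finset.mem_erase]
        exact ⟨fun hji => hj (hji ▸ hvi), hvS j hj⟩
      have h3 := hmin _ hP'
      rw [Finset.card_erase_of_mem hi] at h3
      have h4 := Finset.card_pos.mpr ⟨i, hi⟩
      omega
    obtain ⟨v₀, hv₀V, hv₀0, hv₀, hv₀S⟩ := (hP _ _).mp hS₀
    obtain ⟨i₀, hi₀⟩ : ∃ i₀, v₀ i₀ ≠ 0 := by
      by_contra hcon
      push Not at hcon
      exact hv₀0 (funext hcon)
    have hi₀S : i₀ ∈ S₀ := hv₀S i₀ hi₀
    obtain ⟨u₀, hu₀⟩ : ∃ u₀ : Fin n → K, u₀ = (v₀ i₀)⁻¹ • v₀ := ⟨_, rfl⟩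
    have hu₀V : u₀ ∈ V := by rw [hu₀]; exact V.smul_mem _ hv₀V
    have hu₀i : u₀ i₀ = 1 := by rw [hu₀, Pi.smul_apply, smul_eq_mul, inv_mul_cancel₀ hi₀]
    have hu₀0 : u₀ ≠ 0 := by
      intro h0
      rw [h0] at hu₀i
      simp at hu₀i
    have hu₀F : ∀ i, u₀ i ∈ F α₀ := by
      intro i
      rw [hu₀, Pi.smul_apply, smul_eq_mul]
      exact (F α₀).mul_mem ((F α₀).inv_mem (hv₀ i₀)) (hv₀ i)
    have hu₀S : ∀ i, u₀ i ≠ 0 → i ∈ S₀ := by
      intro i hi
      apply hv₀S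
      intro h0
      apply hi
      rw [hu₀, Pi.smul_apply, h0, smul_zero]
    have hclaim : ∀ γ, F γ ≤ F α₀ → ∀ i, u₀ i ∈ F γ := by
      intro γ hγ
      obtain ⟨v, hvV, hv0, hv, hvS⟩ := (hP _ _).mp (heq γ hγ S₀ hS₀)
      have hvi₀ : v i₀ ≠ 0 := hfull γ hγ v hvV hv0 hv hvS i₀ hi₀S
      obtain ⟨u, hu⟩ : ∃ u : Fin n → K, u = (v i₀)⁻¹ • v := ⟨_, rfl⟩
      have huV : u ∈ V := by rw [hu]; exact V.smul_mem _ hvV
      have hui : u i₀ = 1 := by rw [hu, Pi.smul_apply, smul_eq_mul, inv_mul_cancel₀ hvi₀]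
      have huF : ∀ i, u i ∈ F γ := by
        intro i
        rw [hu, Pi.smul_apply, smul_eq_mul]
        exact (F γ).mul_mem ((F γ).inv_mem (hv i₀)) (hv i)
      have huS : ∀ i, u i ≠ 0 → i ∈ S₀ := by
        intro i hi
        apply hvS
        intro h0
        apply hi
        rw [hu, Pi.smul_apply, h0, smul_zero]
      have hw : u₀ - u = 0 := by
        by_contra hw0
        have hP' : P α₀ (S₀.erase i₀) := by
          rw [hP]
          refine ⟨u₀ - u, V.sub_mem hu₀V huV, hw0,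
            fun i => (F α₀).sub_mem (hu₀F i) (hγ (huF i)), fun j hj => ?_⟩
          rw [Finset.mem_erase]
          refine ⟨?_, ?_⟩
          · intro hji
            apply hj
            rw [hji, Pi.sub_apply, hu₀i, hui, sub_self]
          · by_contra hjS
            apply hj
            have h1 : u₀ j = 0 := by
              by_contra h'
              exact hjS (hu₀S j h')
            have h2 : u j = 0 := by
              by_contra h'
              exact hjS (huS j h')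
            rw [Pi.sub_apply, h1, h2, sub_self]
        have h3 := hmin _ hP'
        rw [Finset.card_erase_of_mem hi₀S] at h3
        have h4 := Finset.card_pos.mpr ⟨i₀, hi₀S⟩
        omega
      intro i
      have h5 : u₀ = u := sub_eq_zero.mp hw
      rw [h5]
      exact huF i
    refine ⟨u₀, hu₀V, hu₀0, fun i => ?_⟩
    rw [← IntermediateField.mem_bot, ← hinf]
    apply hmem
    intro a
    obtain ⟨c, hc⟩ := hdir a α₀
    exact (le_trans hc inf_le_left) (hclaim c (le_trans hc inf_le_right) i)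

end Groth.Agent.S2134
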