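import Groth.Statements.S2139
import Mathlib
-- import your own Groth.Agent.* helpers here

set_option autoImplicit false
universe u
open CAlg

namespace Groth.Agent.S2139

section
open Polynomial

variable {R : Type u} [CommRing R]

/-- nonzerodivisors stay nonzero in the localization at a prime -/
theorem nzd_ne_zero (p : Ideal R) [p.IsPrime] (s : R) (hs : s ∈ nonZeroDivisors R) :
    algebraMap R (Localization.AtPrime p) s ≠ 0 := by
  intro h
  rw [IsLocalization.map_eq_zero_iff p.primeCompl] at h
  obtain ⟨u, hu⟩ := h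
  have : (u : R) = 0 := (mem_nonZeroDivisors_iff_right.mp hs) _ hu
  exact u.2 (this ▸ p.zero_mem)

/-- the canonical map from the total ring of fractions to the fraction field of `R_p` -/
noncomputable def phi (p : Ideal R) [p.IsPrime] [IsDomain (Localization.AtPrime p)] :
    FractionRing R →+* FractionRing (Localization.AtPrime p) :=
  IsLocalization.lift (M := nonZeroDivisors R)
    (g := (algebraMap (Localization.AtPrime p) (FractionRing (Localization.AtPrime p))).comp
      (algebraMap R (Localization.AtPrime p)))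
    (fun s => by
      rw [RingHom.comp_apply]
      apply IsUnit.mk0
      rw [Ne, map_eq_zero_iff _ (IsFractionRing.injective _ _)]
      exact nzd_ne_zero p s.1 s.2)

theorem phi_algebraMap (p : Ideal R) [p.IsPrime] [IsDomain (Localization.AtPrime p)] (r : R) :
    phi p (algebraMap R (FractionRing R) r) =
      algebraMap (Localization.AtPrime p) (FractionRing (Localization.AtPrime p))
        (algebraMap R (Localization.AtPrime p) r) := by
  rw [phi, IsLocalization.lift_eq]; rfl

/-- if `φ_p (a/s)` lies in `R_p`, then some `v ∉ p` multiplies `a/s` into `R` -/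
theorem exists_mul_mem (p : Ideal R) [p.IsPrime] [IsDomain (Localization.AtPrime p)]
    (x : FractionRing R)
    (hx : phi p x ∈ Set.range
      (algebraMap (Localization.AtPrime p) (FractionRing (Localization.AtPrime p)))) :
    ∃ v : R, v ∉ p ∧ ∃ r : R, algebraMap R (FractionRing R) v * x = algebraMap R _ r := by
  obtain ⟨y, hy⟩ := hx
  obtain ⟨⟨a, s⟩, rfl⟩ := IsLocalization.mk'_surjective (nonZeroDivisors R) x
  obtain ⟨⟨b, t⟩, rfl⟩ := IsLocalization.mk'_surjective p.primeCompl y
  -- φ(a/s) = (a/1)/(s/1)
  have h1 : phi p (IsLocalization.mk' (FractionRing R) a s) *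
      phi p (algebraMap R (FractionRing R) s) = phi p (algebraMap R (FractionRing R) a) := by
    rw [← map_mul, IsLocalization.mk'_spec]
  rw [← hy, phi_algebraMap, phi_algebraMap, ← map_mul] at h1
  have h2 := IsFractionRing.injective (Localization.AtPrime p)
    (FractionRing (Localization.AtPrime p)) h1
  -- (b/t)(s/1) = a/1, multiply by t
  have h3 : algebraMap R (Localization.AtPrime p) (b * s) =
      algebraMap R (Localization.AtPrime p) (t * a) := by
    rw [map_mul, map_mul, ← h2, ← mul_assoc, mul_comm (algebraMap R _ (t : R)),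
      IsLocalization.mk'_spec]
  obtain ⟨u, hu⟩ := (IsLocalization.eq_iff_exists p.primeCompl _).mp h3
  refine ⟨u * t, fun h => (p.primeCompl.mul_mem u.2 t.2) h, u * b, ?_⟩
  have hs : algebraMap R (FractionRing R) s * IsLocalization.mk' (FractionRing R) a s =
      algebraMap R (FractionRing R) a := by
    rw [mul_comm, IsLocalization.mk'_spec]
  have hsu : IsUnit (algebraMap R (FractionRing R) s) := IsLocalization.map_units _ s
  apply hsu.mul_left_cancel
  rw [← mul_assoc, mul_comm (algebraMap R (FractionRing R) s), mul_assoc, hs, ← map_mul,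
    ← map_mul]
  congr 1
  linear_combination (-1 : R) * hu

theorem forward (h : ∀ (p : Ideal R) [p.IsPrime],
    IsDomain (Localization.AtPrime p) ∧ IsIntegrallyClosed (Localization.AtPrime p)) :
    IsIntegrallyClosedIn R (FractionRing R) := by
  rw [isIntegrallyClosedIn_iff]
  refine ⟨IsLocalization.injective _ le_rfl, ?_⟩
  intro x hx
  let I : Ideal R :=
    { carrier := {r | ∃ y, algebraMap R (FractionRing R) r * x = algebraMap R _ y}
      add_mem' := by
        rintro a b ⟨y, hy⟩ ⟨z, hz⟩
        exact ⟨y + z, by rw [map_add, add_mul, hy, hz, map_add]⟩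
      zero_mem' := ⟨0, by simp⟩
      smul_mem' := by
        rintro c a ⟨y, hy⟩
        exact ⟨c * y, by rw [smul_eq_mul, map_mul, mul_assoc, hy, map_mul]⟩ }
  have hI : I = ⊤ := by
    by_contra hne
    obtain ⟨m, hm, hIm⟩ := Ideal.exists_le_maximal I hne
    haveI := hm.isPrime
    obtain ⟨hdom, hic⟩ := h m
    have hint : IsIntegral (Localization.AtPrime m) (phi m x) :=
      IsIntegral.map_of_comp_eq (algebraMap R (Localization.AtPrime m)) (phi m)
        (by ext r; simp [phi_algebraMap]) hx
    have hmem := (IsIntegrallyClosed.isIntegral_iff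
      (K := FractionRing (Localization.AtPrime m))).mp hint
    obtain ⟨v, hv, r, hr⟩ := exists_mul_mem m x hmem
    exact hv (hIm ⟨r, hr⟩)
  have h1 : (1 : R) ∈ I := hI ▸ Submodule.mem_top
  obtain ⟨y, hy⟩ := h1
  exact ⟨y, by rw [← hy, map_one, one_mul]⟩

theorem eq_zero_of_mem_minimalPrimes [IsReduced R] (y : R)
    (hy : ∀ q ∈ minimalPrimes R, y ∈ q) : y = 0 := by
  have : y ∈ nilradical R := by
    rw [nilradical, ← Ideal.sInf_minimalPrimes, Ideal.mem_sInf]
    intro q hq
    exact hy q hq
  simpa [nilradical_eq_zero] using this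

theorem nzd_of_notMem_minimalPrimes [IsReduced R] (x : R)
    (hx : ∀ q ∈ minimalPrimes R, x ∉ q) : x ∈ nonZeroDivisors R := by
  rw [mem_nonZeroDivisors_iff_right]
  intro y hy
  apply eq_zero_of_mem_minimalPrimes
  intro q hq
  have hq' : q.IsPrime := hq.1.1
  have : y * x ∈ q := hy ▸ q.zero_mem
  exact (hq'.mem_or_mem this).resolve_right (hx q hq)

theorem exists_ab (hfin : (minimalPrimes R).Finite) (q : Ideal R)
    (hq : q ∈ minimalPrimes R) :
    ∃ a b : R, a ∉ q ∧ b ∈ q ∧ ∀ q' ∈ minimalPrimes R, q' ≠ q → a ∈ q' ∧ b ∉ q' := by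
  classical
  have hqp : q.IsPrime := hq.1.1
  have h3 : ∀ q' ∈ hfin.toFinset.erase q, ∃ c : R, c ∈ q' ∧ c ∉ q := by
    intro q' hq'
    rw [Finset.mem_erase, Set.Finite.mem_toFinset] at hq'
    by_contra hcon
    push Not at hcon
    exact hq'.1 (le_antisymm hcon (hq.2 hq'.2.1 hcon))
  choose! c hc using h3
  have hb : ¬ ((q : Set R) ⊆ ⋃ q' ∈ (↑(hfin.toFinset.erase q) : Set (Ideal R)), (q' : Set R)) := by
    intro hsub
    obtain ⟨q', hq'mem, hle⟩ := (Ideal.subset_union_prime (s := hfin.toFinset.erase q)
      (f := fun q' => q') q q (fun i hi _ _ => by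
        rw [Finset.mem_erase, Set.Finite.mem_toFinset] at hi
        exact hi.2.1.1)).mp hsub
    rw [Finset.mem_erase, Set.Finite.mem_toFinset] at hq'mem
    exact hq'mem.1 (le_antisymm (hq'mem.2.2 hq.1 hle) hle)
  rw [Set.not_subset] at hb
  obtain ⟨b, hbq, hbn⟩ := hb
  refine ⟨∏ q' ∈ hfin.toFinset.erase q, c q', b, ?_, hbq, ?_⟩
  · intro hmem
    obtain ⟨q', hq', hcq'⟩ := (Ideal.IsPrime.prod_mem_iff (hp := hqp)).mp hmem
    exact (hc q' hq').2 hcq'
  · intro q' hq' hne
    have hq'' : q' ∈ hfin.toFinset.erase q :=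
      Finset.mem_erase.mpr ⟨hne, hfin.mem_toFinset.mpr hq'⟩
    refine ⟨Ideal.mem_of_dvd _ (Finset.dvd_prod_of_mem c hq'') (hc q' hq'').1, ?_⟩
    intro hbq'
    exact hbn (Set.mem_biUnion (Finset.mem_coe.mpr hq'') hbq')

/-- the key idempotent -/
theorem exists_idem [IsReduced R] (hfin : (minimalPrimes R).Finite)
    (hic : IsIntegrallyClosedIn R (FractionRing R)) (q : Ideal R) (hq : q ∈ minimalPrimes R) :
    ∃ e : R, e * e = e ∧ 1 - e ∈ q ∧ (∀ x ∈ q, e * x = 0) ∧
      ∀ q' ∈ minimalPrimes R, q' ≠ q → e ∈ q' := by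
  have hqp : q.IsPrime := hq.1.1
  obtain ⟨a, b, haq, hbq, hab⟩ := exists_ab hfin q hq
  have hab0 : a * b = 0 := by
    apply eq_zero_of_mem_minimalPrimes
    intro q' hq'
    by_cases h : q' = q
    · subst h; exact Ideal.mul_mem_left _ _ hbq
    · exact Ideal.mul_mem_right _ _ (hab q' hq' h).1
  have hnzd : a + b ∈ nonZeroDivisors R := by
    apply nzd_of_notMem_minimalPrimes
    intro q' hq'
    by_cases h : q' = q
    · subst h
      intro hmem
      exact haq (by simpa using Ideal.sub_mem _ hmem hbq)
    · intro hmem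
      exact (hab q' hq' h).2 (by simpa using Ideal.sub_mem _ hmem (hab q' hq' h).1)
  rw [isIntegrallyClosedIn_iff] at hic
  obtain ⟨hinj, hcl⟩ := hic
  set e' : FractionRing R := IsLocalization.mk' (FractionRing R) a ⟨a + b, hnzd⟩ with he'
  have hu : IsUnit (algebraMap R (FractionRing R) (a + b)) :=
    IsLocalization.map_units _ (⟨a + b, hnzd⟩ : nonZeroDivisors R)
  have hspec : e' * algebraMap R (FractionRing R) (a + b) = algebraMap R _ a :=
    IsLocalization.mk'_spec _ a ⟨a + b, hnzd⟩
  have hidem : e' * e' = e' := by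
    apply hu.mul_right_cancel
    apply hu.mul_right_cancel
    have : algebraMap R (FractionRing R) a * algebraMap R (FractionRing R) (a + b) =
        algebraMap R (FractionRing R) a * algebraMap R (FractionRing R) a := by
      rw [← map_mul, ← map_mul, mul_add, hab0, add_zero]
    calc e' * e' * algebraMap R (FractionRing R) (a + b) * algebraMap R (FractionRing R) (a + b)
        = (e' * algebraMap R (FractionRing R) (a + b)) *
          (e' * algebraMap R (FractionRing R) (a + b)) := by ring
      _ = algebraMap R (FractionRing R) a * algebraMap R (FractionRing R) a := by rw [hspec]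
      _ = algebraMap R (FractionRing R) a * algebraMap R (FractionRing R) (a + b) := this.symm
      _ = e' * algebraMap R (FractionRing R) (a + b) * algebraMap R (FractionRing R) (a + b) := by
          rw [hspec]
  have hint : IsIntegral R e' := by
    refine ⟨X * (X - C 1), monic_X.mul (monic_X_sub_C 1), ?_⟩
    simp [mul_sub, hidem]
  obtain ⟨e, he⟩ := hcl hint
  have hee : e * e = e := hinj (by rw [map_mul, he, hidem])
  have hea : e * (a + b) = a := hinj (by rw [map_mul, he, hspec])
  have h1e : 1 - e ∈ q := by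
    have : (1 - e) * (a + b) ∈ q := by
      have : (1 - e) * (a + b) = b := by rw [sub_mul, one_mul, hea]; ring
      rw [this]; exact hbq
    refine (hqp.mem_or_mem this).resolve_right ?_
    intro hmem
    exact haq (by simpa using Ideal.sub_mem _ hmem hbq)
  have heq' : ∀ q' ∈ minimalPrimes R, q' ≠ q → e ∈ q' := by
    intro q' hq' hne
    have hq'p : q'.IsPrime := hq'.1.1
    have : e * (a + b) ∈ q' := by rw [hea]; exact (hab q' hq' hne).1
    refine (hq'p.mem_or_mem this).resolve_right ?_
    intro hmem
    exact (hab q' hq' hne).2 (by simpa using Ideal.sub_mem _ hmem (hab q' hq' hne).1)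
  refine ⟨e, hee, h1e, ?_, heq'⟩
  intro x hx
  apply eq_zero_of_mem_minimalPrimes
  intro q' hq'
  by_cases h : q' = q
  · subst h; exact Ideal.mul_mem_left _ _ hx
  · exact Ideal.mul_mem_right _ _ (heq' q' hq' h)

theorem idem_eval {S T : Type*} [CommRing S] [CommRing T] (f : S →+* T) (ê v : T)
    (hê : ê * ê = ê) (P : S[X]) : ê * eval₂ f (ê * v) P = ê * eval₂ f v P := by
  induction P using Polynomial.induction_on' with
  | add p q hp hq => rw [eval₂_add, eval₂_add, mul_add, mul_add, hp, hq]
  | monomial n a =>
    rw [eval₂_monomial, eval₂_monomial, mul_pow]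
    have h : ê * ê ^ n = ê := by
      induction n with
      | zero => simp
      | succ k ih => rw [pow_succ, ← mul_assoc, ih, hê]
    calc ê * (f a * (ê ^ n * v ^ n)) = (ê * ê ^ n) * (f a * v ^ n) := by ring
      _ = ê * (f a * v ^ n) := by rw [h]

section loc

variable (p : Ideal R) [p.IsPrime] (q : Ideal R) (hqp : q.IsPrime) (hqle : q ≤ p)
  (e : R) (h1e : 1 - e ∈ q) (hkill : ∀ x ∈ q, e * x = 0)

include hqle h1e in
theorem e_notMem : e ∉ p := fun h =>
  (Ideal.IsPrime.ne_top ‹p.IsPrime›) ((Ideal.eq_top_iff_one _).mpr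
    (by simpa using p.add_mem h (hqle h1e)))

include hqle h1e hkill in
theorem map_eq_zero_of_mem (x : R) (hx : x ∈ q) :
    algebraMap R (Localization.AtPrime p) x = 0 := by
  rw [IsLocalization.map_eq_zero_iff p.primeCompl]
  exact ⟨⟨e, e_notMem p q hqle e h1e⟩, hkill x hx⟩

include hqp hqle in
theorem mem_of_map_eq_zero (x : R) (hx : algebraMap R (Localization.AtPrime p) x = 0) :
    x ∈ q := by
  rw [IsLocalization.map_eq_zero_iff p.primeCompl] at hx
  obtain ⟨u, hu⟩ := hx
  exact (hqp.mem_or_mem (hu ▸ q.zero_mem : (u : R) * x ∈ q)).resolve_left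
    (fun h => u.2 (hqle h))

include hqp hqle h1e hkill in
theorem isDomain_loc : IsDomain (Localization.AtPrime p) := by
  haveI : NoZeroDivisors (Localization.AtPrime p) := by
    constructor
    intro x y hxy
    obtain ⟨⟨a, s⟩, rfl⟩ := IsLocalization.mk'_surjective p.primeCompl x
    obtain ⟨⟨b, t⟩, rfl⟩ := IsLocalization.mk'_surjective p.primeCompl y
    rw [← IsLocalization.mk'_mul, IsLocalization.mk'_eq_zero_iff] at hxy
    obtain ⟨u, hu⟩ := hxy
    have hab : a * b ∈ q :=
      (hqp.mem_or_mem (hu ▸ q.zero_mem : (u : R) * (a * b) ∈ q)).resolve_left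
        (fun h => u.2 (hqle h))
    rcases hqp.mem_or_mem hab with h | h
    · left
      rw [IsLocalization.mk'_eq_zero_iff]
      exact ⟨⟨e, e_notMem p q hqle e h1e⟩, hkill a h⟩
    · right
      rw [IsLocalization.mk'_eq_zero_iff]
      exact ⟨⟨e, e_notMem p q hqle e h1e⟩, hkill b h⟩
  exact NoZeroDivisors.to_isDomain _

theorem frac_repr [IsDomain (Localization.AtPrime p)]
    (z : FractionRing (Localization.AtPrime p)) :
    ∃ c d : R, algebraMap R (Localization.AtPrime p) d ≠ 0 ∧
      z * algebraMap (Localization.AtPrime p) (FractionRing (Localization.AtPrime p))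
        (algebraMap R (Localization.AtPrime p) d) =
      algebraMap (Localization.AtPrime p) (FractionRing (Localization.AtPrime p))
        (algebraMap R (Localization.AtPrime p) c) := by
  obtain ⟨n, dd, hdd, rfl⟩ := IsFractionRing.div_surjective (A := Localization.AtPrime p) z
  obtain ⟨⟨c, s1⟩, rfl⟩ := IsLocalization.mk'_surjective p.primeCompl n
  obtain ⟨⟨d, s2⟩, rfl⟩ := IsLocalization.mk'_surjective p.primeCompl dd
  have hdd0 : IsLocalization.mk' (Localization.AtPrime p) d s2 ≠ 0 := nonZeroDivisors.ne_zero hdd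
  have hd0 : algebraMap R (Localization.AtPrime p) d ≠ 0 := by
    intro h
    apply hdd0
    rw [IsLocalization.mk'_eq_zero_iff]
    rw [IsLocalization.map_eq_zero_iff p.primeCompl] at h
    exact h
  have hs1 : algebraMap R (Localization.AtPrime p) s1 ≠ 0 :=
    (IsLocalization.map_units (Localization.AtPrime p) s1).ne_zero
  refine ⟨c * s2, d * s1, ?_, ?_⟩
  · rw [map_mul]; exact mul_ne_zero hd0 hs1
  · have hne : algebraMap (Localization.AtPrime p) (FractionRing (Localization.AtPrime p))
        (IsLocalization.mk' (Localization.AtPrime p) d s2) ≠ 0 := by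
      rw [Ne, map_eq_zero_iff _ (IsFractionRing.injective _ _)]; exact hdd0
    rw [div_mul_eq_mul_div, div_eq_iff hne, ← map_mul, ← map_mul]
    congr 1
    have e1 := IsLocalization.mk'_spec (Localization.AtPrime p) c s1
    have e2 := IsLocalization.mk'_spec (Localization.AtPrime p) d s2
    rw [map_mul, map_mul]
    calc IsLocalization.mk' (Localization.AtPrime p) c s1 *
          (algebraMap R (Localization.AtPrime p) d * algebraMap R (Localization.AtPrime p) s1)
        = (IsLocalization.mk' (Localization.AtPrime p) c s1 *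
            algebraMap R (Localization.AtPrime p) s1) *
            algebraMap R (Localization.AtPrime p) d := by ring
      _ = algebraMap R (Localization.AtPrime p) c *
            (IsLocalization.mk' (Localization.AtPrime p) d s2 *
              algebraMap R (Localization.AtPrime p) s2) := by rw [e1, e2]
      _ = _ := by ring

include hqp hqle hkill in
theorem kill_of_phi_eq_zero [IsDomain (Localization.AtPrime p)] (w : FractionRing R)
    (hw : phi p w = 0) : algebraMap R (FractionRing R) e * w = 0 := by
  obtain ⟨⟨a', t'⟩, rfl⟩ := IsLocalization.mk'_surjective (nonZeroDivisors R) w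
  have h1 : phi p (IsLocalization.mk' (FractionRing R) a' t') *
      phi p (algebraMap R (FractionRing R) t') = phi p (algebraMap R (FractionRing R) a') := by
    rw [← map_mul, IsLocalization.mk'_spec]
  rw [hw, zero_mul, phi_algebraMap] at h1
  have h2 : algebraMap R (Localization.AtPrime p) a' = 0 :=
    (map_eq_zero_iff _ (IsFractionRing.injective _ _)).mp h1.symm
  have h3 : a' ∈ q := mem_of_map_eq_zero p q hqp hqle a' h2
  have h4 : e * a' = 0 := hkill a' h3
  have hu : IsUnit (algebraMap R (FractionRing R) t') := IsLocalization.map_units _ t'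
  apply hu.mul_right_cancel
  rw [mul_assoc, IsLocalization.mk'_spec, ← map_mul, h4, map_zero, zero_mul]

include hqp hqle h1e hkill in
theorem isIntegrallyClosed_loc [IsReduced R] (hic : IsIntegrallyClosedIn R (FractionRing R))
    (hee : e * e = e) (heq' : ∀ q' ∈ minimalPrimes R, q' ≠ q → e ∈ q')
    [IsDomain (Localization.AtPrime p)] : IsIntegrallyClosed (Localization.AtPrime p) := by
  rw [isIntegrallyClosed_iff (FractionRing (Localization.AtPrime p))]
  intro z hz
  have hep := e_notMem p q hqle e h1e
  have hφ1e : algebraMap R (Localization.AtPrime p) (1 - e) = 0 :=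
    map_eq_zero_of_mem p q hqle e h1e hkill _ h1e
  have hφe : algebraMap R (Localization.AtPrime p) e = 1 := by
    rw [map_sub, map_one, sub_eq_zero] at hφ1e; exact hφ1e.symm
  obtain ⟨c, d0, hd0, hz1⟩ := frac_repr p z
  set d' := d0 * e + (1 - e) with hd'
  have hd'map : algebraMap R (Localization.AtPrime p) d' =
      algebraMap R (Localization.AtPrime p) d0 := by
    rw [hd', map_add, map_mul, hφe, hφ1e]; ring
  have hd0q : d0 ∉ q := fun h => hd0 (map_eq_zero_of_mem p q hqle e h1e hkill _ h)
  have hd'nzd : d' ∈ nonZeroDivisors R := by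
    apply nzd_of_notMem_minimalPrimes
    intro q' hq'
    by_cases h : q' = q
    · subst h
      intro hmem
      have : d0 = d' + (d0 - 1) * (1 - e) := by rw [hd']; ring
      exact hd0q (this ▸ Ideal.add_mem _ hmem (Ideal.mul_mem_left _ _ h1e))
    · intro hmem
      have he' := heq' q' hq' h
      have : (1 : R) = d' - (d0 - 1) * e := by rw [hd']; ring
      exact hq'.1.1.ne_top ((Ideal.eq_top_iff_one _).mpr
        (this ▸ Ideal.sub_mem _ hmem (Ideal.mul_mem_left _ _ he')))
  set x : FractionRing R := IsLocalization.mk' (FractionRing R) c ⟨d', hd'nzd⟩ with hx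
  have hxz : phi p x = z := by
    have h1 : phi p x * phi p (algebraMap R (FractionRing R) d') =
        phi p (algebraMap R _ c) := by
      rw [← map_mul]; congr 1; exact IsLocalization.mk'_spec _ c ⟨d', hd'nzd⟩
    rw [phi_algebraMap, phi_algebraMap, hd'map, ← hz1] at h1
    have hne : algebraMap (Localization.AtPrime p) (FractionRing (Localization.AtPrime p))
        (algebraMap R (Localization.AtPrime p) d0) ≠ 0 := by
      rw [Ne, map_eq_zero_iff _ (IsFractionRing.injective _ _)]; exact hd0
    exact mul_right_cancel₀ hne h1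
  obtain ⟨⟨s, hs⟩, hsint⟩ :=
    IsIntegral.exists_multiple_integral_of_isLocalization p.primeCompl z hz
  obtain ⟨P, hPm, hP⟩ := hsint
  set ê := algebraMap R (FractionRing R) e with hê
  set v := algebraMap R (FractionRing R) s * x with hv
  have hêê : ê * ê = ê := by rw [hê, ← map_mul, hee]
  have hcomp : (phi p).comp (algebraMap R (FractionRing R)) =
      algebraMap R (FractionRing (Localization.AtPrime p)) := by
    ext r; rw [RingHom.comp_apply, phi_algebraMap]; rfl
  have hphiv : phi p v = (⟨s, hs⟩ : p.primeCompl) • z := by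
    rw [hv, map_mul, hxz, Submonoid.smul_def, Algebra.smul_def]
    congr 1
    exact congrArg (fun f => f s) hcomp
  have hw : phi p (v * eval₂ (algebraMap R (FractionRing R)) v P) = 0 := by
    rw [map_mul, Polynomial.hom_eval₂, hphiv, hcomp, hP, mul_zero]
  have hyint : IsIntegral R (ê * v) := by
    refine ⟨X * P, monic_X.mul hPm, ?_⟩
    rw [eval₂_mul, eval₂_X]
    calc ê * v * eval₂ (algebraMap R (FractionRing R)) (ê * v) P
        = v * (ê * eval₂ (algebraMap R (FractionRing R)) (ê * v) P) := by ring
      _ = v * (ê * eval₂ (algebraMap R (FractionRing R)) v P) := by rw [idem_eval _ _ _ hêê]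
      _ = ê * (v * eval₂ (algebraMap R (FractionRing R)) v P) := by ring
      _ = 0 := kill_of_phi_eq_zero p q hqp hqle e hkill _ hw
  rw [isIntegrallyClosedIn_iff] at hic
  obtain ⟨r, hr⟩ := hic.2 hyint
  have hphiy : phi p (ê * v) = (⟨s, hs⟩ : p.primeCompl) • z := by
    rw [map_mul, hphiv, hê, phi_algebraMap, hφe, map_one, one_mul]
  rw [← hr, phi_algebraMap, Submonoid.smul_def, Algebra.smul_def] at hphiy
  refine ⟨IsLocalization.mk' (Localization.AtPrime p) r ⟨s, hs⟩, ?_⟩
  have hsne : algebraMap R (FractionRing (Localization.AtPrime p)) s ≠ 0 := by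
    rw [IsScalarTower.algebraMap_apply R (Localization.AtPrime p), Ne,
      map_eq_zero_iff _ (IsFractionRing.injective _ _)]
    exact (IsLocalization.map_units (Localization.AtPrime p) (⟨s, hs⟩ : p.primeCompl)).ne_zero
  apply mul_left_cancel₀ hsne
  rw [← hphiy, IsScalarTower.algebraMap_apply R (Localization.AtPrime p), ← map_mul]
  congr 1
  rw [mul_comm]
  exact IsLocalization.mk'_spec _ r ⟨s, hs⟩

end loc

theorem backward [IsReduced R] (hfin : (minimalPrimes R).Finite)
    (hic : IsIntegrallyClosedIn R (FractionRing R)) (p : Ideal R) [p.IsPrime] :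
    IsDomain (Localization.AtPrime p) ∧ IsIntegrallyClosed (Localization.AtPrime p) := by
  obtain ⟨q, hq, hqle⟩ := Ideal.exists_minimalPrimes_le (I := ⊥) (J := p) bot_le
  obtain ⟨e, hee, h1e, hkill, heq'⟩ := exists_idem hfin hic q hq
  have hqp : q.IsPrime := hq.1.1
  haveI := isDomain_loc p q hqp hqle e h1e hkill
  exact ⟨inferInstance, isIntegrallyClosed_loc p q hqp hqle e h1e hkill hic hee heq'⟩

theorem main [IsReduced R] (hfin : (minimalPrimes R).Finite) :
    (∀ (p : Ideal R) [p.IsPrime], IsDomain (Localization.AtPrime p) ∧ IsIntegrallyClosed (Localization.AtPrime p)) ↔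
      IsIntegrallyClosedIn R (FractionRing R) :=
  ⟨fun h => forward h, fun h p _ => backward hfin h p⟩

end

/-- Let `R` be a reduced ring with finitely many minimal primes. Then every localization of `R` at a
prime is an integrally closed domain if and only if `R` is integrally closed in its total ring of
fractions. -/
theorem result {R : Type u} [CommRing R] [IsReduced R] (hfin : (minimalPrimes R).Finite) :
    (∀ (p : Ideal R) [p.IsPrime], IsDomain (Localization.AtPrime p) ∧ IsIntegrallyClosed (Localization.AtPrime p)) ↔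
      IsIntegrallyClosedIn R (FractionRing R) := by
  exact Groth.Agent.S2139.main hfin

end Groth.Agent.S2139
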