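import Groth.Statements.S2140
import Mathlib
import Groth.Agent.Lib.Helper2.GenericFreeFP
-- import your own Groth.Agent.* helpers here

set_option autoImplicit false
universe u
open CAlg

namespace Groth.Agent.S2140

section
open Groth.Agent.Helper2.GenericFree

theorem main {R S : Type u} [CommRing R] [IsDomain R] [CommRing S] [IsDomain S]
    [Algebra R S] [Algebra.FiniteType R S] (hinj : Function.Injective (algebraMap R S)) :
    ∃ (f : R) (g : S), f ≠ 0 ∧ g ≠ 0 ∧
      ∀ (Rf Sfg : Type u) [CommRing Rf] [CommRing Sfg] [Algebra R Rf] [IsLocalization.Away f Rf]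
        [Algebra S Sfg] [IsLocalization.Away (algebraMap R S f * g) Sfg] [Algebra Rf Sfg] [Algebra R Sfg]
        [IsScalarTower R S Sfg] [IsScalarTower R Rf Sfg], Algebra.FinitePresentation Rf Sfg := by
  obtain ⟨f, hf0, hf⟩ := exists_fp_alg (R := R) S
  refine ⟨f, 1, hf0, one_ne_zero, ?_⟩
  intro Rf Sfg _ _ _ _ _ hloc _ _ _ _
  haveI : IsLocalization.Away (algebraMap R S (f * 1)) Sfg := by
    rw [mul_one] at hloc ⊢
    exact hloc
  haveI : Algebra.FinitePresentation R Sfg := hf 1 one_ne_zero Sfg
  haveI : Algebra.FinitePresentation R Rf := IsLocalization.Away.finitePresentation f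
  exact Algebra.FinitePresentation.of_restrict_scalars_finitePresentation R Rf Sfg

end

/-- Let `R → S` be an injective ring map of finite type between domains. Then there are nonzero `f ∈ R`
and `g ∈ S` such that `S_{fg}` is a finitely presented `R_f`-algebra. -/
theorem result {R S : Type u} [CommRing R] [IsDomain R] [CommRing S] [IsDomain S]
    [Algebra R S] [Algebra.FiniteType R S] (hinj : Function.Injective (algebraMap R S)) :
    ∃ (f : R) (g : S), f ≠ 0 ∧ g ≠ 0 ∧
      ∀ (Rf Sfg : Type u) [CommRing Rf] [CommRing Sfg] [Algebra R Rf] [IsLocalization.Away f Rf]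
        [Algebra S Sfg] [IsLocalization.Away (algebraMap R S f * g) Sfg] [Algebra Rf Sfg] [Algebra R Sfg]
        [IsScalarTower R S Sfg] [IsScalarTower R Rf Sfg], Algebra.FinitePresentation Rf Sfg := by
  exact Groth.Agent.S2140.main hinj

end Groth.Agent.S2140
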