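import Groth.Statements.S2145
import Groth.Statements.S2145
import Mathlib
import Groth.Agent.Lib.Helper2.SpreadOut
-- import your own Groth.Agent.* helpers here

set_option autoImplicit false
universe u
open CAlg

namespace Groth.Agent.S2145

section
open Groth.Agent.Helper2.SpreadOut

theorem main {R S S' : Type u} [CommRing R] [CommRing S] [CommRing S'] [Algebra R S]
    [Algebra R S'] [Algebra.FinitePresentation R S] [Algebra.FinitePresentation R S'] (q : Ideal S) [q.IsPrime]
    (q' : Ideal S') [q'.IsPrime] (e : Localization.AtPrime q ≃ₐ[R] Localization.AtPrime q') :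
    ∃ (g : S) (g' : S'), g ∉ q ∧ g' ∉ q' ∧ Nonempty (Localization.Away g ≃ₐ[R] Localization.Away g') := by
  let ψ : S' →ₐ[R] Localization.AtPrime q :=
    e.symm.toAlgHom.comp (IsScalarTower.toAlgHom R S' (Localization.AtPrime q'))
  obtain ⟨g0, hg0, α, ι0, hα⟩ := exists_lift' q ψ
  letI : Algebra S' (Localization.Away g0) := α.toRingHom.toAlgebra
  haveI : IsScalarTower R S' (Localization.Away g0) :=
    IsScalarTower.of_algebraMap_eq (fun r => (α.commutes r).symm)
  haveI : Algebra.FinitePresentation S (Localization.Away g0) :=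
    IsLocalization.Away.finitePresentation g0
  haveI : Algebra.FinitePresentation R (Localization.Away g0) :=
    Algebra.FinitePresentation.trans R S (Localization.Away g0)
  haveI : Algebra.FinitePresentation S' (Localization.Away g0) :=
    Algebra.FinitePresentation.of_restrict_scalars_finitePresentation R S' _
  let lam : Localization.Away g0 →ₐ[S'] Localization.AtPrime q' :=
    { toRingHom := (e.toAlgHom.toRingHom).comp ι0.toRingHom
      commutes' := fun s' => by
        show e (ι0 (α s')) = algebraMap S' _ s'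
        rw [hα]; simp [ψ] }
  have hlam : ∀ b, lam b = e (ι0 b) := fun b => rfl
  have H1 : ∀ b, lam b = 0 → ∃ g, IsUnit (lam g) ∧ g * b = 0 := by
    intro b hb
    have hb0 : ι0 b = 0 := e.injective (by rw [map_zero]; exact hb)
    obtain ⟨u, hu, hub⟩ := exists_mul_eq_zero q g0 ι0 b hb0
    refine ⟨algebraMap S _ u, ?_, hub⟩
    rw [hlam, ι0.commutes]
    exact (IsLocalization.map_units _ (⟨u, hu⟩ : q.primeCompl)).map e
  obtain ⟨h, hhu, f', hf', ⟨E⟩⟩ := local_iso q' lam H1
  obtain ⟨n, s, hns⟩ := IsLocalization.Away.surj g0 h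
  have hgu : IsUnit (algebraMap S (Localization.Away g0) g0 ^ n) :=
    (IsLocalization.Away.algebraMap_isUnit g0).pow n
  have hassoc' : Associated h (algebraMap S (Localization.Away g0) s) :=
    ⟨hgu.unit, by rw [IsUnit.unit_spec]; exact hns⟩
  have hassoc : Associated (algebraMap S (Localization.Away g0) s) h := hassoc'.symm
  have hs : s ∉ q := by
    have h1 : IsUnit (ι0 h) := by
      have := hhu.map e.symm
      rwa [hlam, AlgEquiv.symm_apply_apply] at this
    have h2 := congrArg ι0 hns
    rw [map_mul, map_pow, AlgHom.commutes, AlgHom.commutes] at h2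
    have h3 : IsUnit (algebraMap S (Localization.AtPrime q) s) := by
      rw [← h2]
      exact h1.mul ((IsLocalization.map_units _ (⟨g0, hg0⟩ : q.primeCompl)).pow n)
    exact (IsLocalization.AtPrime.isUnit_to_map_iff (Localization.AtPrime q) q s).1 h3
  have hg1 : g0 * s ∉ q := fun hmem => (Ideal.IsPrime.mem_or_mem ‹_› hmem).elim hg0 hs
  haveI : IsLocalization.Away (g0 * s) (Localization.Away h) :=
    IsLocalization.Away.mul_of_associated g0 s h hassoc
  let E1 : Localization.Away (g0 * s) ≃ₐ[S] Localization.Away h :=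
    IsLocalization.algEquiv (Submonoid.powers (g0 * s)) _ _
  refine ⟨g0 * s, f', hg1, hf', ⟨(E1.restrictScalars R).trans (E.restrictScalars R)⟩⟩

end

/-- Let `S`, `S'` be finitely presented `R`-algebras and `𝔮 ⊆ S`, `𝔮' ⊆ S'` primes with `S_𝔮 ≅ S'_{𝔮'}`
as `R`-algebras. Then `S_g ≅ S'_{g'}` as `R`-algebras for some `g ∉ 𝔮`, `g' ∉ 𝔮'`. -/
theorem result {R S S' : Type u} [CommRing R] [CommRing S] [CommRing S'] [Algebra R S]
    [Algebra R S'] [Algebra.FinitePresentation R S] [Algebra.FinitePresentation R S'] (q : Ideal S) [q.IsPrime]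
    (q' : Ideal S') [q'.IsPrime] (e : Localization.AtPrime q ≃ₐ[R] Localization.AtPrime q') :
    ∃ (g : S) (g' : S'), g ∉ q ∧ g' ∉ q' ∧ Nonempty (Localization.Away g ≃ₐ[R] Localization.Away g') := by
  exact Groth.Agent.S2145.main q q' e

end Groth.Agent.S2145
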