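import Groth.Statements.S2146
import Groth.Statements.S2146
import Mathlib
import Groth.Agent.Lib.Helper2.SpreadOut
-- import your own Groth.Agent.* helpers here

set_option autoImplicit false
universe u
open CAlg

namespace Groth.Agent.S2146

section
open Groth.Agent.Helper2.SpreadOut

/-- ring-theoretic core: a retraction `τ : T → A` of the structure map whose kernel is
`y`-power torsion with `τ y` a unit splits off `A` as a factor. -/
theorem split_of_retraction {A T : Type u} [CommRing A] [CommRing T] [Algebra A T]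
    (τ : T →ₐ[A] A) (y : T) (hy : IsUnit (τ y))
    (hker : ∀ x : T, τ x = 0 → ∃ N : ℕ, y ^ N * x = 0) :
    ∃ (C : Type u) (_ : CommRing C) (_ : Algebra A C), Nonempty (T ≃ₐ[A] (A × C)) := by
  obtain ⟨u, hu⟩ := hy
  set w : T := algebraMap A T (↑u⁻¹ : A) with hw
  have hτw : τ w = (↑u⁻¹ : A) := by rw [hw, AlgHom.commutes]; rfl
  have h1 : τ (1 - y * w) = 0 := by
    rw [map_sub, map_one, map_mul, hτw, ← hu, Units.mul_inv, sub_self]
  obtain ⟨N0, hN0⟩ := hker _ h1
  set N := N0 + 1 with hN
  have hyw : y ^ N = y ^ (N + 1) * w := by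
    have : y ^ N0 = y ^ N0 * (y * w) := by
      have := hN0; rw [mul_sub, mul_one, sub_eq_zero] at this; exact this
    rw [hN, pow_succ, this]; ring
  have hyk : ∀ k : ℕ, y ^ N = y ^ (N + k) * w ^ k := by
    intro k
    induction k with
    | zero => simp
    | succ k ih =>
      calc y ^ N = y ^ (N + k) * w ^ k := ih
        _ = (y ^ N * y ^ k) * w ^ k := by rw [pow_add]
        _ = (y ^ (N + 1) * w * y ^ k) * w ^ k := by rw [← hyw]
        _ = y ^ (N + (k + 1)) * w ^ (k + 1) := by ring
  set e : T := y ^ N * w ^ N with he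
  have hee : e * e = e := by
    have := hyk N
    calc e * e = (y ^ (N + N) * w ^ N) * w ^ N := by rw [he, pow_add]; ring
      _ = y ^ N * w ^ N := by rw [← this]
  have hτe : τ e = 1 := by
    rw [he, map_mul, map_pow, map_pow, hτw, ← hu, ← mul_pow, Units.mul_inv, one_pow]
  have hkill : ∀ x : T, τ x = 0 → e * x = 0 := by
    intro x hx
    obtain ⟨M, hM⟩ := hker x hx
    have hpow : ∀ M : ℕ, e ^ (M + 1) = e := by
      intro M
      induction M with
      | zero => simp
      | succ M ih => rw [pow_succ, ih, hee]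
    have h2 : e ^ (M + 1) * x = 0 := by
      have : e ^ (M + 1) = y ^ M * (y ^ (N * (M + 1) - M) * w ^ (N * (M + 1))) := by
        rw [he, mul_pow, ← pow_mul, ← pow_mul, ← mul_assoc, ← pow_add]
        congr 2
        have : M ≤ N * (M + 1) := by nlinarith
        omega
      rw [this, mul_right_comm, hM, zero_mul]
    rwa [hpow M] at h2
  clear_value e
  refine ⟨T ⧸ Ideal.span {e}, inferInstance, inferInstance, ⟨AlgEquiv.ofBijective
    (AlgHom.prod τ (Ideal.Quotient.mkₐ A (Ideal.span {e}))) ⟨?_, ?_⟩⟩⟩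
  · rw [injective_iff_map_eq_zero]
    intro x hx
    have hx1 : τ x = 0 := congrArg Prod.fst hx
    have hx2 : Ideal.Quotient.mk (Ideal.span {e}) x = 0 := congrArg Prod.snd hx
    rw [Ideal.Quotient.eq_zero_iff_mem, Ideal.mem_span_singleton'] at hx2
    obtain ⟨b, rfl⟩ := hx2
    have := hkill _ hx1
    rw [mul_comm b e, ← mul_assoc, hee] at this
    rw [mul_comm, this]
  · rintro ⟨r, c⟩
    obtain ⟨c, rfl⟩ := Ideal.Quotient.mk_surjective c
    refine ⟨e * algebraMap A T r + (1 - e) * c, Prod.ext ?_ ?_⟩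
    · show τ (e * algebraMap A T r + (1 - e) * c) = r
      rw [map_add, map_mul, map_mul, map_sub, map_one, hτe, AlgHom.commutes]
      simp
    · show Ideal.Quotient.mk (Ideal.span {e}) (e * algebraMap A T r + (1 - e) * c) =
        Ideal.Quotient.mk (Ideal.span {e}) c
      rw [Ideal.Quotient.eq, Ideal.mem_span_singleton']
      exact ⟨algebraMap A T r - c, by ring⟩

theorem main {R S : Type u} [CommRing R] [CommRing S] [Algebra R S]
    [Algebra.FinitePresentation R S] (q : Ideal S) [q.IsPrime] (p : Ideal R) [p.IsPrime] [q.LiesOver p]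
    (h : Function.Bijective (Localization.localRingHom p q (algebraMap R S) (q.over_def p))) :
    ∃ f : R, f ∉ p ∧ ∀ (Rf Sf : Type u) [CommRing Rf] [CommRing Sf] [Algebra R Rf] [IsLocalization.Away f Rf]
      [Algebra S Sf] [IsLocalization.Away (algebraMap R S f) Sf] [Algebra Rf Sf] [Algebra R Sf] [IsScalarTower R S Sf]
      [IsScalarTower R Rf Sf],
      ∃ (C : Type u) (_ : CommRing C) (_ : Algebra Rf C), Nonempty (Sf ≃ₐ[Rf] (Rf × C)) := by
  set φ := Localization.localRingHom p q (algebraMap R S) (q.over_def p) with hφ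
  let φe : Localization.AtPrime p ≃+* Localization.AtPrime q := RingEquiv.ofBijective φ h
  let lam : S →ₐ[R] Localization.AtPrime p :=
    { toRingHom := φe.symm.toRingHom.comp (algebraMap S (Localization.AtPrime q))
      commutes' := fun r => by
        show φe.symm (algebraMap S _ (algebraMap R S r)) = algebraMap R _ r
        rw [RingEquiv.symm_apply_eq]
        show _ = φ (algebraMap R _ r)
        rw [hφ, Localization.localRingHom_to_map] }
  have hlam : ∀ b, lam b = φe.symm (algebraMap S _ b) := fun _ => rfl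
  have H1 : ∀ b : S, lam b = 0 → ∃ g : S, IsUnit (lam g) ∧ g * b = 0 := by
    intro b hb
    rw [hlam, map_eq_zero_iff _ φe.symm.injective] at hb
    obtain ⟨g, hg⟩ := (IsLocalization.map_eq_zero_iff q.primeCompl _ _).1 hb
    refine ⟨g, ?_, hg⟩
    rw [hlam]
    exact (IsLocalization.map_units _ g).map φe.symm
  obtain ⟨hh, hhu, f, hf, ⟨E⟩⟩ := local_iso p lam H1
  refine ⟨f, hf, ?_⟩
  intro Rf Sf _ _ _ _ _ _ _ _ _ _
  let j : Localization.Away f ≃ₐ[R] Rf := IsLocalization.algEquiv (Submonoid.powers f) _ _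
  let τ0 : S →ₐ[R] Rf :=
    (j.toAlgHom.comp E.toAlgHom).comp (IsScalarTower.toAlgHom R S (Localization.Away hh))
  have hτ0 : ∀ s, τ0 s = j (E (algebraMap S _ s)) := fun _ => rfl
  have hτ0f : IsUnit (τ0.toRingHom (algebraMap R S f)) := by
    show IsUnit (τ0 (algebraMap R S f))
    rw [τ0.commutes]; exact IsLocalization.Away.algebraMap_isUnit f
  let τ1 : Sf →+* Rf := IsLocalization.Away.lift (algebraMap R S f) (g := τ0.toRingHom) hτ0f
  have hτ1 : ∀ s : S, τ1 (algebraMap S Sf s) = τ0 s := fun s =>
    IsLocalization.Away.lift_eq _ _ s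
  have hret : ∀ r : Rf, τ1 (algebraMap Rf Sf r) = r := by
    have : (τ1.comp (algebraMap Rf Sf)) = RingHom.id Rf := by
      apply IsLocalization.ringHom_ext (Submonoid.powers f)
      ext r
      show τ1 (algebraMap Rf Sf (algebraMap R Rf r)) = algebraMap R Rf r
      rw [← IsScalarTower.algebraMap_apply R Rf Sf, IsScalarTower.algebraMap_apply R S Sf, hτ1,
        τ0.commutes]
    exact fun r => RingHom.congr_fun this r
  let τ : Sf →ₐ[Rf] Rf := { toRingHom := τ1, commutes' := hret }
  have hτ : ∀ x, τ x = τ1 x := fun _ => rfl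
  apply split_of_retraction τ (algebraMap S Sf hh)
  · rw [hτ, hτ1, hτ0]
    exact ((IsLocalization.Away.algebraMap_isUnit hh).map E).map j
  · intro x hx
    rw [hτ] at hx
    obtain ⟨n, s, hns⟩ := IsLocalization.Away.surj (algebraMap R S f) x
    have h1 : τ0 s = 0 := by
      have := congrArg τ1 hns
      rw [map_mul, hτ1, hx, zero_mul] at this
      exact this.symm
    have h2 : algebraMap S (Localization.Away hh) s = 0 := by
      rw [hτ0, map_eq_zero_iff _ j.injective, map_eq_zero_iff _ E.injective] at h1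
      exact h1
    obtain ⟨m, hm⟩ := (IsLocalization.map_eq_zero_iff (Submonoid.powers hh) _ _).1 h2
    obtain ⟨N, hN⟩ := m.2
    replace hN : hh ^ N = (m : S) := hN
    refine ⟨N, ?_⟩
    have hu : IsUnit (algebraMap S Sf (algebraMap R S f) ^ n) :=
      (IsLocalization.Away.algebraMap_isUnit _).pow n
    apply hu.mul_left_injective
    simp only
    rw [zero_mul, mul_assoc, hns, ← map_pow, ← map_mul, hN, hm, map_zero]

end

/-- Let `S` be a finitely presented `R`-algebra and `𝔮` a prime of `S` over `𝔭` such that the induced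
map `R_𝔭 → S_𝔮` is bijective. Then for some `f ∉ 𝔭` there is an `R_f`-algebra `C` with `S_f ≅ R_f ×
C` as `R_f`-algebras. -/
theorem result {R S : Type u} [CommRing R] [CommRing S] [Algebra R S]
    [Algebra.FinitePresentation R S] (q : Ideal S) [q.IsPrime] (p : Ideal R) [p.IsPrime] [q.LiesOver p]
    (h : Function.Bijective (Localization.localRingHom p q (algebraMap R S) (q.over_def p))) :
    ∃ f : R, f ∉ p ∧ ∀ (Rf Sf : Type u) [CommRing Rf] [CommRing Sf] [Algebra R Rf] [IsLocalization.Away f Rf]
      [Algebra S Sf] [IsLocalization.Away (algebraMap R S f) Sf] [Algebra Rf Sf] [Algebra R Sf] [IsScalarTower R S Sf]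
      [IsScalarTower R Rf Sf],
      ∃ (C : Type u) (_ : CommRing C) (_ : Algebra Rf C), Nonempty (Sf ≃ₐ[Rf] (Rf × C)) := by
  exact Groth.Agent.S2146.main q p h

end Groth.Agent.S2146
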