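import Groth.Statements.S2149
import Mathlib

set_option autoImplicit false
universe u
open CAlg

namespace Groth.Agent.S2149
open scoped TensorProduct

/-- Let `R → S` be a ring map and `u : M → M'` a map of `S`-modules. Then `u`, viewed as an `R`-linear
map, is universally injective exactly when, for every maximal ideal `𝔪` of `S`, the localized map
`M_𝔪 → M'_𝔪` is also universally injective as an `R`-linear map. -/
theorem result {R S M M' : Type u} [CommRing R] [CommRing S] [Algebra R S]
    [AddCommGroup M] [Module S M] [Module R M] [IsScalarTower R S M] [AddCommGroup M'] [Module S M'] [Module R M']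
    [IsScalarTower R S M'] (u : M →ₗ[S] M') :
    CAlgX.UniversallyInjective R (u.restrictScalars R) ↔
      ∀ (m : Ideal S) [m.IsMaximal],
        CAlgX.UniversallyInjective R ((LocalizedModule.map m.primeCompl u).restrictScalars R) := by
  have hfun : ∀ {T : Type u} [CommRing T] [Algebra R T] {N N' : Type u} [AddCommGroup N]
      [Module T N] [Module R N] [IsScalarTower R T N]
      [AddCommGroup N'] [Module T N'] [Module R N'] [IsScalarTower R T N'] (v : N →ₗ[T] N')
      (Q : Type u) [AddCommGroup Q] [Module R Q],
      (⇑(TensorProduct.AlgebraTensorModule.rTensor R Q v) : N ⊗[R] Q → N' ⊗[R] Q) =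
        ⇑((v.restrictScalars R).rTensor Q) := by
    intro T _ _ N N' _ _ _ _ _ _ _ _ v Q _ _
    funext z
    induction z using TensorProduct.induction_on with
    | zero => simp
    | tmul x y => simp
    | add a b ha hb => rw [map_add, map_add, ha, hb]
  have key : ∀ (m : Ideal S) [m.IsMaximal] (Q : Type u) [AddCommGroup Q] [Module R Q],
      IsLocalizedModule.map m.primeCompl
        (TensorProduct.AlgebraTensorModule.rTensor R Q (LocalizedModule.mkLinearMap m.primeCompl M))
        (TensorProduct.AlgebraTensorModule.rTensor R Q (LocalizedModule.mkLinearMap m.primeCompl M'))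
        (TensorProduct.AlgebraTensorModule.rTensor R Q u) =
      TensorProduct.AlgebraTensorModule.rTensor R Q (LocalizedModule.map m.primeCompl u) := by
    intro m _ Q _ _
    apply IsLocalizedModule.linearMap_ext m.primeCompl
      (TensorProduct.AlgebraTensorModule.rTensor R Q (LocalizedModule.mkLinearMap m.primeCompl M))
      (TensorProduct.AlgebraTensorModule.rTensor R Q (LocalizedModule.mkLinearMap m.primeCompl M'))
    rw [IsLocalizedModule.map_comp]
    ext x q
    simp
  constructor
  · intro h m _ Q _ _
    have hinj : Function.Injective (TensorProduct.AlgebraTensorModule.rTensor R Q u) := by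
      rw [hfun u Q]; exact h Q
    have h2 := IsLocalizedModule.map_injective m.primeCompl
      (TensorProduct.AlgebraTensorModule.rTensor R Q (LocalizedModule.mkLinearMap m.primeCompl M))
      (TensorProduct.AlgebraTensorModule.rTensor R Q (LocalizedModule.mkLinearMap m.primeCompl M'))
      _ hinj
    rw [key m Q, LinearMap.coe_restrictScalars, hfun] at h2
    exact h2
  · intro h Q _ _
    have h3 : Function.Injective (TensorProduct.AlgebraTensorModule.rTensor R Q u) := by
      refine injective_of_isLocalized_maximal
        (fun (P : Ideal S) [P.IsMaximal] => LocalizedModule P.primeCompl M ⊗[R] Q)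
        (fun P _ => TensorProduct.AlgebraTensorModule.rTensor R Q
          (LocalizedModule.mkLinearMap P.primeCompl M))
        (fun (P : Ideal S) [P.IsMaximal] => LocalizedModule P.primeCompl M' ⊗[R] Q)
        (fun P _ => TensorProduct.AlgebraTensorModule.rTensor R Q
          (LocalizedModule.mkLinearMap P.primeCompl M'))
        _ ?_
      intro P _
      rw [key P Q, LinearMap.coe_restrictScalars, hfun]
      exact h P Q
    rw [hfun u Q] at h3
    exact h3

end Groth.Agent.S2149
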