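import Groth.Statements.S2159

set_option autoImplicit false
universe u
open CAlg

namespace Groth.Agent.S2159

/-- Given surjections `p₁ : P₁ → M` and `p₂ : P₂ → M` from projective modules, with kernels `K` and `L`,
there is an isomorphism `K ⊕ P₂ ≅ L ⊕ P₁`. -/
theorem result {R M P₁ P₂ : Type u} [CommRing R] [AddCommGroup M] [Module R M] [AddCommGroup P₁] [Module R P₁]
    [Module.Projective R P₁] [AddCommGroup P₂] [Module R P₂] [Module.Projective R P₂] (p₁ : P₁ →ₗ[R] M) (p₂ : P₂ →ₗ[R] M)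
    (h₁ : Function.Surjective p₁) (h₂ : Function.Surjective p₂) :
    Nonempty ((LinearMap.ker p₁ × P₂) ≃ₗ[R] (LinearMap.ker p₂ × P₁)) := by
  obtain ⟨s₁, hs₁⟩ := Module.projective_lifting_property p₂ p₁ h₂
  obtain ⟨s₂, hs₂⟩ := Module.projective_lifting_property p₁ p₂ h₁
  have e₁ : ∀ a, p₂ (s₁ a) = p₁ a := fun a => LinearMap.congr_fun hs₁ a
  have e₂ : ∀ b, p₁ (s₂ b) = p₂ b := fun b => LinearMap.congr_fun hs₂ b
  have hf : ∀ x : LinearMap.ker p₁ × P₂,
      x.2 - s₁ ((x.1 : P₁) + s₂ x.2) ∈ LinearMap.ker p₂ := by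
    intro x
    have := LinearMap.mem_ker.mp x.1.2
    simp [LinearMap.mem_ker, map_sub, map_add, e₁, e₂, this]
  have hg : ∀ x : LinearMap.ker p₂ × P₁,
      x.2 - s₂ ((x.1 : P₂) + s₁ x.2) ∈ LinearMap.ker p₁ := by
    intro x
    have := LinearMap.mem_ker.mp x.1.2
    simp [LinearMap.mem_ker, map_sub, map_add, e₁, e₂, this]
  refine ⟨
    { toFun := fun x => (⟨x.2 - s₁ ((x.1 : P₁) + s₂ x.2), hf x⟩, (x.1 : P₁) + s₂ x.2)
      invFun := fun x => (⟨x.2 - s₂ ((x.1 : P₂) + s₁ x.2), hg x⟩, (x.1 : P₂) + s₁ x.2)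
      map_add' := ?_
      map_smul' := ?_
      left_inv := ?_
      right_inv := ?_ }⟩
  · rintro ⟨⟨k, hk⟩, b⟩ ⟨⟨k', hk'⟩, b'⟩
    apply Prod.ext
    · apply Subtype.ext
      simp only [Prod.fst_add, Prod.snd_add, Submodule.coe_add, map_add]
      abel
    · simp only [Prod.fst_add, Prod.snd_add, Submodule.coe_add, map_add]
      abel
  · rintro c ⟨⟨k, hk⟩, b⟩
    apply Prod.ext
    · apply Subtype.ext
      simp [smul_sub]
    · simp
  · rintro ⟨⟨k, hk⟩, b⟩
    apply Prod.ext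
    · apply Subtype.ext
      simp only [map_add, map_sub]
      abel
    · simp only [map_add, map_sub]
      abel
  · rintro ⟨⟨k, hk⟩, a⟩
    apply Prod.ext
    · apply Subtype.ext
      simp only [map_add, map_sub]
      abel
    · simp only [map_add, map_sub]
      abel

end Groth.Agent.S2159
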