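import Groth.Statements.S2160
import Groth.Agent.Lib.Helper2.HeightOne
-- import your own Groth.Agent.* helpers here

set_option autoImplicit false
universe u
open CAlg

namespace Groth.Agent.S2160

section
open Groth.Agent.Helper2.HeightOne

theorem main {R : Type u} [CommRing R] [IsDomain R] [IsLocalRing R] [IsNoetherianRing R]
    (hdim : 2 ≤ ringKrullDim R) (U : Set (PrimeSpectrum R)) (hU : IsOpen U) (hne : U.Nonempty) :
    U.Infinite := by
  obtain ⟨x, hx⟩ := hne
  obtain ⟨_, ⟨f, rfl⟩, hxf, hfU⟩ :=
    PrimeSpectrum.isTopologicalBasis_basic_opens.exists_subset_of_mem_open hx hU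
  have hf0 : f ≠ 0 := by
    rintro rfl
    exact hxf (Ideal.zero_mem _)
  have hQ : 2 ≤ (IsLocalRing.maximalIdeal R).height := by
    have h := IsLocalRing.maximalIdeal_height_eq_ringKrullDim (R := R)
    rw [← h] at hdim
    have h2 : ((2 : ℕ∞) : WithBot ℕ∞) = 2 := rfl
    rw [← h2] at hdim
    exact WithBot.coe_le_coe.mp hdim
  have hinf := infinite_height_one (IsLocalRing.maximalIdeal R) hQ
  have hfin := finite_height_one_mem f hf0
  refine (hinf.sdiff hfin).mono ?_
  rintro P ⟨⟨hP1, -⟩, hP2⟩
  apply hfU
  intro hfP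
  exact hP2 ⟨hP1, hfP⟩

end

/-- Let `R` be a Noetherian local domain of Krull dimension at least `2`. Then every nonempty open
subset of `Spec R` is infinite. -/
theorem result {R : Type u} [CommRing R] [IsDomain R] [IsLocalRing R] [IsNoetherianRing R]
    (hdim : 2 ≤ ringKrullDim R) (U : Set (PrimeSpectrum R)) (hU : IsOpen U) (hne : U.Nonempty) : U.Infinite := by
  exact Groth.Agent.S2160.main hdim U hU hne

end Groth.Agent.S2160
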