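import Groth.Statements.S2161
import Mathlib
import Groth.Agent.Lib.Helper2.UnivHomeo
-- import your own Groth.Agent.* helpers here

set_option autoImplicit false
universe u
open CAlg

namespace Groth.Agent.S2161

section
open Polynomial Groth.Agent.Helper2.UnivHomeo

variable {R S : Type u} [CommRing R] [CommRing S] [Algebra R S]

theorem rigid (G : Set S) (hG : Algebra.adjoin R G = ⊤)
    (hpow : ∀ x ∈ G, ∃ (n : ℕ) (P : Polynomial R), 0 < n ∧
      Polynomial.map (algebraMap R S) P = (Polynomial.X - Polynomial.C x) ^ n) : Rigid R S := by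
  refine rigid_of_gen G hG ?_
  intro L _ φ ψ hφψ x hx
  obtain ⟨n, P, hn, hP⟩ := hpow x hx
  have e1 : P.map (φ.comp (algebraMap R S)) = (X - C (φ x)) ^ n := by
    rw [← Polynomial.map_map, hP]; simp
  have e2 : P.map (ψ.comp (algebraMap R S)) = (X - C (ψ x)) ^ n := by
    rw [← Polynomial.map_map, hP]; simp
  rw [hφψ, e2] at e1
  have := congrArg (Polynomial.eval (φ x)) e1
  simp only [eval_pow, eval_sub, eval_X, eval_C, sub_self] at this
  rw [zero_pow hn.ne'] at this
  have h0 : φ x - ψ x = 0 := pow_eq_zero_iff hn.ne' |>.mp this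
  exact sub_eq_zero.mp h0

theorem integral (G : Set S) (hG : Algebra.adjoin R G = ⊤)
    (hpow : ∀ x ∈ G, ∃ (n : ℕ) (P : Polynomial R), 0 < n ∧
      Polynomial.map (algebraMap R S) P = (Polynomial.X - Polynomial.C x) ^ n) :
    Algebra.IsIntegral R S := by
  refine isIntegral_of_gen G hG ?_
  intro x hx
  obtain ⟨n, P, hn, hP⟩ := hpow x hx
  have hl : (X - C x) ^ n ∈ Polynomial.lifts (algebraMap R S) := ⟨P, hP⟩
  have hm : ((X - C x) ^ n).Monic := (monic_X_sub_C x).pow n
  obtain ⟨Q, hQ, -, hQm⟩ := Polynomial.lifts_and_natDegree_eq_and_monic hl hm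
  refine ⟨Q, hQm, ?_⟩
  rw [← Polynomial.eval_map, hQ]
  simp [hn.ne']

theorem main
    (hker : ∀ r : R, algebraMap R S r = 0 → IsNilpotent r) (G : Set S) (hG : Algebra.adjoin R G = ⊤)
    (hpow : ∀ x ∈ G, ∃ (n : ℕ) (P : Polynomial R), 0 < n ∧
      Polynomial.map (algebraMap R S) P = (Polynomial.X - Polynomial.C x) ^ n) :
    IsHomeomorph (PrimeSpectrum.comap (algebraMap R S)) ∧
      ∀ (q : Ideal S) [q.IsPrime] (p : Ideal R) [p.IsPrime] [q.LiesOver p],
        @IsPurelyInseparable p.ResidueField q.ResidueField _ _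
          (Ideal.ResidueField.mapₐ p q (Algebra.ofId R S) (q.over_def p)).toRingHom.toAlgebra := by
  haveI := integral G hG hpow
  have hrig := rigid G hG hpow
  refine ⟨isHomeomorph_comap hker hrig, fun q _ p _ _ => ?_⟩
  refine isPurelyInseparable_residue hrig p q _ ?_
  intro r
  change Ideal.ResidueField.mapₐ p q (Algebra.ofId R S) (q.over_def p) _ = _
  rw [Ideal.ResidueField.mapₐ_apply, Ideal.ResidueField.map_algebraMap]
  rfl

end

/-- Let R → S be a ring map whose kernel consists of nilpotent elements, and suppose S is generated as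
an R-algebra by elements x for which some power (T − x)ⁿ, n > 0, is the image of a polynomial over
R. Then Spec S → Spec R is a homeomorphism, and for every prime 𝔮 of S over 𝔭 the extension
κ(𝔮)/κ(𝔭) is purely inseparable. -/
theorem result {R S : Type u} [CommRing R] [CommRing S] [Algebra R S]
    (hker : ∀ r : R, algebraMap R S r = 0 → IsNilpotent r) (G : Set S) (hG : Algebra.adjoin R G = ⊤)
    (hpow : ∀ x ∈ G, ∃ (n : ℕ) (P : Polynomial R), 0 < n ∧
      Polynomial.map (algebraMap R S) P = (Polynomial.X - Polynomial.C x) ^ n) :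
    IsHomeomorph (PrimeSpectrum.comap (algebraMap R S)) ∧
      ∀ (q : Ideal S) [q.IsPrime] (p : Ideal R) [p.IsPrime] [q.LiesOver p],
        @IsPurelyInseparable p.ResidueField q.ResidueField _ _
          (Ideal.ResidueField.mapₐ p q (Algebra.ofId R S) (q.over_def p)).toRingHom.toAlgebra := by
  exact Groth.Agent.S2161.main hker G hG hpow

end Groth.Agent.S2161
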