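import Groth.Statements.S2163
import Mathlib
-- import your own Groth.Agent.* helpers here

set_option autoImplicit false
universe u
open CAlg

namespace Groth.Agent.S2163

section

variable {R : Type u} [CommRing R]

theorem flat_of_coherent (hcoh : ∀ I : Ideal R, I.FG → Module.FinitePresentation R I)
    (A : Type u) : Module.Flat R (A → R) := by
  classical
  apply Module.Flat.of_forall_isTrivialRelation
  intro l f x hfx
  let ψ : (Fin l → R) →ₗ[R] R := Fintype.linearCombination R f
  have hψ : ∀ c, ψ c = ∑ i, c i * f i := fun c => by
    simp [ψ, Fintype.linearCombination_apply]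
  have hfg : (LinearMap.range ψ).FG := Module.Finite.iff_fg.mp (Module.Finite.range ψ)
  haveI : Module.FinitePresentation R (LinearMap.range ψ) := hcoh (LinearMap.range ψ) hfg
  have hK : (LinearMap.ker ψ).FG := by
    have := Module.FinitePresentation.fg_ker (LinearMap.rangeRestrict ψ)
      (LinearMap.surjective_rangeRestrict ψ)
    rwa [LinearMap.ker_rangeRestrict] at this
  obtain ⟨m, k, hk⟩ := Submodule.fg_iff_exists_fin_generating_family.mp hK
  have hmem : ∀ a : A, (fun i => x i a) ∈ Submodule.span R (Set.range k) := by
    intro a
    rw [hk, LinearMap.mem_ker, hψ]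
    have := congrFun hfx a
    simp only [Finset.sum_apply, Pi.smul_apply, smul_eq_mul, Pi.zero_apply] at this
    rw [← this]
    exact Finset.sum_congr rfl fun i _ => mul_comm _ _
  choose c hc using fun a => (Submodule.mem_span_range_iff_exists_fun R).mp (hmem a)
  refine ⟨m, fun i j => k j i, fun j a => c a j, ?_, ?_⟩
  · intro i
    funext a
    have := congrFun (hc a) i
    simp only [Finset.sum_apply, Pi.smul_apply, smul_eq_mul] at this ⊢
    rw [← this]
    exact Finset.sum_congr rfl fun j _ => mul_comm _ _
  · intro j
    have hkj : k j ∈ LinearMap.ker ψ := hk ▸ Submodule.subset_span ⟨j, rfl⟩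
    rw [LinearMap.mem_ker, hψ] at hkj
    rw [← hkj]
    exact Finset.sum_congr rfl fun i _ => mul_comm _ _

theorem coherent_of_flat (hflat : ∀ A : Type u, Module.Flat R (A → R)) (I : Ideal R)
    (hI : I.FG) : Module.FinitePresentation R I := by
  classical
  obtain ⟨l, f, hf⟩ := Submodule.fg_iff_exists_fin_generating_family.mp hI
  let ψ : (Fin l → R) →ₗ[R] R := Fintype.linearCombination R f
  have hψ : ∀ c, ψ c = ∑ i, c i * f i := fun c => by
    simp [ψ, Fintype.linearCombination_apply]
  have hrange : LinearMap.range ψ = I := by
    rw [Fintype.range_linearCombination, hf]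
  have hKfg : (LinearMap.ker ψ).FG := by
    haveI := hflat (LinearMap.ker ψ)
    let x : Fin l → (LinearMap.ker ψ → R) := fun i k => k.1 i
    have hx : ∑ i, f i • x i = 0 := by
      funext k
      have := k.2
      rw [LinearMap.mem_ker, hψ] at this
      simp only [Finset.sum_apply, Pi.smul_apply, smul_eq_mul, Pi.zero_apply, x]
      rw [← this]
      exact Finset.sum_congr rfl fun i _ => mul_comm _ _
    obtain ⟨m, a, y, hxy, hfa⟩ := Module.Flat.isTrivialRelation_of_sum_smul_eq_zero hx
    refine Submodule.fg_iff_exists_fin_generating_family.mpr ⟨m, fun j i => a i j, ?_⟩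
    apply le_antisymm
    · rw [Submodule.span_le]
      rintro _ ⟨j, rfl⟩
      change _ ∈ LinearMap.ker ψ
      rw [LinearMap.mem_ker, hψ, ← hfa j]
      exact Finset.sum_congr rfl fun i _ => mul_comm _ _
    · intro k hk
      have : k = ∑ j, y j ⟨k, hk⟩ • (fun i => a i j) := by
        funext i
        have := congrFun (hxy i) ⟨k, hk⟩
        simp only [Finset.sum_apply, Pi.smul_apply, smul_eq_mul, x] at this ⊢
        rw [this]
        exact Finset.sum_congr rfl fun j _ => mul_comm _ _
      rw [this]
      exact Submodule.sum_mem _ fun j _ => Submodule.smul_mem _ _ (Submodule.subset_span ⟨j, rfl⟩)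
  have hfp : Module.FinitePresentation R (LinearMap.range ψ) :=
    Module.finitePresentation_of_free_of_surjective (LinearMap.rangeRestrict ψ)
      (LinearMap.surjective_rangeRestrict ψ) (by rwa [LinearMap.ker_rangeRestrict])
  exact Module.FinitePresentation.of_equiv (LinearEquiv.ofEq _ _ hrange)

theorem main : (∀ I : Ideal R, I.FG → Module.FinitePresentation R I) ↔
    ∀ (A : Type u), Module.Flat R (A → R) :=
  ⟨fun h A => flat_of_coherent h A, fun h I hI => coherent_of_flat h I hI⟩

end

/-- A ring `R` is coherent — every finitely generated ideal is a finitely presented module — if and only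
if for every index set `A` (in the same universe) the product module `R^A` is flat. -/
theorem result {R : Type u} [CommRing R] :
    (∀ I : Ideal R, I.FG → Module.FinitePresentation R I) ↔ ∀ (A : Type u), Module.Flat R (A → R) := by
  exact Groth.Agent.S2163.main

end Groth.Agent.S2163
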