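import Groth.Statements.S2165
import Groth.Agent.Lib.Helper5.CompReg2
import Groth.Agent.Lib.Helper1.FC2

set_option autoImplicit false
universe u
open LCI

namespace Groth.Agent.S2165

/-- Let R be a regular ring, p a prime ideal of R and f_1, ..., f_r a regular sequence of R contained in
p. Then the local ring R_p/(f_1, ..., f_r) is a complete intersection: its completion is a regular
local ring modulo a regular sequence. The instance hypothesis that the quotient is local always
holds. -/
theorem result {R : Type u} [CommRing R] [IsRegularRing R]
    (p : Ideal R) [p.IsPrime] (rs : List R) (hmem : ∀ r ∈ rs, r ∈ p)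
    (hreg : RingTheory.Sequence.IsRegular R rs)
    [IsLocalRing (Localization.AtPrime p ⧸
      Ideal.map (algebraMap R (Localization.AtPrime p)) (Ideal.ofList rs))] :
    Pi1.IsCompleteIntersection (Localization.AtPrime p ⧸
      Ideal.map (algebraMap R (Localization.AtPrime p)) (Ideal.ofList rs)) := by
  classical
  haveI : IsRegularLocalRing (Localization.AtPrime p) := inferInstance
  haveI : IsNoetherianRing (Localization.AtPrime p) := inferInstance
  haveI : Nontrivial (Localization.AtPrime p ⧸
      Ideal.map (algebraMap R (Localization.AtPrime p)) (Ideal.ofList rs)) := inferInstance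
  have hm : IsLocalRing.maximalIdeal (Localization.AtPrime p) ≠ ⊤ := Ideal.IsPrime.ne_top'
  haveI hloc : IsLocalRing (AdicCompletion (IsLocalRing.maximalIdeal (Localization.AtPrime p))
      (Localization.AtPrime p)) :=
    Groth.Agent.Helper5.CompReg.isLocalRing_adicCompletion _ _ hm
  haveI hregc : IsRegularLocalRing
      (AdicCompletion (IsLocalRing.maximalIdeal (Localization.AtPrime p))
        (Localization.AtPrime p)) :=
    (Groth.Agent.Helper5.CompReg.isRegularLocalRing_iff_adicCompletion _ _ hm).1 inferInstance
  have h1 : RingTheory.Sequence.IsRegular (Localization.AtPrime p)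
      (rs.map (algebraMap R (Localization.AtPrime p))) :=
    hreg.1.isRegular_of_isLocalization_of_mem (Localization.AtPrime p) p hmem
  have h2 : RingTheory.Sequence.IsWeaklyRegular
      (AdicCompletion (IsLocalRing.maximalIdeal (Localization.AtPrime p)) (Localization.AtPrime p))
      ((rs.map (algebraMap R (Localization.AtPrime p))).map
        (algebraMap (Localization.AtPrime p)
          (AdicCompletion (IsLocalRing.maximalIdeal (Localization.AtPrime p))
            (Localization.AtPrime p)))) :=
    h1.1.of_flat
  have hmem' : ∀ r ∈ (rs.map (algebraMap R (Localization.AtPrime p))).map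
        (algebraMap (Localization.AtPrime p)
          (AdicCompletion (IsLocalRing.maximalIdeal (Localization.AtPrime p))
            (Localization.AtPrime p))),
      r ∈ IsLocalRing.maximalIdeal
        (AdicCompletion (IsLocalRing.maximalIdeal (Localization.AtPrime p))
          (Localization.AtPrime p)) := by
    intro r hr
    obtain ⟨a, ha, rfl⟩ := List.mem_map.mp hr
    obtain ⟨b, hb, rfl⟩ := List.mem_map.mp ha
    rw [Groth.Agent.Helper5.CompReg.maximalIdeal_adicCompletion _ _ hm]
    apply Ideal.mem_map_of_mem
    exact (IsLocalization.AtPrime.to_map_mem_maximal_iff (Localization.AtPrime p) p b).2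
      (hmem b hb)
  have h3 : RingTheory.Sequence.IsRegular
      (AdicCompletion (IsLocalRing.maximalIdeal (Localization.AtPrime p)) (Localization.AtPrime p))
      ((rs.map (algebraMap R (Localization.AtPrime p))).map
        (algebraMap (Localization.AtPrime p)
          (AdicCompletion (IsLocalRing.maximalIdeal (Localization.AtPrime p))
            (Localization.AtPrime p)))) :=
    (IsLocalRing.isRegular_iff_isWeaklyRegular_of_subset_maximalIdeal hmem').2 h2
  obtain ⟨e⟩ := Groth.Agent.Helper1.FC.nonempty_cpl_quotient_equiv (Localization.AtPrime p)
    (Ideal.map (algebraMap R (Localization.AtPrime p)) (Ideal.ofList rs))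
  have hI : (Ideal.map (algebraMap R (Localization.AtPrime p)) (Ideal.ofList rs)).map
      (algebraMap (Localization.AtPrime p)
        (AdicCompletion (IsLocalRing.maximalIdeal (Localization.AtPrime p))
          (Localization.AtPrime p))) =
      Ideal.span {r | r ∈ (rs.map (algebraMap R (Localization.AtPrime p))).map
        (algebraMap (Localization.AtPrime p)
          (AdicCompletion (IsLocalRing.maximalIdeal (Localization.AtPrime p))
            (Localization.AtPrime p)))} := by
    rw [Ideal.map_ofList, Ideal.map_ofList]
  refine ⟨_, inferInstance, hregc, _, hmem', h3, ⟨?_⟩⟩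
  exact e.symm.trans (Ideal.quotEquivOfEq hI)

end Groth.Agent.S2165
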