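import Groth.Statements.S2169
-- import your own Groth.Agent.* helpers here
import Groth.Agent.Lib.Helper3.CI5

set_option autoImplicit false
universe u
open LCI

namespace Groth.Agent.S2169

/-- Let A be a complete Noetherian local ring whose completion is a regular local ring modulo a regular
sequence. Then for every surjection R -> A from a regular local ring R, the kernel is generated by a
regular sequence of R. -/
theorem result {A R : Type u} [CommRing A] [CommRing R]
    [IsNoetherianRing A] [IsLocalRing A] [IsAdicComplete (IsLocalRing.maximalIdeal A) A]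
    [IsRegularLocalRing R] (f : R →+* A) (hf : Function.Surjective f)
    (hA : Pi1.IsCompleteIntersection A) :
    ∃ rs : List R, Ideal.ofList rs = RingHom.ker f ∧ RingTheory.Sequence.IsRegular R rs := by
  obtain ⟨B', i1, i2, rs, hmem, hreg, ⟨ψ⟩⟩ := hA
  have hC : Groth.Agent.Helper3.CI4.IsRegQuot A :=
    ⟨B', i1, i2, rs, hmem, hreg,
      ⟨((AdicCompletion.ofAlgEquiv (IsLocalRing.maximalIdeal A)).toRingEquiv).trans ψ⟩⟩
  exact Groth.Agent.Helper3.CI5.exists_regular_ker A hC R f hf

end Groth.Agent.S2169
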