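import Groth.Statements.S2170
import Groth.Agent.Lib.Helper4.SymMat
set_option autoImplicit false
open Finset
open Models
namespace Groth.Agent.S2170
open Groth.Agent.Helper4
/-- Let A be a symmetric real n × n matrix with non-negative off-diagonal entries and m a vector with
positive entries such that for every i, ∑_{j ≠ i} A_{ij} m_j ≤ −A_{ii} m_i. Then the kernel of A is
the span of the vectors equal to m on an index set I and zero off I, for those I such that A_{ij} =
0 whenever i ∈ I and j ∉ I and such that equality holds in the above inequality for every i ∈ I. The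
published statement omits the symmetry of A (without which it fails) and applies it only to
symmetric matrices; stated here with A symmetric. -/
theorem result {n : ℕ} (A : Matrix (Fin n) (Fin n) ℝ) (m : Fin n → ℝ)
    (hsymm : A.IsSymm) (hA : ∀ i j, i ≠ j → 0 ≤ A i j) (hm : ∀ i, 0 < m i)
    (hle : ∀ i, ∑ j ∈ univ.erase i, A i j * m j ≤ -(A i i * m i)) :
    LinearMap.ker (Matrix.mulVecLin A) = Submodule.span ℝ
      {x : Fin n → ℝ | ∃ I : Finset (Fin n), (∀ i ∈ I, ∀ j ∉ I, A i j = 0) ∧
        (∀ i ∈ I, ∑ j ∈ univ.erase i, A i j * m j = -(A i i * m i)) ∧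
        x = fun i => if i ∈ I then m i else 0} := by
  have hsplit : ∀ i, ∑ j, A i j * m j = A i i * m i + ∑ j ∈ univ.erase i, A i j * m j := fun i => by
    rw [Finset.add_sum_erase univ (fun j => A i j * m j) (mem_univ i)]
  have hr : ∀ i, ∑ j, A i j * m j ≤ 0 := fun i => by rw [hsplit]; linarith [hle i]
  apply le_antisymm
  · intro x hxker
    rw [LinearMap.mem_ker, Matrix.mulVecLin_apply] at hxker
    set y : Fin n → ℝ := fun i => x i / m i with hy
    have hx : x = fun i => m i * y i := by
      funext i
      simp only [hy]
      field_simp [(hm i).ne']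
    have hxi : ∀ i, x i = m i * y i := fun i => congrFun hx i
    have hid := quad_identity A m y hsymm
    rw [← hx, hxker, dotProduct_zero] at hid
    have hterm := term_nonneg A m y hA hm
    have hterm1 : ∀ i, (∑ j, A i j * m j) * m i * (y i) ^ 2 ≤ 0 := fun i => by
      have h1 := hr i
      have h2 : 0 ≤ m i * (y i) ^ 2 := mul_nonneg (hm i).le (sq_nonneg _)
      nlinarith [mul_nonneg (neg_nonneg.mpr h1) h2]
    have hT1 : ∑ i, (∑ j, A i j * m j) * m i * (y i) ^ 2 ≤ 0 :=
      Finset.sum_nonpos fun i _ => hterm1 i
    have hT2 : 0 ≤ ∑ i, ∑ j, A i j * m i * m j * (y i - y j) ^ 2 :=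
      Finset.sum_nonneg fun i _ => Finset.sum_nonneg fun j _ => hterm i j
    have hT1z : ∑ i, (∑ j, A i j * m j) * m i * (y i) ^ 2 = 0 := by linarith
    have hT2z : ∑ i, ∑ j, A i j * m i * m j * (y i - y j) ^ 2 = 0 := by linarith
    have hall : ∀ i j, A i j * m i * m j * (y i - y j) ^ 2 = 0 := by
      intro i j
      have h1 := (Finset.sum_eq_zero_iff_of_nonneg
        (fun i _ => Finset.sum_nonneg fun j _ => hterm i j)).mp hT2z i (mem_univ i)
      exact (Finset.sum_eq_zero_iff_of_nonneg (fun j _ => hterm i j)).mp h1 j (mem_univ j)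
    have heq : ∀ i j, A i j ≠ 0 → y i = y j := fun i j hij =>
      eq_of_term_zero A m y hm i j (hall i j) hij
    have hall1 : ∀ i, (∑ j, A i j * m j) * m i * (y i) ^ 2 = 0 := fun i =>
      (Finset.sum_eq_zero_iff_of_nonpos (fun i _ => hterm1 i)).mp hT1z i (mem_univ i)
    have hrow : ∀ i, y i ≠ 0 → ∑ j, A i j * m j = 0 := by
      intro i hyi
      have h1 := hall1 i
      have h2 : m i * (y i) ^ 2 ≠ 0 := mul_ne_zero (hm i).ne' (pow_ne_zero 2 hyi)
      rw [mul_assoc] at h1
      exact (mul_eq_zero.mp h1).resolve_right h2
    -- decomposition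
    let S : Finset ℝ := (univ.image y).erase 0
    let I : ℝ → Finset (Fin n) := fun c => univ.filter (fun i => y i = c)
    have hdecomp : x = ∑ c ∈ S, c • (fun i => if i ∈ I c then m i else 0) := by
      funext i
      simp only [Finset.sum_apply, Pi.smul_apply, smul_eq_mul]
      by_cases h0 : y i = 0
      · rw [hxi i, h0, mul_zero]
        symm
        apply Finset.sum_eq_zero
        intro c hc
        have hc0 : c ≠ 0 := (Finset.mem_erase.mp hc).1
        have : i ∉ I c := by
          simp only [I, mem_filter, mem_univ, true_and]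
          rw [h0]; exact fun h => hc0 h.symm
        rw [if_neg this, mul_zero]
      · have hyS : y i ∈ S := Finset.mem_erase.mpr ⟨h0, Finset.mem_image_of_mem y (mem_univ i)⟩
        rw [Finset.sum_eq_single (y i)]
        · have : i ∈ I (y i) := by simp only [I, mem_filter, mem_univ, true_and]
          rw [if_pos this, hxi i, mul_comm]
        · intro c _ hc
          have : i ∉ I c := by
            simp only [I, mem_filter, mem_univ, true_and]
            exact fun h => hc h.symm
          rw [if_neg this, mul_zero]
        · intro h; exact absurd hyS h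
    rw [hdecomp]
    refine Submodule.sum_mem _ fun c hc => Submodule.smul_mem _ _ (Submodule.subset_span ?_)
    have hc0 : c ≠ 0 := (Finset.mem_erase.mp hc).1
    refine ⟨I c, ?_, ?_, rfl⟩
    · intro i hi j hj
      by_contra hAij
      have h3 := heq i j hAij
      simp only [I, mem_filter, mem_univ, true_and] at hi hj
      exact hj (h3 ▸ hi)
    · intro i hi
      simp only [I, mem_filter, mem_univ, true_and] at hi
      have h4 := hrow i (by rw [hi]; exact hc0)
      rw [hsplit] at h4
      linarith
  · rw [Submodule.span_le]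
    rintro x ⟨I, h1, h2, rfl⟩
    rw [SetLike.mem_coe, LinearMap.mem_ker, Matrix.mulVecLin_apply]
    funext i
    simp only [Matrix.mulVec, dotProduct, Pi.zero_apply]
    by_cases hi : i ∈ I
    · have : ∑ j, A i j * (if j ∈ I then m j else 0) = ∑ j, A i j * m j := by
        refine Finset.sum_congr rfl fun j _ => ?_
        by_cases hj : j ∈ I
        · rw [if_pos hj]
        · rw [if_neg hj, h1 i hi j hj, zero_mul, zero_mul]
      rw [this, hsplit, h2 i hi]
      ring
    · apply Finset.sum_eq_zero
      intro j _
      by_cases hj : j ∈ I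
      · have : A i j = 0 := (hsymm.apply j i).trans (h1 j hj i hi)
        rw [this, zero_mul]
      · rw [if_neg hj, mul_zero]
end Groth.Agent.S2170
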