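import Groth.Statements.S2175
import Mathlib
import Groth.Agent.Lib.Helper4.NumType
-- import your own Groth.Agent.* helpers here

set_option autoImplicit false
open Finset
open Models Models.NumericalType

namespace Groth.Agent.S2175

section
open Finset Models Models.NumericalType Groth.Agent.Helper4

/-- integer bookkeeping for the contracted `w` and `g`. -/
lemma int_facts (wi wl A g : ℤ) (hwi : 0 < wi) (hwl : 0 < wl) (hA : 0 ≤ A)
    (h1 : wi ∣ A) (h2 : wl ∣ A) (hg : 0 ≤ g) (w' g' : ℤ)
    (hw' : w' = if (2 ∣ A / wl ∧ ¬ 2 ∣ A / wi) then wi / 2 else wi)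
    (hg' : g' = wi / w' * (g - 1) + 1 + (A ^ 2 - wl * A) / (2 * w' * wl)) :
    0 < w' ∧ w' ∣ wi ∧ 0 ≤ g' ∧ 2 * w' * (g' - 1) = 2 * wi * (g - 1) + A * (A / wl) - A := by
  obtain ⟨c, rfl⟩ := h2
  obtain ⟨d, hd⟩ := h1
  have hc0 : 0 ≤ c := by
    by_contra h
    push Not at h
    have := mul_neg_of_pos_of_neg hwl h
    linarith
  have hd0 : 0 ≤ d := by
    by_contra h
    push Not at h
    have := mul_neg_of_pos_of_neg hwi h
    linarith
  have e1 : wl * c / wl = c := Int.mul_ediv_cancel_left _ hwl.ne'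
  have e2 : wl * c / wi = d := by rw [hd]; exact Int.mul_ediv_cancel_left _ hwi.ne'
  rw [e1, e2] at hw'
  rw [e1]
  have hnum : (wl * c) ^ 2 - wl * (wl * c) = wi * wl * (d * (c - 1)) := by
    have : (wl * c) ^ 2 - wl * (wl * c) = (wl * c) * wl * (c - 1) := by ring
    rw [this, hd]; ring
  by_cases hcond : (2 ∣ c ∧ ¬ 2 ∣ d)
  · rw [if_pos hcond] at hw'
    obtain ⟨hc2, hd2⟩ := hcond
    have hwi2 : (2 : ℤ) ∣ wi := by
      have h3 : (2 : ℤ) ∣ wi * d := by rw [← hd]; exact Dvd.dvd.mul_left hc2 wl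
      rcases Int.prime_two.dvd_or_dvd h3 with h | h
      · exact h
      · exact absurd h hd2
    obtain ⟨v, hv⟩ := hwi2
    have hw'v : w' = v := by rw [hw', hv]; exact Int.mul_ediv_cancel_left _ two_ne_zero
    have hv0 : 0 < v := by omega
    have hdiv : wi / w' = 2 := by
      rw [hw'v, hv]; exact Int.mul_ediv_cancel _ hv0.ne'
    have hq : ((wl * c) ^ 2 - wl * (wl * c)) / (2 * w' * wl) = d * (c - 1) := by
      rw [hnum, hw'v, ← hv]
      exact Int.mul_ediv_cancel_left _ (mul_pos hwi hwl).ne'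
    rw [hdiv, hq] at hg'
    have hd1 : 1 ≤ d := by
      rcases hd0.lt_or_eq with h | h
      · omega
      · exfalso; apply hd2; rw [← h]; exact dvd_zero _
    have hc2' : 2 ≤ c := by
      obtain ⟨t, ht⟩ := hc2
      have hcpos : 0 < c := by
        rcases hc0.lt_or_eq with h | h
        · exact h
        · exfalso
          rw [← h, mul_zero] at hd
          have : wi * d > 0 := mul_pos hwi (by omega)
          omega
      omega
    refine ⟨by rw [hw'v]; exact hv0, ⟨2, by rw [hw'v, hv]; ring⟩, ?_, ?_⟩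
    · rw [hg']
      have : 1 ≤ d * (c - 1) := by nlinarith
      linarith
    · rw [hg', hw'v, hv, hd]
      have : wi * d = wl * c := hd.symm
      rw [hv] at this
      nlinarith
  · rw [if_neg hcond] at hw'
    have h2dc : (2 : ℤ) ∣ d * (c - 1) := by
      by_cases hc2 : (2 : ℤ) ∣ c
      · have : (2 : ℤ) ∣ d := by
          by_contra h
          exact hcond ⟨hc2, h⟩
        exact Dvd.dvd.mul_right this _
      · have : (2 : ℤ) ∣ c - 1 := by omega
        exact Dvd.dvd.mul_left this _
    obtain ⟨t, ht⟩ := h2dc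
    have hdiv : wi / w' = 1 := by rw [hw']; exact Int.ediv_self hwi.ne'
    have hq : ((wl * c) ^ 2 - wl * (wl * c)) / (2 * w' * wl) = t := by
      rw [hnum, hw', ht]
      have : wi * wl * (2 * t) = (2 * wi * wl) * t := by ring
      rw [this]
      exact Int.mul_ediv_cancel_left _ (by positivity)
    rw [hdiv, hq] at hg'
    have ht0 : 0 ≤ t := by
      have : 0 ≤ d * (c - 1) := by
        rcases hc0.lt_or_eq with h | h
        · exact mul_nonneg hd0 (by omega)
        · have : d = 0 := by
            rw [← h, mul_zero] at hd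
            rcases mul_eq_zero.mp hd.symm with h' | h'
            · omega
            · exact h'
          rw [this, zero_mul]
      omega
    refine ⟨by rw [hw']; exact hwi, by rw [hw'], ?_, ?_⟩
    · rw [hg']; linarith
    · rw [hg', hw']
      have h5 : wi * (2 * t) = wl * c * c - wl * c := by
        rw [← ht, ← mul_assoc, ← hd]; ring
      linear_combination h5


variable {n : ℕ} (T : Models.NumericalType (n + 1))

lemma A_nonneg (i : Fin n) : 0 ≤ T.a i.castSucc (Fin.last n) :=
  T.offDiag_nonneg _ _ (Fin.castSucc_lt_last i).ne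

lemma a_symm (i j : Fin (n + 1)) : T.a i j = T.a j i := (T.symm.apply i j).symm

lemma wl_dvd (i : Fin n) : T.w (Fin.last n) ∣ T.a i.castSucc (Fin.last n) := by
  rw [a_symm]; exact T.w_dvd _ _

lemma wi_dvd (i : Fin n) : T.w i.castSucc ∣ T.a i.castSucc (Fin.last n) := T.w_dvd _ _

/-- the contracted matrix -/
def a' (i j : Fin n) : ℤ :=
  T.a i.castSucc j.castSucc -
    T.a i.castSucc (Fin.last n) * T.a j.castSucc (Fin.last n) / T.a (Fin.last n) (Fin.last n)

lemma a'_eq (h : T.IsMinusOne (Fin.last n)) (i j : Fin n) :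
    a' T i j = T.a i.castSucc j.castSucc +
      T.a i.castSucc (Fin.last n) * (T.a j.castSucc (Fin.last n) / T.w (Fin.last n)) := by
  unfold a'
  rw [h.2, Int.ediv_neg, Int.mul_ediv_assoc _ (wl_dvd T j)]
  ring

lemma a'_symm (h : T.IsMinusOne (Fin.last n)) (i j : Fin n) : a' T i j = a' T j i := by
  unfold a'
  rw [a_symm T i.castSucc j.castSucc, mul_comm]

lemma quot_nonneg (i : Fin n) : 0 ≤ T.a i.castSucc (Fin.last n) / T.w (Fin.last n) :=
  Int.ediv_nonneg (A_nonneg T i) (T.w_pos _).le

lemma a'_ge (h : T.IsMinusOne (Fin.last n)) (i j : Fin n) :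
    T.a i.castSucc j.castSucc ≤ a' T i j := by
  rw [a'_eq T h]
  have := mul_nonneg (A_nonneg T i) (quot_nonneg T j)
  linarith

lemma castSucc_ne {i j : Fin n} (hij : i ≠ j) : i.castSucc ≠ j.castSucc :=
  fun h => hij (Fin.castSucc_injective n h)

lemma a'_offDiag (h : T.IsMinusOne (Fin.last n)) (i j : Fin n) (hij : i ≠ j) : 0 ≤ a' T i j :=
  le_trans (T.offDiag_nonneg _ _ (castSucc_ne hij)) (a'_ge T h i j)

lemma row_i (i : Fin n) :
    ∑ j : Fin n, T.a i.castSucc j.castSucc * T.m j.castSucc =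
      -(T.a i.castSucc (Fin.last n) * T.m (Fin.last n)) := by
  have := NT_row_sum T i.castSucc
  rw [Fin.sum_univ_castSucc] at this
  linarith

lemma row_l (h : T.IsMinusOne (Fin.last n)) :
    ∑ j : Fin n, T.a j.castSucc (Fin.last n) * T.m j.castSucc =
      T.w (Fin.last n) * T.m (Fin.last n) := by
  have := NT_row_sum T (Fin.last n)
  rw [Fin.sum_univ_castSucc, h.2] at this
  have e : ∑ j : Fin n, T.a (Fin.last n) j.castSucc * T.m j.castSucc =
      ∑ j : Fin n, T.a j.castSucc (Fin.last n) * T.m j.castSucc :=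
    Finset.sum_congr rfl fun j _ => by rw [a_symm]
  rw [e] at this
  linarith

lemma row_l' (h : T.IsMinusOne (Fin.last n)) :
    ∑ j : Fin n, (T.a j.castSucc (Fin.last n) / T.w (Fin.last n)) * T.m j.castSucc =
      T.m (Fin.last n) := by
  have h1 := row_l T h
  have hw := T.w_pos (Fin.last n)
  have h2 : T.w (Fin.last n) * ∑ j : Fin n,
      (T.a j.castSucc (Fin.last n) / T.w (Fin.last n)) * T.m j.castSucc =
      T.w (Fin.last n) * T.m (Fin.last n) := by
    rw [← h1, Finset.mul_sum]
    apply Finset.sum_congr rfl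
    intro j _
    rw [← mul_assoc, Int.mul_ediv_cancel' (wl_dvd T j)]
  exact mul_left_cancel₀ hw.ne' h2

lemma a'_mulVec (h : T.IsMinusOne (Fin.last n)) (i : Fin n) :
    ∑ j : Fin n, a' T i j * T.m j.castSucc = 0 := by
  have e : ∀ j : Fin n, a' T i j * T.m j.castSucc =
      T.a i.castSucc j.castSucc * T.m j.castSucc + T.a i.castSucc (Fin.last n) *
        ((T.a j.castSucc (Fin.last n) / T.w (Fin.last n)) * T.m j.castSucc) := by
    intro j; rw [a'_eq T h]; ring
  rw [Finset.sum_congr rfl fun j _ => e j, Finset.sum_add_distrib, ← Finset.mul_sum,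
    row_i, row_l' T h]
  ring

lemma n_pos (h : T.IsMinusOne (Fin.last n)) : 0 < n := by
  rcases Nat.eq_zero_or_pos n with h0 | h0
  · exfalso
    subst h0
    have := NT_row_sum T (Fin.last 0)
    rw [Fin.sum_univ_castSucc] at this
    simp only [Finset.univ_eq_empty, Finset.sum_empty, zero_add] at this
    rw [h.2] at this
    have h1 := T.w_pos (Fin.last 0)
    have h2 := T.m_pos (Fin.last 0)
    have : T.w (Fin.last 0) * T.m (Fin.last 0) > 0 := mul_pos h1 h2
    linarith
  · exact h0


lemma a'_connected (h : T.IsMinusOne (Fin.last n)) (I : Finset (Fin n)) (hI : I.Nonempty)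
    (hI' : I ≠ univ) : ∃ i ∈ I, ∃ j ∉ I, a' T i j ≠ 0 := by
  by_contra hcon
  push Not at hcon
  have hz : ∀ i ∈ I, ∀ j ∉ I, T.a i.castSucc j.castSucc = 0 := by
    intro i hi j hj
    have h1 := a'_ge T h i j
    rw [hcon i hi j hj] at h1
    have hij : i ≠ j := fun e => hj (e ▸ hi)
    exact le_antisymm h1 (T.offDiag_nonneg _ _ (castSucc_ne hij))
  -- some i ∈ I with A i ≠ 0
  have h1 : ∃ i ∈ I, T.a i.castSucc (Fin.last n) ≠ 0 := by
    have hne : (I.map Fin.castSuccEmb).Nonempty := hI.map
    have hu : I.map Fin.castSuccEmb ≠ univ := by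
      intro e
      have : Fin.last n ∈ I.map Fin.castSuccEmb := e ▸ mem_univ _
      obtain ⟨x, _, hx⟩ := Finset.mem_map.mp this
      exact (Fin.castSucc_lt_last x).ne hx
    obtain ⟨x, hx, y, hy, hxy⟩ := T.connected _ hne hu
    obtain ⟨i, hi, rfl⟩ := Finset.mem_map.mp hx
    rcases Fin.eq_castSucc_or_eq_last y with ⟨j, rfl⟩ | rfl
    · exfalso
      have hj : j ∉ I := fun hj => hy (Finset.mem_map.mpr ⟨j, hj, rfl⟩)
      exact hxy (hz i hi j hj)
    · exact ⟨i, hi, hxy⟩
  have h2 : ∃ j ∉ I, T.a j.castSucc (Fin.last n) ≠ 0 := by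
    have hne' : (univ \ I).Nonempty := by
      rw [Finset.nonempty_iff_ne_empty]
      intro e
      apply hI'
      rw [Finset.sdiff_eq_empty_iff_subset] at e
      exact Finset.eq_univ_of_forall fun x => e (mem_univ x)
    have hne : ((univ \ I).map Fin.castSuccEmb).Nonempty := hne'.map
    have hu : (univ \ I).map Fin.castSuccEmb ≠ univ := by
      intro e
      have : Fin.last n ∈ (univ \ I).map Fin.castSuccEmb := e ▸ mem_univ _
      obtain ⟨x, _, hx⟩ := Finset.mem_map.mp this
      exact (Fin.castSucc_lt_last x).ne hx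
    obtain ⟨x, hx, y, hy, hxy⟩ := T.connected _ hne hu
    obtain ⟨j, hj, rfl⟩ := Finset.mem_map.mp hx
    have hjI : j ∉ I := (Finset.mem_sdiff.mp hj).2
    rcases Fin.eq_castSucc_or_eq_last y with ⟨i, rfl⟩ | rfl
    · exfalso
      have hi : i ∈ I := by
        by_contra hi
        exact hy (Finset.mem_map.mpr ⟨i, Finset.mem_sdiff.mpr ⟨mem_univ _, hi⟩, rfl⟩)
      apply hxy
      rw [a_symm]
      exact hz i hi j hjI
    · exact ⟨j, hjI, hxy⟩
  obtain ⟨i, hi, hAi⟩ := h1
  obtain ⟨j, hj, hAj⟩ := h2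
  have h3 := hcon i hi j hj
  rw [a'_eq T h, hz i hi j hj, zero_add] at h3
  have hAi' : 0 < T.a i.castSucc (Fin.last n) := lt_of_le_of_ne (A_nonneg T i) (Ne.symm hAi)
  have hAj' : 0 < T.a j.castSucc (Fin.last n) := lt_of_le_of_ne (A_nonneg T j) (Ne.symm hAj)
  have hq : 0 < T.a j.castSucc (Fin.last n) / T.w (Fin.last n) := by
    obtain ⟨c, hc⟩ := wl_dvd T j
    rw [hc, Int.mul_ediv_cancel_left _ (T.w_pos _).ne']
    rw [hc] at hAj'
    exact (mul_pos_iff_of_pos_left (T.w_pos _)).mp hAj'
  have := mul_pos hAi' hq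
  linarith

/-- contracted `w` -/
def w' (i : Fin n) : ℤ :=
  if 2 ∣ T.a i.castSucc (Fin.last n) / T.w (Fin.last n) ∧
      ¬ 2 ∣ T.a i.castSucc (Fin.last n) / T.w i.castSucc
  then T.w i.castSucc / 2 else T.w i.castSucc

/-- contracted `g` -/
def g' (i : Fin n) : ℤ :=
  T.w i.castSucc / w' T i * (T.g i.castSucc - 1) + 1 +
    (T.a i.castSucc (Fin.last n) ^ 2 - T.w (Fin.last n) * T.a i.castSucc (Fin.last n)) /
      (2 * w' T i * T.w (Fin.last n))

lemma facts (i : Fin n) :
    0 < w' T i ∧ w' T i ∣ T.w i.castSucc ∧ 0 ≤ g' T i ∧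
      2 * w' T i * (g' T i - 1) = 2 * T.w i.castSucc * (T.g i.castSucc - 1) +
        T.a i.castSucc (Fin.last n) * (T.a i.castSucc (Fin.last n) / T.w (Fin.last n)) -
          T.a i.castSucc (Fin.last n) :=
  int_facts (T.w i.castSucc) (T.w (Fin.last n)) (T.a i.castSucc (Fin.last n)) (T.g i.castSucc)
    (T.w_pos _) (T.w_pos _) (A_nonneg T i) (wi_dvd T i) (wl_dvd T i) (T.g_nonneg _) _ _ rfl rfl

lemma w'_dvd (h : T.IsMinusOne (Fin.last n)) (i j : Fin n) : w' T i ∣ a' T i j := by
  refine dvd_trans (facts T i).2.1 ?_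
  rw [a'_eq T h]
  exact dvd_add (T.w_dvd _ _) (Dvd.dvd.mul_right (wi_dvd T i) _)

/-- the contracted numerical type -/
def contr (h : T.IsMinusOne (Fin.last n)) : Models.NumericalType n where
  m := fun i => T.m i.castSucc
  a := fun i j => a' T i j
  w := w' T
  g := g' T
  pos := n_pos T h
  m_pos := fun i => T.m_pos _
  w_pos := fun i => (facts T i).1
  g_nonneg := fun i => (facts T i).2.2.1
  symm := by
    ext i j
    exact a'_symm T h j i
  offDiag_nonneg := a'_offDiag T h
  connected := a'_connected T h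
  mulVec_m := by
    ext i
    simp only [Matrix.mulVec, dotProduct, Pi.zero_apply]
    exact a'_mulVec T h i
  w_dvd := w'_dvd T h

lemma contr_isContraction (h : T.IsMinusOne (Fin.last n)) : T.IsContraction (contr T h) :=
  ⟨fun _ => rfl, fun _ _ => rfl, fun _ => rfl, fun _ => rfl⟩


lemma genus_eq (h : T.IsMinusOne (Fin.last n)) (T' : Models.NumericalType n)
    (hT' : T.IsContraction T') : T'.genus = T.genus := by
  obtain ⟨hm, ha, hw, hg⟩ := hT'
  have h1 := NT_two_genus T'
  have h2 := NT_two_genus T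
  rw [Fin.sum_univ_castSucc, h.1, h.2] at h2
  have key : ∀ i : Fin n, T'.m i * (2 * T'.w i * (T'.g i - 1) - T'.a i i) =
      T.m i.castSucc * (2 * T.w i.castSucc * (T.g i.castSucc - 1) - T.a i.castSucc i.castSucc) -
        T.a i.castSucc (Fin.last n) * T.m i.castSucc := by
    intro i
    have hf := (int_facts (T.w i.castSucc) (T.w (Fin.last n)) (T.a i.castSucc (Fin.last n))
      (T.g i.castSucc) (T.w_pos _) (T.w_pos _) (A_nonneg T i) (wi_dvd T i) (wl_dvd T i)
      (T.g_nonneg _) (T'.w i) (T'.g i) (hw i) (hg i)).2.2.2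
    have hai : T'.a i i = a' T i i := ha i i
    rw [hai, a'_eq T h, hm i, hf]
    ring
  rw [Finset.sum_congr rfl fun i _ => key i, Finset.sum_sub_distrib, row_l T h] at h1
  linarith

theorem main {n : ℕ} (T : Models.NumericalType (n + 1)) (h : T.IsMinusOne (Fin.last n)) :
    (∃ T' : Models.NumericalType n, T.IsContraction T') ∧
      ∀ T' : Models.NumericalType n, T.IsContraction T' → T'.genus = T.genus :=
  ⟨⟨contr T h, contr_isContraction T h⟩, genus_eq T h⟩

end

/-- Let T be a numerical type on n + 1 indices whose last index is a (-1)-index. Then the contracted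
data (same multiplicities, a i j - a i l a j l / a l l, the halved-or-not w i, and the adjusted g i,
l the last index) is again a numerical type on n indices, and any such contraction has the same
genus as T. -/
theorem result {n : ℕ} (T : Models.NumericalType (n + 1)) (h : T.IsMinusOne (Fin.last n)) :
    (∃ T' : Models.NumericalType n, T.IsContraction T') ∧
      ∀ T' : Models.NumericalType n, T.IsContraction T' → T'.genus = T.genus := by
  exact Groth.Agent.S2175.main T h

end Groth.Agent.S2175
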