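import Groth.Statements.S2176
import Groth.Agent.Lib.Helper4.NumType

set_option autoImplicit false
open Finset
open Models Models.NumericalType

namespace Groth.Agent.S2176

/-- A minimal numerical type (no (-1)-index) with n > 1 indices has genus at least 1. -/
theorem result {n : ℕ} (T : Models.NumericalType n) (hmin : T.IsMinimal) (hn : 1 < n) : 1 ≤ T.genus := by
  have h2 := Groth.Agent.Helper4.NT_two_genus T
  have hterm : ∀ i, 0 ≤ T.m i * (2 * T.w i * (T.g i - 1) - T.a i i) := by
    intro i
    apply mul_nonneg (T.m_pos i).le
    have hneg := Groth.Agent.Helper4.NT_diag_neg T hn i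
    obtain ⟨k, hk⟩ := T.w_dvd i i
    have hw := T.w_pos i
    have hg := T.g_nonneg i
    -- a i i = w i * k, k < 0
    have hk_neg : k < 0 := by
      by_contra h
      push Not at h
      have := mul_nonneg hw.le h
      linarith
    by_cases hg0 : T.g i = 0
    · have hk1 : k ≠ -1 := by
        intro hk1
        apply hmin i
        refine ⟨hg0, ?_⟩
        rw [hk, hk1]; ring
      have hk2 : k ≤ -2 := by omega
      rw [hg0, hk]
      nlinarith
    · have hg1 : 1 ≤ T.g i := by omega
      rw [hk]
      nlinarith
  have : 0 ≤ ∑ i, T.m i * (2 * T.w i * (T.g i - 1) - T.a i i) :=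
    Finset.sum_nonneg fun i _ => hterm i
  linarith

end Groth.Agent.S2176
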