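import Groth.Statements.S2177
import Mathlib
import Groth.Agent.Lib.Helper4.NumType
-- import your own Groth.Agent.* helpers here

set_option autoImplicit false
open Finset
open Models Models.NumericalType

namespace Groth.Agent.S2177

section
open Finset Models Models.NumericalType Groth.Agent.Helper4

variable {n : ℕ} (T : Models.NumericalType n)

/-- `k i = - a i i / w i` -/
def k (i : Fin n) : ℤ := -(T.a i i / T.w i)

lemma a_diag (i : Fin n) : T.a i i = -(T.w i * k T i) := by
  unfold k
  rw [mul_neg, neg_neg, Int.mul_ediv_cancel' (T.w_dvd i i)]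

lemma k_pos (hn : 1 < n) (i : Fin n) : 0 < k T i := by
  have h1 := NT_diag_neg T hn i
  rw [a_diag] at h1
  have hw := T.w_pos i
  by_contra h
  push Not at h
  have : T.w i * k T i ≤ 0 := mul_nonpos_of_nonneg_of_nonpos hw.le h
  linarith

lemma k_mul (i : Fin n) :
    k T i * T.m i = ∑ j ∈ univ.erase i, (T.a i j / T.w i) * T.m j := by
  have h1 := NT_diag_mul T i
  rw [a_diag] at h1
  have hw := T.w_pos i
  have h2 : T.w i * (k T i * T.m i) = T.w i * ∑ j ∈ univ.erase i, (T.a i j / T.w i) * T.m j := by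
    rw [Finset.mul_sum]
    have : ∑ j ∈ univ.erase i, T.w i * ((T.a i j / T.w i) * T.m j) =
        ∑ j ∈ univ.erase i, T.a i j * T.m j :=
      Finset.sum_congr rfl fun j _ => by
        rw [← mul_assoc, Int.mul_ediv_cancel' (T.w_dvd i j)]
    rw [this]
    linarith
  exact mul_left_cancel₀ hw.ne' h2

lemma kappa_bound (hmin : T.IsMinimal) (hn : 1 < n) (i : Fin n) :
    0 ≤ 2 * T.w i * (T.g i - 1) - T.a i i ∧
      k T i - 2 ≤ 2 * T.w i * (T.g i - 1) - T.a i i := by
  have hw := T.w_pos i
  have hg := T.g_nonneg i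
  have hk := k_pos T hn i
  rw [a_diag]
  by_cases hg0 : T.g i = 0
  · have hk1 : k T i ≠ 1 := by
      intro hk1
      apply hmin i
      refine ⟨hg0, ?_⟩
      rw [a_diag, hk1]; ring
    have hk2 : 2 ≤ k T i := by omega
    rw [hg0]
    constructor <;> nlinarith
  · have hg1 : 1 ≤ T.g i := by omega
    constructor <;> nlinarith

/-- the rational weights -/
noncomputable def G (i j : Fin n) : ℚ := if 0 < T.a i j then (T.m j : ℚ) / (T.m i : ℚ) else 0

lemma G_row_le (hn : 1 < n) (i : Fin n) : ∑ j, G T i j ≤ (k T i : ℚ) := by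
  have hm : (0 : ℚ) < T.m i := by exact_mod_cast T.m_pos i
  have h1 : (k T i : ℚ) = ∑ j ∈ univ.erase i, ((T.a i j / T.w i : ℤ) : ℚ) * (T.m j : ℚ) / (T.m i : ℚ) := by
    rw [← Finset.sum_div, eq_div_iff hm.ne']
    have := congrArg (Int.cast : ℤ → ℚ) (k_mul T i)
    push_cast at this
    exact this
  rw [h1, ← Finset.add_sum_erase univ (fun j => G T i j) (mem_univ i)]
  have hii : G T i i = 0 := by
    unfold G
    rw [if_neg (not_lt.mpr (NT_diag_nonpos T i))]
  rw [hii, zero_add]
  apply Finset.sum_le_sum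
  intro j hj
  have hij : i ≠ j := fun h => (Finset.mem_erase.mp hj).1 h.symm
  have hmj : (0 : ℚ) < T.m j := by exact_mod_cast T.m_pos j
  have hc0 : 0 ≤ T.a i j / T.w i := Int.ediv_nonneg (T.offDiag_nonneg i j hij) (T.w_pos i).le
  unfold G
  split_ifs with hpos
  · have hc1 : 1 ≤ T.a i j / T.w i := by
      obtain ⟨c, hc⟩ := T.w_dvd i j
      rw [hc, Int.mul_ediv_cancel_left _ (T.w_pos i).ne']
      rw [hc] at hpos
      have := (mul_pos_iff_of_pos_left (T.w_pos i)).mp hpos
      omega
    have hc1' : (1 : ℚ) ≤ ((T.a i j / T.w i : ℤ) : ℚ) := by exact_mod_cast hc1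
    rw [div_le_div_iff_of_pos_right hm]
    nlinarith
  · have hc0' : (0 : ℚ) ≤ ((T.a i j / T.w i : ℤ) : ℚ) := by exact_mod_cast hc0
    positivity

lemma G_symm_ge (i j : Fin n) :
    (if 0 < T.a i j then (2 : ℚ) else 0) ≤ G T i j + G T j i := by
  have hs : T.a j i = T.a i j := T.symm.apply i j
  unfold G
  rw [hs]
  split_ifs with hpos
  · have hmi : (0 : ℚ) < T.m i := by exact_mod_cast T.m_pos i
    have hmj : (0 : ℚ) < T.m j := by exact_mod_cast T.m_pos j
    rw [div_add_div _ _ hmi.ne' hmj.ne', le_div_iff₀ (mul_pos hmi hmj)]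
    nlinarith [sq_nonneg ((T.m i : ℚ) - T.m j)]
  · simp


lemma card_pos_pairs :
    (univ.filter fun p : Fin n × Fin n => 0 < T.a p.1 p.2).card = 2 * T.edgeCount := by
  have hsplit : (univ.filter fun p : Fin n × Fin n => 0 < T.a p.1 p.2) =
      (univ.filter fun p : Fin n × Fin n => p.1 < p.2 ∧ 0 < T.a p.1 p.2) ∪
      (univ.filter fun p : Fin n × Fin n => p.2 < p.1 ∧ 0 < T.a p.1 p.2) := by
    ext p
    simp only [mem_filter, mem_univ, true_and, mem_union]
    constructor
    · intro h
      rcases lt_trichotomy p.1 p.2 with h1 | h1 | h1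
      · exact Or.inl ⟨h1, h⟩
      · exact absurd h1 (NT_ne_of_pos T h)
      · exact Or.inr ⟨h1, h⟩
    · rintro (⟨_, h⟩ | ⟨_, h⟩) <;> exact h
  have hdisj : Disjoint (univ.filter fun p : Fin n × Fin n => p.1 < p.2 ∧ 0 < T.a p.1 p.2)
      (univ.filter fun p : Fin n × Fin n => p.2 < p.1 ∧ 0 < T.a p.1 p.2) := by
    rw [Finset.disjoint_left]
    intro p h1 h2
    simp only [mem_filter, mem_univ, true_and] at h1 h2
    exact absurd h1.1 (not_lt.mpr h2.1.le)
  have hswap : (univ.filter fun p : Fin n × Fin n => p.2 < p.1 ∧ 0 < T.a p.1 p.2).card =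
      (univ.filter fun p : Fin n × Fin n => p.1 < p.2 ∧ 0 < T.a p.1 p.2).card := by
    apply Finset.card_bij (fun p _ => (p.2, p.1))
    · intro p hp
      simp only [mem_filter, mem_univ, true_and] at hp ⊢
      exact ⟨hp.1, by rw [T.symm.apply]; exact hp.2⟩
    · intro p _ q _ hpq
      simp only [Prod.mk.injEq] at hpq
      exact Prod.ext hpq.2 hpq.1
    · intro p hp
      simp only [mem_filter, mem_univ, true_and] at hp
      refine ⟨(p.2, p.1), ?_, rfl⟩
      simp only [mem_filter, mem_univ, true_and]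
      exact ⟨hp.1, by rw [T.symm.apply]; exact hp.2⟩
  rw [hsplit, Finset.card_union_of_disjoint hdisj, hswap]
  unfold Models.NumericalType.edgeCount
  ring

lemma sum_k_ge (hn : 1 < n) : (2 * (T.edgeCount : ℤ)) ≤ ∑ i, k T i := by
  have h1 : ∑ i, ∑ j, G T i j ≤ ∑ i, (k T i : ℚ) :=
    Finset.sum_le_sum fun i _ => G_row_le T hn i
  have h2 : ∑ i, ∑ j, (if 0 < T.a i j then (2 : ℚ) else 0) ≤
      ∑ i, ∑ j, (G T i j + G T j i) :=
    Finset.sum_le_sum fun i _ => Finset.sum_le_sum fun j _ => G_symm_ge T i j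
  have h3 : ∑ i, ∑ j, (G T i j + G T j i) = 2 * ∑ i, ∑ j, G T i j := by
    simp only [Finset.sum_add_distrib]
    rw [Finset.sum_comm (f := fun i j => G T j i)]
    ring
  have h4 : ∑ i, ∑ j, (if 0 < T.a i j then (2 : ℚ) else 0) = 2 * (2 * (T.edgeCount : ℚ)) := by
    rw [← Finset.sum_product', Finset.univ_product_univ,
      ← Finset.sum_filter (fun p : Fin n × Fin n => 0 < T.a p.1 p.2) (fun _ => (2 : ℚ)),
      Finset.sum_const, card_pos_pairs, nsmul_eq_mul]
    push_cast
    ring
  have h5 : ((2 * (T.edgeCount : ℤ) : ℤ) : ℚ) ≤ ((∑ i, k T i : ℤ) : ℚ) := by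
    push_cast
    linarith
  exact_mod_cast h5

theorem main {n : ℕ} (T : Models.NumericalType n) (hmin : T.IsMinimal) (hn : 1 < n) :
    T.topGenus ≤ T.genus := by
  have h2 := NT_two_genus T
  have hk := sum_k_ge T hn
  have h3 : ∑ i, (k T i - 2) ≤ ∑ i, T.m i * (2 * T.w i * (T.g i - 1) - T.a i i) := by
    apply Finset.sum_le_sum
    intro i _
    have hb := kappa_bound T hmin hn i
    have hm := T.m_pos i
    nlinarith
  rw [Finset.sum_sub_distrib, Finset.sum_const, Finset.card_univ, Fintype.card_fin,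
    nsmul_eq_mul] at h3
  unfold Models.NumericalType.topGenus
  linarith

end

/-- If a numerical type is minimal and has at least two indices, its genus is bounded below by the
topological genus 1 - n + e, e being the number of pairs i < j with a i j > 0. -/
theorem result {n : ℕ} (T : Models.NumericalType n) (hmin : T.IsMinimal) (hn : 1 < n) : T.topGenus ≤ T.genus := by
  exact Groth.Agent.S2177.main T hmin hn

end Groth.Agent.S2177
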