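import Groth.Statements.S2178
import Groth.Agent.Lib.Helper4.NumTypeKer

set_option autoImplicit false
open Finset
open Models Models.NumericalType

namespace Groth.Agent.S2178

/-- The Picard group of a numerical type (the cokernel of the matrix (a i j / w i) acting on Z^n) has
free rank one: its rank as a Z-module is 1. -/
theorem result {n : ℕ} (T : Models.NumericalType n) : Module.finrank ℤ T.Pic = 1 := by
  classical
  let P := Matrix.mulVecLin T.picMatrix
  have h1 := Submodule.finrank_quotient_add_finrank (LinearMap.range P)
  have h2 : Module.finrank ℤ (LinearMap.range P) =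
      Module.finrank ℤ ((Fin n → ℤ) ⧸ LinearMap.ker P) :=
    (LinearEquiv.finrank_eq P.quotKerEquivRange).symm
  have h3 := Submodule.finrank_quotient_add_finrank (LinearMap.ker P)
  have hn : Module.finrank ℤ (Fin n → ℤ) = n := by simp
  -- finrank of kernel is 1
  have hker : Module.finrank ℤ (LinearMap.ker P) = 1 := by
    let i₀ : Fin n := ⟨0, T.pos⟩
    let ev : (LinearMap.ker P) →ₗ[ℤ] ℤ := (LinearMap.proj i₀).comp (LinearMap.ker P).subtype
    have hinj : Function.Injective ev := by
      rw [← LinearMap.ker_eq_bot, LinearMap.ker_eq_bot']
      intro x hx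
      have hxk : T.picMatrix.mulVec x.1 = 0 := by
        have := x.2
        rw [LinearMap.mem_ker] at this
        exact this
      have hxa : T.a.mulVec x.1 = 0 := (Groth.Agent.Helper4.NT_picMatrix_ker_iff T x.1).mp hxk
      have : x.1 = 0 := Groth.Agent.Helper4.NT_ker_eq_zero_of_coord T x.1 hxa i₀ hx
      exact Subtype.ext this
    have hle : Module.finrank ℤ (LinearMap.ker P) ≤ 1 := by
      have := LinearMap.finrank_le_finrank_of_injective hinj
      simpa using this
    have hnt : Nontrivial (LinearMap.ker P) := by
      refine ⟨⟨⟨T.m, ?_⟩, 0, ?_⟩⟩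
      · rw [LinearMap.mem_ker]
        exact Groth.Agent.Helper4.NT_picMatrix_mulVec_m T
      · intro h
        have := congrArg Subtype.val h
        have h0 := congrFun this i₀
        have := T.m_pos i₀
        simp at h0
        omega
    have hpos : 0 < Module.finrank ℤ (LinearMap.ker P) := Module.finrank_pos
    omega
  show Module.finrank ℤ ((Fin n → ℤ) ⧸ LinearMap.range P) = 1
  omega

end Groth.Agent.S2178
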