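import Groth.Statements.S2179
import Groth.Agent.Lib.Helper4.NumType

set_option autoImplicit false
open Finset
open Models Models.NumericalType

namespace Groth.Agent.S2179

/-- For a numerical type T, the map Z^n -> Z^n multiplying the i-th coordinate by w i induces a
well-defined injective homomorphism from Pic(T), the cokernel of (a i j / w i), to the cokernel of
the matrix a. -/
theorem result {n : ℕ} (T : Models.NumericalType n) :
    ∃ f : T.Pic →+ T.CokerA, Function.Injective f ∧
      ∀ x : Fin n → ℤ, f (Submodule.Quotient.mk x) = Submodule.Quotient.mk (fun i => T.w i * x i) := by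
  -- the linear map x ↦ w • x
  let φ : (Fin n → ℤ) →ₗ[ℤ] (Fin n → ℤ) :=
    { toFun := fun x i => T.w i * x i
      map_add' := fun x y => by funext i; simp [mul_add]
      map_smul' := fun c x => by funext i; simp; ring }
  have hmain : ∀ z : Fin n → ℤ, φ (T.picMatrix.mulVec z) = T.a.mulVec z := by
    intro z
    funext i
    show T.w i * (T.picMatrix.mulVec z) i = (T.a.mulVec z) i
    simp only [Matrix.mulVec, dotProduct, Finset.mul_sum]
    apply Finset.sum_congr rfl
    intro j _
    unfold Models.NumericalType.picMatrix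
    rw [← mul_assoc, Int.mul_ediv_cancel' (T.w_dvd i j)]
  have hle : LinearMap.range (Matrix.mulVecLin T.picMatrix) ≤
      (LinearMap.range (Matrix.mulVecLin T.a)).comap φ := by
    rintro _ ⟨z, rfl⟩
    rw [Submodule.mem_comap, Matrix.mulVecLin_apply, hmain]
    exact ⟨z, rfl⟩
  refine ⟨(Submodule.mapQ _ _ φ hle).toAddMonoidHom, ?_, ?_⟩
  · rw [injective_iff_map_eq_zero]
    intro x hx
    obtain ⟨x', rfl⟩ := Submodule.Quotient.mk_surjective _ x
    change Submodule.mapQ _ _ φ hle (Submodule.Quotient.mk x') = 0 at hx
    rw [Submodule.mapQ_apply, Submodule.Quotient.mk_eq_zero] at hx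
    obtain ⟨z, hz⟩ := hx
    rw [Matrix.mulVecLin_apply, ← hmain] at hz
    rw [Submodule.Quotient.mk_eq_zero]
    refine ⟨z, ?_⟩
    rw [Matrix.mulVecLin_apply]
    funext i
    have := congrFun hz i
    change T.w i * (T.picMatrix.mulVec z) i = T.w i * x' i at this
    exact mul_left_cancel₀ (T.w_pos i).ne' this
  · intro x
    rfl

end Groth.Agent.S2179
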