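import Groth.Statements.S2180
import Mathlib
import Groth.Agent.Lib.Helper4.NumType
import Groth.Agent.S2175
-- import your own Groth.Agent.* helpers here

set_option autoImplicit false
open Finset
open Models Models.NumericalType

namespace Groth.Agent.S2180

section
open Finset Models Models.NumericalType Groth.Agent.Helper4 Groth.Agent.S2175

lemma int_facts2 (wi wl A : ℤ) (hwi : 0 < wi) (hwl : 0 < wl)
    (h1 : wi ∣ A) (h2 : wl ∣ A) (w' : ℤ)
    (hw' : w' = if (2 ∣ A / wl ∧ ¬ 2 ∣ A / wi) then wi / 2 else wi) :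
    (wi / w' = 1 ∨ wi / w' = 2) ∧ wi = (wi / w') * w' := by
  obtain ⟨c, rfl⟩ := h2
  obtain ⟨d, hd⟩ := h1
  have e1 : wl * c / wl = c := Int.mul_ediv_cancel_left _ hwl.ne'
  have e2 : wl * c / wi = d := by rw [hd]; exact Int.mul_ediv_cancel_left _ hwi.ne'
  rw [e1, e2] at hw'
  by_cases hcond : (2 ∣ c ∧ ¬ 2 ∣ d)
  · rw [if_pos hcond] at hw'
    obtain ⟨hc2, hd2⟩ := hcond
    have hwi2 : (2 : ℤ) ∣ wi := by
      have h3 : (2 : ℤ) ∣ wi * d := by rw [← hd]; exact Dvd.dvd.mul_left hc2 wl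
      rcases Int.prime_two.dvd_or_dvd h3 with h | h
      · exact h
      · exact absurd h hd2
    obtain ⟨v, hv⟩ := hwi2
    have hw'v : w' = v := by rw [hw', hv]; exact Int.mul_ediv_cancel_left _ two_ne_zero
    have hv0 : 0 < v := by omega
    have hdiv : wi / w' = 2 := by
      rw [hw'v, hv]; exact Int.mul_ediv_cancel _ hv0.ne'
    exact ⟨Or.inr hdiv, by rw [hdiv, hw'v, hv]⟩
  · rw [if_neg hcond] at hw'
    have hdiv : wi / w' = 1 := by rw [hw']; exact Int.ediv_self hwi.ne'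
    exact ⟨Or.inl hdiv, by rw [hdiv, hw', one_mul]⟩

variable {n : ℕ} (T : Models.NumericalType (n + 1)) (T' : Models.NumericalType n)

/-- the comparison map on vectors -/
def φ : (Fin (n + 1) → ℤ) →ₗ[ℤ] (Fin n → ℤ) where
  toFun x := fun i => (T.w i.castSucc / T'.w i) *
    (x i.castSucc + (T.a i.castSucc (Fin.last n) / T.w i.castSucc) * x (Fin.last n))
  map_add' := by
    intro x y; ext i; simp only [Pi.add_apply]; ring
  map_smul' := by
    intro c x; ext i; simp only [Pi.smul_apply, smul_eq_mul, RingHom.id_apply]; ring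

lemma φ_apply (x : Fin (n + 1) → ℤ) (i : Fin n) : φ T T' x i = (T.w i.castSucc / T'.w i) *
    (x i.castSucc + (T.a i.castSucc (Fin.last n) / T.w i.castSucc) * x (Fin.last n)) := rfl

lemma pic_mulVec {m : ℕ} (S : Models.NumericalType m) (y : Fin m → ℤ) (i : Fin m) :
    (Matrix.mulVecLin S.picMatrix y) i = ∑ j, (S.a i j / S.w i) * y j := by
  simp [Matrix.mulVecLin_apply, Matrix.mulVec, dotProduct, Models.NumericalType.picMatrix]

/-- `a'_ij / w_i` splits. -/
lemma a'_div (h : T.IsMinusOne (Fin.last n)) (i j : Fin n) :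
    a' T i j / T.w i.castSucc = T.a i.castSucc j.castSucc / T.w i.castSucc +
      (T.a i.castSucc (Fin.last n) / T.w i.castSucc) *
        (T.a j.castSucc (Fin.last n) / T.w (Fin.last n)) := by
  rw [a'_eq T h, Int.add_ediv_of_dvd_left (T.w_dvd _ _), Int.mul_ediv_assoc' _ (wi_dvd T i)]

lemma wi_dvd_a' (h : T.IsMinusOne (Fin.last n)) (i j : Fin n) : T.w i.castSucc ∣ a' T i j := by
  rw [a'_eq T h]
  exact dvd_add (T.w_dvd _ _) (Dvd.dvd.mul_right (wi_dvd T i) _)

lemma pic'_entry (h : T.IsMinusOne (Fin.last n)) (hT' : T.IsContraction T') (i j : Fin n) :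
    T'.a i j / T'.w i = (T.w i.castSucc / T'.w i) * (a' T i j / T.w i.castSucc) := by
  obtain ⟨hm, ha, hw, hg⟩ := hT'
  have hf := int_facts2 (T.w i.castSucc) (T.w (Fin.last n)) (T.a i.castSucc (Fin.last n))
    (T.w_pos _) (T.w_pos _) (wi_dvd T i) (wl_dvd T i) (T'.w i) (hw i)
  have haij : T'.a i j = a' T i j := ha i j
  obtain ⟨q, hq⟩ := wi_dvd_a' T h i j
  rw [haij, hq, Int.mul_ediv_cancel_left _ (T.w_pos _).ne']
  have h3 : T.w i.castSucc * q = T'.w i * ((T.w i.castSucc / T'.w i) * q) := by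
    conv_lhs => rw [hf.2]
    ring
  rw [h3, Int.mul_ediv_cancel_left _ (T'.w_pos i).ne']


lemma P_row_i (y : Fin (n + 1) → ℤ) (i : Fin n) :
    (Matrix.mulVecLin T.picMatrix y) i.castSucc =
      (∑ j : Fin n, (T.a i.castSucc j.castSucc / T.w i.castSucc) * y j.castSucc) +
        (T.a i.castSucc (Fin.last n) / T.w i.castSucc) * y (Fin.last n) := by
  rw [pic_mulVec, Fin.sum_univ_castSucc]

lemma P_row_l (h : T.IsMinusOne (Fin.last n)) (y : Fin (n + 1) → ℤ) :
    (Matrix.mulVecLin T.picMatrix y) (Fin.last n) =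
      (∑ j : Fin n, (T.a j.castSucc (Fin.last n) / T.w (Fin.last n)) * y j.castSucc) -
        y (Fin.last n) := by
  rw [pic_mulVec, Fin.sum_univ_castSucc, h.2, Int.neg_ediv_of_dvd (dvd_refl _),
    Int.ediv_self (T.w_pos _).ne']
  have e : ∑ j : Fin n, (T.a (Fin.last n) j.castSucc / T.w (Fin.last n)) * y j.castSucc =
      ∑ j : Fin n, (T.a j.castSucc (Fin.last n) / T.w (Fin.last n)) * y j.castSucc :=
    Finset.sum_congr rfl fun j _ => by rw [a_symm]
  rw [e]
  ring

lemma P'_row (h : T.IsMinusOne (Fin.last n)) (hT' : T.IsContraction T') (z : Fin n → ℤ)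
    (i : Fin n) :
    (Matrix.mulVecLin T'.picMatrix z) i = (T.w i.castSucc / T'.w i) *
      ((∑ j : Fin n, (T.a i.castSucc j.castSucc / T.w i.castSucc) * z j) +
        (T.a i.castSucc (Fin.last n) / T.w i.castSucc) *
          ∑ j : Fin n, (T.a j.castSucc (Fin.last n) / T.w (Fin.last n)) * z j) := by
  rw [pic_mulVec, Finset.mul_sum (s := univ) (f := fun j =>
    (T.a j.castSucc (Fin.last n) / T.w (Fin.last n)) * z j), ← Finset.sum_add_distrib,
    Finset.mul_sum]
  apply Finset.sum_congr rfl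
  intro j _
  rw [pic'_entry T T' h hT', a'_div T h]
  ring

lemma φ_P (h : T.IsMinusOne (Fin.last n)) (hT' : T.IsContraction T') (y : Fin (n + 1) → ℤ) :
    φ T T' (Matrix.mulVecLin T.picMatrix y) =
      Matrix.mulVecLin T'.picMatrix (fun j => y j.castSucc) := by
  ext i
  rw [φ_apply, P_row_i, P_row_l T h, P'_row T T' h hT']
  ring

lemma D_ne (hT' : T.IsContraction T') (i : Fin n) : T.w i.castSucc / T'.w i ≠ 0 := by
  obtain ⟨hm, ha, hw, hg⟩ := hT'
  have hf := int_facts2 (T.w i.castSucc) (T.w (Fin.last n)) (T.a i.castSucc (Fin.last n))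
    (T.w_pos _) (T.w_pos _) (wi_dvd T i) (wl_dvd T i) (T'.w i) (hw i)
  rcases hf.1 with h | h <;> rw [h] <;> norm_num

lemma mem_range_of_φ (h : T.IsMinusOne (Fin.last n)) (hT' : T.IsContraction T')
    (x : Fin (n + 1) → ℤ) (z : Fin n → ℤ)
    (hz : Matrix.mulVecLin T'.picMatrix z = φ T T' x) :
    x ∈ LinearMap.range (Matrix.mulVecLin T.picMatrix) := by
  let S2 : ℤ := ∑ j : Fin n, (T.a j.castSucc (Fin.last n) / T.w (Fin.last n)) * z j
  let y : Fin (n + 1) → ℤ := Fin.snoc (α := fun _ => ℤ) z (S2 - x (Fin.last n))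
  have hy1 : ∀ j : Fin n, y j.castSucc = z j := fun j => by simp [y]
  have hy2 : y (Fin.last n) = S2 - x (Fin.last n) := by simp [y]
  refine ⟨y, ?_⟩
  ext k
  rcases Fin.eq_castSucc_or_eq_last k with ⟨i, rfl⟩ | rfl
  · have h1 := congrFun hz i
    rw [P'_row T T' h hT', φ_apply] at h1
    have h2 := mul_left_cancel₀ (D_ne T T' hT' i) h1
    rw [P_row_i, hy2]
    simp only [hy1]
    linarith
  · rw [P_row_l T h, hy2]
    simp only [hy1]
    ring

theorem main {n : ℕ} (T : Models.NumericalType (n + 1)) (h : T.IsMinusOne (Fin.last n))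
    (T' : Models.NumericalType n) (hT' : T.IsContraction T') :
    ∃ f : T.Pic →+ T'.Pic, Function.Injective f ∧ ∀ y : T'.Pic, ∃ x : T.Pic, 2 • y = f x := by
  have hle : LinearMap.range (Matrix.mulVecLin T.picMatrix) ≤
      LinearMap.ker ((LinearMap.range (Matrix.mulVecLin T'.picMatrix)).mkQ ∘ₗ φ T T') := by
    rintro _ ⟨y, rfl⟩
    rw [LinearMap.mem_ker, LinearMap.comp_apply, φ_P T T' h hT', Submodule.mkQ_apply,
      Submodule.Quotient.mk_eq_zero]
    exact ⟨_, rfl⟩
  let F : T.Pic →ₗ[ℤ] T'.Pic := Submodule.liftQ _ _ hle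
  have hF : ∀ x, F (Submodule.Quotient.mk x) = Submodule.Quotient.mk (φ T T' x) := fun x => rfl
  refine ⟨F.toAddMonoidHom, ?_, ?_⟩
  · rw [injective_iff_map_eq_zero]
    intro q hq
    obtain ⟨x, rfl⟩ := Submodule.Quotient.mk_surjective _ q
    have hq' : F (Submodule.Quotient.mk x) = 0 := hq
    rw [hF, Submodule.Quotient.mk_eq_zero] at hq'
    obtain ⟨z, hz⟩ := hq'
    rw [Submodule.Quotient.mk_eq_zero]
    exact mem_range_of_φ T T' h hT' x z hz
  · intro q
    obtain ⟨y, rfl⟩ := Submodule.Quotient.mk_surjective _ q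
    obtain ⟨hm, ha, hw, hg⟩ := hT'
    have hD : ∀ i : Fin n, T.w i.castSucc / T'.w i = 1 ∨ T.w i.castSucc / T'.w i = 2 := fun i =>
      (int_facts2 (T.w i.castSucc) (T.w (Fin.last n)) (T.a i.castSucc (Fin.last n))
        (T.w_pos _) (T.w_pos _) (wi_dvd T i) (wl_dvd T i) (T'.w i) (hw i)).1
    let x : Fin (n + 1) → ℤ := Fin.snoc (α := fun _ => ℤ)
      (fun i => (2 / (T.w i.castSucc / T'.w i)) * y i) 0
    refine ⟨Submodule.Quotient.mk x, ?_⟩
    change _ = F (Submodule.Quotient.mk x)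
    rw [hF, ← Submodule.Quotient.mk_smul]
    congr 1
    ext i
    rw [φ_apply]
    have hx1 : x i.castSucc = (2 / (T.w i.castSucc / T'.w i)) * y i := by simp [x]
    have hx2 : x (Fin.last n) = 0 := by simp [x]
    rw [hx1, hx2, mul_zero, add_zero]
    rcases hD i with hd | hd <;> rw [hd] <;> simp

end

/-- Let T be a numerical type on n + 1 indices whose last index is a (-1)-index and T' a contraction of
it. Then there is an injective homomorphism Pic(T) -> Pic(T') whose cokernel is annihilated by 2. -/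
theorem result {n : ℕ} (T : Models.NumericalType (n + 1)) (h : T.IsMinusOne (Fin.last n))
    (T' : Models.NumericalType n) (hT' : T.IsContraction T') :
    ∃ f : T.Pic →+ T'.Pic, Function.Injective f ∧ ∀ y : T'.Pic, ∃ x : T.Pic, 2 • y = f x := by
  exact Groth.Agent.S2180.main T h T' hT'

end Groth.Agent.S2180
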