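import Groth.Statements.S2181
import Mathlib
import Groth.Agent.Lib.Helper4.NumType
import Groth.Agent.S2175
import Groth.Agent.S2176
import Groth.Agent.S2180
-- import your own Groth.Agent.* helpers here

set_option autoImplicit false
open Finset
open Models Models.NumericalType

namespace Groth.Agent.S2181

section
open Finset Models Models.NumericalType Groth.Agent.Helper4

/-- a group injecting into `ℤ` with nontrivial image is infinite cyclic -/
lemma equiv_int_of_inj {G : Type*} [AddCommGroup G] (g : G →+ ℤ) (hg : Function.Injective g)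
    (hne : ∃ x, g x ≠ 0) : Nonempty (G ≃+ ℤ) := by
  obtain ⟨d, hd⟩ := Int.subgroup_cyclic g.range
  have hdmem : d ∈ g.range := by rw [hd]; exact AddSubgroup.mem_closure_singleton_self d
  obtain ⟨x0, hx0⟩ := hdmem
  have hd0 : d ≠ 0 := by
    rintro rfl
    obtain ⟨x, hx⟩ := hne
    have : g x ∈ g.range := ⟨x, rfl⟩
    rw [hd, AddSubgroup.mem_closure_singleton] at this
    obtain ⟨k, hk⟩ := this
    apply hx
    rw [← hk, smul_zero]
  let ψ : ℤ →+ G := zmultiplesHom G x0
  have hψ : ∀ k : ℤ, ψ k = k • x0 := fun k => rfl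
  have hbij : Function.Bijective ψ := by
    constructor
    · rw [injective_iff_map_eq_zero]
      intro k hk
      have := congrArg g hk
      rw [hψ, map_zsmul, hx0, map_zero, smul_eq_mul] at this
      rcases mul_eq_zero.mp this with h | h
      · exact h
      · exact absurd h hd0
    · intro x
      have : g x ∈ g.range := ⟨x, rfl⟩
      rw [hd, AddSubgroup.mem_closure_singleton] at this
      obtain ⟨k, hk⟩ := this
      refine ⟨k, hg ?_⟩
      rw [hψ, map_zsmul, hx0, hk]
  exact ⟨(AddEquiv.ofBijective ψ hbij).symm⟩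

variable {n : ℕ} (T : Models.NumericalType n)

/-- permuted numerical type -/
def perm (σ : Equiv.Perm (Fin n)) : Models.NumericalType n where
  m := fun i => T.m (σ i)
  a := fun i j => T.a (σ i) (σ j)
  w := fun i => T.w (σ i)
  g := fun i => T.g (σ i)
  pos := T.pos
  m_pos := fun i => T.m_pos _
  w_pos := fun i => T.w_pos _
  g_nonneg := fun i => T.g_nonneg _
  symm := by
    ext i j
    exact T.symm.apply (σ i) (σ j)
  offDiag_nonneg := fun i j hij => T.offDiag_nonneg _ _ (fun h => hij (σ.injective h))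
  connected := by
    intro I hI hI'
    have hne : (I.map σ.toEmbedding).Nonempty := hI.map
    have hu : I.map σ.toEmbedding ≠ univ := by
      intro e
      apply hI'
      apply Finset.eq_univ_of_forall
      intro x
      have : σ x ∈ I.map σ.toEmbedding := e ▸ mem_univ _
      obtain ⟨y, hy, hxy⟩ := Finset.mem_map.mp this
      have : y = x := σ.injective hxy
      exact this ▸ hy
    obtain ⟨x, hx, y, hy, hxy⟩ := T.connected _ hne hu
    obtain ⟨i, hi, rfl⟩ := Finset.mem_map.mp hx
    refine ⟨i, hi, σ.symm y, ?_, ?_⟩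
    · intro hmem
      apply hy
      exact Finset.mem_map.mpr ⟨σ.symm y, hmem, by simp⟩
    · simpa using hxy
  mulVec_m := by
    ext i
    simp only [Matrix.mulVec, dotProduct, Pi.zero_apply]
    rw [Equiv.sum_comp σ (fun j => T.a (σ i) j * T.m j)]
    exact NT_row_sum T (σ i)
  w_dvd := fun i j => T.w_dvd _ _

lemma perm_genus (σ : Equiv.Perm (Fin n)) : (perm T σ).genus = T.genus := by
  unfold Models.NumericalType.genus
  have e1 : ∑ i, (perm T σ).m i * (perm T σ).w i * ((perm T σ).g i - 1) =
      ∑ i, T.m i * T.w i * (T.g i - 1) :=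
    Equiv.sum_comp σ (fun i => T.m i * T.w i * (T.g i - 1))
  have e2 : ∑ i, (perm T σ).m i * (perm T σ).a i i = ∑ i, T.m i * T.a i i :=
    Equiv.sum_comp σ (fun i => T.m i * T.a i i)
  rw [e1, e2]

lemma perm_pic (σ : Equiv.Perm (Fin n)) : Nonempty ((perm T σ).Pic ≃+ T.Pic) := by
  let e : (Fin n → ℤ) ≃ₗ[ℤ] (Fin n → ℤ) := LinearEquiv.funCongrLeft ℤ ℤ σ.symm
  have he : ∀ (x : Fin n → ℤ) (k : Fin n), e x k = x (σ.symm k) := fun x k => rfl
  have hcomm : ∀ y : Fin n → ℤ, e (Matrix.mulVecLin (perm T σ).picMatrix y) =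
      Matrix.mulVecLin T.picMatrix (e y) := by
    intro y
    ext k
    rw [he, Groth.Agent.S2180.pic_mulVec, Groth.Agent.S2180.pic_mulVec]
    rw [← Equiv.sum_comp σ (fun j => T.a k j / T.w k * e y j)]
    apply Finset.sum_congr rfl
    intro j _
    rw [he]
    simp [perm]
  have hmap : (LinearMap.range (Matrix.mulVecLin (perm T σ).picMatrix)).map (e : _ →ₗ[ℤ] _) =
      LinearMap.range (Matrix.mulVecLin T.picMatrix) := by
    ext x
    constructor
    · rintro ⟨_, ⟨y, rfl⟩, rfl⟩
      exact ⟨e y, (hcomm y).symm⟩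
    · rintro ⟨y, rfl⟩
      refine ⟨_, ⟨e.symm y, rfl⟩, ?_⟩
      change e _ = _
      rw [hcomm, LinearEquiv.apply_symm_apply]
  exact ⟨(Submodule.Quotient.equiv _ _ e hmap).toAddEquiv⟩


lemma base_case (T : Models.NumericalType 1) : Nonempty (T.Pic ≃+ ℤ) := by
  have ha : T.a 0 0 = 0 := by
    have h1 := NT_row_sum T 0
    rw [Fin.sum_univ_one] at h1
    rcases mul_eq_zero.mp h1 with h | h
    · exact h
    · exact absurd h (T.m_pos 0).ne'
  have hP : T.picMatrix = 0 := by
    ext i j
    have hi : i = 0 := Subsingleton.elim _ _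
    have hj : j = 0 := Subsingleton.elim _ _
    subst hi hj
    simp [Models.NumericalType.picMatrix, ha]
  have hbot : LinearMap.range (Matrix.mulVecLin T.picMatrix) = ⊥ := by
    rw [hP, Matrix.mulVecLin_zero, LinearMap.range_zero]
  exact ⟨((Submodule.quotEquivOfEqBot _ hbot).trans
    (LinearEquiv.funUnique (Fin 1) ℤ ℤ)).toAddEquiv⟩

theorem main {n : ℕ} (T : Models.NumericalType n) (hg : T.genus ≤ 0) :
    Nonempty (T.Pic ≃+ ℤ) := by
  induction n with
  | zero => exact absurd T.pos (lt_irrefl 0)
  | succ k ih =>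
    rcases Nat.eq_zero_or_pos k with hk | hk
    · subst hk
      exact base_case T
    · have hnm : ¬ T.IsMinimal := fun hmin => by
        have := Groth.Agent.S2176.result T hmin (by omega)
        omega
      unfold Models.NumericalType.IsMinimal at hnm
      push Not at hnm
      obtain ⟨i, hi⟩ := hnm
      let σ : Equiv.Perm (Fin (k + 1)) := Equiv.swap i (Fin.last k)
      have hσ : σ (Fin.last k) = i := Equiv.swap_apply_right _ _
      have hlast : (perm T σ).IsMinusOne (Fin.last k) := by
        unfold Models.NumericalType.IsMinusOne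
        simp only [perm]
        rw [hσ]
        exact hi
      obtain ⟨⟨T', hT'⟩, hgen⟩ := Groth.Agent.S2175.main (perm T σ) hlast
      have hg' : T'.genus ≤ 0 := by rw [hgen T' hT', perm_genus]; exact hg
      obtain ⟨e'⟩ := ih T' hg'
      obtain ⟨f, hf, hcok⟩ := Groth.Agent.S2180.main (perm T σ) hlast T' hT'
      obtain ⟨eσ⟩ := perm_pic T σ
      have h2 : Nonempty ((perm T σ).Pic ≃+ ℤ) := by
        apply equiv_int_of_inj (e'.toAddMonoidHom.comp f) (e'.injective.comp hf)
        obtain ⟨x, hx⟩ := hcok (e'.symm 1)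
        refine ⟨x, ?_⟩
        have : (e'.toAddMonoidHom.comp f) x = 2 := by
          change e' (f x) = 2
          rw [← hx, map_nsmul, AddEquiv.apply_symm_apply]
          rfl
        rw [this]
        norm_num
      obtain ⟨e2⟩ := h2
      exact ⟨eσ.symm.trans e2⟩

end

/-- If the genus of a numerical type is at most 0 then its Picard group is infinite cyclic. -/
theorem result {n : ℕ} (T : Models.NumericalType n) (hg : T.genus ≤ 0) : Nonempty (T.Pic ≃+ ℤ) := by
  exact Groth.Agent.S2181.main T hg

end Groth.Agent.S2181
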