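import Groth.Statements.S2183
import Groth.Agent.Lib.Helper4.NumType
import Groth.Agent.S2182

set_option autoImplicit false
open Finset
open Models Models.NumericalType

namespace Groth.Agent.S2183
open Groth.Agent.Helper4 in
/-- the term `t_i` and its structure: `a i i = -(w i * k)` with `k ≥ 1`. -/
theorem term_facts {n : ℕ} (T : Models.NumericalType n) (hmin : T.IsMinimal) (hn : 1 < n)
    (i : Fin n) :
    0 ≤ T.m i * (2 * T.w i * (T.g i - 1) - T.a i i) ∧
    (¬T.IsMinusTwo i → 1 ≤ T.m i * (2 * T.w i * (T.g i - 1) - T.a i i) ∧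
      2 * T.g i - 1 ≤ T.m i * (2 * T.w i * (T.g i - 1) - T.a i i) ∧
      T.m i * |T.a i i| ≤ 3 * (T.m i * (2 * T.w i * (T.g i - 1) - T.a i i))) := by
  have hneg := NT_diag_neg T hn i
  obtain ⟨k, hk⟩ := T.w_dvd i i
  have hw := T.w_pos i
  have hg := T.g_nonneg i
  have hm := T.m_pos i
  have hk_neg : k < 0 := by
    by_contra h
    push Not at h
    have := mul_nonneg hw.le h
    linarith
  have habs : |T.a i i| = -(T.w i * k) := by rw [hk]; exact abs_of_neg (by rw [← hk]; exact hneg)
  have hk1 : T.g i = 0 → k ≠ -1 := by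
    intro hg0 hk1
    apply hmin i
    refine ⟨hg0, ?_⟩
    rw [hk, hk1]; ring
  -- set u = m i * w i ≥ 1
  have hu : 1 ≤ T.m i * T.w i := by nlinarith
  have hexpr : T.m i * (2 * T.w i * (T.g i - 1) - T.a i i) =
      (T.m i * T.w i) * (2 * T.g i - 2 - k) := by rw [hk]; ring
  have habs2 : T.m i * |T.a i i| = (T.m i * T.w i) * (-k) := by rw [habs]; ring
  rw [hexpr, habs2]
  set u := T.m i * T.w i with hu_def
  by_cases hg0 : T.g i = 0
  · have hk2 : k ≤ -2 := by have := hk1 hg0; omega
    rw [hg0]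
    refine ⟨by nlinarith, fun hnot => ?_⟩
    have hk3 : k ≤ -3 := by
      by_contra h
      push Not at h
      have hk2' : k = -2 := by omega
      apply hnot
      refine ⟨hg0, ?_⟩
      rw [hk, hk2']; ring
    refine ⟨by nlinarith, by nlinarith, by nlinarith⟩
  · have hg1 : 1 ≤ T.g i := by omega
    refine ⟨by nlinarith, fun _ => ⟨by nlinarith, by nlinarith, by nlinarith⟩⟩

open Classical in
/-- Let T be a minimal numerical type with n > 1 indices and genus g at least 2, and let J be the set of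
indices which are not (-2)-indices. Then J has at most 2g - 2 elements, and for j in J one has g j <
g, m j * |a j j| at most 6g - 6, and m i * a i j at most 6g - 6 for every index i. -/
theorem result {n : ℕ} (T : Models.NumericalType n) (hmin : T.IsMinimal) (hn : 1 < n) (hg : 2 ≤ T.genus) :
    ((univ.filter fun j => ¬T.IsMinusTwo j).card : ℤ) ≤ 2 * T.genus - 2 ∧
      ∀ j, ¬T.IsMinusTwo j →
        T.g j < T.genus ∧ T.m j * |T.a j j| ≤ 6 * T.genus - 6 ∧
          ∀ i, T.m i * T.a i j ≤ 6 * T.genus - 6 := by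
  have h2 := Groth.Agent.Helper4.NT_two_genus T
  have hfacts := term_facts T hmin hn
  set t : Fin n → ℤ := fun i => T.m i * (2 * T.w i * (T.g i - 1) - T.a i i) with ht
  have hsum : ∑ i, t i = 2 * T.genus - 2 := h2.symm
  have htn : ∀ i, 0 ≤ t i := fun i => (hfacts i).1
  have hle : ∀ j, t j ≤ 2 * T.genus - 2 := by
    intro j
    rw [← hsum]
    exact Finset.single_le_sum (fun i _ => htn i) (mem_univ j)
  constructor
  · have h1 : ((univ.filter fun j => ¬T.IsMinusTwo j).card : ℤ) =
        ∑ j ∈ univ.filter (fun j => ¬T.IsMinusTwo j), (1 : ℤ) := by simp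
    rw [h1, ← hsum]
    calc ∑ j ∈ univ.filter (fun j => ¬T.IsMinusTwo j), (1 : ℤ)
        ≤ ∑ j ∈ univ.filter (fun j => ¬T.IsMinusTwo j), t j :=
          Finset.sum_le_sum fun j hj => ((hfacts j).2 (Finset.mem_filter.mp hj).2).1
      _ ≤ ∑ j, t j :=
          Finset.sum_le_sum_of_subset_of_nonneg (Finset.filter_subset _ _) fun i _ _ => htn i
  · intro j hj
    obtain ⟨h1, h2', h3⟩ := (hfacts j).2 hj
    have hlej := hle j
    have hbound : T.m j * |T.a j j| ≤ 6 * T.genus - 6 := by
      have : T.m j * |T.a j j| ≤ 3 * t j := h3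
      linarith
    refine ⟨?_, hbound, ?_⟩
    · have : 2 * T.g j - 1 ≤ t j := h2'
      omega
    · intro i
      by_cases hpos : 0 < T.a i j
      · exact ((Groth.Agent.S2182.result T i j hpos).1).trans hbound
      · push Not at hpos
        have : T.m i * T.a i j ≤ 0 := mul_nonpos_of_nonneg_of_nonpos (T.m_pos i).le hpos
        linarith

end Groth.Agent.S2183
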