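import Groth.Statements.S2187
import Groth.Agent.Lib.Lead.Vasc2

set_option autoImplicit false
universe u
open CategoryTheory
open LCI

namespace Groth.Agent.S2187

/-- Let R be a Noetherian local ring and I an ideal of finite projective dimension as an R-module. If F
is a direct summand of the conormal module I/I^2 which is isomorphic to R/I, then there is a
nonzerodivisor x in I whose class in I/I^2 generates F. -/
theorem result {R : Type u} [CommRing R]
    [IsNoetherianRing R] [IsLocalRing R] (I : Ideal R) (n : ℕ)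
    (hpd : HasProjectiveDimensionLT (ModuleCat.of R I) n)
    (F G : Submodule (R ⧸ I) I.Cotangent) (hFG : IsCompl F G) (e : F ≃ₗ[R ⧸ I] (R ⧸ I)) :
    ∃ (x : R) (hx : x ∈ I), x ∈ nonZeroDivisors R ∧
      Submodule.span (R ⧸ I) {I.toCotangent ⟨x, hx⟩} = F := by
  by_cases hItop : I = ⊤
  · haveI : Subsingleton (R ⧸ I) := Ideal.Quotient.subsingleton_iff.mpr hItop
    haveI : Subsingleton I.Cotangent := Module.subsingleton (R ⧸ I) I.Cotangent
    refine ⟨1, by rw [hItop]; exact Submodule.mem_top, one_mem _, ?_⟩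
    ext v
    rw [Subsingleton.elim v 0]
    simp
  · haveI : Nontrivial (R ⧸ I) := Ideal.Quotient.nontrivial_iff.mpr hItop
    obtain ⟨⟨f, hf⟩, hfe⟩ := Ideal.toCotangent_surjective I ((e.symm 1 : F) : I.Cotangent)
    have h1 : ((e.symm 1 : F) : I.Cotangent) ≠ 0 := by
      intro h
      have h2 : (e.symm 1 : F) = 0 := Subtype.ext h
      have h3 := congrArg e h2
      rw [e.apply_symm_apply, map_zero] at h3
      exact one_ne_zero h3
    have hIbot : I ≠ ⊥ := by
      intro hbot
      apply h1
      rw [← hfe]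
      have hf' : f ∈ (⊥ : Ideal R) := hbot ▸ hf
      have hf0 : f = 0 := (Submodule.mem_bot R).mp hf'
      have h4 : (⟨f, hf⟩ : I) = 0 := Subtype.ext hf0
      rw [h4, map_zero]
    obtain ⟨j, hj, hnz⟩ := Groth.Agent.Lead.Vasc.exists_nonZeroDivisor_coset I n hpd hIbot f
    have hxI : f + j ∈ I := I.add_mem hf (Ideal.pow_le_self two_ne_zero hj)
    refine ⟨f + j, hxI, hnz, ?_⟩
    have heq : I.toCotangent ⟨f + j, hxI⟩ = ((e.symm 1 : F) : I.Cotangent) := by
      rw [← hfe, Ideal.toCotangent_eq]
      simpa using hj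
    rw [heq]
    apply le_antisymm
    · rw [Submodule.span_le, Set.singleton_subset_iff]
      exact (e.symm 1).2
    · intro v hv
      rw [Submodule.mem_span_singleton]
      refine ⟨e ⟨v, hv⟩, ?_⟩
      have h5 : e.symm (e ⟨v, hv⟩) = (e ⟨v, hv⟩) • e.symm 1 := by
        rw [← map_smul, smul_eq_mul, mul_one]
      rw [e.symm_apply_apply] at h5
      have h6 := congrArg Subtype.val h5
      simpa using h6.symm

end Groth.Agent.S2187
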