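import Groth.Statements.S2188
import Groth.Agent.Lib.Lead.Vasc4

set_option autoImplicit false
universe u
open CategoryTheory
open LCI

namespace Groth.Agent.S2188

/-- Let R be a Noetherian local ring and I an ideal of finite projective dimension as an R-module. If F
is a direct summand of I/I^2 which is free of rank r over R/I, then there is a regular sequence x_1,
..., x_r of R inside I whose classes in I/I^2 generate F. -/
theorem result {R : Type u} [CommRing R]
    [IsNoetherianRing R] [IsLocalRing R] (I : Ideal R) (hI : I ≠ ⊤) (n : ℕ)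
    (hpd : HasProjectiveDimensionLT (ModuleCat.of R I) n)
    (F G : Submodule (R ⧸ I) I.Cotangent) (hFG : IsCompl F G) (r : ℕ)
    (e : F ≃ₗ[R ⧸ I] (Fin r → R ⧸ I)) :
    ∃ (x : Fin r → R) (hx : ∀ i, x i ∈ I), RingTheory.Sequence.IsRegular R (List.ofFn x) ∧
      Submodule.span (R ⧸ I) (Set.range fun i => I.toCotangent ⟨x i, hx i⟩) = F := by
  classical
  have hlift : ∀ i : Fin r, ∃ a : I, I.toCotangent a =
      ((e.symm (Pi.single i 1) : F) : I.Cotangent) :=
    fun i => Ideal.toCotangent_surjective I _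
  choose a ha using hlift
  obtain ⟨φ, hφdef⟩ : ∃ φ : I →ₗ[R] (Fin r → R ⧸ I), ∀ m : I,
      φ m = e (Submodule.projectionOnto F G hFG (I.toCotangent m)) :=
    ⟨((e.toLinearMap ∘ₗ (Submodule.projectionOnto F G hFG)).restrictScalars R) ∘ₗ
      I.toCotangent, fun m => rfl⟩
  have hφ : ∀ i, φ ⟨(a i : R), (a i).2⟩ = Pi.single i 1 := by
    intro i
    rw [hφdef]
    have h1 : I.toCotangent ⟨(a i : R), (a i).2⟩ =
        ((e.symm (Pi.single i 1) : F) : I.Cotangent) := ha i
    rw [h1, Submodule.projectionOnto_apply_left, e.apply_symm_apply]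
  obtain ⟨x, hxsq, hxI, hreg⟩ := Groth.Agent.Lead.Vasc.exists_regular_sequence I hI n hpd r
    (fun i => (a i : R)) (fun i => (a i).2) φ hφ
  refine ⟨x, hxI, hreg, ?_⟩
  have hx : ∀ i, I.toCotangent ⟨x i, hxI i⟩ = ((e.symm (Pi.single i 1) : F) : I.Cotangent) := by
    intro i
    rw [← ha i, Ideal.toCotangent_eq]
    exact hxsq i
  have hrange : (Set.range fun i => I.toCotangent ⟨x i, hxI i⟩) =
      Set.range fun i => ((e.symm (Pi.single i 1) : F) : I.Cotangent) := by
    congr 1
    funext i
    exact hx i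
  rw [hrange]
  apply le_antisymm
  · rw [Submodule.span_le]
    rintro _ ⟨i, rfl⟩
    exact (e.symm (Pi.single i 1)).2
  · intro v hv
    have h1 := (Pi.basisFun (R ⧸ I) (Fin r)).sum_repr (e ⟨v, hv⟩)
    simp only [Pi.basisFun_repr, Pi.basisFun_apply] at h1
    have h2 : (⟨v, hv⟩ : F) = ∑ i, (e ⟨v, hv⟩ i) • e.symm (Pi.single i 1) := by
      rw [← e.symm_apply_apply ⟨v, hv⟩]
      conv_lhs => rw [← h1]
      rw [map_sum]
      refine Finset.sum_congr rfl (fun i _ => ?_)
      rw [map_smul, e.symm_apply_apply]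
    have h3 : v = ∑ i, (e ⟨v, hv⟩ i) • ((e.symm (Pi.single i 1) : F) : I.Cotangent) := by
      have h4 := congrArg (fun w : F => (w : I.Cotangent)) h2
      simpa using h4
    rw [h3]
    refine Submodule.sum_mem _ (fun i _ => Submodule.smul_mem _ _ (Submodule.subset_span ⟨i, rfl⟩))

end Groth.Agent.S2188
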