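import Groth.Statements.S2203
import Mathlib

set_option autoImplicit false
universe u
open CategoryTheory
open QCohCat

namespace Groth.Agent.S2203

theorem toCatCenter_bijective (R : Type u) [CommRing R] :
    Function.Bijective (Linear.toCatCenter R (ModuleCat.{u} R)) := by
  constructor
  · intro a b h
    have h1 := congrArg (fun z => (CatCenter.app z (ModuleCat.of R R)).hom (1 : R)) h
    simpa using h1
  · intro z
    refine ⟨(z.app (ModuleCat.of R R)).hom (1 : R), ?_⟩
    apply CatCenter.ext
    intro M
    apply ModuleCat.hom_ext
    apply LinearMap.ext
    intro m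
    have hnat := CatCenter.naturality z
      (ModuleCat.ofHom (LinearMap.toSpanSingleton R M m) : ModuleCat.of R R ⟶ M)
    have h2 := congrArg (fun g => g.hom (1 : R)) hnat
    simp only [ModuleCat.hom_comp, LinearMap.comp_apply, ModuleCat.hom_ofHom,
      LinearMap.toSpanSingleton_apply, one_smul] at h2
    rw [h2]
    simp

noncomputable def centerCongr {C D : Type*} [Category C] [Category D] [Preadditive C]
    [Preadditive D] (e : C ≌ D) [e.functor.Additive] : CatCenter C ≃+* CatCenter D :=
  let E : (C ⥤ C) ≌ (D ⥤ D) := e.congrLeft.trans e.congrRight
  let i : E.functor.obj (𝟭 C) ≅ 𝟭 D :=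
    e.counitIso
  { (E.fullyFaithfulFunctor.mulEquivEnd (𝟭 C)).trans i.conj with
    map_add' := fun z z' => by
      apply NatTrans.ext
      funext Y
      have hmap : ∀ w : CatCenter C, ((e.congrLeft.trans e.congrRight).functor.map w).app Y =
          e.functor.map (w.app (e.inverse.obj Y)) := fun w => rfl
      simp only [E, i, Iso.conj_apply, hmap, Functor.map_add, MulEquiv.toEquiv_eq_coe, Equiv.toFun_as_coe, MulEquiv.coe_toEquiv, MulEquiv.trans_apply, Functor.FullyFaithful.mulEquivEnd_apply, NatTrans.comp_app, CatCenter.app_add, NatTrans.app_add]
      erw [Preadditive.add_comp, Preadditive.comp_add] }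


/-- Ring-isomorphism part of the statement: let A and B be commutative rings whose categories of modules
are equivalent. Then A and B are isomorphic as rings. (The source moreover describes the equivalence
as base change followed by tensoring with an invertible module.) -/
theorem result (A B : Type u) [CommRing A] [CommRing B]
    (F : ModuleCat.{u} A ≌ ModuleCat.{u} B) : Nonempty (A ≃+* B) := by
  haveI : F.functor.Additive := Functor.additive_of_preserves_binary_products F.functor
  exact ⟨(RingEquiv.ofBijective _ (toCatCenter_bijective A)).trans
    ((centerCongr F).trans (RingEquiv.ofBijective _ (toCatCenter_bijective B)).symm)⟩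

end Groth.Agent.S2203
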