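import Groth.Statements.S2206
import Mathlib
import Groth.Agent.Lib.Helper2.DiagPerf3
-- import your own Groth.Agent.* helpers here

set_option autoImplicit false
universe u
open TensorProduct
open LCI

namespace Groth.Agent.S2206

section

open CategoryTheory TensorProduct

theorem main {A B : Type u} [CommRing A] [CommRing B]
    [Algebra A B] [IsNoetherianRing A] [Algebra.FiniteType A B] [Module.Flat A B]
    [Algebra (B ⊗[A] B) B]
    (hmul : ∀ x y : B, algebraMap (B ⊗[A] B) B (x ⊗ₜ[A] y) = x * y)
    (h : DRing.HasFiniteTorDim (B ⊗[A] B) B) : Algebra.Smooth A B := by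
  obtain ⟨d, hd⟩ := h
  haveI : IsNoetherianRing B := Algebra.FiniteType.isNoetherianRing A B
  haveI : IsNoetherianRing (B ⊗[A] B) := Algebra.FiniteType.isNoetherianRing B _
  haveI : Module.Finite (B ⊗[A] B) B :=
    Module.Finite.of_surjective (Algebra.linearMap (B ⊗[A] B) B) (fun b => ⟨b ⊗ₜ 1, by
      rw [Algebra.linearMap_apply, hmul, mul_one]⟩)
  have hpd := Groth.Agent.Helper2.DiagPerf.pdLT_of_hasTorDimLE (R := B ⊗[A] B) B d hd
  haveI : Algebra.FinitePresentation A B := Algebra.FinitePresentation.of_finiteType.mp inferInstance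
  refine Algebra.Smooth.of_formallySmooth_fiber (fun I _ => ?_)
  let k := I.ResidueField
  let L := AlgebraicClosure k
  have hL : Algebra.Smooth L (L ⊗[A] B) :=
    Groth.Agent.Helper2.DiagPerf.smooth_geometricFibre hmul d hpd
  let e : L ⊗[k] (k ⊗[A] B) ≃ₐ[L] L ⊗[A] B := Algebra.TensorProduct.cancelBaseChange A k L L B
  haveI : Algebra.Smooth L (L ⊗[k] (k ⊗[A] B)) := Algebra.Smooth.of_equiv e.symm
  haveI : Algebra.Smooth k (k ⊗[A] B) :=
    Algebra.Smooth.of_smooth_tensorProduct_of_faithfullyFlat L
  exact inferInstance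

end

/-- Let A be a Noetherian ring and B a flat A-algebra of finite type, viewed as an algebra over B
tensor_A B through the multiplication map. If B, as a module over B tensor_A B, has finite
Tor-dimension (the diagonal is a perfect ring map), then B is smooth over A. -/
theorem result {A B : Type u} [CommRing A] [CommRing B]
    [Algebra A B] [IsNoetherianRing A] [Algebra.FiniteType A B] [Module.Flat A B]
    [Algebra (B ⊗[A] B) B]
    (hmul : ∀ x y : B, algebraMap (B ⊗[A] B) B (x ⊗ₜ[A] y) = x * y)
    (h : DRing.HasFiniteTorDim (B ⊗[A] B) B) : Algebra.Smooth A B := by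
  exact Groth.Agent.S2206.main hmul h

end Groth.Agent.S2206
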