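import Groth.Statements.S2207
import Mathlib

set_option autoImplicit false
universe u v
open DPow

namespace Groth.Agent.S2207

section
open Classical

variable {A : Type u} {B : Type v} [CommRing A] [CommRing B] [Algebra A B]
  (x : A) (γ : DividedPowers (Ideal.span {x}))

/-- the extended divided power function -/
noncomputable def edpow (n : ℕ) (y : B) : B :=
  if h : ∃ b : B, b * algebraMap A B x = y then
    h.choose ^ n * algebraMap A B (γ.dpow n x) else 0

theorem mem_J_iff (y : B) :
    y ∈ (Ideal.span {x}).map (algebraMap A B) ↔ ∃ b : B, b * algebraMap A B x = y := by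
  rw [Ideal.map_span, Set.image_singleton, Ideal.mem_span_singleton']

theorem hxmem : x ∈ Ideal.span {x} := Ideal.mem_span_singleton_self x

theorem edpow_eq (n : ℕ) (b : B) :
    edpow x γ n (b * algebraMap A B x) = b ^ n * algebraMap A B (γ.dpow n x) := by
  have h : ∃ b' : B, b' * algebraMap A B x = b * algebraMap A B x := ⟨b, rfl⟩
  unfold edpow
  rw [dif_pos h]
  have hb' : h.choose * algebraMap A B x = b * algebraMap A B x := h.choose_spec
  rcases Nat.eq_zero_or_pos n with rfl | hn
  · simp
  · obtain ⟨c, hc⟩ := Ideal.mem_span_singleton'.mp (γ.dpow_mem hn.ne' (hxmem x))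
    obtain ⟨d, hd⟩ := sub_dvd_pow_sub_pow h.choose b n
    rw [← sub_eq_zero, ← sub_mul, hd, ← hc, map_mul]
    have : (h.choose - b) * algebraMap A B x = 0 := by rw [sub_mul, hb', sub_self]
    calc (h.choose - b) * d * (algebraMap A B c * algebraMap A B x)
        = ((h.choose - b) * algebraMap A B x) * (d * algebraMap A B c) := by ring
      _ = 0 := by rw [this, zero_mul]

/-- the extended divided power structure on `(x)B`. -/
noncomputable def extDP : DividedPowers ((Ideal.span {x}).map (algebraMap A B)) where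
  dpow := edpow x γ
  dpow_null := by
    intro n y hy
    rw [mem_J_iff] at hy
    unfold edpow
    rw [dif_neg hy]
  dpow_zero := by
    intro y hy
    obtain ⟨b, rfl⟩ := (mem_J_iff x y).mp hy
    rw [edpow_eq, pow_zero, γ.dpow_zero (hxmem x), map_one, mul_one]
  dpow_one := by
    intro y hy
    obtain ⟨b, rfl⟩ := (mem_J_iff x y).mp hy
    rw [edpow_eq, pow_one, γ.dpow_one (hxmem x)]
  dpow_mem := by
    intro n y hn hy
    obtain ⟨b, rfl⟩ := (mem_J_iff x y).mp hy
    rw [edpow_eq]
    exact Ideal.mul_mem_left _ _ (Ideal.mem_map_of_mem _ (γ.dpow_mem hn (hxmem x)))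
  dpow_add := by
    intro n y z hy hz
    obtain ⟨b, rfl⟩ := (mem_J_iff x y).mp hy
    obtain ⟨c, rfl⟩ := (mem_J_iff x z).mp hz
    rw [← add_mul, edpow_eq, (Commute.all b c).add_pow', Finset.sum_mul]
    refine Finset.sum_congr rfl (fun k hk => ?_)
    rw [edpow_eq, edpow_eq]
    have hk' : k.1 + k.2 = n := Finset.HasAntidiagonal.mem_antidiagonal.mp hk
    have h1 := γ.mul_dpow (m := k.1) (n := k.2) (hxmem x)
    rw [hk'] at h1
    have h2 : algebraMap A B (γ.dpow k.1 x) * algebraMap A B (γ.dpow k.2 x) =
        (n.choose k.1 : B) * algebraMap A B (γ.dpow n x) := by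
      rw [← map_mul, h1, map_mul, map_natCast]
    calc n.choose k.1 • (b ^ k.1 * c ^ k.2) * algebraMap A B (γ.dpow n x)
        = (b ^ k.1 * c ^ k.2) * ((n.choose k.1 : B) * algebraMap A B (γ.dpow n x)) := by
          rw [nsmul_eq_mul]; ring
      _ = b ^ k.1 * algebraMap A B (γ.dpow k.1 x) * (c ^ k.2 * algebraMap A B (γ.dpow k.2 x)) := by
          rw [← h2]; ring
  dpow_mul := by
    intro n a y hy
    obtain ⟨b, rfl⟩ := (mem_J_iff x y).mp hy
    rw [← mul_assoc, edpow_eq, edpow_eq, mul_pow, mul_assoc]
  mul_dpow := by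
    intro m n y hy
    obtain ⟨b, rfl⟩ := (mem_J_iff x y).mp hy
    rw [edpow_eq, edpow_eq, edpow_eq]
    have h1 := γ.mul_dpow (m := m) (n := n) (hxmem x)
    calc b ^ m * algebraMap A B (γ.dpow m x) * (b ^ n * algebraMap A B (γ.dpow n x))
        = b ^ (m + n) * algebraMap A B (γ.dpow m x * γ.dpow n x) := by
          rw [map_mul, pow_add]; ring
      _ = ((m + n).choose m : B) * (b ^ (m + n) * algebraMap A B (γ.dpow (m + n) x)) := by
          rw [h1, map_mul, map_natCast]; ring
  dpow_comp := by
    intro m n y hn hy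
    obtain ⟨b, rfl⟩ := (mem_J_iff x y).mp hy
    obtain ⟨c, hc⟩ := Ideal.mem_span_singleton'.mp (γ.dpow_mem hn (hxmem x))
    rw [edpow_eq, edpow_eq]
    have h0 : b ^ n * algebraMap A B (γ.dpow n x) =
        (b ^ n * algebraMap A B c) * algebraMap A B x := by
      rw [← hc, map_mul]; ring
    rw [h0, edpow_eq]
    have h1 : γ.dpow m (γ.dpow n x) = c ^ m * γ.dpow m x := by
      rw [← hc, γ.dpow_mul (hxmem x)]
    have h2 := γ.dpow_comp (m := m) hn (hxmem x)
    calc (b ^ n * algebraMap A B c) ^ m * algebraMap A B (γ.dpow m x)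
        = b ^ (m * n) * algebraMap A B (c ^ m * γ.dpow m x) := by
          rw [map_mul, map_pow, mul_pow, ← pow_mul, mul_comm n m]; ring
      _ = (Nat.uniformBell m n : B) * (b ^ (m * n) * algebraMap A B (γ.dpow (m * n) x)) := by
          rw [← h1, h2, map_mul, map_natCast]; ring

end

/-- Existence in case (2): let I = (x) be a principal ideal of A with a divided power structure and B
any A-algebra. Then there is a divided power structure on I B for which A -> B is a homomorphism of
divided power rings. -/
theorem result {A : Type u} {B : Type v} [CommRing A] [CommRing B] [Algebra A B]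
    (x : A) (γ : DividedPowers (Ideal.span {x})) :
    ∃ δ : DividedPowers ((Ideal.span {x}).map (algebraMap A B)), γ.IsDPMorphism δ (algebraMap A B) := by
  refine ⟨extDP x γ, le_rfl, ?_⟩
  intro n a ha
  obtain ⟨r, rfl⟩ := Ideal.mem_span_singleton'.mp ha
  show edpow x γ n (algebraMap A B (r * x)) = _
  rw [map_mul, edpow_eq, γ.dpow_mul (hxmem x), map_mul, map_pow]

end Groth.Agent.S2207
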