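import Groth.Statements.S2211
-- import your own Groth.Agent.* helpers here
import Groth.Agent.Lib.Helper25.Misc1

set_option autoImplicit false
universe u
open DPow

namespace Groth.Agent.S2211

/-- First part: let p be a prime and A a ring in which every integer prime to p is invertible, I an
ideal of A. Two divided power structures on I coincide exactly when their p-th divided power maps
agree on I. -/
theorem result {A : Type u} [CommRing A] (p : ℕ) (hp : p.Prime)
    (hA : ∀ n : ℕ, ¬ p ∣ n → IsUnit (n : A)) {I : Ideal A} (γ γ' : DividedPowers I) :
    γ = γ' ↔ ∀ x ∈ I, γ.dpow p x = γ'.dpow p x := by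
  constructor
  · rintro rfl x _
    rfl
  · intro h
    have hub : ∀ k : ℕ, IsUnit ((Nat.uniformBell k p : ℕ) : A) :=
      fun k => hA _ (Groth.Agent.Helper25.Misc1.not_dvd_uniformBell p hp k)
    have key : ∀ n : ℕ, ∀ x ∈ I, γ.dpow n x = γ'.dpow n x := by
      intro n
      induction n using Nat.strong_induction_on with
      | _ n ih =>
        intro x hx
        rcases Nat.eq_zero_or_pos n with rfl | hn
        · rw [γ.dpow_zero hx, γ'.dpow_zero hx]
        by_cases hpn : p ∣ n
        · obtain ⟨k, rfl⟩ := hpn
          have hk0 : 0 < k := by
            rcases Nat.eq_zero_or_pos k with rfl | h'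
            · simp at hn
            · exact h'
          have hk : k < p * k := lt_mul_of_one_lt_left hk0 hp.one_lt
          have e1 := γ.dpow_comp (m := k) hp.ne_zero hx
          have e2 := γ'.dpow_comp (m := k) hp.ne_zero hx
          have e3 : γ.dpow k (γ.dpow p x) = γ'.dpow k (γ'.dpow p x) := by
            rw [← h x hx]
            exact ih k hk _ (γ.dpow_mem hp.ne_zero hx)
          rw [e1, e2] at e3
          have e4 := (hub k).mul_left_cancel e3
          rwa [mul_comm k p] at e4
        · have hu := hA n hpn
          have e1 := γ.mul_dpow (m := 1) (n := n - 1) hx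
          have e2 := γ'.mul_dpow (m := 1) (n := n - 1) hx
          have hn1 : 1 + (n - 1) = n := by omega
          rw [hn1, Nat.choose_one_right, γ.dpow_one hx] at e1
          rw [hn1, Nat.choose_one_right, γ'.dpow_one hx] at e2
          rw [ih (n - 1) (by omega) x hx] at e1
          exact hu.mul_left_cancel (e1.symm.trans e2)
    exact DividedPowers.ext _ _ (fun n {x} hx => key n x hx)

end Groth.Agent.S2211
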