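import Groth.Statements.S2217
import Mathlib
import Groth.Agent.Lib.Helper2.FrobB
import Groth.Agent.Lib.Helper2.FrobC
import Groth.Agent.Lib.Helper22.OmegaBC
-- import your own Groth.Agent.* helpers here

set_option autoImplicit false
universe u
open Disc

namespace Groth.Agent.S2217

section
open TensorProduct Groth.Agent.Helper2.FrobB Groth.Agent.Helper2.FrobC Groth.Agent.Helper22.OmegaBC

attribute [local instance] Algebra.TensorProduct.rightAlgebra

variable {A B : Type u} [CommRing A] [CommRing B] [Algebra A B]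

theorem faithful [Module.Finite A B] [Module.Free A B] (b : B)
    (hb : ∀ φ : Omega A B, b • φ = 0) : b = 0 := by
  classical
  let bs := Module.Free.chooseBasis A B
  apply bs.repr.injective
  ext i
  have := congrArg (fun ψ : Omega A B => ψ.toLinearMap 1) (hb ⟨bs.coord i⟩)
  simpa using this

theorem backward [Module.Finite A B] [Module.Free A B]
    (hinv : Module.Invertible B (Disc.Omega A B)) (p : Ideal A) [p.IsPrime] :
    LocCoh.IsGorensteinRing (p.Fiber B) := by
  haveI := hinv
  have hB : Algebra.IsPushout A p.ResidueField B (p.Fiber B) := inferInstance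
  letI : Module B (Omega p.ResidueField (p.Fiber B)) :=
    Module.compHom _ (algebraMap B (p.Fiber B))
  haveI : IsScalarTower B (p.Fiber B) (Omega p.ResidueField (p.Fiber B)) :=
    IsScalarTower.of_algebraMap_smul fun _ _ => rfl
  obtain ⟨g, hg, hbc⟩ := isBaseChange_bcFin hB
  have e1 := hbc.equiv
  haveI : Module.Invertible (p.Fiber B) (Omega p.ResidueField (p.Fiber B)) :=
    Module.Invertible.congr e1
  haveI : IsArtinianRing (p.Fiber B) := isArtinianRing p.ResidueField (p.Fiber B)
  obtain ⟨e⟩ := Module.Invertible.free_iff_linearEquiv.mp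
    (inferInstance : Module.Free (p.Fiber B) (Omega p.ResidueField (p.Fiber B)))
  exact { isGorensteinLocalRing_localization := fun 𝔫 _ => gor_of_equiv e 𝔫 }

theorem local_gen [Module.Finite A B] [Module.Free A B] (p : Ideal A) [hp : p.IsMaximal]
    (hG : LocCoh.IsGorensteinRing (p.Fiber B)) :
    ∃ a : A, a ∉ p ∧ ∃ φ₀ : Omega A B, ∀ m : Omega A B, ∃ c : B,
      algebraMap A B a • m = c • φ₀ := by
  classical
  have hB : Algebra.IsPushout A p.ResidueField B (p.Fiber B) := inferInstance
  letI : Module B (Omega p.ResidueField (p.Fiber B)) :=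
    Module.compHom _ (algebraMap B (p.Fiber B))
  haveI : IsScalarTower B (p.Fiber B) (Omega p.ResidueField (p.Fiber B)) :=
    IsScalarTower.of_algebraMap_smul fun _ _ => rfl
  obtain ⟨g, hg, hbc⟩ := isBaseChange_bcFin hB
  obtain ⟨lam, hlam⟩ := cyclic_of_gor (k := p.ResidueField) (F := p.Fiber B)
    (fun 𝔫 _ => hG.isGorensteinLocalRing_localization 𝔫)
  -- surjectivity of B → F
  have hsurjB : Function.Surjective (algebraMap B (p.Fiber B)) := by
    intro y
    induction y using TensorProduct.induction_on with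
    | zero => exact ⟨0, map_zero _⟩
    | tmul c b =>
      obtain ⟨a, rfl⟩ := p.algebraMap_residueField_surjective c
      refine ⟨a • b, ?_⟩
      change (1 : p.ResidueField) ⊗ₜ[A] (a • b) = algebraMap A p.ResidueField a ⊗ₜ[A] b
      rw [TensorProduct.tmul_smul, TensorProduct.smul_tmul', Algebra.smul_def, mul_one]
    | add x y hx hy =>
      obtain ⟨x', rfl⟩ := hx
      obtain ⟨y', rfl⟩ := hy
      exact ⟨x' + y', map_add _ _ _⟩
  have hsurjg : Function.Surjective g := by
    intro ψ
    refine hbc.inductionOn ψ (fun ψ => ∃ φ, g φ = ψ) ⟨0, map_zero g⟩ (fun m => ⟨m, rfl⟩) ?_ ?_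
    · rintro f ψ ⟨φ, rfl⟩
      obtain ⟨b, rfl⟩ := hsurjB f
      exact ⟨b • φ, by rw [map_smul]; rfl⟩
    · rintro ψ₁ ψ₂ ⟨φ₁, rfl⟩ ⟨φ₂, rfl⟩
      exact ⟨φ₁ + φ₂, map_add g _ _⟩
  obtain ⟨φ₀, hφ₀⟩ := hsurjg lam
  -- kernel
  have hker : ∀ ψ : Omega A B, g ψ = 0 → ∀ x : B, ψ.toLinearMap x ∈ p := by
    intro ψ hψ x
    rw [← Ideal.algebraMap_residueField_eq_zero, ← QFDual.bcFin_apply_algebraMap hB ψ x, ← hg ψ,
      hψ]
    rfl
  have hstep : ∀ φ : Omega A B, ∃ c : B, ∀ x : B, (φ - c • φ₀).toLinearMap x ∈ p := by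
    intro φ
    obtain ⟨f, hf⟩ := hlam (g φ)
    obtain ⟨c, rfl⟩ := hsurjB f
    refine ⟨c, hker _ ?_⟩
    rw [map_sub, map_smul, hφ₀, hf]
    exact sub_self _
  -- Nakayama
  letI : Module A (Omega A B) := modA
  haveI : IsScalarTower A B (Omega A B) := IsScalarTower.of_algebraMap_smul fun _ _ => rfl
  let bs := Module.Free.chooseBasis A B
  haveI : Module.Finite A (Omega A B) :=
    Module.Finite.equiv (toDualEquiv (A := A) (B := B)).symm
  let N : Submodule A (Omega A B) := (Submodule.span B {φ₀}).restrictScalars A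
  have hle : (⊤ : Submodule A (Omega A B)) ≤ N ⊔ p • (⊤ : Submodule A (Omega A B)) := by
    intro φ _
    obtain ⟨c, hc⟩ := hstep φ
    have h1 : φ = c • φ₀ + (φ - c • φ₀) := by abel
    rw [h1]
    refine Submodule.add_mem_sup ?_ ?_
    · exact Submodule.smul_mem (Submodule.span B {φ₀}) c (Submodule.mem_span_singleton_self φ₀)
    · set ψ := φ - c • φ₀
      have h2 : ψ = ∑ i, ψ.toLinearMap (bs i) • (⟨bs.coord i⟩ : Omega A B) := by
        apply (toDualEquiv (A := A) (B := B)).injective
        rw [map_sum]
        simp only [map_smul]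
        exact (bs.sum_dual_apply_smul_coord ψ.toLinearMap).symm
      rw [h2]
      exact Submodule.sum_mem _ fun i _ =>
        Submodule.smul_mem_smul (hc (bs i)) Submodule.mem_top
  obtain ⟨a, ha1, haN⟩ := Submodule.exists_sub_one_mem_and_smul_le_of_fg_of_le_sup (I := p)
    (N := N) (N' := ⊤) (P := ⊤) Module.Finite.fg_top le_rfl hle
  refine ⟨a, fun hap => hp.ne_top ((Ideal.eq_top_iff_one p).mpr ?_), φ₀, fun m => ?_⟩
  · have : (1 : A) = a - (a - 1) := by ring
    rw [this]
    exact p.sub_mem hap ha1
  · have hm : a • m ∈ N := haN (Submodule.smul_mem_pointwise_smul m a ⊤ Submodule.mem_top)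
    obtain ⟨c, hc⟩ := Submodule.mem_span_singleton.mp hm
    exact ⟨c, hc.symm⟩

theorem main [IsNoetherianRing A] [Module.Finite A B] [Module.Free A B] :
    (∀ (p : Ideal A) [p.IsPrime], LocCoh.IsGorensteinRing (p.Fiber B)) ↔
      Module.Invertible B (Disc.Omega A B) := by
  constructor
  · intro h
    refine invertible_of_cover (A := A) faithful fun p hp => ?_
    haveI := hp
    exact local_gen p (h p)
  · intro hinv p _
    exact backward hinv p

end

/-- Equivalence of (2) and (4) in the affine finite free case: let A be a Noetherian ring and B an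
A-algebra which is finite free as an A-module (so A -> B is flat and quasi-finite). Then all fibre
rings kappa(p) tensor_A B are Gorenstein if and only if omega_{B/A} = Hom_A(B, A), with its B-module
structure through the argument, is an invertible B-module. -/
theorem result {A B : Type u} [CommRing A] [CommRing B]
    [Algebra A B] [IsNoetherianRing A] [Module.Finite A B] [Module.Free A B] :
    (∀ (p : Ideal A) [p.IsPrime], LocCoh.IsGorensteinRing (p.Fiber B)) ↔
      Module.Invertible B (Disc.Omega A B) := by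
  exact Groth.Agent.S2217.main

end Groth.Agent.S2217
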