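import Groth.Statements.S2218
import Mathlib
import Groth.Agent.Lib.Helper22.AssOmega

set_option autoImplicit false
universe u v
open Disc

namespace Groth.Agent.S2218

/-- Special case: A -> B finite (the source allows quasi-finite maps). For a finite map of Noetherian
rings and omega = Hom_A(B, A) with its B-module structure through the argument, the associated
primes of the B-module omega are exactly the primes of B whose contraction to A is an associated
prime of A. -/
theorem result {A : Type u} {B : Type v} [CommRing A] [CommRing B]
    [Algebra A B] [IsNoetherianRing A] [IsNoetherianRing B] [Module.Finite A B] :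
    associatedPrimes B (Disc.Omega A B) =
      {q : Ideal B | q.IsPrime ∧ q.comap (algebraMap A B) ∈ associatedPrimes A A} := by
  ext q
  constructor
  · intro hq
    exact Groth.Agent.Helper22.AssOmega.comap_mem_of_mem_ass_omega q hq
  · rintro ⟨hq, hp⟩
    haveI := hq
    exact Groth.Agent.Helper22.AssOmega.mem_ass_omega_of_comap_mem q hp

end Groth.Agent.S2218
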