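import Groth.Statements.S2219
import Groth.Agent.Lib.Helper17.TR1

set_option autoImplicit false
universe u
open Disc

namespace Groth.Agent.S2219

/-- Equivalence of (1) and (3): let k be a field and A a finite-dimensional local k-algebra with residue
field k'. Then the trace map Tr_{A/k} is not identically zero if and only if k' is separable over k
and the length of A as a module over itself is not divisible by the characteristic of k (no
condition in characteristic zero). -/
theorem result (k A : Type u) [Field k] [CommRing A]
    [Algebra k A] [FiniteDimensional k A] [IsLocalRing A] :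
    Algebra.trace k A ≠ 0 ↔
      (Algebra.IsSeparable k (IsLocalRing.ResidueField A) ∧
        ∀ p : ℕ, p.Prime → CharP k p → ¬ p ∣ (Module.length A A).toNat) := by

  classical
  have hArt : IsArtinian A A := isArtinian_of_tower k inferInstance
  have hNoe : IsNoetherian A A := isNoetherian_of_tower k inferInstance
  have hfl : IsFiniteLength A A := isFiniteLength_iff_isNoetherian_isArtinian.mpr ⟨hNoe, hArt⟩
  have hlen_ne : Module.length A A ≠ ⊤ := Module.length_ne_top_iff.mpr hfl
  obtain ⟨n, hn⟩ := ENat.ne_top_iff_exists.mp hlen_ne
  have hn' : Module.length A A = n := hn.symm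
  have hnpos : 0 < n := by
    have h1 : 0 < Module.length A A := Module.length_pos_iff.mpr inferInstance
    rw [hn'] at h1
    exact_mod_cast h1
  have htoNat : (Module.length A A).toNat = n := by rw [hn']; rfl
  have key : ∀ x : A, Algebra.trace k A x =
      (n : k) * Algebra.trace k (IsLocalRing.ResidueField A) (IsLocalRing.residue A x) := by
    intro x
    have := Groth.Agent.Helper17.TR.trace_act_eq k A x n A hn'
    rw [← this, Algebra.trace_apply]
    congr 1
  haveI : FiniteDimensional k (IsLocalRing.ResidueField A) :=
    Module.Finite.of_surjective ((IsScalarTower.toAlgHom k A (IsLocalRing.ResidueField A)).toLinearMap)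
      IsLocalRing.residue_surjective
  have hcast : (n : k) ≠ 0 ↔ ∀ p : ℕ, p.Prime → CharP k p → ¬ p ∣ n := by
    constructor
    · intro h p hp hc hdiv
      exact h ((CharP.cast_eq_zero_iff k p n).mpr hdiv)
    · intro h h0
      obtain ⟨p, hc⟩ := CharP.exists k
      rcases CharP.char_is_prime_or_zero k p with hp | hp
      · exact h p hp hc ((CharP.cast_eq_zero_iff k p n).mp h0)
      · subst hp
        haveI : CharZero k := CharP.charP_to_charZero k
        exact hnpos.ne' (by exact_mod_cast h0)
  rw [htoNat, ← hcast]
  constructor
  · intro h
    have : ∃ x, Algebra.trace k A x ≠ 0 := by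
      by_contra hc
      push Not at hc
      exact h (LinearMap.ext hc)
    obtain ⟨x, hx⟩ := this
    rw [key x] at hx
    refine ⟨?_, left_ne_zero_of_mul hx⟩
    by_contra hsep
    have := Algebra.trace_eq_zero_of_not_isSeparable (K := k) (L := IsLocalRing.ResidueField A) hsep
    rw [this] at hx
    simp at hx
  · rintro ⟨hsep, hn0⟩
    have hne := Algebra.trace_ne_zero k (IsLocalRing.ResidueField A)
    have : ∃ y, Algebra.trace k (IsLocalRing.ResidueField A) y ≠ 0 := by
      by_contra hc
      push Not at hc
      exact hne (LinearMap.ext hc)
    obtain ⟨y, hy⟩ := this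
    obtain ⟨x, rfl⟩ := IsLocalRing.residue_surjective y
    intro h0
    have := key x
    rw [h0] at this
    simp only [LinearMap.zero_apply] at this
    exact mul_ne_zero hn0 hy this.symm

end Groth.Agent.S2219
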