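import Groth.Statements.S2225
import Groth.Agent.Lib.Helper12.ArtGor

set_option autoImplicit false
universe u
open CategoryTheory AlgebraicGeometry
open Models

namespace Groth.Agent.S2225

/-- Part (1), for the closed fibre: let R be a discrete valuation ring with fraction field K, C a smooth
proper curve over K and X a regular model of C over R (flat, of finite type, all local rings
regular). Then every local ring of the special fibre X_k is a Gorenstein local ring; together with
flatness and regularity of the generic fibre this says X -> Spec R is a Gorenstein morphism. -/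
theorem result (R : Type u) [CommRing R] [IsDomain R]
    [IsDiscreteValuationRing R] (C X : Scheme.{u})
    (f : C ⟶ Spec (CommRingCat.of (FractionRing R))) (p : X ⟶ Spec (CommRingCat.of R))
    (hC : Curve.IsSmoothProperCurve (FractionRing R) C f) (hX : Models.IsModel R X p C f)
    (hreg : Models.IsRegularScheme X) (x : ↥(Models.specialFibre R X p)) :
    LocCoh.IsGorensteinLocalRing ((Models.specialFibre R X p).presheaf.stalk x) := by
  obtain ⟨hflat, hft, -, -⟩ := hX
  haveI := hflat
  haveI := hft
  have hsq : IsPullback
      (Limits.pullback.fst p (Spec.map (CommRingCat.ofHom (algebraMap R (IsLocalRing.ResidueField R)))))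
      (Limits.pullback.snd p (Spec.map (CommRingCat.ofHom (algebraMap R (IsLocalRing.ResidueField R)))))
      p (Spec.map (CommRingCat.ofHom (algebraMap R (IsLocalRing.ResidueField R)))) :=
    IsPullback.of_hasPullback _ _
  haveI : IsClosedImmersion
      (Spec.map (CommRingCat.ofHom (algebraMap R (IsLocalRing.ResidueField R)))) :=
    IsClosedImmersion.spec_of_surjective _ IsLocalRing.residue_surjective
  have hfib : ∀ y, IsLocallyNoetherian (p.fiber y) := by
    intro y
    haveI : LocallyOfFiniteType (p.fiberToSpecResidueField y) :=
      MorphismProperty.pullback_snd _ _ hft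
    exact LocallyOfFiniteType.isLocallyNoetherian (p.fiberToSpecResidueField y)
  have hreg := hreg (Limits.pullback.fst p
    (Spec.map (CommRingCat.ofHom (algebraMap R (IsLocalRing.ResidueField R)))) x)
  have hG := @Groth.Agent.Lead.Depth.isGorensteinLocalRing_of_isRegularLocalRing _ _ hreg
  have h1 := (Groth.Agent.Helper12.GorSch.isGorensteinAt_of_gor_stalk p _
    (Flat.stalkMap p _) hG).1
  have h2 := (Groth.Agent.Helper12.GorBC.isGorensteinAt_baseChange hsq hfib x).1 h1
  exact Groth.Agent.Helper12.EtStalk.gor_of_fibre _ x h2.2

end Groth.Agent.S2225
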