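import Groth.Statements.S2228
import Mathlib
import Groth.Agent.Lib.Helper4.DiscLib

set_option autoImplicit false
universe u
open TensorProduct
open Disc

namespace Groth.Agent.S2228

/-- Special case: B finite free over the Noetherian ring A (the source allows flat quasi-finite maps).
Let J be the annihilator of the kernel of the multiplication map B tensor_A B -> B and omega =
Hom_A(B, A) with its B-module structure through the argument. Pairing xi = sum of b_i tensor c_i in
J with lambda in omega to the sum of lambda(b_i) c_i identifies J with the B-linear maps omega -> B: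
every B-linear Phi : omega -> B arises from exactly one xi in J in this way. -/
theorem result {A B : Type u} [CommRing A] [CommRing B] [Algebra A B]
    [IsNoetherianRing A] [Module.Finite A B] [Module.Free A B] (Φ : Disc.Omega A B →ₗ[B] B) :
    ∃! ξ : B ⊗[A] B,
      ξ ∈ Submodule.annihilator (RingHom.ker (Algebra.TensorProduct.lmul' (S := B) A)) ∧
        ∀ l : Disc.Omega A B,
          Φ l = TensorProduct.lift ((LinearMap.lsmul A B).comp l.toLinearMap) ξ := by
  classical
  let b := Module.Free.chooseBasis A B
  let Φ' : (B →ₗ[A] A) →ₗ[A] B :=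
    { toFun := fun l => Φ ⟨l⟩
      map_add' := fun l₁ l₂ => by rw [← map_add]; rfl
      map_smul' := fun a l => by
        rw [RingHom.id_apply, Algebra.smul_def, ← smul_eq_mul, ← map_smul]
        congr 1
        apply Disc.Omega.ext
        ext x
        change a • l x = l (algebraMap A B a * x)
        rw [← Algebra.smul_def, map_smul] }
  have hΦ' : ∀ l : Disc.Omega A B, Φ l = Φ' l.toLinearMap := fun l => rfl
  let c : Module.Free.ChooseBasisIndex A B → B := fun i => Φ' (b.coord i)
  let ξ : B ⊗[A] B := ∑ i, b i ⊗ₜ[A] c i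
  have hpsi : ∀ l : B →ₗ[A] A, Φ' l = Groth.Agent.Helper4.DiscLib.psi ξ l := by
    intro l
    rw [Groth.Agent.Helper4.DiscLib.psi_sum_basis]
    conv_lhs => rw [← b.sum_dual_apply_smul_coord l, map_sum]
    simp only [map_smul, c]
  have hlin : ∀ (s : B) (l : B →ₗ[A] A), Φ' (l ∘ₗ LinearMap.mulLeft A s) = s * Φ' l := by
    intro s l
    have := map_smul Φ s ⟨l⟩
    rw [smul_eq_mul] at this
    exact this
  refine ⟨ξ, ⟨?_, fun l => ?_⟩, ?_⟩
  · rw [Groth.Agent.Helper4.DiscLib.mem_annihilator_iff_psi b]
    intro s l
    rw [← hpsi, ← hpsi, hlin]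
  · rw [hΦ', hpsi]; rfl
  · rintro η ⟨-, hη⟩
    apply Groth.Agent.Helper4.DiscLib.eq_of_psi_eq b
    intro l
    rw [← hpsi]
    exact ((hη ⟨l⟩).symm.trans (hΦ' ⟨l⟩))

end Groth.Agent.S2228
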