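import Groth.Statements.S2236
import Mathlib
import Groth.Prelude.Def_MoreMor
import Groth.Agent.S7066
import Groth.Agent.S7067
import Groth.Agent.S2189
import Groth.Agent.S15821
import Groth.Agent.S7072
import Groth.Agent.Lib.Helper2.NLAmp2
import Groth.Agent.Lib.Helper6.KerCotProj
import Groth.Agent.Lib.Helper11.PerfHom
import Groth.Agent.Lib.Helper11.FlatPc4
-- import your own Groth.Agent.* helpers here

set_option autoImplicit false
universe u
attribute [local instance] HasDerivedCategory.standard
open LCI

namespace Groth.Agent.S2236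

section

open CategoryTheory CategoryTheory.Limits TensorProduct

attribute [local instance] HasDerivedCategory.standard

theorem pd_ker {P B : Type u} [CommRing P] [CommRing B] [Algebra P B]
    (hs : Function.Surjective (algebraMap P B))
    (hpm : DRing.IsPerfectModule P B) :
    ∃ m : ℕ, HasProjectiveDimensionLT (ModuleCat.of P (RingHom.ker (algebraMap P B))) m := by
  obtain ⟨hpc, d, hd⟩ :=
    Groth.Agent.Helper11.PerfHom.finiteTorDim_of_isPerfectModule (A := P) (P := P) (B := B) hpm
  have hpdB : HasProjectiveDimensionLT (ModuleCat.of P B) (d + 1) :=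
    Groth.Agent.Helper11.FlatPc.pdLT_succ_of_tor (ModuleCat.of P B) hpc d (fun N p hp => by
      haveI := hd N p hp
      exact ModuleCat.isZero_of_subsingleton _)
  let I : Ideal P := RingHom.ker (algebraMap P B)
  let S : ShortComplex (ModuleCat.{u} P) :=
    ShortComplex.mk (ModuleCat.ofHom I.subtype) (ModuleCat.ofHom (Algebra.linearMap P B)) (by
      ext x
      exact x.2)
  have hS : S.ShortExact := by
    refine ShortComplex.ShortExact.mk' ?_ ?_ ?_
    · rw [ShortComplex.ShortExact.moduleCat_exact_iff_function_exact]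
      intro x
      constructor
      · intro hx
        exact ⟨⟨x, hx⟩, rfl⟩
      · rintro ⟨y, rfl⟩
        exact y.2
    · rw [ModuleCat.mono_iff_injective]
      exact Subtype.val_injective
    · rw [ModuleCat.epi_iff_surjective]
      exact hs
  haveI : Module.Projective P (ModuleCat.of P P) := inferInstanceAs (Module.Projective P P)
  haveI : Projective (ModuleCat.of P P) :=
    (IsProjective.iff_projective (R := P) P).mp inferInstance
  have h2 : HasProjectiveDimensionLT S.X₂ (d + 1) :=
    hasProjectiveDimensionLT_of_ge (ModuleCat.of P P) 1 (d + 1) (by omega)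
  have h3 : HasProjectiveDimensionLT S.X₃ (d + 1 + 1) :=
    hasProjectiveDimensionLT_of_ge (ModuleCat.of P B) (d + 1) (d + 1 + 1) (by omega)
  exact ⟨d + 1, hS.hasProjectiveDimensionLT_X₁ (d + 1) h2 h3⟩

theorem main {A B : Type u} [CommRing A] [CommRing B]
    [Algebra A B] [IsNoetherianRing A] [Algebra.FiniteType A B] (hB : DRing.HasFiniteTorDim A B) :
    DRing.HasTorAmplitudeIn B (-1) 0 (LCI.NL A B) ↔ LCI.IsLCI A B := by
  refine ⟨fun hT => ?_, fun h => (Groth.Agent.S7072.result h).2⟩
  have hperf : MoreMor.IsPerfectHom A B := ⟨Groth.Agent.S7067.result A B, hB⟩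
  obtain ⟨n, φ, hφ, hpm⟩ := (Groth.Agent.S7066.result A B).mp hperf
  obtain ⟨m, hm⟩ := @pd_ker (MvPolynomial (Fin n) A) B _ _ φ.toRingHom.toAlgebra hφ hpm
  obtain ⟨G, hG⟩ : ∃ G : Algebra.Generators A B (Fin n),
      G = Algebra.Generators.ofAlgHom φ hφ := ⟨_, rfl⟩
  haveI := Groth.Agent.Helper2.NLAmp.flat_cotangentSpace G
  haveI : Module.Flat B G.toExtension.Cotangent :=
    Groth.Agent.Helper2.NLAmp.flat_cotangent_of_torAmp G.toExtension
      (G.defaultHom (Algebra.Generators.self A B)).toExtensionHom
      ((Algebra.Generators.self A B).defaultHom G).toExtensionHom hT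
  haveI : IsNoetherianRing G.toExtension.Ring :=
    (inferInstance : IsNoetherianRing (MvPolynomial (Fin n) A))
  have hproj : Module.Projective (MvPolynomial (Fin n) A ⧸ G.toExtension.ker)
      G.toExtension.ker.Cotangent :=
    Groth.Agent.Helper6.KerCotProj.ker_cotangent_projective_of_flat G.toExtension
  have hker : G.toExtension.ker = RingHom.ker φ.toRingHom := by
    rw [hG]
    ext x
    have : algebraMap (Algebra.Generators.ofAlgHom φ hφ).toExtension.Ring B x = φ x := by
      change MvPolynomial.aeval (φ ∘ MvPolynomial.X) x = φ x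
      exact (DFunLike.congr_fun (MvPolynomial.aeval_unique φ) x).symm
    show algebraMap (Algebra.Generators.ofAlgHom φ hφ).toExtension.Ring B x = 0 ↔ φ x = 0
    rw [this]
  have hKR : LCI.IsKoszulRegularIdeal (RingHom.ker φ.toRingHom) := by
    haveI : Module.Projective (MvPolynomial (Fin n) A ⧸ RingHom.ker φ.toRingHom)
        (RingHom.ker φ.toRingHom).Cotangent := hker ▸ hproj
    intro 𝔭 hle
    obtain ⟨g, hg, rs, hreg', hgen⟩ :=
      Groth.Agent.S2189.result (RingHom.ker φ.toRingHom) m hm 𝔭.asIdeal hle
    exact ⟨g, hg, rs, (Groth.Agent.S15821.result _ rs hreg'.toIsWeaklyRegular).1, hgen.symm⟩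
  exact ⟨inferInstance, n, φ, hφ, hKR⟩

end

/-- Equivalence of (1) and (3): let A be a Noetherian ring and B an A-algebra of finite type which has
finite Tor-dimension as an A-module (so that A -> B is a perfect ring map). Then NL_{B/A} has
tor-amplitude in [-1, 0] if and only if A -> B is a local complete intersection homomorphism (some
presentation has Koszul-regular kernel ideal). -/
theorem result {A B : Type u} [CommRing A] [CommRing B]
    [Algebra A B] [IsNoetherianRing A] [Algebra.FiniteType A B] (hB : DRing.HasFiniteTorDim A B) :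
    DRing.HasTorAmplitudeIn B (-1) 0 (LCI.NL A B) ↔ LCI.IsLCI A B := by
  exact Groth.Agent.S2236.main hB

end Groth.Agent.S2236
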