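import Groth.Statements.S2237
import Mathlib
import Groth.Agent.S9287
import Groth.Agent.Lib.Helper2.SyntRel3
-- import your own Groth.Agent.* helpers here

set_option autoImplicit false
universe u
attribute [local instance] HasDerivedCategory.standard
open LCI

namespace Groth.Agent.S2237

section
open Groth.Agent.Helper2.SyntRel

theorem main {A B : Type u} [CommRing A] [CommRing B] [Algebra A B] [Module.Flat A B]
    [Algebra.QuasiFinite A B] (hlci : LCI.IsLCI A B) (q : Ideal B) [q.IsPrime] :
    ∃ g : B, g ∉ q ∧ ∃ (n : ℕ) (f : Fin n → MvPolynomial (Fin n) A),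
      Nonempty (Localization.Away g ≃ₐ[A]
        (MvPolynomial (Fin n) A ⧸ Ideal.span (Set.range f))) := by
  have hsyn : Synt.IsSyntomic A B := Groth.Agent.S9287.backward A B inferInstance hlci
  obtain ⟨t, ht, n, c, F, hF, ⟨ε⟩⟩ := exists_away_relGCI hsyn q
  refine ⟨t, ht, ?_⟩
  haveI hqf : Algebra.QuasiFinite A (Synt.RelGCIRing A n c F) :=
    (Algebra.QuasiFinite.iff_of_algEquiv ε).mp inferInstance
  -- nontriviality
  haveI hntL : Nontrivial (Localization.Away t) := by
    have hu : IsUnit (algebraMap B (Localization.AtPrime q) t) :=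
      IsLocalization.map_units (Localization.AtPrime q) (⟨t, ht⟩ : q.primeCompl)
    exact RingHom.domain_nontrivial (IsLocalization.Away.lift t hu)
  haveI hntT : Nontrivial (Synt.RelGCIRing A n c F) := ε.symm.toRingEquiv.toEquiv.nontrivial
  obtain ⟨Q, hQ⟩ := Ideal.exists_maximal (Synt.RelGCIRing A n c F)
  haveI hQp : Q.IsPrime := hQ.isPrime
  let p : Ideal A := Q.under A
  haveI hp : p.IsPrime := Ideal.comap_isPrime _ _
  haveI hlies : Q.LiesOver p := ⟨rfl⟩
  let Q' : PrimeSpectrum (p.Fiber (Synt.RelGCIRing A n c F)) :=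
    PrimeSpectrum.primesOverOrderIsoFiber A (Synt.RelGCIRing A n c F) p ⟨Q, ⟨hQp, hlies⟩⟩
  haveI hnt : Nontrivial (p.Fiber (Synt.RelGCIRing A n c F)) :=
    ⟨⟨0, 1, fun h01 => Q'.isPrime.ne_top
      ((Ideal.eq_top_iff_one _).mpr (h01 ▸ Q'.asIdeal.zero_mem))⟩⟩
  obtain ⟨hcn, hdim⟩ := hF ⟨p, hp⟩ hnt
  haveI hart : IsArtinianRing (p.Fiber (Synt.RelGCIRing A n c F)) := inferInstance
  have h0 : ringKrullDim (p.Fiber (Synt.RelGCIRing A n c F)) = 0 :=
    ringKrullDimZero_iff_ringKrullDim_eq_zero.mp
      (Ring.KrullDimLE.mk₀ fun I hI => by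
        have := @IsArtinianRing.isMaximal_of_isPrime (p.Fiber (Synt.RelGCIRing A n c F)) _ I hI hart
        exact this)
  rw [h0] at hdim
  have hnc : n - c = 0 := by
    have : ((n - c : ℕ) : WithBot ℕ∞) = 0 := hdim.symm
    exact_mod_cast this
  have hn : n = c := by omega
  subst hn
  exact ⟨n, F, ⟨ε⟩⟩

end

/-- Implication (2) to (5), affine form: let A -> B be flat, quasi-finite and a local complete
intersection homomorphism (finite type with a Koszul-regular presentation). Then for every prime q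
of B there are g in B outside q, a natural number n and polynomials f_1, ..., f_n in A[x_1, ...,
x_n] such that B_g is isomorphic as an A-algebra to A[x_1, ..., x_n]/(f_1, ..., f_n). -/
theorem result {A B : Type u} [CommRing A]
    [CommRing B] [Algebra A B] [Module.Flat A B] [Algebra.QuasiFinite A B] (hlci : LCI.IsLCI A B)
    (q : Ideal B) [q.IsPrime] :
    ∃ g : B, g ∉ q ∧ ∃ (n : ℕ) (f : Fin n → MvPolynomial (Fin n) A),
      Nonempty (Localization.Away g ≃ₐ[A]
        (MvPolynomial (Fin n) A ⧸ Ideal.span (Set.range f))) := by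
  exact Groth.Agent.S2237.main hlci q

end Groth.Agent.S2237
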