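import Groth.Statements.S4357
import Groth.Agent.Lib.Helper13.PullbackStalk
import Groth.Agent.Lib.Helper13.LocalTensor
import Groth.Agent.Lib.Helper13.LocFree2

set_option autoImplicit false
universe u
open QCohSup

namespace Groth.Agent.S4357

open AlgebraicGeometry in
open CategoryTheory in

open AlgebraicGeometry in
open CategoryTheory in
/-- Consider a scheme morphism f : Y -> X together with an O_X-module F that is quasi-coherent and of
finite type. The support of the pullback of F along f (those points of Y at which its stalk does not
vanish) coincides with the inverse image under f of the support of F. (When applied to the closed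
immersions cut out by the powers of an ideal sheaf on a locally Noetherian scheme, this describes
the support of each level of a completed coherent module.) -/
theorem result
    {X Y : Scheme.{u}} (f : Y ⟶ X) (F : X.Modules) [Coh.IsQCoh F] (hF : CohB1.IsFT F) :
    CohB1.support ((Scheme.Modules.pullback f).obj F) = f.base ⁻¹' CohB1.support F := by
  haveI : SheafOfModules.IsFiniteType (R := X.ringCatSheaf) F := hF
  ext x
  simp only [CohB1.support, Set.mem_ofPred_eq, Set.mem_preimage]
  rw [not_iff_not]
  letI := (f.stalkMap x).hom.toAlgebra
  obtain ⟨e⟩ := Groth.Agent.Helper13.Pullback.exists_stalk_pullback_equiv f F x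
  haveI : Module.Finite (X.presheaf.stalk (f x)) (F.presheaf.stalk (f x)) :=
    Groth.Agent.Helper13.LocFree.finite_stalk_of_isFiniteType F (f x)
  haveI : IsLocalHom (algebraMap (X.presheaf.stalk (f x)) (Y.presheaf.stalk x)) := by
    change IsLocalHom (f.stalkMap x).hom
    infer_instance
  constructor
  · intro h
    have h' : Subsingleton (TensorProduct (X.presheaf.stalk (f x)) (Y.presheaf.stalk x)
        (F.presheaf.stalk (f x))) := e.symm.toEquiv.subsingleton
    exact Groth.Agent.Helper13.Pullback.subsingleton_of_subsingleton_tensorProduct_of_isLocalHom h'
  · intro h
    exact e.toEquiv.subsingleton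

end Groth.Agent.S4357
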