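import Groth.Statements.S2326
import Mathlib
import Groth.Agent.Lib.Helper13.IdealData
import Groth.Agent.Lib.Helper13.IdealAmple
import Groth.Agent.Lib.Helper13.FinPresSec
import Groth.Agent.Lib.Helper13.GlobGen3

set_option autoImplicit false
universe u
open CategoryTheory CategoryTheory.Limits AlgebraicGeometry
open EGA2

namespace Groth.Agent.S2326

open CategoryTheory CategoryTheory.Limits AlgebraicGeometry
open EGA2

open CategoryTheory CategoryTheory.Limits AlgebraicGeometry Opposite TopologicalSpace
open Groth.Agent.Helper13.CounitGen Groth.Agent.Helper13.VanishIdeal Groth.Agent.Helper13.GlobGen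
open Groth.Agent.Helper13.IdealData Groth.Agent.Helper13.Inv Groth.Agent.Helper13.Tensor
open Groth.Agent.Helper13.GenLoc Groth.Agent.Helper13.LocFree

/-- Let X be a quasi-compact separated scheme (the source also allows a prescheme with Noetherian
underlying space) and L an invertible module. Suppose that for every quasi-coherent ideal sheaf I of
finite type there are n > 0 and k > 0 with I ⊗ L^{⊗n} a quotient of O_X^k. Then L is ample. -/
theorem result (X : Scheme.{u}) [CompactSpace X] [X.IsSeparated] (L : X.Modules) (hL : PicF.IsInvertible L)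
    (h : ∀ I : X.IdealSheafData, BlowUp.IsFiniteTypeIdeal I →
      ∃ (n k : ℕ) (p : FlatMod.freeMod X k ⟶ CohB1.tensorMod (ClSub.idealMod I) (CohB1.tensorPow L (n + 1))), 0 < k ∧ Epi p) :
    CohB1.IsAmple L := by
  haveI : QuasiSeparatedSpace X := inferInstance
  refine ⟨hL, inferInstance, fun x => ?_⟩
  obtain ⟨W, hW, hxW, -⟩ := exists_isAffineOpen_mem_and_subset (x := x) (U := ⊤) trivial
  let Zc : Closeds X := ⟨(W : Set X)ᶜ, W.2.isClosed_compl⟩
  let iZ := (Scheme.IdealSheafData.vanishingIdeal Zc).subschemeι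
  have hrange : Set.range iZ = (W : Set X)ᶜ := by
    rw [Scheme.IdealSheafData.range_subschemeι, Scheme.IdealSheafData.coe_support_vanishingIdeal]
    rfl
  have hcl : IsClosed (Set.range iZ) := by rw [hrange]; exact W.2.isClosed_compl
  obtain ⟨J, φ, h1, h2, h3, V, hxV, k, hk⟩ := exists_finiteType_ideal iZ hcl x
    (by rw [hrange]; exact fun h => h hxW)
  haveI := h1
  haveI := h2
  haveI := h3
  let j : J ⟶ Coh.structureModule X := φ ≫ idealι iZ
  let I : X.IdealSheafData := idealSheafData j
  have hIft : BlowUp.IsFiniteTypeIdeal I := fun U => fg_ideal_idealSheafData j U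
  have hxI : x ∉ I.support := notMem_support_idealSheafData j x hxV k hk
  have hWI : ∀ z : X, z ∉ W → z ∈ I.support := by
    intro z hz
    apply mem_support_idealSheafData j z
    intro U a hza
    exact basicOpen_idealι_disjoint iZ U (φ.app U a) z hza (by rw [hrange]; exact hz)
  obtain ⟨n, k', p, hk', hp⟩ := h I hIft
  let i' := I.subschemeι
  have hrange' : Set.range i' = (I.support : Set X) := Scheme.IdealSheafData.range_subschemeι I
  have hcl' : IsClosed (Set.range i') := by rw [hrange']; exact I.support.2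
  have heq : ClSub.toSubscheme I = sharp i' := by
    apply Scheme.Modules.hom_ext
    intro U
    rfl
  let e : ClSub.idealMod I ≅ idealMod i' := kernelIsoOfEq heq
  let N := CohB1.tensorPow L (n + 1)
  have hN : PicF.IsInvertible N := isInvertible_tensorPow L hL (n + 1)
  let M := CohB1.tensorMod (idealMod i') N
  let p' : FlatMod.freeMod X k' ⟶ M := p ≫ (mapIso e (Iso.refl N)).hom
  haveI : Epi p' := epi_comp p _
  have hcard : Nat.card (ULift.{u} (Fin k')) = k' := by simp
  have hgg : Curv2.IsGloballyGenerated M := by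
    let q₁ : FlatMod.freeMod X (Nat.card (ULift.{u} (Fin k'))) ⟶ M := eqToHom (by rw [hcard]) ≫ p'
    haveI : Epi q₁ := epi_comp _ p'
    let q₂ : (SheafOfModules.free (ULift.{u} (Fin k')) : X.Modules) ⟶ M :=
      (Groth.Agent.Helper13.LocFree.freeIsoFreeMod (X := X) (ULift.{u} (Fin k'))).hom ≫ q₁
    haveI : Epi q₂ := epi_comp _ q₁
    exact ⟨ULift.{u} (Fin k'), q₂, inferInstance⟩
  have hspan : secSpan M ⊤ x trivial = ⊤ := (isGloballyGenerated_iff M).1 hgg x
  obtain ⟨V', hxV', k₁, hk₁⟩ := exists_one_section i' hcl' x (by rw [hrange']; exact hxI)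
  obtain ⟨s, hs1, hs2⟩ := exists_section_twist i' (𝟙 (idealMod i')) hN ⊤ x trivial
    ⟨V', hxV', k₁, hk₁⟩ hspan
  let σ : Coh.structureModule X ⟶ N := homOfSec N s
  have hmem : ∀ z : X, z ∈ CohB1.genLocus N σ ↔ IsGen N s z trivial := by
    intro z
    rw [mem_genLocus_iff_isGen N σ hN z, sec_homOfSec]
  have hle : CohB1.genLocus N σ ≤ W := by
    intro z hz
    by_contra hzW
    exact hs2 z trivial (by rw [hrange']; exact hWI z hzW) ((hmem z).1 hz)
  exact ⟨n, σ, (hmem x).2 hs1, isAffineOpen_genLocus_of_le N hN σ hW hle⟩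

end Groth.Agent.S2326
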