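import Groth.Statements.S2335
import Mathlib
import Groth.Agent.Lib.Helper4.DVRUC
import Groth.Agent.Lib.Helper4.DVRSep

set_option autoImplicit false
universe u
open CategoryTheory CategoryTheory.Limits AlgebraicGeometry
open EGA2

namespace Groth.Agent.S2335

/-- Let Y be locally Noetherian and f : X → Y of finite type. Then f is proper if and only if for every
discrete valuation ring A with fraction field K and every commutative square Spec K → X, Spec A → Y,
there is exactly one morphism Spec A → X making both triangles commute. -/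
theorem result {X Y : Scheme.{u}} [IsLocallyNoetherian Y] (f : X ⟶ Y) [LocallyOfFiniteType f] [QuasiCompact f] :
    IsProper f ↔ ∀ (A : Type u) [CommRing A] [IsDomain A] [IsDiscreteValuationRing A] (x : (Spec (CommRingCat.of (FractionRing A))) ⟶ X) (y : (Spec (CommRingCat.of A)) ⟶ Y),
      x ≫ f = (Spec.map (CommRingCat.ofHom (algebraMap A (FractionRing A)))) ≫ y → ∃! l : (Spec (CommRingCat.of A)) ⟶ X, l ≫ f = y ∧ (Spec.map (CommRingCat.ofHom (algebraMap A (FractionRing A)))) ≫ l = x := by
  constructor
  · intro hf A _ _ _ x y hxy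
    have hE : ValuativeCriterion.Existence f := by
      have := UniversallyClosed.eq_valuativeCriterion
      have h2 : (ValuativeCriterion.Existence ⊓ @QuasiCompact) f := by
        rw [← this]; infer_instance
      exact h2.1
    have hU := IsSeparated.valuativeCriterion f
    let Sq : ValuativeCommSq f :=
      { R := A
        K := FractionRing A
        i₁ := x
        i₂ := y
        commSq := ⟨hxy⟩ }
    obtain ⟨l, hl₁, hl₂⟩ := (hE Sq).exists_lift
    refine ⟨l, ⟨hl₂, hl₁⟩, ?_⟩
    rintro l' ⟨hl'₂, hl'₁⟩
    have hS : Subsingleton Sq.commSq.LiftStruct := hU Sq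
    let k₁ : Sq.commSq.LiftStruct := ⟨l, hl₁, hl₂⟩
    let k₂ : Sq.commSq.LiftStruct := ⟨l', hl'₁, hl'₂⟩
    have hk : k₂ = k₁ := Subsingleton.elim _ _
    exact congrArg CommSq.LiftStruct.l hk
  · intro H
    have hUC : UniversallyClosed f := by
      apply Groth.Agent.Helper4.DVRUC.universallyClosed_of_dvrExistence f
      intro A _ _ _ x y hxy
      obtain ⟨l, hl, -⟩ := H A x y hxy
      exact ⟨l, hl⟩
    have hsep : IsSeparated f := by
      apply Groth.Agent.Helper4.DVRSep.isSeparated_of_dvr f
      intro A _ _ _ g₁ g₂ h1 h2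
      obtain ⟨l, -, hl⟩ := H A (Spec.map (CommRingCat.ofHom (algebraMap A (FractionRing A))) ≫ g₁)
        (g₁ ≫ f) (by rw [Category.assoc])
      rw [hl g₁ ⟨rfl, rfl⟩, hl g₂ ⟨h1.symm, h2.symm⟩]
    exact { }

end Groth.Agent.S2335
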