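import Groth.Statements.S2341
import Mathlib

set_option autoImplicit false
universe u
open CategoryTheory CategoryTheory.Limits AlgebraicGeometry
open EGA2

namespace Groth.Agent.S2341
open TopologicalSpace

/-- A quasi-compact morphism X → Y whose underlying map is a homeomorphism onto its image (for instance
a closed immersion) is quasi-affine. -/
theorem result {X Y : Scheme.{u}} (f : X ⟶ Y) [QuasiCompact f]
    (hf : Topology.IsEmbedding f.base) : Mor2.IsQuasiAffine f := by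
  refine ⟨inferInstance, fun V hV => ?_⟩
  have hc : CompactSpace ↥(f ⁻¹ᵁ V) :=
    isCompact_iff_compactSpace.mp (QuasiCompact.isCompact_preimage (f := f) _ V.2 hV.isCompact)
  have : IsAffine V.toScheme := hV
  have hg : Topology.IsEmbedding (f ∣_ V).base := by
    have : ⇑(f ∣_ V).base = V.1.restrictPreimage f.base := morphismRestrict_base f V
    rw [this]; exact hf.restrictPreimage _
  refine @Scheme.IsQuasiAffine.of_forall_exists_mem_basicOpen _ hc fun x => ?_
  obtain ⟨U, hU, hxU⟩ : ∃ U : (f ⁻¹ᵁ V).toScheme.Opens, IsAffineOpen U ∧ x ∈ U := by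
    obtain ⟨_, ⟨U, hU, rfl⟩, hxU, -⟩ :=
      ((f ⁻¹ᵁ V).toScheme.isBasis_affineOpens).exists_subset_of_mem_open (Set.mem_univ x) isOpen_univ
    exact ⟨U, hU, hxU⟩
  obtain ⟨W, hW, hWU⟩ := hg.isInducing.isOpen_iff.mp U.2
  obtain ⟨_, ⟨_, ⟨s, rfl⟩, rfl⟩, hxs, hsW⟩ :=
    (isBasis_basicOpen V.toScheme).exists_subset_of_mem_open
      (a := (f ∣_ V).base x) (ou := hW) (by
        have : x ∈ (f ∣_ V).base ⁻¹' W := by rw [hWU]; exact hxU
        exact this)
  have h1 : (f ⁻¹ᵁ V).toScheme.basicOpen ((f ∣_ V).appTop s) =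
      (f ∣_ V) ⁻¹ᵁ (V.toScheme.basicOpen s) := (Scheme.preimage_basicOpen_top (f ∣_ V) s).symm
  refine ⟨(f ∣_ V).appTop s, ?_, ?_⟩
  · have h2 : (f ⁻¹ᵁ V).toScheme.basicOpen ((f ∣_ V).appTop s) ≤ U := by
      rw [h1]
      intro y hy
      have : y ∈ (f ∣_ V).base ⁻¹' W := hsW hy
      rw [hWU] at this
      exact this
    have h3 : (f ⁻¹ᵁ V).toScheme.basicOpen ((f ∣_ V).appTop s) =
        (f ⁻¹ᵁ V).toScheme.basicOpen
          ((f ⁻¹ᵁ V).toScheme.presheaf.map (homOfLE (le_top : U ≤ ⊤)).op ((f ∣_ V).appTop s)) := by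
      rw [Scheme.basicOpen_res]; exact (inf_eq_right.mpr h2).symm
    rw [h3]; exact hU.basicOpen _
  · rw [h1]; exact hxs

end Groth.Agent.S2341
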