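import Groth.Statements.S2346
import Groth.Agent.Lib.Helper4.CurveTop

set_option autoImplicit false
universe u
open CategoryTheory CategoryTheory.Limits AlgebraicGeometry
open EGA2

namespace Groth.Agent.S2346

/-- Let X and Y be irreducible algebraic curves over k (separated, of finite type, local rings at closed
points one-dimensional) and f : X → Y a k-morphism. Then f is dominant if and only if every fibre
f⁻¹(y) is a finite set. -/
theorem result (k : Type u) [Field k] (X Y : Scheme.{u}) [X.Over (Spec (CommRingCat.of k))] [Y.Over (Spec (CommRingCat.of k))]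
    [LocallyOfFiniteType (X ↘ (Spec (CommRingCat.of k)))] [QuasiCompact (X ↘ (Spec (CommRingCat.of k)))] [IsSeparated (X ↘ (Spec (CommRingCat.of k)))] [LocallyOfFiniteType (Y ↘ (Spec (CommRingCat.of k)))] [QuasiCompact (Y ↘ (Spec (CommRingCat.of k)))] [IsSeparated (Y ↘ (Spec (CommRingCat.of k)))] [IrreducibleSpace X] [IrreducibleSpace Y]
    (hX : (∀ x : X, IsClosed ({x} : Set X) → ringKrullDim (X.presheaf.stalk x) = 1)) (hY : (∀ x : Y, IsClosed ({x} : Set Y) → ringKrullDim (Y.presheaf.stalk x) = 1))
    (f : X ⟶ Y) (hf : f ≫ (Y ↘ (Spec (CommRingCat.of k))) = X ↘ (Spec (CommRingCat.of k))) :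
    IsDominant f ↔ ∀ y : Y, (f.base ⁻¹' {y}).Finite := by
  haveI : IsLocallyNoetherian X :=
    LocallyOfFiniteType.isLocallyNoetherian (X ↘ (Spec (CommRingCat.of k)))
  haveI : CompactSpace X :=
    QuasiCompact.compactSpace_of_compactSpace (X ↘ (Spec (CommRingCat.of k)))
  haveI : IsNoetherian X := ⟨⟩
  haveI : IsLocallyNoetherian Y :=
    LocallyOfFiniteType.isLocallyNoetherian (Y ↘ (Spec (CommRingCat.of k)))
  haveI : CompactSpace Y :=
    QuasiCompact.compactSpace_of_compactSpace (Y ↘ (Spec (CommRingCat.of k)))
  haveI : IsNoetherian Y := ⟨⟩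
  haveI : JacobsonSpace X := LocallyOfFiniteType.jacobsonSpace (X ↘ (Spec (CommRingCat.of k)))
  haveI : JacobsonSpace Y := LocallyOfFiniteType.jacobsonSpace (Y ↘ (Spec (CommRingCat.of k)))
  haveI : LocallyOfFiniteType f := by
    have : LocallyOfFiniteType (f ≫ (Y ↘ Spec (CommRingCat.of k))) := by rw [hf]; infer_instance
    exact locallyOfFiniteType_of_comp f (Y ↘ Spec (CommRingCat.of k))
  have hYcl : ∀ y : Y, y ≠ genericPoint Y → IsClosed ({y} : Set Y) := by
    intro y hy
    by_contra h
    exact hy (Groth.Agent.Helper4.CurveTop.eq_genericPoint_of_not_isClosed Y hY y h)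
  have hXcl : ∀ x : X, x ≠ genericPoint X → IsClosed ({x} : Set X) := by
    intro x hx
    by_contra h
    exact hx (Groth.Agent.Helper4.CurveTop.eq_genericPoint_of_not_isClosed X hX x h)
  have hξY := Groth.Agent.Helper4.CurveTop.not_isClosed_genericPoint Y hY
  have hξX := Groth.Agent.Helper4.CurveTop.not_isClosed_genericPoint X hX
  constructor
  · intro hdom y
    have hgen : f (genericPoint X) = genericPoint Y := by
      have h1 := (genericPoint_spec X).image f.continuous
      rw [Set.image_univ, f.denseRange.closure_range] at h1
      exact h1.eq (genericPoint_spec Y)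
    by_cases hy : y = genericPoint Y
    · subst hy
      refine (Set.finite_singleton (genericPoint X)).subset ?_
      intro x hx
      rw [Set.mem_singleton_iff]
      by_contra hne
      apply hξY
      have h2 : x ∈ closedPoints X := (mem_closedPoints_iff).mpr (hXcl x hne)
      have h3 := f.closePoints_subset_preimage_closedPoints h2
      rw [Set.mem_preimage, mem_closedPoints_iff] at h3
      rwa [show f x = genericPoint Y from hx] at h3
    · have hcl : IsClosed (f.base ⁻¹' {y}) := (hYcl y hy).preimage f.continuous
      refine (Groth.Agent.Helper4.CurveTop.finite_of_isClosed_of_ne_univ X hX _ hcl ?_).1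
      intro h
      have : genericPoint X ∈ f.base ⁻¹' {y} := by rw [h]; trivial
      exact hy (hgen.symm.trans this).symm
  · intro hfin
    by_cases hy : f (genericPoint X) = genericPoint Y
    · refine ⟨?_⟩
      have hd : Dense ({genericPoint Y} : Set Y) := by
        rw [dense_iff_closure_eq]
        exact (genericPoint_spec Y)
      exact hd.mono (Set.singleton_subset_iff.mpr ⟨genericPoint X, hy⟩)
    · exfalso
      have hcl := hYcl _ hy
      have hall : ∀ x : X, f x = f (genericPoint X) := by
        intro x
        have h1 : genericPoint X ⤳ x := (genericPoint_spec X).specializes trivial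
        have h2 : f (genericPoint X) ⤳ f x := h1.map f.continuous
        have h3 := specializes_iff_mem_closure.mp h2
        rw [hcl.closure_eq, Set.mem_singleton_iff] at h3
        exact h3
      have huniv : f.base ⁻¹' {f (genericPoint X)} = Set.univ := by
        rw [Set.eq_univ_iff_forall]
        intro x
        exact hall x
      have hXfin : (Set.univ : Set X).Finite := huniv ▸ hfin _
      have hopen : IsOpen ({genericPoint X} : Set X) := by
        rw [← isClosed_compl_iff]
        have h4 : ({genericPoint X}ᶜ : Set X) = ⋃ x ∈ ({genericPoint X}ᶜ : Set X), {x} :=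
          (Set.biUnion_of_singleton _).symm
        rw [h4]
        exact (hXfin.subset (Set.subset_univ _)).isClosed_biUnion fun x hx => hXcl x hx
      obtain ⟨z, hz1, hz2⟩ := nonempty_inter_closedPoints (X := X)
        (Set.singleton_nonempty (genericPoint X)) hopen.isLocallyClosed
      rw [Set.mem_singleton_iff] at hz1
      subst hz1
      exact hξX (mem_closedPoints_iff.mp hz2)

end Groth.Agent.S2346
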