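import Groth.Statements.S2347
import Mathlib
import Groth.Agent.Lib.Helper7.FinBir

set_option autoImplicit false
universe u
open CategoryTheory CategoryTheory.Limits AlgebraicGeometry
open EGA2

namespace Groth.Agent.S2347
theorem bijective_of_integral_of_retraction {A B K : Type*} [CommRing A] [IsDomain A]
    [IsIntegrallyClosed A] [CommRing B] [IsDomain B] [CommRing K] [IsDomain K] [Algebra A K]
    [IsFractionRing A K] (φ : A →+* B) (hφ : φ.IsIntegral) (ρ : B →+* K)
    (hρ : ∀ a, ρ (φ a) = algebraMap A K a) : Function.Bijective φ := by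
  have hcomp : ρ.comp φ = algebraMap A K := RingHom.ext hρ
  constructor
  · intro a a' h
    apply IsFractionRing.injective A K
    rw [← hρ, ← hρ, h]
  · intro b
    obtain ⟨p, hp, hpb⟩ := hφ b
    have hint : IsIntegral A (ρ b) := by
      refine ⟨p, hp, ?_⟩
      rw [← hcomp, ← Polynomial.hom_eval₂, hpb, map_zero]
    obtain ⟨a, ha⟩ := IsIntegrallyClosed.algebraMap_eq_of_integral hint
    refine ⟨a, ?_⟩
    letI : Algebra A B := φ.toAlgebra
    haveI : Algebra.IsIntegral A B := ⟨fun x => hφ x⟩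
    have hker : RingHom.ker ρ = ⊥ := by
      apply Ideal.eq_bot_of_comap_eq_bot (R := A)
      rw [eq_bot_iff]
      intro x hx
      rw [Ideal.mem_comap, RingHom.mem_ker] at hx
      have hx' : algebraMap A K x = 0 := by rw [← hρ]; exact hx
      rw [Ideal.mem_bot]
      exact (injective_iff_map_eq_zero _).mp (IsFractionRing.injective A K) x hx'
    have hc : b - φ a ∈ RingHom.ker ρ := by
      rw [RingHom.mem_ker, map_sub, hρ, ha, sub_self]
    rw [hker, Ideal.mem_bot, sub_eq_zero] at hc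
    exact hc.symm

theorem isIso_stalkMap_of_eq_ι {X : Scheme.{u}} (U : X.Opens) (j : (U : Scheme.{u}) ⟶ X)
    (hj : j = U.ι) (x : U) : IsIso (j.stalkMap x) := by
  subst hj
  infer_instance

theorem key {X X' : Scheme.{u}} [IsIntegral X] [IsIntegral X'] (hX : Pi1.IsNormalScheme X)
    (g : X' ⟶ X) [IsIntegralHom g] (U : X.Opens) (hU : Dense (U : Set X))
    (s : (U : Scheme.{u}) ⟶ X') (hs : s ≫ g = U.ι) (V : X.Opens) (hV : IsAffineOpen V)
    [Nonempty V] : Function.Bijective (g.app V).hom := by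
  have hN : ∀ y : X, IsIntegrallyClosed (X.presheaf.stalk y) := fun y => (hX y).2
  have hηU : genericPoint X ∈ U := by
    obtain ⟨z, hz⟩ := hU.nonempty
    exact ((genericPoint_spec X).mem_open_set_iff U.isOpen).mpr ⟨z, Set.mem_univ z, hz⟩
  let ηU : U := ⟨genericPoint X, hηU⟩
  have hgen : (s ≫ g) ηU = genericPoint X := by
    rw [hs]
    rfl
  have hξV : (s ≫ g) ηU ∈ V := by
    rw [hgen]
    obtain ⟨z⟩ := ‹Nonempty V›
    exact ((genericPoint_spec X).mem_open_set_iff V.isOpen).mpr ⟨z.1, Set.mem_univ _, z.2⟩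
  have hξV' : s ηU ∈ g ⁻¹ᵁ V := hξV
  haveI : Nonempty (g ⁻¹ᵁ V) := ⟨⟨s ηU, hξV'⟩⟩
  letI := (X.presheaf.germ V ((s ≫ g) ηU) hξV).hom.toAlgebra
  haveI hfr : IsFractionRing Γ(X, V) (X.presheaf.stalk ((s ≫ g) ηU)) :=
    Groth.Agent.Helper7.FinBir.isFractionRing_stalk_of_eq_genericPoint V hV _ hgen hξV
  haveI hic : IsIntegrallyClosed Γ(X, V) :=
    Groth.Agent.Helper7.FinBir.isIntegrallyClosed_of_stalk hN V hV
  haveI : IsDomain (X.presheaf.stalk ((s ≫ g) ηU)) := IsFractionRing.isDomain Γ(X, V)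
  haveI hσ : IsIso ((s ≫ g).stalkMap ηU) := isIso_stalkMap_of_eq_ι U (s ≫ g) hs ηU
  let ρ : Γ(X', g ⁻¹ᵁ V) →+* X.presheaf.stalk ((s ≫ g) ηU) :=
    (inv ((s ≫ g).stalkMap ηU)).hom.comp
      ((s.stalkMap ηU).hom.comp (X'.presheaf.germ (g ⁻¹ᵁ V) (s ηU) hξV').hom)
  apply bijective_of_integral_of_retraction (K := X.presheaf.stalk ((s ≫ g) ηU))
    (g.app V).hom (IsIntegralHom.isIntegral_app g V hV) ρ
  intro a
  change (inv ((s ≫ g).stalkMap ηU)).hom ((s.stalkMap ηU).hom
    ((X'.presheaf.germ (g ⁻¹ᵁ V) (s ηU) hξV').hom ((g.app V).hom a))) =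
    (X.presheaf.germ V ((s ≫ g) ηU) hξV).hom a
  have h1 : (X'.presheaf.germ (g ⁻¹ᵁ V) (s ηU) hξV').hom ((g.app V).hom a) =
      (g.stalkMap (s ηU)).hom ((X.presheaf.germ V (g (s ηU)) hξV).hom a) :=
    (Scheme.Hom.germ_stalkMap_apply g V (s ηU) hξV a).symm
  rw [h1]
  have h2 : (s.stalkMap ηU).hom ((g.stalkMap (s ηU)).hom
      ((X.presheaf.germ V (g (s ηU)) hξV).hom a)) =
      ((s ≫ g).stalkMap ηU).hom ((X.presheaf.germ V ((s ≫ g) ηU) hξV).hom a) := by
    rw [Scheme.Hom.stalkMap_comp]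
    rfl
  rw [h2]
  change ((s ≫ g).stalkMap ηU ≫ inv ((s ≫ g).stalkMap ηU)).hom _ = _
  rw [IsIso.hom_inv_id]
  rfl

/-- Let X be an integral normal scheme, X' an integral scheme and g : X' → X an integral morphism. If g
has a rational section (a morphism s from a dense open U of X to X' with g ∘ s the inclusion of U),
then g is an isomorphism. -/
theorem result {X X' : Scheme.{u}} [IsIntegral X] [IsIntegral X'] (hX : Pi1.IsNormalScheme X)
    (g : X' ⟶ X) [IsIntegralHom g] (U : X.Opens) (hU : Dense (U : Set X)) (s : (U : Scheme.{u}) ⟶ X') (hs : s ≫ g = U.ι) :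
    IsIso g := by
  rw [← MorphismProperty.isomorphisms.iff]
  apply (IsZariskiLocalAtTarget.iff_of_iSup_eq_top (P := MorphismProperty.isomorphisms Scheme)
    (fun y : X => (X.affineCover.f (X.affineCover.idx y)).opensRange)
    (eq_top_iff.2 fun y _ => TopologicalSpace.Opens.mem_iSup.2 ⟨y, X.affineCover.covers y⟩)).2
  intro y
  have hV : IsAffineOpen (X.affineCover.f (X.affineCover.idx y)).opensRange :=
    isAffineOpen_opensRange _
  have : Nonempty (X.affineCover.f (X.affineCover.idx y)).opensRange :=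
    ⟨⟨y, X.affineCover.covers y⟩⟩
  rw [MorphismProperty.isomorphisms.iff, isIso_morphismRestrict_iff_isIso_app g hV]
  rw [ConcreteCategory.isIso_iff_bijective]
  exact key hX g U hU s hs _ hV

end Groth.Agent.S2347
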