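import Groth.Statements.S2348
import Mathlib
import Groth.Agent.S1681
import Groth.Agent.Lib.Helper28.BlowBC
import Groth.Agent.Lib.Helper28.EffCartierOld

set_option autoImplicit false
universe u
open CategoryTheory CategoryTheory.Limits AlgebraicGeometry
open EGA2

namespace Groth.Agent.S2348

/-- For an ideal of O_Y: let Y be an integral scheme, I a nonzero quasi-coherent ideal sheaf and b : X →
Y a blowing up of Y in I (characterised by its universal property). Then X is integral, b sends the
generic point of X to that of Y and induces a bijection on their residue fields (b is birational).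
The printed statement also asserts that b is surjective; the proof does not show this and it fails
when I is not of finite type, so it is left out. -/
theorem result {X Y : Scheme.{u}} [IsIntegral Y] (I : Y.IdealSheafData) (hI : I ≠ ⊥)
    (b : X ⟶ Y) (hb : BlowUp.IsBlowUp b I) :
    ∃ (_ : IsIntegral X), ∃ hgen : b.base (genericPoint X) = genericPoint Y,
      Function.Bijective (b.residueFieldMap (genericPoint X)).hom := by
  classical
  have hS := Groth.Agent.S1681.result I b hb
  set W : Y.Opens := I.support.compl with hW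
  have hiso : IsIso (b ∣_ W) :=
    Groth.Agent.Helper28.EffCartierOld.isIso_morphismRestrict_compl I b hb
  -- the generic point of `Y` is not in the support
  have hη : genericPoint Y ∉ I.support := by
    obtain ⟨U, hU⟩ : ∃ U : Y.affineOpens, I.ideal U ≠ ⊥ := by
      by_contra hcon
      push Not at hcon
      apply hI
      apply Scheme.IdealSheafData.ext
      funext U
      rw [hcon U]
      rfl
    obtain ⟨f, hfI, hf0⟩ : ∃ f ∈ I.ideal U, f ≠ 0 := by
      by_contra hcon
      push Not at hcon
      apply hU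
      rw [eq_bot_iff]
      intro f hf
      rw [Ideal.mem_bot]
      exact hcon f hf
    have hne : Y.basicOpen f ≠ ⊥ := fun h => hf0 ((basicOpen_eq_bot_iff f).1 h)
    obtain ⟨y, hy⟩ := (TopologicalSpace.Opens.ne_bot_iff_nonempty _).1 hne
    have hmem : genericPoint Y ∈ Y.basicOpen f :=
      (genericPoint_specializes y).mem_open (Y.basicOpen f).2 hy
    have hU' : genericPoint Y ∈ U.1 := Y.basicOpen_le f hmem
    intro hsupp
    rw [Scheme.IdealSheafData.mem_support_iff_of_mem hU', Scheme.mem_zeroLocus_iff] at hsupp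
    exact hsupp f hfI hmem
  have hmaxY : ∀ y : Y, (∀ z : Y, z ⤳ y → z = y) → y = genericPoint Y := fun y hy =>
    (hy _ (genericPoint_specializes y)).symm
  have hgenmaxY : ∀ z : Y, z ⤳ genericPoint Y → z = genericPoint Y := fun z hz =>
    (hz.antisymm (genericPoint_specializes z)).eq
  -- the unique maximal point of `X`
  obtain ⟨ξ, hξmax, hξb⟩ := hS.surjOn ⟨hgenmaxY, hη⟩
  have hξb' : b ξ = genericPoint Y := hξb
  have huniq : ∀ x' : X, (∀ y : X, y ⤳ x' → y = x') → x' = ξ := by
    intro x' hx'
    apply hS.injOn hx' hξmax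
    show b x' = b ξ
    rw [hξb']
    have h1 := hS.mapsTo hx'
    exact hmaxY _ h1.1
  -- every point has a maximal generization
  have hexmax : ∀ x : X, ∃ x' : X, x' ⤳ x ∧ ∀ y : X, y ⤳ x' → y = x' := by
    intro x
    obtain ⟨V, hV, hxV, -⟩ := exists_isAffineOpen_mem_and_subset (x := x) (U := ⊤) trivial
    set p := hV.primeIdealOf ⟨x, hxV⟩ with hp
    have hpx : hV.fromSpec p = x := hV.fromSpec_primeIdealOf ⟨x, hxV⟩
    obtain ⟨q, hq, hqp⟩ := Ideal.exists_minimalPrimes_le (I := ⊥) (J := p.asIdeal) bot_le
    let q' : PrimeSpectrum Γ(X, V) := ⟨q, hq.1.1⟩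
    have h1 : q' ⤳ p := (PrimeSpectrum.le_iff_specializes q' p).1 hqp
    refine ⟨hV.fromSpec q', ?_, ?_⟩
    · rw [← hpx]
      exact h1.map hV.fromSpec.continuous
    · intro y hy
      have hqV : hV.fromSpec q' ∈ V := by
        have h2 : hV.fromSpec q' ∈ Set.range hV.fromSpec := Set.mem_range_self q'
        rw [hV.range_fromSpec] at h2
        exact h2
      have hyV : y ∈ V := hy.mem_open V.2 hqV
      set r := hV.primeIdealOf ⟨y, hyV⟩ with hr
      have hry : hV.fromSpec r = y := hV.fromSpec_primeIdealOf ⟨y, hyV⟩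
      rw [← hry] at hy
      have h3 : r ⤳ q' := hV.fromSpec.isOpenEmbedding.isInducing.specializes_iff.1 hy
      have h4 : r.asIdeal ≤ q := (PrimeSpectrum.le_iff_specializes r q').2 h3
      have h5 : q ≤ r.asIdeal := hq.2 ⟨r.2, bot_le⟩ h4
      have h6 : r = q' := PrimeSpectrum.ext (le_antisymm h4 h5)
      rw [← hry, h6]
  have hξall : ∀ x : X, ξ ⤳ x := by
    intro x
    obtain ⟨x', hx'x, hx'max⟩ := hexmax x
    rw [← huniq x' hx'max]
    exact hx'x
  have hirr : IrreducibleSpace X := by
    haveI : PreirreducibleSpace X := by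
      refine ⟨?_⟩
      rintro u v hu hv ⟨x, -, hxu⟩ ⟨y, -, hyv⟩
      exact ⟨ξ, trivial, (hξall x).mem_open hu hxu, (hξall y).mem_open hv hyv⟩
    exact ⟨⟨ξ⟩⟩
  have hred : IsReduced X := by
    haveI : ∀ x : X, _root_.IsReduced (X.presheaf.stalk x) := by
      intro x
      obtain ⟨U, hU, hbxU, -⟩ := exists_isAffineOpen_mem_and_subset (x := b x) (U := ⊤) trivial
      obtain ⟨a, ha, j, hj, ⟨y, hy⟩, hjb⟩ :=
        Groth.Agent.Helper28.BlowBC.exists_chart_of_isBlowUp I b hb ⟨U, hU⟩ x hbxU
      haveI := hj
      haveI : Nonempty U := ⟨⟨b x, hbxU⟩⟩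
      haveI : IsDomain Γ(Y, U) := inferInstance
      haveI : _root_.IsReduced ↥(BlowUp.affineAlgebra Γ(Y, U) (I.ideal ⟨U, hU⟩) a) :=
        isReduced_of_injective (BlowUp.affineAlgebra Γ(Y, U) (I.ideal ⟨U, hU⟩) a).val.toRingHom
          Subtype.val_injective
      have h1 : _root_.IsReduced (X.presheaf.stalk (j y)) :=
        isReduced_of_injective (j.stalkMap y).hom
          ((ConcreteCategory.bijective_of_isIso (j.stalkMap y)).1)
      rw [← hy]
      exact h1
    exact isReduced_of_isReduced_stalk X
  have hint : IsIntegral X := (isIntegral_iff_irreducibleSpace_and_isReduced X).mpr ⟨hirr, hred⟩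
  have hgen_eq : genericPoint X = ξ := by
    apply huniq
    intro y hy
    exact (hy.antisymm (genericPoint_specializes y)).eq
  have hgen : b.base (genericPoint X) = genericPoint Y := by
    rw [hgen_eq]
    exact hξb'
  refine ⟨hint, hgen, ?_⟩
  have hmemW : b.base (genericPoint X) ∈ W := by
    rw [hgen]
    exact hη
  let z : ((b ⁻¹ᵁ W : X.Opens) : Scheme.{u}) := ⟨genericPoint X, hmemW⟩
  have e := morphismRestrict_ι b W
  have h1 : IsIso (((b ∣_ W) ≫ W.ι).residueFieldMap z) := by
    rw [Scheme.residueFieldMap_comp]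
    have i1 : IsIso ((b ∣_ W).residueFieldMap z) := inferInstance
    have i2 : IsIso (W.ι.residueFieldMap ((b ∣_ W) z)) := inferInstance
    exact IsIso.comp_isIso' i2 i1
  have h2 : IsIso (((b ⁻¹ᵁ W).ι ≫ b).residueFieldMap z) := by
    rw [Scheme.Hom.residueFieldMap_congr e.symm z]
    exact IsIso.comp_isIso' inferInstance h1
  rw [Scheme.residueFieldMap_comp] at h2
  have h3 : IsIso (b.residueFieldMap ((b ⁻¹ᵁ W).ι z)) :=
    @IsIso.of_isIso_comp_right _ _ _ _ _ (b.residueFieldMap ((b ⁻¹ᵁ W).ι z))
      ((b ⁻¹ᵁ W).ι.residueFieldMap z) inferInstance h2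
  have h4 : IsIso (b.residueFieldMap (genericPoint X)) := h3
  exact ConcreteCategory.bijective_of_isIso (b.residueFieldMap (genericPoint X))

end Groth.Agent.S2348
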