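import Groth.Statements.S2349
import Mathlib.AlgebraicGeometry.Morphisms.Proper
import Mathlib.AlgebraicGeometry.PullbackCarrier

set_option autoImplicit false
universe u
open CategoryTheory CategoryTheory.Limits AlgebraicGeometry
open EGA2

namespace Groth.Agent.S2349

/-- Let f : X → Y be separated and of finite type, and let j_i : X_i → X and h_i : Y_i → Y (i in a
finite index type) be closed immersions with morphisms f_i : X_i → Y_i satisfying j_i ≫ f = f_i ≫
h_i, such that the images of the j_i cover X. Then f is proper if and only if every f_i is proper. -/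
theorem result {X Y : Scheme.{u}} (f : X ⟶ Y) [IsSeparated f] [LocallyOfFiniteType f] [QuasiCompact f]
    (ι : Type u) [Finite ι] (Xi Yi : ι → Scheme.{u}) (j : ∀ i, Xi i ⟶ X) (h : ∀ i, Yi i ⟶ Y) (fi : ∀ i, Xi i ⟶ Yi i)
    [∀ i, IsClosedImmersion (j i)] [∀ i, IsClosedImmersion (h i)] (hcomm : ∀ i, j i ≫ f = fi i ≫ h i)
    (hcov : ∀ x : X, ∃ i, x ∈ Set.range (j i).base) : IsProper f ↔ ∀ i, IsProper (fi i) := by
  constructor
  · intro hf i
    have h1 : IsProper (j i ≫ f) := inferInstance
    rw [hcomm i] at h1
    exact MorphismProperty.of_postcomp (W := @IsProper) (W' := @IsSeparated) (fi i) (h i)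
      inferInstance h1
  · intro hfi
    have hp : ∀ i, IsProper (j i ≫ f) := by
      intro i
      rw [hcomm i]
      have := hfi i
      infer_instance
    have huc : UniversallyClosed f := by
      rw [universallyClosed_eq]
      intro X' Y' i₁ i₂ f' hpb Z hZ
      have hcover : f' '' Z = ⋃ i, (pullback.snd (j i) i₁ ≫ f') '' ((pullback.snd (j i) i₁) ⁻¹' Z) := by
        ext y
        constructor
        · rintro ⟨z, hz, rfl⟩
          obtain ⟨i, hi⟩ := hcov (i₁ z)
          have : z ∈ Set.range (pullback.snd (j i) i₁) := by
            rw [Scheme.Pullback.range_snd]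
            exact hi
          obtain ⟨w, rfl⟩ := this
          exact Set.mem_iUnion.2 ⟨i, w, hz, rfl⟩
        · intro hy
          obtain ⟨i, w, hw, rfl⟩ := Set.mem_iUnion.1 hy
          exact ⟨_, hw, rfl⟩
      rw [hcover]
      apply isClosed_iUnion_of_finite
      intro i
      have hpb2 : IsPullback (pullback.snd (j i) i₁ ≫ f') (pullback.fst (j i) i₁) i₂ (j i ≫ f) :=
        ((IsPullback.of_hasPullback (j i) i₁).flip.paste_horiz hpb)
      have : UniversallyClosed (pullback.snd (j i) i₁ ≫ f') :=
        MorphismProperty.of_isPullback (P := @UniversallyClosed) hpb2.flip inferInstance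
      exact (pullback.snd (j i) i₁ ≫ f').isClosedMap _
        (hZ.preimage (pullback.snd (j i) i₁).continuous)
    exact { }

end Groth.Agent.S2349
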