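import Groth.Statements.S2353
import Groth.Agent.Lib.Helper4.DVRVal2
import Groth.Agent.Lib.Helper19.ValEx3

set_option autoImplicit false
universe u
open CategoryTheory CategoryTheory.Limits AlgebraicGeometry
open EGA2

namespace Groth.Agent.S2353

/-- Let Y be an integral separated locally Noetherian scheme, X an integral separated scheme and f : X →
Y dominant and of finite type, with generic point ξ of X. Suppose that for every discrete valuation
subring R of the function field K(X) and every point y of Y such that R dominates the local ring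
O_{Y,y} (through O_{Y,y} → O_{Y,f(ξ)} → K(X): the image lies in R and the maximal ideal maps into
the maximal ideal of R), there is a point x of X whose local ring is dominated by R (through O_{X,x}
→ K(X)). Then f is proper. -/
theorem result {X Y : Scheme.{u}} [IsIntegral X] [IsIntegral Y] [X.IsSeparated] [Y.IsSeparated]
    [IsLocallyNoetherian Y] (f : X ⟶ Y) [IsDominant f] [LocallyOfFiniteType f] [QuasiCompact f]
    (h : ∀ (R : ValuationSubring X.functionField), IsDiscreteValuationRing R →
      ∀ (y : Y) (hy : f.base (genericPoint X) ⤳ y), ((∀ a : (Y.presheaf.stalk y), (Y.presheaf.stalkSpecializes hy ≫ f.stalkMap (genericPoint X)).hom a ∈ R) ∧ ∀ a ∈ IsLocalRing.maximalIdeal (Y.presheaf.stalk y), R.valuation ((Y.presheaf.stalkSpecializes hy ≫ f.stalkMap (genericPoint X)).hom a) < 1) →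
        ∃ x : X, ((∀ a : (X.presheaf.stalk x), algebraMap (X.presheaf.stalk x) X.functionField a ∈ R) ∧ ∀ a ∈ IsLocalRing.maximalIdeal (X.presheaf.stalk x), R.valuation (algebraMap (X.presheaf.stalk x) X.functionField a) < 1)) :
    IsProper f := by
  classical
  haveI : IsSeparated f := inferInstance
  have hsecond : ∀ (A : ValuationSubring X.functionField) (φ : Spec (CommRingCat.of A) ⟶ Y),
      Spec.map (CommRingCat.ofHom A.subtype) ≫ φ = X.fromSpecStalk (genericPoint X) ≫ f →
      ∀ φ' : Spec (CommRingCat.of A) ⟶ X,
      Spec.map (CommRingCat.ofHom A.subtype) ≫ φ' = X.fromSpecStalk (genericPoint X) →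
      φ' ≫ f = φ := by
    intro A φ hφ φ' h1
    let sqY : ValuativeCommSq (terminal.from Y) :=
      { R := A, K := X.functionField, i₁ := X.fromSpecStalk (genericPoint X) ≫ f,
        i₂ := terminal.from _, commSq := ⟨terminal.hom_ext _ _⟩ }
    have := IsSeparated.valuativeCriterion (terminal.from Y) sqY
    exact congrArg CommSq.LiftStruct.l
      (Subsingleton.elim (⟨φ' ≫ f, (by
        change Spec.map (CommRingCat.ofHom A.subtype) ≫ φ' ≫ f = _
        rw [← Category.assoc, h1]), terminal.hom_ext _ _⟩ :
        sqY.commSq.LiftStruct) ⟨φ, hφ, terminal.hom_ext _ _⟩)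
  have HD : ∀ A : ValuationSubring X.functionField, IsDiscreteValuationRing A →
      ∀ φ : Spec (CommRingCat.of A) ⟶ Y,
        Spec.map (CommRingCat.ofHom A.subtype) ≫ φ = X.fromSpecStalk (genericPoint X) ≫ f →
        ∃ l : Spec (CommRingCat.of A) ⟶ X, l ≫ f = φ ∧
          Spec.map (CommRingCat.ofHom A.subtype) ≫ l = X.fromSpecStalk (genericPoint X) := by
    intro A hA φ hφ
    have hy : f.base (genericPoint X) ⤳ φ.base (IsLocalRing.closedPoint A) := by
      have e1 : f.base (genericPoint X) = φ.base
          ((Spec.map (CommRingCat.ofHom A.subtype)).base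
            (IsLocalRing.closedPoint X.functionField)) := by
        have h0 := congrArg (fun m => m.base (IsLocalRing.closedPoint X.functionField)) hφ
        have h00 : (X.fromSpecStalk (genericPoint X)).base
            (IsLocalRing.closedPoint X.functionField) = genericPoint X :=
          Scheme.fromSpecStalk_closedPoint
        simp only [Scheme.Hom.comp_base, TopCat.hom_comp, ContinuousMap.comp_apply] at h0
        rw [h00] at h0
        exact h0.symm
      rw [e1]
      exact (IsLocalRing.specializes_closedPoint _).map φ.continuous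
    have hα : Spec.map (Scheme.stalkClosedPointTo φ) ≫
        Y.fromSpecStalk (φ.base (IsLocalRing.closedPoint A)) = φ :=
      Scheme.Spec_stalkClosedPointTo_fromSpecStalk φ
    have key : Scheme.stalkClosedPointTo φ ≫ CommRingCat.ofHom A.subtype =
        Y.presheaf.stalkSpecializes hy ≫ f.stalkMap (genericPoint X) := by
      apply Spec.map_injective
      rw [← cancel_mono (Y.fromSpecStalk (φ.base (IsLocalRing.closedPoint A))),
        Spec.map_comp, Category.assoc, hα, hφ, Spec.map_comp, Category.assoc,
        Scheme.SpecMap_stalkSpecializes_fromSpecStalk, Scheme.SpecMap_stalkMap_fromSpecStalk]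
    have key' : ∀ a, (Y.presheaf.stalkSpecializes hy ≫ f.stalkMap (genericPoint X)).hom a =
        (((Scheme.stalkClosedPointTo φ).hom a : A) : X.functionField) := fun a =>
      (congrArg (fun m => m.hom a) key).symm
    obtain ⟨x, hxA, -⟩ := h A hA (φ.base (IsLocalRing.closedPoint A)) hy ⟨fun a => by
      rw [key']; exact ((Scheme.stalkClosedPointTo φ).hom a).2, fun a ha => by
      rw [key']
      apply (ValuationSubring.valuation_lt_one_iff A _).mp
      rw [IsLocalRing.mem_maximalIdeal, mem_nonunits_iff] at ha ⊢
      exact fun hu => ha (IsLocalHom.map_nonunit a hu)⟩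
    let β : X.presheaf.stalk x →+* A :=
      RingHom.codRestrict (algebraMap (X.presheaf.stalk x) X.functionField) A.toSubring hxA
    have hβ : CommRingCat.ofHom β ≫ CommRingCat.ofHom A.subtype =
        X.presheaf.stalkSpecializes ((genericPoint_spec X).specializes trivial) := by
      ext a; rfl
    have h1 : Spec.map (CommRingCat.ofHom A.subtype) ≫
        Spec.map (CommRingCat.ofHom β) ≫ X.fromSpecStalk x =
          X.fromSpecStalk (genericPoint X) := by
      rw [← Category.assoc, ← Spec.map_comp, hβ,
        Scheme.SpecMap_stalkSpecializes_fromSpecStalk]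
    exact ⟨_, hsecond A φ hφ _ h1, h1⟩
  have hfg : ∀ (V : Y.Opens) (hV : IsAffineOpen V)
      (ρ : Γ(Y, V) ⟶ CommRingCat.of (X.functionField : Type u)),
      Spec.map ρ ≫ hV.fromSpec = X.fromSpecStalk (genericPoint X) ≫ f →
        ∃ σ : Finset X.functionField,
          Subfield.closure (Set.range ρ.hom ∪ (σ : Set X.functionField)) = ⊤ := by
    intro V hV ρ hρ
    have hpu : f (genericPoint X) ∈ V := by
      have h1 : (Spec.map ρ ≫ hV.fromSpec) (IsLocalRing.closedPoint X.functionField) ∈
          Set.range hV.fromSpec := ⟨_, rfl⟩
      rw [hρ, hV.range_fromSpec, Scheme.Hom.comp_apply] at h1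
      have h00 : (X.fromSpecStalk (genericPoint X))
          (IsLocalRing.closedPoint X.functionField) = genericPoint X :=
        Scheme.fromSpecStalk_closedPoint
      rw [h00] at h1
      exact h1
    apply Groth.Agent.Helper4.DVRVal.exists_finset_closure_eq_top' f (genericPoint X)
      (𝟙 (X.presheaf.stalk (genericPoint X)))
      (RingHom.FiniteType.essFiniteType (RingHom.FiniteType.id _)) V hV hpu ρ
    rw [hρ, Spec.map_id]
    exact (Category.id_comp _).symm
  have hex : ValuativeCriterion.Existence f := by
    refine Groth.Agent.Lib.Helper19.ValEx.existence' f (ι := PUnit.{1})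
      (fun _ => (X.functionField : Type u)) (fun _ => X.fromSpecStalk (genericPoint X)) ?_ ?_
    · intro x
      refine ⟨PUnit.unit, ?_⟩
      have : (X.fromSpecStalk (genericPoint X)).base (IsLocalRing.closedPoint X.functionField) =
          genericPoint X := Scheme.fromSpecStalk_closedPoint
      rw [this]
      exact genericPoint_specializes x
    · intro _ A φ hφ
      obtain ⟨l, hl1, hl2⟩ := Groth.Agent.Helper4.DVRVal.exists_lift_of_dvr f
        (X.fromSpecStalk (genericPoint X)) hfg HD A φ hφ
      refine ⟨l, ⟨hl2, hl1⟩, ?_⟩
      rintro l' ⟨h1, h2⟩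
      exact Groth.Agent.Helper4.DVRVal.lift_unique f (X.fromSpecStalk (genericPoint X)) A l' l
        (h2.trans hl1.symm) h1 hl2
  haveI : UniversallyClosed f := UniversallyClosed.of_valuativeCriterion f hex
  exact {}

end Groth.Agent.S2353
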