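import Groth.Statements.S2355
import Groth.Agent.Lib.Helper13.PbAmpleQA
import Groth.Agent.Lib.Helper13.PullbackLocal

set_option autoImplicit false
universe u
open CategoryTheory CategoryTheory.Limits AlgebraicGeometry
open EGA2

namespace Groth.Agent.S2355

/-- Let f : X → Y be quasi-compact, g : X' → X quasi-affine and L an O_X-module ample relative to f.
Then g^* L is ample relative to g ≫ f. -/
theorem result {X X' Y : Scheme.{u}} (f : X ⟶ Y) [QuasiCompact f] (g : X' ⟶ X) (hg : Mor2.IsQuasiAffine g)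
    (L : X.Modules) (hL : RelAmple.IsRelAmple f L) :
    RelAmple.IsRelAmple (g ≫ f) ((Scheme.Modules.pullback g).obj L) := by
  obtain ⟨hgqc, hgqa⟩ := hg
  haveI := hgqc
  refine ⟨inferInstance, fun V => ?_⟩
  let U : X.Opens := f ⁻¹ᵁ V.1
  have hamp : CohB1.IsAmple (L.restrict U.ι) := hL.2 V
  haveI : QuasiCompact (g ∣_ U) := inferInstance
  have hqa : ∀ V' : (U : Scheme.{u}).Opens, IsAffineOpen V' →
      Scheme.IsQuasiAffine ((g ∣_ U) ⁻¹ᵁ V' : Scheme.{u}) := by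
    intro V' hV'
    have h1 : IsAffineOpen (U.ι ''ᵁ V') := hV'.image_of_isOpenImmersion U.ι
    haveI := hgqa _ h1
    let e := (g ⁻¹ᵁ U).ι.isoImage ((g ∣_ U) ⁻¹ᵁ V')
    have he : (g ⁻¹ᵁ U).ι ''ᵁ ((g ∣_ U) ⁻¹ᵁ V') = g ⁻¹ᵁ (U.ι ''ᵁ V') :=
      image_morphismRestrict_preimage g U V'
    haveI : Scheme.IsQuasiAffine (((g ⁻¹ᵁ U).ι ''ᵁ ((g ∣_ U) ⁻¹ᵁ V') : X'.Opens) : Scheme.{u}) := by
      rw [he]; infer_instance
    exact Scheme.IsQuasiAffine.of_isAffineHom e.hom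
  have h1 := Groth.Agent.Helper13.PbAmple.isAmple_pullback_of_isQuasiAffine (g ∣_ U)
    (L.restrict U.ι) hqa hamp
  have e := (Groth.Agent.Helper13.Pullback.pullbackRestrictIso g (g ⁻¹ᵁ U).ι U.ι (g ∣_ U)
    (morphismRestrict_ι g U).symm).app L
  exact Groth.Agent.Helper13.Ample.isAmple_of_iso e.symm h1

end Groth.Agent.S2355
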