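import Groth.Statements.S2358
import Mathlib
import Groth.Agent.S2347

set_option autoImplicit false
universe u
open CategoryTheory CategoryTheory.Limits AlgebraicGeometry
open EGA2

namespace Groth.Agent.S2358
open TopologicalSpace

theorem isReduced_subscheme_vanishingIdeal {X : Scheme.{u}} (W : Closeds X) :
    IsReduced (Scheme.IdealSheafData.vanishingIdeal W).subscheme := by
  have : ∀ i, IsReduced
      ((Scheme.IdealSheafData.vanishingIdeal W).subschemeCover.openCover.X i) := by
    intro U
    show IsReduced (Spec (CommRingCat.of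
      (Γ(X, U.1) ⧸ (Scheme.IdealSheafData.vanishingIdeal W).ideal U)))
    rw [affine_isReduced_iff]
    show _root_.IsReduced (Γ(X, U.1) ⧸ (Scheme.IdealSheafData.vanishingIdeal W).ideal U)
    rw [Scheme.IdealSheafData.vanishingIdeal_ideal]
    exact (Ideal.isRadical_iff_quotient_reduced _).mp (PrimeSpectrum.isRadical_vanishingIdeal _)
  exact IsReduced.of_openCover _ (Scheme.IdealSheafData.vanishingIdeal W).subschemeCover.openCover

/-- Let X be an integral normal scheme, g : X' → X an integral morphism, U a dense open of X and s : U →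
X' a section of g over U. Then there is a section of g over all of X extending s. -/
theorem result {X X' : Scheme.{u}} [IsIntegral X] (hX : Pi1.IsNormalScheme X)
    (g : X' ⟶ X) [IsIntegralHom g] (U : X.Opens) (hU : Dense (U : Set X)) (s : (U : Scheme.{u}) ⟶ X') (hs : s ≫ g = U.ι) :
    ∃ s' : X ⟶ X', s' ≫ g = 𝟙 X ∧ U.ι ≫ s' = s := by
  haveI : Nonempty U := by
    obtain ⟨z, hz⟩ := hU.nonempty
    exact ⟨⟨z, hz⟩⟩
  haveI : IsIntegral (U : Scheme.{u}) := inferInstance
  -- the kernel of `s` is the vanishing ideal of the closure of its range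
  let W : Closeds X' := .closure (s '' ((⊤ : Closeds (U : Scheme.{u})) : Set (U : Scheme.{u})))
  have hker : s.ker = Scheme.IdealSheafData.vanishingIdeal W := by
    rw [← Scheme.IdealSheafData.map_bot, ← Scheme.nilradical_eq_bot,
      ← Scheme.IdealSheafData.vanishingIdeal_top, Scheme.IdealSheafData.map_vanishingIdeal]
  -- the scheme theoretic image is integral
  haveI hred : IsReduced s.image := by
    change IsReduced s.ker.subscheme
    rw [hker]
    exact isReduced_subscheme_vanishingIdeal W
  have hηU : genericPoint X ∈ U := by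
    obtain ⟨z, hz⟩ := hU.nonempty
    exact ((genericPoint_spec X).mem_open_set_iff U.isOpen).mpr ⟨z, Set.mem_univ z, hz⟩
  let η₀ : (U : Scheme.{u}) := genericPoint (U : Scheme.{u})
  let z₀ : s.image := s.toImage η₀
  have hz₀ : closure ({z₀} : Set s.image) = Set.univ := by
    rw [s.imageι.isClosedEmbedding.isInducing.closure_eq_preimage_closure_image,
      Set.image_singleton, Set.eq_univ_iff_forall]
    intro z
    rw [Set.mem_preimage]
    have h1 : s.imageι z ∈ Set.range s.imageι := ⟨z, rfl⟩
    rw [Scheme.IdealSheafData.range_subschemeι, hker,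
      Scheme.IdealSheafData.coe_support_vanishingIdeal] at h1
    have h2 : s.imageι z₀ = s η₀ := by
      change (s.toImage ≫ s.imageι) η₀ = s η₀
      rw [s.toImage_imageι]
    rw [h2]
    have h3 : ((⊤ : Closeds (U : Scheme.{u})) : Set (U : Scheme.{u})) = closure {η₀} := by
      rw [(genericPoint_spec (U : Scheme.{u})).def]
      rfl
    have h4 : (W : Set X') ⊆ closure {s η₀} := by
      change closure (s '' _) ⊆ _
      rw [h3]
      refine closure_minimal ?_ isClosed_closure
      refine (image_closure_subset_closure_image s.continuous).trans ?_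
      rw [Set.image_singleton]
    exact h4 h1
  haveI hirr : IrreducibleSpace s.image :=
    { isPreirreducible_univ := by
        rw [← hz₀]
        exact isIrreducible_singleton.closure.isPreirreducible
      toNonempty := ⟨z₀⟩ }
  haveI : IsIntegral s.image := isIntegral_of_irreducibleSpace_of_isReduced _
  haveI : IsIntegralHom (s.imageι ≫ g) := inferInstance
  have hcomp : s.toImage ≫ (s.imageι ≫ g) = U.ι := by
    rw [← Category.assoc, s.toImage_imageι, hs]
  haveI hiso : IsIso (s.imageι ≫ g) :=
    Groth.Agent.S2347.result hX (s.imageι ≫ g) U hU s.toImage hcomp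
  refine ⟨inv (s.imageι ≫ g) ≫ s.imageι, ?_, ?_⟩
  · rw [Category.assoc, IsIso.inv_hom_id]
  · have h5 : s.toImage = U.ι ≫ inv (s.imageι ≫ g) := by
      rw [← hcomp, Category.assoc, IsIso.hom_inv_id, Category.comp_id]
    rw [← Category.assoc, ← h5, s.toImage_imageι]

end Groth.Agent.S2358
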