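import Groth.Statements.S6381
import Mathlib
-- import your own Groth.Agent.* helpers here

set_option autoImplicit false
universe u
open CAlg

namespace Groth.Agent.S6381

section
open Polynomial

/-- transport of residue fields along equality of ideals -/
lemma transport {S : Type u} [CommRing S] (I J : Ideal S) [I.IsPrime] [J.IsPrime] (h : I = J) :
    ∃ e : I.ResidueField ≃+* J.ResidueField, ∀ s : S, e (algebraMap S _ s) = algebraMap S _ s := by
  subst h
  exact ⟨RingEquiv.refl _, fun _ => rfl⟩

/-- clearing denominators -/
lemma exists_lift (R : Type u) [CommRing R] (p : Ideal R) [p.IsPrime]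
    (f : p.ResidueField[X]) (hf : f.Monic) :
    ∃ y : p.ResidueField, y ≠ 0 ∧ ∃ G : R[X], G.Monic ∧
      G.map (algebraMap R p.ResidueField) = scaleRoots f y := by
  classical
  obtain ⟨b, hb⟩ := IsLocalization.exist_integer_multiples_of_finset (nonZeroDivisors (R ⧸ p))
    (f.coeffs : Finset p.ResidueField)
  have hrange : ∀ z : R ⧸ p, algebraMap (R ⧸ p) p.ResidueField z ∈
      (algebraMap R p.ResidueField).range := by
    intro z
    obtain ⟨r, rfl⟩ := Ideal.Quotient.mk_surjective z
    exact ⟨r, by rw [IsScalarTower.algebraMap_apply R (R ⧸ p) p.ResidueField]; rfl⟩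
  refine ⟨algebraMap (R ⧸ p) p.ResidueField b, ?_, ?_⟩
  · intro h0
    have := (IsFractionRing.injective (R ⧸ p) p.ResidueField)
      (h0.trans (map_zero _).symm)
    exact nonZeroDivisors.coe_ne_zero b this
  · have hl : scaleRoots f (algebraMap (R ⧸ p) p.ResidueField b) ∈
        lifts (algebraMap R p.ResidueField) := by
      rw [lifts_iff_coeff_lifts]
      intro n
      rw [coeff_scaleRoots]
      change _ ∈ (algebraMap R p.ResidueField).range
      by_cases hn : f.coeff n = 0
      · rw [hn, zero_mul]; exact Subring.zero_mem _
      · have hmem : f.coeff n ∈ f.coeffs := by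
          rw [mem_coeffs_iff]
          exact ⟨n, mem_support_iff.mpr hn, rfl⟩
        rcases Nat.eq_zero_or_pos (f.natDegree - n) with h0 | hpos
        · have hle : f.natDegree ≤ n := Nat.sub_eq_zero_iff_le.mp h0
          have : n = f.natDegree := by
            refine le_antisymm ?_ hle
            exact le_natDegree_of_ne_zero hn
          rw [h0, pow_zero, mul_one, this]
          have : f.coeff f.natDegree = 1 := hf
          rw [this]
          exact Subring.one_mem _
        · obtain ⟨k, hk⟩ : ∃ k, f.natDegree - n = k + 1 := ⟨f.natDegree - n - 1, by omega⟩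
          rw [hk, pow_succ, ← mul_assoc, mul_comm (f.coeff n), mul_assoc]
          obtain ⟨c, hc⟩ := hb _ hmem
          rw [Algebra.smul_def] at hc
          have h1 : algebraMap (R ⧸ p) p.ResidueField b ^ k * (f.coeff n *
              algebraMap (R ⧸ p) p.ResidueField b) =
              algebraMap (R ⧸ p) p.ResidueField (b ^ k * c) := by
            rw [map_mul, map_pow, hc]; ring
          rw [h1]
          exact hrange _
    obtain ⟨G, hG, -, hGm⟩ := lifts_and_natDegree_eq_and_monic hl
      ((monic_scaleRoots_iff _).mpr hf)
    exact ⟨G, hGm, hG⟩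

lemma coeff_mem_of_aeval_eq_zero (R : Type u) [CommRing R] (p : Ideal R) [p.IsPrime]
    (L : Type u) [Field L] [Algebra p.ResidueField L] [Algebra R L]
    [IsScalarTower R p.ResidueField L]
    (α : L) (y : p.ResidueField) (hy : y ≠ 0)
    (h : R[X]) (hdeg : h.natDegree < (minpoly p.ResidueField α).natDegree)
    (hh : aeval (algebraMap p.ResidueField L y * α) h = 0) : ∀ n, h.coeff n ∈ p := by
  set hbar := h.map (algebraMap R p.ResidueField) with hbar_def
  have h1 : aeval (algebraMap p.ResidueField L y * α) hbar = 0 := by
    rw [hbar_def, aeval_map_algebraMap]; exact hh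
  have h2 := scaleRoots_aeval_eq_zero (r := y⁻¹) h1
  have h3 : algebraMap p.ResidueField L y⁻¹ * (algebraMap p.ResidueField L y * α) = α := by
    rw [← mul_assoc, ← map_mul, inv_mul_cancel₀ hy, map_one, one_mul]
  rw [h3] at h2
  have h4 : scaleRoots hbar y⁻¹ = 0 := by
    by_contra hne
    have := minpoly.degree_le_of_ne_zero p.ResidueField α hne h2
    have h5 : (scaleRoots hbar y⁻¹).natDegree < (minpoly p.ResidueField α).natDegree := by
      rw [natDegree_scaleRoots]
      exact lt_of_le_of_lt (natDegree_map_le) hdeg
    have h6 := natDegree_le_natDegree this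
    omega
  have h5 : hbar = 0 := by
    by_contra hne
    exact scaleRoots_ne_zero hne _ h4
  intro n
  have : hbar.coeff n = 0 := by rw [h5]; simp
  rw [hbar_def, coeff_map] at this
  exact Ideal.algebraMap_residueField_eq_zero.mp this

lemma step (R : Type u) [CommRing R] (p : Ideal R) [p.IsPrime]
    (L : Type u) [Field L] [Algebra p.ResidueField L] [FiniteDimensional p.ResidueField L]
    [Algebra R L] [IsScalarTower R p.ResidueField L]
    (α : L) (hα : α ∉ (algebraMap p.ResidueField L).range) :
    ∃ (S : Type u) (_ : CommRing S) (_ : Algebra R S) (_ : Module.Finite R S) (_ : Module.Free R S)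
      (_ : (p.map (algebraMap R S)).IsPrime) (_ : Algebra S L) (_ : IsScalarTower R S L)
      (_ : Algebra (p.map (algebraMap R S)).ResidueField L)
      (_ : IsScalarTower S (p.map (algebraMap R S)).ResidueField L)
      (_ : FiniteDimensional (p.map (algebraMap R S)).ResidueField L),
      Module.finrank (p.map (algebraMap R S)).ResidueField L <
        Module.finrank p.ResidueField L := by
  have hint : IsIntegral p.ResidueField α := Algebra.IsIntegral.isIntegral α
  obtain ⟨y, hy, G, hGm, hG⟩ := exists_lift R p (minpoly p.ResidueField α) (minpoly.monic hint)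
  set β := algebraMap p.ResidueField L y * α with hβ
  have hroot : aeval β G = 0 := by
    rw [← aeval_map_algebraMap p.ResidueField, hG]
    exact scaleRoots_aeval_eq_zero (minpoly.aeval _ _)
  have hdegG : G.natDegree = (minpoly p.ResidueField α).natDegree := by
    rw [← hGm.natDegree_map (algebraMap R p.ResidueField), hG, natDegree_scaleRoots]
  have hG1 : G ≠ 1 := by
    intro h1
    have := minpoly.natDegree_pos hint
    rw [← hdegG, h1, natDegree_one] at this
    exact lt_irrefl _ this
  let φ : AdjoinRoot G →ₐ[R] L := AdjoinRoot.liftAlgHom G (Algebra.ofId R L) β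
    (by rw [← hroot, aeval_def]; rfl)
  have hφmk : ∀ h : R[X], φ (AdjoinRoot.mk G h) = aeval β h := by
    intro h
    rw [AdjoinRoot.liftAlgHom_mk, aeval_def]; rfl
  have hRκ : ∀ r : R, algebraMap R L r = 0 ↔ r ∈ p := by
    intro r
    rw [IsScalarTower.algebraMap_apply R p.ResidueField L, map_eq_zero_iff _
      (algebraMap p.ResidueField L).injective, Ideal.algebraMap_residueField_eq_zero]
  have hker : RingHom.ker φ.toRingHom = p.map (algebraMap R (AdjoinRoot G)) := by
    apply le_antisymm
    · intro s hs
      obtain ⟨h, rfl⟩ := AdjoinRoot.mk_surjective s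
      have e1 : AdjoinRoot.mk G h = AdjoinRoot.mk G (h %ₘ G) := by
        rw [AdjoinRoot.mk_eq_mk]
        refine ⟨h /ₘ G, ?_⟩
        have := modByMonic_add_div h G
        rw [sub_eq_iff_eq_add]
        rw [add_comm]; exact this.symm
      rw [e1] at hs ⊢
      have hs' : aeval β (h %ₘ G) = 0 := by
        rw [← hφmk]; exact hs
      have hdeg : (h %ₘ G).natDegree < (minpoly p.ResidueField α).natDegree := by
        rw [← hdegG]
        exact natDegree_modByMonic_lt h hGm hG1
      have hc := coeff_mem_of_aeval_eq_zero R p L α y hy _ hdeg hs'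
      have h1 : (h %ₘ G) ∈ Ideal.map (C : R →+* R[X]) p := Ideal.mem_map_C_iff.mpr hc
      have h2 := Ideal.mem_map_of_mem (AdjoinRoot.mk G) h1
      rw [Ideal.map_map] at h2
      rw [AdjoinRoot.algebraMap_eq]
      exact h2
    · rw [Ideal.map_le_iff_le_comap]
      intro r hr
      rw [Ideal.mem_comap, RingHom.mem_ker]
      have : φ.toRingHom (algebraMap R (AdjoinRoot G) r) = algebraMap R L r := φ.commutes r
      rw [this, hRκ]
      exact hr
  have hprime : (p.map (algebraMap R (AdjoinRoot G))).IsPrime := by
    rw [← hker]; exact RingHom.ker_isPrime _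
  letI algSL : Algebra (AdjoinRoot G) L := φ.toRingHom.toAlgebra
  have towerRSL : IsScalarTower R (AdjoinRoot G) L :=
    IsScalarTower.of_algebraMap_eq' (by ext r; exact (φ.commutes r).symm)
  have hunits : (p.map (algebraMap R (AdjoinRoot G))).primeCompl ≤
      (IsUnit.submonoid L).comap φ.toRingHom := by
    intro s hs
    rw [Submonoid.mem_comap]
    show IsUnit (φ.toRingHom s)
    rw [isUnit_iff_ne_zero]
    intro h0
    apply hs
    rw [← hker]; exact h0
  let ψ : (p.map (algebraMap R (AdjoinRoot G))).ResidueField →+* L :=
    Ideal.ResidueField.lift _ φ.toRingHom (le_of_eq hker.symm) hunits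
  have hψ : ∀ s, ψ (algebraMap (AdjoinRoot G) _ s) = φ s := fun s =>
    Ideal.ResidueField.lift_algebraMap _ φ.toRingHom (le_of_eq hker.symm) hunits s
  letI algQL : Algebra (p.map (algebraMap R (AdjoinRoot G))).ResidueField L := ψ.toAlgebra
  have towerSQL : IsScalarTower (AdjoinRoot G) (p.map (algebraMap R (AdjoinRoot G))).ResidueField L :=
    IsScalarTower.of_algebraMap_eq' (RingHom.ext fun s => (hψ s).symm)
  have hcomap : p = (p.map (algebraMap R (AdjoinRoot G))).comap (algebraMap R (AdjoinRoot G)) := by
    ext r
    rw [Ideal.mem_comap, ← hker, RingHom.mem_ker]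
    have : φ.toRingHom (algebraMap R (AdjoinRoot G) r) = algebraMap R L r := φ.commutes r
    rw [this, hRκ]
  let χ : p.ResidueField →+* (p.map (algebraMap R (AdjoinRoot G))).ResidueField :=
    Ideal.ResidueField.map p _ (algebraMap R (AdjoinRoot G)) hcomap
  have hχ : ∀ r : R, χ (algebraMap R _ r) = algebraMap (AdjoinRoot G) _ (algebraMap R _ r) :=
    fun r => Ideal.ResidueField.map_algebraMap p _ (algebraMap R (AdjoinRoot G)) hcomap r
  letI algpQ : Algebra p.ResidueField (p.map (algebraMap R (AdjoinRoot G))).ResidueField :=
    χ.toAlgebra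
  have towerpQL : IsScalarTower p.ResidueField
      (p.map (algebraMap R (AdjoinRoot G))).ResidueField L := by
    refine IsScalarTower.of_algebraMap_eq' ?_
    apply Ideal.ResidueField.ringHom_ext
    ext r
    show algebraMap p.ResidueField L (algebraMap R _ r) = ψ (χ (algebraMap R _ r))
    rw [hχ, hψ, ← IsScalarTower.algebraMap_apply R p.ResidueField L]
    exact (φ.commutes r).symm
  have hfin : FiniteDimensional (p.map (algebraMap R (AdjoinRoot G))).ResidueField L :=
    Module.Finite.of_restrictScalars_finite p.ResidueField _ L
  refine ⟨AdjoinRoot G, inferInstance, inferInstance, hGm.finite_adjoinRoot, hGm.free_adjoinRoot,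
    hprime, algSL, towerRSL, algQL, towerSQL, hfin, ?_⟩
  have hmul := Module.finrank_mul_finrank p.ResidueField
    (p.map (algebraMap R (AdjoinRoot G))).ResidueField L
  have hpos : 0 < Module.finrank p.ResidueField L := Module.finrank_pos
  have hposQ : 0 < Module.finrank (p.map (algebraMap R (AdjoinRoot G))).ResidueField L :=
    Module.finrank_pos
  have hne1 : Module.finrank p.ResidueField
      (p.map (algebraMap R (AdjoinRoot G))).ResidueField ≠ 1 := by
    intro h1
    rw [finrank_eq_one_iff_of_nonzero' (1 : (p.map (algebraMap R (AdjoinRoot G))).ResidueField)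
      one_ne_zero] at h1
    obtain ⟨c, hc⟩ := h1 (algebraMap (AdjoinRoot G) _ (AdjoinRoot.root G))
    have h2 := congrArg ψ hc
    rw [hψ, Algebra.smul_def, mul_one] at h2
    have h3 : φ (AdjoinRoot.root G) = β := AdjoinRoot.liftAlgHom_root _ _ _ _
    rw [h3] at h2
    have h4 : ψ (algebraMap p.ResidueField _ c) = algebraMap p.ResidueField L c :=
      (IsScalarTower.algebraMap_apply p.ResidueField
        (p.map (algebraMap R (AdjoinRoot G))).ResidueField L c).symm
    rw [h4] at h2
    apply hα
    refine ⟨y⁻¹ * c, ?_⟩
    rw [map_mul, h2, hβ, ← mul_assoc, ← map_mul, inv_mul_cancel₀ hy, map_one, one_mul]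
  have hne0 : Module.finrank p.ResidueField
      (p.map (algebraMap R (AdjoinRoot G))).ResidueField ≠ 0 := by
    intro h0
    rw [h0, zero_mul] at hmul
    omega
  have h2 : 2 ≤ Module.finrank p.ResidueField
      (p.map (algebraMap R (AdjoinRoot G))).ResidueField := by omega
  calc Module.finrank (p.map (algebraMap R (AdjoinRoot G))).ResidueField L
      < 2 * Module.finrank (p.map (algebraMap R (AdjoinRoot G))).ResidueField L := by omega
    _ ≤ _ := by rw [← hmul]; exact Nat.mul_le_mul_right _ h2

theorem aux (n : ℕ) : ∀ (R : Type u) [CommRing R] (p : Ideal R) [p.IsPrime]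
    (L : Type u) [Field L] [Algebra p.ResidueField L] [FiniteDimensional p.ResidueField L]
    [Algebra R L] [IsScalarTower R p.ResidueField L], Module.finrank p.ResidueField L = n →
    ∃ (S : Type u) (_ : CommRing S) (_ : Algebra R S) (_ : Module.Finite R S) (_ : Module.Free R S)
      (_ : (p.map (algebraMap R S)).IsPrime)
      (e : (p.map (algebraMap R S)).ResidueField ≃+* L),
      ∀ r : R, e (algebraMap R (p.map (algebraMap R S)).ResidueField r) = algebraMap R L r := by
  induction n using Nat.strong_induction_on with
  | _ n ih =>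
    intro R _ p _ L _ _ _ _ _ hn
    by_cases hsurj : Function.Surjective (algebraMap p.ResidueField L)
    · have hmap : p.map (algebraMap R R) = p := Ideal.map_id p
      haveI hpr : (p.map (algebraMap R R)).IsPrime := hmap.symm ▸ (inferInstance : p.IsPrime)
      obtain ⟨e1, he1⟩ := transport (p.map (algebraMap R R)) p hmap
      let e2 : p.ResidueField ≃+* L := RingEquiv.ofBijective (algebraMap p.ResidueField L)
        ⟨(algebraMap p.ResidueField L).injective, hsurj⟩
      refine ⟨R, inferInstance, inferInstance, inferInstance, inferInstance, hpr,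
        e1.trans e2, ?_⟩
      intro r
      rw [RingEquiv.trans_apply, he1]
      exact (IsScalarTower.algebraMap_apply R p.ResidueField L r).symm
    · have : ∃ α, α ∉ (algebraMap p.ResidueField L).range := by
        by_contra h
        push Not at h
        exact hsurj (fun x => h x)
      obtain ⟨α, hα⟩ := this
      obtain ⟨S, _, _, hfin, hfree, hprime, _, _, _, _, _, hlt⟩ := step R p L α hα
      obtain ⟨T, _, _, hTfin, hTfree, hTprime, e, he⟩ :=
        ih _ (hn ▸ hlt) S (p.map (algebraMap R S)) L rfl
      letI : Algebra R T := ((algebraMap S T).comp (algebraMap R S)).toAlgebra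
      haveI : IsScalarTower R S T := IsScalarTower.of_algebraMap_eq' rfl
      have hmap : p.map (algebraMap R T) = (p.map (algebraMap R S)).map (algebraMap S T) := by
        rw [Ideal.map_map]; rfl
      haveI hpr : (p.map (algebraMap R T)).IsPrime := hmap.symm ▸ hTprime
      obtain ⟨e1, he1⟩ := transport _ _ hmap
      refine ⟨T, inferInstance, inferInstance, Module.Finite.trans S T,
        Module.Free.trans (S := S), hpr, e1.trans e, ?_⟩
      intro r
      have h1 : algebraMap R (p.map (algebraMap R T)).ResidueField r =
          algebraMap T _ (algebraMap S T (algebraMap R S r)) := by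
        rw [IsScalarTower.algebraMap_apply R T]; rfl
      rw [RingEquiv.trans_apply, h1, he1,
        ← IsScalarTower.algebraMap_apply S T
          (Ideal.map (algebraMap S T) (Ideal.map (algebraMap R S) p)).ResidueField,
        he, ← IsScalarTower.algebraMap_apply]

theorem main (R : Type u) [CommRing R] (p : Ideal R) [p.IsPrime]
    (L : Type u) [Field L] [Algebra p.ResidueField L] [FiniteDimensional p.ResidueField L]
    [Algebra R L] [IsScalarTower R p.ResidueField L] :
    ∃ (S : Type u) (_ : CommRing S) (_ : Algebra R S) (_ : Module.Finite R S) (_ : Module.Free R S)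
      (_ : (p.map (algebraMap R S)).IsPrime)
      (e : (p.map (algebraMap R S)).ResidueField ≃+* L),
      ∀ r : R, e (algebraMap R (p.map (algebraMap R S)).ResidueField r) = algebraMap R L r :=
  aux _ R p L rfl

end

/-- Let R be a ring, p ⊆ R a prime and L a finite extension of the residue field κ(p). Then one can find
a ring map R → S, with S finite free over R, for which q = pS is a prime of S and the residue field
κ(q) is isomorphic to L over κ(p) (stated as a ring isomorphism κ(q) ≅ L compatible with the maps
from R, which determines compatibility with κ(p)). -/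
theorem result (R : Type u) [CommRing R] (p : Ideal R) [p.IsPrime]
    (L : Type u) [Field L] [Algebra p.ResidueField L] [FiniteDimensional p.ResidueField L]
    [Algebra R L] [IsScalarTower R p.ResidueField L] :
    ∃ (S : Type u) (_ : CommRing S) (_ : Algebra R S) (_ : Module.Finite R S) (_ : Module.Free R S)
      (_ : (p.map (algebraMap R S)).IsPrime)
      (e : (p.map (algebraMap R S)).ResidueField ≃+* L),
      ∀ r : R, e (algebraMap R (p.map (algebraMap R S)).ResidueField r) = algebraMap R L r := by
  exact Groth.Agent.S6381.main R p L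

end Groth.Agent.S6381
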