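import Groth.Statements.S4502
import Groth.Agent.Lib.Helper7.TFun2
import Groth.Agent.Lib.Helper7.TArt2

set_option autoImplicit false
universe u
open FlatCx

namespace Groth.Agent.S4502

open CategoryTheory CategoryTheory.Limits in
/-- For the homological functor T_p(M) = H_p(P ⊗_A M) of a chain complex P of flat modules over a
commutative Artinian local ring A with residue field k; the terms of P need not be finitely
generated. Then T_p takes surjections to surjections if and only if the map T_p(A) → T_p(k) induced
by the projection A → k is surjective. -/
theorem result {A : Type u} [CommRing A] [IsArtinianRing A]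
    [IsLocalRing A] (P : ChainComplex (ModuleCat.{u} A) ℤ) (hP : ∀ i, Module.Flat A (P.X i)) (p : ℤ) :
    (CohIII.TFun P p).PreservesEpimorphisms ↔
      Function.Surjective ((CohIII.TFun P p).map
        (ModuleCat.ofHom (Algebra.linearMap A (IsLocalRing.ResidueField A)))).hom := by
  constructor
  · intro h
    have hepi : Epi (ModuleCat.ofHom (Algebra.linearMap A (IsLocalRing.ResidueField A))) := by
      rw [ModuleCat.epi_iff_surjective]
      exact IsLocalRing.residue_surjective
    have : Epi ((CohIII.TFun P p).map
        (ModuleCat.ofHom (Algebra.linearMap A (IsLocalRing.ResidueField A)))) := inferInstance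
    exact (ModuleCat.epi_iff_surjective _).mp this
  · intro h
    have := Groth.Agent.Helper7.TArt.preservesFiniteColimits_of_artinian (CohIII.TFun P p)
      (Groth.Agent.Helper7.TFun.halfExact P hP p) h
    infer_instance

end Groth.Agent.S4502
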