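import Groth.Statements.S4497
import Groth.Agent.Lib.Helper7.TFun2
import Groth.Agent.S4502
import Groth.Agent.S2406
import Groth.Agent.S4492
import Mathlib.RingTheory.SimpleModule.Basic

set_option autoImplicit false
universe u
open FlatCx

namespace Groth.Agent.S4497

open CategoryTheory CategoryTheory.Limits in
private lemma length_simple {A : Type u} [CommRing A] [IsLocalRing A]
    (T : ModuleCat.{u} A ⥤ ModuleCat.{u} A) (M : ModuleCat.{u} A) (hM : IsSimpleModule A M) :
    Module.length A (T.obj M) =
      Module.length A (T.obj (ModuleCat.of A (IsLocalRing.ResidueField A))) := by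
  obtain ⟨I, hI, ⟨e⟩⟩ := isSimpleModule_iff_quot_maximal.mp hM
  have hIm : I = IsLocalRing.maximalIdeal A := IsLocalRing.eq_maximalIdeal hI
  subst hIm
  let e' : (A ⧸ IsLocalRing.maximalIdeal A) ≃ₗ[A] IsLocalRing.ResidueField A :=
    { toFun := fun x => x
      invFun := fun x => x
      left_inv := fun _ => rfl
      right_inv := fun _ => rfl
      map_add' := fun _ _ => rfl
      map_smul' := fun a x => by
        obtain ⟨x', rfl⟩ := Ideal.Quotient.mk_surjective x
        simp only [RingHom.id_apply]
        rw [Algebra.smul_def]
        rfl }
  exact (T.mapIso (e.trans e').toModuleIso).toLinearEquiv.length_eq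

open CategoryTheory CategoryTheory.Limits in
/-- For the homological functor T_i(M) = H_i(P ⊗_A M) of a chain complex P of flat modules over a
commutative Artinian local ring A with residue field k; the terms of P need not be finitely
generated. With p + 1 = q: T_p takes injections to injections and surjections to surjections if and
only if the maps T_p(A) → T_p(k) and T_q(A) → T_q(k) induced by A → k are both surjective. If
moreover T_p(k) has finite length d, these conditions are also equivalent to: length T_p(M) = d ·
length M for every A-module M of finite length (lengths valued in ℕ∞). -/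
theorem result {A : Type u} [CommRing A] [IsArtinianRing A]
    [IsLocalRing A] (P : ChainComplex (ModuleCat.{u} A) ℤ) (hP : ∀ i, Module.Flat A (P.X i)) (p q : ℤ)
    (hpq : p + 1 = q) :
    (((CohIII.TFun P p).PreservesMonomorphisms ∧ (CohIII.TFun P p).PreservesEpimorphisms) ↔
      (Function.Surjective ((CohIII.TFun P p).map
          (ModuleCat.ofHom (Algebra.linearMap A (IsLocalRing.ResidueField A)))).hom ∧
        Function.Surjective ((CohIII.TFun P q).map
          (ModuleCat.ofHom (Algebra.linearMap A (IsLocalRing.ResidueField A)))).hom)) ∧
    (Module.length A (CohIII.T P p (ModuleCat.of A (IsLocalRing.ResidueField A))) ≠ ⊤ →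
      (((CohIII.TFun P p).PreservesMonomorphisms ∧ (CohIII.TFun P p).PreservesEpimorphisms) ↔
        ∀ M : ModuleCat.{u} A, Module.length A M ≠ ⊤ →
          Module.length A (CohIII.T P p M) =
            Module.length A (CohIII.T P p (ModuleCat.of A (IsLocalRing.ResidueField A))) * Module.length A M)) := by
  have hRel : (ComplexShape.down ℤ).Rel q p := hpq
  have hhalf := Groth.Agent.Helper7.TFun.halfExact P hP p
  have hepi_iff := Groth.Agent.S4502.result P hP p
  have hepi_iff_q := Groth.Agent.S4502.result P hP q
  have hmono_iff := Groth.Agent.S2406.result P hP q p hpq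
  refine ⟨?_, fun hd => ⟨?_, ?_⟩⟩
  · rw [hepi_iff, ← hmono_iff, hepi_iff_q]
    exact and_comm
  · -- exact ⇒ length formula
    rintro ⟨hmono, hepi⟩ M hM
    rw [Module.length_ne_top_iff] at hM
    suffices h : ∀ (N : Type u) [AddCommGroup N] [Module A N], IsFiniteLength A N →
        Module.length A (CohIII.T P p (ModuleCat.of A N)) =
          Module.length A (CohIII.T P p (ModuleCat.of A (IsLocalRing.ResidueField A))) *
            Module.length A N from h M hM
    intro N _ _ hN
    induction hN with
    | @of_subsingleton N _ _ _ =>
      have hz : IsZero ((CohIII.TFun P p).obj (ModuleCat.of A N)) :=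
        (CohIII.TFun P p).map_isZero (ModuleCat.isZero_of_subsingleton _)
      have : Subsingleton ((CohIII.TFun P p).obj (ModuleCat.of A N)) :=
        ModuleCat.subsingleton_of_isZero hz
      have h1 : Module.length A (CohIII.T P p (ModuleCat.of A N)) = 0 :=
        Module.length_eq_zero_iff.mpr this
      rw [h1, Module.length_eq_zero (M := N), mul_zero]
    | @of_simple_quotient N _ _ N' hsimple hN' ih =>
      have hSE := LinearMap.shortExact_shortComplexKer (Submodule.mkQ_surjective N')
      have hex := hhalf _ hSE
      rw [ShortComplex.ShortExact.moduleCat_exact_iff_function_exact] at hex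
      have := hSE.mono_f
      have := hSE.epi_g
      have hinj : Function.Injective ((CohIII.TFun P p).map N'.mkQ.shortComplexKer.f).hom :=
        (ModuleCat.mono_iff_injective _).mp inferInstance
      have hsurj : Function.Surjective ((CohIII.TFun P p).map N'.mkQ.shortComplexKer.g).hom :=
        (ModuleCat.epi_iff_surjective _).mp inferInstance
      have hlen := Module.length_eq_add_of_exact _ _ hinj hsurj hex
      have e : (LinearMap.ker N'.mkQ) ≃ₗ[A] N' := LinearEquiv.ofEq _ _ (Submodule.ker_mkQ N')
      have h1 : Module.length A ((CohIII.TFun P p).obj (ModuleCat.of A (LinearMap.ker N'.mkQ))) =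
          Module.length A ((CohIII.TFun P p).obj (ModuleCat.of A N')) :=
        ((CohIII.TFun P p).mapIso e.toModuleIso).toLinearEquiv.length_eq
      have h2 := length_simple (CohIII.TFun P p) (ModuleCat.of A (N ⧸ N')) hsimple
      have h3 : Module.length A N = Module.length A N' + Module.length A (N ⧸ N') :=
        Module.length_eq_add_of_exact N'.subtype N'.mkQ (Submodule.subtype_injective _)
          (Submodule.mkQ_surjective _) (LinearMap.exact_subtype_mkQ N')
      have h4 : Module.length A (N ⧸ N') = 1 := Module.length_eq_one A (N ⧸ N')
      change Module.length A ((CohIII.TFun P p).obj (ModuleCat.of A N)) = _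
      change Module.length A ((CohIII.TFun P p).obj (ModuleCat.of A N)) = _ + _ at hlen
      rw [hlen, h1, h2, h3, h4, mul_add, mul_one]
      congr 1
  · -- length formula ⇒ exact
    intro hlen
    have hAfin : Module.length A A ≠ ⊤ := Module.length_ne_top
    have hsimple : ∀ M : ModuleCat.{u} A, IsSimpleModule A M →
        Module.length A ((CohIII.TFun P p).obj M) ≠ ⊤ := fun M hM => by
      rw [length_simple (CohIII.TFun P p) M hM]; exact hd
    have h92 := Groth.Agent.S4492.result (CohIII.TFun P p) hhalf hsimple
    -- the sequence 0 → 𝔪 → A → k → 0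
    have hSE := LinearMap.shortExact_shortComplexKer
      (f := Algebra.linearMap A (IsLocalRing.ResidueField A)) IsLocalRing.residue_surjective
    set S := (Algebra.linearMap A (IsLocalRing.ResidueField A)).shortComplexKer with hS
    have hX2 : Module.length A S.X₂ ≠ ⊤ := hAfin
    have hX1 : Module.length A S.X₁ ≠ ⊤ := by
      intro h
      have := Module.length_le_of_injective S.f.hom hSE.moduleCat_injective_f
      rw [h, top_le_iff] at this
      exact hX2 this
    have hX3 : Module.length A S.X₃ ≠ ⊤ := by
      intro h
      have := Module.length_le_of_surjective S.g.hom hSE.moduleCat_surjective_g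
      rw [h, top_le_iff] at this
      exact hX2 this
    have hadd : Module.length A S.X₂ = Module.length A S.X₁ + Module.length A S.X₃ :=
      Module.length_eq_add_of_exact S.f.hom S.g.hom hSE.moduleCat_injective_f
        hSE.moduleCat_surjective_g
        ((ShortComplex.ShortExact.moduleCat_exact_iff_function_exact S).mp hSE.exact)
    have hshort : (S.map (CohIII.TFun P p)).ShortExact := by
      rw [← (h92.2 S hSE hX2).2]
      have e1 := hlen S.X₁ hX1
      have e2 := hlen S.X₂ hX2
      have e3 := hlen S.X₃ hX3
      change Module.length A (CohIII.T P p S.X₂) = Module.length A (CohIII.T P p S.X₁) +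
        Module.length A (CohIII.T P p S.X₃)
      generalize Module.length A (CohIII.T P p (ModuleCat.of A (IsLocalRing.ResidueField A))) = d
        at e1 e2 e3 ⊢
      rw [e2, hadd, mul_add, ← e1]
      congr 1
      exact e3.symm
    have hp : Function.Surjective ((CohIII.TFun P p).map (ModuleCat.ofHom
        (Algebra.linearMap A (IsLocalRing.ResidueField A)))).hom :=
      (ModuleCat.epi_iff_surjective _).mp hshort.epi_g
    have hmonof : Mono ((CohIII.TFun P p).map S.f) := hshort.mono_f
    -- the connecting map vanishes
    have hδ : Groth.Agent.Helper7.TFun.δ P hP S hSE q p hRel = 0 := by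
      rw [← cancel_mono ((CohIII.TFun P p).map S.f), zero_comp]
      exact Groth.Agent.Helper7.TFun.δ_comp P hP S hSE q p hRel
    have hex3 := Groth.Agent.Helper7.TFun.exact₃ P hP S hSE q p hRel
    rw [ShortComplex.moduleCat_exact_iff] at hex3
    have hq : Function.Surjective ((CohIII.TFun P q).map (ModuleCat.ofHom
        (Algebra.linearMap A (IsLocalRing.ResidueField A)))).hom := by
      intro y
      obtain ⟨x, hx⟩ := hex3 y (by
        change (Groth.Agent.Helper7.TFun.δ P hP S hSE q p hRel).hom y = 0
        rw [hδ]; rfl)
      exact ⟨x, hx⟩
    rw [hepi_iff, ← hmono_iff, hepi_iff_q]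
    exact ⟨hq, hp⟩

end Groth.Agent.S4497
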