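import Groth.Statements.S2456
import Mathlib
import Groth.Agent.Lib.Helper14.CohenLift
-- import your own Groth.Agent.* helpers here

set_option autoImplicit false
universe u
open EGA41

namespace Groth.Agent.S2456

open IsLocalRing in
/-- Let W be a Cohen ring (a field of characteristic zero, or a complete discrete valuation ring with
maximal ideal generated by the residue characteristic), C a complete Noetherian local ring and J ≠ C
an ideal of C. Then every local homomorphism u : W → C/J is induced by a local homomorphism v : W →
C. -/
theorem result {W C : Type u} [CommRing W] [IsLocalRing W] (hW : EGA41.IsCohenRingEGA W)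
    [CommRing C] [IsLocalRing C] [IsNoetherianRing C] [IsAdicComplete (maximalIdeal C) C]
    (J : Ideal C) (hJ : J ≠ ⊤) [IsLocalRing (C ⧸ J)] (u : W →+* C ⧸ J) [IsLocalHom u] :
    ∃ v : W →+* C, IsLocalHom v ∧ (Ideal.Quotient.mk J).comp v = u := by
  haveI : IsNoetherianRing (C ⧸ J) := inferInstance
  haveI : IsHausdorff ((maximalIdeal C).map (Ideal.Quotient.mk J)) (C ⧸ J) := by
    apply IsHausdorff.of_le_jacobson
    rw [IsLocalRing.jacobson_eq_maximalIdeal ⊥ bot_ne_top, Ideal.map_le_iff_le_comap]
    intro x hx
    rw [Ideal.mem_comap, mem_maximalIdeal, mem_nonunits_iff]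
    intro hu
    have hx' : x ∈ maximalIdeal C := hx
    rw [mem_maximalIdeal, mem_nonunits_iff] at hx'
    -- units of the quotient lift to units since J ≤ maximal ideal
    apply hx'
    obtain ⟨y, hy⟩ := hu.exists_right_inv
    obtain ⟨y', rfl⟩ := Ideal.Quotient.mk_surjective y
    rw [← map_mul, ← map_one (Ideal.Quotient.mk J), Ideal.Quotient.eq] at hy
    have h1 : x * y' - 1 ∈ maximalIdeal C := le_maximalIdeal hJ hy
    have h2 : IsUnit (x * y') := by
      by_contra hnu
      have h3 : x * y' ∈ maximalIdeal C := (mem_maximalIdeal _).mpr hnu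
      have h4 : (1 : C) ∈ maximalIdeal C := by
        have := Ideal.sub_mem _ h3 h1
        simpa using this
      exact (maximalIdeal.isMaximal C).ne_top ((Ideal.eq_top_iff_one _).mpr h4)
    exact isUnit_of_mul_isUnit_left h2
  exact Groth.Agent.Helper14.CohenLift.exists_local_lift
    (Groth.Agent.Helper14.CohenLift.isRingFS_of_isCohenRingEGA hW) J hJ u

end Groth.Agent.S2456
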