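import Groth.Statements.S2457
import Mathlib
import Groth.Agent.Lib.Helper14.CohenLift
-- import your own Groth.Agent.* helpers here

set_option autoImplicit false
universe u
open EGA41

namespace Groth.Agent.S2457

open IsLocalRing in
theorem field_residue_bijective (W : Type*) [CommRing W] [IsLocalRing W] (hf : IsField W) :
    Function.Bijective (residue W) := by
  refine ⟨?_, residue_surjective⟩
  rw [injective_iff_map_eq_zero]
  intro x hx
  rw [residue_eq_zero_iff, (IsLocalRing.isField_iff_maximalIdeal_eq).mp hf] at hx
  exact hx

open IsLocalRing in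
theorem mixed_false {W W' : Type*} [CommRing W] [IsLocalRing W] [CommRing W'] [IsLocalRing W']
    (hf : IsField W) [CharZero W] (p' : ℕ) (hp' : p'.Prime)
    (hm' : maximalIdeal W' = Ideal.span {(p' : W')})
    (u : ResidueField W ≃+* ResidueField W') : False := by
  have h1 : residue W (p' : W) = 0 := by
    apply u.injective
    rw [map_natCast, map_natCast, map_zero, ← map_natCast (residue W'), residue_eq_zero_iff, hm']
    exact Ideal.subset_span rfl
  have h2 : (p' : W) = 0 := (field_residue_bijective W hf).1 (by rw [h1, map_zero])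
  exact hp'.ne_zero (Nat.cast_injective (R := W) (by rw [h2, Nat.cast_zero]))

open IsLocalRing in
/-- Let W and W' be Cohen rings with residue fields K and K' and u : K ≅ K' an isomorphism. Then u is
induced by some isomorphism v : W ≅ W'. -/
theorem result {W W' : Type u} [CommRing W] [IsLocalRing W] [CommRing W'] [IsLocalRing W']
    (hW : EGA41.IsCohenRingEGA W) (hW' : EGA41.IsCohenRingEGA W') (u : ResidueField W ≃+* ResidueField W') :
    ∃ v : W ≃+* W', ∀ x : W, residue W' (v x) = u (residue W x) := by
  rcases hW with ⟨hf, hc⟩ | ⟨hdom, hdvr, hcomp, p, hp, hm⟩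
  · rcases hW' with ⟨hf', hc'⟩ | ⟨hdom', hdvr', hcomp', p', hp', hm'⟩
    · let e : W ≃+* ResidueField W := RingEquiv.ofBijective _ (field_residue_bijective W hf)
      let e' : W' ≃+* ResidueField W' := RingEquiv.ofBijective _ (field_residue_bijective W' hf')
      refine ⟨(e.trans u).trans e'.symm, fun x => ?_⟩
      change e' (e'.symm (u (e x))) = _
      rw [RingEquiv.apply_symm_apply]
      rfl
    · exact (mixed_false hf p' hp' hm' u).elim
  · rcases hW' with ⟨hf', hc'⟩ | ⟨hdom', hdvr', hcomp', p', hp', hm'⟩
    · exact (mixed_false hf' p hp hm u.symm).elim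
    · exact Groth.Agent.Helper14.CohenLift.exists_equiv_of_cohen p p' hp hp' hm hm' u

end Groth.Agent.S2457
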