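import Groth.Statements.S2458
import Groth.Agent.Lib.Helper14.ArtinSqZero
-- import your own Groth.Agent.* helpers here

set_option autoImplicit false
universe u
open EGA41

namespace Groth.Agent.S2458

open IsLocalRing in
/-- Let A be an Artinian local ring whose maximal ideal 𝔪 satisfies 𝔪² = 0. Then there is a regular
local ring B with maximal ideal 𝔫 such that A ≅ B/𝔫². -/
theorem result {A : Type u} [CommRing A] [IsLocalRing A] [IsArtinianRing A]
    (h : maximalIdeal A ^ 2 = ⊥) :
    ∃ (B : Type u) (_ : CommRing B) (_ : IsRegularLocalRing B), Nonempty (A ≃+* B ⧸ IsLocalRing.maximalIdeal B ^ 2) := by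
  classical
  haveI := Groth.Agent.Helper14.CohenLift.isAdicComplete_of_isArtinianRing A
  obtain ⟨p, hpc⟩ := CharP.exists (ResidueField A)
  rcases Nat.eq_zero_or_pos p with rfl | hpos
  · haveI : CharZero (ResidueField A) := CharP.charP_to_charZero _
    obtain ⟨s, hs⟩ := Groth.Agent.Helper14.CohenCoeff.exists_coefficient_field (A := A)
    exact Groth.Agent.Helper14.ArtinSqZero.exists_of_section h s hs
  · have hprime : p.Prime := by
      rcases CharP.char_is_prime_or_zero (ResidueField A) p with hp | hp
      · exact hp
      · omega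
    haveI : Fact p.Prime := ⟨hprime⟩
    by_cases hpA : (p : A) = 0
    · obtain ⟨s, hs⟩ :=
        Groth.Agent.Helper14.CohenCoeff.exists_coefficient_field_of_char (A := A) p hpA
      exact Groth.Agent.Helper14.ArtinSqZero.exists_of_section h s hs
    · exact Groth.Agent.Helper14.ArtinSqZero.exists_of_natCast_ne_zero h p hpA

end Groth.Agent.S2458
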