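import Groth.Statements.S2459
import Mathlib
import Groth.Agent.Lib.Helper14.CohenCoeff
-- import your own Groth.Agent.* helpers here

set_option autoImplicit false
universe u
open EGA41

namespace Groth.Agent.S2459

open IsLocalRing in
/-- Let A be an Artinian local ring with maximal ideal 𝔪 and residue field of characteristic p (p = 0
allowed). Then A is isomorphic to a quotient of a Cohen ring if and only if 𝔪 is generated by p·1. -/
theorem result {A : Type u} [CommRing A] [IsLocalRing A] [IsArtinianRing A]
    (p : ℕ) [CharP (ResidueField A) p] :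
    (∃ (W : Type u) (_ : CommRing W) (I : Ideal W), EGA41.IsCohenRingEGA W ∧ Nonempty (A ≃+* W ⧸ I)) ↔
      maximalIdeal A = Ideal.span {(p : A)} := by
  constructor
  · rintro ⟨W, _, I, hW, ⟨e⟩⟩
    have hI : I ≠ ⊤ := by
      intro hI
      have : Subsingleton (W ⧸ I) := Ideal.Quotient.subsingleton_iff.mpr hI
      have : Subsingleton A := e.toEquiv.subsingleton
      exact not_subsingleton A this
    have hpA : (p : A) ∈ maximalIdeal A := by
      rw [← residue_eq_zero_iff, map_natCast]
      exact CharP.cast_eq_zero _ p
    rcases hW with ⟨hf, hc⟩ | ⟨hdom, hdvr, hcomp, q, hq, hm⟩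
    · letI := hf.toField
      have hI0 : I = ⊥ := (Ideal.eq_bot_or_top I).resolve_right hI
      subst hI0
      have hfA : IsField A :=
        (e.trans (RingEquiv.quotientBot W)).toMulEquiv.isField hf
      have hmA : maximalIdeal A = ⊥ := (IsLocalRing.isField_iff_maximalIdeal_eq).mp hfA
      rw [hmA] at hpA ⊢
      rw [Ideal.mem_bot] at hpA
      rw [hpA]
      simp
    · let f : W →+* A := (e.symm : W ⧸ I →+* A).comp (Ideal.Quotient.mk I)
      have hfs : Function.Surjective f := e.symm.surjective.comp Ideal.Quotient.mk_surjective
      have hker : RingHom.ker f ≤ maximalIdeal W := by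
        apply le_maximalIdeal
        intro h0
        have h1 : (1 : W) ∈ RingHom.ker f := by rw [h0]; trivial
        rw [RingHom.mem_ker, map_one] at h1
        exact one_ne_zero h1
      have hmap : (maximalIdeal W).map f = maximalIdeal A := by
        rcases Ideal.map_eq_top_or_isMaximal_of_surjective f hfs (maximalIdeal.isMaximal W) with h | h
        · exfalso
          have h1 : (1 : A) ∈ (maximalIdeal W).map f := by rw [h]; trivial
          rw [Ideal.mem_map_iff_of_surjective f hfs] at h1
          obtain ⟨x, hx, hx1⟩ := h1
          have h2 : x - 1 ∈ RingHom.ker f := by rw [RingHom.mem_ker, map_sub, hx1, map_one, sub_self]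
          have h3 : (1 : W) ∈ maximalIdeal W := by
            have := Ideal.sub_mem _ hx (hker h2)
            simpa using this
          exact (maximalIdeal.isMaximal W).ne_top ((Ideal.eq_top_iff_one _).mpr h3)
        · exact IsLocalRing.eq_maximalIdeal h
      have hmA : maximalIdeal A = Ideal.span {(q : A)} := by
        rw [← hmap, hm, Ideal.map_span, Set.image_singleton, map_natCast]
      have hqA : (q : ResidueField A) = 0 := by
        rw [← map_natCast (residue A), residue_eq_zero_iff, hmA]
        exact Ideal.subset_span rfl
      have hpq : p ∣ q := (CharP.cast_eq_zero_iff (ResidueField A) p q).mp hqA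
      have hp1 : p ≠ 1 := CharP.char_ne_one (ResidueField A) p
      have : p = q := (Nat.dvd_prime hq).mp hpq |>.resolve_left hp1
      rw [this]
      exact hmA
  · intro hmA
    by_cases hp0 : p = 0
    · subst hp0
      have hmA' : maximalIdeal A = ⊥ := by rw [hmA]; simp
      have hfA : IsField A := (IsLocalRing.isField_iff_maximalIdeal_eq).mpr hmA'
      haveI : CharZero (ResidueField A) := CharP.charP_to_charZero _
      have hcz : CharZero A := RingHom.charZero (residue A)
      exact ⟨A, inferInstance, ⊥, Or.inl ⟨hfA, hcz⟩, ⟨(RingEquiv.quotientBot A).symm⟩⟩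
    · have hpp : p.Prime := (CharP.char_is_prime_or_zero (ResidueField A) p).resolve_right hp0
      haveI := Fact.mk hpp
      haveI := Groth.Agent.Helper14.CohenLift.isAdicComplete_of_isArtinianRing A
      obtain ⟨W, _, _, v, hW, hsurj⟩ :=
        Groth.Agent.Helper14.CohenCoeff.exists_cohen_surjective (A := A) p hmA
      exact ⟨W, inferInstance, RingHom.ker v, Or.inr hW,
        ⟨(RingHom.quotientKerEquivOfSurjective hsurj).symm⟩⟩

end Groth.Agent.S2459
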