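import Groth.Statements.S2462
import Mathlib
import Groth.Agent.Lib.Helper9.AdicLift

set_option autoImplicit false
universe u
open EGA41

namespace Groth.Agent.S2462

open IsLocalRing in
/-- Let A carry the 𝔞-adic and B the 𝔟-adic topology with B formally smooth over A; let C be a complete
Noetherian local A-algebra with 𝔞C inside the maximal ideal (continuity of A → C) and J ≠ C an
ideal. Then every A-algebra homomorphism u : B → C/J sending 𝔟 into the maximal ideal of C/J
(continuity) is induced by an A-algebra homomorphism v : B → C sending 𝔟 into the maximal ideal of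
C. -/
theorem result {A B C : Type u} [CommRing A] (𝔞 : Ideal A) [CommRing B] [Algebra A B] (𝔟 : Ideal B)
    (hB : EGA41.IsFormallySmoothAdic A 𝔞 B 𝔟)
    [CommRing C] [IsLocalRing C] [IsNoetherianRing C] [IsAdicComplete (maximalIdeal C) C] [Algebra A C]
    (hA : 𝔞.map (algebraMap A C) ≤ maximalIdeal C) (J : Ideal C) (hJ : J ≠ ⊤)
    (u : B →ₐ[A] C ⧸ J) (hu : 𝔟.map u.toRingHom ≤ (maximalIdeal C).map (Ideal.Quotient.mk J)) :
    ∃ v : B →ₐ[A] C, 𝔟.map v.toRingHom ≤ maximalIdeal C ∧ (Ideal.Quotient.mkₐ A J).comp v = u := by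
  haveI : IsHausdorff ((maximalIdeal C).map (Ideal.Quotient.mk J)) (C ⧸ J) :=
    (IsHausdorff.map_algebraMap_iff (R := C) (S := C ⧸ J) (M := C ⧸ J)
      (I := maximalIdeal C)).mpr inferInstance
  obtain ⟨v, ⟨k, hk⟩, hv⟩ := Groth.Agent.Helper9.AdicLift.exists_lift 𝔞 𝔟 (maximalIdeal C) J hB
    ⟨1, by rw [pow_one]; exact hA⟩ ⟨1, by rw [pow_one]; exact IsLocalRing.le_maximalIdeal hJ⟩ u
    ⟨1, by rw [pow_one]; exact hu⟩
  refine ⟨v, ?_, hv⟩
  rw [Ideal.map_pow] at hk
  have hk0 : k ≠ 0 := by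
    rintro rfl
    rw [pow_zero, Ideal.one_eq_top, top_le_iff] at hk
    exact (IsLocalRing.maximalIdeal.isMaximal C).ne_top hk
  exact (Ideal.IsPrime.pow_le_iff hk0).mp hk

end Groth.Agent.S2462
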