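import Groth.Statements.S2464
import Mathlib
import Groth.Agent.Lib.Helper9.PBasis3

set_option autoImplicit false
universe u
open EGA41

namespace Groth.Agent.S2464

/-- Let p be a prime, B a ring of characteristic p and A → B an injective ring map whose image contains
every p-th power, and (x_α) a p-basis of B over A. Let E be an A-algebra and q : E → B a surjective
A-algebra homomorphism whose kernel K has K^p = 0. (i) q admits an A-algebra right inverse if and
only if, for all z ∈ E and a ∈ A with a ↦ q(z)^p in B, the image of a in E is z^p. (ii) When this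
holds, for every family (z_α) in E with q(z_α) = x_α there is a unique A-algebra homomorphism v : B
→ E with v(x_α) = z_α for all α, and q ∘ v is the identity. -/
theorem result (p : ℕ) [Fact p.Prime] {A B : Type u} [CommRing A] [CommRing B] [Algebra A B] [CharP B p]
    (hinj : Function.Injective (algebraMap A B)) (hpow : ∀ b : B, b ^ p ∈ Set.range (algebraMap A B))
    {ι : Type u} (x : ι → B) (hx : EGA41.IsPBasis p A x)
    {E : Type u} [CommRing E] [Algebra A E] (q : E →ₐ[A] B) (hq : Function.Surjective q) (hK : RingHom.ker q.toRingHom ^ p = ⊥) :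
    ((∃ v : B →ₐ[A] E, q.comp v = AlgHom.id A B) ↔ ∀ (z : E) (a : A), algebraMap A B a = q z ^ p → algebraMap A E a = z ^ p) ∧
    ((∀ (z : E) (a : A), algebraMap A B a = q z ^ p → algebraMap A E a = z ^ p) →
      ∀ z : ι → E, (∀ i, q (z i) = x i) →
        (∃! v : B →ₐ[A] E, ∀ i, v (x i) = z i) ∧ ∀ v : B →ₐ[A] E, (∀ i, v (x i) = z i) → q.comp v = AlgHom.id A B) := by
  -- identity characterization
  have hidB : ∀ φ : B →+* B, (∀ a, φ (algebraMap A B a) = algebraMap A B a) → (∀ i, φ (x i) = x i) →
      φ = RingHom.id B := by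
    intro φ h1 h2
    obtain ⟨ψ, -, huniq⟩ := Groth.Agent.Helper9.PBasis.existsUnique_lift' hinj hpow hx
      (algebraMap A B) x (fun i a ha => ha.symm)
    rw [huniq φ ⟨h1, h2⟩, huniq (RingHom.id B) ⟨fun a => rfl, fun i => rfl⟩]
  have hii : (∀ (z : E) (a : A), algebraMap A B a = q z ^ p → algebraMap A E a = z ^ p) →
      ∀ z : ι → E, (∀ i, q (z i) = x i) →
        (∃! v : B →ₐ[A] E, ∀ i, v (x i) = z i) ∧
          ∀ v : B →ₐ[A] E, (∀ i, v (x i) = z i) → q.comp v = AlgHom.id A B := by
    intro H z hz
    obtain ⟨φ, ⟨h1, h2⟩, huniq⟩ := Groth.Agent.Helper9.PBasis.existsUnique_lift' hinj hpow hx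
      (algebraMap A E) z (fun i a ha => (H (z i) a (by rw [hz i]; exact ha)).symm)
    refine ⟨⟨{ φ with commutes' := h1 }, h2, fun v hv => ?_⟩, fun v hv => ?_⟩
    · ext b
      have := huniq v.toRingHom ⟨fun a => v.commutes a, hv⟩
      exact congrArg (fun f => f b) this
    · ext b
      have := hidB (q.comp v).toRingHom (fun a => (q.comp v).commutes a)
        (fun i => by change q (v (x i)) = x i; rw [hv, hz])
      exact congrArg (fun f => f b) this
  refine ⟨⟨?_, fun H => ?_⟩, hii⟩
  · rintro ⟨v, hv⟩ z a ha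
    have hvq : ∀ b, q (v b) = b := fun b => congrArg (fun f => f b) hv
    -- characteristic of E
    have hpA : (p : A) = 0 := hinj (by rw [map_natCast, map_zero]; exact CharP.cast_eq_zero B p)
    have hpE : (p : E) = 0 := by rw [← map_natCast (algebraMap A E), hpA, map_zero]
    haveI : Nontrivial B := by
      refine ⟨⟨0, 1, fun h => ?_⟩⟩
      have h1 : (1 : ℕ) = ((1 : ℕ) : B) := rfl
      have : ((1 : ℕ) : B) = 0 := by rw [Nat.cast_one]; exact h.symm
      have := (CharP.cast_eq_zero_iff B p 1).mp this
      exact (Fact.out : p.Prime).one_lt.not_ge (Nat.le_of_dvd one_pos this)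
    haveI : Nontrivial E := q.toRingHom.domain_nontrivial
    haveI : CharP E p := ringChar.of_eq (CharP.ringChar_of_prime_eq_zero Fact.out hpE)
    set w := v (q z) with hw
    have hmem : z - w ∈ RingHom.ker q.toRingHom := by
      rw [RingHom.mem_ker]
      change q (z - w) = 0
      rw [map_sub, hw, hvq, sub_self]
    have h0 : (z - w) ^ p = 0 := by
      have : (z - w) ^ p ∈ RingHom.ker q.toRingHom ^ p := Ideal.pow_mem_pow hmem p
      rw [hK] at this
      exact this
    rw [sub_pow_char] at h0
    rw [sub_eq_zero.mp h0, hw, ← map_pow, ← ha, AlgHom.commutes]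
  · choose z hz using fun i => hq (x i)
    obtain ⟨⟨v, hv, -⟩, h2⟩ := hii H z hz
    exact ⟨v, h2 v hv⟩

end Groth.Agent.S2464
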