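import Groth.Statements.S2470
import Mathlib
import Groth.Agent.Lib.Helper14.RegHomTFAE
-- import your own Groth.Agent.* helpers here

set_option autoImplicit false
universe u
open EGA41

namespace Groth.Agent.S2470

open IsLocalRing in
/-- Let A → B be a local homomorphism of Noetherian local rings with maximal ideals 𝔪, 𝔫 and residue
fields k, k', and let B₀ = B/𝔪B be the closed fibre. The following are equivalent: (a) B is regular
and the canonical map (𝔪/𝔪²) ⊗_k k' → 𝔫/𝔫² is injective — stated here through dimensions, as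
rank_{k'} 𝔫/𝔫² = rank_k 𝔪/𝔪² + rank_{k'} of the cotangent space of B₀, which is equivalent since the
cokernel of that map is the cotangent space of B₀; (c) B and B₀ are regular and B is flat over A;
(d) A and B₀ are regular and B is flat over A; (e) A and B₀ are regular and dim B = dim A + dim B₀.
(Condition (b) of the source, on regular systems of parameters, is not stated.) -/
theorem result {A B : Type u} [CommRing A] [IsLocalRing A] [IsNoetherianRing A] [CommRing B] [IsLocalRing B] [IsNoetherianRing B]
    [Algebra A B] [IsLocalHom (algebraMap A B)] [IsLocalRing (B ⧸ (maximalIdeal A).map (algebraMap A B))] :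
    [IsRegularLocalRing B ∧
       Module.finrank (ResidueField B) (CotangentSpace B) =
         Module.finrank (ResidueField A) (CotangentSpace A) +
           Module.finrank (ResidueField (B ⧸ (maximalIdeal A).map (algebraMap A B))) (CotangentSpace (B ⧸ (maximalIdeal A).map (algebraMap A B))),
     IsRegularLocalRing B ∧ IsRegularLocalRing (B ⧸ (maximalIdeal A).map (algebraMap A B)) ∧ Module.Flat A B,
     IsRegularLocalRing A ∧ IsRegularLocalRing (B ⧸ (maximalIdeal A).map (algebraMap A B)) ∧ Module.Flat A B,
     IsRegularLocalRing A ∧ IsRegularLocalRing (B ⧸ (maximalIdeal A).map (algebraMap A B)) ∧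
       ringKrullDim B = ringKrullDim A + ringKrullDim (B ⧸ (maximalIdeal A).map (algebraMap A B))].TFAE := by
  classical
  -- natural number representatives
  obtain ⟨a, ha⟩ := Groth.Agent.Lead.FEq.exists_nat_dim A
  obtain ⟨b, hb⟩ := Groth.Agent.Lead.FEq.exists_nat_dim B
  obtain ⟨c, hc⟩ := Groth.Agent.Lead.FEq.exists_nat_dim
    (B ⧸ (maximalIdeal A).map (algebraMap A B))
  have hEA := IsLocalRing.spanFinrank_maximalIdeal_eq_finrank_cotangentSpace A
  have hEB := IsLocalRing.spanFinrank_maximalIdeal_eq_finrank_cotangentSpace B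
  have hE0 := IsLocalRing.spanFinrank_maximalIdeal_eq_finrank_cotangentSpace
    (B ⧸ (maximalIdeal A).map (algebraMap A B))
  rw [← hEA, ← hEB, ← hE0]
  set r := (maximalIdeal A).spanFinrank with hr
  set s := (maximalIdeal B).spanFinrank with hs
  set s₀ := (maximalIdeal (B ⧸ (maximalIdeal A).map (algebraMap A B))).spanFinrank with hs₀
  have hemb : s ≤ r + s₀ := Groth.Agent.Helper14.RegHomTFAE.embdim_le
  have hdim : b ≤ a + c := by
    have := Groth.Agent.Helper14.RegHomTFAE.dim_le (A := A) (B := B)
    rw [ha, hb, hc] at this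
    exact_mod_cast this
  have har : a ≤ r := by
    have := ringKrullDim_le_spanFinrank_maximalIdeal A
    rw [ha] at this
    exact_mod_cast this
  have hbs : b ≤ s := by
    have := ringKrullDim_le_spanFinrank_maximalIdeal B
    rw [hb] at this
    exact_mod_cast this
  have hcs₀ : c ≤ s₀ := by
    have := ringKrullDim_le_spanFinrank_maximalIdeal (B ⧸ (maximalIdeal A).map (algebraMap A B))
    rw [hc] at this
    exact_mod_cast this
  have hregA : IsRegularLocalRing A ↔ r = a := by
    rw [isRegularLocalRing_iff, ha]
    exact_mod_cast Iff.rfl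
  have hregB : IsRegularLocalRing B ↔ s = b := by
    rw [isRegularLocalRing_iff, hb]
    exact_mod_cast Iff.rfl
  have hreg0 : IsRegularLocalRing (B ⧸ (maximalIdeal A).map (algebraMap A B)) ↔ s₀ = c := by
    rw [isRegularLocalRing_iff, hc]
    exact_mod_cast Iff.rfl
  have hdimeq : ringKrullDim B = ringKrullDim A +
      ringKrullDim (B ⧸ (maximalIdeal A).map (algebraMap A B)) ↔ b = a + c := by
    rw [ha, hb, hc]
    exact_mod_cast Iff.rfl
  tfae_have 1 → 2 := by
    rintro ⟨hB, hsum⟩
    have hsb := hregB.mp hB
    have h1 : r = a := by omega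
    have h2 : s₀ = c := by omega
    haveI := hregA.mpr h1
    refine ⟨hB, hreg0.mpr h2, ?_⟩
    have hCM : LocCoh.IsCohenMacaulayModule B B := Groth.Agent.Helper9.RegLocExt.isCM_self
    refine Groth.Agent.Lead.Miracle.flat_of_isCohenMacaulayModule A B B hCM ?_
    have h3 : ringKrullDim B = ringKrullDim A +
        ringKrullDim (B ⧸ (maximalIdeal A).map (algebraMap A B)) := hdimeq.mpr (by omega)
    rw [Module.supportDim_self_eq_ringKrullDim, h3]
    congr 1
    have h0 : ((IsLocalRing.maximalIdeal A).map (algebraMap A B)) • (⊤ : Submodule B B) =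
        (IsLocalRing.maximalIdeal A).map (algebraMap A B) := by
      rw [Ideal.smul_eq_mul, Ideal.mul_top]
    rw [Module.supportDim_eq_of_equiv (Submodule.quotEquivOfEq _ _ h0),
      Module.supportDim_quotient_eq_ringKrullDim]
  tfae_have 2 → 3 := by
    rintro ⟨hB, h0, hflat⟩
    exact ⟨Groth.Agent.S0565.result A B, h0, hflat⟩
  tfae_have 3 → 4 := by
    rintro ⟨hA, h0, hflat⟩
    exact ⟨hA, h0, Groth.Agent.Helper14.RegHomTFAE.dim_eq_of_flat⟩
  tfae_have 4 → 1 := by
    rintro ⟨hA, h0, hd⟩
    have h1 := hregA.mp hA
    have h2 := hreg0.mp h0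
    have h3 := hdimeq.mp hd
    refine ⟨hregB.mpr (by omega), by omega⟩
  tfae_finish

end Groth.Agent.S2470
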