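import Groth.Statements.S2472
import Mathlib
import Groth.Agent.Lib.Helper14.FSResidue
import Groth.Agent.Lib.Helper5.PSR
import Groth.Agent.Lib.Helper17.PS1
-- import your own Groth.Agent.* helpers here

set_option autoImplicit false
universe u
open EGA41

namespace Groth.Agent.S2472

open IsLocalRing in
/-- Existence part and the range of dimensions: let k ⊆ K be fields. There is a Noetherian local
k-algebra A, formally smooth over k for its adic topology, whose residue field is k-isomorphic to K,
if and only if Υ_{K/k} is a finite-dimensional K-vector space. When this holds, for every integer n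
≥ rank Υ_{K/k} there is such an A which is moreover complete and of dimension n. (The source's
uniqueness-up-to-isomorphism clause for a given dimension is not stated.) -/
theorem result {k K : Type u} [Field k] [Field K] [Algebra k K] :
    ((∃ (A : Type u) (_ : CommRing A) (_ : IsLocalRing A) (_ : IsNoetherianRing A) (_ : Algebra k A),
        CAlgX.IsAdicFormallySmooth k A (maximalIdeal A) ∧ Nonempty (ResidueField A ≃ₐ[k] K)) ↔
      Module.Finite K (EGA41.imperfection ℤ k K)) ∧
    (Module.Finite K (EGA41.imperfection ℤ k K) → ∀ n : ℕ, Module.finrank K (EGA41.imperfection ℤ k K) ≤ n →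
      ∃ (A : Type u) (_ : CommRing A) (_ : IsLocalRing A) (_ : IsNoetherianRing A) (_ : Algebra k A),
        IsAdicComplete (maximalIdeal A) A ∧ CAlgX.IsAdicFormallySmooth k A (maximalIdeal A) ∧
        Nonempty (ResidueField A ≃ₐ[k] K) ∧ ringKrullDim A = n) := by
  classical
  have part2 : Module.Finite K (EGA41.imperfection ℤ k K) → ∀ n : ℕ,
      Module.finrank K (EGA41.imperfection ℤ k K) ≤ n →
      ∃ (A : Type u) (_ : CommRing A) (_ : IsLocalRing A) (_ : IsNoetherianRing A) (_ : Algebra k A),
        IsAdicComplete (maximalIdeal A) A ∧ CAlgX.IsAdicFormallySmooth k A (maximalIdeal A) ∧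
        Nonempty (ResidueField A ≃ₐ[k] K) ∧ ringKrullDim A = n := by
    intro hfin n hn
    haveI := hfin
    obtain ⟨v, hv0, hfs⟩ := Groth.Agent.Helper14.FSResidue.exists_twisted (k := k) (K := K) n hn
    haveI : IsAdicComplete (maximalIdeal K) K :=
      Groth.Agent.Helper14.CohenLift.isAdicComplete_of_isArtinianRing K
    have hcomp : IsAdicComplete (maximalIdeal (MvPowerSeries (Fin n) K)) (MvPowerSeries (Fin n) K) :=
      Groth.Agent.Helper14.PowerSeriesComplete.isAdicComplete_maximalIdeal (Fin n) K
    have hdim : ringKrullDim (MvPowerSeries (Fin n) K) = n :=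
      le_antisymm (Groth.Agent.Helper5.PSR.ringKrullDim_mvPowerSeries_le n)
        (Groth.Agent.Helper17.PS.le_ringKrullDim n)
    refine ⟨MvPowerSeries (Fin n) K, inferInstance, inferInstance, inferInstance, v.toAlgebra,
      hcomp, hfs, ?_, hdim⟩
    have hker : ∀ a ∈ maximalIdeal (MvPowerSeries (Fin n) K),
        (MvPowerSeries.constantCoeff : MvPowerSeries (Fin n) K →+* K) a = 0 := by
      intro a ha
      exact (Groth.Agent.Helper14.FSResidue.mem_maximalIdeal_iff a).mp ha
    let e₀ : ResidueField (MvPowerSeries (Fin n) K) →+* K :=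
      Ideal.Quotient.lift _ (MvPowerSeries.constantCoeff : MvPowerSeries (Fin n) K →+* K) hker
    have he₀ : ∀ b, e₀ (residue _ b) = MvPowerSeries.constantCoeff b := fun b => rfl
    have hbij : Function.Bijective e₀ := by
      refine ⟨RingHom.injective e₀, fun c => ⟨residue _ (MvPowerSeries.C c), ?_⟩⟩
      rw [he₀, MvPowerSeries.constantCoeff_C]
    let e : ResidueField (MvPowerSeries (Fin n) K) ≃+* K := RingEquiv.ofBijective e₀ hbij
    letI : Algebra k (MvPowerSeries (Fin n) K) := v.toAlgebra
    refine ⟨AlgEquiv.ofRingEquiv (f := e) ?_⟩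
    intro x
    exact hv0 x
  refine ⟨⟨?_, fun hfin => ?_⟩, part2⟩
  · rintro ⟨A, _, _, _, _, hfs, ⟨e⟩⟩
    letI : Algebra A K := ((e : ResidueField A →+* K).comp (residue A)).toAlgebra
    haveI : IsScalarTower k A K := IsScalarTower.of_algebraMap_eq fun x => (e.commutes x).symm
    have hsurj : Function.Surjective (algebraMap A K) :=
      e.surjective.comp residue_surjective
    exact Groth.Agent.Helper14.FSResidue.finite_imperfection (A := A) hsurj hfs
  · obtain ⟨A, i1, i2, i3, i4, -, hfs, he, -⟩ := part2 hfin _ le_rfl
    exact ⟨A, i1, i2, i3, i4, hfs, he⟩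

end Groth.Agent.S2472
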