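import Groth.Statements.S2479
import Mathlib
import Groth.Agent.Lib.Helper5.ProConsImage
import Groth.Agent.Lib.Helper5.ProConsAffineImage

set_option autoImplicit false
universe u
open EGA41

namespace Groth.Agent.S2479

open AlgebraicGeometry CategoryTheory Topology in
/-- Let X be a quasi-compact and quasi-separated scheme and E ⊆ X. Then E = f(X') for some quasi-compact
morphism f : X' → X if and only if E is an intersection of a family of constructible subsets of X. -/
theorem result {X : Scheme.{u}} [CompactSpace X] [QuasiSeparatedSpace X] (E : Set X) :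
    (∃ (X' : Scheme.{u}) (f : X' ⟶ X), QuasiCompact f ∧ Set.range f.base = E) ↔
      ∃ S : Set (Set X), (∀ s ∈ S, IsConstructible s) ∧ E = ⋂₀ S := by
  classical
  constructor
  · rintro ⟨X', f, hf, rfl⟩
    have huniv : ProCons.IsProConstructible (Set.univ : Set X') := by
      intro x
      exact ⟨Set.univ, isOpen_univ, Set.mem_univ x, ∅, by simp, by simp⟩
    have hE := Groth.Agent.Helper5.PC.isProConstructible_image f huniv
    rw [Set.image_univ] at hE
    have hVo : IsOpen (Set.univ : Set X) := isOpen_univ
    haveI : CompactSpace ↥(Set.univ : Set X) := isCompact_iff_compactSpace.mp isCompact_univ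
    haveI : QuasiSeparatedSpace ↥(Set.univ : Set X) :=
      (isQuasiSeparated_iff_quasiSeparatedSpace _ hVo).mp isQuasiSeparated_univ
    haveI : PrespectralSpace ↥(Set.univ : Set X) :=
      hVo.isOpenEmbedding_subtypeVal.prespectralSpace
    have h1 := Groth.Agent.Helper5.PC.isClosed_cT_of_isProConstructible hVo hE
    obtain ⟨S, hS, hES⟩ := Groth.Agent.Helper5.PC.isClosed_cT_iff_sInter.mp h1
    refine ⟨(fun T : Set ↥(Set.univ : Set X) => Subtype.val '' T) '' S, ?_, ?_⟩
    · rintro _ ⟨T, hT, rfl⟩
      refine (hS T hT).image_of_isOpenEmbedding hVo.isOpenEmbedding_subtypeVal ?_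
      rw [Subtype.range_coe]
      exact IsRetrocompact.univ
    · ext x
      have hx : x ∈ Set.range f.base ↔
          (⟨x, Set.mem_univ x⟩ : ↥(Set.univ : Set X)) ∈
            (Subtype.val ⁻¹' (Set.range f) : Set ↥(Set.univ : Set X)) := Iff.rfl
      rw [hx, hES]
      constructor
      · rintro h _ ⟨T, hT, rfl⟩
        exact ⟨⟨x, Set.mem_univ x⟩, h T hT, rfl⟩
      · intro h T hT
        obtain ⟨y, hy, hyx⟩ := h _ ⟨T, hT, rfl⟩
        have : y = ⟨x, Set.mem_univ x⟩ := Subtype.ext hyx
        rwa [this] at hy
  · rintro ⟨S, hS, rfl⟩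
    have hE : ProCons.IsProConstructible (⋂₀ S) := by
      intro x
      refine ⟨Set.univ, isOpen_univ, Set.mem_univ x,
        (fun T : Set X => (Subtype.val ⁻¹' T : Set ↥(Set.univ : Set X))) '' S, ?_, ?_⟩
      · rintro _ ⟨T, hT, rfl⟩
        exact (hS T hT).isLocallyConstructible.preimage_of_isOpenEmbedding
          isOpen_univ.isOpenEmbedding_subtypeVal
      · ext y
        constructor
        · rintro h _ ⟨T, hT, rfl⟩
          exact h T hT
        · intro h T hT
          exact h _ ⟨T, hT, rfl⟩
    obtain ⟨X', f, hX', hf⟩ := Groth.Agent.Helper5.PC.exists_affine_range_eq X hE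
    exact ⟨X', f, inferInstance, hf⟩

end Groth.Agent.S2479
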