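import Groth.Statements.S2482
import Groth.Agent.Lib.Helper14.CohenAlgUnique
-- import your own Groth.Agent.* helpers here

set_option autoImplicit false
universe u
open EGA41

namespace Groth.Agent.S2482

open IsLocalRing in
/-- (a) ⟹ (b): let A, B be complete discrete valuation rings and u : A → B a ring homomorphism with
u(𝔪_A)B = 𝔪_B, such that the residue field L of B is separable over the residue field K of A. Then
for every complete discrete valuation ring B', every homomorphism u' : A → B' with u'(𝔪_A)B' =
𝔪_{B'} and every isomorphism σ of residue fields L ≅ L' compatible with the maps from K, there is an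
isomorphism w : B ≅ B' with u' = w ∘ u inducing σ on residue fields. -/
theorem result {A B B' : Type u} [CommRing A] [IsDomain A] [IsDiscreteValuationRing A] [IsAdicComplete (maximalIdeal A) A]
    [CommRing B] [IsDomain B] [IsDiscreteValuationRing B] [IsAdicComplete (maximalIdeal B) B]
    [CommRing B'] [IsDomain B'] [IsDiscreteValuationRing B'] [IsAdicComplete (maximalIdeal B') B']
    (u : A →+* B) [IsLocalHom u] (hu : (maximalIdeal A).map u = maximalIdeal B)
    (hsep : letI := (ResidueField.map u).toAlgebra; Algebra.IsGeometricallyReduced (ResidueField A) (ResidueField B))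
    (u' : A →+* B') [IsLocalHom u'] (hu' : (maximalIdeal A).map u' = maximalIdeal B')
    (σ : ResidueField B ≃+* ResidueField B') (hσ : (σ : ResidueField B →+* ResidueField B').comp (ResidueField.map u) = ResidueField.map u') :
    ∃ w : B ≃+* B', (w : B →+* B').comp u = u' ∧ ∀ b : B, residue B' (w b) = σ (residue B b) := by
  classical
  letI : Algebra A B := u.toAlgebra
  letI : Algebra A B' := u'.toAlgebra
  haveI : IsLocalHom (algebraMap A B) := ‹IsLocalHom u›
  haveI : IsLocalHom (algebraMap A B') := ‹IsLocalHom u'›
  have hinj : ∀ (C : Type u) [CommRing C] [IsDomain C] [IsDiscreteValuationRing C] (v : A →+* C),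
      (maximalIdeal A).map v = maximalIdeal C → Function.Injective v := by
    intro C _ _ _ v hv
    rw [RingHom.injective_iff_ker_eq_bot]
    by_contra hne
    haveI : (RingHom.ker v).IsPrime := RingHom.ker_isPrime v
    have hmaxk : (RingHom.ker v).IsMaximal := Ideal.IsPrime.isMaximal inferInstance hne
    have hk : RingHom.ker v = maximalIdeal A := IsLocalRing.eq_maximalIdeal hmaxk
    have h0 : (maximalIdeal A).map v = ⊥ := by
      rw [← hk, Ideal.map_eq_bot_iff_le_ker]
    rw [hv] at h0
    exact IsDiscreteValuationRing.not_a_field C h0
  have hflat : Module.Flat A B := by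
    rw [IsDedekindDomain.flat_iff_torsion_eq_bot, ← Submodule.isTorsionFree_iff_torsion_eq_bot,
      Module.isTorsionFree_iff_algebraMap_injective]
    exact hinj B u hu
  have hflat' : Module.Flat A B' := by
    rw [IsDedekindDomain.flat_iff_torsion_eq_bot, ← Submodule.isTorsionFree_iff_torsion_eq_bot,
      Module.isTorsionFree_iff_algebraMap_injective]
    exact hinj B' u' hu'
  have halg : (ResidueField.map u).toAlgebra =
      (ResidueField.instAlgebra : Algebra (ResidueField A) (ResidueField B)) := by
    apply Algebra.algebra_ext
    intro r
    obtain ⟨a, rfl⟩ := residue_surjective r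
    rfl
  have hsep' : Algebra.IsGeometricallyReduced (ResidueField A) (ResidueField B) := halg ▸ hsep
  have hB : EGA41.IsCohenAlgebra A B :=
    ⟨inferInstance, inferInstance, inferInstance, hflat, hu, hsep'⟩
  have hσ' : ∀ a : A, σ (residue B (algebraMap A B a)) = residue B' (algebraMap A B' a) := by
    intro a
    exact DFunLike.congr_fun hσ (residue A a)
  obtain ⟨w, hw⟩ := Groth.Agent.Helper14.CohenAlgUnique.exists_algEquiv_lift B B' hB inferInstance
    hflat' hu' σ hσ'
  refine ⟨w.toRingEquiv, ?_, hw⟩
  ext a
  exact w.commutes a

end Groth.Agent.S2482
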