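import Groth.Statements.S2485
import Mathlib

set_option autoImplicit false
universe u
open EGA41

namespace Groth.Agent.S2485
open scoped TensorProduct

/-- Let p be a prime and A → B a ring homomorphism making B an A-algebra of finite type, with B of
characteristic p, such that for some s ≥ 0 every p^s-th power of an element of B lies in the image
of A. If Ω_{B/A} = 0 then A → B is surjective. -/
theorem result (p : ℕ) [Fact p.Prime] {A B : Type u} [CommRing A] [CommRing B] [Algebra A B] [CharP B p]
    [Algebra.FiniteType A B] (s : ℕ) (hpow : ∀ b : B, b ^ p ^ s ∈ Set.range (algebraMap A B)) [Subsingleton (Ω[B⁄A])] :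
    Function.Surjective (algebraMap A B) := by
  classical
  haveI : Algebra.IsIntegral A B := ⟨fun b => by
    obtain ⟨a, ha⟩ := hpow b
    exact IsIntegral.of_pow (pow_pos (Fact.out : p.Prime).pos s) (ha ▸ isIntegral_algebraMap)⟩
  haveI : Module.Finite A B := Algebra.IsIntegral.finite
  rw [← Algebra.isEpi_iff_surjective_algebraMap_of_finite, Algebra.isEpi_iff_forall_one_tmul_eq]
  have hidem : IsIdempotentElem (KaehlerDifferential.ideal A B) :=
    (Ideal.cotangent_subsingleton_iff _).1 (inferInstanceAs (Subsingleton (Ω[B⁄A])))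
  have hfg : (KaehlerDifferential.ideal A B).FG := KaehlerDifferential.ideal_fg A B
  have hnil : ∀ x : B, IsNilpotent ((1 : B) ⊗ₜ[A] x - x ⊗ₜ[A] (1 : B)) := by
    intro x
    rcases subsingleton_or_nontrivial (B ⊗[A] B) with h | h
    · exact ⟨1, Subsingleton.elim _ _⟩
    · haveI : CharP (B ⊗[A] B) p := (CharP.charP_iff_prime_eq_zero Fact.out).2 (by
        have h1 : ((p : ℕ) : B ⊗[A] B) = algebraMap B (B ⊗[A] B) (p : B) :=
          (map_natCast _ p).symm
        rw [h1, CharP.cast_eq_zero, map_zero])
      refine ⟨p ^ s, ?_⟩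
      rw [sub_pow_char_pow, Algebra.TensorProduct.tmul_pow, Algebra.TensorProduct.tmul_pow,
        one_pow]
      obtain ⟨a, ha⟩ := hpow x
      rw [← ha, Algebra.algebraMap_eq_smul_one, TensorProduct.smul_tmul, sub_self]
  have hle : KaehlerDifferential.ideal A B ≤ nilradical (B ⊗[A] B) := by
    rw [← KaehlerDifferential.span_range_eq_ideal, Ideal.span_le]
    rintro _ ⟨x, rfl⟩
    exact hnil x
  have hInil : IsNilpotent (KaehlerDifferential.ideal A B) :=
    hfg.isNilpotent_iff_le_nilradical.2 hle
  obtain ⟨n, hn⟩ := hInil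
  have hI0 : KaehlerDifferential.ideal A B = ⊥ := by
    cases n with
    | zero =>
      have htop : (⊤ : Ideal (B ⊗[A] B)) = ⊥ := by
        rw [← Ideal.one_eq_top, ← pow_zero (KaehlerDifferential.ideal A B), hn, Ideal.zero_eq_bot]
      exact le_bot_iff.1 (htop ▸ le_top)
    | succ k =>
      rw [← hidem.pow_succ_eq k]
      exact hn
  intro x
  have hx : (1 : B) ⊗ₜ[A] x - x ⊗ₜ[A] (1 : B) ∈ KaehlerDifferential.ideal A B :=
    KaehlerDifferential.one_smul_sub_smul_one_mem_ideal A x
  rw [hI0, Ideal.mem_bot, sub_eq_zero] at hx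
  exact hx

end Groth.Agent.S2485
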