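import Groth.Statements.S2486
import Groth.Agent.S2485

set_option autoImplicit false
universe u
open EGA41

namespace Groth.Agent.S2486

/-- Let p be a prime, B an A-algebra of characteristic p and (x_α) a family of elements of B. Then (a) B
is generated as an A[B^p]-algebra by the x_α if and only if (b) (x_α) is a system of p-generators of
B over A; these imply (c) Ω_{B/A} is generated by the d x_α; and if B is an A[B^p]-algebra of finite
type, (c) implies (a). -/
theorem result (p : ℕ) [Fact p.Prime] {A B : Type u} [CommRing A] [CommRing B] [Algebra A B] [CharP B p]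
    {ι : Type u} (x : ι → B) :
    (Algebra.adjoin (EGA41.pPowerSubalgebra p A B) (Set.range x) = ⊤ ↔ EGA41.IsPGenerating p A x) ∧
    (EGA41.IsPGenerating p A x → Submodule.span B (Set.range fun i => KaehlerDifferential.D A B (x i)) = ⊤) ∧
    (Algebra.FiniteType (EGA41.pPowerSubalgebra p A B) B →
      Submodule.span B (Set.range fun i => KaehlerDifferential.D A B (x i)) = ⊤ → EGA41.IsPGenerating p A x) := by
  classical
  have hp : p.Prime := Fact.out
  set C := EGA41.pPowerSubalgebra p A B with hC
  have hpowC : ∀ b : B, b ^ p ∈ C := fun b => Algebra.subset_adjoin ⟨b, rfl⟩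
  set S : Set B := Set.range fun e : {e : ι →₀ ℕ // ∀ i, e i < p} => EGA41.pMonomial x e.1 with hS
  set V : Submodule C B := Submodule.span C S with hV
  have hmonV : ∀ e : ι →₀ ℕ, (∀ i, e i < p) → EGA41.pMonomial x e ∈ V :=
    fun e he => Submodule.subset_span ⟨⟨e, he⟩, rfl⟩
  have hsplit : ∀ (i : ι) (f : ι →₀ ℕ) (n : ℕ), f i = 0 →
      EGA41.pMonomial x (f + Finsupp.single i n) = EGA41.pMonomial x f * x i ^ n := by
    intro i f n hf
    unfold EGA41.pMonomial
    rw [Finsupp.prod_add_index' (by intro a; simp) (by intro a m n; exact pow_add _ _ _)]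
    rw [Finsupp.prod_single_index (by simp)]
  have key : ∀ (i : ι) (e : ι →₀ ℕ), (∀ j, e j < p) → x i * EGA41.pMonomial x e ∈ V := by
    intro i e he
    have h1 : EGA41.pMonomial x e = EGA41.pMonomial x (e.erase i) * x i ^ (e i) := by
      conv_lhs => rw [← Finsupp.erase_add_single i e]
      exact hsplit i _ _ (by simp)
    have herase : ∀ j, (e.erase i) j < p := by
      intro j
      by_cases hj : j = i
      · subst hj; simp [hp.pos]
      · rw [Finsupp.erase_ne hj]; exact he j
    rw [h1]
    have h2 : x i * (EGA41.pMonomial x (e.erase i) * x i ^ e i) =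
        EGA41.pMonomial x (e.erase i) * x i ^ (e i + 1) := by ring
    rw [h2]
    by_cases hlt : e i + 1 < p
    · rw [← hsplit i _ _ (by simp)]
      apply hmonV
      intro j
      by_cases hj : j = i
      · subst hj; simpa using hlt
      · rw [Finsupp.add_apply, Finsupp.erase_ne hj, Finsupp.single_eq_of_ne hj, add_zero]
        exact he j
    · have h4 : e i + 1 = p := by have := he i; omega
      rw [h4]
      have h5 : EGA41.pMonomial x (e.erase i) * x i ^ p =
          (⟨x i ^ p, hpowC (x i)⟩ : C) • EGA41.pMonomial x (e.erase i) := by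
        rw [Subalgebra.smul_def, smul_eq_mul, mul_comm]
      rw [h5]
      exact V.smul_mem _ (hmonV _ herase)
  have part1 : Algebra.adjoin C (Set.range x) = ⊤ ↔ EGA41.IsPGenerating p A x := by
    constructor
    · intro hadj
      let T : Subalgebra C B :=
        { carrier := {b | ∀ v ∈ V, b * v ∈ V}
          mul_mem' := fun {a b} ha hb v hv => by rw [mul_assoc]; exact ha _ (hb _ hv)
          one_mem' := fun v hv => by rwa [one_mul]
          add_mem' := fun {a b} ha hb v hv => by rw [add_mul]; exact V.add_mem (ha _ hv) (hb _ hv)
          zero_mem' := fun v hv => by rw [zero_mul]; exact V.zero_mem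
          algebraMap_mem' := fun c v hv => by
            rw [← Algebra.smul_def]; exact V.smul_mem c hv }
      have hxT : Set.range x ⊆ T := by
        rintro _ ⟨i, rfl⟩ v hv
        refine Submodule.span_induction ?_ ?_ ?_ ?_ hv
        · rintro _ ⟨⟨e, he⟩, rfl⟩; exact key i e he
        · rw [mul_zero]; exact V.zero_mem
        · intro a b _ _ ha hb; rw [mul_add]; exact V.add_mem ha hb
        · intro c a _ ha; rw [mul_smul_comm]; exact V.smul_mem c ha
      have hT : T = ⊤ := top_le_iff.1 (hadj ▸ Algebra.adjoin_le hxT)
      unfold EGA41.IsPGenerating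
      rw [eq_top_iff]
      intro b _
      have hb : b ∈ T := hT ▸ Algebra.mem_top
      have h1V : (1 : B) ∈ V := by
        have : EGA41.pMonomial x (0 : ι →₀ ℕ) = 1 := by simp [EGA41.pMonomial]
        rw [← this]; exact hmonV 0 (fun i => by simp [hp.pos])
      have := hb 1 h1V
      rwa [mul_one] at this
    · intro hgen
      unfold EGA41.IsPGenerating at hgen
      rw [eq_top_iff]
      intro b _
      have hb : b ∈ V := by rw [hV, hS, hgen]; trivial
      refine Submodule.span_induction ?_ ?_ ?_ ?_ hb
      · rintro _ ⟨⟨e, he⟩, rfl⟩
        unfold EGA41.pMonomial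
        exact Subalgebra.prod_mem _
          (fun i _ => Subalgebra.pow_mem _ (Algebra.subset_adjoin (Set.mem_range_self i)) _)
      · exact Subalgebra.zero_mem _
      · intro a b _ _ ha hb; exact Subalgebra.add_mem _ ha hb
      · intro c a _ ha; exact Subalgebra.smul_mem _ ha c
  have part2 : EGA41.IsPGenerating p A x →
      Submodule.span B (Set.range fun i => KaehlerDifferential.D A B (x i)) = ⊤ := by
    intro hgen
    set N := Submodule.span B (Set.range fun i => KaehlerDifferential.D A B (x i)) with hN
    let D := KaehlerDifferential.D A B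
    let K : Subalgebra A B :=
      { carrier := {b | D b = 0}
        mul_mem' := fun {a b} ha hb => by
          show D (a * b) = 0
          have ha' : D a = 0 := ha
          have hb' : D b = 0 := hb
          rw [Derivation.leibniz, ha', hb', smul_zero, smul_zero, add_zero]
        one_mem' := Derivation.map_one_eq_zero D
        add_mem' := fun {a b} ha hb => by
          show D (a + b) = 0
          have ha' : D a = 0 := ha
          have hb' : D b = 0 := hb
          rw [map_add, ha', hb', add_zero]
        zero_mem' := map_zero D
        algebraMap_mem' := fun a => Derivation.map_algebraMap D a }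
    have hCK : C ≤ K := by
      apply Algebra.adjoin_le
      rintro _ ⟨b, rfl⟩
      show D (b ^ p) = 0
      rw [Derivation.leibniz_pow, ← Nat.cast_smul_eq_nsmul B, CharP.cast_eq_zero, zero_smul]
    have hDC : ∀ c : C, D (c : B) = 0 := fun c => hCK c.2
    have hDmon : ∀ e : ι →₀ ℕ, D (EGA41.pMonomial x e) ∈ N := by
      intro e
      have : ∀ s : Finset ι, D (∏ i ∈ s, x i ^ e i) ∈ N := by
        intro s
        induction s using Finset.induction_on with
        | empty => simp
        | insert i s his ih =>
          rw [Finset.prod_insert his, Derivation.leibniz]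
          refine N.add_mem (N.smul_mem _ ih) (N.smul_mem _ ?_)
          rw [Derivation.leibniz_pow]
          exact nsmul_mem (N.smul_mem _ (Submodule.subset_span ⟨i, rfl⟩)) _
      exact this e.support
    have hDall : ∀ b : B, D b ∈ N := by
      intro b
      have hb : b ∈ V := by
        unfold EGA41.IsPGenerating at hgen
        rw [hV, hS, hgen]; trivial
      refine Submodule.span_induction ?_ ?_ ?_ ?_ hb
      · rintro _ ⟨⟨e, he⟩, rfl⟩; exact hDmon e
      · rw [map_zero]; exact N.zero_mem
      · intro a b _ _ ha hb; rw [map_add]; exact N.add_mem ha hb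
      · intro c a _ ha
        rw [Subalgebra.smul_def, smul_eq_mul, Derivation.leibniz, hDC c, smul_zero, add_zero]
        exact N.smul_mem _ ha
    rw [eq_top_iff, ← KaehlerDifferential.span_range_derivation A B, Submodule.span_le]
    rintro _ ⟨b, rfl⟩
    exact hDall b
  have part3 : Algebra.FiniteType C B →
      Submodule.span B (Set.range fun i => KaehlerDifferential.D A B (x i)) = ⊤ →
      EGA41.IsPGenerating p A x := by
    intro hft hspan
    rw [← part1]
    set B' : Subalgebra C B := Algebra.adjoin C (Set.range x) with hB'
    haveI : Algebra.FiniteType B' B := Algebra.FiniteType.of_restrictScalars_finiteType C B' B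
    have hpow : ∀ b : B, b ^ p ^ 1 ∈ Set.range (algebraMap B' B) := by
      intro b
      rw [pow_one]
      exact ⟨⟨b ^ p, Subalgebra.algebraMap_mem B' (⟨b ^ p, hpowC b⟩ : C)⟩, rfl⟩
    have hD0 : ∀ b : B, KaehlerDifferential.D B' B b = 0 := by
      intro b
      have hmap : KaehlerDifferential.map A B' B B = 0 := by
        apply LinearMap.ext_on hspan
        rintro _ ⟨i, rfl⟩
        rw [KaehlerDifferential.map_D, LinearMap.zero_apply]
        have : (algebraMap B B) (x i) = algebraMap B' B ⟨x i, Algebra.subset_adjoin ⟨i, rfl⟩⟩ := rfl
        rw [this, Derivation.map_algebraMap]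
      have := KaehlerDifferential.map_D A B' B B b
      rw [hmap, LinearMap.zero_apply] at this
      exact this.symm
    haveI : Subsingleton (Ω[B⁄B']) := by
      have htop := KaehlerDifferential.span_range_derivation B' B
      have hbot : Submodule.span B (Set.range (KaehlerDifferential.D B' B)) = ⊥ := by
        rw [Submodule.span_eq_bot]
        rintro _ ⟨b, rfl⟩
        exact hD0 b
      rw [hbot] at htop
      exact (Submodule.subsingleton_iff B).1 (subsingleton_of_bot_eq_top htop)
    have hsurj := Groth.Agent.S2485.result p (A := B') (B := B) 1 hpow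
    rw [eq_top_iff]
    intro b _
    obtain ⟨⟨b', hb'⟩, rfl⟩ := hsurj b
    exact hb'
  exact ⟨part1, part2, part3⟩

end Groth.Agent.S2486
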