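import Groth.Statements.S8870
import Groth.Agent.Lib.Helper13.QCohWeakAss

set_option autoImplicit false
universe u
open CategoryTheory CategoryTheory.Limits AlgebraicGeometry TopologicalSpace
open SDiv

namespace Groth.Agent.S8870

open Groth.Agent.Helper13.QCoh

/-- Let X be a scheme and 0 → F₁ → F₂ → F₃ → 0 a short exact sequence of quasi-coherent O_X-modules.
Then WeakAss(F₂) ⊆ WeakAss(F₁) ∪ WeakAss(F₃) and WeakAss(F₁) ⊆ WeakAss(F₂). -/
theorem result (X : Scheme.{u}) (S : ShortComplex X.Modules) (hS : S.ShortExact)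
    (h₁ : Coh.IsQCoh S.X₁) (h₂ : Coh.IsQCoh S.X₂) (h₃ : Coh.IsQCoh S.X₃) :
    (∀ x : ↥X, Curv2.IsWeakAssPoint S.X₂ x → Curv2.IsWeakAssPoint S.X₁ x ∨ Curv2.IsWeakAssPoint S.X₃ x) ∧
      (∀ x : ↥X, Curv2.IsWeakAssPoint S.X₁ x → Curv2.IsWeakAssPoint S.X₂ x) := by
  have hmono : Mono S.f := hS.mono_f
  have hinj : ∀ x : X, Function.Injective (stalkMap S.f x) := (mono_iff_stalk_injective S.f).1 hmono
  have hker : ∀ (x : X) (m₁ : S.X₁.presheaf.stalk x),
      LinearMap.ker (LinearMap.toSpanSingleton (X.presheaf.stalk x) (S.X₂.presheaf.stalk x)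
        (stalkMap S.f x m₁)) =
      LinearMap.ker (LinearMap.toSpanSingleton (X.presheaf.stalk x) (S.X₁.presheaf.stalk x) m₁) := by
    intro x m₁
    ext r
    simp only [LinearMap.mem_ker, LinearMap.toSpanSingleton_apply]
    rw [← stalkMap_smul]
    constructor
    · intro h
      exact hinj x (h.trans (map_zero (stalkMap S.f x).hom).symm)
    · intro h
      rw [h, map_zero]
  constructor
  · rintro x ⟨m, hm⟩
    by_cases hm' : stalkMap S.g x m = 0
    · left
      obtain ⟨m₁, rfl⟩ := stalk_exact_of_exact_of_mono S hS.exact x m hm'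
      exact ⟨m₁, by rw [← hker]; exact hm⟩
    · right
      refine ⟨stalkMap S.g x m, ?_⟩
      have hle : LinearMap.ker (LinearMap.toSpanSingleton (X.presheaf.stalk x) (S.X₂.presheaf.stalk x) m) ≤
          LinearMap.ker (LinearMap.toSpanSingleton (X.presheaf.stalk x) (S.X₃.presheaf.stalk x)
            (stalkMap S.g x m)) := by
        intro r hr
        simp only [LinearMap.mem_ker, LinearMap.toSpanSingleton_apply] at hr ⊢
        rw [← stalkMap_smul, hr, map_zero]
      have hne : LinearMap.ker (LinearMap.toSpanSingleton (X.presheaf.stalk x) (S.X₃.presheaf.stalk x)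
            (stalkMap S.g x m)) ≠ ⊤ := by
        intro h
        have : (1 : X.presheaf.stalk x) ∈ LinearMap.ker (LinearMap.toSpanSingleton (X.presheaf.stalk x)
            (S.X₃.presheaf.stalk x) (stalkMap S.g x m)) := h ▸ Submodule.mem_top
        simp only [LinearMap.mem_ker, LinearMap.toSpanSingleton_apply, one_smul] at this
        exact hm' this
      apply le_antisymm
      · exact (IsLocalRing.maximalIdeal.isMaximal _).isPrime.radical_le_iff.2
          (IsLocalRing.le_maximalIdeal hne)
      · rw [← hm]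
        exact Ideal.radical_mono hle
  · rintro x ⟨m₁, hm₁⟩
    exact ⟨stalkMap S.f x m₁, by rw [hker]; exact hm₁⟩

end Groth.Agent.S8870
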