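import Groth.Statements.S4960
import Groth.Agent.Lib.Helper16.Sch.FibMod6

set_option autoImplicit false
open CategoryTheory AlgebraicGeometry
universe u v w
open EGA43

namespace Groth.Agent.S4960

/-- Let f : X ⟶ Y be a morphism locally of finite presentation, F a finitely presented O_X-module which
is f-flat, and k a natural number. The set of points x of X such that the stalk at x of the
restriction of F to the fibre through x has codepth at most k over the local ring of that fibre at x
(the dimension of its support is at most its depth plus k) is open in X; that is, the codepth of the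
fibre stalk is an upper semicontinuous function of x. -/
theorem result {X Y : Scheme.{u}} (f : X ⟶ Y) [LocallyOfFinitePresentation f]
    (F : X.Modules) (hF : CohB1.IsFP F) (hflat : FlatMod.IsFlatOver f F) (k : ℕ) :
    IsOpen {x : X | Module.supportDim ((f.fiber (f.base x)).presheaf.stalk (f.asFiber x)) (((Scheme.Modules.pullback (f.fiberι (f.base x))).obj F).presheaf.stalk (f.asFiber x)) ≤
      ((LocCoh.depth ((f.fiber (f.base x)).presheaf.stalk (f.asFiber x)) (((Scheme.Modules.pullback (f.fiberι (f.base x))).obj F).presheaf.stalk (f.asFiber x)) : ℕ∞) : WithBot ℕ∞) + k} := by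
  have hfin := fun x => Groth.Agent.Helper16.FibMod.finite_stalk_of_isFP F hF x
  haveI : SheafOfModules.IsFinitePresentation (R := X.ringCatSheaf) F := hF
  have h := Groth.Agent.Helper16.FibMod.isOpen_cdim_le f F hF hflat k
  have hset : {x : X | Module.supportDim ((f.fiber (f.base x)).presheaf.stalk (f.asFiber x)) (((Scheme.Modules.pullback (f.fiberι (f.base x))).obj F).presheaf.stalk (f.asFiber x)) ≤
      ((LocCoh.depth ((f.fiber (f.base x)).presheaf.stalk (f.asFiber x)) (((Scheme.Modules.pullback (f.fiberι (f.base x))).obj F).presheaf.stalk (f.asFiber x)) : ℕ∞) : WithBot ℕ∞) + k} =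
      {x : X | Groth.Agent.Helper16.FibMod.cdim f F x ≤
        ((Groth.Agent.Helper16.FibMod.cdepth f F x : ℕ∞) : WithBot ℕ∞) + (k : WithBot ℕ∞)} := by
    ext x
    obtain ⟨h1, h2⟩ := Groth.Agent.Helper16.FibMod.bridge_at f F hfin x
    rw [Set.mem_ofPred_eq, Set.mem_ofPred_eq, h1, h2]
  rw [hset]
  exact h

end Groth.Agent.S4960
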