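import Groth.Statements.S2552
import Groth.Agent.S4960
import Groth.Agent.Lib.Lead.Depth5

set_option autoImplicit false
open CategoryTheory AlgebraicGeometry
universe u
open EGA43

namespace Groth.Agent.S2552

/-- Let f : X → Y be a morphism locally of finite presentation and F a finitely presented O_X-module
which is flat over Y. Then the set of points x ∈ X such that the stalk at x of the restriction of F
to the fibre X_{f(x)} is either zero or a Cohen–Macaulay module over the local ring of X_{f(x)} at x
is open in X. (A zero stalk counts as Cohen–Macaulay, as in the published statement, which is why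
the condition is stated as a disjunction; the published statement also has further parts, which are
not asserted here.) -/
theorem result {X Y : Scheme.{u}} (f : X ⟶ Y) [LocallyOfFinitePresentation f]
    (F : X.Modules) (hF : CohB1.IsFP F) (hflat : FlatMod.IsFlatOver f F) :
    IsOpen {x : X |
      Subsingleton (((Scheme.Modules.pullback (f.fiberι (f.base x))).obj F).presheaf.stalk (f.asFiber x)) ∨
      LocCoh.IsCohenMacaulayModule ((f.fiber (f.base x)).presheaf.stalk (f.asFiber x))
        (((Scheme.Modules.pullback (f.fiberι (f.base x))).obj F).presheaf.stalk (f.asFiber x))} := by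
  have hfin := fun x => Groth.Agent.Helper16.FibMod.finite_stalk_of_isFP F hF x
  haveI : SheafOfModules.IsFinitePresentation (R := X.ringCatSheaf) F := hF
  have h := Groth.Agent.S4960.result f F hF hflat 0
  have hset : {x : X |
      Subsingleton (((Scheme.Modules.pullback (f.fiberι (f.base x))).obj F).presheaf.stalk (f.asFiber x)) ∨
      LocCoh.IsCohenMacaulayModule ((f.fiber (f.base x)).presheaf.stalk (f.asFiber x))
        (((Scheme.Modules.pullback (f.fiberι (f.base x))).obj F).presheaf.stalk (f.asFiber x))} =
      {x : X | Module.supportDim ((f.fiber (f.base x)).presheaf.stalk (f.asFiber x)) (((Scheme.Modules.pullback (f.fiberι (f.base x))).obj F).presheaf.stalk (f.asFiber x)) ≤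
      ((LocCoh.depth ((f.fiber (f.base x)).presheaf.stalk (f.asFiber x)) (((Scheme.Modules.pullback (f.fiberι (f.base x))).obj F).presheaf.stalk (f.asFiber x)) : ℕ∞) : WithBot ℕ∞) + ((0 : ℕ) : WithBot ℕ∞)} := by
    ext x
    haveI : LocallyOfFiniteType f := inferInstance
    haveI := Groth.Agent.Helper16.FibMod.isNoetherianRing_fiber_stalk f (f.base x) (f.asFiber x)
    haveI := Groth.Agent.Helper16.FibMod.finite_stalk_pullback (f.fiberι (f.base x)) F hfin
      (f.asFiber x)
    rw [Set.mem_ofPred_eq, Set.mem_ofPred_eq, Nat.cast_zero, add_zero]
    constructor
    · rintro (hs | hcm)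
      · haveI := hs
        rw [Module.supportDim_eq_bot_of_subsingleton]
        exact bot_le
      · exact le_of_eq hcm
    · intro hle
      by_cases hs : Subsingleton (((Scheme.Modules.pullback (f.fiberι (f.base x))).obj F).presheaf.stalk (f.asFiber x))
      · exact Or.inl hs
      · right
        rw [not_subsingleton_iff_nontrivial] at hs
        haveI := hs
        exact le_antisymm hle (Groth.Agent.Lead.Depth.depth_le_supportDim _)
  rw [hset]
  exact h

end Groth.Agent.S2552
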