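import Groth.Statements.S2568
import Mathlib
import Groth.Agent.Lib.Helper14.ChevMain
import Groth.Agent.Lib.Helper14.EquidimAt
import Groth.Agent.Lib.Helper14.FibreGeneric
import Groth.Agent.Lib.Helper14.DimFormulaSch
import Groth.Agent.Lib.Helper4.UOpen5
-- import your own Groth.Agent.* helpers here

set_option autoImplicit false
open CategoryTheory AlgebraicGeometry
universe u
open EGA43

namespace Groth.Agent.S2568

/-- Chevalley's criterion in the case of irreducible source and base: let X and Y be irreducible
schemes, all local rings of Y geometrically unibranch, and f : X ⟶ Y a dominant morphism locally of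
finite type such that for every point x the local dimension at x of the fibre through x equals the
dimension of the generic fibre (the fibre over the image of the generic point of X). Then f is
universally open. -/
theorem result {X Y : Scheme.{u}} [IrreducibleSpace X] [IrreducibleSpace Y]
    (hY : ∀ y : Y, CAlg2.IsGeomUnibranch (Y.presheaf.stalk y)) (f : X ⟶ Y) [LocallyOfFiniteType f] [IsDominant f]
    (h : ∀ x : X, FlatMor.fibreDimAt f x = topologicalKrullDim ↥(f.fiber (f.base (genericPoint X)))) :
    UniversallyOpen f := by
  apply Groth.Agent.Helper4.UOpen.universallyOpen_of_isUnivOpenAt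
  intro x
  obtain ⟨z, n, hzx, hfz, hzmax, hn, hfd⟩ :=
    Groth.Agent.Helper14.EquidimAt.exists_maximal_trdeg_eq_fibreDimAt f x
  refine Groth.Agent.Helper14.ChevComp.isUnivOpenAt_of_specializes f x z hzx hfz ?_
  obtain ⟨E, hE⟩ := Groth.Agent.Helper14.ResFieldBridge.exists_nat_trdeg_residueField f (genericPoint X)
  have hdimgen := Groth.Agent.Helper14.DimFormulaSch.dim_genericFibre_eq f E hE
  have hnE : (n : WithBot ℕ∞) = (E : WithBot ℕ∞) := by
    rw [← hfd, h x, hdimgen]
  have hnE' : n = E := by
    have h1 : ((n : ℕ∞) : WithBot ℕ∞) = ((E : ℕ∞) : WithBot ℕ∞) := hnE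
    exact_mod_cast h1
  have hfξ : f.base (genericPoint X) = genericPoint Y :=
    Groth.Agent.Helper14.FibreGeneric.map_genericPoint f f.denseRange
  refine Groth.Agent.Helper14.ChevMain.isUnivOpenAt_of_trdeg_eq f z (genericPoint X)
    (genericPoint_specializes z) ?_ ?_ ?_ (hY _)
  · rw [hfξ]
    have : closure ({genericPoint Y} : Set Y) = Set.univ := (genericPoint_spec Y).def
    rw [this]
    exact Filter.univ_mem
  · intro x' hx'z hfx'
    exact hzmax x' hfx' hx'z
  · rw [hE, hn, hnE']

end Groth.Agent.S2568
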