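import Groth.Statements.S2593
import Mathlib
import Groth.Agent.Lib.Helper14.ChevEquidim
import Groth.Agent.Lib.Helper14.EquidimAt
import Groth.Agent.Lib.Helper4.UOpen5
-- import your own Groth.Agent.* helpers here

set_option autoImplicit false
open CategoryTheory AlgebraicGeometry
universe u
open EGA43

namespace Groth.Agent.S2593

/-- Chevalley's criterion for universal openness: let Y be a locally Noetherian scheme all of whose
local rings are geometrically unibranch and f : X ⟶ Y a morphism locally of finite type which is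
equidimensional at every point of X. Then f is universally open. (The published statement has an
arbitrary base; a locally Noetherian base is assumed here, and without it the statement fails, e.g.
for the inclusion of a non-open closed point of the spectrum of an infinite product of copies of
𝔽₂.) -/
theorem result {X Y : Scheme.{u}} [IsLocallyNoetherian Y]
    (hY : ∀ y : Y, CAlg2.IsGeomUnibranch (Y.presheaf.stalk y)) (f : X ⟶ Y) [LocallyOfFiniteType f]
    (h : ∀ x : X, EGA43.IsEquidimAt f x) : UniversallyOpen f := by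
  apply Groth.Agent.Helper4.UOpen.universallyOpen_of_isUnivOpenAt
  intro x
  obtain ⟨z, n, hzx, hfz, hzmax, hn, hfd⟩ :=
    Groth.Agent.Helper14.EquidimAt.exists_maximal_trdeg_eq_fibreDimAt f x
  refine Groth.Agent.Helper14.ChevComp.isUnivOpenAt_of_specializes f x z hzx hfz ?_
  obtain ⟨e, U, hxU, hdom, hfib⟩ := h x
  have hzU : z ∈ U := hzx.mem_open U.isOpen hxU
  let uz : ↥U := ⟨z, hzU⟩
  have key : EGA43.IsUnivOpenAt (U.ι ≫ f) uz := ?_
  · exact Groth.Agent.Helper14.ChevEquidim.isUnivOpenAt_of_comp_openImmersion U.ι f uz key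
  have hZ : irreducibleComponent uz ∈ irreducibleComponents (↥U : Type u) :=
    irreducibleComponent_mem_irreducibleComponents uz
  have hZcl : IsClosed (irreducibleComponent uz) := isClosed_of_mem_irreducibleComponents _ hZ
  haveI : QuasiSober (↥U : Type u) := inferInstanceAs (QuasiSober (U.toScheme : Type u))
  obtain ⟨ζ, hζ⟩ := QuasiSober.sober hZ.1 hZcl
  have hζuz : ζ ⤳ uz := by
    rw [specializes_iff_mem_closure, hζ.def]
    exact mem_irreducibleComponent
  obtain ⟨W, hW, hfxW, hWcl⟩ := hdom _ hZ
  have hcl : closure {(U.ι ≫ f).base ζ} = W := by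
    rw [← hWcl, ← hζ.def]
    have h1 := closure_image_closure (s := ({ζ} : Set (↥U : Type u))) (U.ι ≫ f).continuous
    rw [Set.image_singleton] at h1
    exact h1.symm
  have hnb : closure {(U.ι ≫ f).base ζ} ∈ nhds ((U.ι ≫ f).base uz) := by
    refine Groth.Agent.Helper14.ChevNB.closure_mem_nhds_of_unique_component ((U.ι ≫ f).base uz)
      ((U.ι ≫ f).base ζ) (hY _).1.1 ?_ (hζuz.map (U.ι ≫ f).continuous)
    rw [hcl]
    exact hW
  have hmaxuz : ∀ w : ↥U, w ⤳ uz → (U.ι ≫ f).base w = (U.ι ≫ f).base uz → w = uz := by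
    intro w hw hgw
    have h1 : U.ι.base w ⤳ z := hw.map U.ι.continuous
    have h2 : f.base (U.ι.base w) = f.base z := hgw
    have h3 := hzmax _ h2 h1
    exact U.ι.isOpenEmbedding.injective h3
  have hmaxζ : ∀ w : ↥U, w ⤳ ζ → (U.ι ≫ f).base w = (U.ι ≫ f).base ζ → w = ζ := by
    intro w hw _
    have h1 : irreducibleComponent uz ≤ closure {w} := by
      rw [← hζ.def]
      exact closure_minimal (Set.singleton_subset_iff.mpr (specializes_iff_mem_closure.mp hw))
        isClosed_closure
    have h2 : closure {w} ≤ irreducibleComponent uz := hZ.2 isIrreducible_singleton.closure h1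
    have h3 : ζ ⤳ w := by
      rw [specializes_iff_mem_closure, hζ.def]
      exact h2 (subset_closure rfl)
    haveI : T0Space (↥U : Type u) := inferInstanceAs (T0Space (U.toScheme : Type u))
    exact (hw.antisymm h3).eq
  have htrζ := Groth.Agent.Helper14.ChevEquidim.trdeg_eq_of_equidim_fibre (U.ι ≫ f) ζ hmaxζ e
    (hfib ζ)
  have htruz := Groth.Agent.Helper14.ChevEquidim.trdeg_eq_of_equidim_fibre (U.ι ≫ f) uz hmaxuz e
    (hfib uz)
  exact Groth.Agent.Helper14.ChevMain.isUnivOpenAt_of_trdeg_eq (U.ι ≫ f) uz ζ hζuz hnb hmaxuz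
    (htrζ.trans htruz.symm) (hY _)

end Groth.Agent.S2593
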