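import Groth.Statements.S2594
import Mathlib
import Groth.Agent.Lib.Helper14.FibreDimBC
import Groth.Agent.Lib.Helper14.EquidimAtMk
-- import your own Groth.Agent.* helpers here

set_option autoImplicit false
open CategoryTheory AlgebraicGeometry
universe u
open EGA43

namespace Groth.Agent.S2594

open CategoryTheory.Limits in
/-- Let f : X ⟶ Y be locally of finite type and equidimensional at a point x, and g : Y' ⟶ Y a flat
morphism with Y' locally Noetherian (the source states this for arbitrary Y', but its proof reduces
to the case where every irreducible component passes through the point, which needs the irreducible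
components to be locally finite). Then the base change X ×_Y Y' ⟶ Y' is equidimensional at every
point lying over x. -/
theorem result {X Y Y' : Scheme.{u}} (f : X ⟶ Y) [LocallyOfFiniteType f] (g : Y' ⟶ Y) [Flat g] [IsLocallyNoetherian Y']
    (x : X) (h : EGA43.IsEquidimAt f x) (x' : ↥(pullback f g)) (hx' : (pullback.fst f g).base x' = x) :
    EGA43.IsEquidimAt (pullback.snd f g) x' := by
  subst hx'
  obtain ⟨e, U, hxU, hA, hB, -⟩ := Groth.Agent.Helper14.EquidimAt.spec f h
  have hsq : IsPullback (pullback.fst f g) (pullback.snd f g) f g := IsPullback.of_hasPullback f g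
  haveI : LocallyOfFiniteType (pullback.snd f g) := MorphismProperty.pullback_snd _ _ inferInstance
  haveI : Flat (pullback.fst f g) := MorphismProperty.pullback_fst _ _ inferInstance
  have hgen : GeneralizingMap (pullback.fst f g) := Flat.generalizingMap _
  obtain ⟨V', hyV', hV'⟩ :=
    Groth.Agent.Helper14.EquidimAt.exists_nhd_maximal_specializes (X := Y') (pullback.snd f g x')
  refine Groth.Agent.Helper14.EquidimAt.of_spec (pullback.snd f g) x' e
    ((pullback.fst f g) ⁻¹ᵁ U ⊓ (pullback.snd f g) ⁻¹ᵁ V') ⟨hxU, hyV'⟩ ?_ ?_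
  · rintro ξ' ⟨hξ'U, hξ'V⟩ hξ'max
    have hξmax : ∀ w : X, w ⤳ pullback.fst f g ξ' → w = pullback.fst f g ξ' := by
      intro w hw
      obtain ⟨w', hw', hw'w⟩ := hgen hw
      rw [← hw'w, hξ'max w' hw']
    obtain ⟨hηmax, -⟩ := hA _ hξ'U hξmax
    have hw : ∀ w' : ↥(pullback f g), f (pullback.fst f g w') = g (pullback.snd f g w') := by
      intro w'
      rw [← Scheme.Hom.comp_apply, pullback.condition, Scheme.Hom.comp_apply]
    have hη'max : ∀ w' : Y', w' ⤳ pullback.snd f g ξ' → w' = pullback.snd f g ξ' := by
      intro w' hw'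
      have h1 : g w' ⤳ g (pullback.snd f g ξ') := hw'.map g.continuous
      rw [← hw] at h1
      have h2 := hηmax _ h1
      rw [hw] at h2
      obtain ⟨v', hv', hv'w', -⟩ :=
        Groth.Agent.Helper14.FibreBC.exists_generization_lift hsq.flip ξ' w' hw' h2
      rw [← hv'w', hξ'max v' hv']
    exact ⟨hη'max, hV' _ hξ'V hη'max⟩
  · rintro z' ⟨hz'U, -⟩ hz'max
    have hmax' : ∀ w' : ↥(pullback f g), pullback.snd f g w' = pullback.snd f g z' → w' ⤳ z' →
        w' = z' := hz'max
    have h1 := Groth.Agent.Helper14.FibreDimBC.trdeg_eq_of_maximal hsq z' hmax'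
    have h2 := Groth.Agent.Helper14.FibreDimBC.maximal_map hsq z' hmax'
    rw [h1]
    exact hB _ hz'U h2

end Groth.Agent.S2594
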