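import Groth.Statements.S9438
import Mathlib
import Groth.Agent.Lib.Lead.Flat3

set_option autoImplicit false
universe u
open CAlg

namespace Groth.Agent.S9438

/-- The condition (R_k) descends along faithfully flat ring maps: if S is faithfully flat over R,
Noetherian and (R_k), then R is Noetherian and (R_k). -/
theorem result (k : ℕ) (R : Type u) [CommRing R] (S : Type u) [CommRing S]
    [Algebra R S] [Module.FaithfullyFlat R S] [IsNoetherianRing S] (hS : LocCoh.HasRk k S) :
    IsNoetherianRing R ∧ LocCoh.HasRk k R := by
  haveI : IsNoetherianRing R := Groth.Agent.Lead.Hom.isNoetherianRing_of_faithfullyFlat R S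
  refine ⟨inferInstance, ?_⟩
  intro p hp hpk
  obtain ⟨q, hq, hqp⟩ := Groth.Agent.Lead.Depth.exists_minimalPrimes_comap_eq R S p
  haveI : q.IsPrime := hq.1.1
  have hover : p = q.comap (algebraMap R S) := hqp.symm
  haveI : q.LiesOver p := ⟨hover⟩
  -- `ht q = ht p`
  have hht := Ideal.height_eq_height_add_of_liesOver_of_hasGoingDown p q
  have hmem : q.map (Ideal.Quotient.mk (p.map (algebraMap R S))) ∈
      minimalPrimes (S ⧸ p.map (algebraMap R S)) := by
    have h2 := Ideal.minimalPrimes_map_of_surjective
      (f := Ideal.Quotient.mk (p.map (algebraMap R S)))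
      Ideal.Quotient.mk_surjective (p.map (algebraMap R S))
    rw [Ideal.mk_ker, sup_idem, Ideal.map_quotient_self] at h2
    show _ ∈ (⊥ : Ideal (S ⧸ p.map (algebraMap R S))).minimalPrimes
    rw [h2]
    exact ⟨_, hq, rfl⟩
  haveI := hmem.1.1
  have h0 : (q.map (Ideal.Quotient.mk (p.map (algebraMap R S)))).height = 0 :=
    Ideal.height_eq_zero_iff.mpr hmem
  rw [h0, add_zero] at hht
  haveI : IsRegularLocalRing (Localization.AtPrime q) := hS q (by rw [hht]; exact hpk)
  have hflat : (algebraMap R S).Flat := RingHom.flat_algebraMap_iff.mpr inferInstance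
  have h1 := hflat.localRingHom q p hover
  haveI := Localization.isLocalHom_localRingHom p q (algebraMap R S) hover
  exact Groth.Agent.Lead.Hom.isRegularLocalRing_of_flat_ringHom (Localization.AtPrime p)
    (Localization.AtPrime q) (Localization.localRingHom p q (algebraMap R S) hover) h1

end Groth.Agent.S9438
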