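import Groth.Statements.S9773
import Mathlib
import Groth.Agent.Lib.Helper28.RegImmIso

set_option autoImplicit false
universe u
open FlatMor

namespace Groth.Agent.S9773

open AlgebraicGeometry CategoryTheory Limits in
/-- A regular immersion of schemes, and likewise a Koszul-regular immersion, is a local complete
intersection morphism (Koszul at every point). -/
theorem result {Z X : Scheme.{u}} (i : Z ⟶ X) (k : RegImm.Kind)
    (hk : k = RegImm.Kind.regular ∨ k = RegImm.Kind.koszul) (hi : RegImm.IsRegularImmersion k i) (z : Z) :
    Synt.IsKoszulAt i z := by
  rcases hk with rfl | rfl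
  · exact Groth.Agent.Helper28.RegImmIso.isKoszulAt_of_koszul i
      (Groth.Agent.Helper28.RegImmIso.koszul_of_regular_immersion i hi) z
  · exact Groth.Agent.Helper28.RegImmIso.isKoszulAt_of_koszul i hi z


end Groth.Agent.S9773
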