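import Groth.Statements.S2911
-- import your own Groth.Agent.* helpers here
import Groth.Agent.Lib.Helper3.EtQuot
import Groth.Agent.S2909

set_option autoImplicit false
open CategoryTheory CategoryTheory.Limits AlgebraicGeometry
universe u
open SGA1

namespace Groth.Agent.S2911

/-- With the existence of the quotient taken as a hypothesis: Let Y be locally Noetherian, f : X ⟶ Y
etale, separated and quasi-compact, G a finite group acting on X by Y-automorphisms, p : X ⟶ X' a
quotient of X by G and q : X' ⟶ Y the induced morphism. Then p and q are etale, and if f is finite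
then q is finite. -/
theorem result {X X' Y : Scheme.{u}} {G : Type u} [Group G] [Finite G] (ρ : G →* Aut X)
    [IsLocallyNoetherian Y] (f : X ⟶ Y) [Etale f] [IsSeparated f] [QuasiCompact f] (hρ : ∀ g : G, (ρ g).hom ≫ f = f)
    (p : X ⟶ X') (hp : SGA1.IsQuot ρ p) (q : X' ⟶ Y) (hq : p ≫ q = f) :
    Etale p ∧ Etale q ∧ (IsFinite f → IsFinite q) := by
  subst hq
  haveI hfet : Etale (p ≫ q) := inferInstance
  obtain ⟨hfflat, -, hflfp⟩ := Etale.iff_flat_and_formallyUnramified.mp hfet
  haveI : LocallyOfFiniteType (p ≫ q) := inferInstance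
  obtain ⟨haff, -, hfin, hft⟩ := Groth.Agent.S2909.result ρ p hp (p ≫ q) q rfl hρ
  haveI : IsFinite p := hfin inferInstance
  obtain ⟨hqlft, hqqc⟩ := hft inferInstance inferInstance inferInstance
  haveI : FormallyUnramified p := FormallyUnramified.of_comp p q
  obtain ⟨hpflat, hplfp⟩ := Groth.Agent.Helper3.EtQuot.flat_lfp ρ p hp
  haveI : Etale p := Etale.of_formallyUnramified_of_flat p
  haveI : Surjective p := Groth.Agent.Helper21.GQuot.surjective ρ p hp
  haveI : Flat q := Groth.Agent.Helper18.GrpFppf.flat_of_comp_of_surjective p q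
  haveI : LocallyOfFinitePresentation q := inferInstance
  haveI : FormallyUnramified q := Groth.Agent.Helper3.EtQuot.formallyUnramified_of_comp ρ p hp q
  refine ⟨inferInstance, Etale.of_formallyUnramified_of_flat q, fun hf => ?_⟩
  haveI := hf
  haveI : IsAffineHom q := haff.mp inferInstance
  haveI : UniversallyClosed q := UniversallyClosed.of_comp_surjective p q
  rw [IsFinite.iff_isIntegralHom_and_locallyOfFiniteType]
  exact ⟨IsIntegralHom.iff_universallyClosed_and_isAffineHom.mpr ⟨inferInstance, inferInstance⟩,
    hqlft⟩

end Groth.Agent.S2911
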