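import Groth.Statements.S2913
-- import your own Groth.Agent.* helpers here

set_option autoImplicit false
open CategoryTheory CategoryTheory.Limits AlgebraicGeometry Opposite
universe u
open SGA1

namespace Groth.Agent.S2913

/-- Let g : S' ⟶ S be a surjective morphism of schemes such that for every open U of S the map O_S(U) →
O_{S'}(g⁻¹U) is injective. Then g is an epimorphism in the category of schemes. -/
theorem result {S' S : Scheme.{u}} (g : S' ⟶ S) [Surjective g]
    (hinj : ∀ U : S.Opens, Function.Injective (g.app U).hom) : Epi g := by
  apply CategoryTheory.Functor.epi_of_epi_map (Scheme.forgetToLocallyRingedSpace)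
  apply CategoryTheory.Functor.epi_of_epi_map (LocallyRingedSpace.forgetToSheafedSpace)
  constructor
  intro Z ⟨a, ac⟩ ⟨b, bc⟩ e
  apply_fun InducedCategory.Hom.hom at e
  obtain rfl : a = b := ConcreteCategory.hom_ext _ _ fun y ↦ by
    obtain ⟨x, rfl⟩ := ‹Surjective g›.surj y
    exact congr(($e).base.hom x)
  congr
  ext U s
  apply hinj ((TopologicalSpace.Opens.map a).obj U)
  have h00 := congr_arg_heq (fun x => PresheafedSpace.Hom.c x) e
  have h0 := eq_of_heq h00
  have h1 := congr(($h0).app (op U))
  rw [SheafedSpace.comp_hom_c_app, SheafedSpace.comp_hom_c_app] at h1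
  exact congr($(h1).hom s)

end Groth.Agent.S2913
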