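import Groth.Statements.S2914
import Groth.Agent.Lib.Helper21.DescMor

set_option autoImplicit false
open CategoryTheory CategoryTheory.Limits AlgebraicGeometry Opposite
universe u
open SGA1

namespace Groth.Agent.S2914

/-- Let g : S' ⟶ S be a morphism of schemes whose underlying map is a quotient map, and such that for
every open U of S the sequence O_S(U) → O_{S'}(g⁻¹U) ⇉ O_{S''}(h⁻¹U) is an equalizer, where S'' = S'
×_S S' with structure map h and the two arrows are restriction along the projections. Then g is an
effective epimorphism in the category of schemes. -/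
theorem result {S' S : Scheme.{u}} (g : S' ⟶ S) (hq : Topology.IsQuotientMap g.base)
    (hinj : ∀ U : S.Opens, Function.Injective (g.app U).hom)
    (heq : ∀ (U : S.Opens) (s' : Γ(S', g ⁻¹ᵁ U)), (SGA1.overlapFstApp g U).hom s' = (SGA1.overlapSndApp g U).hom s' →
      s' ∈ Set.range (g.app U).hom) :
    EffectiveEpi g := by
  haveI : Epi g := Groth.Agent.Helper21.DescMor.epi_of_surjective_of_injective g hq.surjective hinj
  haveI : IsRegularEpi g := by
    refine IsRegularEpi.of_epi_of_exists (fun Z e he => ?_)
    refine Groth.Agent.Helper21.DescMor.exists_desc g e hq hinj ?_ ?_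
    · intro x x' hxx'
      obtain ⟨z, hz1, hz2⟩ := Scheme.Pullback.exists_preimage_pullback (f := g) (g := g) x x' hxx'
      have h1 := congrArg (fun m => m.base z) he
      simp only [Scheme.Hom.comp_base, TopCat.comp_app] at h1
      rw [← hz1, ← hz2]
      exact h1
    · intro W U e' s
      apply heq U
      have h1 : e.appLE W (g ⁻¹ᵁ U) e'.le ≫ SGA1.overlapFstApp g U =
          e.appLE W (g ⁻¹ᵁ U) e'.le ≫ SGA1.overlapSndApp g U := by
        unfold SGA1.overlapFstApp SGA1.overlapSndApp
        rw [Scheme.Hom.app_eq_appLE, Scheme.Hom.appLE_comp_appLE, Scheme.Hom.appLE_comp_appLE]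
        exact Groth.Agent.Helper21.DescMor.appLE_congr_hom he _ _ _
      exact congrArg (fun m => m.hom s) h1
  infer_instance

end Groth.Agent.S2914
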