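import Groth.Statements.S2916
import Groth.Agent.Lib.Helper21.SubmConn2

set_option autoImplicit false
open CategoryTheory CategoryTheory.Limits AlgebraicGeometry Opposite
universe u
open SGA1

namespace Groth.Agent.S2916

/-- Let g : S' ⟶ S be universally submersive with geometrically connected fibres (the base change of S'
to any algebraically closed field valued point of S is connected). Then S' is connected whenever S
is, and for schemes X, Y etale over S every S'-morphism between their base changes comes from
exactly one S-morphism X ⟶ Y. -/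
theorem result {S' S : Scheme.{u}} (g : S' ⟶ S)
    (hg : SGA1.UnivSubmersive g)
    (hconn : ∀ (K : Type u) [Field K] [IsAlgClosed K] (ξ : Spec (CommRingCat.of K) ⟶ S), ConnectedSpace ↑(pullback g ξ)) :
    (ConnectedSpace S → ConnectedSpace S') ∧
    ∀ (X Y : Over S) [Etale X.hom] [Etale Y.hom], Function.Bijective ((Over.pullback g).map : (X ⟶ Y) → _) := by
  refine ⟨fun h => Groth.Agent.Helper21.SubmConn.connected g hconn hg, ?_⟩
  intro X Y _ _
  have hq : Topology.IsQuotientMap (pullback.fst X.hom g).base :=
    hg _ _ _ (IsPullback.of_hasPullback X.hom g)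
  have hπsurj := hq.surjective
  have hmapfst : ∀ u : X ⟶ Y, ((Over.pullback g).map u).left ≫ pullback.fst Y.hom g =
      pullback.fst X.hom g ≫ u.left := fun u => pullback.lift_fst _ _ _
  have hmapsnd : ∀ u : X ⟶ Y, ((Over.pullback g).map u).left ≫ pullback.snd Y.hom g =
      pullback.snd X.hom g := fun u => pullback.lift_snd _ _ _
  constructor
  · intro u v huv
    have h1 : pullback.fst X.hom g ≫ u.left = pullback.fst X.hom g ≫ v.left := by
      rw [← hmapfst u, ← hmapfst v, huv]
    ext1
    exact Groth.Agent.Helper21.DescEt.eq_of_surjective_comp (pullback.fst X.hom g) hπsurj Y.hom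
      (by rw [Over.w u, Over.w v]) h1
  · intro f'
    have hf' : f'.left ≫ pullback.snd Y.hom g = pullback.snd X.hom g := Over.w f'
    have hc1 : pullback.fst X.hom (pullback.fst g g ≫ g) ≫ X.hom =
        (pullback.snd X.hom (pullback.fst g g ≫ g) ≫ pullback.fst g g) ≫ g := by
      rw [Category.assoc]; exact pullback.condition
    have hc2 : pullback.fst X.hom (pullback.fst g g ≫ g) ≫ X.hom =
        (pullback.snd X.hom (pullback.fst g g ≫ g) ≫ pullback.snd g g) ≫ g := by
      rw [Category.assoc, ← pullback.condition (f := g) (g := g)]; exact pullback.condition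
    have hcoc := Groth.Agent.Helper21.SubmConn.cocycle g hconn X.hom Y.hom f'.left hf'
      (pullback.lift _ _ hc1) (pullback.lift _ _ hc2) (pullback.lift_fst _ _ _)
      (pullback.lift_snd _ _ _) (pullback.lift_fst _ _ _) (pullback.lift_snd _ _ _)
    obtain ⟨u, ⟨huq, huF⟩, -⟩ := Groth.Agent.Helper21.DescEt.desc_etale g hg X.hom Y.hom f'.left hf'
      (pullback.lift _ _ hc1) (pullback.lift _ _ hc2) (pullback.lift_fst _ _ _)
      (pullback.lift_snd _ _ _) (pullback.lift_fst _ _ _) (pullback.lift_snd _ _ _) hcoc
    refine ⟨Over.homMk u huq, ?_⟩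
    ext1
    apply pullback.hom_ext
    · rw [hmapfst]
      exact huF.symm
    · rw [hmapsnd]
      exact hf'.symm

end Groth.Agent.S2916
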