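import Groth.Statements.S2920
-- import your own Groth.Agent.* helpers here
import Groth.Agent.Lib.Helper3.AG2

set_option autoImplicit false
open CategoryTheory CategoryTheory.Limits AlgebraicGeometry
universe u
open SGA1

namespace Groth.Agent.S2920

/-- (i) ⇒ (iii): Let a finite group G act on X, p : X ⟶ Y a quotient with Y locally Noetherian and p
finite, G acting freely on geometric points. Then the morphism from the disjoint union of copies of
X indexed by G to X ×_Y X given on the g-th copy by (id, g) is an isomorphism, and p is flat and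
surjective. -/
theorem result {X Y : Scheme.{u}} {G : Type u} [Group G] [Finite G] (ρ : G →* Aut X)
    (p : X ⟶ Y) (hp : SGA1.IsQuot ρ p) [IsLocallyNoetherian Y] [IsFinite p] (hfree : (∀ (K : Type u) [Field K] [IsAlgClosed K] (ξ : Spec (CommRingCat.of K) ⟶ X) (g : G), ξ ≫ (ρ g).hom = ξ → g = 1)) :
    IsIso (Sigma.desc (fun g : G => pullback.lift (𝟙 X) (ρ g).hom ((Category.id_comp p).trans (hp.inv g).symm)) :
      (∐ fun _ : G => X) ⟶ pullback p p) ∧ Flat p ∧ Surjective p := by
    classical
  haveI : Mono (Groth.Agent.Helper3.AG1.act ρ).j := Groth.Agent.Helper3.AG2.mono_j_of_free ρ hfree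
  have hb := Groth.Agent.Helper3.AG2.hb_of_isQuot ρ p hp
  obtain ⟨hpb, -, hflat, -⟩ := Groth.Agent.Helper3.GQ8.of_isColimit hb p
    (Groth.Agent.Helper3.AG2.w_of_inv ρ p hp.inv) (Groth.Agent.Helper3.AG2.isColimit_of_isQuot ρ p hp)
  refine ⟨?_, hflat, Groth.Agent.Helper21.GQuot.surjective ρ p hp⟩
  have hpb' : IsPullback (Groth.Agent.Helper3.AG1.s (X := X) (G := G)) (Groth.Agent.Helper3.AG1.t ρ) p p :=
    hpb.flip
  have e : (Sigma.desc (fun g : G => pullback.lift (𝟙 X) (ρ g).hom
      ((Category.id_comp p).trans (hp.inv g).symm)) : (∐ fun _ : G => X) ⟶ pullback p p) =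
      hpb'.isoPullback.hom := by
    apply Sigma.hom_ext
    intro g
    apply pullback.hom_ext
    · rw [Sigma.ι_desc, pullback.lift_fst, Category.assoc, hpb'.isoPullback_hom_fst]
      exact (Groth.Agent.Helper3.AG1.ι_s g).symm
    · rw [Sigma.ι_desc, pullback.lift_snd, Category.assoc, hpb'.isoPullback_hom_snd]
      exact (Groth.Agent.Helper3.AG1.ι_t ρ g).symm
  rw [e]
  infer_instance

end Groth.Agent.S2920
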