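import Groth.Statements.S2926
import Groth.Agent.Lib.Helper26.SerreLF

set_option autoImplicit false
universe u
open CategoryTheory AlgebraicGeometry
attribute [local instance] HasDerivedCategory.standard
open ProjDual

namespace Groth.Agent.S2926

/-- Serre duality on projective space, for a finite locally free module: let k be a field, X = P^r_k and
F a finite locally free O_X-module; assume the internal Hom functor Hom_{O_X}(F, −) exists as the
right adjoint of − ⊗ F (an instance binder). For every i ≤ r the k-dual of H^i(X, F) is k-linearly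
isomorphic to H^{r−i}(X, Hom_{O_X}(F, O_X(−r−1))). (The published statement is for coherent F, with
Ext^{r−i}(F, O_X(−r−1)) on the right; stated here in the locally free case.) -/
theorem result (k : Type u) [Field k] (r : ℕ) (F : (CohB1.ProjSpace r k).Modules) (hF : FlatMod.IsFinLocFree F) [DCoh.HasSheafHom F] (i : ℕ) (hi : i ≤ r) : Nonempty (Module.Dual k (Coh.HH (CohB1.ProjSpace r k) F i) ≃ₗ[k] Coh.HH (CohB1.ProjSpace r k) ((DCoh.sheafHom F).obj (Twist.twistProjSpace r k (-((r : ℤ) + 1)))) (r - i)) := by
  classical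
  obtain ⟨t, ht⟩ := Groth.Agent.Helper26.PnCoh.duality_coh k r
  have hFc := Groth.Agent.Helper9.ResVan.isCoh_of_isFinLocFree F hF
  -- the chosen internal Hom is the concrete sheaf Hom
  let e : (DCoh.sheafHom F).obj (Twist.twistProjSpace r k (-((r : ℤ) + 1))) ≅
      RefHull.homSh F (Twist.twistProjSpace r k (-((r : ℤ) + 1))) :=
    (Groth.Agent.Helper29.SHomA.dSheafHomIso F).app _
  have h1 := Groth.Agent.Helper26.HomVan.finrank_HH_of_iso k e (r - i)
  have h2 := Groth.Agent.Helper26.SerreLF.main k r t ht (r - i) (Nat.sub_le r i) F hF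
  have h3 : r - (r - i) = i := by omega
  have h4 := Groth.Agent.Helper26.SerreLF.finrank_cast k r F _ _ h3
  have : Module.Finite k (Coh.HH (CohB1.ProjSpace r k) F i) :=
    Groth.Agent.Helper26.SerreLF.finite_HH k r F hFc i
  have : Module.Finite k (Coh.HH (CohB1.ProjSpace r k)
      (RefHull.homSh F (Twist.twistProjSpace r k (-((r : ℤ) + 1)))) (r - i)) :=
    Groth.Agent.Helper26.SerreLF.finite_HH k r _ (Groth.Agent.Helper26.SerreLF.isCoh_hom k r F hF) _
  have : Module.Finite k (Coh.HH (CohB1.ProjSpace r k)
      ((DCoh.sheafHom F).obj (Twist.twistProjSpace r k (-((r : ℤ) + 1)))) (r - i)) :=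
    Module.Finite.equiv (Groth.Agent.Helper26.HomVan.HHlinEquiv k e (r - i)).symm
  have h5 : Module.finrank k (Module.Dual k (Coh.HH (CohB1.ProjSpace r k) F i)) =
      Module.finrank k (Coh.HH (CohB1.ProjSpace r k)
        ((DCoh.sheafHom F).obj (Twist.twistProjSpace r k (-((r : ℤ) + 1)))) (r - i)) := by
    rw [Subspace.dual_finrank_eq, h1, h2, h4]
  exact ⟨LinearEquiv.ofFinrankEq _ _ h5⟩

end Groth.Agent.S2926
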