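import Groth.Statements.S2933
import Mathlib
import Groth.Agent.S4721

set_option autoImplicit false
universe u
open LocCoh

namespace Groth.Agent.S2933

/-- Let A be a Noetherian ring with connected spectrum and d ≥ 1 an integer such that every prime p with
dim A_p ≥ d has depth A_p ≥ 2. Then for any two minimal primes p', p'' of A there is a finite
sequence of minimal primes starting at p' and ending at p'' such that any two consecutive members
are both contained in some prime of height at most d − 1 (Spec A is connected in codimension d − 1). -/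
theorem result (A : Type u) [CommRing A] [IsNoetherianRing A] [ConnectedSpace (PrimeSpectrum A)] (d : ℕ) (hd : 1 ≤ d) (h : ∀ p : PrimeSpectrum A, (d : ℕ∞) ≤ p.asIdeal.height → (2 : ℕ∞) ≤ LocCoh.depth (Localization.AtPrime p.asIdeal) (Localization.AtPrime p.asIdeal)) (p' p'' : PrimeSpectrum A) (hp' : p'.asIdeal ∈ minimalPrimes A) (hp'' : p''.asIdeal ∈ minimalPrimes A) : ∃ l : List (PrimeSpectrum A), l.head? = some p' ∧ l.getLast? = some p'' ∧ (∀ p ∈ l, p.asIdeal ∈ minimalPrimes A) ∧ List.IsChain (fun p q => ∃ r : PrimeSpectrum A, p ≤ r ∧ q ≤ r ∧ r.asIdeal.height ≤ (d - 1 : ℕ)) l := by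
  classical
  by_cases hne : p' = p''
  · subst hne
    exact ⟨[p'], rfl, rfl, by simpa using hp', List.isChain_singleton _⟩
  · have hne' : p'.asIdeal ≠ p''.asIdeal := fun h => hne (PrimeSpectrum.ext h)
    obtain ⟨n, c, hc0, hcl, hcmin, hstep⟩ := Groth.Agent.S4721.result A d
      (fun p _ hp => h ⟨p, inferInstance⟩ hp) p'.asIdeal p''.asIdeal hp' hp'' hne'
    let f : Fin (n + 1) → PrimeSpectrum A := fun i => ⟨c i, (hcmin i).1.1⟩
    refine ⟨List.ofFn f, ?_, ?_, ?_, ?_⟩
    · rw [List.head?_eq_some_head (by simp), List.head_ofFn]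
      congr 1
      exact PrimeSpectrum.ext hc0
    · rw [List.getLast?_eq_some_getLast (by simp), List.getLast_ofFn]
      congr 1
      apply PrimeSpectrum.ext
      change c _ = _
      rw [← hcl]
      congr 1
    · intro p hp
      rw [List.mem_ofFn] at hp
      obtain ⟨i, rfl⟩ := hp
      exact hcmin i
    · rw [List.isChain_ofFn]
      intro i hi
      obtain ⟨q, hq, h1, h2, h3⟩ := hstep ⟨i, by omega⟩
      refine ⟨⟨q, hq⟩, h1, h2, ?_⟩
      change q.height ≤ _
      have hd' : ((d - 1 : ℕ) : ℕ∞) + 1 = (d : ℕ∞) := by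
        have : d - 1 + 1 = d := by omega
        exact_mod_cast this
      rw [← hd'] at h3
      exact (ENat.add_le_add_iff_right (by simp)).mp h3

end Groth.Agent.S2933
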