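import Groth.Statements.S2936
import Groth.Agent.Lib.Helper20.MdC

set_option autoImplicit false
universe u
open LocCoh

namespace Groth.Agent.S2936


theorem result (A : Type u) [CommRing A] [IsLocalRing A] [IsNoetherianRing A] [IsAdicComplete (IsLocalRing.maximalIdeal A) A] (E : Type u) [AddCommGroup E] [Module A E] (f : IsLocalRing.ResidueField A →ₗ[A] E) (hf : InjHull.IsInjectiveHull f) (M : Type u) [AddCommGroup M] [Module A M] [Module.Finite A M] [Nontrivial M] (n : ℕ) (hn : Module.supportDim A M = n) : (∀ i : ℕ, Module.Finite A (LocCoh.H (IsLocalRing.maximalIdeal A) i M →ₗ[A] E) ∧ Module.supportDim A (LocCoh.H (IsLocalRing.maximalIdeal A) i M →ₗ[A] E) ≤ (i : WithBot ℕ∞)) ∧ Module.supportDim A (LocCoh.H (IsLocalRing.maximalIdeal A) n M →ₗ[A] E) = n ∧ associatedPrimes A (LocCoh.H (IsLocalRing.maximalIdeal A) n M →ₗ[A] E) = {p | p ∈ associatedPrimes A M ∧ ringKrullDim (A ⧸ p) = n} := by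
  have h1 := Groth.Agent.Helper20.Md.supportDim_K_eq hf n M hn
  have h2 := Groth.Agent.Helper20.Md.associatedPrimes_K_eq hf n M hn
  refine ⟨fun i => ⟨Groth.Agent.Helper20.Md.finite_K hf i M,
    Groth.Agent.Helper20.Md.supportDim_K_le hf i M⟩, h1, h2⟩

end Groth.Agent.S2936
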