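import Groth.Statements.S2946
import Groth.Agent.Lib.Helper23.LefConn3

set_option autoImplicit false
universe u
open CategoryTheory CategoryTheory.Limits AlgebraicGeometry
open Lef

namespace Groth.Agent.S2946

/-- Let X be a locally Noetherian scheme and 𝓘 a quasi-coherent ideal sheaf with Y = V(𝓘), and suppose
Lef(X, Y) holds (this prelude's Lef.LefCond). Then for every open U of X containing Y, Y is
connected if and only if U is connected. -/
theorem result (X : Scheme.{u}) [IsLocallyNoetherian X] (𝓘 : X.IdealSheafData) (h : Lef.LefCond X 𝓘) (U : X.Opens) (hU : (𝓘.support : Set X) ⊆ (U : Set X)) : ConnectedSpace (𝓘.support : Set X) ↔ ConnectedSpace U := by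
  have hLef : Lef.HomToFormalBijective (𝓘.comap U.ι) (Coh.structureModule (U : Scheme.{u})) :=
    h U hU _ (Groth.Agent.Helper23.LefConn.isFinLocFree_structureModule _)
  have hsupp : ((𝓘.comap U.ι).support : Set (U : Scheme.{u})) = U.ι ⁻¹' (𝓘.support : Set X) := by
    rw [Scheme.IdealSheafData.support_comap]
    rfl
  have himg : U.ι '' ((𝓘.comap U.ι).support : Set (U : Scheme.{u})) = (𝓘.support : Set X) := by
    rw [hsupp, Set.image_preimage_eq_of_subset]
    rw [Scheme.Opens.range_ι]
    exact hU
  have hind : Topology.IsInducing U.ι := U.ι.isOpenEmbedding.isEmbedding.toIsInducing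
  have hconn : _root_.IsConnected ((𝓘.comap U.ι).support : Set (U : Scheme.{u})) ↔
      _root_.IsConnected (𝓘.support : Set X) := by
    rw [← himg]
    exact ⟨fun hc => ⟨hc.1.image _, hind.isPreconnected_image.2 hc.2⟩,
      fun hc => ⟨Set.image_nonempty.1 hc.1, hind.isPreconnected_image.1 hc.2⟩⟩
  rw [← isConnected_iff_connectedSpace]
  constructor
  · intro hY
    exact Groth.Agent.Helper23.LefConn.connectedSpace_of_isConnected_support hLef (hconn.2 hY)
  · intro hUc
    haveI : ConnectedSpace ↥(U : Scheme.{u}) := hUc
    exact hconn.1 (Groth.Agent.Helper23.LefConn.isConnected_support_of_connectedSpace hLef)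

end Groth.Agent.S2946
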