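import Groth.Statements.S2955
-- import your own Groth.Agent.* helpers here

set_option autoImplicit false
open RootPairing
open scoped Pointwise Classical
universe u
open RootD

namespace Groth.Agent.S2955

/-- Let P be a finite crystallographic reduced root pairing over a domain of characteristic zero, with a
base b, and write 2ρ for the sum of the positive roots with respect to b. Then for every simple root
β (an index in the support of b) the reflection in β sends 2ρ to 2ρ − 2β (equivalently, the coroot
of β pairs to 1 with ρ; only the reflection identity is asserted). -/
theorem result {ι R M N : Type*} [CommRing R] [CharZero R] [IsDomain R] [AddCommGroup M] [Module R M]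
    [AddCommGroup N] [Module R N] (P : RootPairing ι R M N) [Finite ι] [P.IsCrystallographic] [P.IsReduced]
    [Fintype ι] (b : P.Base) (j : ι) (hj : j ∈ b.support) :
    P.reflection j (∑ i, if b.IsPos i then P.root i else 0) =
      (∑ i, if b.IsPos i then P.root i else 0) - (2 : R) • P.root j := by
  classical
  have hposj : b.IsPos j := RootPairing.Base.isPos_of_mem_support hj
  have hnegj : ¬ b.IsPos (P.reflectionPerm j j) := by
    have := RootPairing.Base.IsPos.neg_iff_not b j
    exact fun h => (this.mp h) hposj
  have hne : j ≠ P.reflectionPerm j j := fun h => hnegj (h ▸ hposj)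
  have hσσ : ∀ i, P.reflectionPerm j (P.reflectionPerm j i) = i := fun i => P.reflectionPerm_self j i
  -- positivity is preserved away from `j` and `-j`
  have hiff : ∀ i, i ≠ j → i ≠ P.reflectionPerm j j →
      (b.IsPos (P.reflectionPerm j i) ↔ b.IsPos i) := by
    intro i hij hij'
    constructor
    · intro h
      have h1 : P.reflectionPerm j i ≠ j := by
        intro h2
        apply hij'
        calc i = P.reflectionPerm j (P.reflectionPerm j i) := (hσσ i).symm
          _ = P.reflectionPerm j j := by rw [h2]
      have := h.reflectionPerm hj h1
      rwa [hσσ] at this
    · intro h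
      exact h.reflectionPerm hj hij
  -- step 1: apply the reflection termwise and reindex
  have h1 : P.reflection j (∑ i, if b.IsPos i then P.root i else 0) =
      ∑ i, if b.IsPos (P.reflectionPerm j i) then P.root i else 0 := by
    rw [map_sum]
    rw [← Equiv.sum_comp (P.reflectionPerm j)]
    apply Finset.sum_congr rfl
    intro i _
    rw [apply_ite (P.reflection j), map_zero, ← P.root_reflectionPerm, hσσ]
  rw [h1]
  -- step 2: compare the two sums
  have h2 : ∑ i, ((if b.IsPos i then P.root i else 0) -
      (if b.IsPos (P.reflectionPerm j i) then P.root i else 0)) =
      ∑ i ∈ ({j, P.reflectionPerm j j} : Finset ι), ((if b.IsPos i then P.root i else 0) -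
      (if b.IsPos (P.reflectionPerm j i) then P.root i else 0)) := by
    symm
    apply Finset.sum_subset (Finset.subset_univ _)
    intro i _ hi
    rw [Finset.mem_insert, Finset.mem_singleton, not_or] at hi
    have := hiff i hi.1 hi.2
    by_cases hp : b.IsPos i
    · rw [if_pos hp, if_pos (this.mpr hp), sub_self]
    · rw [if_neg hp, if_neg (fun h => hp (this.mp h)), sub_self]
  have key : (∑ i, if b.IsPos i then P.root i else 0) -
      (∑ i, if b.IsPos (P.reflectionPerm j i) then P.root i else 0) = (2 : R) • P.root j := by
    rw [← Finset.sum_sub_distrib, h2, Finset.sum_pair hne, if_pos hposj, if_neg hnegj, hσσ,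
      if_neg hnegj, if_pos hposj, P.root_reflectionPerm, P.reflection_apply_self, two_smul]
    abel
  rw [← key]
  abel

end Groth.Agent.S2955
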