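import Groth.Statements.S2965
import Mathlib.LinearAlgebra.Charpoly.Basic
import Mathlib.RingTheory.Polynomial.Basic
import Mathlib.LinearAlgebra.Eigenspace.Minpoly

set_option autoImplicit false
universe u
open SGA3t2b

namespace Groth.Agent.S2965

open Polynomial in
/-- Implication (iv) ⇒ (i) (global form, finite free module): let u be an endomorphism of a finite free
module M over a commutative ring A whose characteristic polynomial is X^r · Q with Q(0) invertible.
Then M is the direct sum of two u-stable submodules M', M'' such that u is nilpotent on M' and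
bijective on M''. -/
theorem result {A : Type u} [CommRing A] {M : Type u} [AddCommGroup M] [Module A M]
    [Module.Free A M] [Module.Finite A M] (u : M →ₗ[A] M) (r : ℕ) (Q : A[X]) (hQ : IsUnit (Q.coeff 0))
    (h : u.charpoly = X ^ r * Q) :
    ∃ M' M'' : Submodule A M, IsCompl M' M'' ∧ (∀ x ∈ M', u x ∈ M') ∧ (∀ x ∈ M'', u x ∈ M'') ∧
      (∃ n : ℕ, ∀ x ∈ M', (u ^ n) x = 0) ∧ Set.BijOn u M'' M'' := by
  obtain ⟨c, hc⟩ := hQ
  obtain ⟨D, hQdecomp⟩ : ∃ D : A[X], D * X + C (c : A) = Q :=
    ⟨Q.divX, by rw [hc]; exact Polynomial.divX_mul_X_add Q⟩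
  have hDX : D * X = Q - C (c : A) := by rw [← hQdecomp]; ring
  -- `X` and `Q` are coprime
  have hcop1 : IsCoprime (X : A[X]) Q := by
    refine ⟨-(C ((c⁻¹ : Aˣ) : A)) * D, C ((c⁻¹ : Aˣ) : A), ?_⟩
    have : C ((c⁻¹ : Aˣ) : A) * C (c : A) = (1 : A[X]) := by
      rw [← C_mul, Units.inv_mul, C_1]
    calc -(C ((c⁻¹ : Aˣ) : A)) * D * X + C ((c⁻¹ : Aˣ) : A) * Q
        = -(C ((c⁻¹ : Aˣ) : A)) * (D * X) + C ((c⁻¹ : Aˣ) : A) * Q := by ring
      _ = C ((c⁻¹ : Aˣ) : A) * C (c : A) := by rw [hDX]; ring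
      _ = 1 := this
  have hcop : IsCoprime ((X : A[X]) ^ r) Q := hcop1.pow_left
  have hCH : aeval u (X ^ r * Q) = 0 := by rw [← h]; exact LinearMap.aeval_self_charpoly u
  have hsup := Polynomial.sup_ker_aeval_eq_ker_aeval_mul_of_coprime u hcop
  rw [hCH, LinearMap.ker_zero] at hsup
  have hdisj := Polynomial.disjoint_ker_aeval_of_isCoprime u hcop
  -- stability under polynomials in `u`
  have hstab : ∀ (p q : A[X]) (x : M), x ∈ LinearMap.ker (aeval u p) →
      aeval u q x ∈ LinearMap.ker (aeval u p) := by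
    intro p q x hx
    rw [LinearMap.mem_ker] at hx ⊢
    have : aeval u p (aeval u q x) = aeval u q (aeval u p x) := by
      rw [← Module.End.mul_apply, ← Module.End.mul_apply, ← map_mul, ← map_mul, mul_comm]
    rw [this, hx, map_zero]
  have hstabu : ∀ (p : A[X]) (x : M), x ∈ LinearMap.ker (aeval u p) →
      u x ∈ LinearMap.ker (aeval u p) := by
    intro p x hx
    have := hstab p X x hx
    rwa [aeval_X] at this
  refine ⟨LinearMap.ker (aeval u (X ^ r)), LinearMap.ker (aeval u Q), ⟨hdisj, codisjoint_iff.mpr hsup⟩,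
    hstabu _, hstabu _, ⟨r, ?_⟩, ?_⟩
  · intro x hx
    rw [LinearMap.mem_ker, map_pow, aeval_X] at hx
    exact hx
  · -- the inverse of `u` on the second summand
    set W : A[X] := -(C ((c⁻¹ : Aˣ) : A)) * D with hW
    have hWX : W * X = 1 - C ((c⁻¹ : Aˣ) : A) * Q := by
      have : C ((c⁻¹ : Aˣ) : A) * C (c : A) = (1 : A[X]) := by
        rw [← C_mul, Units.inv_mul, C_1]
      calc W * X = -(C ((c⁻¹ : Aˣ) : A)) * (D * X) := by rw [hW]; ring
        _ = -(C ((c⁻¹ : Aˣ) : A)) * (Q - C (c : A)) := by rw [hDX]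
        _ = C ((c⁻¹ : Aˣ) : A) * C (c : A) - C ((c⁻¹ : Aˣ) : A) * Q := by ring
        _ = 1 - C ((c⁻¹ : Aˣ) : A) * Q := by rw [this]
    have hinv : ∀ z ∈ LinearMap.ker (aeval u Q), aeval u W (u z) = z := by
      intro z hz
      rw [LinearMap.mem_ker] at hz
      have : aeval u (W * X) z = z := by
        rw [hWX, map_sub, map_one, map_mul, LinearMap.sub_apply, Module.End.mul_apply, hz, map_zero,
          sub_zero, Module.End.one_apply]
      rwa [map_mul, aeval_X, Module.End.mul_apply] at this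
    have hinv' : ∀ z ∈ LinearMap.ker (aeval u Q), u (aeval u W z) = z := by
      intro z hz
      rw [LinearMap.mem_ker] at hz
      have : aeval u (X * W) z = z := by
        rw [mul_comm, hWX, map_sub, map_one, map_mul, LinearMap.sub_apply, Module.End.mul_apply, hz,
          map_zero, sub_zero, Module.End.one_apply]
      rwa [map_mul, aeval_X, Module.End.mul_apply] at this
    refine ⟨fun x hx => hstabu _ x hx, ?_, ?_⟩
    · intro x hx y hy hxy
      rw [← hinv x hx, ← hinv y hy, hxy]
    · intro z hz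
      exact ⟨aeval u W z, hstab Q W z hz, hinv' z hz⟩

end Groth.Agent.S2965
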