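import Groth.Statements.S2967
-- import your own Groth.Agent.* helpers here

set_option autoImplicit false
universe u
open SGA3t2b

namespace Groth.Agent.S2967

/-- A commutative p-Lie algebra over a field k of characteristic p is recorded as a k-vector space g
together with its p-th power map φ, which is additive and Frobenius-semilinear. Let g be
finite-dimensional and non-zero, and assume every element of g is killed by some iterate of φ (g is
unipotent). Then the k-subspace of g spanned by the image φ(g) is a proper subspace. -/
theorem result {k : Type u} [Field k] (p : ℕ) [Fact p.Prime] [CharP k p]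
    {V : Type u} [AddCommGroup V] [Module k V] [FiniteDimensional k V] [Nontrivial V]
    (φ : V →ₛₗ[frobenius k p] V) (hφ : ∀ x : V, ∃ n : ℕ, φ^[n] x = 0) :
    Submodule.span k (Set.range φ) ≠ ⊤ := by
  intro htop
  -- iterates are additive and semilinear up to some scalar
  have hadd : ∀ n : ℕ, ∀ v w : V, φ^[n] (v + w) = φ^[n] v + φ^[n] w := by
    intro n
    induction n with
    | zero => intro v w; rfl
    | succ n ih =>
      intro v w
      rw [Function.iterate_succ_apply', Function.iterate_succ_apply', Function.iterate_succ_apply', ih,
        map_add]
  have hzero : ∀ n : ℕ, φ^[n] (0 : V) = 0 := by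
    intro n
    induction n with
    | zero => rfl
    | succ n ih => rw [Function.iterate_succ_apply', ih, map_zero]
  have hsmul : ∀ n : ℕ, ∀ (c : k) (v : V), ∃ c' : k, φ^[n] (c • v) = c' • φ^[n] v := by
    intro n
    induction n with
    | zero => intro c v; exact ⟨c, rfl⟩
    | succ n ih =>
      intro c v
      obtain ⟨c', hc'⟩ := ih c v
      refine ⟨frobenius k p c', ?_⟩
      rw [Function.iterate_succ_apply', Function.iterate_succ_apply', hc', map_smulₛₗ]
  -- all iterates have spanning image
  have hall : ∀ n : ℕ, Submodule.span k (Set.range (φ^[n])) = ⊤ := by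
    intro n
    induction n with
    | zero =>
      rw [eq_top_iff]
      intro v _
      exact Submodule.subset_span ⟨v, rfl⟩
    | succ n ih =>
      have hstep : ∀ v ∈ Submodule.span k (Set.range (φ^[n])),
          φ v ∈ Submodule.span k (Set.range (φ^[n + 1])) := by
        intro v hv
        induction hv using Submodule.span_induction with
        | mem x hx =>
          obtain ⟨u, rfl⟩ := hx
          exact Submodule.subset_span ⟨u, Function.iterate_succ_apply' φ n u⟩
        | zero => rw [map_zero]; exact Submodule.zero_mem _
        | add x y _ _ hx hy => rw [map_add]; exact Submodule.add_mem _ hx hy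
        | smul c x _ hx => rw [map_smulₛₗ]; exact Submodule.smul_mem _ _ hx
      rw [eq_top_iff, ← htop, Submodule.span_le]
      rintro _ ⟨v, rfl⟩
      exact hstep v (by rw [ih]; exact Submodule.mem_top)
  -- some iterate vanishes identically
  let b := Module.finBasis k V
  choose n hn using hφ
  let N := Finset.univ.sup (fun i => n (b i))
  have hN : ∀ v : V, φ^[N] v = 0 := by
    intro v
    have hv : v ∈ Submodule.span k (Set.range b) := by rw [b.span_eq]; exact Submodule.mem_top
    induction hv using Submodule.span_induction with
    | mem x hx =>
      obtain ⟨i, rfl⟩ := hx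
      have hle : n (b i) ≤ N := Finset.le_sup (f := fun i => n (b i)) (Finset.mem_univ i)
      obtain ⟨m, hm⟩ := Nat.exists_eq_add_of_le hle
      rw [hm, Nat.add_comm, Function.iterate_add_apply, hn, hzero]
    | zero => exact hzero N
    | add x y _ _ hx hy => rw [hadd, hx, hy, add_zero]
    | smul c x _ hx =>
      obtain ⟨c', hc'⟩ := hsmul N c x
      rw [hc', hx, smul_zero]
  have h0 : Submodule.span k (Set.range (φ^[N])) = ⊥ := by
    rw [Submodule.span_eq_bot]
    rintro _ ⟨v, rfl⟩
    exact hN v
  rw [hall N] at h0
  exact top_ne_bot h0

end Groth.Agent.S2967
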