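import Groth.Statements.S2978
-- import your own Groth.Agent.* helpers here

set_option autoImplicit false
universe u
open SGA3b

namespace Groth.Agent.S2978

/-- Let A be a Noetherian ring, M a set and a : M × M → A a family vanishing off the diagonal which is a
finite sum of decomposable families: a(m, m') = Σ_i b_i(m) c_i(m') for finitely many b_i, c_i : M →
A. Then a has finite support. -/
theorem result (A : Type u) [CommRing A] [IsNoetherianRing A] (M : Type u)
    (a : M × M → A) (hdiag : ∀ m m', m ≠ m' → a (m, m') = 0)
    (ι : Type u) [Fintype ι] (b c : ι → M → A) (hdec : ∀ m m', a (m, m') = ∑ i, b i m * c i m') :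
    Set.Finite {p : M × M | a p ≠ 0} := by
  classical
  let bv : M → (ι → A) := fun m i => b i m
  have hfg : (Submodule.span A (Set.range bv)).FG := IsNoetherian.noetherian _
  obtain ⟨s', hs'sub, hs'⟩ := (Submodule.fg_span_iff_fg_span_finset_subset _).1 hfg
  -- the diagonal support
  set D : Set M := {m | a (m, m) ≠ 0} with hD
  have key : ∀ m ∈ D, bv m ∈ s' := by
    intro m hm
    by_contra hnot
    have hmem : bv m ∈ Submodule.span A (s' : Set (ι → A)) := by
      rw [← hs']; exact Submodule.subset_span ⟨m, rfl⟩
    obtain ⟨f, -, hf⟩ := Submodule.mem_span_finset.1 hmem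
    have hchoose : ∀ v ∈ s', ∃ m' : M, bv m' = v ∧ m' ≠ m := by
      intro v hv
      obtain ⟨m', hm'⟩ := hs'sub hv
      refine ⟨m', hm', ?_⟩
      rintro rfl
      exact hnot (hm' ▸ hv)
    apply hm
    rw [hdec]
    have hbm : ∀ i, b i m = ∑ v ∈ s', f v * v i := by
      intro i
      have := congrFun hf i
      simp only [Finset.sum_apply, Pi.smul_apply, smul_eq_mul] at this
      exact this.symm
    simp only [hbm]
    simp only [Finset.sum_mul]
    rw [Finset.sum_comm]
    refine Finset.sum_eq_zero fun v hv => ?_
    obtain ⟨m', hm', hne⟩ := hchoose v hv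
    have h0 := hdiag m' m hne
    rw [hdec] at h0
    have : ∑ i, f v * v i * c i m = f v * ∑ i, b i m' * c i m := by
      rw [Finset.mul_sum]
      refine Finset.sum_congr rfl fun i _ => ?_
      rw [← hm']
      ring
    rw [this, h0, mul_zero]
  have hinj : Set.InjOn bv D := by
    intro m hm m' hm' h
    by_contra hne
    apply hm
    rw [hdec]
    have h0 := hdiag m' m (Ne.symm hne)
    rw [hdec] at h0
    rw [← h0]
    refine Finset.sum_congr rfl fun i _ => ?_
    have := congrFun h i
    simp only [bv] at this
    rw [this]
  have hDfin : D.Finite := by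
    refine Set.Finite.of_finite_image ?_ hinj
    refine Set.Finite.subset s'.finite_toSet ?_
    rintro _ ⟨m, hm, rfl⟩
    exact key m hm
  refine Set.Finite.subset (hDfin.image (fun m => (m, m))) ?_
  rintro ⟨m, m'⟩ hp
  simp only [Set.mem_setOf_eq] at hp
  by_cases h : m = m'
  · subst h
    exact ⟨m, hp, rfl⟩
  · exact absurd (hdiag m m' h) hp

end Groth.Agent.S2978
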