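import Groth.Statements.S3020
import Groth.Agent.Lib.Helper7.QAffB

set_option autoImplicit false
universe u
open CategoryTheory MonoidalCategory CartesianMonoidalCategory MonObj GrpObj AlgebraicGeometry TensorProduct
open SGA3

namespace Groth.Agent.S3020

/-- Let G be a group scheme of finite type over a field k whose underlying scheme is quasi-affine (a
quasi-compact open subscheme of an affine scheme). Then G is affine. -/
theorem result (k : Type u) [Field k] (G : Over (Spec (CommRingCat.of k))) [GrpObj G]
    [LocallyOfFiniteType G.hom] [QuasiCompact G.hom] [G.left.IsQuasiAffine] : IsAffine G.left := by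
  have : CompactSpace ↥G.left := inferInstance
  have : QuasiSeparatedSpace ↥G.left := inferInstance
  have hnat : G.hom ≫ (Spec (CommRingCat.of k)).toSpecΓ =
      G.left.toSpecΓ ≫ Spec.map G.hom.appTop := Scheme.toSpecΓ_naturality G.hom
  let G' : Over (Spec (CommRingCat.of k)) :=
    Over.mk (Spec.map G.hom.appTop ≫ inv (Spec (CommRingCat.of k)).toSpecΓ)
  let j : G ⟶ G' := Over.homMk G.left.toSpecΓ (by
    show G.left.toSpecΓ ≫ Spec.map G.hom.appTop ≫ inv (Spec (CommRingCat.of k)).toSpecΓ = G.hom
    rw [← Category.assoc, ← hnat, Category.assoc, IsIso.hom_inv_id, Category.comp_id])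
  have : IsAffine G'.left := (inferInstance : IsAffine (Spec _))
  have : IsOpenImmersion j.left := (inferInstance : IsOpenImmersion G.left.toSpecΓ)
  have : IsIso j.left.appTop := by
    show IsIso G.left.toSpecΓ.appTop
    rw [Scheme.toSpecΓ_appTop]; infer_instance
  have hd : DenseRange j.left.base := by
    have h1 := Scheme.Hom.support_ker G.left.toSpecΓ
    rw [G.left.ker_toSpecΓ, Scheme.IdealSheafData.support_bot] at h1
    rw [DenseRange, dense_iff_closure_eq]
    exact h1.symm
  have hs := Groth.Agent.Helper7.QAff.surjective_of_dense_open_affinization G G' j hd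
  have : Surjective j.left := ⟨hs⟩
  have : IsIso j.left := (isIso_iff_isOpenImmersion_and_surjective j.left).mpr ⟨inferInstance, inferInstance⟩
  exact IsAffine.of_isIso j.left

end Groth.Agent.S3020
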