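import Groth.Statements.S3029
import Groth.Agent.Lib.Helper12.GrpCM

set_option autoImplicit false
universe u
open CategoryTheory MonoidalCategory CartesianMonoidalCategory MonObj GrpObj AlgebraicGeometry TensorProduct
open SGA3

namespace Groth.Agent.S3029

/-- Let G be a group scheme locally of finite type over a field k and x a point of G. Then the local
ring of G at x is Cohen–Macaulay. (This is the case of a base field; the published statement treats
flat groups over a local Artinian ring.) -/
theorem result (k : Type u) [Field k] (G : Over (Spec (CommRingCat.of k))) [GrpObj G]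
    [LocallyOfFiniteType G.hom] (x : G.left) :
    LocCoh.IsCohenMacaulayLocalRing (G.left.presheaf.stalk x) := by
  have key := fun (y : G.left) => Groth.Agent.Helper12.GrpCM.homogeneity
    (fun R _ => LocCoh.IsCohenMacaulayLocalRing R)
    (fun R S _ _ e h => by
      haveI := h
      exact Groth.Agent.Helper20.RE.isCohenMacaulayLocalRing_of_ringEquiv e)
    (fun {k K} _ _ φ {F F'} h π' π _ sq z' => by
      haveI : IsLocallyNoetherian F := LocallyOfFiniteType.isLocallyNoetherian π
      haveI : LocallyOfFiniteType π' := MorphismProperty.of_isPullback sq ‹_›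
      haveI : IsLocallyNoetherian F' := LocallyOfFiniteType.isLocallyNoetherian π'
      exact Groth.Agent.Helper12.FieldBC.cm_stalk_iff_of_field_baseChange h π' π φ sq z'
        (Or.inr inferInstance))
    G y
  haveI : IsLocallyNoetherian G.left := LocallyOfFiniteType.isLocallyNoetherian G.hom
  obtain ⟨ξ, hmax, -⟩ := Groth.Agent.Helper14.MaxPoints.exists_maximal_specializes x
  have hdim := Groth.Agent.Helper14.FibreComp.ringKrullDim_stalk_of_maximal ξ hmax
  have hcm : LocCoh.IsCohenMacaulayLocalRing (G.left.presheaf.stalk ξ) := by
    rw [Groth.Agent.Helper20.RE.isCohenMacaulayLocalRing_iff, hdim]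
    have h1 := Groth.Agent.Lead.Depth.depth_self_le_ringKrullDim (R := G.left.presheaf.stalk ξ)
    rw [hdim] at h1
    have h2 : LocCoh.depth (G.left.presheaf.stalk ξ) (G.left.presheaf.stalk ξ) = 0 := by
      have : ((LocCoh.depth (G.left.presheaf.stalk ξ) (G.left.presheaf.stalk ξ) : ℕ∞) :
          WithBot ℕ∞) ≤ ((0 : ℕ∞) : WithBot ℕ∞) := h1
      exact le_antisymm (WithBot.coe_le_coe.mp this) zero_le
    rw [h2]
    rfl
  exact (key x).mpr ((key ξ).mp hcm)

end Groth.Agent.S3029
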