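import Groth.Statements.S3032
import Mathlib
import Groth.Agent.Lib.Helper12.ComodQuot

set_option autoImplicit false
universe u
open CategoryTheory MonoidalCategory CartesianMonoidalCategory MonObj GrpObj AlgebraicGeometry TensorProduct
open SGA3

namespace Groth.Agent.S3032

/-- Let R be a Noetherian commutative ring, C an R-coalgebra which is flat as an R-module, V a
C-comodule and M a finitely generated R-submodule of V. Then M is contained in a subcomodule of V
which is finitely generated over R. -/
theorem result (R : Type u) [CommRing R] [IsNoetherianRing R] (C : Type u) [AddCommGroup C]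
    [Module R C] [Coalgebra R C] [Module.Flat R C] (V : Type u) [AddCommGroup V] [Module R V] [HopfRep.Comod R C V]
    (M : Submodule R V) (hM : M.FG) :
    ∃ W : Submodule R V, HopfRep.IsSubcomod (k := R) (A := C) W ∧ M ≤ W ∧ W.FG := by
  classical
  obtain ⟨S, hS⟩ := hM
  obtain ⟨N, hNfin, hN⟩ := TensorProduct.exists_finite_submodule_left_of_setFinite
    ((HopfRep.Comod.coact (k := R) (A := C) : V →ₗ[R] V ⊗[R] C) '' (S : Set V))
    (S.finite_toSet.image _)
  have hNfg : N.FG := Module.Finite.iff_fg.mp hNfin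
  refine ⟨LinearMap.ker ((N.mkQ.rTensor C) ∘ₗ
    (HopfRep.Comod.coact (k := R) (A := C) : V →ₗ[R] V ⊗[R] C)), ?_, ?_, ?_⟩
  · intro x hx
    have hx0 : N.mkQ.rTensor C (HopfRep.Comod.coact (k := R) (A := C) x) = 0 := hx
    have hex := Module.Flat.rTensor_exact C (LinearMap.exact_subtype_ker_map ((N.mkQ.rTensor C) ∘ₗ
      (HopfRep.Comod.coact (k := R) (A := C) : V →ₗ[R] V ⊗[R] C)))
    apply (hex (HopfRep.Comod.coact (k := R) (A := C) x)).mp
    apply (TensorProduct.assoc R (V ⧸ N) C C).injective
    rw [map_zero, LinearMap.rTensor_comp, LinearMap.comp_apply,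
      Groth.Agent.Helper12.assoc_rTensor_rTensor]
    have h := LinearMap.congr_fun (HopfRep.Comod.coassoc (k := R) (A := C) (V := V)) x
    simp only [LinearMap.comp_apply, LinearEquiv.coe_coe] at h
    rw [h, ← LinearMap.comp_apply, LinearMap.rTensor_comp_lTensor,
      ← LinearMap.lTensor_comp_rTensor, LinearMap.comp_apply, hx0, map_zero]
  · rw [← hS, Submodule.span_le]
    intro m hm
    obtain ⟨y, hy⟩ := hN ⟨m, hm, rfl⟩
    show N.mkQ.rTensor C (HopfRep.Comod.coact (k := R) (A := C) m) = 0
    have h0 : N.mkQ ∘ₗ N.subtype = 0 := by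
      ext n
      simp
    rw [← hy, ← LinearMap.comp_apply, ← LinearMap.rTensor_comp, h0, LinearMap.rTensor_zero,
      LinearMap.zero_apply]
  · have hle : LinearMap.ker ((N.mkQ.rTensor C) ∘ₗ
        (HopfRep.Comod.coact (k := R) (A := C) : V →ₗ[R] V ⊗[R] C)) ≤ N := by
      intro x hx
      have hx0 : N.mkQ.rTensor C (HopfRep.Comod.coact (k := R) (A := C) x) = 0 := hx
      have h1 := Groth.Agent.Helper12.slice_rTensor N.mkQ (Coalgebra.counit (R := R) (A := C))
        (HopfRep.Comod.coact (k := R) (A := C) x)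
      rw [hx0, map_zero, Groth.Agent.Helper12.slice_counit_coact] at h1
      exact (Submodule.Quotient.mk_eq_zero N).mp h1.symm
    haveI : IsNoetherian R N := isNoetherian_of_fg_of_noetherian N hNfg
    have h2 : (Submodule.comap N.subtype (LinearMap.ker ((N.mkQ.rTensor C) ∘ₗ
        (HopfRep.Comod.coact (k := R) (A := C) : V →ₗ[R] V ⊗[R] C)))).FG :=
      IsNoetherian.noetherian _
    have h3 := h2.map N.subtype
    rwa [Submodule.map_comap_subtype, inf_eq_right.mpr hle] at h3

end Groth.Agent.S3032
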