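import Groth.Statements.S3042
import Groth.Agent.Lib.Helper23.MonoFib3

set_option autoImplicit false
universe u
open CategoryTheory MonoidalCategory CartesianMonoidalCategory MonObj GrpObj AlgebraicGeometry TensorProduct
open SGA3

namespace Groth.Agent.S3042

/-- Let f : X → Y be a morphism of schemes locally of finite type. Then f is a monomorphism if and only
if, for every point y of Y, the fibre X_y → Spec κ(y) is a monomorphism. -/
theorem result (X Y : Scheme.{u}) (f : X ⟶ Y) [LocallyOfFiniteType f] :
    Mono f ↔ ∀ y : Y, Mono (f.fiberToSpecResidueField y) := by
  constructor
  · intro hf y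
    show Mono (CategoryTheory.Limits.pullback.snd f (Y.fromSpecResidueField y))
    infer_instance
  · intro h
    exact Groth.Agent.Helper23.MonoFib.mono_of_fibMono f h

end Groth.Agent.S3042
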