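import Groth.Statements.S3043
import Mathlib


set_option autoImplicit false
universe u
open CategoryTheory MonoidalCategory CartesianMonoidalCategory MonObj GrpObj AlgebraicGeometry TensorProduct
open SGA3

namespace Groth.Agent.S3043

/-- Let π : X → S be a morphism of schemes admitting a section ε (ε followed by π is the identity). If π
is injective on underlying points, then π is an integral morphism. -/
theorem result (X S : Scheme.{u}) (π : X ⟶ S) (ε : S ⟶ X) (hε : ε ≫ π = 𝟙 S)
    (hinj : Function.Injective π.base) : IsIntegralHom π := by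
  have h1 : ∀ s : S, π.base (ε.base s) = s := fun s => by
    have h := congrArg (fun f : S ⟶ S => f.base s) hε
    simpa using h
  have h2 : ∀ x : X, ε.base (π.base x) = x := fun x => hinj (h1 _)
  have hind : Topology.IsInducing π.base := by
    refine Topology.IsInducing.of_comp π.continuous ε.continuous ?_
    have : (ε.base ∘ π.base : X → X) = id := funext h2
    rw [this]; exact Topology.IsInducing.id
  have hrange : Set.range π.base = Set.univ :=
    Set.eq_univ_of_forall fun s => ⟨ε.base s, h1 s⟩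
  haveI : IsAffineHom π :=
    isAffineHom_of_isInducing π hind (by rw [hrange]; exact isClosed_univ)
  refine ⟨fun U hU => ?_⟩
  intro b
  have hle : U ≤ ε ⁻¹ᵁ (π ⁻¹ᵁ U) := fun s hs => by
    show π.base (ε.base s) ∈ U
    rw [h1]; exact hs
  obtain ⟨a, ha⟩ : ∃ a : Γ(S, U), a = S.presheaf.map (homOfLE hle).op (ε.app (π ⁻¹ᵁ U) b) :=
    ⟨_, rfl⟩
  have hn0 : ε.app (π ⁻¹ᵁ U) (b - π.app U a) = 0 := by
    rw [map_sub, sub_eq_zero]
    have h3 : ε.app (π ⁻¹ᵁ U) (π.app U a) = (ε ≫ π).app U a := by
      rw [Scheme.Hom.comp_app]; rfl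
    have h6 : ∀ (V : S.Opens) (hV : V = U) (g : Γ(S, U) ⟶ Γ(S, V))
        (hg : g = S.presheaf.map (eqToHom hV).op) (c : Γ(S, V)) (hle' : U ≤ V),
        g (S.presheaf.map (homOfLE hle').op c) = c := by
      intro V hV g hg c hle'
      subst hV
      subst hg
      have h7 : (homOfLE hle').op = 𝟙 (Opposite.op V) := Subsingleton.elim _ _
      rw [h7]
      simp
    have h8 : (ε ≫ π) ⁻¹ᵁ U = U := by rw [hε]; rfl
    have h9 : (ε ≫ π).app U = S.presheaf.map (eqToHom h8).op := by
      rw [Scheme.Hom.congr_app hε U, Scheme.Hom.id_app]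
      exact Category.id_comp _
    rw [h3, ha]
    exact (h6 ((ε ≫ π) ⁻¹ᵁ U) h8 _ h9 _ hle).symm
  have hbo : X.basicOpen (b - π.app U a) = ⊥ := by
    rw [eq_bot_iff]
    intro x hx
    have h4 : π.base x ∈ ε ⁻¹ᵁ (X.basicOpen (b - π.app U a)) := by
      show ε.base (π.base x) ∈ X.basicOpen _
      rw [h2]; exact hx
    rw [Scheme.preimage_basicOpen, hn0, Scheme.basicOpen_zero] at h4
    exact h4
  have hnil : IsNilpotent (b - π.app U a) :=
    (Scheme.isNilpotent_iff_basicOpen_eq_bot_of_isCompact (hU.preimage π).isCompact _).mpr hbo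
  have hb : b = (π.app U).hom a + (b - π.app U a) := by
    show b = π.app U a + (b - π.app U a)
    ring
  rw [hb]
  refine RingHom.IsIntegralElem.add _ (RingHom.isIntegralElem_map _) ?_
  obtain ⟨k, hk⟩ := hnil
  exact ⟨Polynomial.X ^ k, Polynomial.monic_X_pow k, by simp [Polynomial.eval₂_X_pow, hk]⟩

end Groth.Agent.S3043
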