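import Groth.Statements.S3045
import Groth.Agent.Lib.Helper5.Hopf

set_option autoImplicit false
universe u
open TensorProduct
open SGA3

namespace Groth.Agent.S3045

/-- Let A be a commutative Hopf algebra over a commutative ring k (the coordinate ring of an affine
group G = Spec A) and φ, ψ two k[ε]-valued points of G reducing to the unit point modulo ε (tangent
vectors at the identity). Then for every a ∈ A the ε-component of the product point φ · ψ at a — the
product of points being convolution, formed here as the triple convolution of φ, ψ and the unit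
point — is the sum of the ε-components of φ(a) and ψ(a): on tangent vectors at the identity the
group law of G induces addition. -/
theorem result (k : Type u) [CommRing k] (A : Type u) [CommRing A] [HopfAlgebra k A]
    (φ ψ : LieHopf.LiePts k A) (a : A) :
    TrivSqZeroExt.snd (Dyn.conv3 k A φ.1 ψ.1 ((Algebra.ofId k (DualNumber k)).comp (Bialgebra.counitAlgHom k A)) a) =
      LieHopf.LiePts.tangent k A φ a + LieHopf.LiePts.tangent k A ψ a := by
  have key : ∀ (f g : A →ₐ[k] DualNumber k)
      (hf : ∀ a : A, TrivSqZeroExt.fst (f a) = Bialgebra.counitAlgHom k A a)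
      (hg : ∀ a : A, TrivSqZeroExt.fst (g a) = Bialgebra.counitAlgHom k A a),
      TrivSqZeroExt.snd (Dyn.conv3 k A f g
        ((Algebra.ofId k (DualNumber k)).comp (Bialgebra.counitAlgHom k A)) a) =
        TrivSqZeroExt.snd (f a) + TrivSqZeroExt.snd (g a) := by
    intro f g hf hg
    rw [Groth.Agent.Helper5.Hopf.conv3_eq]
    have h1 : (WithConv.toConv f * WithConv.toConv g) *
        WithConv.toConv ((Algebra.ofId k (DualNumber k)).comp (Bialgebra.counitAlgHom k A)) =
        WithConv.toConv f * WithConv.toConv g := by
      rw [← AlgHom.convOne_def]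
      exact mul_one (WithConv.toConv f * WithConv.toConv g)
    rw [h1]
    let 𝓡 := Coalgebra.Repr.arbitrary k a
    have h2 : (WithConv.ofConv (WithConv.toConv f * WithConv.toConv g)) a =
        ∑ i ∈ 𝓡.index, f (𝓡.left i) * g (𝓡.right i) := by
      have := 𝓡.convMul_apply (WithConv.toConv f.toLinearMap) (WithConv.toConv g.toLinearMap)
      exact this
    rw [h2]
    have hsnd : ∀ (s : Finset (A × A)) (F : A × A → DualNumber k),
        TrivSqZeroExt.snd (∑ i ∈ s, F i) = ∑ i ∈ s, TrivSqZeroExt.snd (F i) := by
      intro s F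
      exact map_sum (TrivSqZeroExt.sndHom k k) F s
    rw [hsnd]
    simp only [TrivSqZeroExt.snd_mul, hf, hg]
    have e1 : ∑ x ∈ 𝓡.index, Coalgebra.counit (R := k) (𝓡.left x) • 𝓡.right x = a :=
      Coalgebra.sum_counit_smul 𝓡
    have e2 : ∑ x ∈ 𝓡.index, Coalgebra.counit (R := k) (𝓡.right x) • 𝓡.left x = a := by
      have h3 := Coalgebra.sum_tmul_counit_eq 𝓡
      have h4 := congrArg (TensorProduct.rid k A) h3
      rw [map_sum] at h4
      simp only [TensorProduct.rid_tmul, one_smul] at h4
      exact h4
    let sf : A →ₗ[k] k := (TrivSqZeroExt.sndHom k k) ∘ₗ f.toLinearMap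
    let sg : A →ₗ[k] k := (TrivSqZeroExt.sndHom k k) ∘ₗ g.toLinearMap
    have e1' := congrArg sg e1
    have e2' := congrArg sf e2
    rw [map_sum] at e1' e2'
    simp only [map_smul] at e1' e2'
    rw [Finset.sum_add_distrib, add_comm]
    have e1'' : sg a = TrivSqZeroExt.snd (g a) := rfl
    have e2'' : sf a = TrivSqZeroExt.snd (f a) := rfl
    rw [← e1'', ← e2'', ← e1', ← e2']
    congr 1
    · apply Finset.sum_congr rfl
      intro x _
      simp [sf, mul_comm]
  exact key φ.1 ψ.1 φ.2 ψ.2

end Groth.Agent.S3045
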