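import Groth.Statements.S3046
import Groth.Agent.Lib.Helper5.Hopf2

set_option autoImplicit false
universe u
open TensorProduct
open SGA3

namespace Groth.Agent.S3046

/-- Let A be a commutative Hopf algebra over a commutative ring k, D and E two ε-derivations A → k
(tangent vectors at the identity of G = Spec A), R a commutative k-algebra and t, t' ∈ R with t² = 0
= t'². Let x = e + tD and y = e + t'E be the corresponding R-points of G. Then the commutator x y
x⁻¹ y⁻¹ (product of points; the inverse of a point is its composite with the antipode) is the point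
a ↦ ε(a) + [D, E](a) · t t', where [D, E] = D ⋆ E − E ⋆ D is the convolution commutator. -/
theorem result (k : Type u) [CommRing k] (A : Type u) [CommRing A] [HopfAlgebra k A]
    (D E : LieHopf.Lie k A) (R : Type u) [CommRing R] [Algebra k R] (t t' : R) (ht : t * t = 0) (ht' : t' * t' = 0)
    (a : A) :
    Dyn.conv3 k A
        (Dyn.conv3 k A (LieHopf.ptOfLie D R t ht) (LieHopf.ptOfLie E R t' ht')
          ((LieHopf.ptOfLie D R t ht).comp (HopfAlgebra.antipodeAlgHom k A)))
        ((LieHopf.ptOfLie E R t' ht').comp (HopfAlgebra.antipodeAlgHom k A))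
        ((Algebra.ofId k R).comp (Bialgebra.counitAlgHom k A)) a =
      algebraMap k R (Bialgebra.counitAlgHom k A a) + algebraMap k R (LieHopf.bracketLin D E a) * (t * t') := by
  rw [Groth.Agent.Helper5.Hopf.conv3_eq, Groth.Agent.Helper5.Hopf.conv3_eq]
  set X := WithConv.toConv (LieHopf.ptOfLie D R t ht) with hX
  set Y := WithConv.toConv (LieHopf.ptOfLie E R t' ht') with hY
  have hX' : WithConv.toConv ((LieHopf.ptOfLie D R t ht).comp (HopfAlgebra.antipodeAlgHom k A)) =
      Groth.Agent.Helper5.Hopf.inv' X := rfl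
  have hY' : WithConv.toConv ((LieHopf.ptOfLie E R t' ht').comp (HopfAlgebra.antipodeAlgHom k A)) =
      Groth.Agent.Helper5.Hopf.inv' Y := rfl
  have h1 : WithConv.toConv ((Algebra.ofId k R).comp (Bialgebra.counitAlgHom k A)) =
      (1 : WithConv (A →ₐ[k] R)) := rfl
  rw [hX', hY', h1, WithConv.toConv_ofConv]
  have hmul1 : (X * Y * Groth.Agent.Helper5.Hopf.inv' X * Groth.Agent.Helper5.Hopf.inv' Y * 1) =
      (X * Y * Groth.Agent.Helper5.Hopf.inv' X * Groth.Agent.Helper5.Hopf.inv' Y) :=
    mul_one (X * Y * Groth.Agent.Helper5.Hopf.inv' X * Groth.Agent.Helper5.Hopf.inv' Y)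
  rw [hmul1]
  have h2 : (WithConv.ofConv (X * Y * Groth.Agent.Helper5.Hopf.inv' X * Groth.Agent.Helper5.Hopf.inv' Y)) a =
      (Groth.Agent.Helper5.Hopf.L (X * Y * Groth.Agent.Helper5.Hopf.inv' X * Groth.Agent.Helper5.Hopf.inv' Y)) a := rfl
  rw [h2, Groth.Agent.Helper5.Hopf.L_mul, Groth.Agent.Helper5.Hopf.L_mul, Groth.Agent.Helper5.Hopf.L_mul,
    Groth.Agent.Helper5.Hopf.commutator_L D E t t' ht ht']
  have h3 : ((1 : WithConv (A →ₗ[k] R)) + (t * t') • (Groth.Agent.Helper5.Hopf.dL R D * Groth.Agent.Helper5.Hopf.dL R E -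
      Groth.Agent.Helper5.Hopf.dL R E * Groth.Agent.Helper5.Hopf.dL R D)) a =
      algebraMap k R (Coalgebra.counit a) + (t * t') • ((Groth.Agent.Helper5.Hopf.dL R D * Groth.Agent.Helper5.Hopf.dL R E) a -
        (Groth.Agent.Helper5.Hopf.dL R E * Groth.Agent.Helper5.Hopf.dL R D) a) := rfl
  rw [h3, Groth.Agent.Helper5.Hopf.dL_mul_apply, Groth.Agent.Helper5.Hopf.dL_mul_apply, ← map_sub, smul_eq_mul, mul_comm]
  rfl

end Groth.Agent.S3046
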