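import Groth.Statements.S3058
import Groth.Agent.Lib.Helper5.ToposFin11

set_option autoImplicit false
open CategoryTheory CategoryTheory.Limits Opposite
universe u
open ToposFin

namespace Groth.Agent.S3058

/-- For a topos of sheaves of sets on a small site: the coproduct of a small family of objects is
quasi-compact if and only if every member is quasi-compact and all but finitely many members are
initial (empty) objects. -/
theorem result {C : Type u} [SmallCategory C] {J : GrothendieckTopology C} {ι : Type u}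
    (F : ι → ToposFin.Sh J) :
    ToposFin.IsQC (∐ F) ↔ (∀ i, ToposFin.IsQC (F i)) ∧ {i | IsEmpty (F i ≅ ⊥_ (ToposFin.Sh J))}.Finite := by
  have hc := coproductIsCoproduct F
  constructor
  · intro h
    refine ⟨fun i => Groth.Agent.Helper5.ToposFin.isQC_summand (Cofan.mk (∐ F) (Sigma.ι F)) hc i h, ?_⟩
    obtain ⟨s, hs⟩ := (Groth.Agent.Helper5.ToposFin.isQC_iff _).mp h ι F (Sigma.ι F)
      (Groth.Agent.Helper5.ToposFin.je_of_isColimit_cofan (Cofan.mk (∐ F) (Sigma.ι F)) hc)
    refine Set.Finite.subset s.finite_toSet ?_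
    intro i hi
    by_contra his
    have his' : i ∉ s := his
    obtain ⟨hI⟩ : Nonempty (IsInitial (F i)) := by
      apply Groth.Agent.Helper5.ToposFin.isInitial_of_forall_eq
      intro Z a b
      apply Groth.Agent.Helper5.ToposFin.je_pullback (fun k : s => Sigma.ι F k) (Sigma.ι F i) hs
      rintro ⟨k, hk⟩
      have hne : i ≠ k := fun h => his' (h ▸ hk)
      obtain ⟨hW⟩ := Groth.Agent.Helper5.ToposFin.isInitial_of_inj_eq (Cofan.mk (∐ F) (Sigma.ι F)) hc
        hne (pullback.fst (Sigma.ι F k) (Sigma.ι F i)) (pullback.snd (Sigma.ι F k) (Sigma.ι F i))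
        pullback.condition
      exact hW.hom_ext _ _
    have hi' : IsEmpty (F i ≅ ⊥_ (ToposFin.Sh J)) := hi
    exact hi'.false (hI.uniqueUpToIso initialIsInitial)
  · rintro ⟨hqc, hfin⟩
    refine Groth.Agent.Helper5.ToposFin.isQC_of_finite_je (fun i : hfin.toFinset => F i)
      (fun i => Sigma.ι F i) ?_ (fun i => hqc i)
    intro Z a b hab
    apply Sigma.hom_ext
    intro i
    by_cases hi : IsEmpty (F i ≅ ⊥_ (ToposFin.Sh J))
    · exact hab ⟨i, hfin.mem_toFinset.mpr hi⟩
    · rw [not_isEmpty_iff] at hi
      obtain ⟨e⟩ := hi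
      exact (IsInitial.ofIso initialIsInitial e.symm).hom_ext _ _

end Groth.Agent.S3058
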