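import Groth.Statements.S3067
import Groth.Agent.Lib.Helper5.ToposFin6

set_option autoImplicit false
open CategoryTheory CategoryTheory.Limits Opposite
universe u
open ToposFin

namespace Groth.Agent.S3067

/-- In the topos of sheaves of sets on a small site that admits a generating family of quasi-compact
objects, let (g_i : Y_i → Y) be a jointly epimorphic family of morphisms with every Y_i coherent.
Then Y is quasi-separated if and only if every g_i is quasi-compact, and Y is quasi-separated if and
only if every fibre product Y_i ×_Y Y_j is quasi-compact. -/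
theorem result {C : Type u} [SmallCategory C] {J : GrothendieckTopology C} (hE : ToposFin.HasQCGenerators J) {Y : ToposFin.Sh J} {ι : Type u}
    (Yi : ι → ToposFin.Sh J) (g : ∀ i, Yi i ⟶ Y) (hg : Epi (Sigma.desc g)) (hY : ∀ i, ToposFin.IsCoherent (Yi i)) :
    (ToposFin.IsQS Y ↔ ∀ i, ToposFin.IsQCHom (g i)) ∧
    (ToposFin.IsQS Y ↔ ∀ i j, ToposFin.IsQC (pullback (g i) (g j))) := by
  have hg' := (Groth.Agent.Helper5.ToposFin.epi_sigmaDesc_iff g).mp hg
  have h1 : ToposFin.IsQS Y ↔ ∀ i, ToposFin.IsQCHom (g i) :=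
    ⟨fun h i => Groth.Agent.Helper5.ToposFin.isQCHom_of_isQC_of_isQS (g i) (hY i).1 h,
      fun h => Groth.Agent.Helper5.ToposFin.isQS_of_cover hE Yi g hg' (fun i => (hY i).2) h⟩
  refine ⟨h1, ⟨fun h i j => h _ _ (g i) (g j) (hY i).1 (hY j).1, fun h => ?_⟩⟩
  rw [h1]
  intro i
  refine Groth.Agent.Helper5.ToposFin.isQCHom_of_local_isPullback hE (g i) g hg' _ _
    (fun j => IsPullback.of_hasPullback (g i) (g j)) ?_
  intro j
  exact Groth.Agent.Helper5.ToposFin.isQCHom_of_isQC_of_isQS _ (h i j) (hY j).2

end Groth.Agent.S3067
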