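import Groth.Statements.S3088
import Mathlib
import Groth.Prelude.Def_CohCx
import Groth.Agent.Lib.Helper24.CechRefine

set_option autoImplicit false
universe u
open CategoryTheory
open CohSite

namespace Groth.Agent.S3088


open CategoryTheory.Limits Opposite
open Groth.Agent.Helper24.CechEv Groth.Agent.Helper24.CechDelta Groth.Agent.Helper24.CechEff
  Groth.Agent.Helper24.CechH Groth.Agent.Helper24.CechEdgeLib Groth.Agent.Helper24.CechRefine

section
variable {C : Type u} [SmallCategory C] [HasPullbacks C] {U : C}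
  {ι κ : Type u} (Y : ι → Over U) (Y' : κ → Over U)
  (f : FormalCoproduct.mk ι Y ⟶ FormalCoproduct.mk κ Y')

/-- a refinement as a morphism of δ-functors -/
noncomputable def refHom : TC Y' ⟶ TC Y where
  app n :=
    { app := fun P => HomologicalComplex.homologyMap (refineCx Y Y' f (QP P)) n
      naturality := fun P Q φ => by
        have h := congrArg (fun m => HomologicalComplex.homologyMap m n) (refine_cxFunctor Y Y' f φ)
        simp only [HomologicalComplex.homologyMap_comp] at h
        exact h }
  comm S hS n₀ n₁ h :=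
    HomologicalComplex.HomologySequence.δ_naturality (refSC Y Y' f S) (shortExact_map Y' S hS)
      (shortExact_map Y S hS) n₀ n₁ h

lemma push_single {T : Over U} (σ : Fin 1 → Sg Y T) :
    pushσ Y Y' f σ = fun _ => pushσ Y Y' f σ 0 := by
  funext k
  fin_cases k
  rfl

lemma refine_zero_eq (g : FormalCoproduct.mk ι Y ⟶ FormalCoproduct.mk κ Y')
    (P : Cᵒᵖ ⥤ AddCommGrpCat.{u}) :
    HomologicalComplex.homologyMap (refineCx Y Y' f (QP P)) 0 =
      HomologicalComplex.homologyMap (refineCx Y Y' g (QP P)) 0 := by
  rw [← cancel_epi ((CechEdge.cx P Y').homologyπ 0)]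
  erw [HomologicalComplex.homologyπ_naturality, HomologicalComplex.homologyπ_naturality]
  congr 1
  rw [← cancel_mono ((CechEdge.cx P Y).iCycles 0)]
  erw [HomologicalComplex.cyclesMap_i, HomologicalComplex.cyclesMap_i]
  ext z
  simp only [AddCommGrpCat.hom_comp, AddMonoidHom.comp_apply]
  have hc : ((cech Y' (QP P)).d 0 1).hom (((CechEdge.cx P Y').iCycles 0).hom z) = 0 := by
    have := (CechEdge.cx P Y').iCycles_d 0 1
    exact congrArg (fun m => m.hom z) this
  apply ext_elem
  intro T σ
  have e1 := congrArg (fun m => m.hom (((CechEdge.cx P Y').iCycles 0).hom z))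
    (refine_ev Y Y' f (QP P) T σ)
  have e2 := congrArg (fun m => m.hom (((CechEdge.cx P Y').iCycles 0).hom z))
    (refine_ev Y Y' g (QP P) T σ)
  refine e1.trans (Eq.trans ?_ e2.symm)
  rw [push_single Y Y' f σ, push_single Y Y' g σ]
  exact cocycle_ev Y' P _ hc _ _

end

open CategoryTheory.Limits in
/-- With A = Z: let C be a u-small category with fibre products, 𝒰 and 𝒰' two families of objects over U
(formal coproducts in the over category) and f, g : 𝒰 -> 𝒰' two refinement morphisms. Then for every
presheaf of abelian groups M and every q, the maps induced by f and g on the q-th Cech cohomology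
groups (from that of 𝒰' to that of 𝒰) coincide. -/
theorem result {C : Type u} [SmallCategory C] [HasPullbacks C] (M : Cᵒᵖ ⥤ AddCommGrpCat.{u})
    {U : C} {𝒰 𝒰' : FormalCoproduct.{u} (Over U)} (f g : 𝒰 ⟶ 𝒰') (q : ℕ) :
    HomologicalComplex.homologyMap (CohCx.cechRefine M f) q = HomologicalComplex.homologyMap (CohCx.cechRefine M g) q := by
  have h0 : (refHom 𝒰.obj 𝒰'.obj f).app 0 = (refHom 𝒰.obj 𝒰'.obj g).app 0 := by
    ext P : 2
    exact refine_zero_eq 𝒰.obj 𝒰'.obj f g P
  have huniq := (isUniversal 𝒰'.obj (TC 𝒰.obj) ((refHom 𝒰.obj 𝒰'.obj g).app 0)).unique h0 rfl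
  have := congrArg (fun (τ : TC 𝒰'.obj ⟶ TC 𝒰.obj) => (τ.app q).app M) huniq
  exact this

end Groth.Agent.S3088
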