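import Groth.Statements.S3090
import Mathlib
import Groth.Agent.Lib.Helper10.ExtLeray
import Groth.Agent.Lib.Helper10.LanExact
import Groth.Agent.Lib.Helper10.Flasque
import Groth.Agent.S16463

set_option autoImplicit false
universe u
open CategoryTheory
open CohSite

namespace Groth.Agent.S3090

section helpers

open CategoryTheory.Limits CategoryTheory.Abelian Opposite
open Groth.Agent.Helper10

/-- The free abelian sheaf on a presheaf of types. -/
noncomputable abbrev Lf {C : Type u} [SmallCategory C] (J : GrothendieckTopology C) :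
    (Cᵒᵖ ⥤ Type u) ⥤ Sheaf J AddCommGrpCat.{u} :=
  (Functor.whiskeringRight Cᵒᵖ _ _).obj AddCommGrpCat.free.{u} ⋙ presheafToSheaf J _

/-- The forgetful functor to presheaves of types. -/
noncomputable abbrev Rf {C : Type u} [SmallCategory C] (J : GrothendieckTopology C) :
    Sheaf J AddCommGrpCat.{u} ⥤ (Cᵒᵖ ⥤ Type u) :=
  sheafToPresheaf J _ ⋙ (Functor.whiskeringRight Cᵒᵖ _ _).obj (forget AddCommGrpCat.{u})

/-- The adjunction `Lf ⊣ Rf`. -/
noncomputable def adjf {C : Type u} [SmallCategory C] (J : GrothendieckTopology C) : Lf J ⊣ Rf J :=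
  (Adjunction.whiskerRight Cᵒᵖ AddCommGrpCat.adj.{u}).comp (sheafificationAdjunction J _)

lemma subsingleton_ext_of_iso {A : Type*} [Category A] [Abelian A] [HasExt.{u} A]
    {X X' Y : A} (e : X ≅ X') (n : ℕ) (h : Subsingleton (Ext.{u} X' Y n)) :
    Subsingleton (Ext.{u} X Y n) := by
  refine ⟨fun x y => ?_⟩
  have hx : ∀ z : Ext.{u} X Y n, z = (Ext.mk₀ e.hom).comp ((Ext.mk₀ e.inv).comp z (zero_add n))
      (zero_add n) := by
    intro z
    rw [← Ext.comp_assoc_of_second_deg_zero, Ext.mk₀_comp_mk₀, e.hom_inv_id, Ext.mk₀_id_comp]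
  rw [hx x, hx y, Subsingleton.elim ((Ext.mk₀ e.inv).comp x (zero_add n))
    ((Ext.mk₀ e.inv).comp y (zero_add n))]

variable {C : Type u} [SmallCategory C] (J : GrothendieckTopology C)

/-- Total acyclicity gives vanishing of `Ext` out of the free sheaf on any presheaf of types. -/
lemma totAcyc_presheaf (F : Sheaf J AddCommGrpCat.{u}) (hF : CohCx.IsTotallyAcyclic F)
    (P : Cᵒᵖ ⥤ Type u) (p : ℕ) : Subsingleton (Ext.{u} ((Lf J).obj P) F (p + 1)) := by
  let e : (Lf J).obj P ≅
      (Sheaf.composeAndSheafify J AddCommGrpCat.free.{u}).obj ((presheafToSheaf J (Type u)).obj P) :=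
    ((presheafToSheafCompComposeAndSheafifyIso J AddCommGrpCat.free.{u}).app P).symm
  exact subsingleton_ext_of_iso e (p + 1) (hF ((presheafToSheaf J (Type u)).obj P) p)

/-- If `Ext¹(ℤ_U, X₁) = 0` for all `U`, then `X₂(U) → X₃(U)` is surjective for all `U`. -/
lemma surjective_app_of_ext (S : ShortComplex (Sheaf J AddCommGrpCat.{u})) (hS : S.ShortExact)
    (U : C) (h : Subsingleton (Ext.{u} ((Lf J).obj (yoneda.obj U)) S.X₁ 1)) :
    Function.Surjective (S.g.hom.app (op U)) := by
  intro x
  let a : yoneda.obj U ⟶ (Rf J).obj S.X₃ := yonedaEquiv.symm x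
  let b : (Lf J).obj (yoneda.obj U) ⟶ S.X₃ := ((adjf J).homEquiv _ _).symm a
  obtain ⟨x₂, hx₂⟩ := Ext.covariant_sequence_exact₃ ((Lf J).obj (yoneda.obj U)) hS (Ext.mk₀ b)
    (n₁ := 1) rfl (Subsingleton.elim _ _)
  obtain ⟨c, rfl⟩ := (Ext.mk₀_bijective _ _).2 x₂
  rw [Ext.mk₀_comp_mk₀] at hx₂
  have hc : c ≫ S.g = b := (Ext.mk₀_bijective _ _).1 hx₂
  refine ⟨yonedaEquiv ((adjf J).homEquiv _ _ c), ?_⟩
  have h1 : (adjf J).homEquiv _ _ (c ≫ S.g) = (adjf J).homEquiv _ _ c ≫ (Rf J).map S.g :=
    (adjf J).homEquiv_naturality_right c S.g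
  rw [hc] at h1
  have h2 : (adjf J).homEquiv _ _ b = a := Equiv.apply_symm_apply _ a
  rw [h2] at h1
  have h3 : yonedaEquiv a = x := Equiv.apply_symm_apply _ x
  rw [← h3, h1]
  rfl

/-- The cokernel of an embedding of a totally acyclic sheaf in an injective one is totally
acyclic. -/
lemma totAcyc_X₃ (S : ShortComplex (Sheaf J AddCommGrpCat.{u})) (hS : S.ShortExact)
    [Injective S.X₂] (h : CohCx.IsTotallyAcyclic S.X₁) : CohCx.IsTotallyAcyclic S.X₃ := by
  intro K p
  refine ⟨fun x y => ?_⟩
  have key : ∀ z : CohCx.HK K S.X₃ (p + 1), z = 0 := by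
    intro z
    have := h K (p + 1)
    obtain ⟨x₂, hx₂⟩ := Ext.covariant_sequence_exact₃ _ hS z (n₁ := p + 1 + 1) rfl
      (Subsingleton.elim _ _)
    rw [← hx₂, Ext.eq_zero_of_injective x₂, Ext.zero_comp]
  rw [key x, key y]

variable {D : Type u} [SmallCategory D] (K : GrothendieckTopology D) (u : D ⥤ C)
  [u.IsContinuous K J]

lemma epi_push_of_surjective {M N : Sheaf J AddCommGrpCat.{u}} (g : M ⟶ N)
    (h : ∀ U : C, Function.Surjective (g.hom.app (op U))) :
    Epi ((CohSite.push J K u).map g) := by
  have : ∀ V : Dᵒᵖ, Epi (((CohSite.push J K u).map g).hom.app V) := by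
    intro V
    rw [AddCommGrpCat.epi_iff_surjective]
    exact h (u.obj V.unop)
  have : Epi ((CohSite.push J K u).map g).hom := NatTrans.epi_of_epi_app _
  exact Sheaf.Hom.epi_of_presheaf_epi (f := (CohSite.push J K u).map g)

section StepA

variable [PreservesFiniteLimits (CohSite.push J K u)]

lemma isZero_rightDerived_of_totAcyc (Δ : RDer.DerivedLES (CohSite.push J K u)) (q : ℕ) :
    ∀ (F : Sheaf J AddCommGrpCat.{u}), CohCx.IsTotallyAcyclic F →
      IsZero (((CohSite.push J K u).rightDerived (q + 1)).obj F) := by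
  induction q with
  | zero =>
    intro F hF
    let I : InjectivePresentation F := Classical.arbitrary _
    let S := ShortComplex.mk _ _ (cokernel.condition I.f)
    have hS : S.ShortExact := { exact := ShortComplex.exact_cokernel I.f }
    have : Injective S.X₂ := I.injective
    have hepi : Epi ((CohSite.push J K u).map S.g) := by
      apply epi_push_of_surjective
      intro U
      exact surjective_app_of_ext J S hS U (totAcyc_presheaf J F hF _ 0)
    have hepi0 : Epi (((CohSite.push J K u).rightDerived 0).map S.g) := by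
      have hnat := (CohSite.push J K u).rightDerivedZeroIsoSelf.hom.naturality S.g
      have : ((CohSite.push J K u).rightDerived 0).map S.g =
          (CohSite.push J K u).rightDerivedZeroIsoSelf.hom.app S.X₂ ≫
            (CohSite.push J K u).map S.g ≫
              (CohSite.push J K u).rightDerivedZeroIsoSelf.inv.app S.X₃ := by
        rw [← Category.assoc, ← hnat, Category.assoc, ← NatTrans.comp_app, Iso.hom_inv_id,
          NatTrans.id_app, Category.comp_id]
      rw [this]
      infer_instance
    have h1 := Δ.exact₁ S hS 0 1 rfl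
    have hδ : Δ.δ S hS 0 1 rfl = 0 := by
      have := Δ.comp_δ S hS 0 1 rfl
      exact (cancel_epi (((CohSite.push J K u).rightDerived 0).map S.g)).1 (this.trans comp_zero.symm)
    have hI : IsZero (((CohSite.push J K u).rightDerived 1).obj S.X₂) :=
      Functor.isZero_rightDerived_obj_injective_succ _ 0 S.X₂
    exact h1.isZero_X₂ hδ (hI.eq_of_tgt _ _)
  | succ q ih =>
    intro F hF
    let I : InjectivePresentation F := Classical.arbitrary _
    let S := ShortComplex.mk _ _ (cokernel.condition I.f)
    have hS : S.ShortExact := { exact := ShortComplex.exact_cokernel I.f }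
    have : Injective S.X₂ := I.injective
    have hQ : CohCx.IsTotallyAcyclic S.X₃ := totAcyc_X₃ J S hS hF
    have h1 := Δ.exact₁ S hS (q + 1) (q + 1 + 1) rfl
    have hI : IsZero (((CohSite.push J K u).rightDerived (q + 1 + 1)).obj S.X₂) :=
      Functor.isZero_rightDerived_obj_injective_succ _ (q + 1) S.X₂
    exact h1.isZero_X₂ ((ih S.X₃ hQ).eq_of_src _ _) (hI.eq_of_tgt _ _)

end StepA

section StepB

/-- The two right adjoints agree. -/
noncomputable def isoR : CohSite.push J K u ⋙ Rf K ≅
    Rf J ⋙ (Functor.whiskeringLeft Dᵒᵖ Cᵒᵖ (Type u)).obj u.op :=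
  NatIso.ofComponents (fun M => Iso.refl _) (by
    intro M N f
    rfl)

/-- Inverse image of the free sheaf on a presheaf is the free sheaf on the left Kan extension. -/
noncomputable def isoL : Lf K ⋙ u.sheafPullback AddCommGrpCat.{u} K J ≅ u.op.lan ⋙ Lf J :=
  ((adjf K).comp (u.sheafAdjunctionContinuous AddCommGrpCat.{u} K J)).leftAdjointUniq
    (((u.op.lanAdjunction (Type u)).comp (adjf J)).ofNatIsoRight (isoR J K u).symm)

end StepB

end helpers

open CategoryTheory.Limits in
/-- Let C and D be small sites, D having finite limits, and u : D ⥤ C a continuous functor which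
preserves finite limits and sends coverings to coverings (so that u defines a morphism of sites, and
of the associated topoi). If F is a flasque (totally acyclic) abelian sheaf on C, then its direct
image V ↦ F(u(V)) is a flasque abelian sheaf on D. -/
theorem result {C D : Type u} [SmallCategory C] [SmallCategory D]
    [HasFiniteLimits D] (J : GrothendieckTopology C) (K : GrothendieckTopology D) (u : D ⥤ C)
    (hu : CoverPreserving K J u) [PreservesFiniteLimits u] [u.IsContinuous K J]
    (F : Sheaf J AddCommGrpCat.{u}) (hF : CohCx.IsTotallyAcyclic F) :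
    CohCx.IsTotallyAcyclic ((CohSite.push J K u).obj F) := by
  let G := CohSite.push J K u
  let Fp := u.sheafPullback AddCommGrpCat.{u} K J
  let adj : Fp ⊣ G := u.sheafAdjunctionContinuous AddCommGrpCat.{u} K J
  have hFpl : PreservesFiniteLimits Fp :=
    Groth.Agent.Helper10.LanExact.preservesFiniteLimits_sheafPullback_ab u K J
  have hFpc : PreservesFiniteColimits Fp := by
    have : PreservesColimitsOfSize.{0, 0} Fp := adj.leftAdjoint_preservesColimits
    exact PreservesColimitsOfSize.preservesFiniteColimits _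
  have hGl : PreservesFiniteLimits G := by
    have : PreservesLimitsOfSize.{0, 0} G := adj.rightAdjoint_preservesLimits
    exact PreservesLimitsOfSize.preservesFiniteLimits _
  have hFpa : Fp.Additive := adj.left_adjoint_additive
  obtain ⟨Δ⟩ := Groth.Agent.S16463.result G
  have hY : ∀ q : ℕ, IsZero ((G.rightDerived (q + 1)).obj F) := fun q =>
    isZero_rightDerived_of_totAcyc J K u Δ q F hF
  intro K' p
  have hbij := Groth.Agent.Helper10.ExtLeray.counitMap_bijective.{u, u} adj Δ
    ((Lf K).obj K'.obj) (p + 1) F hY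
  have hsub : Subsingleton (Abelian.Ext.{u} (Fp.obj ((Lf K).obj K'.obj)) F (p + 1)) :=
    subsingleton_ext_of_iso ((isoL J K u).app K'.obj) (p + 1)
      (totAcyc_presheaf J F hF (u.op.lan.obj K'.obj) p)
  exact hbij.injective.subsingleton

end Groth.Agent.S3090
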