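import Groth.Statements.S3093
-- import your own Groth.Agent.* helpers here

set_option autoImplicit false
universe u
open CohTop

namespace Groth.Agent.S3093

/-- Let X be a topological space and K ⊆ X a compact subset such that any two distinct points of K have
disjoint open neighbourhoods in X. If A and B are subsets of K that are closed in K and W is an open
subset of X containing A ∩ B, then there are open subsets U ⊇ A and V ⊇ B of X with U ∩ V ⊆ W. -/
theorem result {X : Type u} [TopologicalSpace X] {K : Set X} (hK : IsCompact K)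
    (hsep : ∀ x ∈ K, ∀ y ∈ K, x ≠ y → ∃ U V : Set X, IsOpen U ∧ IsOpen V ∧ x ∈ U ∧ y ∈ V ∧ Disjoint U V)
    {A B W : Set X} (hA : A ⊆ K) (hB : B ⊆ K) (hAc : IsClosed (Subtype.val ⁻¹' A : Set K))
    (hBc : IsClosed (Subtype.val ⁻¹' B : Set K)) (hW : IsOpen W) (hABW : A ∩ B ⊆ W) :
    ∃ U V : Set X, IsOpen U ∧ IsOpen V ∧ A ⊆ U ∧ B ⊆ V ∧ U ∩ V ⊆ W := by
  obtain ⟨CA, hCA, hCA'⟩ := isClosed_induced_iff.mp hAc
  obtain ⟨CB, hCB, hCB'⟩ := isClosed_induced_iff.mp hBc
  have hAeq : A = K ∩ CA := by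
    ext x
    constructor
    · intro hx
      refine ⟨hA hx, ?_⟩
      have : (⟨x, hA hx⟩ : K) ∈ Subtype.val ⁻¹' A := hx
      rw [← hCA'] at this
      exact this
    · rintro ⟨hxK, hxC⟩
      have : (⟨x, hxK⟩ : K) ∈ Subtype.val ⁻¹' CA := hxC
      rw [hCA'] at this
      exact this
  have hBeq : B = K ∩ CB := by
    ext x
    constructor
    · intro hx
      refine ⟨hB hx, ?_⟩
      have : (⟨x, hB hx⟩ : K) ∈ Subtype.val ⁻¹' B := hx
      rw [← hCB'] at this
      exact this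
    · rintro ⟨hxK, hxC⟩
      have : (⟨x, hxK⟩ : K) ∈ Subtype.val ⁻¹' CB := hxC
      rw [hCB'] at this
      exact this
  have hA'c : IsCompact (A \ W) := by
    have : A \ W = K ∩ (CA ∩ Wᶜ) := by
      rw [hAeq]; ext x; simp only [Set.mem_diff, Set.mem_inter_iff, Set.mem_compl_iff]; tauto
    rw [this]
    exact hK.inter_right (hCA.inter hW.isClosed_compl)
  have hB'c : IsCompact (B \ W) := by
    have : B \ W = K ∩ (CB ∩ Wᶜ) := by
      rw [hBeq]; ext x; simp only [Set.mem_diff, Set.mem_inter_iff, Set.mem_compl_iff]; tauto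
    rw [this]
    exact hK.inter_right (hCB.inter hW.isClosed_compl)
  have hsepn : SeparatedNhds (A \ W) (B \ W) := by
    rw [separatedNhds_iff_disjoint, hA'c.disjoint_nhdsSet_left]
    intro x hx
    rw [hB'c.disjoint_nhdsSet_right]
    intro y hy
    have hxy : x ≠ y := by
      rintro rfl
      exact hx.2 (hABW ⟨hx.1, hy.1⟩)
    obtain ⟨U, V, hU, hV, hxU, hyV, hUV⟩ := hsep x (hA hx.1) y (hB hy.1) hxy
    exact Filter.disjoint_of_disjoint_of_mem hUV (hU.mem_nhds hxU) (hV.mem_nhds hyV)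
  obtain ⟨U, V, hU, hV, hAU, hBV, hUV⟩ := hsepn
  refine ⟨U ∪ W, V ∪ W, hU.union hW, hV.union hW, ?_, ?_, ?_⟩
  · intro x hx
    by_cases hxW : x ∈ W
    · exact Or.inr hxW
    · exact Or.inl (hAU ⟨hx, hxW⟩)
  · intro x hx
    by_cases hxW : x ∈ W
    · exact Or.inr hxW
    · exact Or.inl (hBV ⟨hx, hxW⟩)
  · rintro x ⟨hx1 | hx1, hx2 | hx2⟩
    · exact absurd hx2 (Set.disjoint_left.mp hUV hx1)
    · exact hx2
    · exact hx1
    · exact hx1

end Groth.Agent.S3093
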