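import Groth.Statements.S5189
import Mathlib
import Groth.Agent.S0101
import Groth.Agent.S16463
import Groth.Agent.S6658
import Groth.Agent.S5176

set_option autoImplicit false
universe u
open CategoryTheory CategoryTheory.Limits AlgebraicGeometry Opposite
open EtDepth

namespace Groth.Agent.S5189

section helpers

section general

universe v₁ u₁ v₂ u₂

variable {B : Type u₁} [Category.{v₁} B] [Abelian B] [EnoughInjectives B]
  {C : Type u₂} [Category.{v₂} C] [Abelian C]
  (Ψ : B ⥤ C) [Ψ.Additive] [PreservesFiniteLimits Ψ]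

/-- `Ψ`-acyclic objects. -/
def Acyc (M : B) : Prop := ∀ q : ℕ, IsZero ((Ψ.rightDerived (q + 1)).obj M)

omit [PreservesFiniteLimits Ψ] in
lemma acyc_of_iso {M N : B} (e : M ≅ N) (h : Acyc Ψ M) : Acyc Ψ N :=
  fun q => (h q).of_iso ((Ψ.rightDerived (q + 1)).mapIso e).symm

omit [PreservesFiniteLimits Ψ] in
lemma acyc_of_isZero {M : B} (h : IsZero M) : Acyc Ψ M :=
  fun q => (Ψ.rightDerived (q + 1)).map_isZero h

omit [PreservesFiniteLimits Ψ] in
lemma acyc_X₃ (Δ : RDer.DerivedLES Ψ) (S : ShortComplex B) (hS : S.ShortExact)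
    (h1 : Acyc Ψ S.X₁) (h2 : Acyc Ψ S.X₂) : Acyc Ψ S.X₃ := by
  intro q
  have hex := Δ.exact₃ S hS (q + 1) (q + 2) rfl
  exact hex.isZero_X₂ ((h2 q).eq_of_src _ _) ((h1 (q + 1)).eq_of_tgt _ _)

lemma epi_map_g (Δ : RDer.DerivedLES Ψ) (S : ShortComplex B) (hS : S.ShortExact)
    (h1 : Acyc Ψ S.X₁) : Epi (Ψ.map S.g) := by
  have hex := Δ.exact₃ S hS 0 1 rfl
  have hepi : Epi ((Ψ.rightDerived 0).map S.g) := hex.epi_f ((h1 0).eq_of_tgt _ _)
  have nat := Ψ.toRightDerivedZero.naturality S.g
  have e : Ψ.map S.g = Ψ.toRightDerivedZero.app S.X₂ ≫ (Ψ.rightDerived 0).map S.g ≫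
      inv (Ψ.toRightDerivedZero.app S.X₃) := by
    rw [← Category.assoc, ← nat, Category.assoc, IsIso.hom_inv_id, Category.comp_id]
  rw [e]
  infer_instance

omit [EnoughInjectives B] in
lemma left_exact_map (S : ShortComplex B) (hS : S.ShortExact) :
    (S.map Ψ).Exact ∧ Mono (Ψ.map S.f) :=
  (Functor.preservesFiniteLimits_iff_forall_exact_map_and_mono Ψ).1 inferInstance S hS

omit [EnoughInjectives B] in
lemma isIso_cyclesComparison {ι' : Type*} {c : ComplexShape ι'} (K : HomologicalComplex B c)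
    (i : ι') : IsIso (RDer.cyclesComparison Ψ K i) := by
  have hm : Mono (Ψ.map (K.iCycles i)) := inferInstance
  refine ⟨((Ψ.mapHomologicalComplex c).obj K).liftCycles (Ψ.map (K.iCycles i)) (c.next i) rfl (by
      show Ψ.map (K.iCycles i) ≫ Ψ.map (K.d i (c.next i)) = 0
      rw [← Ψ.map_comp, K.iCycles_d, Ψ.map_zero]), ?_, ?_⟩
  · apply (cancel_mono (((Ψ.mapHomologicalComplex c).obj K).iCycles i)).1
    rw [Category.assoc, HomologicalComplex.liftCycles_i]
    erw [RDer.cyclesComparison_i]
    rw [Category.id_comp]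
  · apply (cancel_mono (Ψ.map (K.iCycles i))).1
    rw [Category.assoc]
    erw [RDer.cyclesComparison_i]
    erw [HomologicalComplex.liftCycles_i]
    rw [Category.id_comp]

variable (K : CochainComplex B ℕ)

omit [EnoughInjectives B] in
lemma cyclesSES_shortExact (m : ℕ) (h : IsZero (K.homology (m + 1))) :
    (ShortComplex.mk (K.iCycles m) (K.toCycles m (m + 1)) (by
      rw [← cancel_mono (K.iCycles (m + 1)), Category.assoc, K.toCycles_i, K.iCycles_d,
        zero_comp])).ShortExact := by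
  have hnext : (ComplexShape.up ℕ).next m = m + 1 := by simp
  have hprev : (ComplexShape.up ℕ).prev (m + 1) = m := by simp
  have hker : (ShortComplex.mk (K.iCycles m) (K.d m (m + 1)) (K.iCycles_d m (m + 1))).Exact :=
    ShortComplex.exact_of_f_is_kernel _ (K.cyclesIsKernel m (m + 1) hnext)
  have hcok : (ShortComplex.mk (K.toCycles m (m + 1)) (K.homologyπ (m + 1))
      (K.toCycles_comp_homologyπ m (m + 1))).Exact :=
    ShortComplex.exact_of_g_is_cokernel _ (K.homologyIsCokernel m (m + 1) hprev)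
  have hepi : Epi (K.toCycles m (m + 1)) := hcok.epi_f (h.eq_of_tgt _ _)
  refine { exact := ?_, mono_f := inferInstanceAs (Mono (K.iCycles m)), epi_g := hepi }
  let φ : ShortComplex.mk (K.iCycles m) (K.toCycles m (m + 1)) (by
      rw [← cancel_mono (K.iCycles (m + 1)), Category.assoc, K.toCycles_i, K.iCycles_d,
        zero_comp]) ⟶
      ShortComplex.mk (K.iCycles m) (K.d m (m + 1)) (K.iCycles_d m (m + 1)) :=
    { τ₁ := 𝟙 _
      τ₂ := 𝟙 _
      τ₃ := K.iCycles (m + 1)
      comm₁₂ := by simp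
      comm₂₃ := by simp }
  have : Epi φ.τ₁ := inferInstanceAs (Epi (𝟙 _))
  have : IsIso φ.τ₂ := inferInstanceAs (IsIso (𝟙 _))
  have : Mono φ.τ₃ := inferInstanceAs (Mono (K.iCycles (m + 1)))
  exact (ShortComplex.exact_iff_of_epi_of_isIso_of_mono φ).2 hker

omit [PreservesFiniteLimits Ψ] in
lemma acyc_cycles (Δ : RDer.DerivedLES Ψ) (hK : ∀ i, Acyc Ψ (K.X i)) :
    ∀ m : ℕ, (∀ p, p ≤ m → IsZero (K.homology p)) → Acyc Ψ (K.cycles m) := by
  intro m
  induction m with
  | zero =>
    intro h
    apply acyc_of_isZero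
    have hprev : ¬ (ComplexShape.up ℕ).Rel ((ComplexShape.up ℕ).prev 0) 0 := by simp
    have hcok : (ShortComplex.mk (K.toCycles ((ComplexShape.up ℕ).prev 0) 0) (K.homologyπ 0)
        (K.toCycles_comp_homologyπ _ 0)).Exact :=
      ShortComplex.exact_of_g_is_cokernel _ (K.homologyIsCokernel _ 0 rfl)
    have hmono : Mono (K.homologyπ 0) := hcok.mono_g (K.toCycles_eq_zero hprev)
    exact IsZero.of_mono (K.homologyπ 0) (h 0 le_rfl)
  | succ m ih =>
    intro h
    have hS := cyclesSES_shortExact K m (h (m + 1) le_rfl)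
    exact acyc_X₃ Ψ Δ _ hS (ih (fun p hp => h p (by omega))) (hK m)

omit [PreservesFiniteLimits Ψ] in
lemma acyc_kernel_d (Δ : RDer.DerivedLES Ψ) (hK : ∀ i, Acyc Ψ (K.X i)) (n : ℕ)
    (hH : ∀ p, p < n → IsZero (K.homology p)) (i : ℕ) (hi : (ComplexShape.up ℕ).prev n = i) :
    Acyc Ψ (kernel (K.d i n)) := by
  cases n with
  | zero =>
    have h0 : K.d i 0 = 0 := K.shape _ _ (by simp)
    have : IsIso (kernel.ι (K.d i 0)) :=
      KernelFork.IsLimit.isIso_ι (KernelFork.ofι (kernel.ι (K.d i 0)) (kernel.condition _))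
        (kernelIsKernel _) h0
    exact acyc_of_iso Ψ (asIso (kernel.ι (K.d i 0))).symm (hK i)
  | succ m =>
    have him : i = m := by rw [← hi]; simp
    subst him
    have hnext : (ComplexShape.up ℕ).next i = i + 1 := by simp
    exact acyc_of_iso Ψ (IsLimit.conePointUniqueUpToIso
      (t := KernelFork.ofι (kernel.ι (K.d i (i + 1))) (kernel.condition _))
      (K.cyclesIsKernel i (i + 1) hnext)
      (kernelIsKernel (K.d i (i + 1)))) (acyc_cycles Ψ K Δ hK i (fun p hp => hH p (by omega)))

theorem isIso_homologyComparison (Δ : RDer.DerivedLES Ψ) (hK : ∀ i, Acyc Ψ (K.X i)) (n : ℕ)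
    (hH : ∀ p, p < n → IsZero (K.homology p)) : IsIso (RDer.homologyComparison Ψ K n) := by
  have hcok : IsColimit (CokernelCofork.ofπ (K.homologyπ n)
      (K.toCycles_comp_homologyπ ((ComplexShape.up ℕ).prev n) n)) :=
    K.homologyIsCokernel _ n rfl
  have he : kernel.lift (K.homologyπ n) (K.toCycles ((ComplexShape.up ℕ).prev n) n)
      (K.toCycles_comp_homologyπ _ n) ≫ kernel.ι (K.homologyπ n) =
        K.toCycles ((ComplexShape.up ℕ).prev n) n := kernel.lift_ι _ _ _
  have hexact : (ShortComplex.mk (K.toCycles ((ComplexShape.up ℕ).prev n) n) (K.homologyπ n)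
      (K.toCycles_comp_homologyπ _ n)).Exact := ShortComplex.exact_of_g_is_cokernel _ hcok
  have hepi_e : Epi (kernel.lift (K.homologyπ n) (K.toCycles ((ComplexShape.up ℕ).prev n) n)
      (K.toCycles_comp_homologyπ _ n)) := (ShortComplex.exact_iff_epi_kernel_lift _).1 hexact
  have hS1 : (ShortComplex.mk (kernel.ι (K.homologyπ n)) (K.homologyπ n)
      (kernel.condition _)).ShortExact :=
    { exact := ShortComplex.exact_kernel (K.homologyπ n)
      mono_f := inferInstanceAs (Mono (kernel.ι (K.homologyπ n)))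
      epi_g := inferInstanceAs (Epi (K.homologyπ n)) }
  have hS2 : (ShortComplex.mk (kernel.ι (kernel.lift (K.homologyπ n)
      (K.toCycles ((ComplexShape.up ℕ).prev n) n) (K.toCycles_comp_homologyπ _ n)))
      (kernel.lift (K.homologyπ n) (K.toCycles ((ComplexShape.up ℕ).prev n) n)
        (K.toCycles_comp_homologyπ _ n)) (kernel.condition _)).ShortExact :=
    { exact := ShortComplex.exact_kernel _
      mono_f := inferInstanceAs (Mono (kernel.ι _))
      epi_g := hepi_e }
  have hW : Acyc Ψ (kernel (kernel.lift (K.homologyπ n)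
      (K.toCycles ((ComplexShape.up ℕ).prev n) n) (K.toCycles_comp_homologyπ _ n))) := by
    have hd : kernel.lift (K.homologyπ n) (K.toCycles ((ComplexShape.up ℕ).prev n) n)
        (K.toCycles_comp_homologyπ _ n) ≫ (kernel.ι (K.homologyπ n) ≫ K.iCycles n) =
          K.d ((ComplexShape.up ℕ).prev n) n := by
      rw [← Category.assoc, he]
      exact K.toCycles_i _ n
    exact acyc_of_iso Ψ (kernelIsoOfEq hd.symm ≪≫ kernelCompMono _ _)
      (acyc_kernel_d Ψ K Δ hK n hH _ rfl)
  have hBn : Acyc Ψ (kernel (K.homologyπ n)) := acyc_X₃ Ψ Δ _ hS2 hW (hK _)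
  have hepiΨe := epi_map_g Ψ Δ _ hS2 hW
  have hepiΨπ : Epi (Ψ.map (K.homologyπ n)) := epi_map_g Ψ Δ _ hS1 hBn
  have hex1 := (left_exact_map Ψ _ hS1).1
  have hex2 : (ShortComplex.mk (Ψ.map (K.toCycles ((ComplexShape.up ℕ).prev n) n))
      (Ψ.map (K.homologyπ n))
      (by rw [← Ψ.map_comp, K.toCycles_comp_homologyπ, Ψ.map_zero])).Exact := by
    let φ : ShortComplex.mk (Ψ.map (K.toCycles ((ComplexShape.up ℕ).prev n) n))
        (Ψ.map (K.homologyπ n))
        (by rw [← Ψ.map_comp, K.toCycles_comp_homologyπ, Ψ.map_zero]) ⟶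
        (ShortComplex.mk (kernel.ι (K.homologyπ n)) (K.homologyπ n)
          (kernel.condition _)).map Ψ :=
      { τ₁ := Ψ.map (kernel.lift (K.homologyπ n) (K.toCycles ((ComplexShape.up ℕ).prev n) n)
          (K.toCycles_comp_homologyπ _ n))
        τ₂ := 𝟙 _
        τ₃ := 𝟙 _
        comm₁₂ := by
          show Ψ.map _ ≫ Ψ.map (kernel.ι (K.homologyπ n)) = Ψ.map _ ≫ 𝟙 _
          rw [Category.comp_id, ← Ψ.map_comp, he]
        comm₂₃ := by
          show 𝟙 _ ≫ Ψ.map (K.homologyπ n) = Ψ.map (K.homologyπ n) ≫ 𝟙 _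
          rw [Category.comp_id, Category.id_comp] }
    have : Epi φ.τ₁ := hepiΨe
    have : IsIso φ.τ₂ := inferInstanceAs (IsIso (𝟙 _))
    have : Mono φ.τ₃ := inferInstanceAs (Mono (𝟙 _))
    exact (ShortComplex.exact_iff_of_epi_of_isIso_of_mono φ).2 hex1
  have hcC : IsIso (RDer.cyclesComparison Ψ K n) := isIso_cyclesComparison Ψ K n
  have hz3 : ((Ψ.mapHomologicalComplex (ComplexShape.up ℕ)).obj K).toCycles
      ((ComplexShape.up ℕ).prev n) n ≫
      (RDer.cyclesComparison Ψ K n ≫ Ψ.map (K.homologyπ n)) = 0 := by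
    rw [RDer.toCycles_cyclesComparison_assoc]
    show Ψ.map (K.toCycles _ n) ≫ Ψ.map (K.homologyπ n) = 0
    rw [← Ψ.map_comp, K.toCycles_comp_homologyπ, Ψ.map_zero]
  have hex3 : (ShortComplex.mk _ _ hz3).Exact := by
    let φ : ShortComplex.mk _ _ hz3 ⟶
        ShortComplex.mk (Ψ.map (K.toCycles ((ComplexShape.up ℕ).prev n) n))
        (Ψ.map (K.homologyπ n))
        (by rw [← Ψ.map_comp, K.toCycles_comp_homologyπ, Ψ.map_zero]) :=
      { τ₁ := 𝟙 _
        τ₂ := RDer.cyclesComparison Ψ K n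
        τ₃ := 𝟙 _
        comm₁₂ := by
          show 𝟙 _ ≫ Ψ.map (K.toCycles _ n) = _ ≫ RDer.cyclesComparison Ψ K n
          rw [Category.id_comp]
          exact (RDer.toCycles_cyclesComparison Ψ K n).symm
        comm₂₃ := by
          show RDer.cyclesComparison Ψ K n ≫ Ψ.map (K.homologyπ n) =
            (RDer.cyclesComparison Ψ K n ≫ Ψ.map (K.homologyπ n)) ≫ 𝟙 _
          rw [Category.comp_id] }
    have : Epi φ.τ₁ := inferInstanceAs (Epi (𝟙 _))
    have : IsIso φ.τ₂ := hcC
    have : Mono φ.τ₃ := inferInstanceAs (Mono (𝟙 _))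
    exact (ShortComplex.exact_iff_of_epi_of_isIso_of_mono φ).2 hex2
  have hq_epi : Epi (RDer.cyclesComparison Ψ K n ≫ Ψ.map (K.homologyπ n)) := epi_comp _ _
  have hcok2 : IsColimit (CokernelCofork.ofπ
      (RDer.cyclesComparison Ψ K n ≫ Ψ.map (K.homologyπ n)) hz3) := by
    haveI : Epi (ShortComplex.mk _ _ hz3).g := hq_epi
    exact hex3.gIsCokernel
  exact (IsColimit.coconePointUniqueUpToIso
    (((Ψ.mapHomologicalComplex (ComplexShape.up ℕ)).obj K).homologyIsCokernel
      ((ComplexShape.up ℕ).prev n) n rfl) hcok2).isIso_hom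

end general

section specific

open Groth.Agent.Helper10

variable {X U : Scheme.{u}} (j : U ⟶ X) [IsOpenImmersion j] [EtCoh.BCCont j]

/-- Global sections. -/
noncomputable abbrev Gam (X : Scheme.{u}) : EtCoh.Ab X ⥤ AddCommGrpCat.{u+1} :=
  sheafToPresheaf X.smallEtaleTopology AddCommGrpCat.{u+1} ⋙
    (evaluation X.Etaleᵒᵖ AddCommGrpCat.{u+1}).obj (op (EtCoh.top X))

lemma epi_Gam_unit (I : EtCoh.Ab X) [Injective I] :
    Epi ((Gam X).map (EtDual.unitApp j I)) := by
  have h := Adjunction.unit_leftAdjointUniq_hom_app (EtCoh.pullPushAdj j) (EtLoc.resPushAdj j) I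
  have e : EtDual.unitApp j I = (EtLoc.resPushAdj j).unit.app I ≫
      (EtCoh.push j).map ((Adjunction.leftAdjointUniq (EtCoh.pullPushAdj j)
        (EtLoc.resPushAdj j)).inv.app I) := by
    rw [← h, Category.assoc, ← Functor.map_comp, Iso.hom_inv_id_app, CategoryTheory.Functor.map_id]
    exact (Category.comp_id _).symm
  rw [e, Functor.map_comp]
  have h1 : Epi ((Gam X).map ((EtLoc.resPushAdj j).unit.app I)) := by
    show Epi (((EtLoc.resPushAdj j).unit.app I).hom.app (op (EtCoh.top X)))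
    rw [Groth.Agent.S6658.unit_app_app, AddCommGrpCat.epi_iff_surjective]
    have := Groth.Agent.S6658.mono_counit j (EtCoh.top X)
    exact Flasque.surjective_map_of_mono.{u+1} X.smallEtaleTopology I _
  exact epi_comp _ _

lemma acyc_secSupp_injective (Δ : RDer.DerivedLES (Gam X)) (I : EtCoh.Ab X) [Injective I] :
    Acyc (Gam X) ((EtDual.secSupp j).obj I) := by
  have hpull : PreservesFiniteLimits (EtCoh.pull j) := Groth.Agent.S0101.result j
  have hpm : (EtCoh.pull j).PreservesMonomorphisms := inferInstance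
  have hI3 : Injective ((EtCoh.push j).obj ((EtCoh.pull j).obj I)) := by
    haveI := EtLoc.injective_pull j I
    exact Injective.injective_of_adjoint (EtCoh.pullPushAdj j) _
  have hS : (ShortComplex.mk (kernel.ι (EtDual.unitApp j I)) (EtDual.unitApp j I)
      (kernel.condition _)).ShortExact :=
    { exact := ShortComplex.exact_kernel (EtDual.unitApp j I)
      mono_f := inferInstanceAs (Mono (kernel.ι (EtDual.unitApp j I)))
      epi_g := Groth.Agent.S6658.epi_unitApp j I }
  intro q
  cases q with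
  | zero =>
    have hepi0 : Epi (((Gam X).rightDerived 0).map (EtDual.unitApp j I)) := by
      have nat := (Gam X).toRightDerivedZero.naturality (EtDual.unitApp j I)
      have e : ((Gam X).rightDerived 0).map (EtDual.unitApp j I) =
          inv ((Gam X).toRightDerivedZero.app I) ≫ (Gam X).map (EtDual.unitApp j I) ≫
            (Gam X).toRightDerivedZero.app _ := by
        rw [nat, IsIso.inv_hom_id_assoc]
      rw [e]
      haveI := epi_Gam_unit j I
      infer_instance
    have hδ : Δ.δ _ hS 0 1 rfl = 0 := by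
      have hc := Δ.comp_δ _ hS 0 1 rfl
      exact (cancel_epi _).1 (hc.trans comp_zero.symm)
    have hex := Δ.exact₁ _ hS 0 1 rfl
    exact hex.isZero_X₂ hδ ((Functor.isZero_rightDerived_obj_injective_succ (Gam X) 0 I).eq_of_tgt _ _)
  | succ q =>
    have hex := Δ.exact₁ _ hS (q + 1) (q + 2) rfl
    exact hex.isZero_X₂
      ((Functor.isZero_rightDerived_obj_injective_succ (Gam X) q _).eq_of_src _ _)
      ((Functor.isZero_rightDerived_obj_injective_succ (Gam X) (q + 1) I).eq_of_tgt _ _)

theorem main (F : EtCoh.Ab X) (n : ℕ) (h : EtDepth.DepthGE j F n) :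
    IsIso (RDer.edgeOut (EtDual.secSupp j) (Gam X) n F) := by
  obtain ⟨Δ⟩ := Groth.Agent.S16463.result (Gam X)
  have hcmp : IsIso (RDer.homologyComparison (Gam X)
      (((EtDual.secSupp j).mapHomologicalComplex _).obj (injectiveResolution F).cocomplex) n) := by
    apply isIso_homologyComparison (Gam X) _ Δ
    · intro i
      haveI : Injective ((injectiveResolution F).cocomplex.X i) :=
        (injectiveResolution F).injective i
      exact acyc_secSupp_injective j Δ _
    · intro p hp
      exact (h p hp).of_iso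
        ((injectiveResolution F).isoRightDerivedObj (EtDual.secSupp j) p).symm
  unfold RDer.edgeOut
  have h1 : IsIso (((injectiveResolution F).isoRightDerivedObj
    (EtDual.secSupp j ⋙ Gam X) n).hom) := inferInstance
  have h3 : IsIso ((Gam X).map
    ((injectiveResolution F).isoRightDerivedObj (EtDual.secSupp j) n).inv) := inferInstance
  exact @IsIso.comp_isIso _ _ _ _ _ _ _ h1 (@IsIso.comp_isIso _ _ _ _ _ _ _ hcmp h3)

end specific

end helpers

/-- For an abelian sheaf. Let X be a scheme, j : U → X an open immersion with closed complement Y, F an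
abelian sheaf on the small étale site of X and n ≥ 0, and suppose the Y-étale depth of F is ≥ n (the
local cohomology sheaves H^p_Y(F) vanish for p < n). Then the edge homomorphism H^n_Y(X, F) → H^0(X,
H^n_Y(F)) of the spectral sequence of the composite functor Γ(X, −) ∘ Γ_Y, from the n-th local
cohomology group to the group of global sections of the n-th local cohomology sheaf, is an
isomorphism. -/
theorem result {X U : Scheme.{u}} (j : U ⟶ X) [IsOpenImmersion j] [EtCoh.BCCont j] (F : EtCoh.Ab X) (n : ℕ) (h : EtDepth.DepthGE j F n) : IsIso (RDer.edgeOut (EtDual.secSupp j) (sheafToPresheaf X.smallEtaleTopology AddCommGrpCat.{u+1} ⋙ (evaluation X.Etaleᵒᵖ AddCommGrpCat.{u+1}).obj (op (EtCoh.top X))) n F) := by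
  exact main j F n h

end Groth.Agent.S5189
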