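import Groth.Statements.S3142
import Groth.Agent.S5189
import Groth.Agent.S13507
import Groth.Agent.Lib.Helper10.CycloCover
import Groth.Agent.Lib.Helper10.TensConst
import Groth.Agent.Lib.Helper10.ResTensor
import Groth.Agent.Lib.Helper10.LocCohLoc

set_option autoImplicit false
universe u
open CategoryTheory CategoryTheory.Limits AlgebraicGeometry Opposite
open EtDual

namespace Groth.Agent.S3142

section helpers

open Groth.Agent.Helper10 Groth.Agent.Helper10.BCSh

lemma isZero_sections' {Y : Scheme.{u}} (G : EtCoh.Ab Y) (h : IsZero G) (W : Y.Etale) :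
    IsZero (G.obj.obj (op W)) := by
  rw [IsZero.iff_id_eq_zero]
  have h0 : 𝟙 G = 0 := h.eq_of_src _ _
  have := congrArg (fun φ => φ.hom.app (op W)) h0
  exact this

/-- on a scheme with a root of `Φ_n`, the Tate twists are constant -/
lemma tate_iso_const (V : Scheme.{u}) (n : ℕ) (hn : 1 ≤ n) (hunit : IsUnit (n : Γ(V, ⊤)))
    (ζ : Γ(V, ⊤)) (hζ : Polynomial.aeval ζ (Polynomial.cyclotomic n ℤ) = 0) (c : ℕ) :
    Nonempty (EtDual.tate V n c ≅ EtCoh.const V (ZMod n)) := by
  haveI : NeZero n := ⟨by omega⟩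
  induction c with
  | zero => exact ⟨Iso.refl _⟩
  | succ c ih =>
    obtain ⟨e⟩ := ih
    obtain ⟨m⟩ := Groth.Agent.S13507.result V n hn hunit ζ hζ
    exact ⟨TensConst.tensorAbIso e m ≪≫ TensConst.tensConstIso V n⟩

/-- restriction of Tate twists along an étale morphism -/
lemma res_tate {V X : Scheme.{u}} (k : V ⟶ X) [Etale k] (n c : ℕ) :
    Nonempty ((EtLoc.res k).obj (EtDual.tate X n c) ≅ EtDual.tate V n c) := by
  induction c with
  | zero => exact ⟨((EtLoc.pullIsoRes k).app _).symm ≪≫ EtCore.pullConst k (ZMod n)⟩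
  | succ c ih =>
    obtain ⟨e⟩ := ih
    exact ⟨ResTensor.resTensorIso k _ _ ≪≫ TensConst.tensorAbIso e (ResTensor.resMuIso k n)⟩

variable {X U : Scheme.{u}} (j : U ⟶ X) [IsOpenImmersion j] [EtCoh.BCCont j]

lemma isZero_res_locCoh_tate {V : Scheme.{u}} (k : V ⟶ X) [Etale k] (n : ℕ) (hn : 1 ≤ n)
    (hunit : IsUnit (n : Γ(V, ⊤))) (ζ : Γ(V, ⊤))
    (hζ : Polynomial.aeval ζ (Polynomial.cyclotomic n ℤ) = 0) (c N : ℕ)
    (hX : ∀ p : ℕ, p < N → IsZero ((EtDual.locCoh j p).obj (EtCoh.const X (ZMod n))))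
    (p : ℕ) (hp : p < N) :
    IsZero ((EtLoc.res k).obj ((EtDual.locCoh j p).obj (EtDual.tate X n c))) := by
  have sq : IsPullback (pullback.fst j k) (pullback.snd j k) j k := IsPullback.of_hasPullback j k
  haveI : IsOpenImmersion (pullback.snd j k) := inferInstance
  haveI : Etale (pullback.fst j k) := inferInstance
  obtain ⟨e0⟩ := LocCohLoc.res_locCoh j k (pullback.snd j k) (pullback.fst j k) sq
    (EtCoh.const X (ZMod n)) p
  have hz : IsZero ((EtLoc.res k).obj ((EtDual.locCoh j p).obj (EtCoh.const X (ZMod n)))) :=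
    (EtLoc.res k).map_isZero (hX p hp)
  have e2 : (EtLoc.res k).obj (EtCoh.const X (ZMod n)) ≅ EtCoh.const V (ZMod n) :=
    ((EtLoc.pullIsoRes k).app _).symm ≪≫ EtCore.pullConst k (ZMod n)
  have hV : IsZero ((EtDual.locCoh (pullback.snd j k) p).obj (EtCoh.const V (ZMod n))) :=
    (hz.of_iso e0.symm).of_iso ((EtDual.locCoh (pullback.snd j k) p).mapIso e2).symm
  obtain ⟨e⟩ := LocCohLoc.res_locCoh j k (pullback.snd j k) (pullback.fst j k) sq
    (EtDual.tate X n c) p
  obtain ⟨e3⟩ := res_tate k n c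
  obtain ⟨e4⟩ := tate_iso_const V n hn hunit ζ hζ c
  exact (hV.of_iso ((EtDual.locCoh (pullback.snd j k) p).mapIso (e3 ≪≫ e4))).of_iso e

lemma isEmpty_of_isUnit_zero (h : IsUnit ((0 : ℕ) : Γ(X, ⊤))) : IsEmpty X := by
  constructor
  intro x
  have h1 : X.basicOpen ((0 : ℕ) : Γ(X, ⊤)) = ⊤ := Scheme.basicOpen_of_isUnit X h
  rw [Nat.cast_zero, Scheme.basicOpen_zero] at h1
  have : x ∈ (⊤ : X.Opens) := trivial
  rw [← h1] at this
  exact this

theorem depth_tate (n : ℕ) (hn : IsUnit (n : Γ(X, ⊤))) (c N : ℕ)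
    (h : ∀ p : ℕ, p < N → IsZero ((EtDual.locCoh j p).obj (EtCoh.const X (ZMod n)))) :
    EtDepth.DepthGE j (EtDual.tate X n c) N := by
  intro p hp
  rcases Nat.eq_zero_or_pos n with h0 | hpos
  · subst h0
    haveI := isEmpty_of_isUnit_zero hn
    apply LocCohLoc.isZero_of_cover (ι := PEmpty.{u + 1}) (fun i => i.elim)
      (fun x => (IsEmpty.false x).elim)
    intro i
    exact i.elim
  · obtain ⟨W, hW, z, hz⟩ := CycloCover.exists_cover n X hn
    apply LocCohLoc.isZero_of_cover (ι := PUnit.{u + 1}) (fun _ => W)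
      (fun x => by
        obtain ⟨y, hy⟩ := hW x
        exact ⟨PUnit.unit, y, hy⟩)
    intro _ W'
    haveI : Etale W.hom := W.prop
    have hunit : IsUnit ((n : ℕ) : Γ(W.left, ⊤)) := by
      have := hn.map W.hom.appTop.hom
      rwa [map_natCast] at this
    have hzero := isZero_res_locCoh_tate j W.hom n hpos hunit z hz c N h p hp
    exact isZero_sections' _ hzero W'

theorem main [IsNoetherian X] [X.IsSeparated] (n : ℕ) (hn : IsUnit (n : Γ(X, ⊤))) (c : ℕ)
    (h : ∀ p : ℕ, p < 2 * c → IsZero ((EtDual.locCoh j p).obj (EtCoh.const X (ZMod n)))) :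
    Nonempty ((EtDual.HY j (2 * c)).obj (EtDual.tate X n c) ≅
      ((EtDual.locCoh j (2 * c)).obj (EtDual.tate X n c)).obj.obj (op (EtCoh.top X))) := by
  have hd := depth_tate j n hn c (2 * c) h
  have hiso := Groth.Agent.S5189.result j (EtDual.tate X n c) (2 * c) hd
  exact ⟨@asIso _ _ _ _ _ hiso⟩

end helpers

/-- Let X be a Noetherian separated scheme, n an integer invertible on X, j : U ⟶ X an open immersion
with closed complement Y, and c a natural number. If the local cohomology sheaves H^p_Y(X, ℤ/n)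
vanish for all p < 2c, then the local cohomology group H^{2c}_Y(X, ℤ/n(c)) is isomorphic to the
group of global sections of the local cohomology sheaf H^{2c}_Y(X, ℤ/n(c)). (The source's
isomorphism is the edge map of the spectral sequence H^p(Y, R^q i^!) ⇒ H^{p+q}_Y; here only the
existence of an isomorphism is asserted.) -/
theorem result {X U : Scheme.{u}} [IsNoetherian X] [X.IsSeparated] (j : U ⟶ X) [IsOpenImmersion j] [EtCoh.BCCont j]
    (n : ℕ) (hn : IsUnit (n : Γ(X, ⊤))) (c : ℕ) (h : ∀ p : ℕ, p < 2 * c → IsZero ((EtDual.locCoh j p).obj (EtCoh.const X (ZMod n)))) :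
    Nonempty ((EtDual.HY j (2 * c)).obj (EtDual.tate X n c) ≅
      ((EtDual.locCoh j (2 * c)).obj (EtDual.tate X n c)).obj.obj (op (EtCoh.top X))) := by
  exact main j n hn c h

end Groth.Agent.S3142
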