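import Groth.Statements.S3143
import Groth.Agent.S3142
import Groth.Agent.S5189
import Groth.Agent.S6658
import Groth.Agent.Lib.Helper10.SuppLES
import Groth.Agent.Lib.Helper10.Flasque
import Groth.Agent.Lib.Helper10.RDerComm

set_option autoImplicit false
universe u
open CategoryTheory CategoryTheory.Limits AlgebraicGeometry Opposite
open EtDual

namespace Groth.Agent.S3143

section helpers

open Groth.Agent.Helper10 Groth.Agent.Helper10.SuppLES

variable {X X' U : Scheme.{u}} (j : U ⟶ X) [IsOpenImmersion j] (k' : X' ⟶ X) [IsOpenImmersion k']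
  (j' : U ⟶ X') [IsOpenImmersion j'] (hfac : j' ≫ k' = j)

/-- `U ⟶ X'` in the small étale site of `X` -/
noncomputable def bm : ob j ⟶ ob k' := MorphismProperty.Over.homMk j' hfac trivial

lemma bm_ρ : bm j k' j' hfac ≫ ρ k' = ρ j := by
  apply MorphismProperty.Over.Hom.ext
  exact hfac

instance mono_ρ : Mono (ρ k') := by
  apply Groth.Agent.S6658.mono_of_mono_left
  show Mono k'
  infer_instance

lemma epi_rs_ρ (I : EtCoh.Ab X) [Injective I] : Epi ((rs (ρ k')).app I) := by
  rw [AddCommGrpCat.epi_iff_surjective]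
  exact Flasque.surjective_map_of_mono.{u + 1} X.smallEtaleTopology I (ρ k')

/-- evaluation after restriction -/
noncomputable def evResIso (Q : X'.Etale) :
    EtLoc.res k' ⋙ ev Q ≅ ev ((EtLoc.phi k').obj Q) :=
  NatIso.ofComponents (fun _ => Iso.refl _) (by
    intro F G φ
    exact (Category.comp_id ((EtLoc.res k' ⋙ ev Q).map φ)).trans
      (Category.id_comp ((ev ((EtLoc.phi k').obj Q)).map φ)).symm)

/-- `(X', 𝟙 ≫ k') ≅ (X', k')` -/
noncomputable def βiso : ob k' ≅ (EtLoc.phi k').obj (EtCoh.top X') :=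
  MorphismProperty.Over.isoMk (Iso.refl _) (by
    show 𝟙 X' ≫ (𝟙 X' ≫ k') = k'
    rw [Category.id_comp, Category.id_comp])

/-- `(U, j' ≫ k') ≅ (U, j)` -/
noncomputable def αiso : ob j ≅ (EtLoc.phi k').obj (ob j') :=
  MorphismProperty.Over.isoMk (Iso.refl _) (by
    show 𝟙 U ≫ (j' ≫ k') = j
    rw [Category.id_comp, hfac])

lemma α_β : (αiso j k' j' hfac).hom ≫ (EtLoc.phi k').map (ρ j') =
    bm j k' j' hfac ≫ (βiso k').hom := by
  apply MorphismProperty.Over.Hom.ext
  show 𝟙 U ≫ j' = j' ≫ 𝟙 X'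
  rw [Category.id_comp, Category.comp_id]

variable [EtCoh.BCCont j] [EtCoh.BCCont k'] [EtCoh.BCCont j']

/-- the third functor -/
noncomputable def iso₃ :
    EtLoc.res k' ⋙ EtDual.gammaSupp j' ≅ kerFun (rs (bm j k' j' hfac)) :=
  Functor.isoWhiskerLeft (EtLoc.res k') (gammaSuppIso j') ≪≫
    kerFunWhisker (EtLoc.res k') (rs (ρ j')) ≪≫
    kerFunIso (Functor.whiskerLeft (EtLoc.res k') (rs (ρ j'))) (rs (bm j k' j' hfac))
      (evResIso k' (EtCoh.top X') ≪≫ rsIso (βiso k'))
      (evResIso k' (ob j') ≪≫ rsIso (αiso j k' j' hfac)) (by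
        ext F : 2
        show ((EtLoc.res k').obj F).obj.map (ρ j').op ≫ 𝟙 _ ≫ F.obj.map (αiso j k' j' hfac).hom.op =
          (𝟙 _ ≫ F.obj.map (βiso k').hom.op) ≫ F.obj.map (bm j k' j' hfac).op
        rw [Category.id_comp, Category.id_comp]
        show F.obj.map ((EtLoc.phi k').map (ρ j')).op ≫ F.obj.map (αiso j k' j' hfac).hom.op =
          F.obj.map (βiso k').hom.op ≫ F.obj.map (bm j k' j' hfac).op
        rw [← Functor.map_comp, ← Functor.map_comp, ← op_comp, ← op_comp, α_β])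

lemma isZero_sections' {Y : Scheme.{u}} (G : EtCoh.Ab Y) (h : IsZero G) (W : Y.Etale) :
    IsZero (G.obj.obj (op W)) := by
  rw [IsZero.iff_id_eq_zero]
  have h0 : 𝟙 G = 0 := h.eq_of_src _ _
  have := congrArg (fun φ => φ.hom.app (op W)) h0
  exact this

omit [EtCoh.BCCont j'] [IsOpenImmersion j'] in
/-- vanishing of `H^i_Z(X, F)` in the range of the depth -/
lemma isZero_HY_of_depth (F : EtCoh.Ab X) (N : ℕ) (hd : EtDepth.DepthGE k' F N) (i : ℕ)
    (hi : i < N) : IsZero ((EtDual.HY k' i).obj F) := by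
  have hd' : EtDepth.DepthGE k' F i := fun p hp => hd p (by omega)
  have hiso := Groth.Agent.S5189.result k' F i hd'
  have hz : IsZero ((EtDual.locCoh k' i).obj F) := hd i hi
  have hz' : IsZero (((EtDual.locCoh k' i).obj F).obj.obj (op (EtCoh.top X))) :=
    isZero_sections' _ hz _
  exact hz'.of_iso (@asIso _ _ _ _ _ hiso)

include hfac in
theorem main (n : ℕ) (hn : IsUnit (n : Γ(X, ⊤))) (c : ℕ)
    (hZ : ∀ p : ℕ, p ≤ 2 * c + 1 →
      IsZero ((EtDual.locCoh k' p).obj (EtCoh.const X (ZMod n)))) :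
    Nonempty ((EtDual.HY j (2 * c)).obj (EtDual.tate X n c) ≅
      (EtDual.HY j' (2 * c)).obj (EtDual.tate X' n c)) := by
  have hd : EtDepth.DepthGE k' (EtDual.tate X n c) (2 * c + 2) :=
    Groth.Agent.S3142.depth_tate k' n hn c (2 * c + 2) (fun p hp => hZ p (by omega))
  have z0 : IsZero (((kerFun (rs (ρ k'))).rightDerived (2 * c)).obj (EtDual.tate X n c)) :=
    (isZero_HY_of_depth k' _ _ hd (2 * c) (by omega)).of_iso
      ((RDer.rightDerivedIso (gammaSuppIso k') (2 * c)).app (EtDual.tate X n c)).symm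
  have z1 : IsZero (((kerFun (rs (ρ k'))).rightDerived (2 * c + 1)).obj (EtDual.tate X n c)) :=
    (isZero_HY_of_depth k' _ _ hd (2 * c + 1) (by omega)).of_iso
      ((RDer.rightDerivedIso (gammaSuppIso k') (2 * c + 1)).app (EtDual.tate X n c)).symm
  have hinj : ∀ I : EtCoh.Ab X, Injective I →
      (KerLES.sc₀ (kerFun (rs (ρ k'))) (kerFun (rs (ρ k') ≫ rs (bm j k' j' hfac)))
        (kerFun (rs (bm j k' j' hfac))) (kerIncl (rs (ρ k')) (rs (bm j k' j' hfac)))
        (kerProj (rs (ρ k')) (rs (bm j k' j' hfac)))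
        (kerIncl_kerProj (rs (ρ k')) (rs (bm j k' j' hfac))) I).ShortExact := by
    intro I hI
    haveI := hI
    haveI := epi_rs_ρ k' I
    exact shortExact_of_epi (rs (ρ k')) (rs (bm j k' j' hfac)) I
  obtain ⟨e⟩ := derived_iso_of_isZero (kerFun (rs (ρ k')))
    (kerFun (rs (ρ k') ≫ rs (bm j k' j' hfac))) (kerFun (rs (bm j k' j' hfac)))
    (kerIncl (rs (ρ k')) (rs (bm j k' j' hfac))) (kerProj (rs (ρ k')) (rs (bm j k' j' hfac)))
    (kerIncl_kerProj (rs (ρ k')) (rs (bm j k' j' hfac))) hinj (EtDual.tate X n c) (2 * c) z0 z1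
  have e2 : EtDual.gammaSupp j ≅ kerFun (rs (ρ k') ≫ rs (bm j k' j' hfac)) :=
    gammaSuppIso j ≪≫ kerFunIso (rs (ρ j)) (rs (ρ k') ≫ rs (bm j k' j' hfac))
      (Iso.refl _) (Iso.refl _) (by
        rw [Iso.refl_hom, Iso.refl_hom, Category.comp_id, Category.id_comp, ← bm_ρ j k' j' hfac,
          rs_comp])
  have e3 := iso₃ j k' j' hfac
  haveI : Etale k' := inferInstance
  obtain ⟨e4⟩ := RDerComm.rightDerived_comm (EtLoc.res k' ⋙ EtDual.gammaSupp j')
    (EtDual.gammaSupp j') (𝟭 _) (EtLoc.res k') (fun I _ => EtLoc.injective_res k' I)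
    (Functor.rightUnitor _) (EtDual.tate X n c) (2 * c)
  obtain ⟨e5⟩ := Groth.Agent.S3142.res_tate k' n c
  exact ⟨(RDer.rightDerivedIso e2 (2 * c)).app (EtDual.tate X n c) ≪≫ e ≪≫
    ((RDer.rightDerivedIso e3 (2 * c)).app (EtDual.tate X n c)).symm ≪≫ e4 ≪≫
    (EtDual.HY j' (2 * c)).mapIso e5⟩

end helpers

/-- Let X be a Noetherian separated scheme, n a natural number invertible on X, c a natural number, Y ⊆
X a closed subset with open complement j : U → X, and Z ⊆ Y a closed subset of X with open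
complement k' : X' → X, so that U ⊆ X' through an open immersion j' : U → X' with k' ∘ j' = j, and V
= Y ∩ X' is closed in X' with complement U. If the local cohomology sheaves H^p_Z(ℤ/n) on X vanish
for all p ≤ 2c + 1, then H^{2c}_Y(X, ℤ/n(c)) and H^{2c}_V(X', ℤ/n(c)) are isomorphic. Only the
existence of an isomorphism is asserted; the published statement is that the restriction map is an
isomorphism (and that it is injective under vanishing for p ≤ 2c only). -/
theorem result {X X' U : Scheme.{u}} [IsNoetherian X] [X.IsSeparated]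
    (n : ℕ) (hn : IsUnit (n : Γ(X, ⊤))) (c : ℕ)
    (j : U ⟶ X) [IsOpenImmersion j] (k' : X' ⟶ X) [IsOpenImmersion k'] (j' : U ⟶ X') [IsOpenImmersion j']
    (hfac : j' ≫ k' = j) [EtCoh.BCCont j] [EtCoh.BCCont k'] [EtCoh.BCCont j']
    (hZ : ∀ p : ℕ, p ≤ 2 * c + 1 → IsZero ((EtDual.locCoh k' p).obj (EtCoh.const X (ZMod n)))) :
    Nonempty ((EtDual.HY j (2 * c)).obj (EtDual.tate X n c) ≅ (EtDual.HY j' (2 * c)).obj (EtDual.tate X' n c)) := by
  exact main j k' j' hfac n hn c hZ

end Groth.Agent.S3143
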