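import Groth.Statements.S3195
import Mathlib
import Groth.Agent.Lib.Helper2.ExtPowQuot
import Groth.Agent.Lib.Helper2.TorKR
import Groth.Agent.Lib.Helper2.KosComp
import Groth.Agent.S15822
import Groth.Agent.S18935
-- import your own Groth.Agent.* helpers here

set_option autoImplicit false
universe u
open CategoryTheory
open SGA6

namespace Groth.Agent.S3195

section
open CategoryTheory CategoryTheory.Limits CochainComplex HomologicalComplex
open Groth.Agent.Helper21.KL Groth.Agent.Helper21.KT Groth.Agent.Helper2.KosReg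
  Groth.Agent.S15822 Groth.Agent.Helper2.KosComp Groth.Agent.Helper2.TorKR
  Groth.Agent.Helper12.KoszTor

variable {A : Type u} [CommRing A]

/-- moving the last element of a sequence to the front -/
theorem nonempty_last_to_front (C : CochainComplex (ModuleCat.{u} A) ℤ) (L : List A) (y : A) :
    Nonempty (Kz C (L ++ [y]) ≅ Kz C (y :: L)) := by
  obtain ⟨e⟩ := Kz_cone_iso C y L
  exact ⟨eqToIso (Kz_append C L [y]) ≪≫ e⟩

/-- rotating a block to the front -/
theorem nonempty_rotate (C : CochainComplex (ModuleCat.{u} A) ℤ) (ys : List A) :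
    ∀ xs : List A, Nonempty (Kz C (xs ++ ys) ≅ Kz C (ys ++ xs)) := by
  induction ys using List.reverseRecOn with
  | nil =>
    intro xs
    exact ⟨eqToIso (by rw [List.append_nil, List.nil_append])⟩
  | append_singleton ys y ih =>
    intro xs
    obtain ⟨e1⟩ := nonempty_last_to_front C (xs ++ ys) y
    obtain ⟨e2⟩ := ih (y :: xs)
    have h1 : xs ++ (ys ++ [y]) = (xs ++ ys) ++ [y] := (List.append_assoc _ _ _).symm
    have h2 : y :: (xs ++ ys) = (y :: xs) ++ ys := rfl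
    have h3 : ys ++ (y :: xs) = (ys ++ [y]) ++ xs := by simp
    exact ⟨eqToIso (by rw [h1]) ≪≫ e1 ≪≫ eqToIso (by rw [h2]) ≪≫ e2 ≪≫ eqToIso (by rw [h3])⟩

/-- the cohomology of a Koszul complex `K(xs ++ ys)` with `xs` Koszul-regular and `ys ⊆ (xs)` -/
theorem nonempty_homology_append (xs ys : List A) (hxs : LCI.IsKoszulRegularSeq A xs)
    (hyx : ∀ y ∈ ys, y ∈ Ideal.span {a | a ∈ xs}) (j : ℕ) :
    Nonempty ((CohIII.koszulCx (ModuleCat.of A A) (xs ++ ys)).homology (-(j : ℤ)) ≃ₗ[A]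
      (Fin (ys.length.choose j) → A ⧸ Ideal.ofList xs)) := by
  set C := (HomologicalComplex.single (ModuleCat.{u} A) (ComplexShape.up ℤ) 0).obj
    (ModuleCat.of A A) with hC
  have hKz : ∀ l : List A, CohIII.koszulCx (ModuleCat.of A A) l = Kz C l :=
    fun l => koszulCx_eq_Kz _ l
  have hx' : ∀ k : ℤ, k ≠ 0 → Subsingleton ((Kz C xs).homology k) := by
    intro k hk
    have := (isKoszulRegularSeq_iff xs).mp hxs k hk
    unfold AcycAt at this
    exact ModuleCat.subsingleton_of_isZero ((transfer (hKz xs) k).mp this)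
  obtain ⟨e⟩ := main_Kz C xs ys hyx (-(j : ℤ))
  obtain ⟨e'⟩ := Groth.Agent.S18935.piZeroEquiv (A := A) (fun k => (Kz C xs).homology k)
    (cmul ys.length (-(j : ℤ))) hx'
  have hc : cmul ys.length (-(j : ℤ)) 0 = ys.length.choose j := by
    have := cmul_add ys.length (-(j : ℤ)) j
    rwa [neg_add_cancel] at this
  obtain ⟨t⟩ := top_equiv A xs
  have hJ : Ideal.ofList xs • (⊤ : Submodule A A) = Ideal.ofList xs := by
    rw [smul_eq_mul, Ideal.mul_top]
  have e0 : (Kz C xs).homology 0 ≃ₗ[A] A ⧸ Ideal.ofList xs :=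
    ((HomologicalComplex.homologyFunctor (ModuleCat.{u} A) (ComplexShape.up ℤ) 0).mapIso
      (eqToIso (hKz xs).symm)).toLinearEquiv ≪≫ₗ t ≪≫ₗ Submodule.quotEquivOfEq _ _ hJ
  have e1 : (CohIII.koszulCx (ModuleCat.of A A) (xs ++ ys)).homology (-(j : ℤ)) ≃ₗ[A]
      (Kz C (xs ++ ys)).homology (-(j : ℤ)) :=
    ((HomologicalComplex.homologyFunctor (ModuleCat.{u} A) (ComplexShape.up ℤ) _).mapIso
      (eqToIso (hKz (xs ++ ys)))).toLinearEquiv
  exact ⟨e1 ≪≫ₗ e.toLinearEquiv ≪≫ₗ e' ≪≫ₗ LinearEquiv.funCongrLeft A _ (finCongr hc.symm) ≪≫ₗ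
    LinearEquiv.piCongrRight (fun _ => e0)⟩

/-- `Tor_{n+1}(A/(ts), A/(rs)) ≅ H^{-(n+1)}(K(ts ++ rs))` for `ts`, `rs` Koszul-regular -/
theorem nonempty_tor_iso_koszul (ts rs : List A) (hts : LCI.IsKoszulRegularSeq A ts)
    (hrs : LCI.IsKoszulRegularSeq A rs) (n : ℕ) :
    Nonempty (((Tor (ModuleCat.{u} A) (n + 1)).obj
        (ModuleCat.of A (A ⧸ Ideal.span {x | x ∈ ts}))).obj
        (ModuleCat.of A (A ⧸ Ideal.span {x | x ∈ rs})) ≅
      (CohIII.koszulCx (ModuleCat.of A A) (ts ++ rs)).homology (-((n + 1 : ℕ) : ℤ))) := by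
  set N : ModuleCat.{u} A := ModuleCat.of A (A ⧸ Ideal.ofList rs) with hN
  have hKR : ∀ i : ℤ, i ≠ 0 → IsZero ((KA ts).homology i) := (isKoszulRegularSeq_iff ts).mp hts
  obtain ⟨eb⟩ := nonempty_tor_succ_iso' ts hKR N n
  obtain ⟨t⟩ := top_equiv A ts
  have hJ : Ideal.ofList ts • (⊤ : Submodule A A) = Ideal.ofList ts := by
    rw [smul_eq_mul, Ideal.mul_top]
  let e0 : (KA ts).homology 0 ≅ ModuleCat.of A (A ⧸ Ideal.ofList ts) :=
    (t ≪≫ₗ Submodule.quotEquivOfEq _ _ hJ).toModuleIso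
  have ea := ((Tor (ModuleCat.{u} A) (n + 1)).mapIso e0).app N
  obtain ⟨β, hβ⟩ := exists_aug_quasiIso rs hrs
  haveI := quasiIso_KzMap β ts
  have ed := isoOfQuasiIsoAt (KzMap β ts) (-((n + 1 : ℕ) : ℤ))
  have h1 : CohIII.koszulCx (ModuleCat.of A A) (ts ++ rs) =
      Kz (CohIII.koszulCx (ModuleCat.of A A) rs) ts := by
    rw [koszulCx_eq_Kz, Kz_append, ← koszulCx_eq_Kz]
  have h2 : CohIII.koszulCx N ts =
      Kz ((single (ModuleCat.{u} A) (ComplexShape.up ℤ) 0).obj N) ts := koszulCx_eq_Kz _ _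
  have e1 := (HomologicalComplex.homologyFunctor (ModuleCat.{u} A) (ComplexShape.up ℤ)
    (-((n + 1 : ℕ) : ℤ))).mapIso (eqToIso h1)
  have e2 := (HomologicalComplex.homologyFunctor (ModuleCat.{u} A) (ComplexShape.up ℤ)
    (-((n + 1 : ℕ) : ℤ))).mapIso (eqToIso h2)
  exact ⟨ea.symm ≪≫ eb ≪≫ e2 ≪≫ ed.symm ≪≫ e1.symm⟩

theorem kr_perm (f g h : List A) (hfgh : LCI.IsKoszulRegularSeq A (f ++ g ++ h)) :
    LCI.IsKoszulRegularSeq A (h ++ (f ++ g)) := by
  rw [isKoszulRegularSeq_iff] at hfgh ⊢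
  refine Groth.Agent.S18935.lemmaK (f ++ g ++ h) (h ++ (f ++ g)) ?_ ?_ ?_ hfgh
  · simp only [List.length_append]; omega
  · intro x hx
    apply Ideal.subset_span
    simp only [List.mem_append, Set.mem_ofPred_eq] at hx ⊢
    tauto
  · intro x hx
    apply Ideal.subset_span
    simp only [List.mem_append, Set.mem_ofPred_eq] at hx ⊢
    tauto

/-- all the higher Tor modules are free over `A/(f, g, h)` -/
theorem nonempty_tor_equiv (f g h : List A) (hfg : LCI.IsKoszulRegularSeq A (f ++ g))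
    (hfh : LCI.IsKoszulRegularSeq A (f ++ h)) (hfgh : LCI.IsKoszulRegularSeq A (f ++ g ++ h))
    (n : ℕ) :
    Nonempty (((Tor (ModuleCat.{u} A) (n + 1)).obj
        (ModuleCat.of A (A ⧸ Ideal.span {x | x ∈ f ++ g}))).obj
        (ModuleCat.of A (A ⧸ Ideal.span {x | x ∈ f ++ h})) ≃ₗ[A]
      (Fin (f.length.choose (n + 1)) → A ⧸ Ideal.ofList (h ++ (f ++ g)))) := by
  set C := (HomologicalComplex.single (ModuleCat.{u} A) (ComplexShape.up ℤ) 0).obj
    (ModuleCat.of A A) with hC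
  have hKz : ∀ l : List A, CohIII.koszulCx (ModuleCat.of A A) l = Kz C l :=
    fun l => koszulCx_eq_Kz _ l
  obtain ⟨e1⟩ := nonempty_tor_iso_koszul (f ++ g) (f ++ h) hfg hfh n
  obtain ⟨e2⟩ := nonempty_rotate C h ((f ++ g) ++ f)
  have hl1 : (f ++ g) ++ (f ++ h) = ((f ++ g) ++ f) ++ h := by simp
  have hl2 : h ++ ((f ++ g) ++ f) = (h ++ (f ++ g)) ++ f := by simp
  have e3 : CohIII.koszulCx (ModuleCat.of A A) ((f ++ g) ++ (f ++ h)) ≅
      CohIII.koszulCx (ModuleCat.of A A) ((h ++ (f ++ g)) ++ f) :=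
    eqToIso (by rw [hKz, hl1]) ≪≫ e2 ≪≫ eqToIso (by rw [hKz, hl2])
  have e4 := (HomologicalComplex.homologyFunctor (ModuleCat.{u} A) (ComplexShape.up ℤ)
    (-((n + 1 : ℕ) : ℤ))).mapIso e3
  obtain ⟨e5⟩ := nonempty_homology_append (h ++ (f ++ g)) f (kr_perm f g h hfgh)
    (fun y hy => Ideal.subset_span (by
      show y ∈ h ++ (f ++ g)
      simp only [List.mem_append]
      tauto)) (n + 1)
  exact ⟨(e1 ≪≫ e4).toLinearEquiv ≪≫ₗ e5⟩

/-- functoriality of exterior powers for linear equivalences -/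
noncomputable def extPowCongr {M N : Type u} [AddCommGroup M] [Module A M] [AddCommGroup N]
    [Module A N] (i : ℕ) (e : M ≃ₗ[A] N) : ⋀[A]^i M ≃ₗ[A] ⋀[A]^i N :=
  LinearEquiv.ofLinearMap (exteriorPower.map i e.toLinearMap) (exteriorPower.map i e.symm.toLinearMap)
    (by rw [← exteriorPower.map_comp]; simp [exteriorPower.map_id])
    (by rw [← exteriorPower.map_comp]; simp [exteriorPower.map_id])

theorem main (A : Type u) [CommRing A] (f g h : List A)
    (hfg : LCI.IsKoszulRegularSeq A (f ++ g)) (hfh : LCI.IsKoszulRegularSeq A (f ++ h)) (hfgh : LCI.IsKoszulRegularSeq A (f ++ g ++ h)) (i : ℕ) (hi : 1 ≤ i) :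
    Nonempty (((CategoryTheory.Tor (ModuleCat.{u} A) i).obj (ModuleCat.of A (A ⧸ Ideal.span {x | x ∈ f ++ g}))).obj (ModuleCat.of A (A ⧸ Ideal.span {x | x ∈ f ++ h})) ≅
      ModuleCat.of A (⋀[A]^i (((CategoryTheory.Tor (ModuleCat.{u} A) 1).obj (ModuleCat.of A (A ⧸ Ideal.span {x | x ∈ f ++ g}))).obj (ModuleCat.of A (A ⧸ Ideal.span {x | x ∈ f ++ h}))))) := by
  obtain ⟨n, rfl⟩ : ∃ n, i = n + 1 := ⟨i - 1, by omega⟩
  obtain ⟨e1⟩ := nonempty_tor_equiv f g h hfg hfh hfgh n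
  obtain ⟨e2⟩ := nonempty_tor_equiv f g h hfg hfh hfgh 0
  have e3 : (Fin (f.length.choose (0 + 1)) → A ⧸ Ideal.ofList (h ++ (f ++ g))) ≃ₗ[A]
      (Fin f.length → A ⧸ Ideal.ofList (h ++ (f ++ g))) :=
    LinearEquiv.funCongrLeft A _ (finCongr (by simp))
  obtain ⟨e4⟩ := Groth.Agent.Helper2.ExtPowQuot.nonempty_extPow_pi_quot
    (Ideal.ofList (h ++ (f ++ g))) f.length (n + 1) hi
  have e5 := extPowCongr (n + 1) (e2 ≪≫ₗ e3)
  exact ⟨(e1 ≪≫ₗ e4.symm ≪≫ₗ e5.symm).toModuleIso⟩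

end

/-- Let A be a commutative ring and f, g, h finite sequences of elements of A such that the
concatenations f ++ g, f ++ h and f ++ g ++ h are Koszul-regular (their Koszul complexes are
resolutions of the quotients); put I = (f, g) and J = (f, h). Then for every i ≥ 1 the A-module
Tor_i^A(A/I, A/J) (Mathlib's Tor, left-derived in the second variable) is isomorphic to the i-th
exterior power over A of Tor_1^A(A/I, A/J). (The source takes exterior powers over O_T = A/(I+J),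
which for i ≥ 1 gives the same module since Tor_1 is killed by I + J; over A the case i = 0 would
give A instead of Tor_0 = A/(I+J), so it is left out. The source states this for closed subschemes
of a scheme locally of this form and identifies Tor_1 with the excess conormal bundle.) -/
theorem result (A : Type u) [CommRing A] (f g h : List A)
    (hfg : LCI.IsKoszulRegularSeq A (f ++ g)) (hfh : LCI.IsKoszulRegularSeq A (f ++ h)) (hfgh : LCI.IsKoszulRegularSeq A (f ++ g ++ h)) (i : ℕ) (hi : 1 ≤ i) :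
    Nonempty (((CategoryTheory.Tor (ModuleCat.{u} A) i).obj (ModuleCat.of A (A ⧸ Ideal.span {x | x ∈ f ++ g}))).obj (ModuleCat.of A (A ⧸ Ideal.span {x | x ∈ f ++ h})) ≅
      ModuleCat.of A (⋀[A]^i (((CategoryTheory.Tor (ModuleCat.{u} A) 1).obj (ModuleCat.of A (A ⧸ Ideal.span {x | x ∈ f ++ g}))).obj (ModuleCat.of A (A ⧸ Ideal.span {x | x ∈ f ++ h}))))) := by
  exact Groth.Agent.S3195.main A f g h hfg hfh hfgh i hi

end Groth.Agent.S3195
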