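import Groth.Statements.S3196
import Mathlib
import Groth.Agent.Lib.Helper2.TorKR
import Groth.Agent.Lib.Helper26.BCQR1
import Groth.Agent.Lib.Helper28.KosH1
import Groth.Agent.S2103
-- import your own Groth.Agent.* helpers here

set_option autoImplicit false
universe u
open CategoryTheory CategoryTheory.Limits
open SGA6

namespace Groth.Agent.S3196

section

open CategoryTheory CategoryTheory.Limits
open Groth.Agent.Helper2.TorKR Groth.Agent.Helper26.BCQR Groth.Agent.Helper18.TorLib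

variable {A : Type u} [CommRing A] {r : ℕ} (f : Fin r → A) (M : ModuleCat.{u} A)

theorem finite_E (r n : ℕ) : Finite (E r n) := by
  have h1 : ({d : Fin r →₀ ℕ | d.degree ≤ n}).Finite := Finsupp.finite_of_degree_le n
  have h2 : ({d : Fin r →₀ ℕ | d.degree = n}).Finite := h1.subset (fun d hd => le_of_eq hd)
  exact h2.to_subtype

/-- Tor-vanishing for `A/J^n`, from Tor-vanishing for `A/J`, `J` generated by a quasi-regular
sequence -/
theorem isZero_tor_quot_pow (hq : CAlgX.IsQuasiRegular f)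
    (h : ∀ i : ℕ, IsZero (((Tor (ModuleCat.{u} A) (i + 1)).obj
      (ModuleCat.of A (A ⧸ Ideal.span (Set.range f)))).obj M)) (n : ℕ) :
    ∀ i : ℕ, IsZero (((Tor (ModuleCat.{u} A) (i + 1)).obj
      (ModuleCat.of A (A ⧸ Ideal.span (Set.range f) ^ n))).obj M) := by
  induction n with
  | zero =>
    intro i
    haveI : Subsingleton (A ⧸ Ideal.span (Set.range f) ^ 0) := by
      rw [pow_zero, Ideal.one_eq_top]
      exact Ideal.Quotient.subsingleton_iff.mpr rfl
    exact isZero_tor_succ_of_flat_left (ModuleCat.of A (A ⧸ Ideal.span (Set.range f) ^ 0)) M i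
  | succ n ih =>
    intro i
    haveI := finite_E r n
    have h1 : IsZero (((Tor (ModuleCat.{u} A) (i + 1)).obj
        (ModuleCat.of A (E r n →₀ A ⧸ Ideal.span (Set.range f)))).obj M) :=
      isZero_tor_of_linearEquiv
        (Finsupp.linearEquivFunOnFinite A (A ⧸ Ideal.span (Set.range f)) (E r n)).symm M (i + 1)
        (isZero_tor_fun (A ⧸ Ideal.span (Set.range f)) M h (E r n) i)
    exact isZero_tor_mid (ψ A f n) (π A f n) (ψ_injective f hq n) (exact_ψ_π f n)
      (π_surjective f n) M (i + 1) h1 (ih i)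

/-- dimension shifting: `Tor_{i+1}(J^n, M) = 0` from `Tor_{i+2}(A/J^n, M) = 0` -/
theorem isZero_tor_pow (J : Ideal A) (n i : ℕ)
    (h : IsZero (((Tor (ModuleCat.{u} A) (i + 1 + 1)).obj (ModuleCat.of A (A ⧸ J ^ n))).obj M)) :
    IsZero (((Tor (ModuleCat.{u} A) (i + 1)).obj (ModuleCat.of A ↥(J ^ n))).obj M) :=
  isZero_tor_succ_left_of_flat (F := A) (J ^ n).subtype (J ^ n).mkQ
    (Submodule.injective_subtype _) (LinearMap.exact_subtype_mkQ _)
    (Submodule.mkQ_surjective _) M i h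

/-- the inclusion `J^n/J^(n+1) → A/J^(n+1)` -/
noncomputable def grIncl (J : Ideal A) (n : ℕ) :
    (↥(J ^ n) ⧸ Submodule.comap (J ^ n).subtype (J ^ (n + 1))) →ₗ[A] A ⧸ J ^ (n + 1) :=
  Submodule.liftQ _ ((J ^ (n + 1)).mkQ ∘ₗ (J ^ n).subtype) (by
    intro x hx
    rw [LinearMap.mem_ker, LinearMap.comp_apply, Submodule.mkQ_apply,
      Submodule.Quotient.mk_eq_zero]
    exact hx)

theorem grIncl_injective (J : Ideal A) (n : ℕ) : Function.Injective (grIncl J n) := by
  rw [← LinearMap.ker_eq_bot]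
  apply Submodule.ker_liftQ_eq_bot
  intro x hx
  rw [LinearMap.mem_ker, LinearMap.comp_apply, Submodule.mkQ_apply,
    Submodule.Quotient.mk_eq_zero] at hx
  exact hx

theorem isZero_tor_gr (hq : CAlgX.IsQuasiRegular f)
    (h : ∀ i : ℕ, IsZero (((Tor (ModuleCat.{u} A) (i + 1)).obj
      (ModuleCat.of A (A ⧸ Ideal.span (Set.range f)))).obj M)) (n i : ℕ) :
    IsZero (((Tor (ModuleCat.{u} A) (i + 1)).obj (ModuleCat.of A
      (↥(Ideal.span (Set.range f) ^ n) ⧸ Submodule.comap (Ideal.span (Set.range f) ^ n).subtype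
        (Ideal.span (Set.range f) ^ (n + 1))))).obj M) := by
  refine isZero_tor_left (grIncl (Ideal.span (Set.range f)) n) (π A f n)
    (grIncl_injective _ n) ?_ (π_surjective f n) M (i + 1)
    (isZero_tor_quot_pow f M hq h (n + 1) i) (isZero_tor_quot_pow f M hq h n (i + 1))
  intro y
  constructor
  · intro hy
    obtain ⟨b, rfl⟩ := Ideal.Quotient.mk_surjective y
    rw [π_mk, Ideal.Quotient.eq_zero_iff_mem] at hy
    exact ⟨Submodule.Quotient.mk ⟨b, hy⟩, rfl⟩
  · rintro ⟨x, rfl⟩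
    obtain ⟨⟨b, hb⟩, rfl⟩ := Submodule.Quotient.mk_surjective _ x
    show π A f n (Ideal.Quotient.mk _ b) = 0
    rw [π_mk, Ideal.Quotient.eq_zero_iff_mem]
    exact hb

theorem main_aux (A' : Type u) [CommRing A'] [Algebra A A'] (fs : List A)
    (hfs : LCI.IsKoszulRegularSeq A fs)
    (hfs' : LCI.IsKoszulRegularSeq A' (fs.map (algebraMap A A')))
    (J : Ideal A) (hJ : J = Ideal.span (Set.range fs.get)) (n i : ℕ) :
    IsZero (((Tor (ModuleCat.{u} A) (i + 1)).obj (ModuleCat.of A ↥(J ^ n))).obj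
      (ModuleCat.of A A')) ∧
    IsZero (((Tor (ModuleCat.{u} A) (i + 1)).obj (ModuleCat.of A
      (↥(J ^ n) ⧸ Submodule.comap (J ^ n).subtype (J ^ (n + 1))))).obj (ModuleCat.of A A')) := by
  subst hJ
  have hq : CAlgX.IsQuasiRegular fs.get :=
    Groth.Agent.S2103.result _ (Groth.Agent.Helper28.KosH1.h1_of_koszul fs hfs)
  have h0 : ∀ i : ℕ, IsZero (((Tor (ModuleCat.{u} A) (i + 1)).obj
      (ModuleCat.of A (A ⧸ Ideal.span (Set.range fs.get)))).obj (ModuleCat.of A A')) := by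
    intro i
    have h1 := isZero_tor_quot A' fs hfs hfs' i
    have h2 : Ideal.ofList fs = Ideal.span (Set.range fs.get) := by
      rw [Set.range_list_get]
    rw [h2] at h1
    exact h1
  exact ⟨isZero_tor_pow _ _ n i (isZero_tor_quot_pow fs.get _ hq h0 n (i + 1)),
    isZero_tor_gr fs.get _ hq h0 n i⟩

theorem main (A : Type u) [CommRing A] (A' : Type u) [CommRing A'] [Algebra A A']
    (fs : List A) (hfs : LCI.IsKoszulRegularSeq A fs) (hfs' : LCI.IsKoszulRegularSeq A' (fs.map (algebraMap A A')))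
    (n : ℕ) (i : ℕ) (hi : 1 ≤ i) :
    IsZero (((Tor (ModuleCat.{u} A) i).obj (ModuleCat.of A ↥(Ideal.span {x | x ∈ fs} ^ n))).obj (ModuleCat.of A A')) ∧
    IsZero (((Tor (ModuleCat.{u} A) i).obj (ModuleCat.of A
      (↥(Ideal.span {x | x ∈ fs} ^ n) ⧸ Submodule.comap (Ideal.span {x | x ∈ fs} ^ n).subtype (Ideal.span {x | x ∈ fs} ^ (n + 1))))).obj (ModuleCat.of A A')) := by
  obtain ⟨j, rfl⟩ : ∃ j, i = j + 1 := ⟨i - 1, by omega⟩
  exact main_aux A' fs hfs hfs' _ (by rw [Set.range_list_get]) n j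

end

/-- Let A be a commutative ring, fs a Koszul-regular sequence in A generating the ideal J, and A' a
commutative A-algebra in which the image of fs is again Koszul-regular. Then for every n ≥ 0 and i ≥
1, Tor_i^A(Jⁿ, A') = 0 and Tor_i^A(Jⁿ/Jⁿ⁺¹, A') = 0 (Mathlib's Tor on A-modules). (The source also
derives Jⁿ ⊗_A A' ≅ J'ⁿ and Jⁿ/Jⁿ⁺¹ ⊗_A A' ≅ J'ⁿ/J'ⁿ⁺¹ for J' = JA', and works with a regular
homomorphism from any finite projective module.) -/
theorem result (A : Type u) [CommRing A] (A' : Type u) [CommRing A'] [Algebra A A']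
    (fs : List A) (hfs : LCI.IsKoszulRegularSeq A fs) (hfs' : LCI.IsKoszulRegularSeq A' (fs.map (algebraMap A A')))
    (n : ℕ) (i : ℕ) (hi : 1 ≤ i) :
    IsZero (((Tor (ModuleCat.{u} A) i).obj (ModuleCat.of A ↥(Ideal.span {x | x ∈ fs} ^ n))).obj (ModuleCat.of A A')) ∧
    IsZero (((Tor (ModuleCat.{u} A) i).obj (ModuleCat.of A
      (↥(Ideal.span {x | x ∈ fs} ^ n) ⧸ Submodule.comap (Ideal.span {x | x ∈ fs} ^ n).subtype (Ideal.span {x | x ∈ fs} ^ (n + 1))))).obj (ModuleCat.of A A')) := by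
  exact Groth.Agent.S3196.main A A' fs hfs hfs' n i hi

end Groth.Agent.S3196
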