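import Groth.Statements.S3202
import Mathlib
import Groth.Agent.Lib.Helper2.BlowLci3
import Groth.Agent.Lib.Helper28.BlowSmooth
import Groth.Agent.Lib.Helper11.PerfMor5
-- import your own Groth.Agent.* helpers here

set_option autoImplicit false
universe u
open CategoryTheory AlgebraicGeometry
open SGA6

namespace Groth.Agent.S3202

section
open AlgebraicGeometry CategoryTheory Limits
open Groth.Agent.Helper11.PerfMor Groth.Agent.Helper28 Groth.Agent.Helper28.BlowBC
  Groth.Agent.Helper2.BlowLci

/-- perfectness can be checked on a cover of the source by open immersions -/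
theorem perf_of_local {X Y : Scheme.{u}} (f : X ⟶ Y)
    (h : ∀ x : X, ∃ (W : Scheme.{u}) (j : W ⟶ X), IsOpenImmersion j ∧ x ∈ Set.range j ∧
      PP (j ≫ f)) : PP f := by
  choose W j hj hx hf using h
  haveI : ∀ x, IsOpenImmersion (j x) := hj
  refine IsZariskiLocalAtSource.of_iSup_eq_top (P := PP) (fun x => (j x).opensRange) ?_ ?_
  · refine top_le_iff.mp fun x _ => ?_
    exact TopologicalSpace.Opens.mem_iSup.mpr ⟨x, hx x⟩
  · intro x
    rw [← Scheme.Hom.isoOpensRange_inv_comp, Category.assoc,
      MorphismProperty.cancel_left_of_respectsIso (P := PP)]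
    exact hf x

theorem main {Y X X' : Scheme.{u}} (i : Y ⟶ X) (hi : Mor2.IsRegularClosedImmersion i)
    (f : X' ⟶ X) (hf : BlowUp.IsBlowUp f i.ker) : MoreMor.IsPerfectMor f := by
  haveI : IsClosedImmersion i := hi.1
  rw [perfMor_iff]
  apply perf_of_local
  intro x'
  have key : ∀ (U : X.Opens) (hU : IsAffineOpen U) (s : Set Γ(X, U))
      (_ : s ⊆ i.ker.ideal ⟨U, hU⟩) (_ : i.ker.ideal ⟨U, hU⟩ ≤ Ideal.span s)
      (_ : ∀ a ∈ s, MoreMor.IsPerfectHom Γ(X, U)
        ↥(BlowUp.affineAlgebra Γ(X, U) (i.ker.ideal ⟨U, hU⟩) a)) (_ : f x' ∈ U),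
      ∃ (W : Scheme.{u}) (j : W ⟶ X'), IsOpenImmersion j ∧ x' ∈ Set.range j ∧ PP (j ≫ f) := by
    intro U hU s hs hI hperf hx
    obtain ⟨a, has, ha, j, hj, hy, hjb⟩ :=
      BlowSmooth.exists_chart_of_isBlowUp_gens i.ker f hf ⟨U, hU⟩ s hs hI x' hx
    refine ⟨_, j, hj, hy, ?_⟩
    rw [hjb]
    have h1 : PP (Spec.map (CommRingCat.ofHom (κ (i.ker.ideal ⟨U, hU⟩) a))) := by
      rw [HasRingHomProperty.Spec_iff (P := PP)]
      exact QP_algebraMap_iff.mpr (hperf a has)
    have h2 : PP hU.fromSpec :=
      HasRingHomProperty.of_isOpenImmersion (P := PP)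
        QP_holdsForLocalizationAway.containsIdentities
    exact (HasRingHomProperty.stableUnderComposition (P := PP)
      QP_stableUnderComposition).comp_mem _ _ h1 h2
  by_cases hx : f x' ∈ Set.range i
  · obtain ⟨z, hz⟩ := hx
    obtain ⟨U, hU, hzU, rs, hreg, hker⟩ := hi.2 z
    refine key U hU {r | r ∈ rs} (by rw [hker]; exact Ideal.subset_span) hker.le ?_
      (by rw [← hz]; exact hzU)
    intro a ha
    exact perfectHom_affineAlgebra_of_isRegular _ rs hreg hker a ha
  · -- away from the centre the ideal is the unit ideal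
    have hcl : IsClosed (Set.range i) := i.isClosedEmbedding.isClosed_range
    have hop : IsOpen (Set.range i)ᶜ := hcl.isOpen_compl
    obtain ⟨_, ⟨U, hU, rfl⟩, hxU, hUle⟩ :=
      (X.isBasis_affineOpens).exists_subset_of_mem_open (show f x' ∈ (Set.range i)ᶜ from hx) hop
    have htop : i.ker.ideal ⟨U, hU⟩ = ⊤ := by
      rw [i.ker_apply ⟨U, hU⟩]
      have hbot : i ⁻¹ᵁ U = ⊥ := by
        ext y
        simp only [TopologicalSpace.Opens.coe_bot, Set.mem_empty_iff_false, iff_false]
        intro hy
        exact hUle hy ⟨y, rfl⟩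
      haveI : Subsingleton Γ(Y, i ⁻¹ᵁ U) := by
        rw [hbot]
        infer_instance
      rw [Ideal.eq_top_iff_one, RingHom.mem_ker]
      exact Subsingleton.elim _ _
    refine key U hU Set.univ (by rw [htop]; exact fun _ _ => trivial)
      (by rw [Ideal.span_univ]; exact le_top) ?_ hxU
    intro a _
    exact perfectHom_affineAlgebra_top _ htop a

end

/-- Let i : Y ⟶ X be a regular closed immersion (locally cut out by a regular sequence) and f : X' ⟶ X
the blow-up of X along Y. Then f is a perfect morphism: affine-locally the ring maps O_X(V) →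
O_{X'}(U) are pseudo-coherent and of finite tor-dimension. (The source's regular immersions are the
Koszul-regular ones, a weaker hypothesis in the non-Noetherian case; it also records that i itself
is perfect.) -/
theorem result {Y X X' : Scheme.{u}} (i : Y ⟶ X) (hi : Mor2.IsRegularClosedImmersion i)
    (f : X' ⟶ X) (hf : BlowUp.IsBlowUp f i.ker) : MoreMor.IsPerfectMor f := by
  exact Groth.Agent.S3202.main i hi f hf

end Groth.Agent.S3202
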