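import Groth.Statements.S3206
import Mathlib
import Groth.Agent.Lib.Helper5.MorseD

set_option autoImplicit false
open SGA7

namespace Groth.Agent.S3206

/-- Let k be a field and f a formal power series in n variables over k without constant term whose
partial derivatives ∂f/∂x_1, …, ∂f/∂x_n generate the maximal ideal of k[[x_1, …, x_n]]. Then there
are power series ε_1, …, ε_n with no terms of degree < 2 and a quadratic form q such that f = q(x_1
+ ε_1, …, x_n + ε_n). -/
theorem result (k : Type) [Field k] (n : ℕ) (f : MvPowerSeries (Fin n) k)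
    (hf0 : MvPowerSeries.constantCoeff f = 0)
    (hJ : Ideal.span (Set.range fun i : Fin n => MvPowerSeries.pderiv k i f) = IsLocalRing.maximalIdeal (MvPowerSeries (Fin n) k)) :
    ∃ (ε : Fin n → MvPowerSeries (Fin n) k) (_ : ∀ i (m : Fin n →₀ ℕ), m.degree < 2 → MvPowerSeries.coeff m (ε i) = 0)
      (q : MvPolynomial (Fin n) k) (_ : q.IsHomogeneous 2)
      (_ : MvPowerSeries.HasSubst (fun i : Fin n => MvPowerSeries.X i + ε i)),
      f = MvPowerSeries.subst (fun i : Fin n => MvPowerSeries.X i + ε i) (q : MvPowerSeries (Fin n) k) := by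
  obtain ⟨ε, hε, hfε⟩ := Groth.Agent.Helper5.Morse.morse f hf0 hJ
  have hε0 : ∀ i, MvPowerSeries.constantCoeff (ε i) = 0 := by
    intro i
    rw [← MvPowerSeries.one_le_order_iff_constCoeff_eq_zero]
    exact le_trans (by norm_num) (hε i)
  refine ⟨ε, fun i m hm => Groth.Agent.Helper5.Morse.coeff_eq_zero_of_le_order (d := 2)
    (by exact_mod_cast hε i) m hm, Groth.Agent.Helper5.Morse.quadPart f,
    Groth.Agent.Helper5.Morse.quadPart_isHomogeneous f,
    MvPowerSeries.hasSubst_of_constantCoeff_zero (fun i => by
      rw [map_add, hε0 i, add_zero]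
      exact MvPowerSeries.coeff_zero_X i), ?_⟩
  rw [MvPowerSeries.subst_coe]
  exact hfε

end Groth.Agent.S3206
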