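import Groth.Statements.S3208
import Mathlib
import Groth.Agent.Lib.Helper22.Mink

set_option autoImplicit false
open SGA7

namespace Groth.Agent.S3208

/-- Let E be a commutative ring which is finitely generated and torsion-free as an additive group, u an
element of E of finite multiplicative order (u^m = 1 for some m > 0), and n ≥ 2 an integer with u ≡
1 modulo nE (i.e. 1 - u = n·v for some v ∈ E). Then u² = 1, and if n ≥ 3 then u = 1. -/
theorem result (E : Type) [CommRing E] [NoZeroSMulDivisors ℤ E] [Module.Finite ℤ E] (u : E) (m : ℕ) (hm : 0 < m)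
    (hu : u ^ m = 1) (n : ℕ) (hn : 2 ≤ n) (hcong : ∃ v : E, 1 - u = (n : E) * v) :
    u ^ 2 = 1 ∧ (3 ≤ n → u = 1) := by
  obtain ⟨v, hv⟩ := hcong
  have hdvd : (n : E) ∣ u - 1 := ⟨-v, by linear_combination -hv⟩
  have h3 : 3 ≤ n → u = 1 := fun h =>
    Groth.Agent.Helper22.Mink.eq_one_of_pow_eq_one n h m hm u hdvd hu
  refine ⟨?_, h3⟩
  by_cases hn3 : 3 ≤ n
  · rw [h3 hn3, one_pow]
  · have hn2 : n = 2 := by omega
    subst hn2
    have h4 : ((4 : ℕ) : E) ∣ u ^ 2 - 1 := by
      refine ⟨v ^ 2 - v, ?_⟩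
      push_cast at hv ⊢
      linear_combination (2 * v - u - 1) * hv
    have h5 : (u ^ 2) ^ m = 1 := by rw [← pow_mul, mul_comm, pow_mul, hu, one_pow]
    exact Groth.Agent.Helper22.Mink.eq_one_of_pow_eq_one 4 (by norm_num) m hm (u ^ 2) h4 h5

end Groth.Agent.S3208
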