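import Groth.Statements.S3209
-- import your own Groth.Agent.* helpers here

set_option autoImplicit false
universe u
open TensorProduct
open SGA7

namespace Groth.Agent.S3209

theorem map_id_eq_lTensor {R S X Y : Type u} [CommRing R] [CommRing S] [CommRing X] [CommRing Y]
    [Algebra R S] [Algebra R X] [Algebra R Y] (h : X →ₐ[R] Y) (z : S ⊗[R] X) :
    Algebra.TensorProduct.map (AlgHom.id R S) h z = LinearMap.lTensor S h.toLinearMap z := by
  induction z using TensorProduct.induction_on with
  | zero => simp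
  | tmul a b => simp
  | add a b ha hb => simp only [map_add, ha, hb]


/-- Let f : B' → B be a surjective map of R-algebras with kernel J, g : C → B a map of R-algebras, P =
B' ×_B C their fibre product (the equalizer of f ∘ pr₁ and g ∘ pr₂ in B' × C) and S an R-algebra
such that S ⊗_R J → S ⊗_R B' is injective (this holds when Tor_1^R(B, S) = 0, the published
hypothesis, and in particular when S is flat). Then the canonical map S ⊗_R P → (S ⊗_R B') ×_{S ⊗_R
B} (S ⊗_R C) is bijective: it is injective, and every pair with the same image in S ⊗_R B comes from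
S ⊗_R P. -/
theorem result (R B' B C S : Type u) [CommRing R] [CommRing B'] [CommRing B] [CommRing C]
    [CommRing S] [Algebra R B'] [Algebra R B] [Algebra R C] [Algebra R S]
    (f : B' →ₐ[R] B) (hf : Function.Surjective f) (g : C →ₐ[R] B)
    (hJ : Function.Injective (LinearMap.lTensor S (LinearMap.ker f.toLinearMap).subtype)) :
    letI P := AlgHom.equalizer (f.comp (AlgHom.fst R B' C)) (g.comp (AlgHom.snd R B' C))
    letI φ₁ := Algebra.TensorProduct.map (AlgHom.id R S) ((AlgHom.fst R B' C).comp P.val)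
    letI φ₂ := Algebra.TensorProduct.map (AlgHom.id R S) ((AlgHom.snd R B' C).comp P.val)
    Function.Injective (fun z : S ⊗[R] ↥P => (φ₁ z, φ₂ z)) ∧
    ∀ (x : S ⊗[R] B') (y : S ⊗[R] C),
      Algebra.TensorProduct.map (AlgHom.id R S) f x = Algebra.TensorProduct.map (AlgHom.id R S) g y →
        ∃ z : S ⊗[R] ↥P, φ₁ z = x ∧ φ₂ z = y := by
  set P := AlgHom.equalizer (f.comp (AlgHom.fst R B' C)) (g.comp (AlgHom.snd R B' C)) with hP
  set φ₁ := Algebra.TensorProduct.map (AlgHom.id R S) ((AlgHom.fst R B' C).comp P.val) with hφ₁def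
  set φ₂ := Algebra.TensorProduct.map (AlgHom.id R S) ((AlgHom.snd R B' C).comp P.val) with hφ₂def
  set p₁ : ↥P →ₗ[R] B' := ((AlgHom.fst R B' C).comp P.val).toLinearMap with hp₁
  set p₂ : ↥P →ₗ[R] C := ((AlgHom.snd R B' C).comp P.val).toLinearMap with hp₂
  set J := LinearMap.ker f.toLinearMap with hJdef
  have hφ₁ : ∀ z, φ₁ z = LinearMap.lTensor S p₁ z := fun z => map_id_eq_lTensor _ z
  have hφ₂ : ∀ z, φ₂ z = LinearMap.lTensor S p₂ z := fun z => map_id_eq_lTensor _ z
  have hf' : ∀ z, Algebra.TensorProduct.map (AlgHom.id R S) f z = LinearMap.lTensor S f.toLinearMap z :=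
    fun z => map_id_eq_lTensor _ z
  have hg' : ∀ z, Algebra.TensorProduct.map (AlgHom.id R S) g z = LinearMap.lTensor S g.toLinearMap z :=
    fun z => map_id_eq_lTensor _ z
  -- the inclusion of J into P
  let j : ↥J →ₗ[R] ↥P :=
    { toFun := fun a => ⟨((a : B'), (0 : C)), by
        have : f (a : B') = 0 := a.2
        simp [P, AlgHom.mem_equalizer, this]⟩
      map_add' := fun a b => by ext <;> simp
      map_smul' := fun r a => by ext <;> simp }
  have hj₁ : p₁ ∘ₗ j = J.subtype := by
    ext a; rfl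
  have hj₂ : p₂ ∘ₗ j = 0 := by
    ext a; rfl
  have hfp : f.toLinearMap ∘ₗ p₁ = g.toLinearMap ∘ₗ p₂ := by
    ext z
    exact z.2
  have hp₂surj : Function.Surjective p₂ := by
    intro c
    obtain ⟨b', hb'⟩ := hf (g c)
    exact ⟨⟨(b', c), by simp [P, AlgHom.mem_equalizer, hb']⟩, rfl⟩
  have hex₂ : Function.Exact j p₂ := by
    intro z
    constructor
    · intro hz
      have hz2 : (z : B' × C).2 = 0 := hz
      have hz' : f (z : B' × C).1 = g (z : B' × C).2 := z.2
      refine ⟨⟨(z : B' × C).1, ?_⟩, ?_⟩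
      · change f (z : B' × C).1 = 0
        rw [hz', hz2, map_zero]
      · ext
        · rfl
        · exact hz2.symm
    · rintro ⟨a, rfl⟩
      rfl
  have hex₁ : Function.Exact J.subtype f.toLinearMap := by
    intro b
    constructor
    · intro hb
      exact ⟨⟨b, hb⟩, rfl⟩
    · rintro ⟨a, rfl⟩
      exact a.2
  have hEx₂ := lTensor_exact S hex₂ hp₂surj
  have hEx₁ := lTensor_exact S hex₁ (show Function.Surjective f.toLinearMap from hf)
  constructor
  · intro z z' hzz'
    have e1 : φ₁ z = φ₁ z' := (Prod.ext_iff.mp hzz').1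
    have e2 : φ₂ z = φ₂ z' := (Prod.ext_iff.mp hzz').2
    have h1 : φ₁ (z - z') = 0 := by rw [map_sub, e1, sub_self]
    have h2 : φ₂ (z - z') = 0 := by rw [map_sub, e2, sub_self]
    rw [hφ₂] at h2
    obtain ⟨w, hw⟩ := (hEx₂ _).1 h2
    rw [hφ₁, ← hw, ← LinearMap.comp_apply, ← LinearMap.lTensor_comp, hj₁] at h1
    have hw0 : w = 0 := hJ (by rw [h1, map_zero])
    rw [hw0, map_zero] at hw
    exact sub_eq_zero.mp hw.symm
  · intro x y hxy
    obtain ⟨z₀, hz₀⟩ := LinearMap.lTensor_surjective S hp₂surj y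
    have h1 : LinearMap.lTensor S f.toLinearMap (x - LinearMap.lTensor S p₁ z₀) = 0 := by
      rw [map_sub, ← hf', hxy, hg', ← hz₀, ← LinearMap.comp_apply, ← LinearMap.comp_apply,
        ← LinearMap.lTensor_comp, ← LinearMap.lTensor_comp, hfp, sub_self]
    obtain ⟨w, hw⟩ := (hEx₁ _).1 h1
    refine ⟨z₀ + LinearMap.lTensor S j w, ?_, ?_⟩
    · rw [hφ₁, map_add, ← LinearMap.comp_apply, ← LinearMap.lTensor_comp, hj₁, hw]
      abel
    · rw [hφ₂, map_add, ← LinearMap.comp_apply, ← LinearMap.lTensor_comp, hj₂, hz₀]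
      simp

end Groth.Agent.S3209
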