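import Groth.Statements.S3214
import Mathlib

set_option autoImplicit false
open Polynomial
universe u
open SGA7II

namespace Groth.Agent.S3214

/-- In the recursive form established in its proof: let A = Z[X_1, ..., X_a] (a >= 1), P = prod_i (T -
X_i) in A[T] and S_i the i-th elementary symmetric function. Writing a_j for the coefficient of
T^{a-1} in the remainder of T^{a-1+j} modulo P, one has a_0 = 1 and sum_{i=0}^{a} (-1)^i S_i a_{j-i}
= 0 for every j > 0 (with a_m = 0 for m < 0); equivalently sum_j (-1)^j a_j is the inverse of sum_i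
S_i. (The source works in formal power series; the identity involves only polynomials.) -/
theorem result (a : ℕ) (ha : 0 < a) :
    let P : (MvPolynomial (Fin a) ℤ)[X] := ∏ i : Fin a, (X - C (MvPolynomial.X i))
    let coef : ℤ → MvPolynomial (Fin a) ℤ := fun j =>
      if j < 0 then 0 else ((X : (MvPolynomial (Fin a) ℤ)[X]) ^ (a - 1 + j.toNat) %ₘ P).coeff (a - 1)
    coef 0 = 1 ∧ ∀ j : ℕ, 0 < j →
      (∑ i ∈ Finset.range (a + 1), (-1 : MvPolynomial (Fin a) ℤ) ^ i * MvPolynomial.esymm (Fin a) ℤ i *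
        coef ((j : ℤ) - i)) = 0 := by
  intro P coef
  classical
  have hmon : ∀ i : Fin a, (X - C (MvPolynomial.X i) : (MvPolynomial (Fin a) ℤ)[X]).Monic :=
    fun i => Polynomial.monic_X_sub_C _
  have hPmonic : P.Monic := Polynomial.monic_prod_of_monic _ _ (fun i _ => hmon i)
  have hPdeg : P.natDegree = a := by
    rw [Polynomial.natDegree_prod_of_monic _ _ (fun i _ => hmon i)]
    simp [Polynomial.natDegree_X_sub_C]
  have hPsum : P = ∑ i ∈ Finset.range (a + 1), (-1 : (MvPolynomial (Fin a) ℤ)[X]) ^ i *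
      (C (MvPolynomial.esymm (Fin a) ℤ i) * X ^ (a - i)) := by
    have h := Multiset.prod_X_sub_X_eq_sum_esymm
      ((Finset.univ : Finset (Fin a)).val.map
        (MvPolynomial.X : Fin a → MvPolynomial (Fin a) ℤ))
    rw [Multiset.map_map, Multiset.card_map, Finset.card_val, Finset.card_univ, Fintype.card_fin,
      ← MvPolynomial.esymm_eq_multiset_esymm] at h
    rw [← h]
    rfl
  have hkey : ∀ n, a ≤ n → ∑ i ∈ Finset.range (a + 1),
      (-1 : MvPolynomial (Fin a) ℤ) ^ i * MvPolynomial.esymm (Fin a) ℤ i *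
        ((X : (MvPolynomial (Fin a) ℤ)[X]) ^ (n - i) %ₘ P).coeff (a - 1) = 0 := by
    intro n hn
    have h1 : (P * X ^ (n - a)) %ₘ P = 0 := by
      rw [Polynomial.modByMonic_eq_zero_iff_dvd hPmonic]; exact dvd_mul_right _ _
    have h2 : P * X ^ (n - a) = ∑ i ∈ Finset.range (a + 1),
        ((-1 : MvPolynomial (Fin a) ℤ) ^ i * MvPolynomial.esymm (Fin a) ℤ i) •
          (X : (MvPolynomial (Fin a) ℤ)[X]) ^ (n - i) := by
      conv_lhs => rw [hPsum]
      rw [Finset.sum_mul]
      apply Finset.sum_congr rfl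
      intro i hi
      have hia : i ≤ a := Nat.lt_succ_iff.mp (Finset.mem_range.mp hi)
      have he : a - i + (n - a) = n - i := by omega
      rw [Polynomial.smul_eq_C_mul, map_mul, map_pow, map_neg, map_one, mul_assoc, mul_assoc,
        ← pow_add, he, mul_assoc]
    rw [h2] at h1
    have h4 := map_sum (Polynomial.modByMonicHom P)
      (fun i => ((-1 : MvPolynomial (Fin a) ℤ) ^ i * MvPolynomial.esymm (Fin a) ℤ i) •
        (X : (MvPolynomial (Fin a) ℤ)[X]) ^ (n - i)) (Finset.range (a + 1))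
    simp only [map_smul, Polynomial.modByMonicHom_apply] at h4
    rw [h4] at h1
    have h3 := congrArg (fun q => q.coeff (a - 1)) h1
    simp only [Polynomial.finsetSum_coeff, Polynomial.coeff_smul, smul_eq_mul,
      Polynomial.coeff_zero] at h3
    exact h3
  have hdeglt : ∀ m, m < a → (X : (MvPolynomial (Fin a) ℤ)[X]) ^ m %ₘ P = X ^ m := by
    intro m hm
    rw [Polynomial.modByMonic_eq_self_iff hPmonic, Polynomial.degree_X_pow,
      Polynomial.degree_eq_natDegree hPmonic.ne_zero, hPdeg]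
    exact_mod_cast hm
  refine ⟨?_, ?_⟩
  · show (if (0 : ℤ) < 0 then (0 : MvPolynomial (Fin a) ℤ) else
      ((X : (MvPolynomial (Fin a) ℤ)[X]) ^ (a - 1 + (0 : ℤ).toNat) %ₘ P).coeff (a - 1)) = 1
    rw [if_neg (lt_irrefl _), Int.toNat_zero, add_zero, hdeglt (a - 1) (by omega),
      Polynomial.coeff_X_pow, if_pos rfl]
  · intro j hj
    have hc : ∀ i, i ≤ a → coef ((j : ℤ) - i) =
        ((X : (MvPolynomial (Fin a) ℤ)[X]) ^ (a - 1 + j - i) %ₘ P).coeff (a - 1) := by
      intro i hi
      show (if ((j : ℤ) - i) < 0 then (0 : MvPolynomial (Fin a) ℤ) else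
        ((X : (MvPolynomial (Fin a) ℤ)[X]) ^ (a - 1 + ((j : ℤ) - i).toNat) %ₘ P).coeff (a - 1)) = _
      by_cases hij : i ≤ j
      · have h1 : ¬ ((j : ℤ) - i < 0) := by omega
        have h2 : ((j : ℤ) - i).toNat = j - i := by omega
        have h3 : a - 1 + (j - i) = a - 1 + j - i := by omega
        rw [if_neg h1, h2, h3]
      · have h1 : ((j : ℤ) - i < 0) := by omega
        rw [if_pos h1, hdeglt (a - 1 + j - i) (by omega), Polynomial.coeff_X_pow,
          if_neg (by omega)]
    rw [← hkey (a - 1 + j) (by omega)]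
    apply Finset.sum_congr rfl
    intro i hi
    rw [hc i (Nat.lt_succ_iff.mp (Finset.mem_range.mp hi))]

end Groth.Agent.S3214
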