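import Groth.Statements.S3287
-- import your own Groth.Agent.* helpers here

set_option autoImplicit false
universe u
open Finset
open LambdaRing

namespace Groth.Agent.S3287

/-- For a line element u (positive of augmentation one) of a λ-ring with positive structure, ψ^j(u) =
u^j for every j. -/
theorem result (K : Type u) [CommRing K] [LambdaRing.LambdaOps K] (P : LambdaRing.PosStructure K) (u : K) (hu : P.IsLine u) (j : ℕ) :
    LambdaRing.adams P j u = u ^ j := by
  obtain ⟨hpos, haug⟩ := hu
  have hlam : LambdaRing.lamSeries u = 1 + PowerSeries.C u * PowerSeries.X := by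
    ext i
    simp only [LambdaRing.lamSeries, PowerSeries.coeff_mk, map_add, PowerSeries.coeff_one]
    rcases i with _ | _ | i
    · simp [LambdaRing.LambdaOps.lam_zero]
    · simp [LambdaRing.LambdaOps.lam_one]
    · have : LambdaRing.LambdaOps.lam (i + 2) u = 0 :=
        P.lam_eq_zero u hpos (i + 2) (by rw [haug]; omega)
      simp [this, PowerSeries.coeff_succ_mul_X]
  set G : PowerSeries K := PowerSeries.mk fun n => u ^ n with hG
  have hresc : PowerSeries.rescale (-1 : K) (LambdaRing.lamSeries u) = 1 - PowerSeries.C u * PowerSeries.X := by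
    rw [hlam, map_add, map_one, map_mul, PowerSeries.rescale_X]
    have : PowerSeries.rescale (-1 : K) (PowerSeries.C u) = PowerSeries.C u := by
      ext n
      rw [PowerSeries.coeff_rescale, PowerSeries.coeff_C]
      split_ifs with h
      · rw [h, pow_zero, one_mul]
      · rw [mul_zero]
    rw [this, map_neg, map_one]
    ring
  have hGmul : (1 - PowerSeries.C u * PowerSeries.X) * G = 1 := by
    ext n
    rw [sub_mul, one_mul, map_sub, mul_assoc, PowerSeries.coeff_C_mul]
    rcases n with _ | n
    · simp [hG]
    · rw [mul_comm PowerSeries.X G, PowerSeries.coeff_succ_mul_X]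
      simp [hG, pow_succ']
  have hinv : (1 - PowerSeries.C u * PowerSeries.X).invOfUnit 1 = G := by
    have h1 : PowerSeries.constantCoeff (1 - PowerSeries.C u * PowerSeries.X) = ((1 : Kˣ) : K) := by
      simp
    have h2 := PowerSeries.mul_invOfUnit _ (1 : Kˣ) h1
    calc (1 - PowerSeries.C u * PowerSeries.X).invOfUnit 1
        = (1 - PowerSeries.C u * PowerSeries.X).invOfUnit 1 * ((1 - PowerSeries.C u * PowerSeries.X) * G) := by
          rw [hGmul, mul_one]
      _ = ((1 - PowerSeries.C u * PowerSeries.X) * (1 - PowerSeries.C u * PowerSeries.X).invOfUnit 1) * G := by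
          ring
      _ = G := by rw [h2, one_mul]
  have hder : PowerSeries.derivative K (1 - PowerSeries.C u * PowerSeries.X) = - PowerSeries.C u := by
    rw [map_sub, Derivation.leibniz]
    simp
  have hA : LambdaRing.adamsSeries P u = G := by
    unfold LambdaRing.adamsSeries
    rw [hresc, hinv, hder, haug]
    have h3 : PowerSeries.C u * PowerSeries.X * G = G - 1 := by
      rw [← hGmul]; ring
    calc PowerSeries.C ((1 : ℤ) : K) - PowerSeries.X * -PowerSeries.C u * G
        = 1 + PowerSeries.C u * PowerSeries.X * G := by
          rw [Int.cast_one, map_one]; ring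
      _ = G := by rw [h3]; ring
  unfold LambdaRing.adams
  rw [hA, hG, PowerSeries.coeff_mk]

end Groth.Agent.S3287
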