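import Groth.Statements.S3350
-- import your own Groth.Agent.* helpers here

set_option autoImplicit false
open Finset
open Models Models.NumericalType

namespace Groth.Agent.S3350

/-- Classification of proper subgraphs with two vertices: Let T be a numerical type on n > 2 indices and
i ≠ j two (-2)-indices (g = 0 and a_ii = -2 w_i, a_jj = -2 w_j) with a_ij > 0. Then, after possibly
exchanging i and j, one of the following holds with w = w_i: (A2) w_j = w, a_ij = w, 2 m_i ≥ m_j and
2 m_j ≥ m_i; (B2) w_j = 2w, a_ij = 2w, m_i ≥ m_j and 2 m_j ≥ m_i; (G2) w_j = 3w, a_ij = 3w, 2 m_i ≥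
3 m_j and 2 m_j ≥ m_i. -/
theorem result {n : ℕ} (T : Models.NumericalType n) (hn : 2 < n) (i j : Fin n)
    (hij : i ≠ j) (hi : T.IsMinusTwo i) (hj : T.IsMinusTwo j) (hpos : 0 < T.a i j) :
    ∃ i' j' : Fin n, ((i' = i ∧ j' = j) ∨ (i' = j ∧ j' = i)) ∧
      ((T.w j' = T.w i' ∧ T.a i' j' = T.w i' ∧ T.m j' ≤ 2 * T.m i' ∧ T.m i' ≤ 2 * T.m j') ∨
        (T.w j' = 2 * T.w i' ∧ T.a i' j' = 2 * T.w i' ∧ T.m j' ≤ T.m i' ∧ T.m i' ≤ 2 * T.m j') ∨
        (T.w j' = 3 * T.w i' ∧ T.a i' j' = 3 * T.w i' ∧ 3 * T.m j' ≤ 2 * T.m i' ∧ T.m i' ≤ 2 * T.m j')) := by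
  classical
  have hmi := T.m_pos i
  have hmj := T.m_pos j
  have hwi := T.w_pos i
  have hwj := T.w_pos j
  have hsymm : T.a j i = T.a i j := by
    have := T.symm
    exact congrFun (congrFun this i) j
  -- the row equations
  have row : ∀ (p q : Fin n), p ≠ q →
      T.a p p * T.m p + T.a p q * T.m q + ∑ k ∈ (univ.erase p).erase q, T.a p k * T.m k = 0 := by
    intro p q hpq
    have h := congrFun T.mulVec_m p
    simp only [Matrix.mulVec, dotProduct, Pi.zero_apply] at h
    rw [← Finset.add_sum_erase univ _ (Finset.mem_univ p)] at h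
    rw [← Finset.add_sum_erase (univ.erase p) _ (Finset.mem_erase.2 ⟨hpq.symm, Finset.mem_univ q⟩)] at h
    linarith
  have restnn : ∀ (p q : Fin n), 0 ≤ ∑ k ∈ (univ.erase p).erase q, T.a p k * T.m k := by
    intro p q
    refine Finset.sum_nonneg fun k hk => ?_
    have hkp : k ≠ p := (Finset.mem_erase.1 (Finset.mem_erase.1 hk).2).1
    exact mul_nonneg (T.offDiag_nonneg p k hkp.symm) (le_of_lt (T.m_pos k))
  have Ei := row i j hij
  have Ej := row j i hij.symm
  have Ri := restnn i j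
  have Rj := restnn j i
  rw [hi.2] at Ei
  rw [hj.2, hsymm] at Ej
  obtain ⟨s, hs⟩ := T.w_dvd i j
  obtain ⟨t, ht⟩ := T.w_dvd j i
  rw [hsymm] at ht
  have hs1 : 1 ≤ s := by
    by_contra h
    have : s ≤ 0 := by omega
    nlinarith
  have ht1 : 1 ≤ t := by
    by_contra h
    have : t ≤ 0 := by omega
    nlinarith
  -- key inequalities
  have k1 : s * T.m j ≤ 2 * T.m i := by
    have : T.w i * (s * T.m j) ≤ T.w i * (2 * T.m i) := by
      have : T.a i j * T.m j ≤ 2 * T.w i * T.m i := by linarith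
      rw [hs] at this
      linarith
    exact le_of_mul_le_mul_left this hwi
  have k2 : t * T.m i ≤ 2 * T.m j := by
    have : T.w j * (t * T.m i) ≤ T.w j * (2 * T.m j) := by
      have : T.a i j * T.m i ≤ 2 * T.w j * T.m j := by linarith
      rw [ht] at this
      linarith
    exact le_of_mul_le_mul_left this hwj
  have hst : s * t ≤ 4 := by
    have h1 : (s * T.m j) * (t * T.m i) ≤ (2 * T.m i) * (2 * T.m j) :=
      mul_le_mul k1 k2 (by positivity) (by positivity)
    have h2 : 0 < T.m i * T.m j := mul_pos hmi hmj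
    by_contra h
    have : 5 ≤ s * t := by omega
    nlinarith
  have hs4 : s ≤ 4 := by nlinarith
  have ht4 : t ≤ 4 := by nlinarith
  -- the equality case is excluded by connectedness
  have noeq : ¬ (s * T.m j = 2 * T.m i ∧ t * T.m i = 2 * T.m j) := by
    rintro ⟨e1, e2⟩
    have Ri0 : ∑ k ∈ (univ.erase i).erase j, T.a i k * T.m k = 0 := by
      have : T.a i j * T.m j = 2 * T.w i * T.m i := by
        rw [hs]; linear_combination (T.w i) * e1
      linarith
    have Rj0 : ∑ k ∈ (univ.erase j).erase i, T.a j k * T.m k = 0 := by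
      have : T.a i j * T.m i = 2 * T.w j * T.m j := by
        rw [ht]; linear_combination (T.w j) * e2
      linarith
    have zi : ∀ k, k ≠ i → k ≠ j → T.a i k = 0 := by
      intro k hki hkj
      have hk : k ∈ (univ.erase i).erase j :=
        Finset.mem_erase.2 ⟨hkj, Finset.mem_erase.2 ⟨hki, Finset.mem_univ k⟩⟩
      have := (Finset.sum_eq_zero_iff_of_nonneg (fun k hk => by
        have hkp : k ≠ i := (Finset.mem_erase.1 (Finset.mem_erase.1 hk).2).1
        exact mul_nonneg (T.offDiag_nonneg i k hkp.symm) (le_of_lt (T.m_pos k)))).1 Ri0 k hk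
      rcases mul_eq_zero.1 this with h | h
      · exact h
      · have := T.m_pos k; omega
    have zj : ∀ k, k ≠ i → k ≠ j → T.a j k = 0 := by
      intro k hki hkj
      have hk : k ∈ (univ.erase j).erase i :=
        Finset.mem_erase.2 ⟨hki, Finset.mem_erase.2 ⟨hkj, Finset.mem_univ k⟩⟩
      have := (Finset.sum_eq_zero_iff_of_nonneg (fun k hk => by
        have hkp : k ≠ j := (Finset.mem_erase.1 (Finset.mem_erase.1 hk).2).1
        exact mul_nonneg (T.offDiag_nonneg j k hkp.symm) (le_of_lt (T.m_pos k)))).1 Rj0 k hk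
      rcases mul_eq_zero.1 this with h | h
      · exact h
      · have := T.m_pos k; omega
    have hne : ({i, j} : Finset (Fin n)) ≠ univ := by
      intro h
      have h1 : ({i, j} : Finset (Fin n)).card = n := by rw [h]; simp
      have h2 : ({i, j} : Finset (Fin n)).card ≤ 2 := Finset.card_le_two
      omega
    obtain ⟨p, hp, q, hq, hpq⟩ := T.connected {i, j} ⟨i, by simp⟩ hne
    have hqi : q ≠ i := fun h => hq (by simp [h])
    have hqj : q ≠ j := fun h => hq (by simp [h])
    rcases Finset.mem_insert.1 hp with rfl | hp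
    · exact hpq (zi q hqi hqj)
    · rw [Finset.mem_singleton] at hp
      subst hp
      exact hpq (zj q hqi hqj)
  have hwa : T.a i j = T.w i * s := hs
  have hwb : T.a i j = T.w j * t := ht
  have hji : T.a j i = T.a i j := hsymm
  interval_cases s <;> interval_cases t
  all_goals first
    | (exfalso; omega)
    | (exfalso; apply noeq; constructor <;> omega)
    | skip
  -- remaining cases: (1,1), (1,2), (1,3), (2,1), (3,1)
  · -- (1,1)
    refine ⟨i, j, Or.inl ⟨rfl, rfl⟩, Or.inl ⟨?_, ?_, ?_, ?_⟩⟩ <;> [linarith; linarith; linarith; linarith]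
  · -- (1,2): a = w_i = 2 w_j, swap
    refine ⟨j, i, Or.inr ⟨rfl, rfl⟩, Or.inr (Or.inl ⟨?_, ?_, ?_, ?_⟩)⟩ <;> [linarith; linarith; linarith; linarith]
  · -- (1,3)
    refine ⟨j, i, Or.inr ⟨rfl, rfl⟩, Or.inr (Or.inr ⟨?_, ?_, ?_, ?_⟩)⟩ <;> [linarith; linarith; linarith; linarith]
  · -- (2,1): a = 2 w_i = w_j
    refine ⟨i, j, Or.inl ⟨rfl, rfl⟩, Or.inr (Or.inl ⟨?_, ?_, ?_, ?_⟩)⟩ <;> [linarith; linarith; linarith; linarith]
  · -- (3,1)
    refine ⟨i, j, Or.inl ⟨rfl, rfl⟩, Or.inr (Or.inr ⟨?_, ?_, ?_, ?_⟩)⟩ <;> [linarith; linarith; linarith; linarith]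

end Groth.Agent.S3350
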