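import Groth.Statements.S3351
import Groth.Agent.Lib.Helper5.Lattice

set_option autoImplicit false
open Models

namespace Groth.Agent.S3351

/-- Let L be a finite free Z-module with a positive definite symmetric integral bilinear form, A ⊆ L a
submodule with L/A torsion free and B the orthogonal complement of A. Write M^# for the dual lattice
of a sublattice M, identified here with the Z-dual Hom(M, Z) through the form. Then the natural maps
L/(A ⊕ B) → B^#/B and L/(A ⊕ B) → A^#/A are injective: an element x of L whose functional ⟨x, -⟩ on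
B (resp. on A) is represented by an element of B (resp. of A) lies in A ⊕ B. Moreover the
restriction maps L^# → B^# and L^# → A^# are surjective, so that the cokernels of the two injections
are quotients of L^#/L. -/
theorem result {L : Type} [AddCommGroup L] [Module.Finite ℤ L] [Module.Free ℤ L]
    (B : LinearMap.BilinForm ℤ L) (hsymm : B.IsSymm) (hpos : ∀ x, x ≠ 0 → 0 < B x x)
    (A : Submodule ℤ L) (htf : ∀ (c : ℤ) (x : L), c ≠ 0 → c • x ∈ A → x ∈ A) :
    (∀ x : L, (∃ b ∈ B.orthogonal A, ∀ b' ∈ B.orthogonal A, B x b' = B b b') → x ∈ A ⊔ B.orthogonal A) ∧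
      (∀ x : L, (∃ a ∈ A, ∀ a' ∈ A, B x a' = B a a') → x ∈ A ⊔ B.orthogonal A) ∧
      (∀ ψ : Module.Dual ℤ ↥(B.orthogonal A), ∃ φ : Module.Dual ℤ L, φ ∘ₗ (B.orthogonal A).subtype = ψ) ∧
      (∀ ψ : Module.Dual ℤ ↥A, ∃ φ : Module.Dual ℤ L, φ ∘ₗ A.subtype = ψ) := by
  have hsymm' : ∀ x y, B x y = B y x := fun x y => hsymm.eq x y
  have hmemO : ∀ z : L, z ∈ B.orthogonal A ↔ ∀ n ∈ A, B n z = 0 := by
    intro z
    rw [LinearMap.BilinForm.mem_orthogonal_iff]
  refine ⟨?_, ?_, ?_, ?_⟩
  · rintro x ⟨b, hb, hxb⟩
    have hy : ∀ b' ∈ B.orthogonal A, B (x - b) b' = 0 := by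
      intro b' hb'
      rw [LinearMap.map_sub₂, hxb b' hb', sub_self]
    obtain ⟨c, hc, a, ha, hz⟩ :=
      Groth.Agent.Helper5.Lattice.exists_smul_sub_mem_orthogonal B hpos A (x - b)
    have hzz : B (c • (x - b) - a) (c • (x - b) - a) = 0 := by
      have h1 : B (x - b) (c • (x - b) - a) = 0 := hy _ hz
      have h2 : B a (c • (x - b) - a) = 0 := (hmemO _).mp hz a ha
      rw [LinearMap.map_sub₂, LinearMap.map_smul₂, h1, h2, smul_zero, sub_zero]
    have hz0 : c • (x - b) - a = 0 := by
      by_contra hne
      have := hpos _ hne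
      rw [hzz] at this
      exact lt_irrefl _ this
    have hxbA : x - b ∈ A := by
      apply htf c _ hc
      rw [sub_eq_zero.mp hz0]
      exact ha
    have : x = (x - b) + b := by abel
    rw [this]
    exact Submodule.add_mem_sup hxbA hb
  · rintro x ⟨a, ha, hxa⟩
    have hy : x - a ∈ B.orthogonal A := by
      rw [hmemO]
      intro n hn
      rw [hsymm', LinearMap.map_sub₂, hxa n hn, sub_self]
    have : x = a + (x - a) := by abel
    rw [this]
    exact Submodule.add_mem_sup ha hy
  · intro ψ
    apply Groth.Agent.Helper5.Lattice.exists_extension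
    intro c x hc hx
    rw [hmemO] at hx ⊢
    intro n hn
    have := hx n hn
    rw [map_smul, smul_eq_mul] at this
    rcases mul_eq_zero.mp this with h | h
    · exact absurd h hc
    · exact h
  · intro ψ
    exact Groth.Agent.Helper5.Lattice.exists_extension A htf ψ

end Groth.Agent.S3351
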