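import Groth.Statements.S3352
import Groth.Agent.Lib.Helper5.Lattice

set_option autoImplicit false
open Models

namespace Groth.Agent.S3352

/-- Let L₀, L₁ be finite free ℤ-modules with positive definite symmetric integral bilinear forms, the
form on L₀ unimodular (x ↦ ⟨x, −⟩ is a bijection L₀ → Hom(L₀, ℤ)), and let d : L₀ → L₁ and d* : L₁ →
L₀ be adjoint. Identify Im(d)^# (the dual lattice of Im(d)) with Hom(Im(d), ℤ) through the form on
L₁. Then there is an isomorphism Φ from the torsion subgroup of Coker(d* d) onto Im(d)^#/Im(d),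
determined by: for x ∈ L₀ whose class is torsion, Φ[x] is the class of the functional d(y') ↦ ⟨x,
y'⟩ (equivalently the class of (1/a)·d(y) when a·x = d* d(y)). -/
theorem result {L₀ L₁ : Type} [AddCommGroup L₀] [AddCommGroup L₁]
    [Module.Finite ℤ L₀] [Module.Free ℤ L₀] [Module.Finite ℤ L₁] [Module.Free ℤ L₁]
    (B₀ : LinearMap.BilinForm ℤ L₀) (B₁ : LinearMap.BilinForm ℤ L₁) (h₀s : B₀.IsSymm) (h₁s : B₁.IsSymm)
    (h₀p : ∀ x, x ≠ 0 → 0 < B₀ x x) (h₁p : ∀ x, x ≠ 0 → 0 < B₁ x x) (huni : Function.Bijective B₀)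
    (d : L₀ →ₗ[ℤ] L₁) (ds : L₁ →ₗ[ℤ] L₀) (hadj : ∀ x y, B₁ (d x) y = B₀ x (ds y)) :
    ∃ Φ : ↥(Submodule.torsion ℤ (L₀ ⧸ LinearMap.range (ds ∘ₗ d))) ≃ₗ[ℤ]
        (Module.Dual ℤ ↥(LinearMap.range d) ⧸
          LinearMap.range ((B₁.compl₂ (LinearMap.range d).subtype) ∘ₗ (LinearMap.range d).subtype)),
      ∀ (x : L₀) (hx : Submodule.Quotient.mk x ∈ Submodule.torsion ℤ (L₀ ⧸ LinearMap.range (ds ∘ₗ d)))
        (ψ : Module.Dual ℤ ↥(LinearMap.range d)),
        (∀ y' : L₀, ψ ⟨d y', LinearMap.mem_range_self d y'⟩ = B₀ x y') →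
          Φ ⟨Submodule.Quotient.mk x, hx⟩ = Submodule.Quotient.mk ψ := by
  classical
  have sym₀ : ∀ x y, B₀ x y = B₀ y x := fun x y => h₀s.eq x y
  have sym₁ : ∀ x y, B₁ x y = B₁ y x := fun x y => h₁s.eq x y
  -- nondegeneracy of B₀
  have nondeg : ∀ x z : L₀, (∀ y', B₀ x y' = B₀ z y') → x = z := by
    intro x z h
    by_contra hne
    have hne' : x - z ≠ 0 := sub_ne_zero.mpr hne
    have := h₀p _ hne'
    rw [LinearMap.map_sub₂, h (x - z), sub_self] at this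
    exact lt_irrefl _ this
  have key : ∀ y₀ y' : L₀, B₀ (ds (d y₀)) y' = B₁ (d y₀) (d y') := by
    intro y₀ y'
    rw [sym₀, ← hadj, sym₁]
  set R := LinearMap.range (ds ∘ₗ d) with hR
  set E := LinearMap.range ((B₁.compl₂ (LinearMap.range d).subtype) ∘ₗ (LinearMap.range d).subtype) with hE
  let Rep : L₀ → Module.Dual ℤ ↥(LinearMap.range d) → Prop :=
    fun x ψ => ∀ y' : L₀, ψ ⟨d y', LinearMap.mem_range_self d y'⟩ = B₀ x y'
  have rep_sub : ∀ x x' ψ ψ', Rep x ψ → Rep x' ψ' → Rep (x - x') (ψ - ψ') := by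
    intro x x' ψ ψ' h h' y'
    rw [LinearMap.sub_apply, h y', h' y', LinearMap.map_sub₂]
  have rep_add : ∀ x x' ψ ψ', Rep x ψ → Rep x' ψ' → Rep (x + x') (ψ + ψ') := by
    intro x x' ψ ψ' h h' y'
    rw [LinearMap.add_apply, h y', h' y', LinearMap.map_add₂]
  have rep_smul : ∀ (c : ℤ) x ψ, Rep x ψ → Rep (c • x) (c • ψ) := by
    intro c x ψ h y'
    rw [LinearMap.smul_apply, h y', LinearMap.map_smul₂]
  have rep_mem_iff : ∀ x ψ, Rep x ψ → (ψ ∈ E ↔ x ∈ R) := by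
    intro x ψ h
    constructor
    · rintro ⟨⟨m, y₀, rfl⟩, hm⟩
      refine ⟨y₀, ?_⟩
      symm
      apply nondeg
      intro y'
      rw [← h y', ← hm]
      change B₁ (d y₀) (d y') = B₀ (ds (d y₀)) y'
      rw [key]
    · rintro ⟨y₀, rfl⟩
      refine ⟨⟨d y₀, LinearMap.mem_range_self d y₀⟩, ?_⟩
      ext ⟨q, y', rfl⟩
      rw [h y']
      change B₁ (d y₀) (d y') = _
      rw [← key]
      rfl
  have tors_iff : ∀ x : L₀, (Submodule.Quotient.mk x : L₀ ⧸ R) ∈ Submodule.torsion ℤ (L₀ ⧸ R) ↔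
      ∃ a : ℤ, a ≠ 0 ∧ a • x ∈ R := by
    intro x
    rw [Submodule.mem_torsion_iff]
    constructor
    · rintro ⟨a, ha⟩
      refine ⟨a.1, nonZeroDivisors.ne_zero a.2, ?_⟩
      rw [← Submodule.Quotient.mk_eq_zero, Submodule.Quotient.mk_smul]
      exact ha
    · rintro ⟨a, ha, hax⟩
      refine ⟨⟨a, mem_nonZeroDivisors_of_ne_zero ha⟩, ?_⟩
      change a • (Submodule.Quotient.mk x : L₀ ⧸ R) = 0
      rw [← Submodule.Quotient.mk_smul, Submodule.Quotient.mk_eq_zero]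
      exact hax
  have exists_rep : ∀ x : L₀, (Submodule.Quotient.mk x : L₀ ⧸ R) ∈ Submodule.torsion ℤ (L₀ ⧸ R) →
      ∃ ψ, Rep x ψ := by
    intro x hx
    obtain ⟨a, ha, y₀, hy₀⟩ := (tors_iff x).mp hx
    have hker : LinearMap.ker d ≤ LinearMap.ker (B₀ x) := by
      intro y' hy'
      rw [LinearMap.mem_ker] at hy' ⊢
      have h1 : a * B₀ x y' = 0 := by
        rw [← smul_eq_mul, ← LinearMap.map_smul₂, ← hy₀, LinearMap.comp_apply, key, hy', map_zero]
      rcases mul_eq_zero.mp h1 with h | h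
      · exact absurd h ha
      · exact h
    refine ⟨(Submodule.liftQ (LinearMap.ker d) (B₀ x) hker) ∘ₗ
      (LinearMap.quotKerEquivRange d).symm.toLinearMap, ?_⟩
    intro y'
    rw [LinearMap.comp_apply, LinearEquiv.coe_coe, LinearMap.quotKerEquivRange_symm_apply_image]
    rfl
  have exists_tors_rep : ∀ ψ : Module.Dual ℤ ↥(LinearMap.range d), ∃ x : L₀,
      (Submodule.Quotient.mk x : L₀ ⧸ R) ∈ Submodule.torsion ℤ (L₀ ⧸ R) ∧ Rep x ψ := by
    intro ψ
    obtain ⟨x, hx⟩ := huni.2 (ψ ∘ₗ d.rangeRestrict)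
    have hrep : Rep x ψ := by
      intro y'
      have := congrArg (fun f => f y') hx
      simp only [LinearMap.comp_apply] at this
      rw [this]
      rfl
    refine ⟨x, ?_, hrep⟩
    obtain ⟨c, hc, a, ⟨y₀, rfl⟩, h⟩ :=
      Groth.Agent.Helper5.Lattice.exists_smul_eq_form B₁ h₁p (LinearMap.range d) ψ
    rw [tors_iff]
    refine ⟨c, hc, y₀, ?_⟩
    rw [LinearMap.comp_apply]
    apply nondeg
    intro y'
    rw [key, sym₁, h ⟨d y', LinearMap.mem_range_self d y'⟩, hrep y', LinearMap.map_smul₂, smul_eq_mul]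
  -- the map
  have hex : ∀ t : ↥(Submodule.torsion ℤ (L₀ ⧸ R)), ∃ q : Module.Dual ℤ ↥(LinearMap.range d) ⧸ E,
      ∀ x ψ, (Submodule.Quotient.mk x : L₀ ⧸ R) = t.1 → Rep x ψ → q = Submodule.Quotient.mk ψ := by
    intro t
    obtain ⟨x₀, hx₀⟩ := Submodule.Quotient.mk_surjective R t.1
    obtain ⟨ψ₀, hψ₀⟩ := exists_rep x₀ (by rw [hx₀]; exact t.2)
    refine ⟨Submodule.Quotient.mk ψ₀, ?_⟩
    intro x ψ hx hψ
    rw [Submodule.Quotient.eq]
    have hmem : x₀ - x ∈ R := by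
      rw [← Submodule.Quotient.eq, hx₀, hx]
    exact (rep_mem_iff _ _ (rep_sub _ _ _ _ hψ₀ hψ)).mpr hmem
  choose F hF using hex
  have hFadd : ∀ t t', F (t + t') = F t + F t' := by
    intro t t'
    obtain ⟨x, hx⟩ := Submodule.Quotient.mk_surjective R t.1
    obtain ⟨x', hx'⟩ := Submodule.Quotient.mk_surjective R t'.1
    obtain ⟨ψ, hψ⟩ := exists_rep x (by rw [hx]; exact t.2)
    obtain ⟨ψ', hψ'⟩ := exists_rep x' (by rw [hx']; exact t'.2)
    rw [hF t x ψ hx hψ, hF t' x' ψ' hx' hψ', ← Submodule.Quotient.mk_add]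
    apply hF (t + t') (x + x') (ψ + ψ') _ (rep_add _ _ _ _ hψ hψ')
    rw [Submodule.Quotient.mk_add, hx, hx']
    rfl
  have hFsmul : ∀ (c : ℤ) t, F (c • t) = c • F t := by
    intro c t
    obtain ⟨x, hx⟩ := Submodule.Quotient.mk_surjective R t.1
    obtain ⟨ψ, hψ⟩ := exists_rep x (by rw [hx]; exact t.2)
    rw [hF t x ψ hx hψ, ← Submodule.Quotient.mk_smul]
    apply hF (c • t) (c • x) (c • ψ) _ (rep_smul _ _ _ hψ)
    rw [Submodule.Quotient.mk_smul, hx]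
    rfl
  let Flin : ↥(Submodule.torsion ℤ (L₀ ⧸ R)) →ₗ[ℤ] (Module.Dual ℤ ↥(LinearMap.range d) ⧸ E) :=
    { toFun := F
      map_add' := hFadd
      map_smul' := fun c t => by simpa using hFsmul c t }
  have hinj : Function.Injective Flin := by
    rw [← LinearMap.ker_eq_bot, LinearMap.ker_eq_bot']
    intro t ht
    obtain ⟨x, hx⟩ := Submodule.Quotient.mk_surjective R t.1
    obtain ⟨ψ, hψ⟩ := exists_rep x (by rw [hx]; exact t.2)
    have h1 : F t = Submodule.Quotient.mk ψ := hF t x ψ hx hψ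
    have h2 : F t = 0 := ht
    rw [h1, Submodule.Quotient.mk_eq_zero] at h2
    have h3 := (rep_mem_iff x ψ hψ).mp h2
    apply Subtype.ext
    rw [← hx, Submodule.coe_zero, Submodule.Quotient.mk_eq_zero]
    exact h3
  have hsurj : Function.Surjective Flin := by
    intro q
    obtain ⟨ψ, rfl⟩ := Submodule.Quotient.mk_surjective E q
    obtain ⟨x, hx, hψ⟩ := exists_tors_rep ψ
    exact ⟨⟨Submodule.Quotient.mk x, hx⟩, hF _ x ψ rfl hψ⟩
  refine ⟨LinearEquiv.ofBijective Flin ⟨hinj, hsurj⟩, ?_⟩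
  intro x hx ψ hψ
  exact hF _ x ψ rfl hψ

end Groth.Agent.S3352
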