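import Groth.Statements.S3364
import Groth.Agent.S5189
import Groth.Agent.S0101
import Groth.Agent.Lib.Helper10.ExtSupp
import Groth.Agent.Lib.Helper10.LocCohLoc
import Groth.Agent.Lib.Helper24.EtOpen3

set_option autoImplicit false
universe u
open CategoryTheory CategoryTheory.Limits AlgebraicGeometry Opposite
open EtDepth

namespace Groth.Agent.S3364

section helpers

universe w v

open CategoryTheory.Abelian

section LES

variable {𝒜 : Type u} [Category.{v} 𝒜] [Abelian 𝒜] [HasExt.{w} 𝒜]
  {S : ShortComplex 𝒜} (hS : S.ShortExact) (Y : 𝒜)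

include hS in
lemma conds_of_vanish (n : ℕ) (h : ∀ p, p < n → ∀ x : Ext S.X₃ Y p, x = 0) :
    (∀ p, p + 1 < n → Function.Bijective (fun x : Ext S.X₂ Y p => (Ext.mk₀ S.f).comp x (zero_add p))) ∧
    (∀ p, p + 1 = n → Function.Injective (fun x : Ext S.X₂ Y p => (Ext.mk₀ S.f).comp x (zero_add p))) := by
  have inj : ∀ p, p < n →
      Function.Injective (fun x : Ext S.X₂ Y p => (Ext.mk₀ S.f).comp x (zero_add p)) := by
    intro p hp
    have := (injective_iff_map_eq_zero ((Ext.mk₀ S.f).precomp Y (zero_add p))).2 (by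
      intro x hx
      obtain ⟨x₃, h₃⟩ := Ext.contravariant_sequence_exact₂ hS Y x hx
      rw [← h₃, h p hp x₃, Ext.comp_zero])
    exact this
  refine ⟨fun p hp => ⟨inj p (by omega), ?_⟩, fun p hp => inj p (by omega)⟩
  intro x₁
  obtain ⟨x₂, h₂⟩ := Ext.contravariant_sequence_exact₁ hS Y x₁ (rfl : 1 + p = 1 + p)
    (h (1 + p) (by omega) _)
  exact ⟨x₂, h₂⟩

include hS in
lemma vanish_of_conds (n : ℕ)
    (hb : ∀ p, p + 1 < n →
      Function.Bijective (fun x : Ext S.X₂ Y p => (Ext.mk₀ S.f).comp x (zero_add p)))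
    (hi : ∀ p, p + 1 = n →
      Function.Injective (fun x : Ext S.X₂ Y p => (Ext.mk₀ S.f).comp x (zero_add p))) :
    ∀ p, p < n → ∀ x : Ext S.X₃ Y p, x = 0 := by
  have inj : ∀ p, p < n →
      Function.Injective (fun x : Ext S.X₂ Y p => (Ext.mk₀ S.f).comp x (zero_add p)) := by
    intro p hp
    rcases Nat.lt_or_ge (p + 1) n with h | h
    · exact (hb p h).1
    · exact hi p (by omega)
  intro p hp x₃
  have h1 : (Ext.mk₀ S.g).comp x₃ (zero_add p) = 0 := by
    apply inj p hp
    show (Ext.mk₀ S.f).comp ((Ext.mk₀ S.g).comp x₃ (zero_add p)) (zero_add p) =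
      (Ext.mk₀ S.f).comp 0 (zero_add p)
    rw [Ext.comp_zero, Ext.mk₀_comp_mk₀_assoc, S.zero, Ext.mk₀_zero, Ext.zero_comp]
  cases p with
  | zero =>
    have := hS.epi_g
    have hinj := Ext.precomp_mk₀_injective_of_epi Y S.g
    apply hinj
    exact h1.trans (map_zero _).symm
  | succ q =>
    obtain ⟨x₁, hx₁⟩ := Ext.contravariant_sequence_exact₃ hS Y x₃ h1 (show 1 + q = q + 1 by omega)
    obtain ⟨x₂, hx₂⟩ := (hb q (by omega)).2 x₁
    rw [← hx₁, ← hx₂]
    exact hS.extClass_comp_assoc x₂

end LES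

section Et

open Groth.Agent.Helper10 Groth.Agent.Helper10.ExtSupp Groth.Agent.Helper24.EtOpen

variable {X U : Scheme.{u}} (j : U ⟶ X) [IsOpenImmersion j] [EtCoh.BCCont j]

/-- the conditions on the restriction maps amount to the vanishing of `H^p_Y(X, G)` -/
lemma key [PreservesFiniteLimits (EtCoh.pull j)] (G : EtCoh.Ab X) (n : ℕ) :
    ((∀ p : ℕ, p + 1 < n → Function.Bijective (EtCore.Hpull j G p)) ∧
      (∀ p : ℕ, p + 1 = n → Function.Injective (EtCore.Hpull j G p))) ↔
    ∀ p : ℕ, p < n → IsZero ((EtDual.HY j p).obj G) := by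
  have hfun : ∀ p : ℕ, (fun x => EtCore.Hpull j G p x) =
      (Phi j G p) ∘ (fun x : Ext (sc j).X₂ G p => (Ext.mk₀ (sc j).f).comp x (zero_add p)) :=
    fun p => funext (Hpull_eq j G p)
  have hbij : ∀ p : ℕ, Function.Bijective (EtCore.Hpull j G p) ↔
      Function.Bijective (fun x : Ext (sc j).X₂ G p => (Ext.mk₀ (sc j).f).comp x (zero_add p)) := by
    intro p
    have h := Function.Bijective.of_comp_iff' (Phi j G p).bijective
      (fun x : Ext (sc j).X₂ G p => (Ext.mk₀ (sc j).f).comp x (zero_add p))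
    rw [← hfun p] at h
    exact h
  have hinj : ∀ p : ℕ, Function.Injective (EtCore.Hpull j G p) ↔
      Function.Injective (fun x : Ext (sc j).X₂ G p => (Ext.mk₀ (sc j).f).comp x (zero_add p)) := by
    intro p
    have h := Function.Injective.of_comp_iff (Phi j G p).injective
      (fun x : Ext (sc j).X₂ G p => (Ext.mk₀ (sc j).f).comp x (zero_add p))
    rw [← hfun p] at h
    exact h
  constructor
  · rintro ⟨hb, hi⟩ p hp
    have hv := vanish_of_conds (sc_shortExact j) G n (fun q hq => (hbij q).1 (hb q hq))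
      (fun q hq => (hinj q).1 (hi q hq)) p hp
    exact (ext_eq_zero_iff j G p).1 hv
  · intro hz
    have hv : ∀ p, p < n → ∀ x : Ext (sc j).X₃ G p, x = 0 :=
      fun p hp => (ext_eq_zero_iff j G p).2 (hz p hp)
    obtain ⟨hb, hi⟩ := conds_of_vanish (sc_shortExact j) G n hv
    exact ⟨fun q hq => (hbij q).2 (hb q hq), fun q hq => (hinj q).2 (hi q hq)⟩

lemma isZero_sections {Y : Scheme.{u}} (G : EtCoh.Ab Y) (h : IsZero G) (W : Y.Etale) :
    IsZero (G.obj.obj (op W)) := by
  rw [IsZero.iff_id_eq_zero]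
  have h0 : 𝟙 G = 0 := h.eq_of_src _ _
  have := congrArg (fun φ => φ.hom.app (op W)) h0
  exact this

/-- vanishing of `H^i_Y(X, F)` in the range of the depth -/
lemma isZero_HY_of_depth (F : EtCoh.Ab X) (N : ℕ) (hd : EtDepth.DepthGE j F N) (i : ℕ)
    (hi : i < N) : IsZero ((EtDual.HY j i).obj F) := by
  have hd' : EtDepth.DepthGE j F i := fun p hp => hd p (by omega)
  have hiso := Groth.Agent.S5189.result j F i hd'
  have hz : IsZero ((EtDual.locCoh j i).obj F) := hd i hi
  have hz' : IsZero (((EtDual.locCoh j i).obj F).obj.obj (op (EtCoh.top X))) :=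
    isZero_sections _ hz _
  exact hz'.of_iso (@asIso _ _ _ _ _ hiso)

/-- depth is stable under étale localization -/
lemma depth_pull (F : EtCoh.Ab X) (n : ℕ) (h : EtDepth.DepthGE j F n) {X' : Scheme.{u}}
    (g : X' ⟶ X) [Etale g] :
    EtDepth.DepthGE (pullback.snd j g) ((EtCoh.pull g).obj F) n := by
  intro p hp
  have c : IsPullback (pullback.fst j g) (pullback.snd j g) j g := IsPullback.of_hasPullback j g
  haveI : IsOpenImmersion (pullback.snd j g) := inferInstance
  haveI : Etale (pullback.fst j g) := inferInstance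
  obtain ⟨e⟩ := LocCohLoc.res_locCoh j g (pullback.snd j g) (pullback.fst j g) c F p
  have hz : IsZero ((EtLoc.res g).obj ((EtDual.locCoh j p).obj F)) :=
    (EtLoc.res g).map_isZero (h p hp)
  exact (hz.of_iso e.symm).of_iso
    ((EtDual.locCoh (pullback.snd j g) p).mapIso ((EtLoc.pullIsoRes g).app F))

theorem forward (F : EtCoh.Ab X) (n : ℕ) (h : EtDepth.DepthGE j F n) :
    ∀ (X' : Scheme.{u}) (g : X' ⟶ X) [Etale g]
      [PreservesFiniteLimits (EtCoh.pull (pullback.snd j g))],
      (∀ p : ℕ, p + 1 < n →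
        Function.Bijective (EtCore.Hpull (pullback.snd j g) ((EtCoh.pull g).obj F) p)) ∧
      (∀ p : ℕ, p + 1 = n →
        Function.Injective (EtCore.Hpull (pullback.snd j g) ((EtCoh.pull g).obj F) p)) := by
  intro X' g _ _
  haveI : IsOpenImmersion (pullback.snd j g) := inferInstance
  have hd := depth_pull j F n h g
  exact (key (pullback.snd j g) ((EtCoh.pull g).obj F) n).2
    (fun p hp => isZero_HY_of_depth (pullback.snd j g) _ n hd p hp)

/-- sections of the top local cohomology sheaf vanish -/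
lemma step (F : EtCoh.Ab X) (p : ℕ) (hd : EtDepth.DepthGE j F p) (W : X.Etale)
    (H : ∀ [PreservesFiniteLimits (EtCoh.pull (pullback.snd j W.hom))], (∀ q : ℕ, q + 1 < p + 1 →
        Function.Bijective (EtCore.Hpull (pullback.snd j W.hom) ((EtCoh.pull W.hom).obj F) q)) ∧
      (∀ q : ℕ, q + 1 = p + 1 →
        Function.Injective (EtCore.Hpull (pullback.snd j W.hom) ((EtCoh.pull W.hom).obj F) q))) :
    IsZero (((EtDual.locCoh j p).obj F).obj.obj (op W)) := by
  haveI : Etale W.hom := W.prop
  have c : IsPullback (pullback.fst j W.hom) (pullback.snd j W.hom) j W.hom :=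
    IsPullback.of_hasPullback j W.hom
  haveI : IsOpenImmersion (pullback.snd j W.hom) := inferInstance
  haveI : Etale (pullback.fst j W.hom) := inferInstance
  haveI : PreservesFiniteLimits (EtCoh.pull (pullback.snd j W.hom)) :=
    Groth.Agent.S0101.result _
  have hd' := depth_pull j F p hd W.hom
  have hz := (key (pullback.snd j W.hom) ((EtCoh.pull W.hom).obj F) (p + 1)).1 H
  have hz1 := hz p (by omega)
  have hiso := Groth.Agent.S5189.result (pullback.snd j W.hom) ((EtCoh.pull W.hom).obj F) p hd'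
  have hz2 : IsZero (((EtDual.locCoh (pullback.snd j W.hom) p).obj
      ((EtCoh.pull W.hom).obj F)).obj.obj (op (EtCoh.top W.left))) :=
    hz1.of_iso (@asIso _ _ _ _ _ hiso).symm
  obtain ⟨e⟩ := LocCohLoc.res_locCoh j W.hom (pullback.snd j W.hom) (pullback.fst j W.hom) c F p
  have e2 : (EtLoc.res W.hom).obj ((EtDual.locCoh j p).obj F) ≅
      (EtDual.locCoh (pullback.snd j W.hom) p).obj ((EtCoh.pull W.hom).obj F) :=
    e ≪≫ ((EtDual.locCoh (pullback.snd j W.hom) p).mapIso ((EtLoc.pullIsoRes W.hom).app F)).symm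
  have hz3 : IsZero (((EtLoc.res W.hom).obj ((EtDual.locCoh j p).obj F)).obj.obj
      (op (EtCoh.top W.left))) :=
    hz2.of_iso ((SuppLES.ev (EtCoh.top W.left)).mapIso e2)
  have isoW : (EtLoc.phi W.hom).obj (EtCoh.top W.left) ≅ W :=
    MorphismProperty.Over.isoMk (Iso.refl _) (by
      show 𝟙 _ ≫ W.hom = 𝟙 _ ≫ W.hom
      rfl)
  exact hz3.of_iso (((EtDual.locCoh j p).obj F).obj.mapIso isoW.op)

lemma isZero_of_sections {Y : Scheme.{u}} (G : EtCoh.Ab Y)
    (h : ∀ W : Y.Etale, IsZero (G.obj.obj (op W))) : IsZero G := by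
  rw [IsZero.iff_id_eq_zero, LocCohLoc.hom_eq_zero_iff]
  intro W
  exact (h W).eq_of_src _ _

theorem backward (F : EtCoh.Ab X) (n : ℕ)
    (H : ∀ (X' : Scheme.{u}) (g : X' ⟶ X) [Etale g]
      [PreservesFiniteLimits (EtCoh.pull (pullback.snd j g))],
      (∀ p : ℕ, p + 1 < n →
        Function.Bijective (EtCore.Hpull (pullback.snd j g) ((EtCoh.pull g).obj F) p)) ∧
      (∀ p : ℕ, p + 1 = n →
        Function.Injective (EtCore.Hpull (pullback.snd j g) ((EtCoh.pull g).obj F) p))) :
    EtDepth.DepthGE j F n := by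
  induction n with
  | zero => intro p hp; omega
  | succ n ih =>
    have hd : EtDepth.DepthGE j F n := ih (fun X' g _ _ =>
      ⟨fun p hp => (H X' g).1 p (by omega), fun p hp => ((H X' g).1 p (by omega)).1⟩)
    intro p hp
    rcases Nat.lt_or_ge p n with h | h
    · exact hd p h
    · have hpn : p = n := by omega
      subst hpn
      apply isZero_of_sections
      intro W
      refine step j F p hd W ?_
      intro inst
      exact @H W.left W.hom W.prop inst

theorem main (F : EtCoh.Ab X) (n : ℕ) :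
    EtDepth.DepthGE j F n ↔ ∀ (X' : Scheme.{u}) (g : X' ⟶ X) [Etale g]
      [PreservesFiniteLimits (EtCoh.pull (pullback.snd j g))],
      (∀ p : ℕ, p + 1 < n →
        Function.Bijective (EtCore.Hpull (pullback.snd j g) ((EtCoh.pull g).obj F) p)) ∧
      (∀ p : ℕ, p + 1 = n →
        Function.Injective (EtCore.Hpull (pullback.snd j g) ((EtCoh.pull g).obj F) p)) :=
  ⟨forward j F n, backward j F n⟩

end Et

end helpers

/-- Let X be a scheme, j : U → X an open immersion with closed complement Y, F an abelian sheaf on the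
small étale site of X and n ≥ 0. Then the local cohomology sheaves H^p_Y(X, F) vanish for p < n if
and only if for every scheme X' étale over X, with U' = X' ×_X U, the restriction maps H^p(X', F) →
H^p(U', F) are bijective for p < n − 1 and injective for p = n − 1. (The restriction maps are the
prelude's pull-back maps on étale cohomology, whose exactness instance is carried as a binder. The
published statement has further equivalent conditions and is not limited to a single sheaf; only
this equivalence, for one abelian sheaf, is stated here.) -/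
theorem result {X U : Scheme.{u}} (j : U ⟶ X) [IsOpenImmersion j] [EtCoh.BCCont j] (F : EtCoh.Ab X) (n : ℕ) : EtDepth.DepthGE j F n ↔ ∀ (X' : Scheme.{u}) (g : X' ⟶ X) [Etale g] [PreservesFiniteLimits (EtCoh.pull (pullback.snd j g))], (∀ p : ℕ, p + 1 < n → Function.Bijective (EtCore.Hpull (pullback.snd j g) ((EtCoh.pull g).obj F) p)) ∧ (∀ p : ℕ, p + 1 = n → Function.Injective (EtCore.Hpull (pullback.snd j g) ((EtCoh.pull g).obj F) p)) := by
  exact main j F n

end Groth.Agent.S3364
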