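import Groth.Statements.S3388
import Mathlib
import Groth.Agent.S0402
import Groth.Agent.Lib.Helper14.FibreGeneric
-- import your own Groth.Agent.* helpers here

set_option autoImplicit false
open CategoryTheory AlgebraicGeometry
universe u
open EGA43

namespace Groth.Agent.S3388

/-- Let X and Y be irreducible schemes and f : X ⟶ Y a dominant morphism locally of finite type; let e
be the dimension of the fibre over the generic point of Y. Then for every point x of X the local
dimension at x of the fibre through x is at least e. -/
theorem result {X Y : Scheme.{u}} [IrreducibleSpace X] [IrreducibleSpace Y]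
    (f : X ⟶ Y) [LocallyOfFiniteType f] [IsDominant f] (x : X) :
    topologicalKrullDim ↥(f.fiber (genericPoint Y)) ≤ FlatMor.fibreDimAt f x := by
  have hη := Groth.Agent.Helper14.FibreGeneric.map_genericPoint f (Scheme.Hom.denseRange f)
  rw [← hη, Groth.Agent.Helper14.FibreGeneric.dim_genericFibre]
  exact Groth.Agent.Helper14.FibreGeneric.fibreDimAt_generic_le f
    (fun n => Groth.Agent.S0402.result f n) x

end Groth.Agent.S3388
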