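import Groth.Statements.S3389
import Mathlib
import Groth.Agent.Lib.Helper14.FibreChart
import Groth.Agent.Lib.Helper14.Chevalley
import Groth.Agent.Lib.Helper14.LocalDimSch
-- import your own Groth.Agent.* helpers here

set_option autoImplicit false
open CategoryTheory AlgebraicGeometry
universe u
open EGA43

namespace Groth.Agent.S3389

open TensorProduct in
theorem exists_bound (R B : Type u) [CommRing R] [CommRing B] [Algebra R B]
    [hft : Algebra.FiniteType R B] :
    ∃ m : ℕ, ∀ (p : Ideal R) [p.IsPrime], ringKrullDim (p.Fiber B) ≤ m := by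
  obtain ⟨m, g, hg⟩ := Algebra.FiniteType.iff_quotient_mvPolynomial''.mp hft
  refine ⟨m, fun p _ => ?_⟩
  rw [← Groth.Agent.Helper14.Chevalley.ringKrullDim_fiber_mvPolynomial m R p]
  exact ringKrullDim_le_of_surjective
    (Algebra.TensorProduct.map (AlgHom.id p.ResidueField p.ResidueField) g).toRingHom
    (Algebra.TensorProduct.map_surjective _ _ Function.surjective_id hg)

/-- Let Y be a quasi-compact scheme and f : X ⟶ Y a morphism of finite type. Then there is a natural
number n bounding the dimension of every fibre of f. -/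
theorem result {X Y : Scheme.{u}} [CompactSpace Y] (f : X ⟶ Y)
    [LocallyOfFiniteType f] [QuasiCompact f] :
    ∃ n : ℕ, ∀ y : Y, topologicalKrullDim ↥(f.fiber y) ≤ n := by
  classical
  have hloc : ∀ x : X, ∃ (U : X.Opens) (m : ℕ), x ∈ U ∧ ∀ z ∈ U,
      ringKrullDim ((f.fiber (f z)).presheaf.stalk (f.asFiber z)) ≤ m := by
    intro x
    obtain ⟨V, hV, hyV, -⟩ := exists_isAffineOpen_mem_and_subset (x := f.base x)
      (U := (⊤ : Y.Opens)) trivial
    obtain ⟨U, hU, hxU, e⟩ := exists_isAffineOpen_mem_and_subset (x := x)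
      (U := f ⁻¹ᵁ V) hyV
    letI alg : Algebra Γ(Y, V) Γ(X, U) := (f.appLE V U e).hom.toAlgebra
    have halg : algebraMap Γ(Y, V) Γ(X, U) = (f.appLE V U e).hom := rfl
    haveI : Algebra.FiniteType Γ(Y, V) Γ(X, U) := f.finiteType_appLE hV hU e
    obtain ⟨m, hm⟩ := exists_bound Γ(Y, V) Γ(X, U)
    refine ⟨U, m, hxU, fun z hz => ?_⟩
    rw [Groth.Agent.Helper14.FibreChart.ringKrullDim_fibre_stalk f hU hV e halg z hz]
    haveI := (hV.primeIdealOf ⟨f z, e hz⟩).isPrime
    haveI := (Groth.Agent.Helper14.FibreChart.fibPrime f hU hV e halg z hz).isPrime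
    exact Ideal.height_le_ringKrullDim_of_isPrime.trans (hm _)
  choose U m hxU hm using hloc
  haveI : CompactSpace X := by
    constructor
    have := (quasiCompact_iff f).mp inferInstance Set.univ isOpen_univ isCompact_univ
    simpa using this
  obtain ⟨t, ht⟩ := isCompact_univ.elim_finite_subcover (fun x => (U x : Set X))
    (fun x => (U x).isOpen) (fun x _ => Set.mem_iUnion.mpr ⟨x, hxU x⟩)
  refine ⟨t.sup m, fun y => ?_⟩
  rw [Groth.Agent.Helper14.LocalDimSch.dim_eq_iSup_stalk]
  refine iSup_le fun z => ?_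
  have hz : f (f.fiberι y z) = y := (f.fiberHomeo y z).2
  obtain ⟨i, hi, hxi⟩ : ∃ i ∈ t, f.fiberι y z ∈ U i := by
    simpa using ht (Set.mem_univ (f.fiberι y z))
  have h1 := Groth.Agent.Helper14.FibreChart.stalk_asFiber_congr f (f.fiberι y z) y hz
  have h2 : (f.fiberHomeo y).symm ⟨f.fiberι y z, hz⟩ = z :=
    (f.fiberHomeo y).symm_apply_apply z
  rw [h2] at h1
  rw [← h1]
  refine (hm i _ hxi).trans ?_
  exact_mod_cast Finset.le_sup hi

end Groth.Agent.S3389
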