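import Groth.Statements.S3390
import Mathlib
import Groth.Agent.S3388
import Groth.Agent.S9687
import Groth.Agent.Lib.Helper14.FibreGeneric
import Groth.Agent.Lib.Helper14.ResFieldBridge
-- import your own Groth.Agent.* helpers here

set_option autoImplicit false
open CategoryTheory AlgebraicGeometry
universe u
open EGA43

namespace Groth.Agent.S3390

theorem cancel_left (m : ℕ) (t : WithBot ℕ∞) (E : ℕ)
    (h : (m : WithBot ℕ∞) + t ≤ (m : WithBot ℕ∞) + (E : WithBot ℕ∞)) : t ≤ (E : WithBot ℕ∞) := by
  induction t using WithBot.recBotCoe with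
  | bot => exact bot_le
  | coe t' =>
    have h' : (m : ℕ∞) + t' ≤ (m : ℕ∞) + (E : ℕ∞) := by exact_mod_cast h
    have := (ENat.add_le_add_iff_left (ENat.coe_ne_top m)).mp h'
    exact_mod_cast this

theorem exists_nat_of_ne {a : WithBot ℕ∞} (h0 : 0 ≤ a) (h1 : a < ⊤) : ∃ m : ℕ, a = m := by
  induction a using WithBot.recBotCoe with
  | bot => exact absurd h0 (by simp)
  | coe a =>
    induction a using ENat.recTopCoe with
    | top => exact absurd h1 (lt_irrefl _)
    | coe n => exact ⟨n, rfl⟩

/-- Let Y be an irreducible locally Noetherian scheme with generic point η and X an irreducible scheme,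
and let f : X ⟶ Y be dominant and locally of finite type. Take a point x of X and write y = f x.
Suppose dim O_{X,x} = dim O_{Y,y} + dim O_{X_y,x}. Then the local dimension of the fibre X_y at x
(FlatMor.fibreDimAt f x) equals the dimension of the generic fibre X_η (i.e. f is equidimensional at
x). -/
theorem result {X Y : Scheme.{u}} [IrreducibleSpace X] [IrreducibleSpace Y]
    [IsLocallyNoetherian Y] (f : X ⟶ Y) [LocallyOfFiniteType f] [IsDominant f] (x : X)
    (h : ringKrullDim (X.presheaf.stalk x) =
        ringKrullDim (Y.presheaf.stalk (f.base x)) + ringKrullDim ((f.fiber (f.base x)).presheaf.stalk (f.asFiber x))) :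
    FlatMor.fibreDimAt f x = topologicalKrullDim ↥(f.fiber (genericPoint Y)) := by
  apply le_antisymm
  · -- upper bound via the dimension inequality
    obtain ⟨n, hn⟩ := Groth.Agent.Helper14.ResFieldBridge.exists_nat_trdeg_residueField f x
    obtain ⟨E, hE⟩ := Groth.Agent.Helper14.ResFieldBridge.exists_nat_trdeg_residueField f
      (genericPoint X)
    have hx := Groth.Agent.Helper14.FibreGeneric.fibreDimAt_eq_stalk_add_trdeg f x n hn
    have hξ := Groth.Agent.Helper14.FibreGeneric.fibreDimAt_eq_stalk_add_trdeg f
      (genericPoint X) E hE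
    have hη := Groth.Agent.Helper14.FibreGeneric.map_genericPoint f (Scheme.Hom.denseRange f)
    rw [← hη, Groth.Agent.Helper14.FibreGeneric.dim_genericFibre, hx, hξ]
    have hgen : ∀ ξ : X, closure {ξ} ∈ irreducibleComponents ↥X → ξ = genericPoint ↥X := by
      intro ξ hξ
      rw [irreducibleComponents_eq_singleton, Set.mem_singleton_iff] at hξ
      have h1 : IsGenericPoint ξ (⊤ : Set X) := hξ
      exact ((genericPoint_spec X).eq h1).symm
    have key := Groth.Agent.S9687.result f x n E hn (by
      intro ξ hξ _
      have := hgen ξ hξ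
      subst this
      exact le_of_eq hE)
    rw [h] at key
    haveI : IsNoetherianRing (Y.presheaf.stalk (f.base x)) := inferInstance
    obtain ⟨m, hm⟩ := exists_nat_of_ne
      (ringKrullDim_nonneg_of_nontrivial (R := Y.presheaf.stalk (f.base x))) ringKrullDim_lt_top
    rw [hm, add_assoc] at key
    have h2 := cancel_left m _ E key
    refine h2.trans ?_
    have h0 : (0 : WithBot ℕ∞) ≤ ringKrullDim ((f.fiber (f.base (genericPoint X))).presheaf.stalk
        (f.asFiber (genericPoint X))) := ringKrullDim_nonneg_of_nontrivial
    calc (E : WithBot ℕ∞) = 0 + E := (zero_add _).symm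
      _ ≤ _ := by gcongr
  · exact Groth.Agent.S3388.result f x

end Groth.Agent.S3390
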