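import Groth.Statements.S3391
import Mathlib
import Groth.Agent.Lib.Helper14.DimFormulaSch
-- import your own Groth.Agent.* helpers here

set_option autoImplicit false
open CategoryTheory AlgebraicGeometry
universe u
open EGA43

namespace Groth.Agent.S3391

open Groth.Agent.Helper14 in
theorem cancel_nat (a b c : WithBot ℕ∞) (n : ℕ) (h : a + (n : WithBot ℕ∞) = b + (c + (n : WithBot ℕ∞))) :
    a = b + c := by
  rw [← add_assoc] at h
  have hn : ((n : ℕ) : WithBot ℕ∞) = ((n : ℕ∞) : WithBot ℕ∞) := rfl
  induction a using WithBot.recBotCoe with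
  | bot =>
    induction b using WithBot.recBotCoe with
    | bot => simp
    | coe b =>
      induction c using WithBot.recBotCoe with
      | bot => simp
      | coe c =>
        exfalso
        rw [hn, WithBot.bot_add] at h
        have : ((b + c + (n : ℕ∞) : ℕ∞) : WithBot ℕ∞) = ⊥ := by
          rw [h]; push_cast; rfl
        exact WithBot.coe_ne_bot this
  | coe a =>
    induction b using WithBot.recBotCoe with
    | bot =>
      exfalso
      rw [hn, WithBot.bot_add, WithBot.bot_add] at h
      exact WithBot.coe_ne_bot (a := a + (n : ℕ∞)) (by rw [← h]; push_cast; rfl)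
    | coe b =>
      induction c using WithBot.recBotCoe with
      | bot =>
        exfalso
        rw [hn, WithBot.add_bot, WithBot.bot_add] at h
        exact WithBot.coe_ne_bot (a := a + (n : ℕ∞)) (by rw [← h]; push_cast; rfl)
      | coe c =>
        have h' : ((a + (n : ℕ∞) : ℕ∞) : WithBot ℕ∞) = ((b + c + (n : ℕ∞) : ℕ∞) : WithBot ℕ∞) := by
          push_cast
          exact h
        have h'' := WithBot.coe_injective h'
        have : a = b + c := ENat.add_left_injective_of_ne_top (ENat.coe_ne_top n) h''
        rw [this]
        rfl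

/-- With X, Y, f, x, y as in the first assertion, suppose O_{Y,y} is universally catenary and the local
dimension at x of the fibre through x equals the dimension of the generic fibre. Then dim O_{X,x} =
dim O_{Y,y} + dim O_{X_y,x}. -/
theorem result {X Y : Scheme.{u}} [IrreducibleSpace X] [IrreducibleSpace Y]
    [IsLocallyNoetherian Y] (f : X ⟶ Y) [LocallyOfFiniteType f] [IsDominant f] (x : X)
    (hcat : CAlg.IsUniversallyCatenary (Y.presheaf.stalk (f.base x)))
    (h : FlatMor.fibreDimAt f x = topologicalKrullDim ↥(f.fiber (genericPoint Y))) :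
    ringKrullDim (X.presheaf.stalk x) =
        ringKrullDim (Y.presheaf.stalk (f.base x)) + ringKrullDim ((f.fiber (f.base x)).presheaf.stalk (f.asFiber x)) := by
  have hgen : f (genericPoint X) = genericPoint Y :=
    Groth.Agent.Helper14.FibreGeneric.map_genericPoint f f.denseRange
  obtain ⟨n, hn⟩ := Groth.Agent.Helper14.ResFieldBridge.exists_nat_trdeg_residueField f x
  obtain ⟨E, hE⟩ := Groth.Agent.Helper14.ResFieldBridge.exists_nat_trdeg_residueField f
    (genericPoint X)
  have hDF := Groth.Agent.Helper14.DimFormulaSch.dimension_formula_sch f hgen x hcat n E hn hE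
  have hGFx := Groth.Agent.Helper14.FibreGeneric.fibreDimAt_eq_stalk_add_trdeg f x n hn
  have hGFξ := Groth.Agent.Helper14.FibreGeneric.fibreDimAt_eq_stalk_add_trdeg f
    (genericPoint X) E hE
  rw [Groth.Agent.Helper14.DimFormulaSch.ringKrullDim_stalk_genericFibre, zero_add] at hGFξ
  rw [← hgen, Groth.Agent.Helper14.FibreGeneric.dim_genericFibre, hGFξ, hGFx] at h
  rw [← h] at hDF
  exact cancel_nat _ _ _ n hDF

end Groth.Agent.S3391
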