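import Groth.Statements.S3392
import Mathlib
import Groth.Agent.Lib.Helper5.FibreDim
import Groth.Agent.Lib.Helper14.FibreChart
import Groth.Agent.Lib.Helper14.ResFieldBridge
import Groth.Agent.Lib.Helper7.CatDim
-- import your own Groth.Agent.* helpers here

set_option autoImplicit false
open CategoryTheory AlgebraicGeometry
universe u
open EGA43

namespace Groth.Agent.S3392

open Groth.Agent.Helper14

/-- the contraction map from the spectrum of the fibre ring is strictly monotone. -/
theorem strictMono_comap_includeRight (A B : Type u) [CommRing A] [CommRing B] [Algebra A B]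
    (p : PrimeSpectrum A) :
    StrictMono (PrimeSpectrum.comap
      (Algebra.TensorProduct.includeRight : B →ₐ[A] p.asIdeal.Fiber B).toRingHom) := by
  intro Q₁ Q₂ h
  have h1 := (PrimeSpectrum.preimageOrderIsoFiber A B p).symm.strictMono h
  exact h1

/-- the key lower bound: for a prime `Q` of the fibre ring with contraction `q`, there is a minimal
prime `Q₀ ≤ Q` of the fibre ring with contraction `q₀` such that `ht q₀ + ht Q ≤ ht q`. -/
theorem exists_minimal_height_add_le (A B : Type u) [CommRing A] [CommRing B] [Algebra A B]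
    [IsNoetherianRing B] (p : PrimeSpectrum A) [IsNoetherianRing (p.asIdeal.Fiber B)]
    (Q : PrimeSpectrum (p.asIdeal.Fiber B)) :
    ∃ Q₀ : PrimeSpectrum (p.asIdeal.Fiber B), Q₀.asIdeal.height = 0 ∧
      (PrimeSpectrum.comap (Algebra.TensorProduct.includeRight :
        B →ₐ[A] p.asIdeal.Fiber B).toRingHom Q₀).asIdeal.height + Q.asIdeal.height ≤
      (PrimeSpectrum.comap (Algebra.TensorProduct.includeRight :
        B →ₐ[A] p.asIdeal.Fiber B).toRingHom Q).asIdeal.height := by
  obtain ⟨l, hlast, hlen⟩ := Q.asIdeal.exists_ltSeries_length_eq_height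
  have hl1 : (l.length : ℕ∞) = Order.height l.last := by
    rw [hlen, hlast, ← PrimeSpectrum.height_eq_orderHeight]
  have hmin := Groth.Agent.Helper7.CatDim.isMin_head_of_length_eq_height l hl1
  refine ⟨l.head, ?_, ?_⟩
  · rw [PrimeSpectrum.height_eq_orderHeight, Order.height_eq_zero]
    exact hmin
  · let l' : LTSeries (PrimeSpectrum B) := l.map _ (strictMono_comap_includeRight A B p)
    obtain ⟨l0, h0last, h0len⟩ := (PrimeSpectrum.comap (Algebra.TensorProduct.includeRight :
        B →ₐ[A] p.asIdeal.Fiber B).toRingHom l.head).asIdeal.exists_ltSeries_length_eq_height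
    have hconn : l0.last = l'.head := by
      rw [h0last]
      exact (LTSeries.head_map l _ (strictMono_comap_includeRight A B p)).symm
    have h1 := Order.length_le_height_last (p := l0.smash l' hconn)
    rw [RelSeries.last_smash, LTSeries.last_map l _ (strictMono_comap_includeRight A B p), hlast,
      ← PrimeSpectrum.height_eq_orderHeight] at h1
    have h2 : (l0.smash l' hconn).length = l0.length + l.length := rfl
    rw [h2] at h1
    push_cast at h1
    rw [h0len, hlen] at h1
    exact h1

/-- Let Y be an irreducible locally Noetherian scheme, f : X ⟶ Y a morphism of finite type and y a point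
of Y. Condition (a): for every point x of the fibre over y, dim O_{X,x} = dim O_{Y,y} + dim
O_{X_y,x}. Condition (b): for every point z of the fibre over y at which the local ring of the fibre
has dimension 0 (the generic points of the irreducible components of the fibre), dim O_{X,z} = dim
O_{Y,y}. Then (a) implies (b), and (b) implies (a) if O_{Y,y} is universally catenary. -/
theorem result {X Y : Scheme.{u}} [IrreducibleSpace Y] [IsLocallyNoetherian Y]
    (f : X ⟶ Y) [LocallyOfFiniteType f] [QuasiCompact f] (y : Y) :
    ((∀ x : X, f.base x = y → ringKrullDim (X.presheaf.stalk x) =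
        ringKrullDim (Y.presheaf.stalk (f.base x)) + ringKrullDim ((f.fiber (f.base x)).presheaf.stalk (f.asFiber x))) →
      (∀ z : X, f.base z = y → ringKrullDim ((f.fiber (f.base z)).presheaf.stalk (f.asFiber z)) = 0 →
        ringKrullDim (X.presheaf.stalk z) = ringKrullDim (Y.presheaf.stalk (f.base z)))) ∧
    (CAlg.IsUniversallyCatenary (Y.presheaf.stalk y) →
      (∀ z : X, f.base z = y → ringKrullDim ((f.fiber (f.base z)).presheaf.stalk (f.asFiber z)) = 0 →
        ringKrullDim (X.presheaf.stalk z) = ringKrullDim (Y.presheaf.stalk (f.base z))) →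
      (∀ x : X, f.base x = y → ringKrullDim (X.presheaf.stalk x) =
        ringKrullDim (Y.presheaf.stalk (f.base x)) + ringKrullDim ((f.fiber (f.base x)).presheaf.stalk (f.asFiber x)))) := by
  constructor
  · intro ha z hz h0
    have := ha z hz
    rw [h0, add_zero] at this
    exact this
  · intro _ hb x hx
    refine le_antisymm (Groth.Agent.Helper5.FD.ringKrullDim_stalk_le_add_fibre f x) ?_
    obtain ⟨V, hV, hyV, -⟩ := exists_isAffineOpen_mem_and_subset (x := f.base x)
      (U := (⊤ : Y.Opens)) trivial
    obtain ⟨U, hU, hxU, e⟩ := exists_isAffineOpen_mem_and_subset (x := x)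
      (U := f ⁻¹ᵁ V) hyV
    letI alg : Algebra Γ(Y, V) Γ(X, U) := (f.appLE V U e).hom.toAlgebra
    have halg : algebraMap Γ(Y, V) Γ(X, U) = (f.appLE V U e).hom := rfl
    haveI : IsNoetherianRing Γ(Y, V) := IsLocallyNoetherian.component_noetherian ⟨V, hV⟩
    haveI : Algebra.FiniteType Γ(Y, V) Γ(X, U) := f.finiteType_appLE hV hU e
    haveI : IsNoetherianRing Γ(X, U) := Algebra.FiniteType.isNoetherianRing Γ(Y, V) Γ(X, U)
    haveI : IsNoetherianRing ((hV.primeIdealOf ⟨f.base x, e hxU⟩).asIdeal.Fiber Γ(X, U)) :=
      Algebra.FiniteType.isNoetherianRing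
        (hV.primeIdealOf ⟨f.base x, e hxU⟩).asIdeal.ResidueField _
    rw [FibreChart.ringKrullDim_fibre_stalk f hU hV e halg x hxU,
      ResFieldBridge.ringKrullDim_stalk hU x hxU,
      ResFieldBridge.ringKrullDim_stalk hV (f.base x) (e hxU)]
    obtain ⟨Q₀, hQ₀, hle⟩ := exists_minimal_height_add_le Γ(Y, V) Γ(X, U)
      (hV.primeIdealOf ⟨f.base x, e hxU⟩) (FibreChart.fibPrime f hU hV e halg x hxU)
    rw [FibreChart.comap_fibPrime] at hle
    have hfz : f.base (hU.fromSpec (PrimeSpectrum.comap
        Algebra.TensorProduct.includeRight.toRingHom Q₀)) = f.base x :=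
      (FibreChart.map_fromSpec_comap f hU hV e halg _ Q₀).trans
        (hV.fromSpec_primeIdealOf ⟨f.base x, e hxU⟩)
    have hz0 := FibreChart.ringKrullDim_fibre_stalk_fromSpec f hU hV e halg _ Q₀ _ rfl
    rw [hQ₀] at hz0
    have hbz := hb _ (hfz.trans hx) hz0
    have hzU := ResFieldBridge.fromSpec_mem hU (PrimeSpectrum.comap
        Algebra.TensorProduct.includeRight.toRingHom Q₀)
    rw [ResFieldBridge.ringKrullDim_stalk hU _ hzU, ResFieldBridge.primeIdealOf_fromSpec] at hbz
    have hYz : ringKrullDim (Y.presheaf.stalk (f.base (hU.fromSpec (PrimeSpectrum.comap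
        Algebra.TensorProduct.includeRight.toRingHom Q₀)))) =
        ringKrullDim (Y.presheaf.stalk (f.base x)) := by rw [hfz]
    rw [hYz, ResFieldBridge.ringKrullDim_stalk hV (f.base x) (e hxU)] at hbz
    rw [← hbz]
    exact_mod_cast hle

end Groth.Agent.S3392
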