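import Groth.Statements.S3393
import Mathlib
import Groth.Agent.Lib.Helper14.FibreClosure
import Groth.Agent.Lib.Helper14.SectionComp2
-- import your own Groth.Agent.* helpers here

set_option autoImplicit false
open CategoryTheory AlgebraicGeometry
universe u
open EGA43

namespace Groth.Agent.S3393

/-- Let Y be an irreducible locally Noetherian scheme with generic point η, f : X ⟶ Y a morphism of
finite type and y a point of Y. Condition (b): for every point z of the fibre over y at which the
local ring of the fibre has dimension 0, dim O_{X,z} = dim O_{Y,y}. Condition (c): for every such z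
there is an irreducible component X' of X containing z such that the dimension of X' ∩ f⁻¹(η)
(topology induced from X) equals the local dimension at z of the fibre over y (the dimension of the
irreducible component of the fibre with generic point z). Then (b) implies (c), and (c) implies (b)
if O_{Y,y} is universally catenary. -/
theorem result {X Y : Scheme.{u}} [IrreducibleSpace Y] [IsLocallyNoetherian Y]
    (f : X ⟶ Y) [LocallyOfFiniteType f] [QuasiCompact f] (y : Y) :
    ((∀ z : X, f.base z = y → ringKrullDim ((f.fiber (f.base z)).presheaf.stalk (f.asFiber z)) = 0 →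
        ringKrullDim (X.presheaf.stalk z) = ringKrullDim (Y.presheaf.stalk (f.base z))) →
      (∀ z : X, f.base z = y → ringKrullDim ((f.fiber (f.base z)).presheaf.stalk (f.asFiber z)) = 0 →
        ∃ X' ∈ irreducibleComponents (X : Type u), z ∈ X' ∧
          topologicalKrullDim ↥(X' ∩ f.base ⁻¹' {genericPoint Y}) = FlatMor.fibreDimAt f z)) ∧
    (CAlg.IsUniversallyCatenary (Y.presheaf.stalk y) →
      (∀ z : X, f.base z = y → ringKrullDim ((f.fiber (f.base z)).presheaf.stalk (f.asFiber z)) = 0 →
        ∃ X' ∈ irreducibleComponents (X : Type u), z ∈ X' ∧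
          topologicalKrullDim ↥(X' ∩ f.base ⁻¹' {genericPoint Y}) = FlatMor.fibreDimAt f z) →
      (∀ z : X, f.base z = y → ringKrullDim ((f.fiber (f.base z)).presheaf.stalk (f.asFiber z)) = 0 →
        ringKrullDim (X.presheaf.stalk z) = ringKrullDim (Y.presheaf.stalk (f.base z)))) := by
  open Groth.Agent.Helper14 in
  haveI : IsLocallyNoetherian X := LocallyOfFiniteType.isLocallyNoetherian f
  have hfibNoeth : ∀ y : Y, IsLocallyNoetherian (f.fiber y) :=
    fun y => SectionComp.isLocallyNoetherian_fiber f y
  -- maximality in the fibre from the vanishing of the dimension of the local ring of the fibre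
  have hmaxfib : ∀ z : X, ringKrullDim ((f.fiber (f.base z)).presheaf.stalk (f.asFiber z)) = 0 →
      ∀ x₁ : X, f.base x₁ = f.base z → x₁ ⤳ z → x₁ = z := by
    intro z hzero x₁ hfx₁ hx₁z
    have hmem : x₁ ∈ f.base ⁻¹' {f.base z} := hfx₁
    have hspec : (f.fiberHomeo (f.base z)).symm ⟨x₁, hmem⟩ ⤳ f.asFiber z := by
      apply Specializes.map _ (f.fiberHomeo (f.base z)).symm.continuous
      rw [subtype_specializes_iff]
      exact hx₁z
    have := FibreDimIneq.maximal_of_stalk_eq_zero _ hzero _ hspec
    have h4 := congrArg (f.fiberι (f.base z)) this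
    rw [f.fiberι_fiberHomeo_symm, f.fiberι_asFiber] at h4
    exact h4
  constructor
  · intro hb z hfz hzero
    have hbz := hb z hfz hzero
    obtain ⟨ξ, hξmax, hξz, hdim⟩ := LocQuotLemmas.exists_maximal_locQuot_eq z
    obtain ⟨nz, hnz⟩ := ResFieldBridge.exists_nat_trdeg_residueField f z
    obtain ⟨nξ, hnξ⟩ := ResFieldBridge.exists_nat_trdeg_residueField f ξ
    have hPF := (PointwiseDim.formula_aux f z ξ hξz nz nξ hnz hnξ).1
    obtain ⟨x₁, -, hx₁z, hfx₁, n₁, hn₁, hle⟩ := RestrictedChevalley.rc f z ξ hξz nξ hnξ
    have hx₁ : x₁ = z := hmaxfib z hzero x₁ hfx₁ hx₁z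
    subst hx₁
    have hn₁z : n₁ = nz := by
      have := hn₁.symm.trans hnz
      exact_mod_cast this
    obtain ⟨a, ha⟩ := FibreDimIneq.exists_nat_dim_stalk x₁
    obtain ⟨d, hd, hdb⟩ := FibreDimIneq.exists_nat_dim_locQuot (f.base x₁) (f.base ξ)
      (hξz.map f.continuous)
    rw [hdim, ha, hd] at hPF
    rw [← hbz, ha] at hdb
    have e1 : a + nz ≤ d + nξ := by exact_mod_cast hPF
    have e2 : d ≤ a := by exact_mod_cast hdb
    have hda : d = a := by omega
    have hnξz : nξ = nz := by omega
    have hfξmax : ∀ η' : Y, η' ⤳ f.base ξ → η' = f.base ξ := by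
      apply FibreClosure.maximal_of_locQuot_eq (f.base x₁) (f.base ξ) (hξz.map f.continuous)
      rw [hd, ← hbz, ha, hda]
    have hfξ : f.base ξ = genericPoint Y := FibreClosure.eq_genericPoint_of_maximal _ hfξmax
    refine ⟨closure {ξ}, FibreClosure.closure_mem_irreducibleComponents_of_maximal ξ hξmax,
      specializes_iff_mem_closure.mp hξz, ?_⟩
    rw [← hfξ, FibreClosure.topDim_closure_inter_fibre f ξ nξ hnξ,
      FibreGeneric.fibreDimAt_eq_stalk_add_trdeg f x₁ nz hnz, hzero, zero_add, hnξz]
  · intro hcat hc z hfz hzero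
    obtain ⟨X', hX', hzX', hdimX'⟩ := hc z hfz hzero
    obtain ⟨ξ, hξcl, hξmax⟩ := FibreComp.exists_maximal_of_mem_irreducibleComponents X' hX'
    have hξz : ξ ⤳ z := by rw [specializes_iff_mem_closure, hξcl]; exact hzX'
    obtain ⟨nz, hnz⟩ := ResFieldBridge.exists_nat_trdeg_residueField f z
    obtain ⟨nξ, hnξ⟩ := ResFieldBridge.exists_nat_trdeg_residueField f ξ
    rw [FibreGeneric.fibreDimAt_eq_stalk_add_trdeg f z nz hnz, hzero, zero_add] at hdimX'
    have hne : (X' ∩ f.base ⁻¹' {genericPoint Y}).Nonempty := by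
      by_contra hempty
      rw [Set.not_nonempty_iff_eq_empty] at hempty
      rw [hempty] at hdimX'
      have : topologicalKrullDim ↥(∅ : Set X) = ⊥ := by
        unfold topologicalKrullDim
        haveI : IsEmpty (TopologicalSpace.IrreducibleCloseds ↥(∅ : Set X)) :=
          ⟨fun Z => by obtain ⟨⟨x, hx⟩, _⟩ := Z.isIrreducible'.nonempty; exact hx⟩
        exact Order.krullDim_eq_bot
      rw [this] at hdimX'
      exact absurd hdimX'.symm (by simp)
    obtain ⟨x', hx'X', hx'η⟩ := hne
    have hfξ : f.base ξ = genericPoint Y := by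
      have h1 : ξ ⤳ x' := by rw [specializes_iff_mem_closure, hξcl]; exact hx'X'
      have h2 : f.base ξ ⤳ genericPoint Y := by
        have := h1.map f.continuous
        rw [show f.base x' = genericPoint Y from hx'η] at this
        exact this
      exact (h2.antisymm (genericPoint_specializes _)).eq
    have hnξz : nξ = nz := by
      have := FibreClosure.topDim_closure_inter_fibre f ξ nξ hnξ
      rw [hξcl, hfξ, hdimX'] at this
      exact_mod_cast this.symm
    have hcat' : CAlg.IsUniversallyCatenary (Y.presheaf.stalk (f.base z)) := by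
      rw [hfz]; exact hcat
    have hPF := (PointwiseDim.formula_aux f z ξ hξz nz nξ hnz hnξ).2 hcat'
    obtain ⟨η', hη'max, hη'y, hη'dim⟩ := LocQuotLemmas.exists_maximal_locQuot_eq (f.base z)
    have hη' : η' = f.base ξ := (FibreClosure.eq_genericPoint_of_maximal η' hη'max).trans hfξ.symm
    subst hη'
    rw [hη'dim] at hPF
    obtain ⟨a, ha⟩ := FibreDimIneq.exists_nat_dim_stalk z
    obtain ⟨b, hb⟩ := FibreDimIneq.exists_nat_dim_stalk (f.base z)
    obtain ⟨dz, hdz, hdzle⟩ := FibreDimIneq.exists_nat_dim_locQuot z ξ hξz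
    have hle := FibreDimIneq.stalk_le f z
    rw [hzero, add_zero, ha, hb] at hle
    rw [hdz, hb] at hPF
    rw [ha] at hdzle
    rw [ha, hb]
    have e1 : dz + nz = b + nξ := by exact_mod_cast hPF
    have e2 : dz ≤ a := by exact_mod_cast hdzle
    have e3 : a ≤ b := by exact_mod_cast hle
    have : a = b := by omega
    exact_mod_cast this

end Groth.Agent.S3393
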