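import Groth.Statements.S3396
import Mathlib
import Groth.Agent.Lib.Helper14.EquidimAt
import Groth.Agent.Lib.Helper14.PointwiseDim
-- import your own Groth.Agent.* helpers here

set_option autoImplicit false
open CategoryTheory AlgebraicGeometry
universe u
open EGA43

namespace Groth.Agent.S3396

/-- Let Y be locally Noetherian, f : X ⟶ Y locally of finite type and equidimensional at the point x,
and suppose the local ring O_{Y,f x} is universally catenary. If O_{Y,f x} is equidimensional, then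
so is O_{X,x}. -/
theorem result {X Y : Scheme.{u}} [IsLocallyNoetherian Y] (f : X ⟶ Y)
    [LocallyOfFiniteType f] (x : X) (h : EGA43.IsEquidimAt f x)
    (hcat : CAlg.IsUniversallyCatenary (Y.presheaf.stalk (f.base x)))
    (hY : EGA4.IsEquidim (Y.presheaf.stalk (f.base x))) :
    EGA4.IsEquidim (X.presheaf.stalk x) := by
  open Groth.Agent.Helper14 in
  obtain ⟨e, U, hxU, hp1, hp2, hp3⟩ := EquidimAt.spec f h
  haveI : IsLocallyNoetherian X := LocallyOfFiniteType.isLocallyNoetherian f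
  obtain ⟨n, hn⟩ := ResFieldBridge.exists_nat_trdeg_residueField f x
  obtain ⟨b, hb⟩ := FibreDimIneq.exists_nat_dim_stalk (f.base x)
  -- the formula for every maximal generization
  have key : ∀ (ξ : X) (hξx : ξ ⤳ x), (∀ ξ' : X, ξ' ⤳ ξ → ξ' = ξ) →
      ringKrullDim (Cyc.LocQuot x ξ hξx) + (n : WithBot ℕ∞) = (b : WithBot ℕ∞) + (e : WithBot ℕ∞) := by
    intro ξ hξx hξmax
    have hξU : ξ ∈ U := hξx.mem_open U.isOpen hxU
    have hE := hp2 ξ hξU (fun z' _ hz' => hξmax z' hz')
    have hPF := (PointwiseDim.formula_aux f x ξ hξx n e hn hE).2 hcat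
    obtain ⟨hfξmax, hfξx⟩ := hp1 ξ hξU hξmax
    have hmin := MinPrimePts.ker_specMap_mem_minimalPrimes (f.base x) (f.base ξ)
      (hξx.map f.continuous) hfξmax
    have hY' : ringKrullDim (Cyc.LocQuot (f.base x) (f.base ξ) (hξx.map f.continuous)) =
      ringKrullDim (Y.presheaf.stalk (f.base x)) := hY _ hmin
    rw [hY', hb] at hPF
    exact hPF
  obtain ⟨ξ₀, hξ₀max, hξ₀x, hdim₀⟩ := LocQuotLemmas.exists_maximal_locQuot_eq x
  have k₀ := key ξ₀ hξ₀x hξ₀max
  rw [hdim₀] at k₀
  intro 𝔭 h𝔭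
  obtain ⟨ξ, hξx, hker, hξmax⟩ := MinPrimePts.exists_maximal_of_mem_minimalPrimes x 𝔭 h𝔭
  subst hker
  have k₁ := key ξ hξx hξmax
  obtain ⟨a, ha⟩ := FibreDimIneq.exists_nat_dim_stalk x
  obtain ⟨d, hd, -⟩ := FibreDimIneq.exists_nat_dim_locQuot x ξ hξx
  change ringKrullDim (Cyc.LocQuot x ξ hξx) = _
  rw [hd] at k₁ ⊢
  rw [ha] at k₀ ⊢
  have e1 : a + n = b + e := by exact_mod_cast k₀
  have e2 : d + n = b + e := by exact_mod_cast k₁
  have : d = a := by omega
  exact_mod_cast this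

end Groth.Agent.S3396
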