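import Groth.Statements.S3397
import Mathlib
import Groth.Agent.Lib.Helper14.EquidimAtMk
import Groth.Agent.Lib.Helper14.PointwiseDim
import Groth.Agent.S0402
-- import your own Groth.Agent.* helpers here

set_option autoImplicit false
open CategoryTheory AlgebraicGeometry
universe u
open EGA43

namespace Groth.Agent.S3397

/-- Let Y be locally Noetherian, f : X ⟶ Y locally of finite type, x a point of X with y = f x, and
suppose O_{Y,y} is equidimensional. If O_{X,x} is equidimensional and dim O_{X,x} = dim O_{Y,y} +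
dim O_{X_y,x}, then f is equidimensional at x. -/
theorem result {X Y : Scheme.{u}} [IsLocallyNoetherian Y] (f : X ⟶ Y)
    [LocallyOfFiniteType f] (x : X) (hY : EGA4.IsEquidim (Y.presheaf.stalk (f.base x)))
    (hX : EGA4.IsEquidim (X.presheaf.stalk x))
    (h : ringKrullDim (X.presheaf.stalk x) =
        ringKrullDim (Y.presheaf.stalk (f.base x)) + ringKrullDim ((f.fiber (f.base x)).presheaf.stalk (f.asFiber x))) :
    EGA43.IsEquidimAt f x := by
  open Groth.Agent.Helper14 in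
  haveI : IsLocallyNoetherian X := LocallyOfFiniteType.isLocallyNoetherian f
  haveI := SectionComp.isLocallyNoetherian_fiber f (f.base x)
  obtain ⟨nx, hnx⟩ := ResFieldBridge.exists_nat_trdeg_residueField f x
  obtain ⟨a, ha⟩ := FibreDimIneq.exists_nat_dim_stalk x
  obtain ⟨b, hb⟩ := FibreDimIneq.exists_nat_dim_stalk (f.base x)
  obtain ⟨c, hc⟩ := FibreDimIneq.exists_nat_dim_stalk (f.asFiber x)
  rw [ha, hb, hc] at h
  have habc : a = b + c := by exact_mod_cast h
  have hfdx : FlatMor.fibreDimAt f x = ((c + nx : ℕ) : WithBot ℕ∞) := by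
    rw [FibreGeneric.fibreDimAt_eq_stalk_add_trdeg f x nx hnx, hc]
    push_cast
    rfl
  obtain ⟨U₀, hxU₀, hU₀⟩ := EquidimAt.exists_nhd_maximal_specializes x
  let U₁ : X.Opens := ⟨{x' : X | FlatMor.fibreDimAt f x' ≤ ((c + nx : ℕ) : WithBot ℕ∞)},
    Groth.Agent.S0402.result f (c + nx)⟩
  have hxU₁ : x ∈ U₁ := hfdx.le
  -- the key computation for maximal points through `x`
  have key : ∀ ξ : X, ξ ⤳ x → (∀ ξ' : X, ξ' ⤳ ξ → ξ' = ξ) →
      (∀ η' : Y, η' ⤳ f.base ξ → η' = f.base ξ) ∧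
      @Algebra.trdeg (Y.residueField (f.base ξ)) (X.residueField ξ) _ _
        (f.residueFieldMap ξ).hom.toAlgebra = ((c + nx : ℕ) : Cardinal) := by
    intro ξ hξx hξmax
    obtain ⟨eξ, heξ⟩ := ResFieldBridge.exists_nat_trdeg_residueField f ξ
    have hPF := (PointwiseDim.formula_aux f x ξ hξx nx eξ hnx heξ).1
    have hmin := MinPrimePts.ker_specMap_mem_minimalPrimes x ξ hξx hξmax
    have hXe : ringKrullDim (Cyc.LocQuot x ξ hξx) = ringKrullDim (X.presheaf.stalk x) := hX _ hmin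
    obtain ⟨d', hd', hd'b⟩ := FibreDimIneq.exists_nat_dim_locQuot (f.base x) (f.base ξ)
      (hξx.map f.continuous)
    rw [hXe, ha, hd'] at hPF
    rw [hb] at hd'b
    obtain ⟨x₁, -, hx₁x, hfx₁, n₁, hn₁, hle⟩ := RestrictedChevalley.rc f x ξ hξx eξ heξ
    have h1 := EquidimAt.trdeg_le_fibreDimAt f x x₁ hx₁x n₁ hn₁
    rw [hfdx] at h1
    have e1 : a + nx ≤ d' + eξ := by exact_mod_cast hPF
    have e2 : d' ≤ b := by exact_mod_cast hd'b
    have e3 : n₁ ≤ c + nx := by exact_mod_cast h1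
    have e4 : d' = b := by omega
    have e5 : eξ = c + nx := by omega
    refine ⟨?_, by rw [heξ, e5]⟩
    apply FibreClosure.maximal_of_locQuot_eq (f.base x) (f.base ξ) (hξx.map f.continuous)
    rw [hd', hb, e4]
  apply EquidimAt.of_spec f x (c + nx) (U₀ ⊓ U₁) ⟨hxU₀, hxU₁⟩
  · intro ξ hξU hξmax
    have hξx := hU₀ ξ hξU.1 hξmax
    exact ⟨(key ξ hξx hξmax).1, hξx.map f.continuous⟩
  · intro z hzU hzmax
    obtain ⟨m, hm⟩ := ResFieldBridge.exists_nat_trdeg_residueField f z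
    have h1 : (m : WithBot ℕ∞) ≤ ((c + nx : ℕ) : WithBot ℕ∞) := by
      rw [← FibreMax.fibreDimAt_eq_of_maximal f z hzmax m hm]
      exact hzU.2
    obtain ⟨ξ, hξmax, hξz, -⟩ := LocQuotLemmas.exists_maximal_locQuot_eq z
    have hξU₀ : ξ ∈ U₀ := hξz.mem_open U₀.isOpen hzU.1
    have hξx := hU₀ ξ hξU₀ hξmax
    have heξ := (key ξ hξx hξmax).2
    obtain ⟨x₁, -, hx₁z, hfx₁, n₁, hn₁, hle⟩ := RestrictedChevalley.rc f z ξ hξz (c + nx) heξ
    have hx₁ := hzmax x₁ hfx₁ hx₁z
    subst hx₁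
    have e3 : n₁ = m := by
      have := hn₁.symm.trans hm
      exact_mod_cast this
    have e4 : m ≤ c + nx := by exact_mod_cast h1
    have e5 : m = c + nx := by omega
    rw [hm, e5]

end Groth.Agent.S3397
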