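import Groth.Statements.S3400
import Groth.Agent.Lib.Helper5.ProConsAffineImage

set_option autoImplicit false
open CategoryTheory AlgebraicGeometry
universe u
open EGA41

namespace Groth.Agent.S3400

/-- Let X be a quasi-compact and quasi-separated scheme. A subset E of X is pro-constructible if and
only if there are an affine scheme X' and a morphism f : X' ⟶ X with f(X') = E. -/
theorem result (X : Scheme.{u}) [CompactSpace X] [QuasiSeparatedSpace X]
    (E : Set X) :
    ProCons.IsProConstructible E ↔ ∃ (X' : Scheme.{u}) (f : X' ⟶ X), IsAffine X' ∧ Set.range f.base = E := by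
  constructor
  · intro hE
    exact Groth.Agent.Helper5.PC.exists_affine_range_eq X hE
  · rintro ⟨X', f, hX', rfl⟩
    have hq : QuasiCompact f := inferInstance
    have huniv : ProCons.IsProConstructible (Set.univ : Set X') := fun x =>
      ⟨Set.univ, isOpen_univ, Set.mem_univ x, ∅, by simp, by simp⟩
    have := Groth.Agent.Helper5.PC.isProConstructible_image f huniv
    rwa [Set.image_univ] at this

end Groth.Agent.S3400
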