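import Groth.Statements.S3402
import Groth.Agent.Lib.Helper5.ProConsScheme

set_option autoImplicit false
open CategoryTheory AlgebraicGeometry
universe u
open EGA41

namespace Groth.Agent.S3402

/-- A subset E of a scheme X is locally constructible if and only if it is both ind-constructible and
pro-constructible. -/
theorem result (X : Scheme.{u}) (E : Set X) :
    Topology.IsLocallyConstructible E ↔ ProCons.IsIndConstructible E ∧ ProCons.IsProConstructible E := by
  open Groth.Agent.Helper5.PC Set.Notation in
  constructor
  · intro hE
    have h1 : Topology.IsLocallyConstructible (Subtype.val ⁻¹' E : Set ↥(Set.univ : Set X)) :=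
      hE.preimage_of_isOpenEmbedding isOpen_univ.isOpenEmbedding_subtypeVal
    constructor
    · intro x
      refine ⟨Set.univ, isOpen_univ, Set.mem_univ x, {Subtype.val ⁻¹' E}, ?_, ?_⟩
      · intro T hT
        rw [Set.mem_singleton_iff] at hT
        rw [hT]; exact h1
      · rw [Set.sUnion_singleton]
    · intro x
      refine ⟨Set.univ, isOpen_univ, Set.mem_univ x, {Subtype.val ⁻¹' E}, ?_, ?_⟩
      · intro T hT
        rw [Set.mem_singleton_iff] at hT
        rw [hT]; exact h1
      · rw [Set.sInter_singleton]
  · rintro ⟨hind, hpro⟩
    intro x
    obtain ⟨V, hV, hxV⟩ := exists_isAffineOpen_mem x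
    have := compactSpace_of_isAffineOpen hV
    have := quasiSeparatedSpace_of_isAffineOpen hV
    have := prespectralSpace_of_opens V
    have := quasiSober_of_opens V
    refine ⟨(V : Set X), V.isOpen.mem_nhds hxV, V.isOpen, ?_⟩
    exact isConstructible_of_isClopen_cT (isOpen_cT_affine_of_isIndConstructible hV hind)
      (isClosed_cT_affine_of_isProConstructible hV hpro)

end Groth.Agent.S3402
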