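import Groth.Statements.S3403
import Groth.Agent.Lib.Helper5.ProConsScheme

set_option autoImplicit false
open CategoryTheory AlgebraicGeometry
universe u
open EGA41

namespace Groth.Agent.S3403

/-- Let X be a scheme, E an ind-constructible subset of X and x a point of X. Then x is an interior
point of E if and only if every generization of x belongs to E. -/
theorem result (X : Scheme.{u}) (E : Set X)
    (hE : ProCons.IsIndConstructible E) (x : X) :
    x ∈ interior E ↔ ∀ x' : X, x' ⤳ x → x' ∈ E := by
  classical
  open Groth.Agent.Helper5.PC Set.Notation in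
  constructor
  · intro hx x' hx'
    exact interior_subset (hx'.mem_open isOpen_interior hx)
  · intro hgen
    obtain ⟨V, hV, hxV⟩ := exists_isAffineOpen_mem x
    have := compactSpace_of_isAffineOpen hV
    have := quasiSeparatedSpace_of_isAffineOpen hV
    have := prespectralSpace_of_opens V
    have := quasiSober_of_opens V
    let y : ↥(V : Set X) := ⟨x, hxV⟩
    let ι := {K : Set ↥(V : Set X) // IsOpen K ∧ IsCompact K ∧ y ∈ K}
    have hsub : ⋂ K : ι, (K : Set ↥(V : Set X)) ⊆ ((V : Set X) ↓∩ E) := by
      intro z hz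
      rw [Set.mem_iInter] at hz
      apply hgen
      have hzy : z ⤳ y := by
        rw [specializes_iff_forall_open]
        intro U hU hyU
        obtain ⟨K, ⟨hKo, hKc⟩, hyK, hKU⟩ :=
          PrespectralSpace.isTopologicalBasis.mem_nhds_iff.mp (hU.mem_nhds hyU)
        exact hKU (hz ⟨K, hKo, hKc, hyK⟩)
      exact hzy.map continuous_subtype_val
    obtain ⟨J, hJ⟩ := exists_finset_iInter_subset (isOpen_cT_affine_of_isIndConstructible hV hE)
      (fun K : ι => (K : Set ↥(V : Set X)))
      (fun K => isOpen_cT_compl_of_isCompact_isOpen K.2.2.1 K.2.1) hsub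
    have hopen : IsOpen (⋂ K ∈ J, (K : Set ↥(V : Set X))) :=
      isOpen_biInter_finset (fun K _ => K.2.1)
    have hy : y ∈ ⋂ K ∈ J, (K : Set ↥(V : Set X)) := by
      rw [Set.mem_iInter₂]
      intro K _
      exact K.2.2.2
    rw [mem_interior]
    refine ⟨Subtype.val '' (⋂ K ∈ J, (K : Set ↥(V : Set X))), ?_,
      V.isOpen.isOpenMap_subtype_val _ hopen, ⟨y, hy, rfl⟩⟩
    rintro _ ⟨z, hz, rfl⟩
    exact hJ hz

end Groth.Agent.S3403
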