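import Groth.Statements.S3404
import Groth.Agent.Lib.Helper5.ProConsOpenAt
import Groth.Agent.S3403

set_option autoImplicit false
open CategoryTheory AlgebraicGeometry
universe u
open EGA41

namespace Groth.Agent.S3404

/-- Let f : X ⟶ Y be a morphism of schemes, x a point of X and y = f x. If f is open at x then every
generization of y is the image of a generization of x; when f is locally of finite presentation the
converse holds. -/
theorem result {X Y : Scheme.{u}} (f : X ⟶ Y) (x : X) :
    (EGA43.IsOpenAt f.base x → ∀ y' : Y, y' ⤳ f.base x → ∃ x' : X, x' ⤳ x ∧ f.base x' = y') ∧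
    (LocallyOfFinitePresentation f →
      ((EGA43.IsOpenAt f.base x) ↔ ∀ y' : Y, y' ⤳ f.base x → ∃ x' : X, x' ⤳ x ∧ f.base x' = y')) := by
  have part1 : EGA43.IsOpenAt f.base x →
      ∀ y' : Y, y' ⤳ f.base x → ∃ x' : X, x' ⤳ x ∧ f.base x' = y' := fun hopen y' hy' =>
    Groth.Agent.Helper5.PC.exists_specializes_of_isOpenAt f x hopen y' hy'
  refine ⟨part1, fun hlfp => ⟨part1, ?_⟩⟩
  intro hgen U hU
  -- it suffices to treat the interior of `U`
  have hint : IsOpen (interior U) := isOpen_interior
  have hx : x ∈ interior U := mem_interior_iff_mem_nhds.mpr hU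
  have hind : ProCons.IsIndConstructible (f.base '' interior U) :=
    Groth.Agent.Helper5.PC.isIndConstructible_image f
      (Groth.Agent.Helper5.PC.isIndConstructible_of_isOpen hint)
  have hmem : f.base x ∈ interior (f.base '' interior U) := by
    rw [Groth.Agent.S3403.result Y _ hind (f.base x)]
    intro y' hy'
    obtain ⟨x', hx'x, hx'y⟩ := hgen y' hy'
    exact ⟨x', hx'x.mem_open hint hx, hx'y⟩
  have h1 : f.base '' interior U ∈ nhds (f.base x) := mem_interior_iff_mem_nhds.mp hmem
  exact Filter.mem_of_superset h1 (Set.image_mono interior_subset)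

end Groth.Agent.S3404
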