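import Groth.Statements.S3405
import Groth.Agent.Lib.Helper5.HS6

set_option autoImplicit false
universe u
open EGA41

namespace Groth.Agent.S3405

/-- The degree of the Hilbert–Samuel polynomial equals the dimension: let A be a Noetherian ring with
finitely many maximal ideals, r its Jacobson radical and M a nonzero finitely generated A-module.
Then there is a polynomial P with rational coefficients such that the length of M/rⁿM is finite and
equals P(n) for all large n, and the degree of P is the dimension of M (the Krull dimension of its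
support). -/
theorem result (A : Type u) [CommRing A] [IsNoetherianRing A]
    [Finite (MaximalSpectrum A)] (M : Type u) [AddCommGroup M] [Module A M] [Module.Finite A M] [Nontrivial M] :
    ∃ P : Polynomial ℚ,
      (∃ N : ℕ, ∀ n : ℕ, N ≤ n →
        ∃ ℓ : ℕ, Module.length A (M ⧸ (Ring.jacobson A ^ n • (⊤ : Submodule A M))) = ℓ ∧ (ℓ : ℚ) = P.eval (n : ℚ)) ∧
      (P.natDegree : WithBot ℕ∞) = Module.supportDim A M := by
  obtain ⟨P, ⟨N, hN⟩, hdeg⟩ := Groth.Agent.Helper5.HS.exists_hilbertSamuel A M
  refine ⟨P, ⟨N, fun n hn => ?_⟩, hdeg⟩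
  refine ⟨Groth.Agent.Helper5.HS.sam A M n, ?_, hN n hn⟩
  have h1 : Module.length A (M ⧸ (Ring.jacobson A ^ n • (⊤ : Submodule A M))) ≠ ⊤ :=
    Module.length_ne_top_iff.mpr
      (Groth.Agent.Helper5.HS.isFiniteLength_quot_jacobson_pow_smul A M n)
  exact (ENat.natCast_toNat h1).symm

end Groth.Agent.S3405
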