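import Groth.Statements.S3406
import Groth.Agent.Lib.Helper5.HS4

set_option autoImplicit false
universe u
open EGA41

namespace Groth.Agent.S3406

/-- The equality s(M) = dim(M): let A be a Noetherian ring with finitely many maximal ideals, r its
Jacobson radical and M a nonzero finitely generated A-module. Then the dimension of M (the Krull
dimension of its support) is the least n for which there are elements x_1, …, x_n of r such that
M/(x_1 M + ⋯ + x_n M) has finite length. -/
theorem result (A : Type u) [CommRing A] [IsNoetherianRing A]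
    [Finite (MaximalSpectrum A)] (M : Type u) [AddCommGroup M] [Module A M] [Module.Finite A M] [Nontrivial M] :
    Module.supportDim A M =
      sInf {k : WithBot ℕ∞ | ∃ (n : ℕ) (x : Fin n → A), k = n ∧ (∀ i, x i ∈ Ring.jacobson A) ∧
        IsFiniteLength A (M ⧸ (Ideal.span (Set.range x) • (⊤ : Submodule A M)))} := by
  have key : ∀ (n : ℕ) (x : Fin n → A),
      IsFiniteLength A (M ⧸ (Ideal.span (Set.range x) • (⊤ : Submodule A M))) ↔
        ∀ p ∈ Module.support A M ∩ PrimeSpectrum.zeroLocus (Set.range x),
          p.asIdeal.IsMaximal := by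
    intro n x
    rw [Groth.Agent.Helper5.HS.isFiniteLength_iff_support, Module.support_quotient,
      PrimeSpectrum.zeroLocus_span]
  apply le_antisymm
  · apply le_sInf
    rintro k ⟨n, x, rfl, hx, hfl⟩
    exact Groth.Agent.Helper5.HS.supportDim_le_of_forall_isMaximal n M x hx ((key n x).mp hfl)
  · obtain ⟨m, g, hg⟩ := Submodule.fg_iff_exists_fin_generating_family.mp
      (IsNoetherian.noetherian (Ring.jacobson A))
    have hgJ : ∀ i, g i ∈ Ring.jacobson A := fun i => hg ▸ Ideal.subset_span ⟨i, rfl⟩
    have hbound : Module.supportDim A M ≤ m := by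
      apply Groth.Agent.Helper5.HS.supportDim_le_of_forall_isMaximal m M g hgJ
      rintro p ⟨hp1, hp2⟩
      apply Groth.Agent.Helper5.HS.isMaximal_of_jacobson_le
      rw [← hg]
      exact Ideal.span_le.mpr hp2
    have hne : Module.supportDim A M ≠ ⊥ := Module.supportDim_ne_bot_of_nontrivial A M
    obtain ⟨d, hd⟩ : ∃ d : ℕ, Module.supportDim A M = d := by
      induction h : Module.supportDim A M using WithBot.recBotCoe with
      | bot => exact absurd h hne
      | coe e =>
        rw [h] at hbound
        have h1 : e ≤ (m : ℕ∞) := by exact_mod_cast hbound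
        have h2 : e ≠ ⊤ := ne_top_of_le_ne_top (ENat.natCast_ne_top m) h1
        obtain ⟨d, rfl⟩ := ENat.ne_top_iff_exists.mp h2
        exact ⟨d, rfl⟩
    obtain ⟨x, hx, hx'⟩ := Groth.Agent.Helper5.HS.exists_params d M hd.le
    rw [hd]
    apply sInf_le
    exact ⟨d, x, rfl, hx, (key d x).mpr hx'⟩

end Groth.Agent.S3406
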