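import Groth.Statements.S3412
import Groth.Agent.Lib.Helper15.NGeom2

set_option autoImplicit false
open CategoryTheory AlgebraicGeometry
universe u
open EGA43

namespace Groth.Agent.S3412

/-- Let Y be locally Noetherian, f : X ⟶ Y separated and quasi-finite, n(z) the geometric number of
points of the fibre over z, and y a point such that f is universally open at every point of the
fibre over y. If n is constant on a neighbourhood of y, then f is proper at y: there is an open
neighbourhood U of y such that the restriction of f over U is proper. -/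
theorem result {X Y : Scheme.{u}} [IsLocallyNoetherian Y] (f : X ⟶ Y)
    [IsSeparated f] [LocallyQuasiFinite f] [LocallyOfFiniteType f] [QuasiCompact f] (y : Y)
    (h : ∀ x : X, f.base x = y → EGA43.IsUnivOpenAt f x)
    (hc : ∃ V ∈ nhds y, ∀ z ∈ V, MoreMor.nGeomConnComp f z = MoreMor.nGeomConnComp f y) :
    ∃ U : Y.Opens, y ∈ U ∧ IsProper (f ∣_ U) := by
  have H : ∀ (T E : Scheme.{u}) (g : T ⟶ Y) (p₁ : E ⟶ X) (p₂ : E ⟶ T), Etale g →
      IsPullback p₁ p₂ f g → ∀ p : E, g (p₂ p) = y → ∀ U : E.Opens, p ∈ U →
        p₂ '' (U : Set E) ∈ nhds (p₂ p) := by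
    intro T E g p₁ p₂ _ sq p hp U hpU
    have hx : f.base (p₁ p) = y := by
      have : f (p₁ p) = g (p₂ p) := by
        rw [← Scheme.Hom.comp_apply, sq.w, Scheme.Hom.comp_apply]
      exact this.trans hp
    have h1 := h (p₁ p) hx T g (sq.isoPullback.hom p) (by
      change (sq.isoPullback.hom ≫ Limits.pullback.fst f g) p = p₁ p
      rw [sq.isoPullback_hom_fst])
    have h2 : (sq.isoPullback.hom '' (U : Set E)) ∈ nhds (sq.isoPullback.hom p) :=
      (sq.isoPullback.hom.isOpenEmbedding.isOpenMap _ U.2).mem_nhds ⟨p, hpU, rfl⟩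
    have h3 := h1 _ h2
    have e1 : (Limits.pullback.snd f g).base '' (sq.isoPullback.hom '' (U : Set E)) =
        p₂ '' (U : Set E) := by
      rw [← Set.image_comp]
      congr 1
      ext q
      change (sq.isoPullback.hom ≫ Limits.pullback.snd f g) q = p₂ q
      rw [sq.isoPullback_hom_snd]
    have e2 : (Limits.pullback.snd f g).base (sq.isoPullback.hom p) = p₂ p := by
      change (sq.isoPullback.hom ≫ Limits.pullback.snd f g) p = p₂ p
      rw [sq.isoPullback_hom_snd]
    rw [e1, e2] at h3
    exact h3
  exact (Groth.Agent.Helper15.NGeom.lsc_and_proper f y H).2 hc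

end Groth.Agent.S3412
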