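import Groth.Statements.S3418
import Groth.Agent.Lib.Helper15.NGeom2

set_option autoImplicit false
open CategoryTheory AlgebraicGeometry
universe u
open EGA43

namespace Groth.Agent.S3418

/-- Let f : X ⟶ Y be flat, locally of finite presentation, separated and quasi-finite, and let n(y) be
the geometric number of points of the fibre over y. Then n is lower semicontinuous on Y, and if n is
constant on a neighbourhood of a point y₀ then f is proper over some open neighbourhood of y₀. -/
theorem result {X Y : Scheme.{u}} (f : X ⟶ Y) [Flat f]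
    [LocallyOfFinitePresentation f] [IsSeparated f] [LocallyQuasiFinite f] [QuasiCompact f] :
    LowerSemicontinuous (fun z : Y => MoreMor.nGeomConnComp f z) ∧
      ∀ y₀ : Y, (∃ V ∈ nhds y₀, ∀ z ∈ V, MoreMor.nGeomConnComp f z = MoreMor.nGeomConnComp f y₀) →
        ∃ U : Y.Opens, y₀ ∈ U ∧ IsProper (f ∣_ U) := by
  have H : ∀ y₀ : Y, ∀ (T E : Scheme.{u}) (g : T ⟶ Y) (p₁ : E ⟶ X) (p₂ : E ⟶ T), Etale g →
      IsPullback p₁ p₂ f g → ∀ p : E, g (p₂ p) = y₀ → ∀ U : E.Opens, p ∈ U →
        p₂ '' (U : Set E) ∈ nhds (p₂ p) := by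
    intro y₀ T E g p₁ p₂ _ sq p _ U hpU
    haveI : Flat p₂ := MorphismProperty.of_isPullback (P := @Flat) sq inferInstance
    haveI : LocallyOfFinitePresentation p₂ :=
      MorphismProperty.of_isPullback (P := @LocallyOfFinitePresentation) sq inferInstance
    exact (p₂.isOpenMap _ U.2).mem_nhds ⟨p, hpU, rfl⟩
  constructor
  · intro y₀ a ha
    obtain ⟨O, hy₀O, hO⟩ := (Groth.Agent.Helper15.NGeom.lsc_and_proper f y₀ (H y₀)).1
    filter_upwards [O.2.mem_nhds hy₀O] with z hz
    exact lt_of_lt_of_le ha (hO z hz)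
  · intro y₀ h
    exact (Groth.Agent.Helper15.NGeom.lsc_and_proper f y₀ (H y₀)).2 h

end Groth.Agent.S3418
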