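import Groth.Statements.S4952
import Mathlib
import Groth.Agent.Lib.Helper14.SectionComp2
-- import your own Groth.Agent.* helpers here

set_option autoImplicit false
open CategoryTheory AlgebraicGeometry
universe u v w
open EGA43

namespace Groth.Agent.S4952

/-- Let Y be a locally Noetherian scheme, f : X ⟶ Y a morphism locally of finite type and g : Y ⟶ X a
section of f; for z in Y let X_z^0 be the connected component of the fibre f⁻¹(z) containing g z (a
subset of X with the induced topology). Let y be a point of Y and y' a generization of y. (i) If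
there is an irreducible component Z of f⁻¹(y') containing g y' with dim Z = dim X_{y'}^0, then dim
X_y^0 ≥ dim X_{y'}^0. (ii) If moreover X_y^0 is irreducible and dim X_y^0 = dim X_{y'}^0, then X_y^0
is contained in the closure of X_{y'}^0 in X. -/
theorem result {X Y : Scheme.{u}} [IsLocallyNoetherian Y] (f : X ⟶ Y)
    [LocallyOfFiniteType f] (g : Y ⟶ X) (hg : g ≫ f = 𝟙 Y) (y y' : Y) (hy : y' ⤳ y)
    (hZ : ∃ Z : Set X, Z ⊆ f.base ⁻¹' {y'} ∧ IsIrreducible Z ∧
      (∀ Z' : Set X, IsIrreducible Z' → Z' ⊆ f.base ⁻¹' {y'} → Z ⊆ Z' → Z' = Z) ∧ g.base y' ∈ Z ∧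
      topologicalKrullDim ↥Z = topologicalKrullDim ↥(connectedComponentIn (f.base ⁻¹' {y'}) (g.base y'))) :
    topologicalKrullDim ↥(connectedComponentIn (f.base ⁻¹' {y'}) (g.base y')) ≤ topologicalKrullDim ↥(connectedComponentIn (f.base ⁻¹' {y}) (g.base y)) ∧
      (IsIrreducible (connectedComponentIn (f.base ⁻¹' {y}) (g.base y)) → topologicalKrullDim ↥(connectedComponentIn (f.base ⁻¹' {y}) (g.base y)) = topologicalKrullDim ↥(connectedComponentIn (f.base ⁻¹' {y'}) (g.base y')) →
        connectedComponentIn (f.base ⁻¹' {y}) (g.base y) ⊆ closure (connectedComponentIn (f.base ⁻¹' {y'}) (g.base y'))) := by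
  open Groth.Agent.Helper14 in
  have hfg : ∀ t : Y, f.base (g.base t) = t := by
    intro t
    have := congrArg (fun h => h.base t) hg
    simpa using this
  obtain ⟨Z, hZy, hZirr, hZmax, hgZ, hZdim⟩ := hZ
  obtain ⟨ζ, nζ, hζZ, hZζ, hfζ, hnζ, hdimZ, hfdζ⟩ :=
    SectionComp.exists_generic_of_fibre_component f y' Z hZy hZirr hZmax
  have hζx' : ζ ⤳ g.base y' := specializes_iff_mem_closure.mpr (hZζ hgZ)
  have hx'x : g.base y' ⤳ g.base y := hy.map g.continuous
  have hζx : ζ ⤳ g.base y := hζx'.trans hx'x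
  have hCy : connectedComponentIn (f.base ⁻¹' {y}) (g.base y) =
      connectedComponentIn (f.base ⁻¹' {f.base (g.base y)}) (g.base y) := by rw [hfg y]
  have hZC : Z ⊆ connectedComponentIn (f.base ⁻¹' {y'}) (g.base y') :=
    hZirr.isConnected.isPreconnected.subset_connectedComponentIn hgZ hZy
  constructor
  · rw [← hZdim, hdimZ, ← hfdζ, hCy]
    exact (SectionComp.fibreDimAt_le_of_specializes f ζ (g.base y) hζx).trans
      (SectionComp.fibreDimAt_le_dim_connComp f (g.base y))
  · intro hirr hdimeq
    rw [hCy] at hirr hdimeq ⊢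
    have h1 := SectionComp.dim_connComp_eq f (g.base y) hirr
    have h2 : FlatMor.fibreDimAt f (g.base y) ≤ (nζ : WithBot ℕ∞) := by
      rw [← h1, hdimeq, ← hZdim, hdimZ]
    refine (SectionComp.connComp_subset_closure f (g.base y) ζ hζx hirr nζ hnζ h2).trans ?_
    exact closure_mono (Set.singleton_subset_iff.mpr (hZC hζZ))

end Groth.Agent.S4952
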