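import Groth.Statements.S3419
import Mathlib
import Groth.Agent.Lib.Helper14.SectionComp2
import Groth.Agent.S4952
-- import your own Groth.Agent.* helpers here

set_option autoImplicit false
open CategoryTheory AlgebraicGeometry
universe u
open EGA43

namespace Groth.Agent.S3419

/-- Let Y be locally Noetherian, f : X ⟶ Y locally of finite type and g a section of f; for y in Y let
X⁰_y be the connected component of the fibre f⁻¹(y) containing g(y). Suppose every X⁰_y is
irreducible. Then y ↦ dim X⁰_y is upper semicontinuous on Y; and if this function is constant on a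
neighbourhood of a point y, then X⁰_y is contained in the closure of X⁰_{y'} for every generization
y' of y. -/
theorem result {X Y : Scheme.{u}} [IsLocallyNoetherian Y] (f : X ⟶ Y)
    [LocallyOfFiniteType f] (g : Y ⟶ X) (hg : g ≫ f = 𝟙 Y)
    (hirr : ∀ y : Y, IsIrreducible (connectedComponentIn (f.base ⁻¹' {y}) (g.base y))) :
    UpperSemicontinuous (fun y : Y => topologicalKrullDim ↥(connectedComponentIn (f.base ⁻¹' {y}) (g.base y))) ∧
      ∀ y : Y, (∃ V ∈ nhds y, ∀ z ∈ V, topologicalKrullDim ↥(connectedComponentIn (f.base ⁻¹' {z}) (g.base z)) = topologicalKrullDim ↥(connectedComponentIn (f.base ⁻¹' {y}) (g.base y))) →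
        ∀ y' : Y, y' ⤳ y → connectedComponentIn (f.base ⁻¹' {y}) (g.base y) ⊆ closure (connectedComponentIn (f.base ⁻¹' {y'}) (g.base y')) := by
  open Groth.Agent.Helper14 in
  have hfg : ∀ t : Y, f.base (g.base t) = t := by
    intro t
    have := congrArg (fun h => h.base t) hg
    simpa using this
  have hF : ∀ y : Y, topologicalKrullDim ↥(connectedComponentIn (f.base ⁻¹' {y}) (g.base y)) =
      FlatMor.fibreDimAt f (g.base y) := by
    intro y
    have h1 := hirr y
    have e : connectedComponentIn (f.base ⁻¹' {y}) (g.base y) =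
        connectedComponentIn (f.base ⁻¹' {f.base (g.base y)}) (g.base y) := by rw [hfg y]
    rw [e] at h1 ⊢
    exact SectionComp.dim_connComp_eq f (g.base y) h1
  constructor
  · intro y a ha
    simp only [hF] at ha ⊢
    obtain ⟨n, hn⟩ : ∃ n : ℕ, FlatMor.fibreDimAt f (g.base y) ≤ n ∧ (n : WithBot ℕ∞) < a := by
      have h0 : (0 : WithBot ℕ∞) ≤ FlatMor.fibreDimAt f (g.base y) :=
        FibreGeneric.zero_le_localDim _
      generalize FlatMor.fibreDimAt f (g.base y) = b at ha h0
      induction b using WithBot.recBotCoe with
      | bot => exact absurd h0 (by simp)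
      | coe b =>
        induction b using ENat.recTopCoe with
        | top => exact absurd ha (not_lt.mpr le_top)
        | coe n => exact ⟨n, le_rfl, ha⟩
    have hopen : IsOpen (g.base ⁻¹' {x : X | FlatMor.fibreDimAt f x ≤ n}) :=
      (Groth.Agent.S0402.result f n).preimage g.continuous
    filter_upwards [hopen.mem_nhds hn.1] with y' hy'
    exact lt_of_le_of_lt hy' hn.2
  · rintro y ⟨V, hV, hVdim⟩ y' hy'
    have hy'V : y' ∈ V := mem_of_mem_nhds (hy' hV)
    have hdim := hVdim y' hy'V
    have hmem : g.base y' ∈ f.base ⁻¹' {y'} := hfg y'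
    have key := Groth.Agent.S4952.result f g hg y y' hy'
      ⟨connectedComponentIn (f.base ⁻¹' {y'}) (g.base y'), connectedComponentIn_subset _ _,
        hirr y', ?_, mem_connectedComponentIn hmem, rfl⟩
    · exact key.2 (hirr y) hdim.symm
    · intro Z' hZ' hZ'sub hle
      apply Set.Subset.antisymm _ hle
      exact hZ'.isConnected.isPreconnected.subset_connectedComponentIn
        (hle (mem_connectedComponentIn hmem)) hZ'sub

end Groth.Agent.S3419
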