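import Groth.Statements.S3430
import Mathlib
import Groth.Agent.Lib.Helper14.DimFT3
-- import your own Groth.Agent.* helpers here

set_option autoImplicit false
open CategoryTheory AlgebraicGeometry
universe u
open EGA42

namespace Groth.Agent.S3430

/-- Let X be a scheme of finite type over a field k and n a natural number. Then: dim X ≥ n if and only
if there are a dense open subscheme U of X and a surjective k-morphism from U to affine n-space over
k; dim X ≤ n if and only if there are such U and g with g finite; dim X = n if and only if there are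
such U and g with g finite and surjective. -/
theorem result (k : Type u) [Field k] {X : Scheme.{u}}
    (f : X ⟶ Spec (CommRingCat.of k)) [LocallyOfFiniteType f] [QuasiCompact f] (n : ℕ) :
    ((n : WithBot ℕ∞) ≤ topologicalKrullDim (X : Type u) ↔
      ∃ (U : X.Opens) (g : (U : Scheme.{u}) ⟶ 𝔸(ULift.{u} (Fin n); Spec (CommRingCat.of k))),
        Dense (U : Set X) ∧ g ≫ (𝔸(ULift.{u} (Fin n); Spec (CommRingCat.of k)) ↘ Spec (CommRingCat.of k)) = U.ι ≫ f ∧ Function.Surjective g.base) ∧
    (topologicalKrullDim (X : Type u) ≤ n ↔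
      ∃ (U : X.Opens) (g : (U : Scheme.{u}) ⟶ 𝔸(ULift.{u} (Fin n); Spec (CommRingCat.of k))),
        Dense (U : Set X) ∧ g ≫ (𝔸(ULift.{u} (Fin n); Spec (CommRingCat.of k)) ↘ Spec (CommRingCat.of k)) = U.ι ≫ f ∧ IsFinite g) ∧
    (topologicalKrullDim (X : Type u) = n ↔
      ∃ (U : X.Opens) (g : (U : Scheme.{u}) ⟶ 𝔸(ULift.{u} (Fin n); Spec (CommRingCat.of k))),
        Dense (U : Set X) ∧ g ≫ (𝔸(ULift.{u} (Fin n); Spec (CommRingCat.of k)) ↘ Spec (CommRingCat.of k)) = U.ι ≫ f ∧ IsFinite g ∧ Function.Surjective g.base) := by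
  classical
  open Groth.Agent.Helper14 in
  haveI : IsLocallyNoetherian X := LocallyOfFiniteType.isLocallyNoetherian f
  haveI : CompactSpace X := (HasAffineProperty.iff_of_isAffine (P := @QuasiCompact)).mp ‹QuasiCompact f›
  haveI : IsNoetherian X := {}
  obtain ⟨U, hUaff, hUdense⟩ := DimFT.exists_dense_affineOpen X
  haveI : IsAffine (U : Scheme.{u}) := hUaff
  have hdimU : topologicalKrullDim (U : Scheme.{u}) = topologicalKrullDim X :=
    DimFT.dim_opens_eq_of_dense k f U hUdense
  -- reverse directions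
  have hge : ∀ (U' : X.Opens) (g : (U' : Scheme.{u}) ⟶ 𝔸(ULift.{u} (Fin n); Spec (CommRingCat.of k))),
      g ≫ (𝔸(ULift.{u} (Fin n); Spec (CommRingCat.of k)) ↘ Spec (CommRingCat.of k)) = U'.ι ≫ f →
      Function.Surjective g.base → (n : WithBot ℕ∞) ≤ topologicalKrullDim (X : Type u) := by
    intro U' g hg hs
    exact (DimFT.le_dim_of_surjective k (U'.ι ≫ f) n g hg hs).trans
      (topologicalKrullDim_subspace_le X (U' : Set X))
  have hle : ∀ (U' : X.Opens) (g : (U' : Scheme.{u}) ⟶ 𝔸(ULift.{u} (Fin n); Spec (CommRingCat.of k))),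
      Dense (U' : Set X) → IsFinite g → topologicalKrullDim (X : Type u) ≤ n := by
    intro U' g hd hfin
    rw [← DimFT.dim_opens_eq_of_dense k f U' hd]
    exact DimFT.dim_le_of_isFinite k n g
  refine ⟨⟨?_, ?_⟩, ⟨?_, ?_⟩, ⟨?_, ?_⟩⟩
  · intro hn
    rw [← hdimU] at hn
    haveI : Nonempty (U : Scheme.{u}) := by
      by_contra hcon
      rw [not_nonempty_iff] at hcon
      have hbot : topologicalKrullDim (U : Scheme.{u}) = ⊥ := by
        rw [topologicalKrullDim, Order.krullDim_eq_bot_iff]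
        exact ⟨fun Z => by obtain ⟨z, _⟩ := Z.isIrreducible.nonempty; exact IsEmpty.false z⟩
      rw [hbot] at hn
      exact absurd hn (by simp)
    obtain ⟨d, hd⟩ := DimFT.exists_nat_dim_eq k (U.ι ≫ f)
    have hnd : n ≤ d := by
      rw [hd] at hn
      exact_mod_cast hn
    obtain ⟨g, hg, -, hsurj⟩ := DimFT.exists_finite_hom k (U.ι ≫ f) d (le_of_eq hd)
    refine ⟨U, g ≫ AffineSpace.reindex
      (fun i : ULift.{u} (Fin n) => (ULift.up (Fin.castLE hnd i.down) : ULift.{u} (Fin d))) _,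
      hUdense, ?_, ?_⟩
    · rw [Category.assoc, AffineSpace.reindex_over, hg]
    · have h1 := DimFT.surjective_reindex (Spec (CommRingCat.of k)) hnd
      have h2 := hsurj hd
      intro z
      obtain ⟨w, hw⟩ := h1 z
      obtain ⟨u', hu'⟩ := h2 w
      refine ⟨u', ?_⟩
      rw [Scheme.Hom.comp_apply, hu', hw]
  · rintro ⟨U', g, -, hg, hs⟩
    exact hge U' g hg hs
  · intro hn
    rw [← hdimU] at hn
    obtain ⟨g, hg, hfin, -⟩ := DimFT.exists_finite_hom k (U.ι ≫ f) n hn
    exact ⟨U, g, hUdense, hg, hfin⟩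
  · rintro ⟨U', g, hd, -, hfin⟩
    exact hle U' g hd hfin
  · intro hn
    rw [← hdimU] at hn
    obtain ⟨g, hg, hfin, hsurj⟩ := DimFT.exists_finite_hom k (U.ι ≫ f) n (le_of_eq hn)
    exact ⟨U, g, hUdense, hg, hfin, hsurj hn⟩
  · rintro ⟨U', g, hd, hg, hfin, hs⟩
    exact le_antisymm (hle U' g hd hfin) (hge U' g hg hs)

end Groth.Agent.S3430
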