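import Groth.Statements.S3431
import Mathlib.RingTheory.KrullDimension.Field
import Groth.Agent.Lib.Helper2.JacobsonNoeth
-- import your own Groth.Agent.* helpers here

set_option autoImplicit false
universe u
open EGA43

namespace Groth.Agent.S3431

section
open Groth.Agent.Helper2.JacobsonNoeth

/-- quotient-level version of `exists_prime_of_not_jacobson`. -/
theorem exists_prime_quotient_of_not_jacobson {R : Type*} [CommRing R] [IsNoetherianRing R]
    (h : ¬ IsJacobsonRing R) :
    ∃ p : Ideal R, p.IsPrime ∧ ¬ p.IsMaximal ∧ Finite (PrimeSpectrum (R ⧸ p)) ∧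
      ∀ q : Ideal (R ⧸ p), q.IsPrime → q ≠ ⊥ → q.IsMaximal := by
  rw [isJacobsonRing_iff_prime_eq] at h
  push Not at h
  let S : Set (Ideal R) := {p | p.IsPrime ∧ p.jacobson ≠ p}
  have hS : S.Nonempty := by
    obtain ⟨p, hp, hne⟩ := h
    exact ⟨p, hp, hne⟩
  obtain ⟨p, ⟨hp, hpJ⟩, hmax⟩ := (wellFounded_gt (α := Ideal R)).has_min S hS
  haveI := hp
  have hnm : ¬ p.IsMaximal := fun hm => hpJ (Ideal.jacobson_eq_self_of_isMaximal)
  let π : R →+* R ⧸ p := Ideal.Quotient.mk p
  have hπ : Function.Surjective π := Ideal.Quotient.mk_surjective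
  have hker : RingHom.ker π = p := Ideal.mk_ker
  have hJ : (⊥ : Ideal (R ⧸ p)).jacobson ≠ ⊥ := fun h0 =>
    hpJ (Ideal.jacobson_eq_iff_jacobson_quotient_eq_bot.mpr h0)
  have hq : ∀ q : Ideal (R ⧸ p), q.IsPrime → q ≠ ⊥ → q.jacobson = q := by
    intro q hq hq0
    have hle : p ≤ q.comap π := hker.ge.trans (Ideal.ker_le_comap π)
    have hne : p ≠ q.comap π := by
      intro heq
      apply hq0
      rw [← Ideal.map_comap_of_surjective π hπ q, ← heq]
      exact Ideal.map_quotient_self p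
    have hlt : p < q.comap π := lt_of_le_of_ne hle hne
    have hnS : q.comap π ∉ S := fun hS' => hmax _ hS' hlt
    have hJq : (q.comap π).jacobson = q.comap π := by
      by_contra hne'
      exact hnS ⟨Ideal.comap_isPrime π q, hne'⟩
    apply Ideal.comap_injective_of_surjective π hπ
    rw [Ideal.comap_jacobson_of_surjective hπ, hJq]
  obtain ⟨hfin, hmaxq⟩ := domain_key hJ hq
  exact ⟨p, hp, hnm, hfin, hmaxq⟩

theorem dim_eq_one {D : Type*} [CommRing D] [IsDomain D] (hnf : ¬ (⊥ : Ideal D).IsMaximal)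
    (h : ∀ q : Ideal D, q.IsPrime → q ≠ ⊥ → q.IsMaximal) : ringKrullDim D = 1 := by
  have h1 : Ring.KrullDimLE 1 D := Ring.KrullDimLE.mk₁' (fun I hI hIp => h I hIp hI)
  have hle : ringKrullDim D ≤ 1 := by
    have := Ring.krullDimLE_iff.mp h1
    simpa using this
  refine le_antisymm hle ?_
  by_contra hlt
  rw [not_le] at hlt
  have h0 : ringKrullDim D ≤ (0 : ℕ) := by
    apply ENat.WithBot.lt_add_one_iff.mp
    simpa using hlt
  have h0' : Ring.KrullDimLE 0 D := Ring.krullDimLE_iff.mpr h0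
  exact hnf (Ring.krullDimLE_zero_iff.mp h0' ⊥ Ideal.isPrime_bot)

theorem main (A : Type u) [CommRing A] [IsNoetherianRing A] :
    IsJacobsonRing A ↔
      ∀ (p : Ideal A) [p.IsPrime],
        ¬ (Finite (MaximalSpectrum (A ⧸ p)) ∧ ringKrullDim (A ⧸ p) = 1) := by
  classical
  constructor
  · intro hA p hp ⟨hfin, hdim⟩
    haveI : IsJacobsonRing (A ⧸ p) :=
      isJacobsonRing_of_surjective ⟨Ideal.Quotient.mk p, Ideal.Quotient.mk_surjective⟩
    have hJ : (⊥ : Ideal (A ⧸ p)).jacobson = ⊥ :=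
      IsJacobsonRing.out inferInstance (Ideal.isPrime_bot (α := A ⧸ p)).isRadical
    haveI : Fintype (MaximalSpectrum (A ⧸ p)) := Fintype.ofFinite _
    have hinf : (Finset.univ : Finset (MaximalSpectrum (A ⧸ p))).inf (fun m => m.asIdeal) ≤ ⊥ := by
      rw [← hJ]
      intro x hx
      rw [Ideal.jacobson, Ideal.mem_sInf]
      rintro m ⟨-, hm⟩
      have : (Finset.univ : Finset (MaximalSpectrum (A ⧸ p))).inf (fun m => m.asIdeal) ≤ m :=
        Finset.inf_le (f := fun m : MaximalSpectrum (A ⧸ p) => m.asIdeal)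
          (Finset.mem_univ (⟨m, hm⟩ : MaximalSpectrum (A ⧸ p)))
      exact this hx
    obtain ⟨m, -, hm⟩ := (Ideal.IsPrime.inf_le' (Ideal.isPrime_bot (α := A ⧸ p))).mp hinf
    have hmb : m.asIdeal = ⊥ := le_bot_iff.mp hm
    have hbm : (⊥ : Ideal (A ⧸ p)).IsMaximal := hmb ▸ m.isMaximal
    have hF : IsField (A ⧸ p) := Ring.isField_iff_maximal_bot.mpr hbm
    rw [ringKrullDim_eq_zero_of_isField hF] at hdim
    exact zero_ne_one hdim
  · intro h
    by_contra hn
    obtain ⟨p, hp, hnm, hfin, hmax⟩ := exists_prime_quotient_of_not_jacobson hn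
    haveI := hp
    refine h p ⟨?_, ?_⟩
    · exact Finite.of_injective _ (MaximalSpectrum.toPrimeSpectrum_injective)
    · apply dim_eq_one _ hmax
      intro hb
      apply hnm
      have : p = (⊥ : Ideal (A ⧸ p)).comap (Ideal.Quotient.mk p) := by
        rw [← RingHom.ker_eq_comap_bot, Ideal.mk_ker]
      rw [this]
      exact Ideal.comap_isMaximal_of_surjective _ Ideal.Quotient.mk_surjective

end

/-- Let A be a Noetherian ring. Then A is a Jacobson ring if and only if there is no prime ideal p of A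
such that A/p is semi-local (finitely many maximal ideals) of Krull dimension 1. -/
theorem result (A : Type u) [CommRing A] [IsNoetherianRing A] :
    IsJacobsonRing A ↔
      ∀ (p : Ideal A) [p.IsPrime], ¬ (Finite (MaximalSpectrum (A ⧸ p)) ∧ ringKrullDim (A ⧸ p) = 1) := by
  exact Groth.Agent.S3431.main A

end Groth.Agent.S3431
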