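import Groth.Statements.S9832
import Mathlib.RingTheory.Spectrum.Prime.Jacobson
import Groth.Agent.S2011
-- import your own Groth.Agent.* helpers here

set_option autoImplicit false
universe u
open Props

namespace Groth.Agent.S9832

section
open Topology

theorem jacobson_of_openEmbeddings {Z W Y : Type*} [TopologicalSpace Z] [TopologicalSpace W]
    [TopologicalSpace Y] [JacobsonSpace W] (j : Z → Y) (e : W → Y) (hj : IsOpenEmbedding j)
    (he : IsOpenEmbedding e) (h : Set.range j ⊆ Set.range e) : JacobsonSpace Z := by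
  choose k hk using (fun z => h ⟨z, rfl⟩)
  have hjk : e ∘ k = j := funext hk
  have hk' : IsOpenEmbedding k := (Topology.IsOpenEmbedding.of_comp_iff k he).mp (hjk ▸ hj)
  exact JacobsonSpace.of_isOpenEmbedding hk'

theorem main (R : Type u) [CommRing R] [IsNoetherianRing R]
    (I : Ideal R) (hI : I ≤ (⊥ : Ideal R).jacobson) :
    JacobsonSpace ↥((PrimeSpectrum.zeroLocus (I : Set R))ᶜ) := by
  have hXo : IsOpen ((PrimeSpectrum.zeroLocus (I : Set R))ᶜ) :=
    (PrimeSpectrum.isClosed_zeroLocus _).isOpen_compl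
  let U : I → TopologicalSpace.Opens ↥((PrimeSpectrum.zeroLocus (I : Set R))ᶜ) := fun f =>
    ⟨Subtype.val ⁻¹' (PrimeSpectrum.basicOpen f.1 : Set (PrimeSpectrum R)),
      (PrimeSpectrum.basicOpen f.1).2.preimage continuous_subtype_val⟩
  have hU : TopologicalSpace.IsOpenCover U := by
    apply TopologicalSpace.IsOpenCover.mk
    rw [eq_top_iff]
    rintro ⟨x, hx⟩ -
    have hx' : ¬ (I : Set R) ⊆ x.asIdeal := hx
    rw [Set.not_subset] at hx'
    obtain ⟨f, hfI, hfx⟩ := hx'
    exact TopologicalSpace.Opens.mem_iSup.mpr ⟨⟨f, hfI⟩, hfx⟩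
  rw [hU.jacobsonSpace_iff]
  intro f
  haveI : IsJacobsonRing (Localization.Away f.1) := Groth.Agent.S2011.main R I hI f.1 f.2
  refine jacobson_of_openEmbeddings (fun z : U f => z.1.1)
    (PrimeSpectrum.comap (algebraMap R (Localization.Away f.1))) ?_
    (PrimeSpectrum.localization_away_isOpenEmbedding _ f.1) ?_
  · exact hXo.isOpenEmbedding_subtypeVal.comp (U f).2.isOpenEmbedding_subtypeVal
  · rw [PrimeSpectrum.localization_away_comap_range _ f.1]
    rintro _ ⟨z, rfl⟩
    exact z.2

end

/-- For a Noetherian ring R and an ideal I inside the Jacobson radical of R, the complement of V(I) in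
Spec R is a Jacobson topological space. -/
theorem result (R : Type u) [CommRing R] [IsNoetherianRing R]
    (I : Ideal R) (hI : I ≤ (⊥ : Ideal R).jacobson) :
    JacobsonSpace ↥((PrimeSpectrum.zeroLocus (I : Set R))ᶜ) := by
  exact Groth.Agent.S9832.main R I hI

end Groth.Agent.S9832
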