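import Groth.Statements.S3433
import Groth.Agent.S3431
import Groth.Agent.S9832
-- import your own Groth.Agent.* helpers here

set_option autoImplicit false
universe u
open EGA43

namespace Groth.Agent.S3433

section
open Topology

theorem set_eq (A : Type u) [CommRing A] [IsLocalRing A] :
    ({IsLocalRing.closedPoint A}ᶜ : Set (PrimeSpectrum A)) =
      (PrimeSpectrum.zeroLocus ((IsLocalRing.maximalIdeal A : Ideal A) : Set A))ᶜ := by
  congr 1
  ext x
  simp only [Set.mem_singleton_iff, PrimeSpectrum.mem_zeroLocus, SetLike.coe_subset_coe]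
  constructor
  · rintro rfl
    exact le_rfl
  · intro h
    apply PrimeSpectrum.ext
    exact ((IsLocalRing.maximalIdeal.isMaximal A).eq_of_le x.isPrime.ne_top h).symm

theorem closed_iff (A : Type u) [CommRing A] [IsLocalRing A]
    (p : ↥({IsLocalRing.closedPoint A}ᶜ : Set (PrimeSpectrum A))) :
    IsClosed ({p} : Set ↥({IsLocalRing.closedPoint A}ᶜ : Set (PrimeSpectrum A))) ↔
      ∀ q : PrimeSpectrum A, q ≠ IsLocalRing.closedPoint A → p.1.asIdeal ≤ q.asIdeal → q = p.1 := by
  rw [← closure_subset_iff_isClosed]
  constructor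
  · intro h q hq hpq
    have h1 : p ⤳ (⟨q, hq⟩ : ↥({IsLocalRing.closedPoint A}ᶜ : Set (PrimeSpectrum A))) := by
      rw [subtype_specializes_iff]
      exact (PrimeSpectrum.le_iff_specializes _ _).mp hpq
    have h2 := h (specializes_iff_mem_closure.mp h1)
    exact congrArg Subtype.val (Set.mem_singleton_iff.mp h2)
  · intro h q hq
    have h1 : p ⤳ q := specializes_iff_mem_closure.mpr hq
    rw [subtype_specializes_iff] at h1
    have h2 := (PrimeSpectrum.le_iff_specializes _ _).mpr h1
    exact Set.mem_singleton_iff.mpr (Subtype.ext (h q.1 q.2 h2))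

theorem main (A : Type u) [CommRing A] [IsNoetherianRing A] [IsLocalRing A] :
    JacobsonSpace ↥({IsLocalRing.closedPoint A}ᶜ : Set (PrimeSpectrum A)) ∧
      ∀ p : ↥({IsLocalRing.closedPoint A}ᶜ : Set (PrimeSpectrum A)),
        IsClosed ({p} : Set ↥({IsLocalRing.closedPoint A}ᶜ : Set (PrimeSpectrum A))) ↔
          ringKrullDim (A ⧸ p.1.asIdeal) = 1 := by
  constructor
  · rw [set_eq A]
    apply Groth.Agent.S9832.main A (IsLocalRing.maximalIdeal A)
    rw [IsLocalRing.jacobson_eq_maximalIdeal ⊥ bot_ne_top]
  · intro p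
    rw [closed_iff]
    let P : Ideal A := p.1.asIdeal
    let π : A →+* A ⧸ P := Ideal.Quotient.mk P
    have hπ : Function.Surjective π := Ideal.Quotient.mk_surjective
    have hker : RingHom.ker π = P := Ideal.mk_ker
    have hpm : P ≠ IsLocalRing.maximalIdeal A := by
      intro h
      apply p.2
      exact PrimeSpectrum.ext h
    have hmax_eq : ∀ q : Ideal A, q.IsMaximal → q = IsLocalRing.maximalIdeal A :=
      fun q hq => IsLocalRing.eq_maximalIdeal hq
    have hnf : ¬ (⊥ : Ideal (A ⧸ P)).IsMaximal := by
      intro hb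
      apply hpm
      have h1 : P = (⊥ : Ideal (A ⧸ P)).comap π := by
        rw [← RingHom.ker_eq_comap_bot, hker]
      have h2 : ((⊥ : Ideal (A ⧸ P)).comap π).IsMaximal :=
        Ideal.comap_isMaximal_of_surjective π hπ
      rw [← h1] at h2
      exact hmax_eq P h2
    constructor
    · intro h
      apply Groth.Agent.S3431.dim_eq_one hnf
      intro qb hqb hqb0
      have hqmax : (qb.comap π) = IsLocalRing.maximalIdeal A := by
        by_contra hne
        have hq' : (⟨qb.comap π, Ideal.comap_isPrime π qb⟩ : PrimeSpectrum A) ≠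
            IsLocalRing.closedPoint A := by
          intro h'
          exact hne (congrArg PrimeSpectrum.asIdeal h')
        have := h ⟨qb.comap π, Ideal.comap_isPrime π qb⟩ hq'
          (hker.ge.trans (Ideal.ker_le_comap π))
        apply hqb0
        have h3 : qb.comap π = P := congrArg PrimeSpectrum.asIdeal this
        rw [← Ideal.map_comap_of_surjective π hπ qb, h3]
        exact Ideal.map_quotient_self P
      have h4 : (qb.comap π).IsMaximal := hqmax ▸ IsLocalRing.maximalIdeal.isMaximal A
      rw [← Ideal.map_comap_of_surjective π hπ qb]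
      haveI := h4
      exact Ideal.IsMaximal.map_of_surjective_of_ker_le hπ (Ideal.ker_le_comap π)
    · intro hdim q hq hpq
      by_contra hne
      have h1 : Ring.KrullDimLE 1 (A ⧸ P) := by
        rw [Ring.krullDimLE_iff, hdim]
        simp
      have hkq : RingHom.ker π ≤ q.asIdeal := hker.le.trans hpq
      haveI : (q.asIdeal.map π).IsPrime := Ideal.map_isPrime_of_surjective hπ hkq
      have hcm : (q.asIdeal.map π).comap π = q.asIdeal := by
        rw [Ideal.comap_map_of_surjective π hπ, sup_eq_left, ← RingHom.ker_eq_comap_bot]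
        exact hkq
      have hq0 : q.asIdeal.map π ≠ ⊥ := by
        intro h0
        rw [h0, ← RingHom.ker_eq_comap_bot, hker] at hcm
        exact hne (PrimeSpectrum.ext hcm.symm)
      have hmx : (q.asIdeal.map π).IsMaximal :=
        Ring.krullDimLE_one_iff_of_noZeroDivisors.mp h1 _ hq0 inferInstance
      have hmx' : ((q.asIdeal.map π).comap π).IsMaximal :=
        Ideal.comap_isMaximal_of_surjective π hπ
      rw [hcm] at hmx'
      exact hq (PrimeSpectrum.ext (hmax_eq _ hmx'))

end

/-- Let A be a Noetherian local ring with maximal ideal m and let Y be the punctured spectrum Spec A ∖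
{m}. Then Y is a Jacobson space, and a point p of Y is closed in Y if and only if dim A/p = 1. -/
theorem result (A : Type u) [CommRing A] [IsNoetherianRing A] [IsLocalRing A] :
    JacobsonSpace ↥({IsLocalRing.closedPoint A}ᶜ : Set (PrimeSpectrum A)) ∧
      ∀ p : ↥({IsLocalRing.closedPoint A}ᶜ : Set (PrimeSpectrum A)),
        IsClosed ({p} : Set ↥({IsLocalRing.closedPoint A}ᶜ : Set (PrimeSpectrum A))) ↔
          ringKrullDim (A ⧸ p.1.asIdeal) = 1 := by
  exact Groth.Agent.S3433.main A

end Groth.Agent.S3433
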