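import Groth.Statements.S3435
-- import your own Groth.Agent.* helpers here

set_option autoImplicit false
universe u
open EGA41

namespace Groth.Agent.S3435

open TensorProduct in
/-- Let Λ → A → B → C be ring homomorphisms. The homomorphism Ω_{B/Λ} ⊗_B C → Ω_{B/A} ⊗_B C maps the
imperfection module Υ_{C/B/Λ} (the kernel of Ω_{B/Λ} ⊗_B C → Ω_{C/Λ}) onto the imperfection module
Υ_{C/B/A} (the kernel of Ω_{B/A} ⊗_B C → Ω_{C/A}): every element of Υ_{C/B/A} is the image of some
element of Υ_{C/B/Λ}. -/
theorem result (Λ A B C : Type u) [CommRing Λ] [CommRing A] [CommRing B] [CommRing C]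
    [Algebra Λ A] [Algebra Λ B] [Algebra Λ C] [Algebra A B] [Algebra A C] [Algebra B C]
    [IsScalarTower Λ A B] [IsScalarTower Λ A C] [IsScalarTower Λ B C] [IsScalarTower A B C] :
    ∀ ω ∈ EGA41.imperfection A B C, ∃ η ∈ EGA41.imperfection Λ B C,
      (KaehlerDifferential.map Λ A B B).baseChange C η = ω := by
  intro ω hω
  set mbcΛ := KaehlerDifferential.mapBaseChange Λ B C with hmbcΛ
  set mbcA := KaehlerDifferential.mapBaseChange A B C with hmbcA
  set β := (KaehlerDifferential.map Λ A B B).baseChange C with hβ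
  set γ := KaehlerDifferential.map Λ A C C with hγ
  have hcomm : ∀ x, mbcA (β x) = γ (mbcΛ x) := by
    intro x
    induction x using TensorProduct.induction_on with
    | zero => simp
    | tmul c w =>
      simp only [hβ, LinearMap.baseChange_tmul, hmbcA, hmbcΛ, KaehlerDifferential.mapBaseChange_tmul,
        map_smul, hγ]
      congr 1
      have hw : w ∈ Submodule.span B (Set.range (KaehlerDifferential.D Λ B)) := by
        rw [KaehlerDifferential.span_range_derivation]; exact Submodule.mem_top
      induction hw using Submodule.span_induction with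
      | mem y hy => obtain ⟨b, rfl⟩ := hy; simp
      | zero => simp
      | add y z _ _ hy hz => simp only [map_add, hy, hz]
      | smul r y _ hy =>
        rw [map_smul, map_smul, hy, map_smul, ← algebraMap_smul C r (KaehlerDifferential.map Λ Λ B C y),
          map_smul, algebraMap_smul]
    | add x y hx hy => simp only [map_add, hx, hy]
  have hβsurj : Function.Surjective β := by
    rw [hβ]
    exact LinearMap.lTensor_surjective C (KaehlerDifferential.map_surjective Λ A B)
  -- elements coming from differentials of A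
  have hkey : ∀ (w : Ω[A⁄Λ]) (c : C), ∃ δ : TensorProduct B C (Ω[B⁄Λ]),
      mbcΛ δ = KaehlerDifferential.mapBaseChange Λ A C (c ⊗ₜ[A] w) ∧ β δ = 0 := by
    intro w
    have hw : w ∈ Submodule.span A (Set.range (KaehlerDifferential.D Λ A)) := by
      rw [KaehlerDifferential.span_range_derivation]; exact Submodule.mem_top
    induction hw using Submodule.span_induction with
    | mem y hy =>
      obtain ⟨a, rfl⟩ := hy
      intro c
      refine ⟨c ⊗ₜ[B] KaehlerDifferential.D Λ B (algebraMap A B a), ?_, ?_⟩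
      · simp only [hmbcΛ, KaehlerDifferential.mapBaseChange_tmul, KaehlerDifferential.map_D]
        rw [← IsScalarTower.algebraMap_apply]
      · simp only [hβ, LinearMap.baseChange_tmul, KaehlerDifferential.map_D, Algebra.algebraMap_self,
          RingHom.id_apply]
        rw [Derivation.map_algebraMap, TensorProduct.tmul_zero]
    | zero =>
      intro c
      exact ⟨0, by simp, by simp⟩
    | add y z _ _ hy hz =>
      intro c
      obtain ⟨δ₁, h1, h1'⟩ := hy c
      obtain ⟨δ₂, h2, h2'⟩ := hz c
      exact ⟨δ₁ + δ₂, by rw [map_add, h1, h2, TensorProduct.tmul_add, map_add], by rw [map_add, h1', h2', add_zero]⟩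
    | smul r y _ hy =>
      intro c
      obtain ⟨δ, h1, h1'⟩ := hy (r • c)
      refine ⟨δ, ?_, h1'⟩
      rw [h1, TensorProduct.smul_tmul]
  have hkey2 : ∀ ζ : TensorProduct A C (Ω[A⁄Λ]), ∃ δ : TensorProduct B C (Ω[B⁄Λ]),
      mbcΛ δ = KaehlerDifferential.mapBaseChange Λ A C ζ ∧ β δ = 0 := by
    intro ζ
    induction ζ using TensorProduct.induction_on with
    | zero => exact ⟨0, by simp, by simp⟩
    | tmul c w => exact hkey w c
    | add x y hx hy =>
      obtain ⟨δ₁, h1, h1'⟩ := hx
      obtain ⟨δ₂, h2, h2'⟩ := hy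
      exact ⟨δ₁ + δ₂, by rw [map_add, h1, h2, map_add], by rw [map_add, h1', h2', add_zero]⟩
  obtain ⟨η₀, rfl⟩ := hβsurj ω
  have h0 : γ (mbcΛ η₀) = 0 := by
    rw [← hcomm]
    exact hω
  obtain ⟨ζ, hζ⟩ := (KaehlerDifferential.exact_mapBaseChange_map Λ A C (mbcΛ η₀)).1 h0
  obtain ⟨δ, hδ, hδ'⟩ := hkey2 ζ
  refine ⟨η₀ - δ, ?_, ?_⟩
  · change mbcΛ (η₀ - δ) = 0
    rw [map_sub, hδ, hζ, sub_self]
  · rw [map_sub, hδ', sub_zero]


end Groth.Agent.S3435
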