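import Groth.Statements.S3436
import Mathlib
import Groth.Agent.Lib.Helper14.AdicFSJacobi
import Groth.Agent.Lib.Helper14.PowerSeriesSmooth
-- import your own Groth.Agent.* helpers here

set_option autoImplicit false
open CategoryTheory AlgebraicGeometry
universe u
open EGA42

namespace Groth.Agent.S3436

/-- Let X and Y be locally Noetherian schemes, f : X ⟶ Y locally of finite type, x a point of X and y =
f x; give O_{X,x} the O_{Y,y}-algebra structure coming from f. Then O_{X,x} is formally smooth over
O_{Y,y} for the adic topologies of the two local rings (topologies defined by the maximal ideals) if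
and only if it is formally smooth for the discrete topologies. -/
theorem result {X Y : Scheme.{u}} [IsLocallyNoetherian X] [IsLocallyNoetherian Y]
    (f : X ⟶ Y) [LocallyOfFiniteType f] (x : X) :
    letI : Algebra (Y.presheaf.stalk (f.base x)) (X.presheaf.stalk x) := (f.stalkMap x).hom.toAlgebra
    EGA41.IsFormallySmoothAdic (Y.presheaf.stalk (f.base x)) (IsLocalRing.maximalIdeal (Y.presheaf.stalk (f.base x)))
        (X.presheaf.stalk x) (IsLocalRing.maximalIdeal (X.presheaf.stalk x)) ↔
      Algebra.FormallySmooth (Y.presheaf.stalk (f.base x)) (X.presheaf.stalk x) := by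
  letI : Algebra (Y.presheaf.stalk (f.base x)) (X.presheaf.stalk x) := (f.stalkMap x).hom.toAlgebra
  constructor
  · intro h
    haveI : Algebra.EssFiniteType (Y.presheaf.stalk (f.base x)) (X.presheaf.stalk x) :=
      AlgebraicGeometry.LocallyOfFiniteType.stalkMap f x
    have hloc : IsLocalHom (algebraMap (Y.presheaf.stalk (f.base x)) (X.presheaf.stalk x)) :=
      (inferInstance : IsLocalHom (f.stalkMap x).hom)
    have hab : (IsLocalRing.maximalIdeal (Y.presheaf.stalk (f.base x))).map
        (algebraMap (Y.presheaf.stalk (f.base x)) (X.presheaf.stalk x)) ≤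
        IsLocalRing.maximalIdeal (X.presheaf.stalk x) :=
      ((IsLocalRing.local_hom_TFAE
        (algebraMap (Y.presheaf.stalk (f.base x)) (X.presheaf.stalk x))).out 0 2).mp hloc
    exact Groth.Agent.Helper14.AdicFSJacobi.formallySmooth_of_adicFS_of_essFiniteType
      (Groth.Agent.Helper14.AdicFSJacobi.isAdicFormallySmooth_of_isFormallySmoothAdic _ _ hab h)
  · intro h
    exact Groth.Agent.Helper14.PowerSeriesSmooth.isFormallySmoothAdic_of_formallySmooth _ _ _ _

end Groth.Agent.S3436
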