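import Groth.Statements.S3438
import Mathlib
import Groth.Agent.Lib.Helper14.EquidimAt
import Groth.Agent.Lib.Helper14.PointwiseDim
-- import your own Groth.Agent.* helpers here

set_option autoImplicit false
open CategoryTheory AlgebraicGeometry
universe u
open EGA43

namespace Groth.Agent.S3438

/-- Let Y be locally Noetherian, f : X ⟶ Y locally of finite type, x a point of X with y = f x, and
suppose O_{Y,y} is equidimensional and universally catenary. If f is equidimensional at x, then dim
O_{X,x} = dim O_{Y,y} + dim O_{X_y,x}. (That O_{X,x} is then also equidimensional is a separate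
result, not asserted here.) -/
theorem result {X Y : Scheme.{u}} [IsLocallyNoetherian Y] (f : X ⟶ Y)
    [LocallyOfFiniteType f] (x : X) (hY : EGA4.IsEquidim (Y.presheaf.stalk (f.base x)))
    (hcat : CAlg.IsUniversallyCatenary (Y.presheaf.stalk (f.base x))) (h : EGA43.IsEquidimAt f x) :
    ringKrullDim (X.presheaf.stalk x) =
        ringKrullDim (Y.presheaf.stalk (f.base x)) + ringKrullDim ((f.fiber (f.base x)).presheaf.stalk (f.asFiber x)) := by
  open Groth.Agent.Helper14 in
  obtain ⟨e, U, hxU, hp1, hp2, hp3⟩ := EquidimAt.spec f h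
  haveI : IsLocallyNoetherian X := LocallyOfFiniteType.isLocallyNoetherian f
  haveI := SectionComp.isLocallyNoetherian_fiber f (f.base x)
  obtain ⟨ξ, hξmax, hξx, hdim⟩ := LocQuotLemmas.exists_maximal_locQuot_eq x
  have hξU : ξ ∈ U := hξx.mem_open U.isOpen hxU
  have hE := hp2 ξ hξU (fun z' _ hz' => hξmax z' hz')
  obtain ⟨n, hn⟩ := ResFieldBridge.exists_nat_trdeg_residueField f x
  have hPF := (PointwiseDim.formula_aux f x ξ hξx n e hn hE).2 hcat
  obtain ⟨hfξmax, hfξx⟩ := hp1 ξ hξU hξmax
  have hmin := MinPrimePts.ker_specMap_mem_minimalPrimes (f.base x) (f.base ξ)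
    (hξx.map f.continuous) hfξmax
  have hY' : ringKrullDim (Cyc.LocQuot (f.base x) (f.base ξ) (hξx.map f.continuous)) =
    ringKrullDim (Y.presheaf.stalk (f.base x)) := hY _ hmin
  rw [hdim, hY'] at hPF
  have hfd := hp3 x hxU
  rw [FibreGeneric.fibreDimAt_eq_stalk_add_trdeg f x n hn] at hfd
  obtain ⟨a, ha⟩ := FibreDimIneq.exists_nat_dim_stalk x
  obtain ⟨b, hb⟩ := FibreDimIneq.exists_nat_dim_stalk (f.base x)
  obtain ⟨c, hc⟩ := FibreDimIneq.exists_nat_dim_stalk (f.asFiber x)
  rw [ha, hb] at hPF
  rw [hc] at hfd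
  rw [ha, hb, hc]
  have e1 : a + n = b + e := by exact_mod_cast hPF
  have e2 : c + n = e := by exact_mod_cast hfd
  have : a = b + c := by omega
  exact_mod_cast this

end Groth.Agent.S3438
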