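import Groth.Statements.S3439
import Groth.Agent.Lib.Helper5.ProConsScheme

set_option autoImplicit false
open CategoryTheory AlgebraicGeometry
universe u
open EGA41

namespace Groth.Agent.S3439

/-- Let X be a quasi-compact scheme, E an ind-constructible subset of X and (F_i) a family of
pro-constructible subsets of X whose intersection is contained in E. Then there is a finite set J of
indices such that the intersection of the F_i for i in J is already contained in E. (Taking E = ∅: a
family of pro-constructible subsets with empty intersection has a finite subfamily with empty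
intersection.) -/
theorem result (X : Scheme.{u}) [CompactSpace X] (E : Set X)
    (hE : ProCons.IsIndConstructible E) {ι : Type u} (F : ι → Set X) (hF : ∀ i, ProCons.IsProConstructible (F i))
    (h : ⋂ i, F i ⊆ E) :
    ∃ J : Finset ι, ⋂ i ∈ J, F i ⊆ E := by
  classical
  open Groth.Agent.Helper5.PC Set.Notation in
  -- choose an affine open neighbourhood of every point
  choose V hVaff hxV using fun x : X => exists_isAffineOpen_mem x
  -- finitely many cover X
  obtain ⟨t, ht⟩ := isCompact_univ.elim_finite_subcover (fun x : X => ((V x : X.Opens) : Set X))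
    (fun x => (V x).isOpen) (fun x _ => Set.mem_iUnion.mpr ⟨x, hxV x⟩)
  -- on each affine open, use compactness of the constructible topology
  have key : ∀ x : X, ∃ J : Finset ι,
      ⋂ i ∈ J, (((V x : X.Opens) : Set X) ↓∩ F i) ⊆ (((V x : X.Opens) : Set X) ↓∩ E) := by
    intro x
    have := compactSpace_of_isAffineOpen (hVaff x)
    have := quasiSeparatedSpace_of_isAffineOpen (hVaff x)
    have := prespectralSpace_of_opens (V x)
    have := quasiSober_of_opens (V x)
    apply exists_finset_iInter_subset (isOpen_cT_affine_of_isIndConstructible (hVaff x) hE)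
      (fun i => ((V x : X.Opens) : Set X) ↓∩ F i)
      (fun i => isClosed_cT_affine_of_isProConstructible (hVaff x) (hF i))
    intro y hy
    apply h
    rw [Set.mem_iInter] at hy ⊢
    exact hy
  choose J hJ using key
  refine ⟨t.biUnion J, ?_⟩
  intro z hz
  have hz' := ht (Set.mem_univ z)
  rw [Set.mem_iUnion₂] at hz'
  obtain ⟨x, hxt, hzx⟩ := hz'
  have : (⟨z, hzx⟩ : ↥((V x : X.Opens) : Set X)) ∈
      ⋂ i ∈ J x, (((V x : X.Opens) : Set X) ↓∩ F i) := by
    rw [Set.mem_iInter₂]
    intro i hi
    rw [Set.mem_iInter₂] at hz
    exact hz i (Finset.mem_biUnion.mpr ⟨x, hxt, hi⟩)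
  exact hJ x this

end Groth.Agent.S3439
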