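import Groth.Statements.S3441
import Mathlib.RingTheory.Derivation.ToSquareZero
import Mathlib.Algebra.TrivSqZeroExt.Basic

set_option autoImplicit false
universe u
open EGA41

namespace Groth.Agent.S3441

open TensorProduct

theorem forward (A B C : Type u) [CommRing A] [CommRing B]
    [CommRing C] [Algebra A B] [Algebra B C] [Algebra A C] [IsScalarTower A B C]
    (l : Ω[C⁄A] →ₗ[C] C ⊗[B] Ω[B⁄A]) (hl : l ∘ₗ KaehlerDifferential.mapBaseChange A B C = LinearMap.id) :
    EGA41.IsFormallySmoothRel A B C := by
  intro C' _ _ _ _ J hJ u₀ ⟨u, hu⟩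
  let _ : Algebra C C' := u.toRingHom.toAlgebra
  have hCC' : ∀ c : C, algebraMap C C' c = u c := fun c => rfl
  have : IsScalarTower A C C' := IsScalarTower.of_algebraMap_eq (fun a => by
    rw [hCC', u.commutes])
  -- the derivation δ : B → J
  have e : (Ideal.Quotient.mkₐ A J).comp (u.comp (IsScalarTower.toAlgHom A B C)) =
      IsScalarTower.toAlgHom A B (C' ⧸ J) := by
    ext b
    have h1 := congrArg (fun f => f (algebraMap B C b)) hu
    simp only [AlgHom.comp_apply, AlgHom.restrictScalars_apply] at h1
    simp only [AlgHom.comp_apply, IsScalarTower.coe_toAlgHom']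
    rw [h1, u₀.commutes]
  let δ : Derivation A B J := derivationToSquareZeroOfLift J hJ _ e
  have hδ : ∀ b : B, ((δ b : J) : C') = u (algebraMap B C b) - algebraMap B C' b := fun b => rfl
  have hJJ : ∀ x y : C', x ∈ J → y ∈ J → x * y = 0 := by
    intro x y hx hy
    rw [← Ideal.mem_bot, ← hJ, pow_two]
    exact Ideal.mul_mem_mul hx hy
  have : IsScalarTower B C J := by
    constructor
    intro b c j
    ext
    simp only [Submodule.coe_smul_of_tower, Algebra.smul_def, hCC', map_mul]
    have h1 : u (algebraMap B C b) = algebraMap B C' b + (δ b : C') := by rw [hδ]; ring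
    rw [h1, add_mul, add_mul, mul_assoc ((δ b : J) : C'), hJJ _ _ (δ b).2 (J.mul_mem_left _ j.2),
      add_zero, mul_assoc]
  let δ' : Ω[B⁄A] →ₗ[B] J := δ.liftKaehlerDifferential
  let D' : Ω[C⁄A] →ₗ[C] J := (LinearMap.liftBaseChange C δ') ∘ₗ l
  let D : Derivation A C J := D'.compDer (KaehlerDifferential.D A C)
  have hD : ∀ b : B, D (algebraMap B C b) = δ b := by
    intro b
    have h1 : KaehlerDifferential.D A C (algebraMap B C b) =
        KaehlerDifferential.mapBaseChange A B C (1 ⊗ₜ KaehlerDifferential.D A B b) := by
      rw [KaehlerDifferential.mapBaseChange_tmul, one_smul, KaehlerDifferential.map_D]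
    have h2 := congrArg (fun f => f (1 ⊗ₜ KaehlerDifferential.D A B b)) hl
    simp only [LinearMap.comp_apply, LinearMap.id_apply] at h2
    change (LinearMap.liftBaseChange C δ') (l (KaehlerDifferential.D A C (algebraMap B C b))) = δ b
    rw [h1, h2, LinearMap.liftBaseChange_tmul, one_smul]
    exact Derivation.liftKaehlerDifferential_comp_D δ b
  let v₀ : C →ₐ[A] C' := liftOfDerivationToSquareZero J hJ (-D)
  have hv₀ : ∀ c : C, v₀ c = u c - (D c : C') := by
    intro c
    change ((-D) c : C') + algebraMap C C' c = _
    rw [hCC']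
    simp only [Derivation.neg_apply, NegMemClass.coe_neg]
    ring
  let v : C →ₐ[B] C' :=
    { v₀.toRingHom with
      commutes' := fun b => by
        change v₀ (algebraMap B C b) = algebraMap B C' b
        rw [hv₀, hD, hδ]
        ring }
  refine ⟨v, ?_⟩
  ext c
  have h1 := congrArg (fun f => f c) hu
  simp only [AlgHom.comp_apply, AlgHom.restrictScalars_apply] at h1
  change Ideal.Quotient.mk J (v₀ c) = u₀ c
  rw [hv₀, map_sub, Ideal.Quotient.eq_zero_iff_mem.mpr (D c).2, sub_zero]
  exact h1


section Backward

variable (A B C : Type u) [CommRing A] [CommRing B]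
    [CommRing C] [Algebra A B] [Algebra B C] [Algebra A C] [IsScalarTower A B C]

/-- the module of the square-zero extension -/
def MM : Type u := C ⊗[B] Ω[B⁄A]

noncomputable instance instAddCommGroupMM : AddCommGroup (MM A B C) :=
  inferInstanceAs (AddCommGroup (C ⊗[B] Ω[B⁄A]))
noncomputable instance instModuleMM : Module C (MM A B C) :=
  inferInstanceAs (Module C (C ⊗[B] Ω[B⁄A]))
noncomputable instance instModuleOpMM : Module Cᵐᵒᵖ (MM A B C) :=
  Module.compHom _ ((RingHom.id C).fromOpposite mul_comm)
instance instCentralMM : IsCentralScalar C (MM A B C) := ⟨fun _ _ => rfl⟩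

/-- the square-zero extension -/
def TT : Type u := TrivSqZeroExt C (MM A B C)

noncomputable instance instCommRingTT : CommRing (TT A B C) :=
  inferInstanceAs (CommRing (TrivSqZeroExt C (MM A B C)))

/-- the element `1 ⊗ d b` -/
noncomputable def dd (b : B) : MM A B C := ((1 : C) ⊗ₜ[B] KaehlerDifferential.D A B b : C ⊗[B] Ω[B⁄A])

theorem dd_add (b b' : B) : dd A B C (b + b') = dd A B C b + dd A B C b' := by
  unfold dd
  rw [map_add, TensorProduct.tmul_add]
  rfl

theorem dd_mul (b b' : B) : dd A B C (b * b') =
    algebraMap B C b • dd A B C b' + algebraMap B C b' • dd A B C b := by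
  unfold dd
  rw [Derivation.leibniz, TensorProduct.tmul_add, TensorProduct.tmul_smul, TensorProduct.tmul_smul]
  congr 1
  · change _ = (algebraMap B C b • ((1 : C) ⊗ₜ[B] KaehlerDifferential.D A B b' : C ⊗[B] Ω[B⁄A]))
    rw [TensorProduct.smul_tmul', TensorProduct.smul_tmul', Algebra.smul_def, smul_eq_mul]
  · change _ = (algebraMap B C b' • ((1 : C) ⊗ₜ[B] KaehlerDifferential.D A B b : C ⊗[B] Ω[B⁄A]))
    rw [TensorProduct.smul_tmul', TensorProduct.smul_tmul', Algebra.smul_def, smul_eq_mul]

/-- the twisted structure map -/
noncomputable def phi : B →+* TT A B C where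
  toFun b := (TrivSqZeroExt.inl (algebraMap B C b) + TrivSqZeroExt.inr (dd A B C b) :
    TrivSqZeroExt C (MM A B C))
  map_one' := by
    have : dd A B C 1 = 0 := by
      unfold dd
      rw [Derivation.map_one_eq_zero, TensorProduct.tmul_zero]
      rfl
    rw [this, map_one, TrivSqZeroExt.inr_zero, add_zero]
    rfl
  map_mul' b b' := by
    apply TrivSqZeroExt.ext
    · change TrivSqZeroExt.fst _ = TrivSqZeroExt.fst (_ * _ : TrivSqZeroExt C (MM A B C))
      simp [TrivSqZeroExt.fst_mul]
    · change TrivSqZeroExt.snd _ = TrivSqZeroExt.snd (_ * _ : TrivSqZeroExt C (MM A B C))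
      simp only [TrivSqZeroExt.snd_mul, TrivSqZeroExt.snd_add, TrivSqZeroExt.snd_inl,
        TrivSqZeroExt.snd_inr, zero_add, TrivSqZeroExt.fst_add, TrivSqZeroExt.fst_inl,
        TrivSqZeroExt.fst_inr, add_zero, op_smul_eq_smul]
      exact dd_mul A B C b b'
  map_zero' := by
    have : dd A B C 0 = 0 := by
      unfold dd
      rw [map_zero, TensorProduct.tmul_zero]
      rfl
    rw [this, map_zero, TrivSqZeroExt.inr_zero, add_zero, TrivSqZeroExt.inl_zero]
    rfl
  map_add' b b' := by
    rw [dd_add, map_add, TrivSqZeroExt.inl_add, TrivSqZeroExt.inr_add]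
    change (_ : TrivSqZeroExt C (MM A B C)) = _ + _
    abel

noncomputable instance instAlgebraBTT : Algebra B (TT A B C) := (phi A B C).toAlgebra
noncomputable instance instAlgebraATT : Algebra A (TT A B C) := ((phi A B C).comp (algebraMap A B)).toAlgebra
instance instTowerTT : IsScalarTower A B (TT A B C) := IsScalarTower.of_algebraMap_eq (fun _ => rfl)

/-- first projection as a ring hom -/
noncomputable def fstR : TT A B C →+* C :=
  (TrivSqZeroExt.fstHom C C (MM A B C)).toRingHom

/-- second projection -/
def sndT (t : TT A B C) : MM A B C := TrivSqZeroExt.snd (t : TrivSqZeroExt C (MM A B C))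

/-- inclusion as a ring hom -/
noncomputable def inlR : C →+* TT A B C := TrivSqZeroExt.inlHom C (MM A B C)

theorem fstR_inlR (c : C) : fstR A B C (inlR A B C c) = c := rfl

theorem fstR_phi (b : B) : fstR A B C (phi A B C b) = algebraMap B C b := by
  change TrivSqZeroExt.fst (TrivSqZeroExt.inl (algebraMap B C b) + TrivSqZeroExt.inr (dd A B C b) :
    TrivSqZeroExt C (MM A B C)) = _
  simp

theorem sndT_phi (b : B) : sndT A B C (phi A B C b) = dd A B C b := by
  change TrivSqZeroExt.snd (TrivSqZeroExt.inl (algebraMap B C b) + TrivSqZeroExt.inr (dd A B C b) :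
    TrivSqZeroExt C (MM A B C)) = _
  simp

theorem sndT_mul (t t' : TT A B C) :
    sndT A B C (t * t') = fstR A B C t • sndT A B C t' + fstR A B C t' • sndT A B C t := by
  have h := TrivSqZeroExt.snd_mul (t : TrivSqZeroExt C (MM A B C)) t'
  rw [op_smul_eq_smul] at h
  exact h

theorem sndT_add (t t' : TT A B C) : sndT A B C (t + t') = sndT A B C t + sndT A B C t' := rfl

theorem ker_sq : (RingHom.ker (fstR A B C)) ^ 2 = ⊥ := by
  rw [eq_bot_iff, pow_two, Ideal.mul_le]
  intro x hx y hy
  rw [RingHom.mem_ker] at hx hy
  rw [Ideal.mem_bot]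
  apply TrivSqZeroExt.ext
  · change fstR A B C (x * y) = 0
    rw [map_mul, hx, zero_mul]
  · change sndT A B C (x * y) = 0
    rw [sndT_mul, hx, hy, zero_smul, zero_smul, add_zero]

theorem phi_algebraMap (a : A) : phi A B C (algebraMap A B a) = inlR A B C (algebraMap A C a) := by
  apply TrivSqZeroExt.ext
  · change fstR A B C (phi A B C (algebraMap A B a)) = fstR A B C (inlR A B C (algebraMap A C a))
    rw [fstR_phi, fstR_inlR, ← IsScalarTower.algebraMap_apply]
  · change sndT A B C (phi A B C (algebraMap A B a)) = sndT A B C (inlR A B C (algebraMap A C a))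
    rw [sndT_phi]
    unfold dd
    rw [Derivation.map_algebraMap, TensorProduct.tmul_zero]
    rfl

theorem backward (h : EGA41.IsFormallySmoothRel A B C) :
    ∃ l : Ω[C⁄A] →ₗ[C] C ⊗[B] Ω[B⁄A],
      l ∘ₗ KaehlerDifferential.mapBaseChange A B C = LinearMap.id := by
  set J := RingHom.ker (fstR A B C) with hJ
  let u : C →ₐ[A] TT A B C :=
    { inlR A B C with commutes' := fun a => (phi_algebraMap A B C a).symm }
  have hmem : ∀ b : B, inlR A B C (algebraMap B C b) - phi A B C b ∈ J := by
    intro b
    rw [hJ, RingHom.mem_ker, map_sub, fstR_inlR, fstR_phi, sub_self]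
  let u₀ : C →ₐ[B] (TT A B C ⧸ J) :=
    { (Ideal.Quotient.mk J).comp (inlR A B C) with
      commutes' := fun b => by
        change Ideal.Quotient.mk J (inlR A B C (algebraMap B C b)) =
          Ideal.Quotient.mk J (phi A B C b)
        rw [Ideal.Quotient.eq]
        exact hmem b }
  have hu : (Ideal.Quotient.mkₐ A J).comp u = u₀.restrictScalars A := by
    ext c
    rfl
  obtain ⟨v, hv⟩ := h (TT A B C) J (ker_sq A B C) u₀ ⟨u, hu⟩
  have hfst : ∀ c : C, fstR A B C (v c) = c := by
    intro c
    have h1 := congrArg (fun f => f c) hv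
    change Ideal.Quotient.mk J (v c) = Ideal.Quotient.mk J (inlR A B C c) at h1
    rw [Ideal.Quotient.eq, hJ, RingHom.mem_ker, map_sub, fstR_inlR, sub_eq_zero] at h1
    exact h1
  have hvb : ∀ b : B, v (algebraMap B C b) = phi A B C b := fun b => v.commutes b
  let D : Derivation A C (C ⊗[B] Ω[B⁄A]) :=
    { toFun := fun c => sndT A B C (v c)
      map_add' := fun c c' => by rw [map_add, sndT_add]; rfl
      map_smul' := fun a c => by
        have e : ∀ m : C ⊗[B] Ω[B⁄A], algebraMap A C a • m = a • m := fun m => algebraMap_smul C a m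
        have h1 : sndT A B C (v (a • c)) = algebraMap A C a • sndT A B C (v c) := by
          rw [Algebra.smul_def, map_mul, sndT_mul, hfst, hfst,
            IsScalarTower.algebraMap_apply A B C, hvb, phi_algebraMap]
          have : sndT A B C (inlR A B C (algebraMap A C a)) = 0 := rfl
          rw [this, smul_zero, add_zero, ← IsScalarTower.algebraMap_apply]
        exact h1.trans (e (sndT A B C (v c)))
      map_one_eq_zero' := by
        change sndT A B C (v 1) = 0
        rw [map_one]
        rfl
      leibniz' := fun c c' => by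
        change sndT A B C (v (c * c')) = c • sndT A B C (v c') + c' • sndT A B C (v c)
        rw [map_mul, sndT_mul, hfst, hfst] }
  have hD : ∀ b : B, D (algebraMap B C b) = (1 : C) ⊗ₜ[B] KaehlerDifferential.D A B b := by
    intro b
    change sndT A B C (v (algebraMap B C b)) = _
    rw [hvb, sndT_phi]
    rfl
  refine ⟨D.liftKaehlerDifferential, ?_⟩
  have key : ∀ ω : Ω[B⁄A], D.liftKaehlerDifferential (KaehlerDifferential.map A A B C ω) =
      (1 : C) ⊗ₜ[B] ω := by
    intro ω
    have hω : ω ∈ Submodule.span B (Set.range (KaehlerDifferential.D A B)) := by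
      rw [KaehlerDifferential.span_range_derivation]; exact Submodule.mem_top
    induction hω using Submodule.span_induction with
    | mem y hy =>
      obtain ⟨b, rfl⟩ := hy
      rw [KaehlerDifferential.map_D, Derivation.liftKaehlerDifferential_comp_D, hD]
    | zero => simp
    | add y z _ _ hy hz => rw [map_add, map_add, hy, hz, TensorProduct.tmul_add]
    | smul r y _ hy =>
      rw [map_smul, ← algebraMap_smul C r (KaehlerDifferential.map A A B C y), map_smul, hy,
        TensorProduct.tmul_smul, algebraMap_smul]
  refine LinearMap.ext fun x => ?_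
  induction x using TensorProduct.induction_on with
  | zero => simp
  | tmul c ω =>
    rw [LinearMap.comp_apply, KaehlerDifferential.mapBaseChange_tmul, map_smul, key, LinearMap.id_apply,
      TensorProduct.smul_tmul', smul_eq_mul, mul_one]
  | add x y hx hy => rw [map_add, hx, hy, map_add]

end Backward

open TensorProduct in
/-- Let A → B → C be ring homomorphisms. The canonical C-linear map Ω_{B/A} ⊗_B C → Ω_{C/A} is left
invertible (has a C-linear left inverse) if and only if C is a formally smooth B-algebra relative to
A for the discrete topologies: every B-algebra homomorphism from C to a quotient C'/J of a B-algebra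
C' by an ideal J of square zero that lifts to C' as an A-algebra homomorphism also lifts to C' as a
B-algebra homomorphism. (The published definition of relative formal smoothness tests every
nilpotent ideal J; its reduction to ideals of square zero does not carry over to the relative
setting, and the square-zero form, which is what the published proof of this statement uses, is the
one taken here.) -/
theorem result (A B C : Type u) [CommRing A] [CommRing B]
    [CommRing C] [Algebra A B] [Algebra B C] [Algebra A C] [IsScalarTower A B C] :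
    (∃ l : Ω[C⁄A] →ₗ[C] C ⊗[B] Ω[B⁄A], l ∘ₗ KaehlerDifferential.mapBaseChange A B C = LinearMap.id) ↔
      EGA41.IsFormallySmoothRel A B C := by
  constructor
  · rintro ⟨l, hl⟩
    exact forward A B C l hl
  · intro h
    exact backward A B C h

end Groth.Agent.S3441
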