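import Groth.Statements.S3448
import Mathlib
import Groth.Agent.Lib.Helper14.FibreDimIneq
-- import your own Groth.Agent.* helpers here

set_option autoImplicit false
open CategoryTheory AlgebraicGeometry
universe u
open EGA43

namespace Groth.Agent.S3448

/-- Let Y be locally Noetherian, f : X ⟶ Y of finite type, x a point of X with y = f x, and suppose
O_{Y,y} is universally catenary. Then dim O_{X,x} = dim O_{Y,y} + dim O_{X_y,x} if and only if there
is a point z of the fibre over y which is a generization of x, is maximal in the fibre (the generic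
point of an irreducible component Z of X_y containing x), has local fibre dimension at z equal to
that at x (dim Z = dim_x X_y), and satisfies dim O_{X,z} = dim O_{Y,y}. -/
theorem result {X Y : Scheme.{u}} [IsLocallyNoetherian Y]
    (f : X ⟶ Y) [LocallyOfFiniteType f] [QuasiCompact f] (x : X)
    (hcat : CAlg.IsUniversallyCatenary (Y.presheaf.stalk (f.base x))) :
    ringKrullDim (X.presheaf.stalk x) =
        ringKrullDim (Y.presheaf.stalk (f.base x)) + ringKrullDim ((f.fiber (f.base x)).presheaf.stalk (f.asFiber x)) ↔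
      ∃ z : X, f.base z = f.base x ∧ z ⤳ x ∧ (∀ z' : X, f.base z' = f.base x → z' ⤳ z → z' = z) ∧
        FlatMor.fibreDimAt f z = FlatMor.fibreDimAt f x ∧
        ringKrullDim (X.presheaf.stalk z) = ringKrullDim (Y.presheaf.stalk (f.base z)) := by
  open Groth.Agent.Helper14 in
  haveI : IsLocallyNoetherian X := LocallyOfFiniteType.isLocallyNoetherian f
  have hfibNoeth : ∀ y : Y, IsLocallyNoetherian (f.fiber y) := by
    intro y
    haveI : LocallyOfFiniteType (f.fiberToSpecResidueField y) :=
      MorphismProperty.pullback_snd _ _ inferInstance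
    exact LocallyOfFiniteType.isLocallyNoetherian (f.fiberToSpecResidueField y)
  obtain ⟨nx, hnx⟩ := ResFieldBridge.exists_nat_trdeg_residueField f x
  have h2 := FibreGeneric.fibreDimAt_eq_stalk_add_trdeg f x nx hnx
  obtain ⟨a, ha⟩ := FibreDimIneq.exists_nat_dim_stalk x
  obtain ⟨b, hb⟩ := FibreDimIneq.exists_nat_dim_stalk (f.base x)
  haveI := hfibNoeth (f.base x)
  obtain ⟨c, hc⟩ := FibreDimIneq.exists_nat_dim_stalk (f.asFiber x)
  constructor
  · intro hyp
    obtain ⟨ξ, -, hξx, hdim⟩ := LocQuotLemmas.exists_maximal_locQuot_eq x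
    obtain ⟨nξ, hnξ⟩ := ResFieldBridge.exists_nat_trdeg_residueField f ξ
    have hPF := (PointwiseDim.formula_aux f x ξ hξx nx nξ hnx hnξ).2 hcat
    obtain ⟨x₁, hξx₁, hx₁x, hfx₁, n₁, hn₁, hle⟩ := RestrictedChevalley.rc f x ξ hξx nξ hnξ
    have h1 := FibreGeneric.fibreDimAt_eq_stalk_add_trdeg f x₁ n₁ hn₁
    have h3 := SectionComp.fibreDimAt_le_of_specializes f x₁ x hx₁x
    haveI := hfibNoeth (f.base x₁)
    obtain ⟨c₁, hc₁⟩ := FibreDimIneq.exists_nat_dim_stalk (f.asFiber x₁)
    obtain ⟨d, hd, hdb⟩ := FibreDimIneq.exists_nat_dim_locQuot (f.base x) (f.base ξ)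
      (hξx.map f.continuous)
    rw [hdim, ha, hd] at hPF
    rw [hb] at hdb
    rw [ha, hb, hc] at hyp
    have e0 : a = b + c := by exact_mod_cast hyp
    have e1 : a + nx = d + nξ := by exact_mod_cast hPF
    have e3 : d ≤ b := by exact_mod_cast hdb
    have e2 : c₁ + n₁ ≤ c + nx := by
      have := h3
      rw [h1, h2, hc, hc₁] at this
      exact_mod_cast this
    have hc₁0 : c₁ = 0 := by omega
    have hdb' : d = b := by omega
    have hn₁eq : n₁ = c + nx := by omega
    have hnξeq : nξ = n₁ := by omega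
    refine ⟨x₁, hfx₁, hx₁x, ?_, ?_, ?_⟩
    · intro z' hfz' hz'x₁
      have hz'mem : z' ∈ f.base ⁻¹' {f.base x₁} := by rw [Set.mem_preimage, hfz', hfx₁]; rfl
      have hspec : (f.fiberHomeo (f.base x₁)).symm ⟨z', hz'mem⟩ ⤳ f.asFiber x₁ := by
        apply Specializes.map _ (f.fiberHomeo (f.base x₁)).symm.continuous
        rw [subtype_specializes_iff]
        exact hz'x₁
      have hzero : ringKrullDim ((f.fiber (f.base x₁)).presheaf.stalk (f.asFiber x₁)) = 0 := by
        rw [hc₁, hc₁0]; rfl
      have := FibreDimIneq.maximal_of_stalk_eq_zero _ hzero _ hspec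
      have h4 := congrArg (f.fiberι (f.base x₁)) this
      rw [f.fiberι_fiberHomeo_symm, f.fiberι_asFiber] at h4
      exact h4
    · rw [h1, h2, hc, hc₁, hc₁0, hn₁eq]
      push_cast
      ring
    · apply le_antisymm
      · have := FibreDimIneq.stalk_le f x₁
        rw [hc₁, hc₁0] at this
        simpa using this
      · have hcat' : CAlg.IsUniversallyCatenary (Y.presheaf.stalk (f.base x₁)) := by
          rw [hfx₁]; exact hcat
        have hPF' := (PointwiseDim.formula_aux f x₁ ξ hξx₁ n₁ nξ hn₁ hnξ).2 hcat'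
        rw [FibreDimIneq.locQuot_congr (f.base x₁) (f.base x) (f.base ξ) hfx₁
          (hξx₁.map f.continuous) (hξx.map f.continuous), hd] at hPF'
        obtain ⟨d₁, hd₁, hd₁le⟩ := FibreDimIneq.exists_nat_dim_locQuot x₁ ξ hξx₁
        rw [hd₁] at hPF'
        have e4 : d₁ + n₁ = d + nξ := by exact_mod_cast hPF'
        have e5 : d₁ = b := by omega
        have hbx₁ : ringKrullDim (Y.presheaf.stalk (f.base x₁)) = (b : WithBot ℕ∞) := by
          rw [hfx₁]; exact hb
        rw [hbx₁, ← e5]
        exact hd₁le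
  · rintro ⟨z, hfz, hzx, hmax, hfd, hdimz⟩
    apply le_antisymm
    · exact FibreDimIneq.stalk_le f x
    · obtain ⟨ξ, -, hξz, hdimξ⟩ := LocQuotLemmas.exists_maximal_locQuot_eq z
      obtain ⟨nξ, hnξ⟩ := ResFieldBridge.exists_nat_trdeg_residueField f ξ
      obtain ⟨nz, hnz⟩ := ResFieldBridge.exists_nat_trdeg_residueField f z
      have hcat' : CAlg.IsUniversallyCatenary (Y.presheaf.stalk (f.base z)) := by
        rw [hfz]; exact hcat
      have hξx : ξ ⤳ x := hξz.trans hzx
      have hPFz := (PointwiseDim.formula_aux f z ξ hξz nz nξ hnz hnξ).2 hcat'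
      have hPFx := (PointwiseDim.formula_aux f x ξ hξx nx nξ hnx hnξ).2 hcat
      rw [FibreDimIneq.locQuot_congr (f.base z) (f.base x) (f.base ξ) hfz
        (hξz.map f.continuous) (hξx.map f.continuous)] at hPFz
      obtain ⟨d, hd, -⟩ := FibreDimIneq.exists_nat_dim_locQuot (f.base x) (f.base ξ)
        (hξx.map f.continuous)
      obtain ⟨dx, hdx, hdxle⟩ := FibreDimIneq.exists_nat_dim_locQuot x ξ hξx
      have hbz : ringKrullDim (Y.presheaf.stalk (f.base z)) = (b : WithBot ℕ∞) := by
        rw [hfz]; exact hb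
      rw [hdimξ, hdimz, hbz, hd] at hPFz
      rw [hdx, hd] at hPFx
      -- the fibre dimension at z
      have hzmax : ∀ z'' : f.fiber (f.base z), z'' ⤳ f.asFiber z → z'' = f.asFiber z := by
        intro z'' hz''
        have h5 := hz''.map (f.fiberι (f.base z)).continuous
        rw [f.fiberι_asFiber] at h5
        have h6 : f.base (f.fiberι (f.base z) z'') = f.base x := by
          rw [← hfz]; exact (f.fiberHomeo (f.base z) z'').2
        have h7 := hmax _ h6 h5
        apply (f.fiberι (f.base z)).isEmbedding.injective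
        rw [h7, f.fiberι_asFiber]
      have h1 := FibreGeneric.fibreDimAt_eq_stalk_add_trdeg f z nz hnz
      rw [FibreComp.ringKrullDim_stalk_of_maximal _ hzmax, zero_add, hfd, h2, hc] at h1
      have e1 : c + nx = nz := by exact_mod_cast h1
      have e2 : b + nz = d + nξ := by exact_mod_cast hPFz
      have e3 : dx + nx = d + nξ := by exact_mod_cast hPFx
      rw [ha] at hdxle
      have e4 : dx ≤ a := by exact_mod_cast hdxle
      rw [ha, hb, hc]
      have : b + c ≤ a := by omega
      exact_mod_cast this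

end Groth.Agent.S3448
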