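import Groth.Statements.S3449
import Mathlib
import Groth.Agent.Lib.Helper14.EquidimDimFun
import Groth.Agent.Lib.Helper14.DimFormulaSch
-- import your own Groth.Agent.* helpers here

set_option autoImplicit false
open CategoryTheory AlgebraicGeometry
universe u
open EGA43

namespace Groth.Agent.S3449

/-- Let S be a locally Noetherian scheme which is Jacobson, whose local rings are universally catenary,
and whose irreducible components S' are equidimensional in the sense that for every closed point s
of S' the dimension of S' equals the dimension of S' at s (the Krull dimension of the set of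
generizations of s inside S'). Let X and Y be S-schemes, each locally of finite type over the base
S, and let f : X ⟶ Y be a morphism over S, with X irreducible and f dominant; let η be the generic
point of Y and e the dimension of the fibre over η. Then dim X = dim Y + e. -/
theorem result {X Y S : Scheme.{u}} [IsLocallyNoetherian S]
    [JacobsonSpace S] (h2 : ∀ s : S, CAlg.IsUniversallyCatenary (S.presheaf.stalk s))
    (h3 : ∀ S' ∈ irreducibleComponents (S : Type u), ∀ s ∈ S', IsClosed ({s} : Set S) →
      topologicalKrullDim (↥S' : Type u) = topologicalKrullDim ↥{t : S | t ∈ S' ∧ t ⤳ s})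
    (p : X ⟶ S) (q : Y ⟶ S) [LocallyOfFiniteType p] [LocallyOfFiniteType q] (f : X ⟶ Y) (hf : f ≫ q = p)
    [IrreducibleSpace X] [IrreducibleSpace Y] [IsDominant f] :
    topologicalKrullDim (X : Type u) =
      topologicalKrullDim (Y : Type u) + topologicalKrullDim ↥(f.fiber (genericPoint Y)) := by
  open Groth.Agent.Helper14 in
  subst hf
  have h2' : ∀ s : S, CAlg.IsCatenary (S.presheaf.stalk s) := fun s =>
    (h2 s).2 _ inferInstance
  have hδ := EquidimDimFun.isDimFun_deltaN h2' h3
  have hS : Cyc.IsSetup S (fun t => (EquidimDimFun.deltaN t : ℤ)) := ⟨inferInstance, h2, hδ⟩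
  have h0 : ∀ s : S, (0 : ℤ) ≤ (EquidimDimFun.deltaN s : ℤ) := fun s => Int.natCast_nonneg _
  have hcl : ∀ s : S, IsClosed ({s} : Set S) → ((EquidimDimFun.deltaN s : ℕ) : ℤ) = 0 := by
    intro s hs
    rw [EquidimDimFun.deltaN_closed h2' h3 s hs]
    rfl
  haveI : LocallyOfFiniteType f := locallyOfFiniteType_of_comp f q
  have hgen : f (genericPoint X) = genericPoint Y :=
    FibreGeneric.map_genericPoint f f.denseRange
  obtain ⟨nX, hnX⟩ := ResFieldBridge.exists_nat_trdeg_residueField (f ≫ q) (genericPoint X)
  obtain ⟨nY, hnY⟩ := ResFieldBridge.exists_nat_trdeg_residueField q (f (genericPoint X))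
  obtain ⟨E, hE⟩ := ResFieldBridge.exists_nat_trdeg_residueField f (genericPoint X)
  have hcomp := DimClosure.trdeg_comp f q (genericPoint X)
  rw [hnX, hnY, hE] at hcomp
  have hsum : nX = nY + E := by exact_mod_cast hcomp
  have hX := EquidimDimFun.dim_eq (f ≫ q) _ hS h0 hcl nX hnX
  have auxY : ∀ y : Y, f (genericPoint X) = y →
      @Algebra.trdeg (S.residueField (q y)) (Y.residueField y) _ _
        (q.residueFieldMap y).hom.toAlgebra = nY := by
    rintro y rfl
    exact hnY
  have hY := EquidimDimFun.dim_eq q _ hS h0 hcl nY (auxY _ hgen)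
  have auxF : ∀ y : Y, f (genericPoint X) = y →
      topologicalKrullDim ↥(f.fiber y) = (E : WithBot ℕ∞) := by
    rintro y rfl
    exact DimFormulaSch.dim_genericFibre_eq f E hE
  rw [hX, hY, auxF _ hgen, hsum]
  have e : (f ≫ q) (genericPoint X) = q (genericPoint Y) := by
    rw [← hgen]; rfl
  rw [e]
  push_cast
  rw [add_assoc]

end Groth.Agent.S3449
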