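import Groth.Statements.S3456
import Mathlib
import Groth.Agent.Lib.Helper14.EquidimAtMk
import Groth.Agent.Lib.Helper14.ClosedFibreDim
import Groth.Agent.Lib.Helper14.PointwiseDim
import Groth.Agent.S0402
-- import your own Groth.Agent.* helpers here

set_option autoImplicit false
open CategoryTheory AlgebraicGeometry
universe u
open EGA43

namespace Groth.Agent.S3456

/-- Let Y be locally Noetherian, f : X ⟶ Y locally of finite type and x a point of X; let X_j run over
the (finitely many) irreducible components of X containing x. Then f is equidimensional at x if and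
only if there is a natural number e such that for every X_j: the closure Y_j of f(X_j) is an
irreducible component of Y; for every point η of Y whose closure equals Y_j (i.e. the generic point
of Y_j), the fibre X_j ∩ f⁻¹(η) has topological Krull dimension e; and the local dimension at x of
X_j ∩ f⁻¹(f x) is e. All subsets of X carry the induced topology. -/
theorem result {X Y : Scheme.{u}} [IsLocallyNoetherian Y] (f : X ⟶ Y)
    [LocallyOfFiniteType f] (x : X) :
    EGA43.IsEquidimAt f x ↔
      ∃ e : ℕ, ∀ Xj ∈ irreducibleComponents (X : Type u), ∀ hx : x ∈ Xj,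
        closure (f.base '' Xj) ∈ irreducibleComponents (Y : Type u) ∧
        (∀ η : Y, closure ({η} : Set Y) = closure (f.base '' Xj) →
          topologicalKrullDim ↥(Xj ∩ f.base ⁻¹' {η}) = e) ∧
        FlatMor.localDim ↥(Xj ∩ f.base ⁻¹' {f.base x}) ⟨x, ⟨hx, Set.mem_singleton (f.base x)⟩⟩ = e := by
  open Groth.Agent.Helper14 in
  haveI : IsLocallyNoetherian X := LocallyOfFiniteType.isLocallyNoetherian f
  -- irreducible components through `x` as closures of maximal points
  have hcompx : ∀ Xj ∈ irreducibleComponents (X : Type u), x ∈ Xj →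
      ∃ ξ : X, closure {ξ} = Xj ∧ (∀ ξ' : X, ξ' ⤳ ξ → ξ' = ξ) ∧ ξ ⤳ x := by
    intro Xj hXj hx
    obtain ⟨ξ, hcl, hξmax⟩ := FibreComp.exists_maximal_of_mem_irreducibleComponents Xj hXj
    exact ⟨ξ, hcl, hξmax, by rw [specializes_iff_mem_closure, hcl]; exact hx⟩
  have himg : ∀ ξ : X, closure (f.base '' closure {ξ}) = closure {f.base ξ} := by
    intro ξ
    rw [closure_image_closure f.continuous, Set.image_singleton]
  constructor
  · intro h
    obtain ⟨e, U, hxU, hp1, hp2, hp3⟩ := EquidimAt.spec f h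
    refine ⟨e, fun Xj hXj hx => ?_⟩
    obtain ⟨ξ, hcl, hξmax, hξx⟩ := hcompx Xj hXj hx
    subst hcl
    have hξU : ξ ∈ U := hξx.mem_open U.isOpen hxU
    obtain ⟨hfξmax, -⟩ := hp1 ξ hξU hξmax
    have htr := hp2 ξ hξU (fun z' _ hz' => hξmax z' hz')
    refine ⟨?_, ?_, ?_⟩
    · rw [himg]
      exact FibreClosure.closure_mem_irreducibleComponents_of_maximal _ hfξmax
    · intro η hη
      rw [himg] at hη
      have : η = f.base ξ := (inseparable_iff_closure_eq.mpr hη).eq
      subst this
      exact FibreClosure.topDim_closure_inter_fibre f ξ e htr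
    · obtain ⟨z, n, hzT, hzx, hfz, -, hn, hld⟩ :=
        ClosedFibreDim.exists_maximal_trdeg_eq_localDim f ⟨closure {ξ}, isClosed_closure⟩ x
          ⟨hx, Set.mem_singleton (f.base x)⟩
      have h1 := EquidimAt.trdeg_le_fibreDimAt f x z hzx n hn
      rw [hp3 x hxU] at h1
      obtain ⟨x₁, hξx₁, hx₁x, hfx₁, n₁, hn₁, hle⟩ := RestrictedChevalley.rc f x ξ hξx e htr
      have hx₁T : x₁ ∈ closure ({ξ} : Set X) := specializes_iff_mem_closure.mp hξx₁
      have h2 := ClosedFibreDim.trdeg_le_localDim f ⟨closure {ξ}, isClosed_closure⟩ x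
        ⟨hx, Set.mem_singleton (f.base x)⟩ x₁ hx₁T hx₁x n₁ hn₁
      change FlatMor.localDim ↥(closure ({ξ} : Set X) ∩ f.base ⁻¹' {f.base x}) ⟨x, _⟩ = e
      change FlatMor.localDim ↥(closure ({ξ} : Set X) ∩ f.base ⁻¹' {f.base x}) ⟨x, _⟩ = n at hld
      change (n₁ : WithBot ℕ∞) ≤
        FlatMor.localDim ↥(closure ({ξ} : Set X) ∩ f.base ⁻¹' {f.base x}) ⟨x, _⟩ at h2
      rw [hld] at h2 ⊢
      have e1 : n ≤ e := by exact_mod_cast h1
      have e2 : n₁ ≤ n := by exact_mod_cast h2
      have : n = e := by omega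
      rw [this]
  · rintro ⟨e, he⟩
    -- the local fibre dimension at `x` is `e`
    have hfdx : FlatMor.fibreDimAt f x = (e : WithBot ℕ∞) := by
      obtain ⟨z₀, n, hz₀x, hfz₀, hz₀max, hn, hfd⟩ :=
        EquidimAt.exists_maximal_trdeg_eq_fibreDimAt f x
      obtain ⟨ξ, hξmax, hξz₀, -⟩ := LocQuotLemmas.exists_maximal_locQuot_eq z₀
      have hξx : ξ ⤳ x := hξz₀.trans hz₀x
      have hXj := FibreClosure.closure_mem_irreducibleComponents_of_maximal ξ hξmax
      have hx : x ∈ closure ({ξ} : Set X) := specializes_iff_mem_closure.mp hξx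
      obtain ⟨-, -, hld⟩ := he _ hXj hx
      have hz₀T : z₀ ∈ closure ({ξ} : Set X) := specializes_iff_mem_closure.mp hξz₀
      have h2 := ClosedFibreDim.trdeg_le_localDim f ⟨closure {ξ}, isClosed_closure⟩ x
        ⟨hx, Set.mem_singleton (f.base x)⟩ z₀ hz₀T hz₀x n hn
      change (n : WithBot ℕ∞) ≤
        FlatMor.localDim ↥(closure ({ξ} : Set X) ∩ f.base ⁻¹' {f.base x}) ⟨x, _⟩ at h2
      rw [hld] at h2
      obtain ⟨z, n', hzT, hzx, hfz, -, hn', hld'⟩ :=
        ClosedFibreDim.exists_maximal_trdeg_eq_localDim f ⟨closure {ξ}, isClosed_closure⟩ x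
          ⟨hx, Set.mem_singleton (f.base x)⟩
      change FlatMor.localDim ↥(closure ({ξ} : Set X) ∩ f.base ⁻¹' {f.base x}) ⟨x, _⟩ = n' at hld'
      rw [hld] at hld'
      have h3 := EquidimAt.trdeg_le_fibreDimAt f x z hzx n' hn'
      rw [hfd] at h3 ⊢
      have e1 : n ≤ e := by exact_mod_cast h2
      have e2 : e = n' := by exact_mod_cast hld'
      have e3 : n' ≤ n := by exact_mod_cast h3
      have : n = e := by omega
      rw [this]
    obtain ⟨U₀, hxU₀, hU₀⟩ := EquidimAt.exists_nhd_maximal_specializes x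
    let U₁ : X.Opens := ⟨{x' : X | FlatMor.fibreDimAt f x' ≤ (e : WithBot ℕ∞)},
      Groth.Agent.S0402.result f e⟩
    have hxU₁ : x ∈ U₁ := hfdx.le
    have key : ∀ ξ : X, ξ ⤳ x → (∀ ξ' : X, ξ' ⤳ ξ → ξ' = ξ) →
        (∀ η' : Y, η' ⤳ f.base ξ → η' = f.base ξ) ∧
        @Algebra.trdeg (Y.residueField (f.base ξ)) (X.residueField ξ) _ _
          (f.residueFieldMap ξ).hom.toAlgebra = (e : Cardinal) := by
      intro ξ hξx hξmax
      have hXj := FibreClosure.closure_mem_irreducibleComponents_of_maximal ξ hξmax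
      have hx : x ∈ closure ({ξ} : Set X) := specializes_iff_mem_closure.mp hξx
      obtain ⟨hY, hη, -⟩ := he _ hXj hx
      rw [himg] at hY hη
      constructor
      · intro η' hη'
        have hsub : closure {f.base ξ} ⊆ closure {η'} := specializes_iff_closure_subset.mp hη'
        have h3 := hY.2 isIrreducible_singleton.closure hsub
        have h4 : f.base ξ ⤳ η' := by
          rw [specializes_iff_mem_closure]; exact h3 (subset_closure rfl)
        exact (hη'.antisymm h4).eq
      · obtain ⟨n, hn⟩ := ResFieldBridge.exists_nat_trdeg_residueField f ξ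
        have h5 := hη (f.base ξ) rfl
        rw [FibreClosure.topDim_closure_inter_fibre f ξ n hn] at h5
        have : n = e := by exact_mod_cast h5
        rw [hn, this]
    apply EquidimAt.of_spec f x e (U₀ ⊓ U₁) ⟨hxU₀, hxU₁⟩
    · intro ξ hξU hξmax
      have hξx := hU₀ ξ hξU.1 hξmax
      exact ⟨(key ξ hξx hξmax).1, hξx.map f.continuous⟩
    · intro z hzU hzmax
      obtain ⟨m, hm⟩ := ResFieldBridge.exists_nat_trdeg_residueField f z
      have h1 : (m : WithBot ℕ∞) ≤ (e : WithBot ℕ∞) := by
        rw [← FibreMax.fibreDimAt_eq_of_maximal f z hzmax m hm]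
        exact hzU.2
      obtain ⟨ξ, hξmax, hξz, -⟩ := LocQuotLemmas.exists_maximal_locQuot_eq z
      have hξU₀ : ξ ∈ U₀ := hξz.mem_open U₀.isOpen hzU.1
      have hξx := hU₀ ξ hξU₀ hξmax
      have heξ := (key ξ hξx hξmax).2
      obtain ⟨x₁, -, hx₁z, hfx₁, n₁, hn₁, hle⟩ := RestrictedChevalley.rc f z ξ hξz e heξ
      have hx₁ := hzmax x₁ hfx₁ hx₁z
      subst hx₁
      have e3 : n₁ = m := by
        have := hn₁.symm.trans hm
        exact_mod_cast this
      have e4 : m ≤ e := by exact_mod_cast h1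
      have e5 : m = e := by omega
      rw [hm, e5]

end Groth.Agent.S3456
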