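import Groth.Statements.S3510
import Mathlib
import Groth.Prelude.Def_EtCore
import Groth.Prelude.Def_EtAcyc
import Groth.Agent.S0101
import Groth.Agent.S16463
import Groth.Agent.S3513
import Groth.Agent.S8525
import Groth.Agent.Lib.Helper10.ExtAdj
import Groth.Agent.Lib.Helper10.ExtLerayT
import Groth.Agent.Lib.Helper10.ExtBC
import Groth.Agent.Lib.Helper10.MateIter
import Groth.Agent.Lib.Helper10.EtBCLocAb
import Groth.Agent.Lib.Helper10.EtSecHom

set_option autoImplicit false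
universe u
open CategoryTheory CategoryTheory.Limits AlgebraicGeometry Opposite
open EtAcyc

namespace Groth.Agent.S3510

section helpers

open CategoryTheory.Abelian Groth.Agent.Helper10 Groth.Agent.Helper10.ExtAdj
  Groth.Agent.Helper10.ExtLeray

instance pull_pfl {A B : Scheme.{u}} (f : A ⟶ B) : PreservesFiniteLimits (EtCoh.pull f) :=
  Groth.Agent.S0101.result f

instance push_pfl {A B : Scheme.{u}} (f : A ⟶ B) : PreservesFiniteLimits (EtCoh.push f) := by
  have : PreservesLimitsOfSize.{0, 0} (EtCoh.push f) :=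
    (EtCoh.pullPushAdj f).rightAdjoint_preservesLimits
  exact PreservesLimitsOfSize.preservesFiniteLimits _

instance res_pfl {A B : Scheme.{u}} (j : A ⟶ B) [Etale j] : PreservesFiniteLimits (EtLoc.res j) := by
  have : PreservesLimitsOfSize.{0, 0} (EtLoc.res j) :=
    (EtLoc.shriekAdj j).rightAdjoint_preservesLimits
  exact PreservesLimitsOfSize.preservesFiniteLimits _

instance res_pfc {A B : Scheme.{u}} (j : A ⟶ B) [Etale j] :
    PreservesFiniteColimits (EtLoc.res j) := by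
  have : PreservesColimitsOfSize.{0, 0} (EtLoc.res j) :=
    (EtBCLocAb.resAdj j).leftAdjoint_preservesColimits
  exact PreservesColimitsOfSize.preservesFiniteColimits _

instance shriek_pfl {A B : Scheme.{u}} (j : A ⟶ B) [Etale j] :
    PreservesFiniteLimits (EtLoc.shriek j) := EtLoc.shriek_preservesFiniteLimits j

instance shriek_pfc {A B : Scheme.{u}} (j : A ⟶ B) [Etale j] :
    PreservesFiniteColimits (EtLoc.shriek j) := by
  have : PreservesColimitsOfSize.{0, 0} (EtLoc.shriek j) :=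
    (EtLoc.shriekAdj j).leftAdjoint_preservesColimits
  exact PreservesColimitsOfSize.preservesFiniteColimits _

/-- `P y = counitMap (y ∘ η)`. -/
lemma mapP_eq {A B : Scheme.{u}} (p : A ⟶ B) (X F : EtCoh.Ab B) (q : ℕ)
    (y : Ext.{u + 1} X F q) :
    counitMap.{u + 1, u + 1} (EtCoh.pullPushAdj p) X ((EtCoh.pull p).obj F) q
      (y.comp (Ext.mk₀ ((EtCoh.pullPushAdj p).unit.app F)) (add_zero q)) =
      y.mapExactFunctor (EtCoh.pull p) := by
  rw [counitMap_apply, Ext.mapExactFunctor_comp, Ext.mapExactFunctor_mk₀,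
    Ext.comp_assoc_of_third_deg_zero, Ext.mk₀_comp_mk₀]
  have := (EtCoh.pullPushAdj p).left_triangle_components F
  rw [this, Ext.comp_mk₀_id]

lemma isLTorsion_of_iso {A : Scheme.{u}} (L : Set ℕ) {G G' : EtCoh.Ab A} (e : G ≅ G')
    (hG : EtAcyc.IsLTorsion L G) : EtAcyc.IsLTorsion L G' := by
  rw [Groth.Agent.S8525.result] at hG ⊢
  intro Ω _ _ ξ t
  obtain ⟨m, hm, hmt⟩ := hG Ω ξ (((EtCoh.stalk ξ).map e.inv) t)
  refine ⟨m, hm, ?_⟩
  have hinj : Function.Injective ((EtCoh.stalk ξ).map e.inv) := by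
    intro a b hab
    have := congrArg ((EtCoh.stalk ξ).map e.hom) hab
    simpa [← ConcreteCategory.comp_apply, ← Functor.map_comp] using this
  apply hinj
  rw [map_nsmul, hmt, map_zero]

section Star

variable {X' V' : Scheme.{u}} (p : X' ⟶ V') (W : V'.Etale)

/-- the projection `X' ×_{V'} W → W` -/
noncomputable abbrev gV : pullback W.hom p ⟶ W.left := pullback.fst W.hom p

/-- the projection `X' ×_{V'} W → X'` -/
noncomputable abbrev tt : pullback W.hom p ⟶ X' := pullback.snd W.hom p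

lemma sq : IsPullback (tt p W) (gV p W) p W.hom := (IsPullback.of_hasPullback W.hom p).flip

instance etale_tt : Etale (tt p W) := inferInstance

/-- the composition isomorphism of the four pushforwards -/
noncomputable abbrev th0 :
    EtCoh.push (tt p W) ⋙ EtCoh.push p ⟶ EtCoh.push (gV p W) ⋙ EtCoh.push W.hom :=
  EtBCLocAb.θAb p W.hom (gV p W) (tt p W) (sq p W).w

/-- its conjugate -/
noncomputable abbrev th : EtLoc.res W.hom ⋙ EtCoh.pull (gV p W) ⟶
    EtCoh.pull p ⋙ EtLoc.res (tt p W) :=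
  MateIter.theta (EtCoh.pullPushAdj p) (EtCoh.pullPushAdj (gV p W)) (EtBCLocAb.resAdj W.hom)
    (EtBCLocAb.resAdj (tt p W)) (th0 p W)

instance isIso_th : IsIso (th p W) := by
  unfold th
  infer_instance

lemma isIso_beta_app (A : EtCoh.Ab W.left) :
    IsIso (ExtBC.beta (EtLoc.shriekAdj W.hom) (EtLoc.shriekAdj (tt p W)) (th p W) A) := by
  have hγ := EtBCLocAb.isIso_gamma p W.hom (gV p W) (tt p W) (sq p W)
  have hβ := MateIter.isIso_beta (EtCoh.pullPushAdj p) (EtCoh.pullPushAdj (gV p W))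
    (EtBCLocAb.resAdj W.hom) (EtBCLocAb.resAdj (tt p W)) (EtLoc.shriekAdj W.hom)
    (EtLoc.shriekAdj (tt p W)) (th0 p W)
  have h1 : IsIso ((MateIter.beta (EtCoh.pullPushAdj p) (EtCoh.pullPushAdj (gV p W))
    (EtBCLocAb.resAdj W.hom) (EtBCLocAb.resAdj (tt p W)) (EtLoc.shriekAdj W.hom)
    (EtLoc.shriekAdj (tt p W)) (th0 p W)).app A) := inferInstance
  rw [MateIter.beta_app] at h1
  exact h1

lemma Hpull_eq_comp {A B : Scheme.{u}} (f : A ⟶ B) (G : EtCoh.Ab B) (q : ℕ) :
    ⇑(EtCore.Hpull f G q) =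
      ⇑(extCongrLeft.{u + 1} (EtCore.pullConst f ℤ).symm ((EtCoh.pull f).obj G) q) ∘
        (fun x : Ext.{u + 1} (EtCoh.const B ℤ) G q => x.mapExactFunctor (EtCoh.pull f)) := by
  funext x
  rfl

lemma star (L : Set ℕ) (n : ℕ) (F : EtCoh.Ab V') (hF : EtAcyc.IsLTorsion L F)
    (hpW : EtAcyc.CompN (EtAcyc.prj p W) L n) :
    (∀ q, q ≤ n → Function.Bijective
      (fun y : Ext.{u + 1} (EtSecHom.Zsh W) F q => y.mapExactFunctor (EtCoh.pull p))) ∧
    Function.Injective
      (fun y : Ext.{u + 1} (EtSecHom.Zsh W) F (n + 1) => y.mapExactFunctor (EtCoh.pull p)) := by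
  have hRF : EtAcyc.IsLTorsion L ((EtLoc.res W.hom).obj F) :=
    isLTorsion_of_iso L ((EtLoc.pullIsoRes W.hom).app F)
      (Groth.Agent.S3513.isLTorsion_pull W.hom L F hF)
  obtain ⟨hb, hi⟩ := hpW ((EtLoc.res W.hom).obj F) hRF
  have hβ := isIso_beta_app p W (EtCoh.const W.left ℤ)
  constructor
  · intro q hq
    have h1 := hb q hq
    rw [Hpull_eq_comp] at h1
    have h2 : Function.Bijective (fun x : Ext.{u + 1} (EtCoh.const W.left ℤ)
        ((EtLoc.res W.hom).obj F) q => x.mapExactFunctor (EtCoh.pull (gV p W))) :=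
      (Function.Bijective.of_comp_iff' (AddEquiv.bijective _) _).1 h1
    exact ExtBC.bijective_of.{u + 1, u + 1, u + 1, u + 1} (EtLoc.shriekAdj W.hom)
      (EtLoc.shriekAdj (tt p W)) (th p W) (EtCoh.const W.left ℤ) F q h2
  · have h1 := hi
    rw [Hpull_eq_comp] at h1
    have h2 : Function.Injective (fun x : Ext.{u + 1} (EtCoh.const W.left ℤ)
        ((EtLoc.res W.hom).obj F) (n + 1) => x.mapExactFunctor (EtCoh.pull (gV p W))) :=
      Function.Injective.of_comp h1
    exact ExtBC.injective_of.{u + 1, u + 1, u + 1, u + 1} (EtLoc.shriekAdj W.hom)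
      (EtLoc.shriekAdj (tt p W)) (th p W) (EtCoh.const W.left ℤ) F (n + 1) h2

end Star

section Core

variable {X' V' : Scheme.{u}} (p : X' ⟶ V') (L : Set ℕ) (n : ℕ)

/-- the unit is an isomorphism -/
lemma core_unit (hp : EtAcyc.IsAcyclicN p L n) (F : EtCoh.Ab V') (hF : EtAcyc.IsLTorsion L F) :
    IsIso ((EtCoh.pullPushAdj p).unit.app F) := by
  apply EtSecHom.isIso_of_bijective_postcomp
  intro W
  have h0 := (star p W L n F hF (hp W)).1 0 (Nat.zero_le n)
  -- `P` is bijective on homs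
  have h1 : Function.Bijective (fun u : EtSecHom.Zsh W ⟶ F => (EtCoh.pull p).map u) := by
    constructor
    · intro a b hab
      have hab' : (EtCoh.pull p).map a = (EtCoh.pull p).map b := hab
      have : (Ext.mk₀ a : Ext.{u + 1} (EtSecHom.Zsh W) F 0) = Ext.mk₀ b := by
        apply h0.1
        show (Ext.mk₀ a).mapExactFunctor (EtCoh.pull p) = (Ext.mk₀ b).mapExactFunctor (EtCoh.pull p)
        rw [Ext.mapExactFunctor_mk₀, Ext.mapExactFunctor_mk₀, hab']
      exact (Ext.mk₀_bijective _ _).1 this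
    · intro v
      obtain ⟨y, hy⟩ := h0.2 (Ext.mk₀ v)
      obtain ⟨a, rfl⟩ := (Ext.mk₀_bijective _ _).2 y
      have hy' : (Ext.mk₀ a).mapExactFunctor (EtCoh.pull p) = Ext.mk₀ v := hy
      rw [Ext.mapExactFunctor_mk₀] at hy'
      exact ⟨a, (Ext.mk₀_bijective _ _).1 hy'⟩
  have h2 : (fun u : EtSecHom.Zsh W ⟶ F => u ≫ (EtCoh.pullPushAdj p).unit.app F) =
      ⇑((EtCoh.pullPushAdj p).homEquiv (EtSecHom.Zsh W) ((EtCoh.pull p).obj F)) ∘
        (fun u : EtSecHom.Zsh W ⟶ F => (EtCoh.pull p).map u) := by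
    funext u
    show _ = (EtCoh.pullPushAdj p).homEquiv _ _ ((EtCoh.pull p).map u)
    rw [Adjunction.homEquiv_unit]
    exact (EtCoh.pullPushAdj p).unit.naturality u
  have h3 := (Equiv.bijective ((EtCoh.pullPushAdj p).homEquiv (EtSecHom.Zsh W)
    ((EtCoh.pull p).obj F))).comp h1
  rw [← h2] at h3
  exact h3

/-- vanishing of the higher direct images -/
lemma core_vanish (hp : EtAcyc.IsAcyclicN p L n) (F : EtCoh.Ab V') (hF : EtAcyc.IsLTorsion L F) :
    ∀ q : ℕ, 1 ≤ q → q ≤ n →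
      IsZero ((EtCoh.Rpush p q).obj ((EtCoh.pull p).obj F)) := by
  have hη := core_unit p L n hp F hF
  obtain ⟨Δ⟩ := Groth.Agent.S16463.result (EtCoh.push p)
  refine ExtLerayT.isZero_rightDerived_of_counitMap.{u + 1, u + 1} (EtCoh.pullPushAdj p)
    (fun X => ∃ W : V'.Etale, X = EtSecHom.Zsh W) ?_ Δ n ((EtCoh.pull p).obj F) ?_
  · intro M N c h
    apply EtSecHom.eq_zero_of_forall
    intro W u
    exact h _ ⟨W, rfl⟩ u
  · rintro X ⟨W, rfl⟩
    obtain ⟨hb, hi⟩ := star p W L n F hF (hp W)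
    have key : ∀ q, (fun y : Ext.{u + 1} (EtSecHom.Zsh W) F q =>
        y.mapExactFunctor (EtCoh.pull p)) =
        ⇑(counitMap.{u + 1, u + 1} (EtCoh.pullPushAdj p) (EtSecHom.Zsh W)
          ((EtCoh.pull p).obj F) q) ∘
        ⇑(extCongrRight.{u + 1} (EtSecHom.Zsh W) (asIso ((EtCoh.pullPushAdj p).unit.app F)) q) := by
      intro q
      funext y
      exact (mapP_eq p (EtSecHom.Zsh W) F q y).symm
    constructor
    · intro q hq
      have h1 := hb q hq
      rw [key q] at h1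
      exact (Function.Bijective.of_comp_iff _ (AddEquiv.bijective _)).1 h1
    · have h1 := hi
      rw [key (n + 1)] at h1
      intro a b hab
      have ha := (extCongrRight.{u + 1} (EtSecHom.Zsh W)
        (asIso ((EtCoh.pullPushAdj p).unit.app F)) (n + 1)).apply_symm_apply a
      have hb' := (extCongrRight.{u + 1} (EtSecHom.Zsh W)
        (asIso ((EtCoh.pullPushAdj p).unit.app F)) (n + 1)).apply_symm_apply b
      rw [← ha, ← hb'] at hab
      have := h1 hab
      rw [← ha, ← hb', this]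

end Core

section Final

variable {X Y : Scheme.{u}} (g : X ⟶ Y) (L : Set ℕ) (n : ℕ)

/-- (ii) ⇒ (i) for one morphism -/
lemma compN_of (p : X ⟶ Y)
    (h : ∀ F : EtCoh.Ab Y, EtAcyc.IsLTorsion L F →
      IsIso ((EtCoh.pullPushAdj p).unit.app F) ∧ ∀ q : ℕ, 1 ≤ q → q ≤ n →
        IsZero ((EtCoh.Rpush p q).obj ((EtCoh.pull p).obj F))) :
    EtAcyc.CompN p L n := by
  intro F hF _
  obtain ⟨hη, hR⟩ := h F hF
  obtain ⟨Δ⟩ := Groth.Agent.S16463.result (EtCoh.push p)
  have key : ∀ q, ⇑(EtCore.Hpull p F q) =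
      ⇑(extCongrLeft.{u + 1} (EtCore.pullConst p ℤ).symm ((EtCoh.pull p).obj F) q) ∘
        ⇑(counitMap.{u + 1, u + 1} (EtCoh.pullPushAdj p) (EtCoh.const Y ℤ)
          ((EtCoh.pull p).obj F) q) ∘
        ⇑(extCongrRight.{u + 1} (EtCoh.const Y ℤ) (asIso ((EtCoh.pullPushAdj p).unit.app F)) q) := by
    intro q
    funext y
    show _ = (extCongrLeft.{u + 1} (EtCore.pullConst p ℤ).symm ((EtCoh.pull p).obj F) q)
      (counitMap.{u + 1, u + 1} (EtCoh.pullPushAdj p) (EtCoh.const Y ℤ) ((EtCoh.pull p).obj F) q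
        (y.comp (Ext.mk₀ ((EtCoh.pullPushAdj p).unit.app F)) (add_zero q)))
    rw [mapP_eq]
    rfl
  constructor
  · intro q hq
    rw [key q]
    have hc := (ExtLerayT.counitMap_trunc.{u + 1, u + 1} (EtCoh.pullPushAdj p) Δ (EtCoh.const Y ℤ) q
      n ((EtCoh.pull p).obj F) hR).1 hq
    exact (AddEquiv.bijective _).comp (hc.comp (AddEquiv.bijective _))
  · rw [key (n + 1)]
    have hc := (ExtLerayT.counitMap_trunc.{u + 1, u + 1} (EtCoh.pullPushAdj p) Δ (EtCoh.const Y ℤ)
      (n + 1) n ((EtCoh.pull p).obj F) hR).2 le_rfl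
    exact (AddEquiv.injective _).comp (hc.comp (AddEquiv.injective _))

/-- acyclicity is stable under étale localization of the base -/
lemma isAcyclicN_prj (hg : EtAcyc.IsAcyclicN g L n) (V : Y.Etale) :
    EtAcyc.IsAcyclicN (EtAcyc.prj g V) L n := by
  intro W
  let W₂ : Y.Etale := (EtLoc.phi V.hom).obj W
  have e : EtAcyc.prj (EtAcyc.prj g V) W =
      (pullbackRightPullbackFstIso V.hom g W.hom).hom ≫ EtAcyc.prj g W₂ :=
    (pullbackRightPullbackFstIso_hom_fst V.hom g W.hom).symm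
  rw [Groth.Agent.S3513.compN_congr e]
  exact Groth.Agent.S3513.compN_comp (Groth.Agent.S3513.compN_iso _ L n) (hg W₂)

theorem main :
    EtAcyc.IsAcyclicN g L n ↔
      ∀ (V : Y.Etale) (F : EtCoh.Ab V.left), EtAcyc.IsLTorsion L F →
        IsIso ((EtCoh.pullPushAdj (EtAcyc.prj g V)).unit.app F) ∧
          ∀ q : ℕ, 1 ≤ q → q ≤ n →
            IsZero ((EtCoh.Rpush (EtAcyc.prj g V) q).obj ((EtCoh.pull (EtAcyc.prj g V)).obj F)) := by
  constructor
  · intro hg V F hF
    have hp := isAcyclicN_prj g L n hg V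
    exact ⟨core_unit _ L n hp F hF, core_vanish _ L n hp F hF⟩
  · intro h V
    exact compN_of L n (EtAcyc.prj g V) (h V)

end Final

end helpers

/-- (i) ⇔ (ii): let g : X → Y be a morphism of schemes, L a set of primes and n a natural number. Then g
is n-acyclic for L (form (ii): for every etale V → Y with projection g' : X ×_Y V → V and every
abelian L-torsion sheaf F on V, H^q(V, F) → H^q(X ×_Y V, g'⁻¹F) is bijective for q ≤ n and injective
for q = n + 1) if and only if (form (i)) for every such V and F the unit F → g'_* g'⁻¹ F is an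
isomorphism and R^q g'_* (g'⁻¹ F) = 0 for 1 ≤ q ≤ n. -/
theorem result {X Y : Scheme.{u}} (g : X ⟶ Y) (L : Set ℕ) (n : ℕ) :
    EtAcyc.IsAcyclicN g L n ↔
      ∀ (V : Y.Etale) (F : EtCoh.Ab V.left), EtAcyc.IsLTorsion L F →
        IsIso ((EtCoh.pullPushAdj (EtAcyc.prj g V)).unit.app F) ∧
          ∀ q : ℕ, 1 ≤ q → q ≤ n →
            IsZero ((EtCoh.Rpush (EtAcyc.prj g V) q).obj ((EtCoh.pull (EtAcyc.prj g V)).obj F)) := by
  exact main g L n

end Groth.Agent.S3510
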