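import Groth.Statements.S3532

set_option autoImplicit false
universe u
open HomAlg3

namespace Groth.Agent.S3532

open CategoryTheory in
/-- Category of abelian groups, system indexed by the natural numbers: Let (A_k)_{k ≥ 0} be an inverse
system of abelian groups. For p ≤ k write Im_k(A_p) for the image of A_k → A_p, and K_p for the
kernel of A_p → A_{p-1} (K_0 = A_0). Then (A_k) satisfies the Mittag-Leffler condition (for each p
the subgroups Im_k(A_p) are eventually constant in k) if and only if for each p the subgroups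
Im_k(A_p) ∩ K_p are eventually constant in k. -/
theorem result (F : ℕᵒᵖ ⥤ AddCommGrpCat.{u}) :
    (F ⋙ forget AddCommGrpCat).IsMittagLeffler ↔
      ((∃ k₀ : ℕ, ∀ (k : ℕ) (hk : k₀ ≤ k),
          (F.map (homOfLE (Nat.zero_le k)).op).hom.range = (F.map (homOfLE (Nat.zero_le k₀)).op).hom.range) ∧
        ∀ p : ℕ, ∃ k₀ : ℕ, ∃ h₀ : p + 1 ≤ k₀, ∀ (k : ℕ) (hk : k₀ ≤ k),
          (F.map (homOfLE (h₀.trans hk)).op).hom.range ⊓ (F.map (homOfLE (Nat.le_succ p)).op).hom.ker =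
            (F.map (homOfLE h₀).op).hom.range ⊓ (F.map (homOfLE (Nat.le_succ p)).op).hom.ker) := by
  classical
  let T : ∀ (k p : ℕ), p ≤ k → (F.obj (Opposite.op k) →+ F.obj (Opposite.op p)) :=
    fun k p h => (F.map (homOfLE h).op).hom
  have hT : ∀ (m k p : ℕ) (h1 : k ≤ m) (h2 : p ≤ k) (x : F.obj (Opposite.op m)),
      T k p h2 (T m k h1 x) = T m p (h2.trans h1) x := by
    intro m k p h1 h2 x
    have e : (homOfLE h1).op ≫ (homOfLE h2).op = (homOfLE (h2.trans h1)).op := rfl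
    change (F.map (homOfLE h2).op).hom ((F.map (homOfLE h1).op).hom x) = (F.map (homOfLE (h2.trans h1)).op).hom x
    rw [← e, F.map_comp]
    rfl
  have hmono : ∀ (m k p : ℕ) (h1 : k ≤ m) (h2 : p ≤ k), (T m p (h2.trans h1)).range ≤ (T k p h2).range := by
    rintro m k p h1 h2 _ ⟨x, rfl⟩
    exact ⟨T m k h1 x, hT m k p h1 h2 x⟩
  have hml : (F ⋙ forget AddCommGrpCat).IsMittagLeffler ↔
      ∀ p : ℕ, ∃ (k₀ : ℕ) (h₀ : p ≤ k₀), ∀ (k : ℕ) (hk : k₀ ≤ k),
        (T k p (h₀.trans hk)).range = (T k₀ p h₀).range := by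
    constructor
    · intro H p
      obtain ⟨i, f, hf⟩ := H (Opposite.op p)
      have h₀ : p ≤ i.unop := leOfHom f.unop
      refine ⟨i.unop, h₀, fun k hk => le_antisymm (hmono k i.unop p hk h₀) ?_⟩
      have hf' := hf ((homOfLE (h₀.trans hk)).op : Opposite.op k ⟶ Opposite.op p)
      have ef : f = (homOfLE h₀).op := Subsingleton.elim _ _
      rintro _ ⟨y, rfl⟩
      have : T i.unop p h₀ y ∈ Set.range ((F ⋙ forget AddCommGrpCat).map f) := by
        rw [ef]; exact ⟨y, rfl⟩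
      obtain ⟨z, hz⟩ := hf' this
      exact ⟨z, hz⟩
    · intro H j
      obtain ⟨k₀, h₀, hk₀⟩ := H j.unop
      refine ⟨Opposite.op k₀, (homOfLE h₀).op, ?_⟩
      intro k g
      have hg : j.unop ≤ k.unop := leOfHom g.unop
      have eg : g = (homOfLE hg).op := Subsingleton.elim _ _
      rintro _ ⟨y, rfl⟩
      have h1 : T k₀ j.unop h₀ y ∈ (T (max k.unop k₀) j.unop (h₀.trans (le_max_right _ _))).range := by
        rw [hk₀ _ (le_max_right _ _)]; exact ⟨y, rfl⟩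
      obtain ⟨z, hz⟩ := hmono (max k.unop k₀) k.unop j.unop (le_max_left _ _) hg h1
      rw [eg]
      exact ⟨z, hz⟩
  rw [hml]
  constructor
  · intro H
    refine ⟨?_, fun p => ?_⟩
    · obtain ⟨k₀, h₀, hk₀⟩ := H 0
      exact ⟨k₀, fun k hk => hk₀ k hk⟩
    · obtain ⟨k₀, h₀, hk₀⟩ := H (p + 1)
      refine ⟨k₀, h₀, fun k hk => ?_⟩
      have := hk₀ k hk
      change (T k (p + 1) (h₀.trans hk)).range ⊓ _ = (T k₀ (p + 1) h₀).range ⊓ _
      rw [this]
  · rintro ⟨H0, Hp⟩ p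
    induction p with
    | zero =>
      obtain ⟨k₀, hk₀⟩ := H0
      exact ⟨k₀, Nat.zero_le _, fun k hk => hk₀ k hk⟩
    | succ p ih =>
      obtain ⟨k₁, h₁, hk₁⟩ := ih
      obtain ⟨k₂, h₂, hk₂⟩ := Hp p
      have hk₂' : ∀ (k : ℕ) (hk : k₂ ≤ k), (T k (p + 1) (h₂.trans hk)).range ⊓ (T (p + 1) p (Nat.le_succ p)).ker =
          (T k₂ (p + 1) h₂).range ⊓ (T (p + 1) p (Nat.le_succ p)).ker := hk₂
      have h₀ : p + 1 ≤ max k₁ k₂ := h₂.trans (le_max_right _ _)
      refine ⟨max k₁ k₂, h₀, fun k hk => le_antisymm (hmono k (max k₁ k₂) (p + 1) hk h₀) ?_⟩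
      rintro x ⟨y, rfl⟩
      have hk1 : k₁ ≤ k := (le_max_left _ _).trans hk
      have hk2 : k₂ ≤ k := (le_max_right _ _).trans hk
      -- image in level p
      have e1 : T (p + 1) p (Nat.le_succ p) (T (max k₁ k₂) (p + 1) h₀ y) ∈ (T k p (h₁.trans hk1)).range := by
        rw [hT, hk₁ k hk1, ← hk₁ (max k₁ k₂) (le_max_left _ _)]
        exact ⟨y, rfl⟩
      obtain ⟨z, hz⟩ := e1
      have hp1k : p + 1 ≤ k := h₀.trans hk
      have hx' : T k (p + 1) hp1k z ∈ (T (max k₁ k₂) (p + 1) h₀).range := hmono k (max k₁ k₂) (p + 1) hk h₀ ⟨z, rfl⟩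
      have hdiff : T (max k₁ k₂) (p + 1) h₀ y - T k (p + 1) hp1k z ∈
          (T (max k₁ k₂) (p + 1) h₀).range ⊓ (T (p + 1) p (Nat.le_succ p)).ker := by
        refine ⟨AddSubgroup.sub_mem _ ⟨y, rfl⟩ hx', ?_⟩
        change T (p + 1) p (Nat.le_succ p) (T (max k₁ k₂) (p + 1) h₀ y - T k (p + 1) hp1k z) = 0
        rw [map_sub, hT k (p + 1) p hp1k (Nat.le_succ p) z, hz, sub_self]
      have hA : (T (max k₁ k₂) (p + 1) h₀).range ⊓ (T (p + 1) p (Nat.le_succ p)).ker =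
          (T k (p + 1) hp1k).range ⊓ (T (p + 1) p (Nat.le_succ p)).ker := by
        rw [hk₂' (max k₁ k₂) (le_max_right _ _), hk₂' k hk2]
      rw [hA] at hdiff
      have := AddSubgroup.add_mem _ hdiff.1 (⟨z, rfl⟩ : T k (p + 1) hp1k z ∈ (T k (p + 1) hp1k).range)
      simpa using this

end Groth.Agent.S3532
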