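import Groth.Statements.S3534
import Groth.Agent.Lib.Helper6.TorBC

set_option autoImplicit false
universe u
open HTor

namespace Groth.Agent.S3534

/-- Let S be a multiplicative subset of a commutative ring A, A' = S⁻¹A, and P, Q two A'-modules, viewed
as A-modules by restriction of scalars. Then for every n there is a bijective map Tor_n^A(P, Q) →
Tor_n^{A'}(P, Q) which is semilinear over A → A' (so that, in particular, every s ∈ S acts
bijectively on Tor_n^A(P, Q)). (Tor is taken as the left derived functor of the tensor product in
the second variable. The published statement gives a canonical isomorphism, for hyper-Tor of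
complexes; this is the case of single modules.) -/
theorem result (A A' : Type u) [CommRing A] [CommRing A'] [Algebra A A']
    (S : Submonoid A) [IsLocalization S A'] (P Q : Type u) [AddCommGroup P] [Module A' P] [Module A P]
    [IsScalarTower A A' P] [AddCommGroup Q] [Module A' Q] [Module A Q] [IsScalarTower A A' Q] (n : ℕ) :
    ∃ φ : DRing.Tor A n P Q →ₛₗ[algebraMap A A'] DRing.Tor A' n P Q, Function.Bijective φ := by
  classical
  haveI : Module.Flat A A' := IsLocalization.flat A' S
  have hP : ∀ q : ℕ, 0 < q → Subsingleton (DRing.Tor A q P A') := by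
    intro q hq
    obtain ⟨k, rfl⟩ := Nat.exists_eq_succ_of_ne_zero (Nat.pos_iff_ne_zero.mp hq)
    haveI : Module.Flat A (ModuleCat.of A A') := inferInstanceAs (Module.Flat A A')
    exact ModuleCat.subsingleton_of_isZero
      (Groth.Agent.Helper6.TorFlat.isZero_tor_succ_of_flat_right (ModuleCat.of A A') k (ModuleCat.of A P))
  obtain ⟨φ, hφ⟩ := Groth.Agent.Helper6.TorBC.tor_baseChange P Q hP n
  haveI : IsLocalizedModule S (LinearMap.id : P →ₗ[A] P) := isLocalizedModule_id S P A'
  have hbc : IsBaseChange A' (LinearMap.id : P →ₗ[A] P) :=
    IsLocalizedModule.isBaseChange S A' LinearMap.id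
  let e : TensorProduct A A' P ≃ₗ[A'] P := hbc.equiv
  let i : ModuleCat.of A' (TensorProduct A A' P) ≅ ModuleCat.of A' P := e.toModuleIso
  let j := ((CategoryTheory.Tor (ModuleCat.{u} A') n).mapIso i).app (ModuleCat.of A' Q)
  refine ⟨(j.hom.hom).comp φ, ?_⟩
  have b : Function.Bijective j.hom.hom := CategoryTheory.ConcreteCategory.bijective_of_isIso j.hom
  exact b.comp hφ

end Groth.Agent.S3534
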