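import Groth.Statements.S3544
import Mathlib
-- import your own Groth.Agent.* helpers here

set_option autoImplicit false
universe u
open HomAlg3

namespace Groth.Agent.S3544

section
open CategoryTheory CategoryTheory.Limits

lemma len_lemma {A : Type*} [Ring A] {X₁ X₂ X₃ : Type*} [AddCommGroup X₁] [AddCommGroup X₂]
    [AddCommGroup X₃] [Module A X₁] [Module A X₂] [Module A X₃]
    (f : X₁ →ₗ[A] X₂) (g : X₂ →ₗ[A] X₃) (toCyc : X₁ →ₗ[A] LinearMap.ker g)
    (htc : ∀ x, (toCyc x : X₂) = f x) :
    Module.length A X₂ = Module.length A (LinearMap.range f) +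
      Module.length A (LinearMap.ker g ⧸ LinearMap.range toCyc) +
      Module.length A (LinearMap.range g) := by
  have h1 : Module.length A X₂ = Module.length A (LinearMap.ker g) +
      Module.length A (LinearMap.range g) :=
    Module.length_eq_add_of_exact (LinearMap.ker g).subtype g.rangeRestrict
      (Submodule.subtype_injective _) g.surjective_rangeRestrict (by
        intro x
        constructor
        · intro hx
          refine ⟨⟨x, ?_⟩, rfl⟩
          have := congrArg Subtype.val hx
          simpa using this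
        · rintro ⟨y, rfl⟩
          apply Subtype.ext
          simp)
  have h2 : Module.length A (LinearMap.ker g) = Module.length A (LinearMap.range toCyc) +
      Module.length A (LinearMap.ker g ⧸ LinearMap.range toCyc) :=
    Module.length_eq_add_of_exact (LinearMap.range toCyc).subtype (LinearMap.range toCyc).mkQ
      (Submodule.subtype_injective _) (Submodule.mkQ_surjective _)
      (LinearMap.exact_subtype_mkQ _)
  have h3 : Module.length A (LinearMap.range toCyc) = Module.length A (LinearMap.range f) := by
    have e1 := Submodule.equivMapOfInjective (LinearMap.ker g).subtype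
      (Submodule.subtype_injective _) (LinearMap.range toCyc)
    have h4 : Submodule.map (LinearMap.ker g).subtype (LinearMap.range toCyc) =
        LinearMap.range f := by
      rw [← LinearMap.range_comp]
      congr 1
      ext x
      exact htc x
    exact (e1.trans (LinearEquiv.ofEq _ _ h4)).length_eq
  rw [h1, h2, h3]

lemma len_complex {A : Type u} [Ring A] {ι : Type*} {c : ComplexShape ι}
    (K : HomologicalComplex (ModuleCat.{u} A) c) (i : ι) :
    Module.length A (K.X i) = Module.length A (LinearMap.range (K.d (c.prev i) i).hom) +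
      Module.length A (K.homology i) + Module.length A (LinearMap.range (K.d i (c.next i)).hom) := by
  have e := ((K.sc i).moduleCatHomologyIso).toLinearEquiv
  have h1 : Module.length A (K.homology i) = Module.length A
      (LinearMap.ker (K.sc i).g.hom ⧸ LinearMap.range (K.sc i).moduleCatToCycles) := e.length_eq
  rw [h1]
  exact len_lemma (K.sc i).f.hom (K.sc i).g.hom (K.sc i).moduleCatToCycles (fun x => rfl)

lemma len_range_congr {A : Type u} [Ring A] {ι : Type*} {c : ComplexShape ι}
    (K : HomologicalComplex (ModuleCat.{u} A) c) {i i' j j' : ι} (hi : i = i') (hj : j = j') :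
    Module.length A (LinearMap.range (K.d i j).hom) =
      Module.length A (LinearMap.range (K.d i' j').hom) := by
  subst hi hj
  rfl

/-- length of the image of the differential starting at `pq` -/
noncomputable def rho {A : Type u} [Ring A] (v : ℤ × ℤ)
    (K : HomologicalComplex (ModuleCat.{u} A) (ComplexShape.up' v)) (pq : ℤ × ℤ) : ℕ∞ :=
  Module.length A (LinearMap.range (K.d pq (pq + v)).hom)

lemma len_complex' {A : Type u} [Ring A] (v : ℤ × ℤ)
    (K : HomologicalComplex (ModuleCat.{u} A) (ComplexShape.up' v)) (pq : ℤ × ℤ) :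
    Module.length A (K.X pq) = rho v K (pq - v) + Module.length A (K.homology pq) + rho v K pq := by
  rw [len_complex K pq]
  have hprev : (ComplexShape.up' v).prev pq = pq - v :=
    (ComplexShape.up' v).prev_eq' (show pq - v + v = pq from sub_add_cancel pq v)
  have hnext : (ComplexShape.up' v).next pq = pq + v := (ComplexShape.up' v).next_eq' rfl
  unfold rho
  rw [len_range_congr K hprev (sub_add_cancel pq v).symm, len_range_congr K rfl hnext]

lemma rho_le_left {A : Type u} [Ring A] (v : ℤ × ℤ)
    (K : HomologicalComplex (ModuleCat.{u} A) (ComplexShape.up' v)) (pq : ℤ × ℤ) :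
    rho v K pq ≤ Module.length A (K.X pq) :=
  Module.length_le_of_surjective (K.d pq (pq + v)).hom.rangeRestrict
    (LinearMap.surjective_rangeRestrict _)

lemma rho_le_right {A : Type u} [Ring A] (v : ℤ × ℤ)
    (K : HomologicalComplex (ModuleCat.{u} A) (ComplexShape.up' v)) (pq : ℤ × ℤ) :
    rho v K pq ≤ Module.length A (K.X (pq + v)) :=
  Module.length_le_of_injective (LinearMap.range (K.d pq (pq + v)).hom).subtype
    (Submodule.subtype_injective _)

lemma euler {A : Type u} [Ring A] (v : ℤ × ℤ) (hv : v.1 + v.2 = 1)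
    (K : HomologicalComplex (ModuleCat.{u} A) (ComplexShape.up' v)) (s : Finset (ℤ × ℤ))
    (hs : ∀ pq, pq ∉ s → Module.length A (K.X pq) = 0)
    (hfl : ∀ pq, Module.length A (K.X pq) ≠ ⊤) :
    (∀ pq, pq ∉ s → Module.length A (K.homology pq) = 0) ∧
    (∀ pq, Module.length A (K.homology pq) ≠ ⊤) ∧
    (s.sum fun pq => (((pq.1 + pq.2).negOnePow : ℤˣ) : ℤ) *
        ((Module.length A (K.homology pq)).toNat : ℤ)) =
      s.sum fun pq => (((pq.1 + pq.2).negOnePow : ℤˣ) : ℤ) *
        ((Module.length A (K.X pq)).toNat : ℤ) := by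
  have hHle : ∀ pq, Module.length A (K.homology pq) ≤ Module.length A (K.X pq) := by
    intro pq
    rw [len_complex' v K pq]
    exact le_trans le_add_self le_self_add
  have hρtop : ∀ pq, rho v K pq ≠ ⊤ :=
    fun pq => ne_top_of_le_ne_top (hfl pq) (rho_le_left v K pq)
  have hHtop : ∀ pq, Module.length A (K.homology pq) ≠ ⊤ :=
    fun pq => ne_top_of_le_ne_top (hfl pq) (hHle pq)
  refine ⟨fun pq hpq => ?_, hHtop, ?_⟩
  · have := hHle pq
    rw [hs pq hpq] at this
    exact le_antisymm this zero_le
  · have hnat : ∀ pq, ((Module.length A (K.X pq)).toNat : ℤ) =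
        ((rho v K (pq - v)).toNat : ℤ) + ((Module.length A (K.homology pq)).toNat : ℤ) +
          ((rho v K pq).toNat : ℤ) := by
      intro pq
      rw [len_complex' v K pq, ENat.toNat_add, ENat.toNat_add]
      · push_cast
        ring
      · exact hρtop _
      · exact hHtop _
      · exact WithTop.add_ne_top.mpr ⟨hρtop _, hHtop _⟩
      · exact hρtop _
    set R : ℤ × ℤ → ℤ := fun pq =>
      (((pq.1 + pq.2).negOnePow : ℤˣ) : ℤ) * ((rho v K pq).toNat : ℤ) with hR
    have hRsupp : Function.support R ⊆ ↑s := by
      intro pq hpq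
      by_contra hns
      apply hpq
      have h1 : rho v K pq = 0 :=
        le_antisymm ((rho_le_left v K pq).trans (hs pq hns).le) zero_le
      simp [R, h1]
    have hRsupp' : Function.support (fun pq => R (pq - v)) ⊆ ↑s := by
      intro pq hpq
      by_contra hns
      apply hpq
      have h1 := rho_le_right v K (pq - v)
      rw [sub_add_cancel, hs pq hns] at h1
      have h2 : rho v K (pq - v) = 0 := le_antisymm h1 zero_le
      simp [R, h2]
    have hsum : s.sum (fun pq => R (pq - v)) = s.sum R := by
      rw [← finsum_eq_sum_of_support_subset _ hRsupp',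
        ← finsum_eq_sum_of_support_subset _ hRsupp]
      exact finsum_comp_equiv (Equiv.subRight v)
    have hε : ∀ pq : ℤ × ℤ, (((pq.1 + pq.2).negOnePow : ℤˣ) : ℤ) =
        - ((((pq - v).1 + (pq - v).2).negOnePow : ℤˣ) : ℤ) := by
      intro pq
      have h1 : (pq - v).1 + (pq - v).2 = (pq.1 + pq.2) - 1 := by
        simp only [Prod.fst_sub, Prod.snd_sub]
        omega
      rw [h1, Int.negOnePow_sub, Int.negOnePow_one]
      simp
    have hterm : ∀ pq : ℤ × ℤ, (((pq.1 + pq.2).negOnePow : ℤˣ) : ℤ) *
        ((Module.length A (K.homology pq)).toNat : ℤ) =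
        (((pq.1 + pq.2).negOnePow : ℤˣ) : ℤ) * ((Module.length A (K.X pq)).toNat : ℤ) +
          R (pq - v) - R pq := by
      intro pq
      rw [hnat pq]
      simp only [R]
      rw [hε pq]
      ring
    rw [Finset.sum_congr rfl (fun pq _ => hterm pq), Finset.sum_sub_distrib,
      Finset.sum_add_distrib, hsum]
    ring

theorem main {A : Type u} [Ring A]
    (E : E₂CohomologicalSpectralSequence (ModuleCat.{u} A)) (s : Finset (ℤ × ℤ))
    (hs : ∀ pq : ℤ × ℤ, pq ∉ s → IsZero ((E.page 2).X pq))
    (hfl : ∀ pq : ℤ × ℤ, IsFiniteLength A ((E.page 2).X pq)) (r : ℤ) (hr : 2 ≤ r) :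
    (s.sum fun pq => (((pq.1 + pq.2).negOnePow : ℤˣ) : ℤ) * ((Module.length A ((E.page r hr).X pq)).toNat : ℤ)) =
      s.sum fun pq => (((pq.1 + pq.2).negOnePow : ℤˣ) : ℤ) * ((Module.length A ((E.page 2).X pq)).toNat : ℤ) := by
  have key : ∀ (r : ℤ) (hr : 2 ≤ r),
      (∀ pq, pq ∉ s → Module.length A ((E.page r hr).X pq) = 0) ∧
      (∀ pq, Module.length A ((E.page r hr).X pq) ≠ ⊤) ∧
      (s.sum fun pq => (((pq.1 + pq.2).negOnePow : ℤˣ) : ℤ) *
        ((Module.length A ((E.page r hr).X pq)).toNat : ℤ)) =
      s.sum fun pq => (((pq.1 + pq.2).negOnePow : ℤˣ) : ℤ) *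
        ((Module.length A ((E.page 2).X pq)).toNat : ℤ) := by
    intro r hr
    induction r, hr using Int.leInduction with
    | base =>
      refine ⟨fun pq hpq => ?_, fun pq => ?_, rfl⟩
      · haveI := ModuleCat.subsingleton_of_isZero (hs pq hpq)
        exact Module.length_eq_zero
      · exact Module.length_ne_top_iff.mpr (hfl pq)
    | succ r hr ih =>
      obtain ⟨h1, h2, h3⟩ := ih
      obtain ⟨k1, k2, k3⟩ := euler (r, 1 - r) (by simp) (E.page r hr) s h1 h2
      have hiso : ∀ pq, Module.length A ((E.page (r + 1) (by omega)).X pq) =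
          Module.length A ((E.page r hr).homology pq) :=
        fun pq => ((E.iso r (r + 1) pq rfl hr).toLinearEquiv).length_eq.symm
      simp only [hiso]
      exact ⟨k1, k2, k3.trans h3⟩
  exact (key r hr).2.2

end

open CategoryTheory CategoryTheory.Limits in
/-- Let E be a cohomological spectral sequence of modules over a ring A, starting at page 2, such that
the E₂ terms have finite length and only finitely many of them (all inside the finite set s of
bidegrees) are nonzero. Then for every r ≥ 2 the Euler–Poincaré characteristic of page r, the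
alternating sum over s of (-1)^{p+q} times the length of E_r^{pq}, equals that of page 2. -/
theorem result {A : Type u} [Ring A]
    (E : E₂CohomologicalSpectralSequence (ModuleCat.{u} A)) (s : Finset (ℤ × ℤ))
    (hs : ∀ pq : ℤ × ℤ, pq ∉ s → IsZero ((E.page 2).X pq))
    (hfl : ∀ pq : ℤ × ℤ, IsFiniteLength A ((E.page 2).X pq)) (r : ℤ) (hr : 2 ≤ r) :
    (s.sum fun pq => (((pq.1 + pq.2).negOnePow : ℤˣ) : ℤ) * ((Module.length A ((E.page r hr).X pq)).toNat : ℤ)) =
      s.sum fun pq => (((pq.1 + pq.2).negOnePow : ℤˣ) : ℤ) * ((Module.length A ((E.page 2).X pq)).toNat : ℤ) := by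
  exact Groth.Agent.S3544.main E s hs hfl r hr

end Groth.Agent.S3544
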