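import Groth.Statements.S3547
import Groth.Agent.Lib.Helper6.GrTildeLib4

set_option autoImplicit false
universe u
open CategoryTheory CategoryTheory.Limits AlgebraicGeometry
open EGA2

namespace Groth.Agent.S3547

/-- Let S be a graded ring, M a graded S-module, X = Proj S and p a point of X. The stalk of M(n)~ at p
is the module of fractions m/f in M_p with m, f homogeneous, f not in p and deg m = deg f + n:
precisely, evaluation at p is a bijection from the stalk at p of the sheaf of local sections of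
M(n)~ onto that module of fractions. -/
theorem result {R A : Type u} [CommRing R] [CommRing A] [Algebra R A] (𝒜 : ℕ → Submodule R A) [GradedAlgebra 𝒜]
    {M : Type u} [AddCommGroup M] [Module R M] [Module A M] [IsScalarTower R A M] (ℳ : ℕ → Submodule R M) [DirectSum.Decomposition ℳ] [SetLike.GradedSMul 𝒜 ℳ] (n : ℤ)
    (p : ProjectiveSpectrum 𝒜) :
    Function.Bijective (TopCat.stalkToFiber (GrTilde.isLocFrac 𝒜 ℳ n) p) := by
  refine ⟨TopCat.stalkToFiber_injective (GrTilde.isLocFrac 𝒜 ℳ n) p ?_,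
    TopCat.stalkToFiber_surjective (GrTilde.isLocFrac 𝒜 ℳ n) p ?_⟩
  · intro U V fU hU fV hV he
    obtain ⟨U', hpU', iU, i, j, m, s, nin, hor, w⟩ := hU ⟨p, U.2⟩
    obtain ⟨V', hpV', iV, i', j', m', s', nin', hor', w'⟩ := hV ⟨p, V.2⟩
    have e1 := w ⟨p, hpU'⟩
    have e2 := w' ⟨p, hpV'⟩
    have e3 : (LocalizedModule.mk m.1 ⟨s.1, nin ⟨p, hpU'⟩⟩ : GrTilde.LocMod 𝒜 (M := M) p) =
        LocalizedModule.mk m'.1 ⟨s'.1, nin' ⟨p, hpV'⟩⟩ := by
      rw [← e1, ← e2]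
      exact congrArg Subtype.val he
    rw [LocalizedModule.mk_eq] at e3
    obtain ⟨u, hu⟩ := e3
    have hpu : p ∈ ProjectiveSpectrum.basicOpen 𝒜 u.1 :=
      (ProjectiveSpectrum.mem_basicOpen 𝒜 _ p).mpr u.2
    let B : TopologicalSpace.Opens (ProjectiveSpectrum.top 𝒜) := ProjectiveSpectrum.basicOpen 𝒜 u.1
    refine ⟨⟨B ⊓ (U' ⊓ V'), ⟨hpu, hpU', hpV'⟩⟩, ?_, ?_, ?_⟩
    · change B ⊓ (U' ⊓ V') ⟶ U.val
      exact TopologicalSpace.Opens.infLERight _ _ ≫ TopologicalSpace.Opens.infLELeft _ _ ≫ iU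
    · change B ⊓ (U' ⊓ V') ⟶ V.val
      exact TopologicalSpace.Opens.infLERight _ _ ≫ TopologicalSpace.Opens.infLERight _ _ ≫ iV
    · intro y
      apply Subtype.ext
      have f1 := w ⟨y.1, y.2.2.1⟩
      have f2 := w' ⟨y.1, y.2.2.2⟩
      refine f1.trans (Eq.trans ?_ f2.symm)
      rw [LocalizedModule.mk_eq]
      exact ⟨⟨u.1, (ProjectiveSpectrum.mem_basicOpen 𝒜 _ y.1).mp y.2.1⟩, hu⟩
  · rintro ⟨q, hq⟩
    obtain ⟨i, j, m, s, hs, hor, rfl⟩ :=
      Groth.Agent.Helper6.GrTildeLib.exists_frac_of_mem_tildeAt 𝒜 ℳ n p q hq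
    have hmem : ∀ y : ProjectiveSpectrum.basicOpen 𝒜 s.1,
        (LocalizedModule.mk m.1 ⟨s.1, (ProjectiveSpectrum.mem_basicOpen 𝒜 _ y.1).mp y.2⟩ :
          GrTilde.LocMod 𝒜 (M := M) y.1) ∈ GrTilde.tildeAt 𝒜 ℳ n y.1 := by
      intro y
      rcases hor with hij | hm0
      · exact Submodule.subset_span ⟨i, j, m, s, _, hij, rfl⟩
      · rw [hm0, LocalizedModule.zero_mk]
        exact zero_mem _
    refine ⟨⟨ProjectiveSpectrum.basicOpen 𝒜 s.1, (ProjectiveSpectrum.mem_basicOpen 𝒜 _ p).mpr hs⟩,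
      fun y => ⟨_, hmem y⟩, ?_, rfl⟩
    intro x
    exact ⟨ProjectiveSpectrum.basicOpen 𝒜 s.1, x.2, 𝟙 _, i, j, m, s,
      fun y => (ProjectiveSpectrum.mem_basicOpen 𝒜 _ y.1).mp y.2, hor, fun _ => rfl⟩

end Groth.Agent.S3547
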