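import Groth.Statements.S3550
import Groth.Agent.Lib.Helper6.GammaStarIso

set_option autoImplicit false
universe u
open CategoryTheory CategoryTheory.Limits AlgebraicGeometry
open EGA2

namespace Groth.Agent.S3550

/-- Let S be a graded ring whose irrelevant ideal S_+ is generated by finitely many elements of degree
one, and X = Proj S. Then every quasi-coherent O_X-module F is isomorphic to M~ for some graded
S-module M (graded in nonnegative degrees). -/
theorem result {R A : Type u} [CommRing R] [CommRing A] [Algebra R A] (𝒜 : ℕ → Submodule R A) [GradedAlgebra 𝒜]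
    (s : Finset A) (hs1 : ∀ f ∈ s, f ∈ 𝒜 1)
    (hs : (HomogeneousIdeal.irrelevant 𝒜).toIdeal = Ideal.span (s : Set A))
    (F : (Proj 𝒜).Modules) (hF : Coh.IsQCoh F) :
    ∃ (M : Type u) (_ : AddCommGroup M) (_ : Module R M) (_ : Module A M) (_ : IsScalarTower R A M)
      (ℳ : ℕ → Submodule R M) (_ : DirectSum.Decomposition ℳ) (_ : SetLike.GradedSMul 𝒜 ℳ),
      Nonempty (GrTilde.tilde 𝒜 ℳ 0 ≅ F) := by
  classical
  haveI : F.IsQuasicoherent := hF
  let f : (↥s : Type u) → 𝒜 1 := fun i => ⟨i.1, hs1 i.1 i.2⟩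
  have hcov : ∀ x : ProjectiveSpectrum 𝒜, ∃ i, (f i).1 ∉ x.asHomogeneousIdeal := by
    intro x
    by_contra hcon
    push Not at hcon
    apply x.not_irrelevant_le
    intro a ha
    have ha' : a ∈ (HomogeneousIdeal.irrelevant 𝒜).toIdeal := ha
    rw [hs] at ha'
    exact (Ideal.span_le.2 (fun b hb => hcon ⟨b, hb⟩)) ha'
  haveI := Groth.Agent.Helper6.GammaStar.isIso_Θ 𝒜 F f hcov
  exact ⟨Groth.Agent.Helper6.GammaStar.GStar 𝒜 F f, inferInstance, inferInstance, inferInstance,
    inferInstance, Groth.Agent.Helper6.GammaStar.gr 𝒜 F f, inferInstance, inferInstance,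
    ⟨(asIso (Groth.Agent.Helper6.GammaStar.Θ 𝒜 F f hcov)).symm⟩⟩

end Groth.Agent.S3550
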