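import Groth.Statements.S3554
import Groth.Agent.Lib.Helper18.AwayBC

set_option autoImplicit false
universe u
open CategoryTheory CategoryTheory.Limits AlgebraicGeometry
open EGA2

namespace Groth.Agent.S3554

/-- Let A' → A be a ring homomorphism, S' a graded A'-algebra and S = S' ⊗_{A'} A with the induced
grading (here: any graded A-algebra S with a graded homomorphism S' → S exhibiting S as the base
change of S'). Then the square formed by Proj S → Proj S', the structure morphisms to Spec A and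
Spec A', and Spec A → Spec A' is cartesian. -/
theorem result {R R' A B : Type u} [CommRing R'] [CommRing R] [Algebra R' R]
    [CommRing B] [Algebra R' B] (ℬ : ℕ → Submodule R' B) [GradedAlgebra ℬ]
    [CommRing A] [Algebra R A] [Algebra R' A] [IsScalarTower R' R A] (𝒜 : ℕ → Submodule R A) [GradedAlgebra 𝒜]
    [Algebra B A] [IsScalarTower R' B A] [Algebra.IsPushout R' R B A]
    (φ : ℬ →+*ᵍ 𝒜) (hφA : ∀ b : B, φ b = algebraMap B A b)
    (hφ : HomogeneousIdeal.irrelevant 𝒜 ≤ (HomogeneousIdeal.irrelevant ℬ).map φ) :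
    IsPullback (Proj.map φ hφ)
      (Proj.toSpecZero 𝒜 ≫ Spec.map (CommRingCat.ofHom (algebraMap R (𝒜 0))))
      (Proj.toSpecZero ℬ ≫ Spec.map (CommRingCat.ofHom (algebraMap R' (ℬ 0))))
      (Spec.map (CommRingCat.ofHom (algebraMap R' R))) := by
  classical
  have hpo : IsPushout (CommRingCat.ofHom (algebraMap R' R)) (CommRingCat.ofHom (algebraMap R' B))
      (CommRingCat.ofHom (algebraMap R A)) (CommRingCat.ofHom (algebraMap B A)) :=
    CommRingCat.isPushout_iff_isPushout.mpr inferInstance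
  have h0 : ∀ a : R', (CommRingCat.ofHom (algebraMap R' B)).hom a ∈ ℬ 0 :=
    fun a => SetLike.algebraMap_mem_graded ℬ a
  have h0' : ∀ a : R, (CommRingCat.ofHom (algebraMap R A)).hom a ∈ 𝒜 0 :=
    fun a => SetLike.algebraMap_mem_graded 𝒜 a
  refine Scheme.isPullback_of_openCover _ _ _ _ (Proj.affineOpenCover ℬ).openCover ?_
  rintro ⟨d, f⟩
  have hpo2 := Groth.Agent.Helper18.AwayBC.isPushout_away
    (CommRingCat.ofHom (algebraMap R' R)) (CommRingCat.ofHom (algebraMap R' B))
    (CommRingCat.ofHom (algebraMap R A)) (CommRingCat.ofHom (algebraMap B A)) hpo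
    ℬ 𝒜 φ hφA h0 h0' f.2
  have hpb2 := isPullback_SpecMap_of_isPushout _ _ _ _ hpo2
  have hpb1 : IsPullback (Spec.map (CommRingCat.ofHom (HomogeneousLocalization.Away.map φ (f : B))))
      (Proj.awayι 𝒜 (φ f) (φ.map_mem f.2) d.pos) (Proj.awayι ℬ (f : B) f.2 d.pos) (Proj.map φ hφ) := by
    refine IsOpenImmersion.isPullback _ _ _ _ (Proj.awayι_comp_map φ hφ d.pos _ f.2) ?_
    rw [Proj.opensRange_awayι, Proj.opensRange_awayι, Proj.map_preimage_basicOpen]
  let e := hpb1.flip.isoPullback
  refine hpb2.of_iso e (Iso.refl _) (Iso.refl _) (Iso.refl _) ?_ ?_ ?_ ?_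
  · exact (Category.comp_id _).trans (hpb1.flip.isoPullback_hom_snd).symm
  · refine (Category.comp_id _).trans ?_
    change _ = e.hom ≫ pullback.fst _ _ ≫ _
    rw [hpb1.flip.isoPullback_hom_fst_assoc, Proj.awayι_toSpecZero_assoc, ← Spec.map_comp]
    rfl
  · refine (Category.comp_id _).trans (Eq.trans ?_ (Category.id_comp _).symm)
    change _ = Proj.awayι ℬ (f : B) f.2 d.pos ≫ _
    rw [Proj.awayι_toSpecZero_assoc, ← Spec.map_comp]
    rfl
  · exact (Category.comp_id _).trans (Category.id_comp _).symm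

end Groth.Agent.S3554
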