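import Groth.Statements.S3555

set_option autoImplicit false
universe u
open CategoryTheory CategoryTheory.Limits AlgebraicGeometry
open EGA2

namespace Groth.Agent.S3555

/-- Let S be a graded ring whose irrelevant ideal S_+ is generated by the degree-one elements, X = Proj
S, and f homogeneous of degree d > 0. Then D_+(f) is the set of points p of X at which the global
section f/1 of O_X(d) does not vanish, i.e. at which its value generates the module of degree-d
fractions at p. -/
theorem result {R A : Type u} [CommRing R] [CommRing A] [Algebra R A] (𝒜 : ℕ → Submodule R A) [GradedAlgebra 𝒜]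
    (hgen : (HomogeneousIdeal.irrelevant 𝒜).toIdeal = Ideal.span (𝒜 1 : Set A))
    {d : ℕ} (hd : 0 < d) (f : 𝒜 d) (p : ProjectiveSpectrum 𝒜) :
    p ∈ ProjectiveSpectrum.basicOpen 𝒜 (f : A) ↔
      Submodule.span (Twist.A0 𝒜 p) {(Twist.globalOf 𝒜 f).1 ⟨p, trivial⟩} = ⊤ := by
  rw [ProjectiveSpectrum.mem_basicOpen]
  constructor
  · intro hfp
    rw [eq_top_iff]
    rintro ⟨q, hq⟩ -
    induction hq using Submodule.span_induction with
    | mem q hq =>
      obtain ⟨i, j, a, s, hs, hij, rfl⟩ := hq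
      rw [Submodule.mem_span_singleton]
      have hdeg : j + d = i := by exact_mod_cast hij.symm
      have hsf : s.1 * f.1 ∉ p.asHomogeneousIdeal := fun hmem =>
        (p.isPrime.mem_or_mem hmem).elim hs hfp
      refine ⟨HomogeneousLocalization.mk ⟨i, ⟨a.1, a.2⟩,
        ⟨s.1 * f.1, hdeg ▸ SetLike.mul_mem_graded s.2 f.2⟩, hsf⟩, ?_⟩
      apply Subtype.ext
      rw [Twist.coe_smul_val, HomogeneousLocalization.val_mk]
      change Localization.mk a.1 ⟨s.1 * f.1, hsf⟩ * Localization.mk f.1 ⟨1, _⟩ =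
        Localization.mk a.1 ⟨s.1, hs⟩
      rw [Localization.mk_mul, Localization.mk_eq_mk_iff, Localization.r_iff_exists]
      refine ⟨1, ?_⟩
      simp only [OneMemClass.coe_one, one_mul, Submonoid.coe_mul, mul_one]
      ring
    | zero => exact zero_mem _
    | add x y hx hy hx' hy' => exact add_mem hx' hy'
    | smul c x hx hx' => exact Submodule.smul_mem _ c hx'
  · intro htop hfp
    obtain ⟨g, hg1, hgp⟩ : ∃ g ∈ 𝒜 1, g ∉ p.asHomogeneousIdeal := by
      by_contra hcon
      push Not at hcon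
      apply p.not_irrelevant_le
      intro a ha
      have ha' : a ∈ Ideal.span (𝒜 1 : Set A) := hgen ▸ ha
      exact (Ideal.span_le.2 (fun g hg => hcon g hg)) ha'
    have hgd : g ^ d ∈ 𝒜 d := by simpa using SetLike.pow_mem_graded d hg1
    have hone : (1 : A) ∉ p.asHomogeneousIdeal := fun h =>
      p.isPrime.ne_top ((Ideal.eq_top_iff_one _).mpr h)
    have hmem : (Localization.mk (g ^ d) ⟨1, hone⟩ : Twist.Loc 𝒜 p) ∈ Twist.twistAt 𝒜 (d : ℤ) p :=
      Submodule.subset_span ⟨d, 0, ⟨g ^ d, hgd⟩, ⟨1, SetLike.GradedOne.one_mem⟩, hone, by simp, rfl⟩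
    have h1 : (⟨_, hmem⟩ : Twist.twistAt 𝒜 (d : ℤ) p) ∈
        Submodule.span (Twist.A0 𝒜 p) {(Twist.globalOf 𝒜 f).1 ⟨p, trivial⟩} := by
      rw [htop]; trivial
    rw [Submodule.mem_span_singleton] at h1
    obtain ⟨c, hc⟩ := h1
    have hc' := congrArg Subtype.val hc
    rw [Twist.coe_smul_val] at hc'
    change c.val * Localization.mk f.1 ⟨1, _⟩ = Localization.mk (g ^ d) ⟨1, hone⟩ at hc'
    have e : ∀ x : A, (Localization.mk x ⟨1, hone⟩ : Twist.Loc 𝒜 p) =
        algebraMap A (Twist.Loc 𝒜 p) x := fun x => Localization.mk_one_eq_algebraMap x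
    have hfm : (Localization.mk f.1 ⟨1, hone⟩ : Twist.Loc 𝒜 p) ∈
        IsLocalRing.maximalIdeal (Twist.Loc 𝒜 p) := by
      rw [e]
      exact (IsLocalization.AtPrime.to_map_mem_maximal_iff _ p.asHomogeneousIdeal.toIdeal _).2 hfp
    have hgm : (Localization.mk (g ^ d) ⟨1, hone⟩ : Twist.Loc 𝒜 p) ∉
        IsLocalRing.maximalIdeal (Twist.Loc 𝒜 p) := by
      rw [e]
      intro hmem'
      have := (IsLocalization.AtPrime.to_map_mem_maximal_iff _ p.asHomogeneousIdeal.toIdeal _).1 hmem'
      exact hgp (p.isPrime.mem_of_pow_mem d this)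
    apply hgm
    rw [← hc']
    exact Ideal.mul_mem_left _ _ hfm

end Groth.Agent.S3555
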