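import Groth.Statements.S3578

set_option autoImplicit false
universe u
open EGA2

namespace Groth.Agent.S3578

/-- Via the correspondence between closed subsets of Proj S and radical graded ideals of S_+: let S be a
graded ring and Z a closed subset of Proj S, with J = S_+ ∩ (vanishing ideal of Z). Then Z is
irreducible if and only if J is a prime ideal of the ring-without-unit S_+: J ≠ S_+ and a product of
two elements of S_+ lies in J only if one factor does. -/
theorem result {R A : Type u} [CommRing R] [CommRing A] [Algebra R A] (𝒜 : ℕ → Submodule R A) [GradedAlgebra 𝒜]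
    (Z : Set (ProjectiveSpectrum 𝒜)) (hZ : IsClosed Z) :
    IsIrreducible Z ↔
      (¬ (HomogeneousIdeal.irrelevant 𝒜).toIdeal ≤ (ProjectiveSpectrum.vanishingIdeal Z).toIdeal ∧
        ∀ f ∈ (HomogeneousIdeal.irrelevant 𝒜).toIdeal, ∀ g ∈ (HomogeneousIdeal.irrelevant 𝒜).toIdeal,
          f * g ∈ (ProjectiveSpectrum.vanishingIdeal Z).toIdeal →
            f ∈ (ProjectiveSpectrum.vanishingIdeal Z).toIdeal ∨ g ∈ (ProjectiveSpectrum.vanishingIdeal Z).toIdeal) := by
  have key : ∀ (p : ProjectiveSpectrum 𝒜) (s : Set A), p ∉ ProjectiveSpectrum.zeroLocus 𝒜 s →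
      ∃ a ∈ (HomogeneousIdeal.irrelevant 𝒜).toIdeal, a ∉ p.asHomogeneousIdeal.toIdeal ∧
        ∀ q ∈ ProjectiveSpectrum.zeroLocus 𝒜 s, a ∈ q.asHomogeneousIdeal.toIdeal := by
    intro p s hp
    rw [ProjectiveSpectrum.mem_zeroLocus, Set.not_subset] at hp
    obtain ⟨a, has, hap⟩ := hp
    obtain ⟨h, hh, hhp⟩ := SetLike.not_le_iff_exists.mp p.not_irrelevant_le
    refine ⟨a * h, Ideal.mul_mem_left _ _ hh, ?_, ?_⟩
    · intro hmem
      rcases p.isPrime.mem_or_mem hmem with h1 | h1
      · exact hap h1
      · exact hhp h1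
    · intro q hq
      rw [ProjectiveSpectrum.mem_zeroLocus] at hq
      exact Ideal.mul_mem_right _ _ (hq has)
  constructor
  · rintro ⟨⟨p, hp⟩, hpre⟩
    refine ⟨fun hle => p.not_irrelevant_le fun f hf => ?_, ?_⟩
    · exact (ProjectiveSpectrum.mem_vanishingIdeal Z f).mp (hle hf) p hp
    · intro f hf g hg hfg
      rw [isPreirreducible_iff_isClosed_union_isClosed] at hpre
      have hcov : Z ⊆ ProjectiveSpectrum.zeroLocus 𝒜 {f} ∪ ProjectiveSpectrum.zeroLocus 𝒜 {g} := by
        intro x hx
        have : f * g ∈ x.asHomogeneousIdeal.toIdeal :=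
          (ProjectiveSpectrum.mem_vanishingIdeal Z _).mp hfg x hx
        rcases x.isPrime.mem_or_mem this with h | h
        · left
          rw [ProjectiveSpectrum.mem_zeroLocus]
          simpa using h
        · right
          rw [ProjectiveSpectrum.mem_zeroLocus]
          simpa using h
      rcases hpre _ _ (ProjectiveSpectrum.isClosed_zeroLocus _ _)
        (ProjectiveSpectrum.isClosed_zeroLocus _ _) hcov with h | h
      · left
        refine (ProjectiveSpectrum.mem_vanishingIdeal Z f).mpr fun x hx => ?_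
        have := h hx
        rw [ProjectiveSpectrum.mem_zeroLocus] at this
        exact this (Set.mem_singleton f)
      · right
        refine (ProjectiveSpectrum.mem_vanishingIdeal Z g).mpr fun x hx => ?_
        have := h hx
        rw [ProjectiveSpectrum.mem_zeroLocus] at this
        exact this (Set.mem_singleton g)
  · rintro ⟨hne, hmul⟩
    refine ⟨?_, ?_⟩
    · by_contra hempty
      rw [Set.not_nonempty_iff_eq_empty] at hempty
      subst hempty
      apply hne
      rw [ProjectiveSpectrum.vanishingIdeal_univ]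
      exact le_top
    · rw [isPreirreducible_iff_isClosed_union_isClosed]
      intro z1 z2 h1 h2 hsub
      by_contra! H
      obtain ⟨H1, H2⟩ := H
      rw [Set.not_subset] at H1 H2
      obtain ⟨p1, hp1Z, hp1⟩ := H1
      obtain ⟨p2, hp2Z, hp2⟩ := H2
      obtain ⟨s1, rfl⟩ := (ProjectiveSpectrum.isClosed_iff_zeroLocus 𝒜 _).mp h1
      obtain ⟨s2, rfl⟩ := (ProjectiveSpectrum.isClosed_iff_zeroLocus 𝒜 _).mp h2
      obtain ⟨a, ha, hap, haq⟩ := key p1 s1 hp1
      obtain ⟨b, hb, hbp, hbq⟩ := key p2 s2 hp2
      have hab : a * b ∈ (ProjectiveSpectrum.vanishingIdeal Z).toIdeal := by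
        refine (ProjectiveSpectrum.mem_vanishingIdeal Z _).mpr fun x hx => ?_
        rcases hsub hx with h | h
        · exact Ideal.mul_mem_right _ _ (haq x h)
        · exact Ideal.mul_mem_left _ _ (hbq x h)
      rcases hmul a ha b hb hab with h | h
      · exact hap ((ProjectiveSpectrum.mem_vanishingIdeal Z _).mp h p1 hp1Z)
      · exact hbp ((ProjectiveSpectrum.mem_vanishingIdeal Z _).mp h p2 hp2Z)

end Groth.Agent.S3578
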