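import Groth.Statements.S3557
import Groth.Agent.Lib.Helper6.ProjRed
import Groth.Agent.Lib.Helper6.ProjNull
import Groth.Agent.S3578

set_option autoImplicit false
universe u
open CategoryTheory CategoryTheory.Limits AlgebraicGeometry
open EGA2

namespace Groth.Agent.S3557

/-- Let S be a graded ring which is essentially reduced (S_+ contains no nonzero nilpotent). Then Proj S
is an integral scheme if and only if S is essentially integral, i.e. S_+ is nonzero and the product
of two nonzero elements of S_+ is nonzero. -/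
theorem result {R A : Type u} [CommRing R] [CommRing A] [Algebra R A] (𝒜 : ℕ → Submodule R A) [GradedAlgebra 𝒜]
    (hred : ∀ f ∈ (HomogeneousIdeal.irrelevant 𝒜).toIdeal, IsNilpotent f → f = 0) :
    AlgebraicGeometry.IsIntegral (Proj 𝒜) ↔
      ((∃ f ∈ (HomogeneousIdeal.irrelevant 𝒜).toIdeal, f ≠ 0) ∧
        ∀ f ∈ (HomogeneousIdeal.irrelevant 𝒜).toIdeal, ∀ g ∈ (HomogeneousIdeal.irrelevant 𝒜).toIdeal,
          f * g = 0 → f = 0 ∨ g = 0) := by
  have hN : ∀ f ∈ (HomogeneousIdeal.irrelevant 𝒜).toIdeal,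
      f ∈ (ProjectiveSpectrum.vanishingIdeal (Set.univ : Set (ProjectiveSpectrum 𝒜))).toIdeal ↔
        f = 0 := by
    intro f hf
    constructor
    · intro hfN
      apply hred f hf
      by_contra hnil
      have hrad : f ∉ (⊥ : Ideal A).radical := by
        intro h
        obtain ⟨n, hn⟩ := h
        exact hnil ⟨n, by simpa using hn⟩
      obtain ⟨p, -, hp⟩ := Groth.Agent.Helper6.exists_projSpec_of_notMem_radical 𝒜 ⊥
        (Ideal.IsHomogeneous.bot 𝒜) f hf hrad
      exact hp ((ProjectiveSpectrum.mem_vanishingIdeal _ f).mp hfN p (Set.mem_univ p))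
    · rintro rfl
      exact Ideal.zero_mem _
  have hS := Groth.Agent.S3578.result 𝒜 (Set.univ : Set (ProjectiveSpectrum 𝒜)) isClosed_univ
  have hred' : AlgebraicGeometry.IsReduced (Proj 𝒜) := Groth.Agent.Helper6.proj_isReduced 𝒜 hred
  have hirr : IrreducibleSpace (Proj 𝒜) ↔
      IsIrreducible (Set.univ : Set (ProjectiveSpectrum 𝒜)) := by
    rw [irreducibleSpace_def]
    rfl
  rw [isIntegral_iff_irreducibleSpace_and_isReduced, and_iff_left hred', hirr, hS]
  constructor
  · rintro ⟨h1, h2⟩
    refine ⟨?_, ?_⟩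
    · obtain ⟨f, hf, hfN⟩ := SetLike.not_le_iff_exists.mp h1
      exact ⟨f, hf, fun h0 => hfN ((hN f hf).mpr h0)⟩
    · intro f hf g hg hfg
      have hfg' : f * g ∈ (ProjectiveSpectrum.vanishingIdeal
          (Set.univ : Set (ProjectiveSpectrum 𝒜))).toIdeal := by
        rw [hfg]; exact Ideal.zero_mem _
      rcases h2 f hf g hg hfg' with h | h
      · exact Or.inl ((hN f hf).mp h)
      · exact Or.inr ((hN g hg).mp h)
  · rintro ⟨⟨f, hf, hf0⟩, h2⟩
    refine ⟨?_, ?_⟩
    · intro hle
      exact hf0 ((hN f hf).mp (hle hf))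
    · intro f hf g hg hfg
      have hfg0 : f * g = 0 := (hN (f * g) (Ideal.mul_mem_left _ _ hg)).mp hfg
      rcases h2 f hf g hg hfg0 with h | h
      · exact Or.inl ((hN f hf).mpr h)
      · exact Or.inr ((hN g hg).mpr h)

end Groth.Agent.S3557
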