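import Groth.Statements.S3558
import Groth.Agent.Lib.Helper6.ProjNull

set_option autoImplicit false
universe u
open CategoryTheory CategoryTheory.Limits AlgebraicGeometry
open EGA2

namespace Groth.Agent.S3558

/-- For a graded ring S, Proj S is empty if and only if every element of the irrelevant ideal S_+ is
nilpotent. -/
theorem result {R A : Type u} [CommRing R] [CommRing A] [Algebra R A] (𝒜 : ℕ → Submodule R A) [GradedAlgebra 𝒜] :
    IsEmpty (Proj 𝒜) ↔ ∀ f ∈ (HomogeneousIdeal.irrelevant 𝒜).toIdeal, IsNilpotent f := by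
  constructor
  · intro hE f hf
    have h := Groth.Agent.Helper6.irrelevant_le_radical_of_forall 𝒜 ⊥
      (Ideal.IsHomogeneous.bot 𝒜) (fun p => (hE.false p).elim)
    obtain ⟨n, hn⟩ := h hf
    exact ⟨n, by simpa using hn⟩
  · intro h
    refine ⟨fun p => ?_⟩
    apply p.not_irrelevant_le
    intro f hf
    have hn := h f hf
    obtain ⟨n, hn⟩ := hn
    have : f ^ n ∈ p.asHomogeneousIdeal.toIdeal := by rw [hn]; exact Ideal.zero_mem _
    exact p.isPrime.mem_of_pow_mem n this

end Groth.Agent.S3558
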