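import Groth.Statements.S3559
import Groth.Agent.Lib.Helper6.ProjNull

set_option autoImplicit false
universe u
open CategoryTheory CategoryTheory.Limits AlgebraicGeometry
open EGA2

namespace Groth.Agent.S3559

/-- Let S be a graded ring and (f_i) a family of homogeneous elements of positive degree. The opens
D_+(f_i) cover Proj S if and only if every element of S_+ has a power in the ideal generated by the
f_i. -/
theorem result {R A : Type u} [CommRing R] [CommRing A] [Algebra R A] (𝒜 : ℕ → Submodule R A) [GradedAlgebra 𝒜]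
    {ι : Type u} (f : ι → A) (hf : ∀ i, ∃ d : ℕ, 0 < d ∧ f i ∈ 𝒜 d) :
    (⨆ i, Proj.basicOpen 𝒜 (f i)) = ⊤ ↔
      (HomogeneousIdeal.irrelevant 𝒜).toIdeal ≤ (Ideal.span (Set.range f)).radical := by
  constructor
  · intro hcov
    apply Groth.Agent.Helper6.irrelevant_le_radical_of_forall 𝒜
    · apply Ideal.homogeneous_span
      rintro _ ⟨i, rfl⟩
      obtain ⟨d, -, hd⟩ := hf i
      exact ⟨d, hd⟩
    · intro p hp
      let q : Proj 𝒜 := p
      have hp' : q ∈ (⊤ : (Proj 𝒜).Opens) := trivial
      rw [← hcov] at hp'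
      obtain ⟨i, hi⟩ := TopologicalSpace.Opens.mem_iSup.mp hp'
      exact hi (hp (Ideal.subset_span ⟨i, rfl⟩))
  · intro h
    refine top_le_iff.mp fun x _ => TopologicalSpace.Opens.mem_iSup.mpr ?_
    by_contra! H
    simp only [Proj.mem_basicOpen, not_not] at H
    refine x.not_irrelevant_le ?_
    have h1 : Ideal.span (Set.range f) ≤ x.asHomogeneousIdeal.toIdeal := by
      rw [Ideal.span_le, Set.range_subset_iff]
      exact H
    have h2 : (Ideal.span (Set.range f)).radical ≤ x.asHomogeneousIdeal.toIdeal :=
      x.isPrime.radical_le_iff.mpr h1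
    exact h.trans h2

end Groth.Agent.S3559
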