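import Groth.Statements.S3560
import Groth.Agent.Lib.Helper6.ProjFG

set_option autoImplicit false
universe u
open CategoryTheory CategoryTheory.Limits AlgebraicGeometry
open EGA2

namespace Groth.Agent.S3560

/-- Let S be a graded ring whose irrelevant ideal S_+ is finitely generated. Then Proj S is empty if and
only if there is n such that S_k = 0 for all k ≥ n. -/
theorem result {R A : Type u} [CommRing R] [CommRing A] [Algebra R A] (𝒜 : ℕ → Submodule R A) [GradedAlgebra 𝒜]
    (hfg : (HomogeneousIdeal.irrelevant 𝒜).toIdeal.FG) :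
    IsEmpty (Proj 𝒜) ↔ ∃ n : ℕ, ∀ k : ℕ, n ≤ k → 𝒜 k = ⊥ := by
  classical
  constructor
  · intro hE
    have h := Groth.Agent.Helper6.irrelevant_le_radical_of_forall 𝒜 ⊥
      (Ideal.IsHomogeneous.bot 𝒜) (fun p => (hE.false p).elim)
    obtain ⟨m, hm⟩ := Ideal.exists_pow_le_of_le_radical_of_fg h hfg
    obtain ⟨T, hThom, hTspan⟩ := Groth.Agent.Helper6.exists_homogeneous_generators 𝒜
      (HomogeneousIdeal.irrelevant 𝒜).toIdeal (HomogeneousIdeal.irrelevant 𝒜).isHomogeneous hfg
    choose! deg hdeg using hThom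
    refine ⟨m * (T.sup deg) + 1, fun k hk => ?_⟩
    rw [Submodule.eq_bot_iff]
    intro x hx
    have h1 := Groth.Agent.Helper6.graded_le_irrelevant_pow 𝒜 T deg hdeg hTspan (T.sup deg)
      (fun t ht => Finset.le_sup ht) m k hk x hx
    have h2 : x ∈ (HomogeneousIdeal.irrelevant 𝒜).toIdeal ^ m :=
      Ideal.pow_le_pow_right (Nat.le_succ m) h1
    exact (Ideal.mem_bot).mp (hm h2)
  · rintro ⟨n, hn⟩
    refine ⟨fun p => ?_⟩
    apply p.not_irrelevant_le
    intro f hf
    rw [← DirectSum.sum_support_decompose 𝒜 f]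
    refine Ideal.sum_mem _ fun i _ => ?_
    by_cases hi : i = 0
    · subst hi
      have h0 : (DirectSum.decompose 𝒜 f 0 : A) = 0 := hf
      rw [h0]
      exact Ideal.zero_mem _
    · have hpos : 0 < i := Nat.pos_of_ne_zero hi
      apply p.isPrime.mem_of_pow_mem n
      have hmem : ((DirectSum.decompose 𝒜 f i : 𝒜 i) : A) ^ n ∈ 𝒜 (n • i) :=
        SetLike.pow_mem_graded n (SetLike.coe_mem _)
      have hle : n ≤ n • i := by
        rw [smul_eq_mul]
        exact Nat.le_mul_of_pos_right n hpos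
      rw [hn _ hle, Submodule.mem_bot] at hmem
      rw [hmem]
      exact Ideal.zero_mem _

end Groth.Agent.S3560
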