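import Groth.Statements.S3570

set_option autoImplicit false
universe u
open CategoryTheory CategoryTheory.Limits AlgebraicGeometry
open EGA2

namespace Groth.Agent.S3570

/-- Let f : X → S and g : Y → S be affine morphisms and h : Y → X an S-morphism. Then h is an
isomorphism if and only if A(h) : f_*O_X → g_*O_Y is an isomorphism (of presheaves of rings on S). -/
theorem result {X Y S : Scheme.{u}} (f : X ⟶ S) [IsAffineHom f] (g : Y ⟶ S)
    [IsAffineHom g] (h : Y ⟶ X) (w : h ≫ f = g) :
    IsIso h ↔ IsIso (AffAlg.algHom f g h w) := by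
  subst w
  have halg : AffAlg.algHom f (h ≫ f) h rfl = (TopCat.Presheaf.pushforward CommRingCat.{u} f.base).map h.c := by
    unfold AffAlg.algHom
    exact Category.comp_id _
  rw [halg]
  constructor
  · intro hiso
    have h1 : IsIso h.c := PresheafedSpace.c_isIso_of_iso h.toPshHom
    exact Functor.map_isIso _ _
  · intro hiso
    have happ : ∀ U : S.Opens, IsIso (h.app (f ⁻¹ᵁ U)) := fun U =>
      @NatIso.isIso_app_of_isIso _ _ _ _ _ _ ((TopCat.Presheaf.pushforward CommRingCat.{u} f.base).map h.c) hiso (Opposite.op U)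
    change (MorphismProperty.isomorphisms Scheme.{u}) h
    refine HasAffineProperty.of_iSup_eq_top (P := MorphismProperty.isomorphisms Scheme.{u})
      (fun U : S.affineOpens => (⟨f ⁻¹ᵁ U.1, U.2.preimage f⟩ : X.affineOpens)) ?_ ?_
    · change ⨆ U : S.affineOpens, f ⁻¹ᵁ U.1 = ⊤
      rw [← Scheme.Hom.preimage_iSup, iSup_affineOpens_eq_top]
      rfl
    · intro U
      refine ⟨U.2.preimage (h ≫ f), ?_⟩
      rw [morphismRestrict_appTop]
      have h2 : IsIso (h.app ((f ⁻¹ᵁ U.1).ι ''ᵁ ⊤)) := by
        rw [Scheme.Opens.ι_image_top]; exact happ U.1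
      have h3 : IsIso (Y.presheaf.map (eqToHom (image_morphismRestrict_preimage h (f ⁻¹ᵁ U.1) ⊤)).op) :=
        Functor.map_isIso _ _
      exact @IsIso.comp_isIso _ _ _ _ _ _ _ h2 h3

end Groth.Agent.S3570
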