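import Groth.Statements.S3583

set_option autoImplicit false
universe u
open CategoryTheory AlgebraicGeometry Opposite
open EGA2

namespace Groth.Agent.S3583

/-- In the form stated after its proof: let f : X → S and f' : X' → S be affine morphisms and h : X' → X
an S-morphism such that the O_S-algebra homomorphism A(h) : f_*O_X → f'_*O_{X'} is surjective (as a
map of quasi-coherent O_S-modules, i.e. on sections over every affine open of S). Then h is a closed
immersion. -/
theorem result {X X' S : Scheme.{u}} (f : X ⟶ S) [IsAffineHom f]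
    (f' : X' ⟶ S) [IsAffineHom f'] (h : X' ⟶ X) (w : h ≫ f = f')
    (hsurj : ∀ U : S.affineOpens, Function.Surjective ((AffAlg.algHom f f' h w).app (op U.1)).hom) :
    IsClosedImmersion h := by
  subst w
  have halg : AffAlg.algHom f (h ≫ f) h rfl = (TopCat.Presheaf.pushforward CommRingCat.{u} f.base).map h.c := by
    unfold AffAlg.algHom
    exact Category.comp_id _
  have happ : ∀ U : S.affineOpens, Function.Surjective (h.app (f ⁻¹ᵁ U.1)).hom := by
    intro U
    have := hsurj U
    rw [halg] at this
    exact this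
  refine HasAffineProperty.of_iSup_eq_top (P := @IsClosedImmersion)
    (fun U : S.affineOpens => (⟨f ⁻¹ᵁ U.1, U.2.preimage f⟩ : X.affineOpens)) ?_ ?_
  · change ⨆ U : S.affineOpens, f ⁻¹ᵁ U.1 = ⊤
    rw [← Scheme.Hom.preimage_iSup, iSup_affineOpens_eq_top]
    rfl
  · intro U
    refine ⟨U.2.preimage (h ≫ f), ?_⟩
    rw [morphismRestrict_appTop]
    have h2 : Function.Surjective (h.app ((f ⁻¹ᵁ U.1).ι ''ᵁ ⊤)).hom := by
      rw [Scheme.Opens.ι_image_top]; exact happ U
    have h3 : IsIso (X'.presheaf.map (eqToHom (image_morphismRestrict_preimage h (f ⁻¹ᵁ U.1) ⊤)).op) :=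
      Functor.map_isIso _ _
    intro y
    obtain ⟨z, hz⟩ := (ConcreteCategory.bijective_of_isIso
      (X'.presheaf.map (eqToHom (image_morphismRestrict_preimage h (f ⁻¹ᵁ U.1) ⊤)).op)).2 y
    obtain ⟨x, hx⟩ := h2 z
    refine ⟨x, ?_⟩
    subst hx
    exact hz

end Groth.Agent.S3583
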