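import Groth.Statements.S3588
import Groth.Agent.Lib.Helper6.ProjDense
import Groth.Agent.Lib.Helper6.ProjMap
import Groth.Agent.Lib.Helper6.ProjRed

set_option autoImplicit false
universe u
open CategoryTheory CategoryTheory.Limits AlgebraicGeometry
open EGA2

namespace Groth.Agent.S3588

/-- Let S be a graded ring, N_+ the set of nilpotent elements of S_+ (an ideal of S), and S → S/N_+ the
quotient (here: any surjective homomorphism of graded rings φ : S → S' whose kernel is N_+). Then
the induced morphism Proj S' → Proj S is a closed immersion which is a homeomorphism of the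
underlying spaces, and Proj S' is reduced; thus Proj S' is the reduced closed subscheme (Proj
S)_red. -/
theorem result {R A : Type u} [CommRing R] [CommRing A] [Algebra R A] (𝒜 : ℕ → Submodule R A) [GradedAlgebra 𝒜]
    {B : Type u} [CommRing B] [Algebra R B] (ℬ : ℕ → Submodule R B) [GradedAlgebra ℬ]
    (φ : 𝒜 →+*ᵍ ℬ) (hsurj : Function.Surjective φ)
    (hker : ∀ a : A, φ a = 0 ↔ a ∈ (HomogeneousIdeal.irrelevant 𝒜).toIdeal ∧ IsNilpotent a)
    (hφ : HomogeneousIdeal.irrelevant ℬ ≤ (HomogeneousIdeal.irrelevant 𝒜).map φ) :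
    IsClosedImmersion (Proj.map φ hφ) ∧ IsHomeomorph (Proj.map φ hφ).base ∧
      AlgebraicGeometry.IsReduced (Proj ℬ) := by
  classical
  have hci : IsClosedImmersion (Proj.map φ hφ) :=
    Groth.Agent.Helper6.proj_map_isClosedImmersion_of_surjective φ hφ hsurj
  have hker' : ∀ a : A, φ a = 0 → IsNilpotent a := fun a ha => ((hker a).mp ha).2
  have hdense : DenseRange (Proj.map φ hφ).base :=
    Groth.Agent.Helper6.proj_map_denseRange φ hφ hker'
  have hce : Topology.IsClosedEmbedding (Proj.map φ hφ).base := (Proj.map φ hφ).isClosedEmbedding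
  refine ⟨hci, ?_, ?_⟩
  · rw [isHomeomorph_iff_isEmbedding_surjective]
    refine ⟨hce.isEmbedding, ?_⟩
    rw [← Set.range_eq_univ, ← hce.isClosed_range.closure_eq]
    exact hdense.closure_eq
  · apply Groth.Agent.Helper6.proj_isReduced
    intro g hg hgn
    obtain ⟨a', rfl⟩ := hsurj g
    set a := a' - (DirectSum.decompose 𝒜 a' 0 : A) with ha
    have hg0 : (DirectSum.decompose ℬ (φ a') 0 : B) = 0 := by
      change φ a' ∈ HomogeneousIdeal.irrelevant ℬ at hg
      rwa [HomogeneousIdeal.mem_irrelevant_iff, GradedRing.proj_apply] at hg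
    have hφa : φ a = φ a' := by
      rw [ha, map_sub, GradedRingHom.map_directSumDecompose, hg0, sub_zero]
    have hairr : a ∈ (HomogeneousIdeal.irrelevant 𝒜).toIdeal := by
      change a ∈ HomogeneousIdeal.irrelevant 𝒜
      rw [HomogeneousIdeal.mem_irrelevant_iff, GradedRing.proj_apply, ha, DirectSum.decompose_sub,
        DirectSum.sub_apply, AddSubgroupClass.coe_sub,
        DirectSum.decompose_coe, DirectSum.of_eq_same, sub_self]
    obtain ⟨n, hn⟩ := hgn
    rw [← hφa, ← map_pow] at hn
    obtain ⟨m, hm⟩ := hker' _ hn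
    have hanil : IsNilpotent a := ⟨n * m, by rw [pow_mul, hm]⟩
    rw [← hφa]
    exact (hker a).mpr ⟨hairr, hanil⟩

end Groth.Agent.S3588
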