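import Groth.Statements.S3621
import Groth.Agent.Lib.Helper8.LOC25
import Groth.Agent.Lib.Helper20.GorFlat3

set_option autoImplicit false
universe u
open CategoryTheory CategoryTheory.Limits AlgebraicGeometry
attribute [local instance] HasDerivedCategory.standard
open Dual3

namespace Groth.Agent.S3621

/-- Let X be a locally Noetherian scheme which has a dualizing complex (exactness instances as in the
definition of dualizing complexes on schemes). Then the set of points x of X whose local ring
O_{X,x} is Gorenstein is open. -/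
theorem result (X : Scheme.{u}) [IsLocallyNoetherian X] [∀ (U V : Scheme.{u}) (j : U ⟶ V) [IsOpenImmersion j], PreservesFiniteLimits (Scheme.Modules.restrictFunctor j)] [∀ (R : CommRingCat.{u}), PreservesFiniteLimits (tilde.functor R)] (K : DCoh.D X) (hK : Dual2.IsDualizingSch X K) : IsOpen {x : X | LocCoh.IsGorensteinLocalRing (X.presheaf.stalk x)} := by
  rw [isOpen_iff_forall_mem_open]
  intro x hx
  let 𝒰 := X.affineOpenCover
  obtain ⟨y, hy⟩ := 𝒰.covers x
  let R : CommRingCat.{u} := 𝒰.X (𝒰.idx x)
  let j : AlgebraicGeometry.Spec (CommRingCat.of R) ⟶ X := 𝒰.f (𝒰.idx x)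
  haveI : AlgebraicGeometry.IsOpenImmersion j := 𝒰.map_prop (𝒰.idx x)
  haveI : IsNoetherianRing R :=
    AlgebraicGeometry.isLocallyNoetherian_Spec.mp
      (AlgebraicGeometry.isLocallyNoetherian_of_isOpenImmersion j)
  obtain ⟨ω, hω, -⟩ := hK R j
  have hopen := Groth.Agent.Helper8.LOC.isOpen_gorensteinLocus ω hω
  have key : ∀ z : PrimeSpectrum R,
      LocCoh.IsGorensteinLocalRing (X.presheaf.stalk (j.base z)) ↔
        LocCoh.IsGorensteinLocalRing (Localization.AtPrime z.asIdeal) := by
    intro z
    let e1 : X.presheaf.stalk (j.base z) ≃+*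
        (AlgebraicGeometry.Spec (CommRingCat.of R)).presheaf.stalk z :=
      (CategoryTheory.asIso (j.stalkMap z)).commRingCatIsoToRingEquiv
    let e2 : Localization.AtPrime z.asIdeal ≃+*
        (AlgebraicGeometry.Spec (CommRingCat.of R)).presheaf.stalk z :=
      (AlgebraicGeometry.StructureSheaf.stalkIso R z).toRingEquiv
    constructor
    · intro h
      haveI := h
      exact Groth.Agent.Helper20.GorFlat.isGorensteinLocalRing_of_ringEquiv (e1.trans e2.symm)
    · intro h
      haveI := h
      exact Groth.Agent.Helper20.GorFlat.isGorensteinLocalRing_of_ringEquiv (e2.trans e1.symm)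
  refine ⟨j.base '' {z : PrimeSpectrum R |
    LocCoh.IsGorensteinLocalRing (Localization.AtPrime z.asIdeal)}, ?_, ?_, ?_⟩
  · rintro _ ⟨z, hz, rfl⟩
    exact (key z).mpr hz
  · exact j.isOpenEmbedding.isOpenMap _ hopen
  · refine ⟨y, (key y).mp ?_, hy⟩
    have hx' : LocCoh.IsGorensteinLocalRing (X.presheaf.stalk x) := hx
    rw [← hy] at hx'
    exact hx'

end Groth.Agent.S3621
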