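import Groth.Statements.S3669
import Mathlib
import Groth.Agent.Lib.Helper29.HomOCntB
import Groth.Agent.Lib.Helper13.QCohStalk

set_option autoImplicit false
universe u
open CategoryTheory CategoryTheory.Limits AlgebraicGeometry
attribute [local instance] HasDerivedCategory.standard
open Dual3

namespace Groth.Agent.S3669

/-- Let i : Z → X be a closed immersion of schemes with ideal sheaf I, Hom(O_Z, -) a right adjoint of
i_* on modules (it exists; here the chosen one) with counit i_* Hom(O_Z, F) → F. Then for every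
O_X-module F and every affine open U ⊆ X, the counit on sections over U, Γ(i⁻¹U, Hom(O_Z, F)) → Γ(U,
F), is injective with image exactly the sections s of F over U with I(U) · s = 0. -/
theorem result (Z X : Scheme.{u}) (i : Z ⟶ X) [IsClosedImmersion i] [Dual3.HasHomO i] (F : X.Modules) (U : X.affineOpens) : Function.Injective ⇑(ConcreteCategory.hom (((Dual3.homOAdj i).counit.app F).val.app (Opposite.op U.1))) ∧ Set.range ⇑(ConcreteCategory.hom (((Dual3.homOAdj i).counit.app F).val.app (Opposite.op U.1))) = ((LocCoh.torsionBy (i.ker.ideal U) (F.val.obj (Opposite.op U.1)) : Submodule Γ(X, U.1) (F.val.obj (Opposite.op U.1))) : Set (F.val.obj (Opposite.op U.1))) := by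
  classical
  haveI := Groth.Agent.Helper29.HomOCntA.mono_counit i F
  have hinj : Function.Injective (((Dual3.homOAdj i).counit.app F).app U.1) :=
    (Groth.Agent.Helper13.QCoh.mono_iff_app_injective
      (φ := (Dual3.homOAdj i).counit.app F)).1 inferInstance U.1
  refine ⟨hinj, ?_⟩
  ext s
  have key := Groth.Agent.Helper29.HomOCntB.range_counit i F U.1 U.2 s
  have hker : ∀ a : Γ(X, U.1), a ∈ i.ker.ideal U ↔ i.app U.1 a = 0 := by
    intro a
    rw [Scheme.Hom.ker_apply]
    exact RingHom.mem_ker
  constructor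
  · rintro ⟨σ, rfl⟩
    have h1 := key.1 ⟨σ, rfl⟩
    show _ ∈ Submodule.torsionBySet _ _ _
    rw [Submodule.mem_torsionBySet_iff]
    rintro ⟨a, ha⟩
    exact h1 a ((hker a).1 ha)
  · intro hs
    have hs' : s ∈ Submodule.torsionBySet Γ(X, U.1) (F.val.obj (Opposite.op U.1))
        ((i.ker.ideal U : Ideal Γ(X, U.1)) : Set Γ(X, U.1)) := hs
    have hs'' : ∀ a : ((i.ker.ideal U : Ideal Γ(X, U.1)) : Set Γ(X, U.1)),
        (a : Γ(X, U.1)) • (show F.val.obj (Opposite.op U.1) from s) = 0 :=
      (Submodule.mem_torsionBySet_iff _ _).1 hs'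
    obtain ⟨σ, hσ⟩ := key.2 (fun a ha => hs'' ⟨a, (hker a).2 ha⟩)
    exact ⟨σ, hσ⟩


end Groth.Agent.S3669
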