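import Groth.Statements.S3707
import Mathlib.AlgebraicGeometry.Morphisms.IsIso

set_option autoImplicit false
universe u
open SGA1

namespace Groth.Agent.S3707

open AlgebraicGeometry CategoryTheory CategoryTheory.Limits in
/-- Let g : S' -> S be a surjective morphism of schemes, X and Y schemes over S with Y unramified over S
(formally unramified and locally of finite type), and X', Y' their base changes to S'. Then the map
sending an S-morphism X -> Y to the induced S'-morphism X' -> Y' is injective. -/
theorem result {S S' X Y : Scheme.{u}} (g : S' ⟶ S) [Surjective g]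
    (p : X ⟶ S) (q : Y ⟶ S) [FormallyUnramified q] [LocallyOfFiniteType q]
    (u v : X ⟶ Y) (hu : p ≫ 𝟙 S = u ≫ q) (hv : p ≫ 𝟙 S = v ≫ q)
    (h : pullback.map p g q g u (𝟙 S') (𝟙 S) hu ((Category.comp_id _).trans (Category.id_comp _).symm) =
      pullback.map p g q g v (𝟙 S') (𝟙 S) hv ((Category.comp_id _).trans (Category.id_comp _).symm)) :
    u = v := by
  have huv : u ≫ q = v ≫ q := hu.symm.trans hv
  have hΔ : IsOpenImmersion (pullback.diagonal q) := inferInstance
  let w : X ⟶ pullback q q := pullback.lift u v huv
  have hw1 : w ≫ pullback.fst q q = u := pullback.lift_fst _ _ _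
  have hw2 : w ≫ pullback.snd q q = v := pullback.lift_snd _ _ _
  have hfst : IsOpenImmersion (pullback.fst w (pullback.diagonal q)) := inferInstance
  -- the two composites agree
  have ht : pullback.fst p g ≫ u = pullback.fst p g ≫ v := by
    have h1 := congrArg (fun m => m ≫ pullback.fst q g) h
    simp only [pullback.map] at h1
    rw [pullback.lift_fst, pullback.lift_fst] at h1
    exact h1
  have hlift : pullback.fst p g ≫ w = (pullback.fst p g ≫ u) ≫ pullback.diagonal q := by
    apply pullback.hom_ext
    · rw [Category.assoc, hw1, Category.assoc, pullback.diagonal_fst, Category.comp_id]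
    · rw [Category.assoc, hw2, Category.assoc, pullback.diagonal_snd, Category.comp_id, ht]
  let l : pullback p g ⟶ pullback w (pullback.diagonal q) :=
    pullback.lift (pullback.fst p g) (pullback.fst p g ≫ u) hlift
  have hl : l ≫ pullback.fst w (pullback.diagonal q) = pullback.fst p g := pullback.lift_fst _ _ _
  have hsurj' : Surjective (pullback.fst p g) := inferInstance
  have hsurj : Surjective (pullback.fst w (pullback.diagonal q)) := by
    constructor
    intro x
    obtain ⟨x', rfl⟩ := (pullback.fst p g).surjective x
    refine ⟨l x', ?_⟩
    rw [← Scheme.Hom.comp_apply, hl]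
  have hiso : IsIso (pullback.fst w (pullback.diagonal q)) :=
    (isIso_iff_isOpenImmersion_and_surjective _).mpr ⟨hfst, hsurj⟩
  have hc := pullback.condition (f := w) (g := pullback.diagonal q)
  have h1 : pullback.fst w (pullback.diagonal q) ≫ u = pullback.snd w (pullback.diagonal q) := by
    have := congrArg (fun m => m ≫ pullback.fst q q) hc
    simp only [Category.assoc] at this
    rwa [hw1, pullback.diagonal_fst, Category.comp_id] at this
  have h2 : pullback.fst w (pullback.diagonal q) ≫ v = pullback.snd w (pullback.diagonal q) := by
    have := congrArg (fun m => m ≫ pullback.snd q q) hc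
    simp only [Category.assoc] at this
    rwa [hw2, pullback.diagonal_snd, Category.comp_id] at this
  rw [← cancel_epi (pullback.fst w (pullback.diagonal q)), h1, h2]

end Groth.Agent.S3707
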