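import Groth.Statements.S3754
import Groth.Agent.Lib.Helper20.KRRReg4

set_option autoImplicit false
universe v u
open CategoryTheory CategoryTheory.Limits AlgebraicGeometry
attribute [local instance] HasDerivedCategory.standard
open KRR

namespace Groth.Agent.S3754


theorem result (n : ℕ) (Y : Scheme.{u}) [IsNoetherian Y]
    (F : (KRR.PY n Y).Modules) (hF : Coh.IsCoh F) (hreg : KRR.IsRegSheaf n Y F) :
    (∀ m : ℕ, KRR.IsRegSheaf n Y (KRR.twF n Y (m : ℤ) F)) ∧
    ∀ i : ℕ, 1 ≤ i → IsZero ((Coh.RpushAb (KRR.pr n Y) i).obj (Coh.toAb F)) := by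
  exact ⟨fun m => Groth.Agent.Helper20.KRRReg.isRegSheaf_twF n Y F hreg m,
    fun i hi => Groth.Agent.Helper20.KRRReg.isZero_RpushAb_of_isRegSheaf n Y F hreg i hi⟩

end Groth.Agent.S3754
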