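import Groth.Statements.S3755
import Groth.Agent.Lib.Helper20.PullReg3

set_option autoImplicit false
universe v u
open CategoryTheory CategoryTheory.Limits AlgebraicGeometry
attribute [local instance] HasDerivedCategory.standard
open KRR

namespace Groth.Agent.S3755


theorem result (n : ℕ) (Y : Scheme.{u}) [IsNoetherian Y]
    (F : (KRR.PY n Y).Modules) (hF : Coh.IsCoh F) (hreg : KRR.IsRegSheaf n Y F) :
    Epi ((Scheme.Modules.pullbackPushforwardAdjunction (KRR.pr n Y)).counit.app F) ∧
    KRR.IsRegSheaf n Y (KRR.twF n Y 1 (kernel ((Scheme.Modules.pullbackPushforwardAdjunction (KRR.pr n Y)).counit.app F))) := by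
  haveI : IsLocallyNoetherian Y := inferInstance
  exact ⟨Groth.Agent.Helper20.KRRCounit.epi_counit n Y F hF.1 hreg,
    Groth.Agent.Helper20.PullReg.isRegSheaf_twF_one_kernel_counit n Y F hF hreg⟩

end Groth.Agent.S3755
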