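import Groth.Statements.S3781
import Groth.Agent.Lib.Helper6.LamDet

set_option autoImplicit false
universe v u
open CategoryTheory CategoryTheory.Limits AlgebraicGeometry
attribute [local instance] HasDerivedCategory.standard
open KRR

namespace Groth.Agent.S3781

/-- Let K be a λ-ring with positive structure having the splitting property, L its group of line
elements and F^n the γ-filtration. Assume moreover that the inverse of a line element is a line
element and that for a positive e with ε(e) = r the element det e = λ^r(e) is positive (hence a line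
element); these are part of the published setting but are not implied by the axioms used here, so
they are hypotheses. Then u ↦ u − 1 induces an isomorphism L ≅ Gr^1 K = F^1/F^2: every x ∈ F^1 is
congruent modulo F^2 to u − 1 for some line element u, and line elements u, v with u − v ∈ F^2 are
equal. -/
theorem result (K : Type v) [CommRing K] [LambdaRing.LambdaOps K] (P : LambdaRing.PosStructure K) (hK : LambdaRing.HasSplitting K P)
    (hLinv : ∀ w : K, P.IsLine w → ∃ w' : K, P.IsLine w' ∧ w * w' = 1)
    (hdet : ∀ e : K, e ∈ P.pos → LambdaRing.LambdaOps.lam (P.aug e).toNat e ∈ P.pos) :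
    (∀ x : K, x ∈ LambdaRing.gammaFiltration P 1 → ∃ u : K, P.IsLine u ∧ x - (u - 1) ∈ LambdaRing.gammaFiltration P 2) ∧
    ∀ u v : K, P.IsLine u → P.IsLine v → u - v ∈ LambdaRing.gammaFiltration P 2 → u = v := by
  obtain ⟨C, hKC, hC⟩ := hK
  have hC' : Groth.Agent.Helper5.Lam.SplitClass C := hC
  constructor
  · intro x hx
    have h0 : P.aug x = 0 :=
      Groth.Agent.Helper6.LamDet.aug_of_mem_filt_one hC' (L := ⟨K, P⟩) hKC hx
    exact Groth.Agent.Helper6.LamDet.exists_line_of_aug hC' (L := ⟨K, P⟩) hKC hLinv hdet x h0
  · intro u v hu hv huv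
    obtain ⟨v', hv', hinv⟩ := hLinv v hv
    have hw : P.IsLine (u * v') := Groth.Agent.Helper5.Lam.isLine_mul P hu hv'
    have h1 : u * v' - 1 ∈ LambdaRing.gammaFiltration P 2 := by
      have e1 : u * v' - 1 = v' * (u - v) := by linear_combination hinv
      rw [e1]
      exact Groth.Agent.Helper6.LamGam.smul_mem_filt P v' huv
    have h2 : u * v' = 1 :=
      Groth.Agent.Helper6.LamDet.line_eq_one_of_sub_mem hC' (L := ⟨K, P⟩) hKC hw h1
    calc u = u * (v * v') := by rw [hinv, mul_one]
      _ = (u * v') * v := by ring
      _ = v := by rw [h2, one_mul]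

end Groth.Agent.S3781
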