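import Groth.Statements.S3795
import Groth.Agent.Lib.Helper6.LamGam4

set_option autoImplicit false
universe v u
open CategoryTheory CategoryTheory.Limits AlgebraicGeometry
attribute [local instance] HasDerivedCategory.standard
open KRR

namespace Groth.Agent.S3795

/-- Let K be a λ-ring with positive structure having the splitting property, j ≥ 2, n ≥ 0 and x ∈ K. If
ψ^j(x) - j^n x lies in ℚF^{n+1} (some positive multiple lies in F^{n+1}, γ-filtration), then x lies
in ℚF^n (some positive multiple of x lies in F^n). -/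
theorem result (K : Type v) [CommRing K] [LambdaRing.LambdaOps K] (P : LambdaRing.PosStructure K) (hK : LambdaRing.HasSplitting K P) (j : ℕ) (hj : 2 ≤ j) (n : ℕ) (x : K)
    (hx : ∃ N : ℕ, 1 ≤ N ∧ (N : K) * (LambdaRing.adams P j x - (j : K) ^ n * x) ∈ LambdaRing.gammaFiltration P (n + 1)) :
    ∃ N : ℕ, 1 ≤ N ∧ (N : K) * x ∈ LambdaRing.gammaFiltration P n := by
  obtain ⟨C, hKC, hC⟩ := hK
  obtain ⟨N, hN1, hN⟩ := hx
  have claim : ∀ k : ℕ, k ≤ n → ∃ M : ℕ, 1 ≤ M ∧ (M : K) * x ∈ LambdaRing.gammaFiltration P k := by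
    intro k
    induction k with
    | zero =>
      intro _
      refine ⟨1, le_refl _, ?_⟩
      rw [Groth.Agent.S3291.filt_zero]
      exact AddSubgroup.mem_top _
    | succ k ih =>
      intro hk
      obtain ⟨M, hM1, hM⟩ := ih (by omega)
      have h1 : LambdaRing.adams P j ((M : K) * x) - (j : K) ^ k * ((M : K) * x) ∈
          LambdaRing.gammaFiltration P (k + 1) :=
        Groth.Agent.Helper6.LamGam.adams_sub_mem hC (L := ⟨K, P⟩) hKC k _ hM
      have h2 : LambdaRing.adams P j ((M : K) * x) = (M : K) * LambdaRing.adams P j x := by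
        have e1 : LambdaRing.adams P j ((M : K) * x) =
            LambdaRing.adams P j (M : K) * LambdaRing.adams P j x :=
          Groth.Agent.Helper5.Lam.adams_mul hC ⟨K, P⟩ hKC j _ _
        have e2 : LambdaRing.adams P j (M : K) = (M : K) :=
          Groth.Agent.Helper6.LamGam.adams_natCast hC ⟨K, P⟩ hKC j M
        rw [e1, e2]
      have h3 := Groth.Agent.Helper6.LamGam.filt_anti P (by omega : k + 1 ≤ n + 1) hN
      have hlt : j ^ k < j ^ n := Nat.pow_lt_pow_right (by omega) (by omega)
      refine ⟨N * M * (j ^ n - j ^ k), ?_, ?_⟩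
      · have h4 : 1 ≤ j ^ n - j ^ k := by omega
        calc 1 = 1 * 1 * 1 := by norm_num
          _ ≤ N * M * (j ^ n - j ^ k) := Nat.mul_le_mul (Nat.mul_le_mul hN1 hM1) h4
      · have e : ((N * M * (j ^ n - j ^ k) : ℕ) : K) * x =
            (N : K) * (LambdaRing.adams P j ((M : K) * x) - (j : K) ^ k * ((M : K) * x)) -
            (M : K) * ((N : K) * (LambdaRing.adams P j x - (j : K) ^ n * x)) := by
          rw [h2, Nat.cast_mul, Nat.cast_mul, Nat.cast_sub hlt.le, Nat.cast_pow, Nat.cast_pow]
          ring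
        rw [e]
        exact AddSubgroup.sub_mem _ (Groth.Agent.Helper6.LamGam.smul_mem_filt P _ h1)
          (Groth.Agent.Helper6.LamGam.smul_mem_filt P _ h3)
  exact claim n le_rfl

end Groth.Agent.S3795
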