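import Groth.Statements.S3804
import Groth.Agent.Lib.Helper6.LamARR4

set_option autoImplicit false
universe v u
open CategoryTheory CategoryTheory.Limits AlgebraicGeometry
attribute [local instance] HasDerivedCategory.standard
open scoped TensorProduct
open KRR

namespace Groth.Agent.S3804

/-- For the model elementary projection: let K be a λ-ring with positive structure having the splitting
property, e positive with ε(e) = r + 1, K_e = K[T]/(p_e) with generator ℓ (a unit, inverse linv),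
carrying a λ-structure extending that of K with λ^i(ℓ) = 0 for i ≥ 2 and a positive structure making
K ⟶ K_e an extension with ℓ a line element and e - ℓ positive (when r ≥ 1), having the splitting
property, and with F^N K_e = 0 for some N (the published statement assumes instead that 1 - u is
nilpotent for all line elements u of the rings in play). Let f : K_e ⟶ K be the associated K-linear
functional (f(ℓ^i) = σ^i(e), i ≤ r) and j ≥ 1. The published statement's hypothesis 'j invertible in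
K' is read here after tensoring with R = ℤ[1/j] (no λ-ring with an augmentation onto ℤ has j
invertible for j ≥ 2). Then 1 ⊗ θ^j(e ℓ⁻¹) is invertible in R ⊗ K_e, and for every inverse w of it
and every x ∈ K_e: 1 ⊗ ψ^j(f(x)) = (R ⊗ f)(j · w · (1 ⊗ ψ^j(x))) in R ⊗ K. -/
theorem result (K : Type v) [CommRing K] [LambdaRing.LambdaOps K] (P : LambdaRing.PosStructure K) (hK : LambdaRing.HasSplitting K P) (e : K) (he : e ∈ P.pos) (r : ℕ) (hr : P.aug e = r + 1)
    (inst : LambdaRing.LambdaOps (AdjoinRoot (KRR.extPoly P e))) (Pe : @LambdaRing.PosStructure _ _ inst)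
    (hext : @LambdaRing.IsExtension K _ _ _ _ inst P Pe (AdjoinRoot.of (KRR.extPoly P e)))
    (hroot : ∀ i : ℕ, 2 ≤ i → @LambdaRing.LambdaOps.lam _ _ inst i (AdjoinRoot.root (KRR.extPoly P e)) = 0)
    (hline : @LambdaRing.PosStructure.IsLine _ _ inst Pe (AdjoinRoot.root (KRR.extPoly P e)))
    (hpos : 1 ≤ r → AdjoinRoot.of (KRR.extPoly P e) e - AdjoinRoot.root (KRR.extPoly P e) ∈ (@LambdaRing.PosStructure.pos _ _ inst Pe))
    (hsplit : @LambdaRing.HasSplitting _ _ inst Pe) (N : ℕ) (hN : @LambdaRing.gammaFiltration _ _ inst Pe N = ⊥)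
    (f : AdjoinRoot (KRR.extPoly P e) →ₗ[K] K)
    (hf : ∀ i : ℕ, i ≤ r → f (AdjoinRoot.root (KRR.extPoly P e) ^ i) = KRR.sigma i e)
    (linv : AdjoinRoot (KRR.extPoly P e)) (hlinv : linv * AdjoinRoot.root (KRR.extPoly P e) = 1)
    (j : ℕ) (hj : 1 ≤ j) :
    (∃ w : TensorProduct ℤ (Localization.Away (j : ℤ)) (AdjoinRoot (KRR.extPoly P e)), w * ((1 : Localization.Away (j : ℤ)) ⊗ₜ[ℤ] @KRR.bott _ _ inst Pe j (AdjoinRoot.of (KRR.extPoly P e) e * linv)) = 1) ∧
    ∀ w : TensorProduct ℤ (Localization.Away (j : ℤ)) (AdjoinRoot (KRR.extPoly P e)), w * ((1 : Localization.Away (j : ℤ)) ⊗ₜ[ℤ] @KRR.bott _ _ inst Pe j (AdjoinRoot.of (KRR.extPoly P e) e * linv)) = 1 →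
      ∀ x : AdjoinRoot (KRR.extPoly P e),
        (1 : Localization.Away (j : ℤ)) ⊗ₜ[ℤ] LambdaRing.adams P j (f x) =
          LinearMap.lTensor (Localization.Away (j : ℤ)) f.toAddMonoidHom.toIntLinearMap
            ((j : TensorProduct ℤ (Localization.Away (j : ℤ)) (AdjoinRoot (KRR.extPoly P e))) * w * ((1 : Localization.Away (j : ℤ)) ⊗ₜ[ℤ] @LambdaRing.adams _ _ inst Pe j x)) := by
  letI := inst
  obtain ⟨CK, hKC, hCK⟩ := hK
  obtain ⟨CA, hAC, hCA⟩ := hsplit
  have hCK' : Groth.Agent.Helper5.Lam.SplitClass CK := hCK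
  have hCA' : Groth.Agent.Helper5.Lam.SplitClass CA := hCA
  have hext' : LambdaRing.IsExtension P Pe (algebraMap K (AdjoinRoot (KRR.extPoly P e))) := hext
  have hfall : ∀ i, f (AdjoinRoot.root (KRR.extPoly P e) ^ i) = KRR.sigma i e :=
    Groth.Agent.Helper6.LamExt.functional_pow P e he r hr f hf
  have hrel : Polynomial.aeval (AdjoinRoot.root (KRR.extPoly P e)) (KRR.extPoly P e) = 0 := by
    rw [AdjoinRoot.aeval_eq, AdjoinRoot.mk_self]
  have hspan : ∀ x : AdjoinRoot (KRR.extPoly P e), ∃ q : Polynomial K,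
      x = Polynomial.aeval (AdjoinRoot.root (KRR.extPoly P e)) q := by
    intro x
    obtain ⟨q, rfl⟩ := AdjoinRoot.mk_surjective x
    exact ⟨q, (AdjoinRoot.aeval_eq q).symm⟩
  constructor
  · exact Groth.Agent.Helper6.LamARR.exists_inv_bott P Pe ⟨CA, hAC, hCA⟩ hext' e he r hr
      (AdjoinRoot.root (KRR.extPoly P e)) linv hline hlinv N hN j hj
  · intro w hw x
    obtain ⟨L', hL', φ, hφ, s, hs, hsum⟩ := hCK ⟨K, P⟩ hKC e he
    have hflat : Module.Flat ℤ (Localization.Away (j : ℤ)) := by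
      have h0 := IsLocalization.flat (R := ℤ) (Localization.Away (j : ℤ)) (Submonoid.powers (j : ℤ))
      have e0 : (AddCommGroup.toIntModule (Localization.Away (j : ℤ)) :
          Module ℤ (Localization.Away (j : ℤ))) = Algebra.toModule := Subsingleton.elim _ _
      rw [e0]; exact h0
    letI : Algebra ℤ (Localization.Away (j : ℤ)) := Ring.toIntAlgebra _
    letI instT : CommRing (Localization.Away (j : ℤ) ⊗[ℤ] AdjoinRoot (KRR.extPoly P e)) := inferInstance
    letI instTK : CommRing (Localization.Away (j : ℤ) ⊗[ℤ] K) := inferInstance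
    letI instB : CommRing (Localization.Away (j : ℤ) ⊗[ℤ] L'.carrier) := inferInstance
    let iR : Localization.Away (j : ℤ) →+* Localization.Away (j : ℤ) ⊗[ℤ] AdjoinRoot (KRR.extPoly P e) :=
      (Algebra.TensorProduct.includeLeft : Localization.Away (j : ℤ) →ₐ[ℤ]
        Localization.Away (j : ℤ) ⊗[ℤ] AdjoinRoot (KRR.extPoly P e)).toRingHom
    let iA : AdjoinRoot (KRR.extPoly P e) →+*
        Localization.Away (j : ℤ) ⊗[ℤ] AdjoinRoot (KRR.extPoly P e) :=
      (Algebra.TensorProduct.includeRight : AdjoinRoot (KRR.extPoly P e) →ₐ[ℤ]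
        Localization.Away (j : ℤ) ⊗[ℤ] AdjoinRoot (KRR.extPoly P e)).toRingHom
    let jR : Localization.Away (j : ℤ) →+* Localization.Away (j : ℤ) ⊗[ℤ] K :=
      (Algebra.TensorProduct.includeLeft : Localization.Away (j : ℤ) →ₐ[ℤ]
        Localization.Away (j : ℤ) ⊗[ℤ] K).toRingHom
    let iK : K →+* Localization.Away (j : ℤ) ⊗[ℤ] K :=
      (Algebra.TensorProduct.includeRight : K →ₐ[ℤ] Localization.Away (j : ℤ) ⊗[ℤ] K).toRingHom
    let F : Localization.Away (j : ℤ) ⊗[ℤ] AdjoinRoot (KRR.extPoly P e) →+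
        Localization.Away (j : ℤ) ⊗[ℤ] K :=
      (LinearMap.lTensor (Localization.Away (j : ℤ)) f.toAddMonoidHom.toIntLinearMap).toAddMonoidHom
    let bR : Localization.Away (j : ℤ) →+* Localization.Away (j : ℤ) ⊗[ℤ] L'.carrier :=
      (Algebra.TensorProduct.includeLeft : Localization.Away (j : ℤ) →ₐ[ℤ]
        Localization.Away (j : ℤ) ⊗[ℤ] L'.carrier).toRingHom
    let bK : L'.carrier →+* Localization.Away (j : ℤ) ⊗[ℤ] L'.carrier :=
      (Algebra.TensorProduct.includeRight : L'.carrier →ₐ[ℤ]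
        Localization.Away (j : ℤ) ⊗[ℤ] L'.carrier).toRingHom
    let β : Localization.Away (j : ℤ) ⊗[ℤ] K →+* Localization.Away (j : ℤ) ⊗[ℤ] L'.carrier :=
      (Algebra.TensorProduct.map (AlgHom.id ℤ (Localization.Away (j : ℤ))) φ.toIntAlgHom).toRingHom
    have hβinj : Function.Injective β := by
      have h1 : Function.Injective (LinearMap.lTensor (Localization.Away (j : ℤ))
          φ.toAddMonoidHom.toIntLinearMap) :=
        Module.Flat.lTensor_preserves_injective_linearMap _ hφ.injective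
      intro a b hab
      apply h1
      have e1 : ∀ y : Localization.Away (j : ℤ) ⊗[ℤ] K, β y =
          LinearMap.lTensor (Localization.Away (j : ℤ)) φ.toAddMonoidHom.toIntLinearMap y := by
        intro y
        induction y using TensorProduct.induction_on with
        | zero => simp
        | tmul a b => rfl
        | add a b ha hb => rw [map_add, ha, hb, map_add]
      rw [← e1, ← e1]
      exact hab
    have hspanT : ∀ y : Localization.Away (j : ℤ) ⊗[ℤ] AdjoinRoot (KRR.extPoly P e),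
        y ∈ AddSubmonoid.closure {z | ∃ ρ x, z = iR ρ * iA x} := by
      intro y
      induction y using TensorProduct.induction_on with
      | zero => exact AddSubmonoid.zero_mem _
      | tmul ρ x =>
        apply AddSubmonoid.subset_closure
        refine ⟨ρ, x, ?_⟩
        show ρ ⊗ₜ[ℤ] x = (ρ ⊗ₜ[ℤ] 1) * ((1 : Localization.Away (j : ℤ)) ⊗ₜ[ℤ] x)
        rw [Algebra.TensorProduct.tmul_mul_tmul, mul_one, one_mul]
      | add a b ha hb => exact AddSubmonoid.add_mem _ ha hb
    have hF : ∀ ρ x, F (iR ρ * iA x) = jR ρ * iK (f x) := by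
      intro ρ x
      show LinearMap.lTensor (Localization.Away (j : ℤ)) f.toAddMonoidHom.toIntLinearMap
        ((ρ ⊗ₜ[ℤ] 1) * ((1 : Localization.Away (j : ℤ)) ⊗ₜ[ℤ] x)) =
        (ρ ⊗ₜ[ℤ] (1 : K)) * ((1 : Localization.Away (j : ℤ)) ⊗ₜ[ℤ] f x)
      simp only [Algebra.TensorProduct.tmul_mul_tmul, mul_one, one_mul, LinearMap.lTensor_tmul]
      rfl
    have hTlift : ∀ (S : Type v) [CommRing S] (g₁ : Localization.Away (j : ℤ) →+* S)
        (g₂ : AdjoinRoot (KRR.extPoly P e) →+* S),
        ∃ Γ : Localization.Away (j : ℤ) ⊗[ℤ] AdjoinRoot (KRR.extPoly P e) →+* S,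
          (∀ ρ, Γ (iR ρ) = g₁ ρ) ∧ ∀ x, Γ (iA x) = g₂ x := by
      intro S _ g₁ g₂
      refine ⟨(Algebra.TensorProduct.lift g₁.toIntAlgHom g₂.toIntAlgHom
        (fun _ _ => Commute.all _ _)).toRingHom, ?_, ?_⟩
      · intro ρ
        show Algebra.TensorProduct.lift g₁.toIntAlgHom g₂.toIntAlgHom _ (ρ ⊗ₜ[ℤ] 1) = g₁ ρ
        rw [Algebra.TensorProduct.lift_tmul]
        simp
      · intro x
        show Algebra.TensorProduct.lift g₁.toIntAlgHom g₂.toIntAlgHom _
          ((1 : Localization.Away (j : ℤ)) ⊗ₜ[ℤ] x) = g₂ x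
        rw [Algebra.TensorProduct.lift_tmul]
        simp
    have hβR : ∀ ρ, β (jR ρ) = bR ρ := by
      intro ρ
      show Algebra.TensorProduct.map (AlgHom.id ℤ (Localization.Away (j : ℤ))) φ.toIntAlgHom
        (ρ ⊗ₜ[ℤ] (1 : K)) = ρ ⊗ₜ[ℤ] (1 : L'.carrier)
      rw [Algebra.TensorProduct.map_tmul]
      simp
    have hβK : ∀ c, β (iK c) = bK (φ c) := by
      intro c
      show Algebra.TensorProduct.map (AlgHom.id ℤ (Localization.Away (j : ℤ))) φ.toIntAlgHom
        ((1 : Localization.Away (j : ℤ)) ⊗ₜ[ℤ] c) = (1 : Localization.Away (j : ℤ)) ⊗ₜ[ℤ] φ c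
      rw [Algebra.TensorProduct.map_tmul]
      simp
    have hlift : ∀ a : L'.carrier, Polynomial.eval₂ φ a (KRR.extPoly P e) = 0 →
        ∃ χ : AdjoinRoot (KRR.extPoly P e) →+* L'.carrier,
          χ (AdjoinRoot.root (KRR.extPoly P e)) = a ∧
          ∀ c, χ (algebraMap K (AdjoinRoot (KRR.extPoly P e)) c) = φ c :=
      fun a ha => ⟨AdjoinRoot.lift φ a ha, AdjoinRoot.lift_root ha, fun c => AdjoinRoot.lift_of ha⟩
    have hw' : w * iA (KRR.bott Pe j (algebraMap K (AdjoinRoot (KRR.extPoly P e)) e * linv)) = 1 := hw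
    have hpow : ∀ i : ℕ, iK (LambdaRing.adams P j (f (AdjoinRoot.root (KRR.extPoly P e) ^ i))) =
        F ((j : Localization.Away (j : ℤ) ⊗[ℤ] AdjoinRoot (KRR.extPoly P e)) * w *
          iA (LambdaRing.adams Pe j (AdjoinRoot.root (KRR.extPoly P e) ^ i))) := by
      intro i
      rw [hfall i, Groth.Agent.Helper5.Lam.adams_line Pe
        (Groth.Agent.Helper5.Lam.isLine_pow Pe hline i) j, ← pow_mul]
      exact Groth.Agent.Helper6.LamARR.key_pow P hCK' L' hL' φ hφ e r hr s hs hsum Pe hCA' hAC hext'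
        (AdjoinRoot.root (KRR.extPoly P e)) linv hline hlinv hrel hlift f hfall j hj iR iA jR iK F
        hspanT hF hTlift bR bK β hβinj hβR hβK w hw' i
    have hfin := Groth.Agent.Helper6.LamARR.semilinear_reduction P hCK' hKC Pe hCA' hAC hext'
      (AdjoinRoot.root (KRR.extPoly P e)) hspan f j iR iA jR iK F hspanT hF w hpow x
    exact hfin

end Groth.Agent.S3804
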