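import Groth.Statements.S3807
import Groth.Agent.Lib.Helper6.PP16BC
import Mathlib.RingTheory.Localization.BaseChange

set_option autoImplicit false
universe u
open scoped TensorProduct
attribute [local instance] PP16.mapAlgebra PP16.isScalarTower_mapAlgebra
open PP16

namespace Groth.Agent.S3807

/-- Let B be an A-algebra, S a multiplicative subset of B and B' = S⁻¹B. Then the canonical map
S⁻¹P^n_{B/A} → P^n_{B'/A} induced by functoriality is an isomorphism: P^n_{B'/A} is the localization
of P^n_{B/A} at the image of S. -/
theorem result (n : ℕ) (A B B' : Type u) [CommRing A] [CommRing B] [Algebra A B]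
    [CommRing B'] [Algebra B B'] [Algebra A B'] [IsScalarTower A B B'] (S : Submonoid B) [IsLocalization S B'] :
    IsLocalization (S.map (algebraMap B (PP16.P n A B))) (PP16.P n A B') := by
  have hpo : Algebra.IsPushout B (PP16.P n A B) B' (PP16.P n A B') := by
    obtain ⟨gR, hgRB, hgRA⟩ := Groth.Agent.Helper6.exists_lift_of_isLocalization (A := A) (B := B)
      (B' := B') (P := PP16.P n A B) S n (PP16.dn n A B) (PP16.augIdeal n A B)
      (Groth.Agent.Helper6.augIdeal_pow_eq_bot n A B)
      (Groth.Agent.Helper6.dn_sub_algebraMap_mem_augIdeal n A B)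
    exact Groth.Agent.Helper6.isPushout_of_epi_of_lift n A B A B'
      (fun C _ f g h1 _ => IsLocalization.ringHom_ext S h1) gR hgRB hgRA
  exact (Algebra.isLocalization_iff_isPushout S B').mpr hpo

end Groth.Agent.S3807
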