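import Groth.Statements.S3808
import Mathlib.RingTheory.Localization.BaseChange

set_option autoImplicit false
universe u
open scoped TensorProduct
open PP16

namespace Groth.Agent.S3808

/-- Let A → B be a ring map, R a multiplicative subset of A, S one of B containing the image of R, and
A' = R⁻¹A, B' = S⁻¹B with the induced map A' → B'. Then the canonical map P^n_{B'/A} → P^n_{B'/A'}
is bijective. -/
theorem result (n : ℕ) (A B A' B' : Type u) [CommRing A] [CommRing B] [Algebra A B]
    [CommRing A'] [CommRing B'] [Algebra A A'] [Algebra B B'] [Algebra A' B'] [Algebra A B']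
    [IsScalarTower A A' B'] [IsScalarTower A B B'] (R : Submonoid A) (S : Submonoid B) [IsLocalization R A']
    [IsLocalization S B'] (hRS : ∀ r ∈ R, algebraMap A B r ∈ S) :
    Function.Bijective (PP16.map n A B' A' B') := by
  have hcomp := IsLocalization.tensorProduct_compatibleSMul R A' B' B'
  let e : B' ⊗[A'] B' ≃ₐ[A'] B' ⊗[A] B' := IsLocalization.algebraTensorEquiv R A' B' B'
  have he : ∀ b c : B', e (b ⊗ₜ[A'] c) = b ⊗ₜ[A] c := fun b c => rfl
  have hte : ∀ x, e (PP16.tensorMap A B' A' B' x) = x := by
    intro x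
    induction x using TensorProduct.induction_on with
    | zero => simp
    | tmul b c => rw [PP16.tensorMap_tmul]; simp [he]
    | add x y hx hy => simp [hx, hy]
  have het : ∀ y, PP16.tensorMap A B' A' B' (e y) = y := by
    intro y
    induction y using TensorProduct.induction_on with
    | zero => simp
    | tmul b c => rw [he, PP16.tensorMap_tmul]; simp
    | add x y hx hy => simp [hx, hy]
  have hI : Ideal.map (e : B' ⊗[A'] B' →+* B' ⊗[A] B') (KaehlerDifferential.ideal A' B') ≤
      KaehlerDifferential.ideal A B' := by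
    rw [← KaehlerDifferential.span_range_eq_ideal, Ideal.map_span, Ideal.span_le]
    rintro _ ⟨_, ⟨s, rfl⟩, rfl⟩
    change e _ ∈ _
    rw [map_sub, he, he]
    exact KaehlerDifferential.one_smul_sub_smul_one_mem_ideal A _
  constructor
  · rw [injective_iff_map_eq_zero]
    intro x hx
    obtain ⟨x, rfl⟩ := Ideal.Quotient.mk_surjective x
    rw [PP16.map_mk, Ideal.Quotient.eq_zero_iff_mem] at hx
    rw [Ideal.Quotient.eq_zero_iff_mem]
    have h2 := Ideal.mem_map_of_mem (e : B' ⊗[A'] B' →+* B' ⊗[A] B') hx
    rw [Ideal.map_pow] at h2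
    have h3 := Ideal.pow_right_mono hI (n + 1) h2
    change e _ ∈ _ at h3
    rwa [hte] at h3
  · intro y
    obtain ⟨y, rfl⟩ := Ideal.Quotient.mk_surjective y
    exact ⟨Ideal.Quotient.mk _ (e y), by rw [PP16.map_mk, het]⟩

end Groth.Agent.S3808
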