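import Groth.Statements.S3809
import Groth.Agent.Lib.Helper6.PP16

set_option autoImplicit false
universe u
open scoped TensorProduct
open PP16

namespace Groth.Agent.S3809

/-- Let A → B → C be ring maps. Then the canonical map P^n_{C/A} → P^n_{C/B} is surjective, and its
kernel is the ideal generated by the image, under the canonical map P^n_{B/A} → P^n_{C/A}, of the
augmentation ideal of P^n_{B/A}. -/
theorem result (n : ℕ) (A B C : Type u) [CommRing A] [CommRing B] [CommRing C]
    [Algebra A B] [Algebra B C] [Algebra A C] [IsScalarTower A B C] :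
    Function.Surjective (PP16.map n A C B C) ∧
      RingHom.ker (PP16.map n A C B C) = (PP16.augIdeal n A B).map (PP16.map n A B A C) := by
  have hsurj : Function.Surjective (algebraMap C C) := fun c => ⟨c, rfl⟩
  obtain ⟨h1, h2⟩ := Groth.Agent.Helper6.map_surjective_ker n A C B C hsurj
  refine ⟨h1, ?_⟩
  rw [h2, Groth.Agent.Helper6.ker_tensorMap_tower, PP16.augIdeal]
  have e1 : Ideal.map (Ideal.Quotient.mk (KaehlerDifferential.ideal A C ^ (n + 1)))
      (Ideal.map (PP16.tensorMap A B A C) (KaehlerDifferential.ideal A B)) =
      Ideal.map ((Ideal.Quotient.mk (KaehlerDifferential.ideal A C ^ (n + 1))).comp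
        (PP16.tensorMap A B A C).toRingHom) (KaehlerDifferential.ideal A B) :=
    Ideal.map_map _ _
  have e2 : Ideal.map (PP16.map n A B A C)
      (Ideal.map (Ideal.Quotient.mk (KaehlerDifferential.ideal A B ^ (n + 1)))
        (KaehlerDifferential.ideal A B)) =
      Ideal.map ((PP16.map n A B A C).toRingHom.comp
        (Ideal.Quotient.mk (KaehlerDifferential.ideal A B ^ (n + 1))))
        (KaehlerDifferential.ideal A B) :=
    Ideal.map_map _ _
  rw [e1, e2]
  rfl

end Groth.Agent.S3809
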