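import Groth.Statements.S3810
import Groth.Agent.Lib.Helper6.PP16

set_option autoImplicit false
universe u
open scoped TensorProduct
open PP16

namespace Groth.Agent.S3810

/-- Let B be an A-algebra, K an ideal of B and C = B/K. Then the canonical map P^n_{B/A} → P^n_{C/A} is
surjective and its kernel is the ideal generated by the image of K under the structure map B →
P^n_{B/A} together with the image of K under the principal-part map d^n (the latter is an additive
subgroup, not a B-submodule, in general). -/
theorem result (n : ℕ) (A B : Type u) [CommRing A] [CommRing B] [Algebra A B]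
    (K : Ideal B) :
    Function.Surjective (PP16.map n A B A (B ⧸ K)) ∧
      RingHom.ker (PP16.map n A B A (B ⧸ K)) =
        K.map (algebraMap B (PP16.P n A B)) ⊔ K.map (PP16.dn n A B) := by
  have hsurj : Function.Surjective (algebraMap B (B ⧸ K)) := Ideal.Quotient.mk_surjective
  obtain ⟨h1, h2⟩ := Groth.Agent.Helper6.map_surjective_ker n A B A (B ⧸ K) hsurj
  refine ⟨h1, ?_⟩
  rw [h2]
  let f : B →ₐ[A] B ⧸ K := IsScalarTower.toAlgHom A B (B ⧸ K)
  have hf : Function.Surjective f := hsurj
  have hT : PP16.tensorMap A B A (B ⧸ K) = Algebra.TensorProduct.map f f := by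
    apply Algebra.TensorProduct.ext'
    intro b c
    rw [PP16.tensorMap_tmul]
    rfl
  have hker : RingHom.ker f = K := by
    ext x
    rw [RingHom.mem_ker]
    exact Ideal.Quotient.eq_zero_iff_mem
  have hk := Algebra.TensorProduct.map_ker f f hf hf
  rw [hker] at hk
  have hk' : RingHom.ker (PP16.tensorMap A B A (B ⧸ K) : B ⊗[A] B →+* (B ⧸ K) ⊗[A] (B ⧸ K)) =
      K.map (Algebra.TensorProduct.includeLeft : B →ₐ[A] B ⊗[A] B) ⊔
        K.map (Algebra.TensorProduct.includeRight : B →ₐ[A] B ⊗[A] B) := by
    rw [← hk, hT]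
    rfl
  rw [hk', Ideal.map_sup]
  congr 1
  · exact Ideal.map_map (Algebra.TensorProduct.includeLeft : B →ₐ[A] B ⊗[A] B).toRingHom
      (Ideal.Quotient.mk (KaehlerDifferential.ideal A B ^ (n + 1)))
  · exact Ideal.map_map (Algebra.TensorProduct.includeRight : B →ₐ[A] B ⊗[A] B).toRingHom
      (Ideal.Quotient.mk (KaehlerDifferential.ideal A B ^ (n + 1)))

end Groth.Agent.S3810
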