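import Groth.Statements.S3811
import Groth.Agent.Lib.Helper6.PP16

set_option autoImplicit false
universe u
open scoped TensorProduct
open PP16

namespace Groth.Agent.S3811

/-- Let B be an A-algebra with an A-algebra retraction g : B → A, and K the kernel of g. The composite
of d^n : B → P^n_{B/A} with the projection P^n_{B/A} → P^n_{B/A} / K P^n_{B/A} (base change of
P^n_{B/A} along g) is surjective with kernel K^(n+1); thus P^n_{B/A} ⊗_B A is identified with
B/K^(n+1), the class of d^n t corresponding to the class of t. -/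
theorem result (n : ℕ) (A B : Type u) [CommRing A] [CommRing B] [Algebra A B]
    (g : B →ₐ[A] A) :
    Function.Surjective ((Ideal.Quotient.mk ((RingHom.ker g).map (algebraMap B (PP16.P n A B)))).comp
        (PP16.dn n A B).toRingHom) ∧
      RingHom.ker ((Ideal.Quotient.mk ((RingHom.ker g).map (algebraMap B (PP16.P n A B)))).comp
        (PP16.dn n A B).toRingHom) = RingHom.ker g ^ (n + 1) := by
  set K := RingHom.ker g with hK
  -- θ : B ⊗ B → B, b ⊗ c ↦ g b • c
  let θ : B ⊗[A] B →ₐ[A] B :=
    Algebra.TensorProduct.lift ((Algebra.ofId A B).comp g) (AlgHom.id A B) (fun _ _ => Commute.all _ _)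
  have hθ : ∀ b c : B, θ (b ⊗ₜ c) = algebraMap A B (g b) * c := fun b c => by
    simp [θ, Algebra.TensorProduct.lift_tmul, Algebra.ofId_apply]
  have hθsurj : Function.Surjective (θ : B ⊗[A] B →+* B) := fun b =>
    ⟨1 ⊗ₜ b, by change θ _ = _; rw [hθ, map_one, map_one, one_mul]⟩
  have hgK : ∀ b : B, b - algebraMap A B (g b) ∈ K := fun b => by
    rw [hK, RingHom.mem_ker, map_sub, AlgHom.commutes, Algebra.algebraMap_self, RingHom.id_apply,
      sub_self]
  have hθI : (KaehlerDifferential.ideal A B).map (θ : B ⊗[A] B →+* B) = K := by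
    apply le_antisymm
    · rw [Ideal.map_le_iff_le_comap, ← KaehlerDifferential.span_range_eq_ideal, Ideal.span_le]
      rintro _ ⟨b, rfl⟩
      change θ _ ∈ K
      rw [map_sub, hθ, hθ, map_one, map_one, one_mul, mul_one]
      exact hgK b
    · intro k hk
      have hk0 : g k = 0 := hk
      have : k = (θ : B ⊗[A] B →+* B) ((1 : B) ⊗ₜ[A] k - k ⊗ₜ[A] (1 : B)) := by
        change k = θ _
        rw [map_sub, hθ, hθ, hk0, map_one, map_one, map_zero, one_mul, zero_mul, sub_zero]
      rw [this]
      exact Ideal.mem_map_of_mem _ (KaehlerDifferential.one_smul_sub_smul_one_mem_ideal A k)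
  -- kernel of θ
  have hkerθ : RingHom.ker (θ : B ⊗[A] B →+* B) =
      K.map (Algebra.TensorProduct.includeLeft : B →ₐ[A] B ⊗[A] B) := by
    have hgs : Function.Surjective g := fun a => ⟨algebraMap A B a, by simp⟩
    have h1 := Algebra.TensorProduct.rTensor_ker (R := A) (S := A) (C := B) g hgs
    rw [← hK] at h1
    rw [← h1]
    ext x
    rw [RingHom.mem_ker, RingHom.mem_ker]
    have h2 : (θ : B ⊗[A] B →+* B) x =
        Algebra.TensorProduct.lid A B (Algebra.TensorProduct.map g (AlgHom.id A B) x) := by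
      change θ x = _
      induction x using TensorProduct.induction_on with
      | zero => simp
      | tmul b c => rw [hθ]; simp [Algebra.smul_def]
      | add x y hx hy => simp only [map_add, hx, hy]
    rw [h2]
    exact (Algebra.TensorProduct.lid A B).map_eq_zero_iff
  -- induced map on P
  let θbar : PP16.P n A B →+* B ⧸ K ^ (n + 1) :=
    Ideal.Quotient.lift _ ((Ideal.Quotient.mk (K ^ (n + 1))).comp (θ : B ⊗[A] B →+* B)) (by
      intro x hx
      rw [RingHom.comp_apply, Ideal.Quotient.eq_zero_iff_mem, ← hθI, ← Ideal.map_pow]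
      exact Ideal.mem_map_of_mem _ hx)
  have hθbar : ∀ x, θbar (Ideal.Quotient.mk _ x) = Ideal.Quotient.mk _ ((θ : B ⊗[A] B →+* B) x) :=
    fun x => rfl
  obtain ⟨hs, hk⟩ := Groth.Agent.Helper6.quotientPow_surjective_ker (θ : B ⊗[A] B →+* B) hθsurj hθI
    θbar hθbar
  rw [hkerθ] at hk
  have hk' : RingHom.ker θbar = K.map (algebraMap B (PP16.P n A B)) := by
    rw [hk]
    exact Ideal.map_map (Algebra.TensorProduct.includeLeft : B →ₐ[A] B ⊗[A] B).toRingHom
      (Ideal.Quotient.mk (KaehlerDifferential.ideal A B ^ (n + 1)))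
  have hdn : ∀ b : B, θbar (PP16.dn n A B b) = Ideal.Quotient.mk _ b := by
    intro b
    change θbar (Ideal.Quotient.mk _ ((1 : B) ⊗ₜ[A] b)) = _
    rw [hθbar]
    change Ideal.Quotient.mk _ (θ _) = _
    rw [hθ, map_one, map_one, one_mul]
  constructor
  · intro y
    obtain ⟨p, rfl⟩ := Ideal.Quotient.mk_surjective y
    obtain ⟨b, hb⟩ := Ideal.Quotient.mk_surjective (θbar p)
    refine ⟨b, ?_⟩
    rw [RingHom.comp_apply]
    apply Ideal.Quotient.eq.mpr
    rw [← hk', RingHom.mem_ker, map_sub]
    change θbar (PP16.dn n A B b) - _ = 0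
    rw [hdn, hb, sub_self]
  · ext b
    rw [RingHom.mem_ker, RingHom.comp_apply, Ideal.Quotient.eq_zero_iff_mem, ← hk', RingHom.mem_ker]
    change θbar (PP16.dn n A B b) = 0 ↔ _
    rw [hdn, Ideal.Quotient.eq_zero_iff_mem]

end Groth.Agent.S3811
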