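import Groth.Statements.S3812
import Groth.Agent.Lib.Helper6.PP16

set_option autoImplicit false
universe u
open scoped TensorProduct
open PP16

namespace Groth.Agent.S3812

/-- Let B = A[T_i] be a polynomial algebra. There is an isomorphism of B-algebras from P^n_{B/A} onto
B[U_i]/(U)^(n+1), where (U) is the ideal generated by the new indeterminates, sending the principal
part d^n T_i to the class of T_i + U_i for every i (so d^n F(T) goes to the class of F(T + U)). -/
theorem result (n : ℕ) (A : Type u) [CommRing A] (σ : Type u) :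
    ∃ e : PP16.P n A (MvPolynomial σ A) ≃ₐ[MvPolynomial σ A]
        (MvPolynomial σ (MvPolynomial σ A) ⧸
          Ideal.span (Set.range (MvPolynomial.X : σ → MvPolynomial σ (MvPolynomial σ A))) ^ (n + 1)),
      ∀ i : σ, e (PP16.dn n A (MvPolynomial σ A) (MvPolynomial.X i)) =
        Ideal.Quotient.mk _ (MvPolynomial.C (MvPolynomial.X i : MvPolynomial σ A) +
          (MvPolynomial.X i : MvPolynomial σ (MvPolynomial σ A))) := by
  classical
  let g : MvPolynomial σ A →ₐ[A] MvPolynomial σ (MvPolynomial σ A) :=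
    MvPolynomial.aeval (fun i => MvPolynomial.C (MvPolynomial.X i) + MvPolynomial.X i)
  let Θ : MvPolynomial σ A ⊗[A] MvPolynomial σ A →ₐ[MvPolynomial σ A]
      MvPolynomial σ (MvPolynomial σ A) :=
    Algebra.TensorProduct.lift (Algebra.ofId (MvPolynomial σ A) (MvPolynomial σ (MvPolynomial σ A)))
      g (fun _ _ => Commute.all _ _)
  let Θinv : MvPolynomial σ (MvPolynomial σ A) →ₐ[MvPolynomial σ A]
      MvPolynomial σ A ⊗[A] MvPolynomial σ A :=
    MvPolynomial.aeval (fun i => (1 : MvPolynomial σ A) ⊗ₜ[A] (MvPolynomial.X i : MvPolynomial σ A) -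
      (MvPolynomial.X i : MvPolynomial σ A) ⊗ₜ[A] (1 : MvPolynomial σ A))
  have hΘ : ∀ b c, Θ (b ⊗ₜ c) = MvPolynomial.C b * g c := fun b c => by
    simp [Θ, Algebra.TensorProduct.lift_tmul, Algebra.ofId_apply, MvPolynomial.algebraMap_eq]
  have hgX : ∀ i, g (MvPolynomial.X i) = MvPolynomial.C (MvPolynomial.X i) + MvPolynomial.X i :=
    fun i => by simp [g]
  have h1 : Θ.comp Θinv = AlgHom.id _ _ := by
    apply MvPolynomial.algHom_ext
    intro i
    simp only [AlgHom.comp_apply, Θinv, MvPolynomial.aeval_X, map_sub, hΘ, hgX, map_one, one_mul,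
      mul_one, AlgHom.id_apply]
    ring
  have h2 : Θinv.comp Θ = AlgHom.id _ _ := by
    apply Algebra.TensorProduct.ext
    · ext
    · apply MvPolynomial.algHom_ext
      intro i
      simp only [AlgHom.comp_apply, AlgHom.restrictScalars_apply,
        Algebra.TensorProduct.includeRight_apply, hΘ, hgX, map_one, one_mul, map_add, AlgHom.id_apply,
        Θinv, MvPolynomial.aeval_X, MvPolynomial.aeval_C, Algebra.TensorProduct.algebraMap_apply,
        Algebra.algebraMap_self, RingHom.id_apply]
      ring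
  let Θr : MvPolynomial σ A ⊗[A] MvPolynomial σ A →+* MvPolynomial σ (MvPolynomial σ A) :=
    Θ.toRingHom
  have hΘsurj : Function.Surjective Θr := fun y =>
    ⟨Θinv y, congrArg (fun f : _ →ₐ[MvPolynomial σ A] _ => f y) h1⟩
  have hΘinj : Function.Injective Θr := fun x y hxy => by
    have hx := congrArg (fun f : _ →ₐ[MvPolynomial σ A] _ => f x) h2
    have hy := congrArg (fun f : _ →ₐ[MvPolynomial σ A] _ => f y) h2
    simp only [AlgHom.comp_apply, AlgHom.id_apply] at hx hy
    rw [← hx, ← hy]
    exact congrArg Θinv (hxy : Θ x = Θ y)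
  have hI : (KaehlerDifferential.ideal A (MvPolynomial σ A)).map Θr =
      Ideal.span (Set.range (MvPolynomial.X : σ → MvPolynomial σ (MvPolynomial σ A))) := by
    apply le_antisymm
    · rw [Ideal.map_le_iff_le_comap, ← KaehlerDifferential.span_range_eq_ideal, Ideal.span_le]
      rintro _ ⟨b, rfl⟩
      change Θ _ ∈ Ideal.span (Set.range (MvPolynomial.X : σ → MvPolynomial σ (MvPolynomial σ A)))
      rw [map_sub, hΘ, hΘ, map_one, map_one, one_mul, mul_one]
      induction b using MvPolynomial.induction_on with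
      | C a =>
        have : g (MvPolynomial.C a) = MvPolynomial.C (MvPolynomial.C a) := by
          simp [g, MvPolynomial.algebraMap_eq]
        rw [this, sub_self]
        exact Ideal.zero_mem _
      | add p q hp hq =>
        rw [map_add, map_add, add_sub_add_comm]
        exact Ideal.add_mem _ hp hq
      | mul_X p i hp =>
        rw [map_mul, map_mul, hgX]
        have : g p * (MvPolynomial.C (MvPolynomial.X i) + MvPolynomial.X i) -
            MvPolynomial.C p * MvPolynomial.C (MvPolynomial.X i) =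
            (g p - MvPolynomial.C p) * (MvPolynomial.C (MvPolynomial.X i) + MvPolynomial.X i) +
              MvPolynomial.C p * MvPolynomial.X i := by ring
        rw [this]
        refine Ideal.add_mem _ (Ideal.mul_mem_right _ _ hp) (Ideal.mul_mem_left _ _ ?_)
        exact Ideal.subset_span ⟨i, rfl⟩
    · rw [Ideal.span_le]
      rintro _ ⟨i, rfl⟩
      have : (MvPolynomial.X i : MvPolynomial σ (MvPolynomial σ A)) =
          Θr ((1 : MvPolynomial σ A) ⊗ₜ[A] (MvPolynomial.X i : MvPolynomial σ A) -
            (MvPolynomial.X i : MvPolynomial σ A) ⊗ₜ[A] (1 : MvPolynomial σ A)) := by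
        change _ = Θ _
        rw [map_sub, hΘ, hΘ, hgX, map_one, map_one, one_mul, mul_one]
        ring
      rw [this]
      exact Ideal.mem_map_of_mem _ (KaehlerDifferential.one_smul_sub_smul_one_mem_ideal A _)
  let ψ : PP16.P n A (MvPolynomial σ A) →ₐ[MvPolynomial σ A]
      (MvPolynomial σ (MvPolynomial σ A) ⧸
        Ideal.span (Set.range (MvPolynomial.X : σ → MvPolynomial σ (MvPolynomial σ A))) ^ (n + 1)) :=
    Ideal.Quotient.liftₐ _ ((Ideal.Quotient.mkₐ (MvPolynomial σ A) _).comp Θ) (by
      intro x hx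
      rw [AlgHom.comp_apply, Ideal.Quotient.mkₐ_eq_mk, Ideal.Quotient.eq_zero_iff_mem, ← hI,
        ← Ideal.map_pow]
      exact Ideal.mem_map_of_mem _ hx)
  have hψ : ∀ x, ψ (Ideal.Quotient.mk _ x) = Ideal.Quotient.mk _ (Θr x) := fun x => rfl
  obtain ⟨hs, hk⟩ := Groth.Agent.Helper6.quotientPow_surjective_ker Θr hΘsurj hI ψ hψ
  have hinj : Function.Injective ψ := by
    have hkerΘ : RingHom.ker Θr = ⊥ := (RingHom.injective_iff_ker_eq_bot Θr).mp hΘinj
    rw [hkerΘ, Ideal.map_bot] at hk
    rw [injective_iff_map_eq_zero]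
    intro x hx
    have hx' : x ∈ RingHom.ker ψ := hx
    rw [hk] at hx'
    exact hx'
  refine ⟨AlgEquiv.ofBijective ψ ⟨hinj, hs⟩, ?_⟩
  intro i
  change ψ (Ideal.Quotient.mk _ ((1 : MvPolynomial σ A) ⊗ₜ[A] (MvPolynomial.X i : MvPolynomial σ A))) = _
  rw [hψ]
  change Ideal.Quotient.mk _ (Θ _) = _
  rw [hΘ, hgX, map_one, one_mul]

end Groth.Agent.S3812
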