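import Groth.Statements.S3813
import Groth.Agent.Lib.Helper6.PP16

set_option autoImplicit false
universe u
open scoped TensorProduct
open PP16

namespace Groth.Agent.S3813

/-- Let E be an A-module, B = Sym_A(E) its symmetric algebra and K the augmentation ideal of B (the
kernel of the A-algebra map B → A killing E). For every n there is an isomorphism of B-algebras from
P^n_{B/A} onto B ⊗_A (B/K^(n+1)) sending the principal part d^n t of an element t of E to t ⊗ 1 + 1
⊗ (class of t). -/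
theorem result (n : ℕ) (A : Type u) [CommRing A] (E : Type u) [AddCommGroup E]
    [Module A E] :
    ∃ e : PP16.P n A (SymmetricAlgebra A E) ≃ₐ[SymmetricAlgebra A E]
        (SymmetricAlgebra A E ⊗[A] (SymmetricAlgebra A E ⧸
          RingHom.ker (SymmetricAlgebra.lift (0 : E →ₗ[A] A)) ^ (n + 1))),
      ∀ t : E, e (PP16.dn n A (SymmetricAlgebra A E) (SymmetricAlgebra.ι A E t)) =
        SymmetricAlgebra.ι A E t ⊗ₜ 1 + 1 ⊗ₜ Ideal.Quotient.mk _ (SymmetricAlgebra.ι A E t) := by
  classical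
  let ε : SymmetricAlgebra A E →ₐ[A] A := SymmetricAlgebra.lift (0 : E →ₗ[A] A)
  let incL : SymmetricAlgebra A E →ₐ[A] SymmetricAlgebra A E ⊗[A] SymmetricAlgebra A E :=
    Algebra.TensorProduct.includeLeft
  let incR : SymmetricAlgebra A E →ₐ[A] SymmetricAlgebra A E ⊗[A] SymmetricAlgebra A E :=
    Algebra.TensorProduct.includeRight
  let Δ : SymmetricAlgebra A E →ₐ[A] SymmetricAlgebra A E ⊗[A] SymmetricAlgebra A E :=
    SymmetricAlgebra.lift (incL.toLinearMap ∘ₗ SymmetricAlgebra.ι A E +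
      incR.toLinearMap ∘ₗ SymmetricAlgebra.ι A E)
  let Δ' : SymmetricAlgebra A E →ₐ[A] SymmetricAlgebra A E ⊗[A] SymmetricAlgebra A E :=
    SymmetricAlgebra.lift (incR.toLinearMap ∘ₗ SymmetricAlgebra.ι A E -
      incL.toLinearMap ∘ₗ SymmetricAlgebra.ι A E)
  have hΔ : ∀ t : E, Δ (SymmetricAlgebra.ι A E t) =
      SymmetricAlgebra.ι A E t ⊗ₜ 1 + 1 ⊗ₜ SymmetricAlgebra.ι A E t := fun t => by
    simp [Δ, incL, incR]
  have hΔ' : ∀ t : E, Δ' (SymmetricAlgebra.ι A E t) =
      1 ⊗ₜ SymmetricAlgebra.ι A E t - SymmetricAlgebra.ι A E t ⊗ₜ 1 := fun t => by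
    simp [Δ', incL, incR]
  let Θ : SymmetricAlgebra A E ⊗[A] SymmetricAlgebra A E →ₐ[SymmetricAlgebra A E]
      SymmetricAlgebra A E ⊗[A] SymmetricAlgebra A E :=
    Algebra.TensorProduct.lift (Algebra.ofId _ _) Δ (fun _ _ => Commute.all _ _)
  let Θinv : SymmetricAlgebra A E ⊗[A] SymmetricAlgebra A E →ₐ[SymmetricAlgebra A E]
      SymmetricAlgebra A E ⊗[A] SymmetricAlgebra A E :=
    Algebra.TensorProduct.lift (Algebra.ofId _ _) Δ' (fun _ _ => Commute.all _ _)
  have hΘ : ∀ b c, Θ (b ⊗ₜ c) = (b ⊗ₜ 1) * Δ c := fun b c => by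
    simp [Θ, Algebra.TensorProduct.lift_tmul, Algebra.ofId_apply]
  have hΘinv : ∀ b c, Θinv (b ⊗ₜ c) = (b ⊗ₜ 1) * Δ' c := fun b c => by
    simp [Θinv, Algebra.TensorProduct.lift_tmul, Algebra.ofId_apply]
  have h1 : Θ.comp Θinv = AlgHom.id _ _ := by
    apply Algebra.TensorProduct.ext
    · ext
    · apply SymmetricAlgebra.algHom_ext
      ext t
      change Θ (Θinv (1 ⊗ₜ SymmetricAlgebra.ι A E t)) = 1 ⊗ₜ SymmetricAlgebra.ι A E t
      rw [hΘinv, hΔ', map_mul, map_sub, hΘ, hΘ, hΘ, hΔ, map_one]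
      rw [← Algebra.TensorProduct.one_def]
      ring
  have h2 : Θinv.comp Θ = AlgHom.id _ _ := by
    apply Algebra.TensorProduct.ext
    · ext
    · apply SymmetricAlgebra.algHom_ext
      ext t
      change Θinv (Θ (1 ⊗ₜ SymmetricAlgebra.ι A E t)) = 1 ⊗ₜ SymmetricAlgebra.ι A E t
      rw [hΘ, hΔ, map_mul, map_add, hΘinv, hΘinv, hΘinv, hΔ', map_one]
      rw [← Algebra.TensorProduct.one_def]
      ring
  let Θr : SymmetricAlgebra A E ⊗[A] SymmetricAlgebra A E →+*
      SymmetricAlgebra A E ⊗[A] SymmetricAlgebra A E := Θ.toRingHom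
  have hΘsurj : Function.Surjective Θr := fun y =>
    ⟨Θinv y, congrArg (fun f : _ →ₐ[SymmetricAlgebra A E] _ => f y) h1⟩
  have hΘinj : Function.Injective Θr := fun x y hxy => by
    have hx := congrArg (fun f : _ →ₐ[SymmetricAlgebra A E] _ => f x) h2
    have hy := congrArg (fun f : _ →ₐ[SymmetricAlgebra A E] _ => f y) h2
    simp only [AlgHom.comp_apply, AlgHom.id_apply] at hx hy
    rw [← hx, ← hy]
    exact congrArg Θinv (hxy : Θ x = Θ y)
  have hει : ∀ t : E, ε (SymmetricAlgebra.ι A E t) = 0 := fun t => by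
    simp [ε]
  have hIJ : (KaehlerDifferential.ideal A (SymmetricAlgebra A E)).map Θr =
      (RingHom.ker ε).map incR := by
    apply le_antisymm
    · rw [Ideal.map_le_iff_le_comap, ← KaehlerDifferential.span_range_eq_ideal, Ideal.span_le]
      rintro _ ⟨b, rfl⟩
      change Θ _ ∈ (RingHom.ker ε).map incR
      rw [map_sub, hΘ, hΘ, map_one, ← Algebra.TensorProduct.one_def, one_mul, mul_one]
      induction b using SymmetricAlgebra.induction with
      | algebraMap r =>
        rw [AlgHom.commutes, Algebra.TensorProduct.algebraMap_apply, sub_self]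
        exact Ideal.zero_mem _
      | ι t =>
        rw [hΔ, add_sub_cancel_left]
        exact Ideal.mem_map_of_mem incR (hει t : SymmetricAlgebra.ι A E t ∈ RingHom.ker ε)
      | mul a b ha hb =>
        have : Δ (a * b) - (a * b) ⊗ₜ[A] (1 : SymmetricAlgebra A E) =
            Δ a * (Δ b - b ⊗ₜ[A] (1 : SymmetricAlgebra A E)) +
              (Δ a - a ⊗ₜ[A] (1 : SymmetricAlgebra A E)) * (b ⊗ₜ[A] (1 : SymmetricAlgebra A E)) := by
          rw [map_mul, sub_mul, mul_sub, Algebra.TensorProduct.tmul_mul_tmul, mul_one]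
          ring
        rw [this]
        exact Ideal.add_mem _ (Ideal.mul_mem_left _ _ hb) (Ideal.mul_mem_right _ _ ha)
      | add a b ha hb =>
        rw [map_add, TensorProduct.add_tmul, add_sub_add_comm]
        exact Ideal.add_mem _ ha hb
    · rw [Ideal.map_le_iff_le_comap]
      intro k hk
      have hk0 : ε k = 0 := hk
      have key : ∀ b : SymmetricAlgebra A E,
          Δ' b - algebraMap A (SymmetricAlgebra A E ⊗[A] SymmetricAlgebra A E) (ε b) ∈
            KaehlerDifferential.ideal A (SymmetricAlgebra A E) := by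
        intro b
        induction b using SymmetricAlgebra.induction with
        | algebraMap r =>
          rw [AlgHom.commutes, AlgHom.commutes, Algebra.algebraMap_self, RingHom.id_apply, sub_self]
          exact Ideal.zero_mem _
        | ι t =>
          rw [hΔ', hει, map_zero, sub_zero]
          exact KaehlerDifferential.one_smul_sub_smul_one_mem_ideal A _
        | mul a b ha hb =>
          have : Δ' (a * b) - algebraMap A (SymmetricAlgebra A E ⊗[A] SymmetricAlgebra A E) (ε (a * b)) =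
              Δ' a * (Δ' b - algebraMap A (SymmetricAlgebra A E ⊗[A] SymmetricAlgebra A E) (ε b)) +
                algebraMap A (SymmetricAlgebra A E ⊗[A] SymmetricAlgebra A E) (ε b) *
                  (Δ' a - algebraMap A (SymmetricAlgebra A E ⊗[A] SymmetricAlgebra A E) (ε a)) := by
            rw [map_mul, map_mul, map_mul]
            ring
          rw [this]
          exact Ideal.add_mem _ (Ideal.mul_mem_left _ _ hb) (Ideal.mul_mem_left _ _ ha)
        | add a b ha hb =>
          rw [map_add, map_add, map_add, add_sub_add_comm]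
          exact Ideal.add_mem _ ha hb
      have hk1 := key k
      rw [hk0, map_zero, sub_zero] at hk1
      have : incR k = Θr (Δ' k) := by
        have hx := congrArg (fun f : _ →ₐ[SymmetricAlgebra A E] _ => f ((1 : SymmetricAlgebra A E) ⊗ₜ[A] k)) h1
        simp only [AlgHom.comp_apply, AlgHom.id_apply, hΘinv] at hx
        rw [← Algebra.TensorProduct.one_def, one_mul] at hx
        exact hx.symm
      rw [Ideal.mem_comap, this]
      exact Ideal.mem_map_of_mem _ hk1
  let mkQ : SymmetricAlgebra A E →ₐ[A] SymmetricAlgebra A E ⧸ RingHom.ker ε ^ (n + 1) :=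
    Ideal.Quotient.mkₐ A (RingHom.ker ε ^ (n + 1))
  have hmkQ : Function.Surjective mkQ := Ideal.Quotient.mkₐ_surjective A _
  let Φ0 : SymmetricAlgebra A E ⊗[A] SymmetricAlgebra A E →ₐ[A]
      SymmetricAlgebra A E ⊗[A] (SymmetricAlgebra A E ⧸ RingHom.ker ε ^ (n + 1)) :=
    Algebra.TensorProduct.map (AlgHom.id A (SymmetricAlgebra A E)) mkQ
  let Φ : SymmetricAlgebra A E ⊗[A] SymmetricAlgebra A E →ₐ[SymmetricAlgebra A E]
      SymmetricAlgebra A E ⊗[A] (SymmetricAlgebra A E ⧸ RingHom.ker ε ^ (n + 1)) :=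
    Algebra.TensorProduct.map (AlgHom.id (SymmetricAlgebra A E) (SymmetricAlgebra A E)) mkQ
  have hΦ0 : ∀ x, Φ x = Φ0 x := fun x => rfl
  have hΦ0ker : RingHom.ker Φ0 = (RingHom.ker ε ^ (n + 1)).map incR := by
    have h := Algebra.TensorProduct.lTensor_ker (A := SymmetricAlgebra A E) mkQ hmkQ
    rw [h]
    congr 1
    exact Ideal.mk_ker
  have hΦ0surj : Function.Surjective Φ0 :=
    Algebra.TensorProduct.map_surjective (AlgHom.id A (SymmetricAlgebra A E)) mkQ
      (fun x => ⟨x, rfl⟩) hmkQ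
  let Ψ : SymmetricAlgebra A E ⊗[A] SymmetricAlgebra A E →ₐ[SymmetricAlgebra A E]
      SymmetricAlgebra A E ⊗[A] (SymmetricAlgebra A E ⧸ RingHom.ker ε ^ (n + 1)) := Φ.comp Θ
  have hΨsurj : Function.Surjective Ψ := fun y => by
    obtain ⟨x, rfl⟩ := hΦ0surj y
    obtain ⟨z, rfl⟩ := hΘsurj x
    exact ⟨z, rfl⟩
  have hker : KaehlerDifferential.ideal A (SymmetricAlgebra A E) ^ (n + 1) = RingHom.ker Ψ := by
    ext x
    rw [RingHom.mem_ker]
    change _ ↔ Φ0 (Θr x) = 0
    have hpow : Ideal.map incR (RingHom.ker ε ^ (n + 1)) = Ideal.map incR (RingHom.ker ε) ^ (n + 1) :=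
      Ideal.map_pow incR _ _
    rw [← RingHom.mem_ker, hΦ0ker, hpow, ← hIJ, ← Ideal.map_pow, ← Ideal.mem_comap,
      Ideal.comap_map_of_bijective Θr ⟨hΘinj, hΘsurj⟩]
  refine ⟨(Ideal.quotientEquivAlgOfEq (SymmetricAlgebra A E) hker).trans
    (Ideal.quotientKerAlgEquivOfSurjective hΨsurj), ?_⟩
  intro t
  change Φ0 (Θ ((1 : SymmetricAlgebra A E) ⊗ₜ[A] SymmetricAlgebra.ι A E t)) = _
  rw [hΘ, ← Algebra.TensorProduct.one_def, one_mul, hΔ, map_add]
  rfl

end Groth.Agent.S3813
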