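import Groth.Statements.S3814
import Mathlib.RingTheory.FiniteStability
import Mathlib.RingTheory.Finiteness.ModuleFinitePresentation
import Mathlib.RingTheory.IntegralClosure.IsIntegralClosure.Basic

set_option autoImplicit false
universe u
open scoped TensorProduct
open PP16

namespace Groth.Agent.S3814

/-- If B is an A-algebra of finite presentation, then for every n the B-module P^n_{B/A} of principal
parts of order n is of finite presentation. -/
theorem result (n : ℕ) (A B : Type u) [CommRing A] [CommRing B]
    [Algebra A B] [Algebra.FinitePresentation A B] :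
    Module.FinitePresentation B (PP16.P n A B) := by
  have hIfg : (KaehlerDifferential.ideal A B).FG := KaehlerDifferential.ideal_fg A B
  have hpow : (KaehlerDifferential.ideal A B ^ (n + 1)).FG := hIfg.pow
  have hP : Algebra.FinitePresentation B (PP16.P n A B) :=
    Algebra.FinitePresentation.quotient hpow
  have hint : Algebra.IsIntegral B (PP16.P n A B) := by
    refine ⟨fun p => ?_⟩
    obtain ⟨x, rfl⟩ := Ideal.Quotient.mk_surjective p
    set b : B := Algebra.TensorProduct.lmul' A x with hb
    have hmem : x - b ⊗ₜ[A] (1 : B) ∈ KaehlerDifferential.ideal A B := by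
      change x - b ⊗ₜ[A] (1 : B) ∈ RingHom.ker (Algebra.TensorProduct.lmul' A (S := B))
      rw [RingHom.mem_ker, map_sub, Algebra.TensorProduct.lmul'_apply_tmul, mul_one, hb, sub_self]
    have hnil : (Ideal.Quotient.mk (KaehlerDifferential.ideal A B ^ (n + 1))
        (x - b ⊗ₜ[A] (1 : B))) ^ (n + 1) = 0 := by
      rw [← map_pow, Ideal.Quotient.eq_zero_iff_mem]
      exact Ideal.pow_mem_pow hmem _
    have h1 : IsIntegral B (Ideal.Quotient.mk (KaehlerDifferential.ideal A B ^ (n + 1))
        (x - b ⊗ₜ[A] (1 : B))) := by
      apply IsIntegral.of_pow (Nat.succ_pos n)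
      rw [hnil]
      exact isIntegral_zero
    have h2 : IsIntegral B (algebraMap B (PP16.P n A B) b) := isIntegral_algebraMap
    have h3 := h1.add h2
    have h4 : Ideal.Quotient.mk (KaehlerDifferential.ideal A B ^ (n + 1)) (x - b ⊗ₜ[A] (1 : B)) +
        algebraMap B (PP16.P n A B) b = Ideal.Quotient.mk _ x := by
      change _ + Ideal.Quotient.mk _ (b ⊗ₜ[A] (1 : B)) = _
      rw [← map_add, sub_add_cancel]
    rw [h4] at h3
    exact h3
  have hfin : Module.Finite B (PP16.P n A B) := Algebra.IsIntegral.finite
  exact Module.FinitePresentation.of_finite_of_finitePresentation B (PP16.P n A B)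

end Groth.Agent.S3814
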