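import Groth.Statements.S3834
import Groth.Agent.Lib.Helper6.SchDense

set_option autoImplicit false
universe u
open CategoryTheory CategoryTheory.Limits AlgebraicGeometry TopologicalSpace
open Rat20

namespace Groth.Agent.S3834

/-- Let X = Spec A be an affine scheme, with A Noetherian, or A reduced with finitely many minimal
primes. Then an open subset U of X is schematically dense if and only if it contains an open subset
of the form X_t with t a regular element of A = Γ(X, O_X). -/
theorem result (X : Scheme.{u}) [IsAffine X]
    (hX : IsNoetherian X ∨ (IsReduced X ∧ (irreducibleComponents ↥X).Finite)) (U : X.Opens) :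
    CInt.IsSchematicallyDense U ↔ ∃ t : Γ(X, ⊤), t ∈ nonZeroDivisors Γ(X, ⊤) ∧ X.basicOpen t ≤ U := by
  constructor
  · intro hU
    have hA : IsNoetherianRing Γ(X, ⊤) ∨
        (_root_.IsReduced Γ(X, ⊤) ∧ (minimalPrimes Γ(X, ⊤)).Finite) := by
      rcases hX with h | ⟨h1, h2⟩
      · left
        exact IsLocallyNoetherian.component_noetherian (X := X) ⟨⊤, isAffineOpen_top X⟩
      · right
        refine ⟨inferInstance, ?_⟩
        let e : ↥X ≃ₜ PrimeSpectrum Γ(X, ⊤) := X.isoSpec.hom.homeomorph
        have hfib : ∀ y, IsPreirreducible (e ⁻¹' {y}) := fun y =>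
          (Set.subsingleton_singleton.preimage e.injective).isPreirreducible
        have eq := irreducibleComponentsEquivOfIsPreirreducibleFiber e e.continuous e.isOpenMap
          hfib e.surjective
        have hfin : (irreducibleComponents (PrimeSpectrum Γ(X, ⊤))).Finite := by
          have : Finite (irreducibleComponents ↥X) := h2.to_subtype
          exact Set.finite_coe_iff.mp (Finite.of_equiv _ eq.symm.toEquiv)
        rw [← PrimeSpectrum.vanishingIdeal_irreducibleComponents]
        exact hfin.image _
    obtain ⟨t, ht, htU⟩ := Groth.Agent.Helper6.exists_nonZeroDivisor_basicOpen_le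
      (isAffineOpen_top X) hA U (hU ⊤)
    exact ⟨t, ht, htU⟩
  · rintro ⟨t, ht, htU⟩
    refine Groth.Agent.Helper6.IsSchematicallyDense.mono htU ?_
    intro V
    exact Groth.Agent.Helper6.resInj_basicOpen_of_nonZeroDivisor (isAffineOpen_top X) ht V le_top

end Groth.Agent.S3834
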