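import Groth.Statements.S3846

set_option autoImplicit false
universe u
open CategoryTheory CategoryTheory.Limits AlgebraicGeometry TopologicalSpace
open Unram17 AlgebraicGeometry CategoryTheory Limits

namespace Groth.Agent.S3846

/-- a) iff b''): let f : X → Y be locally of finite presentation and x a point of X. Then f is
unramified on some open neighbourhood of x if and only if, for every base change g : Y' → Y and
every section s' of X ×_Y Y' → Y', s' is a local isomorphism at every point y' of Y' such that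
s'(y') lies over x. -/
theorem result {X Y : Scheme.{u}} (f : X ⟶ Y) [LocallyOfFinitePresentation f]
    (x : ↥X) :
    (∃ U : X.Opens, x ∈ U ∧ FormallyUnramified (U.ι ≫ f)) ↔
      ∀ (Y' : Scheme.{u}) (g : Y' ⟶ Y) (s' : Y' ⟶ pullback f g), s' ≫ pullback.snd f g = 𝟙 Y' →
        ∀ y' : ↥Y', pullback.fst f g (s' y') = x → SchLoc.IsLocalIsoAt s' y' := by
  constructor
  · rintro ⟨U, hxU, hU⟩ Y' g s' hs' y' hy'
    let ZU : (pullback f g).Opens := pullback.fst f g ⁻¹ᵁ U
    let W : Y'.Opens := s' ⁻¹ᵁ ZU
    have hy'W : y' ∈ W := by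
      change (pullback.fst f g) (s' y') ∈ U
      rw [hy']
      exact hxU
    refine ⟨W, hy'W, ?_⟩
    let t : W.toScheme ⟶ ZU.toScheme := s'.resLE ZU W le_rfl
    have ht : t ≫ ZU.ι = W.ι ≫ s' := Scheme.Hom.resLE_comp_ι _ _
    let h : ZU.toScheme ⟶ Y' := ZU.ι ≫ pullback.snd f g
    have hth : t ≫ h = W.ι := by
      change t ≫ ZU.ι ≫ pullback.snd f g = W.ι
      rw [← Category.assoc, ht, Category.assoc, hs', Category.comp_id]
    have hpb : IsPullback (pullback.fst f g ∣_ U) h (U.ι ≫ f) g :=
      (isPullback_morphismRestrict (pullback.fst f g) U).paste_vert (IsPullback.of_hasPullback f g)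
    have hunr : FormallyUnramified h := MorphismProperty.of_isPullback hpb hU
    have hlft0 : LocallyOfFiniteType (U.ι ≫ f) := inferInstance
    have hlft : LocallyOfFiniteType h := MorphismProperty.of_isPullback hpb hlft0
    have hP : (@IsOpenImmersion).HasOfPostcompProperty
        (@FormallyUnramified ⊓ @LocallyOfFiniteType) := by
      rw [MorphismProperty.hasOfPostcompProperty_iff_le_diagonal]
      rintro X₁ Y₁ f₁ ⟨hf1, hf2⟩
      exact FormallyUnramified.isOpenImmersion_diagonal f₁
    have htOI : IsOpenImmersion t :=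
      hP.of_postcomp t h ⟨hunr, hlft⟩ (by rw [hth]; infer_instance)
    rw [← ht]
    infer_instance
  · intro H
    obtain ⟨W, hxW, hW⟩ := H X f (pullback.lift (𝟙 X) (𝟙 X) rfl) (pullback.lift_snd _ _ _) x (by
      rw [← Scheme.Hom.comp_apply, pullback.lift_fst]
      rfl)
    refine ⟨W, hxW, ?_⟩
    have e1 : (W.ι ≫ f) ≫ 𝟙 Y = W.ι ≫ f := Category.comp_id _
    let j : pullback (W.ι ≫ f) (W.ι ≫ f) ⟶ pullback f f :=
      pullback.map (W.ι ≫ f) (W.ι ≫ f) f f W.ι W.ι (𝟙 Y) e1 e1
    have hj : IsOpenImmersion j := inferInstance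
    have hcomp : pullback.diagonal (W.ι ≫ f) ≫ j = W.ι ≫ pullback.lift (𝟙 X) (𝟙 X) rfl := by
      apply pullback.hom_ext
      · simp only [j, Category.assoc, pullback.lift_fst, pullback.diagonal_fst_assoc,
          Category.comp_id]
      · simp only [j, Category.assoc, pullback.lift_snd, pullback.diagonal_snd_assoc,
          Category.comp_id]
    have hd : IsOpenImmersion (pullback.diagonal (W.ι ≫ f)) := by
      have : IsOpenImmersion (pullback.diagonal (W.ι ≫ f) ≫ j) := by
        rw [hcomp]; exact hW
      exact IsOpenImmersion.of_comp _ j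
    infer_instance

end Groth.Agent.S3846
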