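import Groth.Statements.S3849
import Groth.Agent.Lib.Helper4.SecDVR

set_option autoImplicit false
universe u
open CategoryTheory CategoryTheory.Limits AlgebraicGeometry TopologicalSpace
open Rat20

namespace Groth.Agent.S3849

/-- In the case S = X (sections of q : Y → X): let X be a locally Noetherian scheme, q : Y → X
separated, locally of finite type and locally quasi-finite, U a dense open subset of X, h : U → Y a
section of q over U, and x a point of X outside U whose local ring is an integrally closed domain.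
Then h extends to a section of q over an open subset containing U and x if and only if there exist a
discrete valuation ring R, a morphism u : Spec R → X sending the closed point to x and the generic
point into U, and a morphism Spec R → Y over X agreeing with h at the generic point. -/
theorem result {X Y : Scheme.{u}} [IsLocallyNoetherian X] (q : Y ⟶ X)
    [LocallyOfFiniteType q] [IsSeparated q] [LocallyQuasiFinite q] (U : X.Opens) (hU : Dense (U : Set ↥X))
    (h : (U : Scheme.{u}) ⟶ Y) (hh : h ≫ q = U.ι) (x : ↥X) (hxU : x ∉ U) [IsDomain ↑(X.presheaf.stalk x)]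
    (hx : IsIntegrallyClosed ↑(X.presheaf.stalk x)) :
    (∃ (U' : X.Opens) (hUU' : U ≤ U') (h' : (U' : Scheme.{u}) ⟶ Y),
        x ∈ U' ∧ h' ≫ q = U'.ι ∧ X.homOfLE hUU' ≫ h' = h) ↔
      ∃ (R : Type u) (_ : CommRing R) (_ : IsDomain R) (_ : IsDiscreteValuationRing R)
        (u : Spec (CommRingCat.of R) ⟶ X) (ub : Spec (CommRingCat.of (FractionRing R)) ⟶ (U : Scheme.{u}))
        (h₁ : Spec (CommRingCat.of R) ⟶ Y),
        u (IsLocalRing.closedPoint R) = x ∧
          ub ≫ U.ι = Spec.map (CommRingCat.ofHom (algebraMap R (FractionRing R))) ≫ u ∧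
          h₁ ≫ q = u ∧ Spec.map (CommRingCat.ofHom (algebraMap R (FractionRing R))) ≫ h₁ = ub ≫ h := by
  constructor
  · rintro ⟨U', hUU', h', hxU', hq, hres⟩
    exact Groth.Agent.Helper4.SecDVR.exists_dvr_of_extension q U hU h x hxU U' hUU' h' hxU' hq hres
  · rintro ⟨R, _, _, _, a, ub, h₁, haC, hub, hq1, hgen⟩
    have hyΓ : h₁ (IsLocalRing.closedPoint R) ∈ closure (Set.range h) :=
      Groth.Agent.Helper4.SecDVR.mem_closure_range_of_lift h R (FractionRing R)
        (algebraMap R (FractionRing R)) h₁ ub hgen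
    have hy : q (h₁ (IsLocalRing.closedPoint R)) = x := by
      rw [← Scheme.Hom.comp_apply, hq1, haC]
    have hdisc := q.isDiscrete_preimage_singleton x
    obtain ⟨W, hWo, hW⟩ := isDiscrete_iff_forall_mem_exists_isOpen.mp hdisc
      (h₁ (IsLocalRing.closedPoint R)) hy
    have hiso : ∃ W : Y.Opens, (W : Set Y) ∩ closure (Set.range h) ∩ q ⁻¹' {x} =
        {h₁ (IsLocalRing.closedPoint R)} := by
      refine ⟨⟨W, hWo⟩, ?_⟩
      ext w
      constructor
      · rintro ⟨⟨hw1, -⟩, hw3⟩
        have : w ∈ W ∩ q ⁻¹' {x} := ⟨hw1, hw3⟩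
        rwa [hW] at this
      · rintro rfl
        have : h₁ (IsLocalRing.closedPoint R) ∈ W ∩ q ⁻¹' {x} := by rw [hW]; rfl
        exact ⟨⟨this.1, hyΓ⟩, hy⟩
    obtain ⟨V, hxV, v, hv, hag, -⟩ :=
      Groth.Agent.Helper4.SecDVR.exists_extension_of_isolated q U h hh x (hU x) hx
        (h₁ (IsLocalRing.closedPoint R)) hy hyΓ hiso
    obtain ⟨U', hUU', hVU', f', hf', hres, -⟩ :=
      Groth.Agent.Helper4.SecDVR.exists_glue' (𝟙 X) q U V h (by rw [hh, Category.comp_id]) v
        (by rw [hv, Category.comp_id]) hag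
    rw [Category.comp_id] at hf'
    exact ⟨U', hUU', f', hVU' hxV, hf', hres⟩

end Groth.Agent.S3849
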