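import Groth.Statements.S3852

set_option autoImplicit false
universe u
open FCompl

namespace Groth.Agent.S3852

open AlgebraicGeometry in
/-- Second assertion; stated for quasi-coherent ideal sheaves, with the condition on supports as an
inclusion, which is what the proof uses: Let X be a Noetherian scheme and I, J ideal sheaves such
that the zero locus of J is contained in the zero locus of I. Then I^n ≤ J for some n ≥ 1. -/
theorem result
    (X : Scheme.{u}) [IsNoetherian X] (I J : X.IdealSheafData)
    (h : (J.support : Set X) ⊆ I.support) :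
    ∃ n : ℕ, I ^ (n + 1) ≤ J := by
  classical
  have hle : J.support ≤ I.support := h
  have hrad : I ≤ J.radical := by
    have h1 := Scheme.IdealSheafData.vanishingIdeal_antimono hle
    rw [Scheme.IdealSheafData.vanishingIdeal_support,
      Scheme.IdealSheafData.vanishingIdeal_support] at h1
    exact (Scheme.IdealSheafData.le_radical I).trans h1
  -- finite affine cover
  have hcov : (Set.univ : Set X) ⊆ ⋃ U : X.affineOpens, (U.1 : Set X) := by
    intro x _
    have := (AlgebraicGeometry.iSup_affineOpens_eq_top X).ge (Set.mem_univ x)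
    rw [TopologicalSpace.Opens.mem_iSup] at this
    obtain ⟨U, hU⟩ := this
    exact Set.mem_iUnion.mpr ⟨U, hU⟩
  obtain ⟨t, ht⟩ := isCompact_univ.elim_finite_subcover (fun U : X.affineOpens => (U.1 : Set X))
    (fun U => U.1.2) hcov
  have hpow : ∀ U : X.affineOpens, ∃ n : ℕ, I.ideal U ^ n ≤ J.ideal U := by
    intro U
    have hN : IsNoetherianRing Γ(X, U.1) := IsLocallyNoetherian.component_noetherian U
    apply Ideal.exists_pow_le_of_le_radical_of_fg
    · have := hrad U
      rwa [Scheme.IdealSheafData.radical_ideal] at this
    · exact (isNoetherianRing_iff_ideal_fg _).mp hN _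
  choose n hn using hpow
  refine ⟨t.sup n, ?_⟩
  apply Scheme.IdealSheafData.le_of_iSup_eq_top (fun U : t => (U.1 : X.affineOpens))
  · rw [eq_top_iff]
    intro x hx
    have := ht (Set.mem_univ x)
    simp only [Set.mem_iUnion] at this
    obtain ⟨U, hUt, hxU⟩ := this
    exact TopologicalSpace.Opens.mem_iSup.mpr ⟨⟨U, hUt⟩, hxU⟩
  · rintro ⟨U, hUt⟩
    rw [Scheme.IdealSheafData.ideal_pow]
    refine le_trans (Ideal.pow_le_pow_right ?_) (hn U)
    exact (Finset.le_sup hUt).trans (Nat.le_succ _)

end Groth.Agent.S3852
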