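import Groth.Statements.S3856
import Mathlib
import Groth.Agent.Lib.Helper1.AdicNoeth

set_option autoImplicit false
set_option linter.style.haveILetI false
universe u
open AdicRing

namespace Groth.Agent.S3856

/-- Let A be a ring that is complete and separated for the J-adic topology of an ideal J. If A/J² is
Noetherian (equivalently, A/J is Noetherian and J/J² is a finitely generated A/J-module), then A is
Noetherian. The published statement is phrased for a formal spectrum Spf(A) all of whose levels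
Spec(A/J^(n+1)) are Noetherian; it is stated here with the weaker hypothesis that A/J² is
Noetherian. -/
theorem result (A : Type u) [CommRing A]
    (J : Ideal A) [IsAdicComplete J A] [IsNoetherianRing (A ⧸ J ^ 2)] : IsNoetherianRing A := by
  classical
  -- `J / J²` is finitely generated
  have hfgmap : (J.map (Ideal.Quotient.mk (J ^ 2))).FG := IsNoetherian.noetherian _
  obtain ⟨T, hT⟩ := hfgmap
  have hTmem : ∀ t ∈ T, ∃ x ∈ J, Ideal.Quotient.mk (J ^ 2) x = t := by
    intro t ht
    have : t ∈ J.map (Ideal.Quotient.mk (J ^ 2)) := hT ▸ Ideal.subset_span ht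
    exact (Ideal.mem_map_iff_of_surjective _ Ideal.Quotient.mk_surjective).mp this
  choose! x hxJ hxt using hTmem
  haveI : IsHausdorff J ↥J := by
    refine ⟨fun y hy => ?_⟩
    have h0 : (y : A) = 0 := by
      apply IsHausdorff.haus' (I := J) (y : A)
      intro n
      have := hy n
      rw [SModEq.zero] at this ⊢
      rw [Submodule.mem_smul_top_iff] at this
      exact Submodule.smul_mono le_rfl le_top this
    exact Subtype.ext h0
  have hfin : Module.Finite A (↥J ⧸ (J • ⊤ : Submodule A ↥J)) := by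
    let f : {t // t ∈ T} → (↥J ⧸ (J • ⊤ : Submodule A ↥J)) :=
      fun t => Submodule.Quotient.mk ⟨x t.1, hxJ t.1 t.2⟩
    refine ⟨⟨T.attach.image f, ?_⟩⟩
    rw [eq_top_iff]
    rintro y -
    obtain ⟨⟨y, hy⟩, rfl⟩ := Submodule.Quotient.mk_surjective _ y
    have hmem : Ideal.Quotient.mk (J ^ 2) y ∈ Submodule.span (A ⧸ J ^ 2) (T : Set (A ⧸ J ^ 2)) := by
      have := Ideal.mem_map_of_mem (Ideal.Quotient.mk (J ^ 2)) hy
      rw [← hT] at this
      exact this
    obtain ⟨c, -, hc⟩ := Submodule.mem_span_finset.mp hmem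
    have hlift : ∀ t : A ⧸ J ^ 2, ∃ a : A, Ideal.Quotient.mk (J ^ 2) a = c t :=
      fun t => Ideal.Quotient.mk_surjective (c t)
    choose c' hc' using hlift
    have hsub : y - ∑ t ∈ T.attach, c' t.1 * x t.1 ∈ J ^ 2 := by
      rw [← Ideal.Quotient.eq_zero_iff_mem, map_sub, map_sum, ← hc, ← Finset.sum_attach T]
      rw [sub_eq_zero]
      apply Finset.sum_congr rfl
      intro t _
      rw [map_mul, hc', hxt t.1 t.2, smul_eq_mul]
    have hy' : (Submodule.Quotient.mk ⟨y, hy⟩ : ↥J ⧸ (J • ⊤ : Submodule A ↥J)) =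
        ∑ t ∈ T.attach, c' t.1 • f t := by
      have hz : (⟨y, hy⟩ : ↥J) - ∑ t ∈ T.attach, c' t.1 • (⟨x t.1, hxJ t.1 t.2⟩ : ↥J) ∈
          (J • ⊤ : Submodule A ↥J) := by
        rw [Submodule.mem_smul_top_iff]
        have hcoe : (((⟨y, hy⟩ : ↥J) - ∑ t ∈ T.attach, c' t.1 • (⟨x t.1, hxJ t.1 t.2⟩ : ↥J) : ↥J) : A)
            = y - ∑ t ∈ T.attach, c' t.1 * x t.1 := by
          simp
        rw [hcoe]
        have : J ^ 2 = J • J := by rw [pow_two, smul_eq_mul]
        exact this ▸ hsub
      have h1 := (Submodule.Quotient.mk_eq_zero (J • ⊤ : Submodule A ↥J)).mpr hz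
      rw [Submodule.Quotient.mk_sub, sub_eq_zero] at h1
      rw [h1]
      rw [← Submodule.mkQ_apply, map_sum]
      rfl
    rw [hy']
    refine Submodule.sum_mem _ fun t ht => Submodule.smul_mem _ _ (Submodule.subset_span ?_)
    exact Finset.mem_coe.mpr (Finset.mem_image_of_mem f ht)
  have hJfin : Module.Finite A ↥J :=
    Groth.Agent.Helper1.finite_of_isAdicComplete_of_finite_quotient J hfin
  have hJfg : J.FG := (Submodule.fg_top J).mp hJfin.1
  have hle : J ^ 2 ≤ J := Ideal.pow_le_self two_ne_zero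
  haveI : IsNoetherianRing (A ⧸ J) :=
    isNoetherianRing_of_surjective (A ⧸ J ^ 2) (A ⧸ J) (Ideal.Quotient.factor hle)
      (Ideal.Quotient.factor_surjective hle)
  exact Groth.Agent.Helper1.isNoetherianRing_of_isAdicComplete_of_fg J hJfg

end Groth.Agent.S3856
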