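import Groth.Statements.S3860
import Groth.Agent.Lib.Helper6.FSchSpf
import Mathlib.RingTheory.AdicCompletion.RingHom

set_option autoImplicit false
universe u
open FCompl

namespace Groth.Agent.S3860

open AlgebraicGeometry CategoryTheory in
/-- (Affine adic case; the formal spectra presented as the systems Spec(A/I^(n+1)) and Spec(B/K^(n+1)).)
Let I be an ideal of a ring A which is complete and separated for the I-adic topology, and K an
ideal of a ring B. Then φ ↦ (Spec of the induced maps B/K^(n+1) -> A/I^(n+1)) is a bijection from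
the ring homomorphisms φ : B -> A with φ(K) ⊆ I onto the morphisms of systems from Spf(A) to Spf(B),
i.e. the compatible families of morphisms Spec(A/I^(n+1)) -> Spec(B/K^(n+1)). -/
theorem result (A B : Type u) [CommRing A] [CommRing B] (I : Ideal A) (K : Ideal B)
    [IsAdicComplete I A] :
    Function.Bijective (fun φ : {φ : B →+* A // K ≤ I.comap φ} ↦ FSch.spfMap I K φ.1 φ.2) := by
  constructor
  · rintro ⟨φ, hφ⟩ ⟨ψ, hψ⟩ hEq
    have hEq' : FSch.spfMap I K φ hφ = FSch.spfMap I K ψ hψ := hEq
    apply Subtype.ext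
    change φ = ψ
    ext b
    have hn : ∀ n : ℕ, φ b - ψ b ∈ I ^ (n + 1) := by
      intro n
      have h1 : (FSch.spfMap I K φ hφ : FSch.Hom _ _).app n = (FSch.spfMap I K ψ hψ : FSch.Hom _ _).app n := by
        rw [hEq']
      rw [FSch.spfMap_app, FSch.spfMap_app] at h1
      have h2 := congrArg CommRingCat.Hom.hom (Spec.map_injective h1)
      simp only [CommRingCat.hom_ofHom] at h2
      have h3 := congrArg (fun θ => θ (Ideal.Quotient.mk (K ^ (n + 1)) b)) h2
      simp only [FSch.quotPowMap, Ideal.quotientMap_mk] at h3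
      exact Ideal.Quotient.eq.mp h3
    have h0 : φ b - ψ b = 0 := by
      apply IsHausdorff.haus (inferInstance : IsHausdorff I A)
      intro n
      rw [SModEq.zero, smul_eq_mul, Ideal.mul_top]
      rcases n with _ | n
      · simp
      · exact hn n
    exact sub_eq_zero.mp h0
  · intro F
    let θ : ∀ n : ℕ, (B ⧸ K ^ (n + 1)) →+* (A ⧸ I ^ (n + 1)) := fun n =>
      (Spec.preimage ((F : FSch.Hom _ _).app n)).hom
    have hθ : ∀ n, Spec.map (CommRingCat.ofHom (θ n)) = (F : FSch.Hom _ _).app n := fun n =>
      Spec.map_preimage _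
    have hcompat : ∀ n, (θ n).comp (Groth.Agent.Helper6.FSchLib.tr B K n) =
        (Groth.Agent.Helper6.FSchLib.tr A I n).comp (θ (n + 1)) := by
      intro n
      have h1 : Spec.map (CommRingCat.ofHom (θ n)) ≫
          Spec.map (CommRingCat.ofHom (Groth.Agent.Helper6.FSchLib.tr B K n)) =
          Spec.map (CommRingCat.ofHom (Groth.Agent.Helper6.FSchLib.tr A I n)) ≫
          Spec.map (CommRingCat.ofHom (θ (n + 1))) := by
        rw [hθ n, hθ (n + 1)]
        exact (F : FSch.Hom _ _).comm n
      rw [← Spec.map_comp, ← Spec.map_comp,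
        ← CommRingCat.ofHom_comp, ← CommRingCat.ofHom_comp] at h1
      have h2 := congrArg CommRingCat.Hom.hom (Spec.map_injective h1)
      simpa only [CommRingCat.hom_ofHom] using h2
    have ha : StrictMono (fun n : ℕ => n + 1) := fun a b h => Nat.succ_lt_succ h
    let f : ∀ n : ℕ, B →+* A ⧸ I ^ (n + 1) := fun n => (θ n).comp (Ideal.Quotient.mk (K ^ (n + 1)))
    have hf : ∀ {m : ℕ}, (Ideal.Quotient.factorPow I (ha.monotone m.le_succ)).comp (f (m + 1)) = f m := by
      intro m
      ext b
      have := congrArg (fun ρ => ρ (Ideal.Quotient.mk (K ^ (m + 2)) b)) (hcompat m)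
      simpa [f, Groth.Agent.Helper6.FSchLib.tr, Ideal.Quotient.factorPow] using this.symm
    let φ : B →+* A := IsAdicComplete.StrictMono.liftRingHom I ha f hf
    have hφn : ∀ (n : ℕ) (b : B), Ideal.Quotient.mk (I ^ (n + 1)) (φ b) = f n b := fun n b =>
      IsAdicComplete.StrictMono.mk_liftRingHom I ha f hf b
    have hφ : K ≤ I.comap φ := by
      intro b hb
      rw [Ideal.mem_comap]
      have h1 := hφn 0 b
      have h2 : f 0 b = 0 := by
        change θ 0 (Ideal.Quotient.mk (K ^ (0 + 1)) b) = 0
        rw [Ideal.Quotient.eq_zero_iff_mem.mpr (by simpa using hb), map_zero]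
      rw [h2, Ideal.Quotient.eq_zero_iff_mem] at h1
      simpa using h1
    refine ⟨⟨φ, hφ⟩, ?_⟩
    apply FSch.Hom.ext
    funext n
    change (FSch.spfMap I K φ hφ : FSch.Hom _ _).app n = _
    rw [FSch.spfMap_app, ← hθ n]
    congr 2
    apply Ideal.Quotient.ringHom_ext
    ext b
    simp only [FSch.quotPowMap, RingHom.coe_comp, Function.comp_apply, Ideal.quotientMap_mk]
    exact hφn n b

end Groth.Agent.S3860
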