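import Groth.Statements.S3863
import Mathlib
import Groth.Agent.Lib.Helper14.FComplA
import Groth.Agent.Lib.Helper14.FComplB
import Groth.Agent.Lib.Helper14.FComplC
import Groth.Agent.Lib.Helper28.CohOpen
-- import your own Groth.Agent.* helpers here

set_option autoImplicit false
universe u
open FCompl

namespace Groth.Agent.S3863

set_option linter.style.haveILetI false
set_option linter.unusedVariables false

open CategoryTheory AlgebraicGeometry Groth.Agent.Helper14.FCompl CategoryTheory.Limits

/-- the comparison maps `N ⟶ Γ(i_{n,*} i_n^* N~)`. -/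
noncomputable def cN (A : Type u) [CommRing A] (J : Ideal A) (N : ModuleCat.{u} A) (n : ℕ) :
    N ⟶ (ΓA A).obj (pushF (FSch.idealSpec A J)
      (FSch.complMod (FSch.idealSpec A J) ((tilde.functor (CommRingCat.of A)).obj N)) n) :=
  (tilde.adjunction (R := CommRingCat.of A)).unit.app N ≫
    (ΓA A).map (unitP (FSch.idealSpec A J) ((tilde.functor (CommRingCat.of A)).obj N) n)

theorem cN_props (A : Type u) [CommRing A] (J : Ideal A) (N : ModuleCat.{u} A)
    [Module.Finite A N] (n : ℕ) :
    Function.Surjective (cN A J N n).hom ∧
    LinearMap.ker (cN A J N n).hom = (J ^ (n + 1)) • (⊤ : Submodule A N) ∧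
    cN A J N (n + 1) ≫ (ΓA A).map (pushTrans (FSch.idealSpec A J)
      (FSch.complMod (FSch.idealSpec A J) ((tilde.functor (CommRingCat.of A)).obj N)) n) =
      cN A J N n := by
  haveI : ((tilde.functor (CommRingCat.of A)).obj N).IsQuasicoherent :=
    inferInstanceAs (tilde (R := CommRingCat.of A) N).IsQuasicoherent
  haveI : SheafOfModules.IsFiniteType (R := (SpA A).ringCatSheaf)
      ((tilde.functor (CommRingCat.of A)).obj N) :=
    Groth.Agent.Helper28.CohOpen.isFiniteType_tilde (R := CommRingCat.of A) N
  have h1 := Γ_unit_surjective J n ((tilde.functor (CommRingCat.of A)).obj N)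
  have h2 := Γ_unit_ker J n ((tilde.functor (CommRingCat.of A)).obj N)
  have h3 := unitP_compat (𝓘 := FSch.idealSpec A J) ((tilde.functor (CommRingCat.of A)).obj N) n
  haveI : IsIso ((tilde.adjunction (R := CommRingCat.of A)).unit.app N) := by
    change IsIso ((tilde.toTildeΓNatIso (R := CommRingCat.of A)).hom.app _)
    infer_instance
  have hνb : Function.Bijective ((tilde.adjunction (R := CommRingCat.of A)).unit.app N).hom :=
    ConcreteCategory.bijective_of_isIso _
  refine ⟨?_, ?_, ?_⟩
  · intro y
    obtain ⟨x, hx⟩ := h1 y
    obtain ⟨x', rfl⟩ := hνb.2 x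
    exact ⟨x', hx⟩
  · ext x
    rw [LinearMap.mem_ker]
    change ((ΓA A).map (unitP (FSch.idealSpec A J) ((tilde.functor (CommRingCat.of A)).obj N) n)).hom
      (((tilde.adjunction (R := CommRingCat.of A)).unit.app N).hom x) = 0 ↔ _
    rw [← LinearMap.mem_ker, h2]
    let νe : N ≃ₗ[A] (ΓA A).obj ((tilde.functor (CommRingCat.of A)).obj N) :=
      LinearEquiv.ofBijective ((tilde.adjunction (R := CommRingCat.of A)).unit.app N).hom hνb
    have hmap : (J ^ (n + 1)) • (⊤ : Submodule A
        ((ΓA A).obj ((tilde.functor (CommRingCat.of A)).obj N))) =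
        Submodule.map νe.toLinearMap ((J ^ (n + 1)) • (⊤ : Submodule A N)) := by
      rw [Submodule.map_smul'', Submodule.map_top, LinearEquiv.range]
    rw [hmap]
    constructor
    · rintro ⟨x', hx', hxx⟩
      have : x' = x := νe.injective hxx
      rw [← this]
      exact hx'
    · intro hx
      exact ⟨x, hx, rfl⟩
  · exact (Category.assoc _ _ _).trans (congrArg
      (fun φ => (tilde.adjunction (R := CommRingCat.of A)).unit.app N ≫ φ)
      ((Functor.map_comp (ΓA A) _ _).symm.trans (congrArg (ΓA A).map h3)))

open AlgebraicGeometry in
open CategoryTheory in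
/-- The formal spectrum of A is presented as the system of closed subschemes of Spec A cut out by the
powers of J, and for an A-module M the system of modules M^Δ is the family of pullbacks of the sheaf
M̃ associated to M to these subschemes, with its canonical transition isomorphisms. Let A be a
Noetherian ring, complete and separated for the J-adic topology, and M, N finite A-modules. Then u ↦
u^Δ is a bijection from Hom_A(M, N) onto the set of morphisms of systems of modules M^Δ → N^Δ. -/
theorem result (A : Type u) [CommRing A] [IsNoetherianRing A]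
    (J : Ideal A) [IsAdicComplete J A] (M N : ModuleCat.{u} A) [Module.Finite A M] [Module.Finite A N] :
    Function.Bijective (fun u : M ⟶ N ↦
      FSch.complModMap (FSch.idealSpec A J) ((tilde.functor (CommRingCat.of A)).map u)) := by
  haveI : IsAdicComplete J N := isAdicComplete_of_finite A J N
  have hc := fun n => (cN_props A J N n).1
  have hk := fun n => (cN_props A J N n).2.1
  have hct := fun n => (cN_props A J N n).2.2
  have key : ∀ (u : M ⟶ N) (n : ℕ),
      (tilde.adjunction (R := CommRingCat.of A)).homEquiv M _
        (famOf (FSch.complModMap (FSch.idealSpec A J)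
          ((tilde.functor (CommRingCat.of A)).map u)) n) = u ≫ cN A J N n := by
    intro u n
    have e1 := famOf_complModMap' (𝓘 := FSch.idealSpec A J)
      ((tilde.functor (CommRingCat.of A)).map u) n
    calc (tilde.adjunction (R := CommRingCat.of A)).homEquiv M _
          (famOf (FSch.complModMap (FSch.idealSpec A J)
            ((tilde.functor (CommRingCat.of A)).map u)) n)
        = (tilde.adjunction (R := CommRingCat.of A)).homEquiv M _
          ((tilde.functor (CommRingCat.of A)).map u ≫ unitP (FSch.idealSpec A J)
            ((tilde.functor (CommRingCat.of A)).obj N) n) := congrArg _ e1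
      _ = u ≫ (tilde.adjunction (R := CommRingCat.of A)).homEquiv N _
            (unitP (FSch.idealSpec A J) ((tilde.functor (CommRingCat.of A)).obj N) n) :=
          Adjunction.homEquiv_naturality_left _ _ _
      _ = u ≫ cN A J N n := congrArg (fun φ => u ≫ φ) (Adjunction.homEquiv_unit _ _ _ _)
  constructor
  · intro u u' huu
    have huu' : FSch.complModMap (FSch.idealSpec A J)
        ((tilde.functor (CommRingCat.of A)).map u) =
      FSch.complModMap (FSch.idealSpec A J) ((tilde.functor (CommRingCat.of A)).map u') := huu
    have h : ∀ n, u ≫ cN A J N n = u' ≫ cN A J N n := fun n =>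
      (key u n).symm.trans ((congrArg (fun α =>
        (tilde.adjunction (R := CommRingCat.of A)).homEquiv M _ (famOf α n)) huu').trans
        (key u' n))
    exact lift_unique_cat J _ (cN A J N) hk u u' h
  · intro ψ
    let b : ∀ n, M ⟶ (ΓA A).obj (pushF (FSch.idealSpec A J)
        (FSch.complMod (FSch.idealSpec A J) ((tilde.functor (CommRingCat.of A)).obj N)) n) :=
      fun n => (tilde.adjunction (R := CommRingCat.of A)).homEquiv M _ (famOf ψ n)
    have hb : ∀ n, b (n + 1) ≫ (ΓA A).map (pushTrans (FSch.idealSpec A J)
        (FSch.complMod (FSch.idealSpec A J) ((tilde.functor (CommRingCat.of A)).obj N)) n) =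
        b n := fun n =>
      ((Adjunction.homEquiv_naturality_right _ _ _).symm).trans (congrArg _ (famOf_compat ψ n))
    obtain ⟨u, hu⟩ := exists_lift_cat J _ (cN A J N)
      (fun n => (ΓA A).map (pushTrans (FSch.idealSpec A J)
        (FSch.complMod (FSch.idealSpec A J) ((tilde.functor (CommRingCat.of A)).obj N)) n))
      hc hk hct b hb
    refine ⟨u, ?_⟩
    apply hom_ext_famOf
    intro n
    apply ((tilde.adjunction (R := CommRingCat.of A)).homEquiv M _).injective
    exact (key u n).trans (hu n)

end Groth.Agent.S3863
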