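import Groth.Statements.S3867
import Groth.Agent.Lib.Helper6.FSchSpf2
import Mathlib.RingTheory.Nakayama

set_option autoImplicit false
universe u
open FCompl

namespace Groth.Agent.S3867

open AlgebraicGeometry in
/-- Formal spectra are presented as the systems Spec(A/I^(n+1)) and Spec(B/K^(n+1)), a morphism of
systems being adic when all its squares are cartesian. Let A be a Noetherian ring, complete and
separated for the I-adic topology of an ideal I, K an ideal of a ring B and φ : B → A a ring
homomorphism with φ(K) ⊆ I. Then the induced morphism Spf(A) → Spf(B) is adic if and only if the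
ideal of A generated by φ(K) is I. -/
theorem result (A B : Type u) [CommRing A] [CommRing B] [IsNoetherianRing A]
    (I : Ideal A) (K : Ideal B) [IsAdicComplete I A] (φ : B →+* A) (h : K ≤ I.comap φ) :
    FSch.IsAdicHom (FSch.spfMap I K φ h) ↔ K.map φ = I := by
  rw [Groth.Agent.Helper6.FSchLib.isAdicHom_spfMap_iff]
  constructor
  · intro H
    have h0 := H 0
    have hle : K.map φ ≤ I := Ideal.map_le_iff_le_comap.mpr h
    apply le_antisymm hle
    have hI : I ≤ K.map φ ⊔ I • I := by
      intro x hx
      have h1 : Ideal.Quotient.mk (I ^ (0 + 2)) x ∈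
          Ideal.map (Ideal.Quotient.mk (I ^ (0 + 2))) (I ^ (0 + 1)) :=
        Ideal.mem_map_of_mem _ (by simpa using hx)
      rw [← h0, zero_add, pow_one, ← Ideal.map_map,
        Ideal.mem_map_iff_of_surjective _ Ideal.Quotient.mk_surjective] at h1
      obtain ⟨y, hy, hyx⟩ := h1
      have h2 : x - y ∈ I ^ 2 := by
        rw [← Ideal.Quotient.eq]; exact hyx.symm
      have h3 : x = y + (x - y) := by ring
      rw [h3, smul_eq_mul, ← pow_two]
      exact Ideal.add_mem _ (Ideal.mem_sup_left hy) (Ideal.mem_sup_right h2)
    exact Submodule.le_of_le_smul_of_le_jacobson_bot (IsNoetherian.noetherian I)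
      (IsAdicComplete.le_jacobson_bot I) hI
  · intro H n
    rw [← Ideal.map_map, Ideal.map_pow, H]

end Groth.Agent.S3867
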