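import Groth.Statements.S3875
import Groth.Agent.Lib.Helper6.FSchLib

set_option autoImplicit false
universe u
open FCompl

namespace Groth.Agent.S3875

open AlgebraicGeometry in
open CategoryTheory in
open CategoryTheory.Limits in
/-- Let g : X → S and h : Y → S be morphisms of schemes, R an ideal sheaf on X and J an ideal sheaf on
S, and consider the completions of S along J, of X along R, of Y along the inverse image of J under
h, and of X x_S Y along the inverse image of R under the first projection (completions presented by
the subschemes of the powers of these ideal sheaves); this is the case where the closed subset of Y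
is the full preimage of that of S. The four compatibility hypotheses between the powers of the ideal
sheaves (for g, for h, and for the two projections of X x_S Y): for each n, the inverse image of the
(n+1)-st power of the target ideal sheaf is contained in the (n+1)-st power of the source ideal
sheaf. These are hypotheses, carried as data for the completed morphisms; the published statement
assumes the schemes locally Noetherian, which this identity does not need. Then the square of
completed morphisms from the completion of X x_S Y along the preimage of the closed subset of X, to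
the completions of X and of Y, over the completion of S, is cartesian in the category of systems. -/
theorem result {X Y S : Scheme.{u}} (g : X ⟶ S) (h : Y ⟶ S)
    (𝓡 : X.IdealSheafData) (𝓙 : S.IdealSheafData)
    (hg : FSch.PowCompat g 𝓡 𝓙) (hh : FSch.PowCompat h (𝓙.comap h) 𝓙)
    (hp : FSch.PowCompat (pullback.fst g h) (𝓡.comap (pullback.fst g h)) 𝓡)
    (hq : FSch.PowCompat (pullback.snd g h) (𝓡.comap (pullback.fst g h)) (𝓙.comap h)) :
    IsPullback (FSch.completionMap (pullback.fst g h) (𝓡.comap (pullback.fst g h)) 𝓡 hp)
      (FSch.completionMap (pullback.snd g h) (𝓡.comap (pullback.fst g h)) (𝓙.comap h) hq)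
      (FSch.completionMap g 𝓡 𝓙 hg) (FSch.completionMap h (𝓙.comap h) 𝓙 hh) := by
  apply Groth.Agent.Helper6.FSchLib.isPullback_of_levelwise
  intro n
  have hA := Groth.Agent.Helper6.FSchLib.isPullback_completionMap_comap (pullback.fst g h) 𝓡 hp n
  have hB := Groth.Agent.Helper6.FSchLib.isPullback_completionMap_comap h 𝓙 hh n
  have hC : IsPullback (pullback.snd g h) (pullback.fst g h) h g :=
    (IsPullback.of_hasPullback g h).flip
  have hD := hA.paste_horiz hC
  have e1 : FSch.completionToX X 𝓡 n ≫ g =
      (FSch.completionMap g 𝓡 𝓙 hg : FSch.Hom _ _).app n ≫ FSch.completionToX S 𝓙 n :=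
    (Groth.Agent.Helper6.FSchLib.completionMap_app_comp_toX g 𝓡 𝓙 hg n).symm
  have e2 : FSch.completionToX (pullback g h) (𝓡.comap (pullback.fst g h)) n ≫ pullback.snd g h =
      (FSch.completionMap (pullback.snd g h) (𝓡.comap (pullback.fst g h)) (𝓙.comap h) hq :
        FSch.Hom _ _).app n ≫ FSch.completionToX Y (𝓙.comap h) n :=
    (Groth.Agent.Helper6.FSchLib.completionMap_app_comp_toX (pullback.snd g h) _ _ hq n).symm
  rw [e1, e2] at hD
  refine (IsPullback.of_right hD ?_ hB).flip
  have hmono : Mono (FSch.completionToX S 𝓙 n) := inferInstance
  rw [← cancel_mono (FSch.completionToX S 𝓙 n), Category.assoc, Category.assoc, ← e1,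
    Groth.Agent.Helper6.FSchLib.completionMap_app_comp_toX h _ _ hh n, ← Category.assoc, ← e2,
    Category.assoc, ← pullback.condition, ← Category.assoc, ← Category.assoc,
    Groth.Agent.Helper6.FSchLib.completionMap_app_comp_toX _ _ _ hp n]

end Groth.Agent.S3875
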