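import Groth.Statements.S3894

set_option autoImplicit false
universe u
open CategoryTheory CategoryTheory.Limits Opposite
open Tors

namespace Groth.Agent.S3894

/-- A torsor P under an abelian sheaf G is trivial, i.e. equivariantly isomorphic to G acting on itself
by translations, if and only if P has a global section (a morphism from the final sheaf of sets). -/
theorem result {C : Type u} [SmallCategory C] {J : GrothendieckTopology C}
    {G : Sheaf J AddCommGrpCat.{u}} (T : Tors.Torsor G) : T.IsTrivial ↔ T.HasSection := by
  let T0 : Sheaf J (Type u) := Sheaf.terminal J Types.isTerminalPUnit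
  have hT0 : IsTerminal T0 := Sheaf.isTerminalTerminal J Types.isTerminalPUnit
  let i0 : ⊤_ (Sheaf J (Type u)) ≅ T0 := terminalIsoIsTerminal hT0
  constructor
  · rintro ⟨e, he⟩
    let z : T0 ⟶ (sheafCompose J (forget AddCommGrpCat.{u})).obj G :=
      ⟨{ app := fun U => TypeCat.ofHom (fun _ => (0 : G.obj.obj U))
         naturality := by
          intro U V f
          ext x
          exact (map_zero (G.obj.map f).hom).symm }⟩
    exact ⟨i0.hom ≫ z ≫ e.hom⟩
  · rintro ⟨s⟩
    let s0 : T0 ⟶ T.P := i0.inv ≫ s
    let p : ∀ U : Cᵒᵖ, T.P.obj.obj U := fun U => s0.hom.app U PUnit.unit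
    have hp : ∀ {U V : Cᵒᵖ} (f : U ⟶ V), T.P.obj.map f (p U) = p V := fun f =>
      (congr($(s0.hom.naturality f) PUnit.unit)).symm
    let φ : (sheafCompose J (forget AddCommGrpCat.{u})).obj G ⟶ T.P :=
      ⟨{ app := fun U => TypeCat.ofHom (fun g => T.vadd g (p U))
         naturality := by
          intro U V f
          ext g
          change T.vadd (G.obj.map f g) (p V) = T.P.obj.map f (T.vadd g (p U))
          rw [T.map_vadd, hp] }⟩
    have hφ : IsIso φ := by
      have h1 : IsIso φ.hom := by
        apply (config := { allowSynthFailures := true }) NatIso.isIso_of_isIso_app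
        intro U
        rw [isIso_iff_bijective]
        constructor
        · intro g h hgh
          exact (T.free_transitive (p U) (T.vadd h (p U))).unique hgh rfl
        · intro q
          obtain ⟨g, hg, -⟩ := T.free_transitive (p U) q
          exact ⟨g, hg⟩
      exact (isIso_iff_of_reflects_iso φ (sheafToPresheaf J (Type u))).1 h1
    refine ⟨asIso φ, fun U g h => ?_⟩
    exact T.add_vadd g h (p U)

end Groth.Agent.S3894
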