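import Groth.Statements.S3895
import Groth.Agent.S13799

set_option autoImplicit false
set_option linter.unusedSectionVars false
set_option linter.unusedVariables false
universe u
open CategoryTheory CategoryTheory.Limits Opposite
open Tors

namespace Groth.Agent.S3895

open Groth.Agent.S13791 (Zc Zsh elems elems_injective elems_comp elems_map exists_of_elems)
open Groth.Agent.S13799 (sep glue res_comp nat_apply injective_of_mono exact_sections locally_surj
  typeSheaf one elems_eq one_eq one_map)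

variable {C : Type u} [SmallCategory C] {J : GrothendieckTopology C}

section FromClass

variable {G I B : Sheaf J AddCommGrpCat.{u}} (ι : G ⟶ I) (π : I ⟶ B) (b₀ : Zsh J ⟶ B)
  (hzero : ∀ (W : Cᵒᵖ) (d : G.obj.obj W), (π.hom.app W).hom ((ι.hom.app W).hom d) = 0)
  (hι : ∀ W : Cᵒᵖ, Function.Injective (ι.hom.app W).hom)
  (hex : ∀ (W : Cᵒᵖ) (y : I.obj.obj W), (π.hom.app W).hom y = 0 →
    ∃ d, (ι.hom.app W).hom d = y)
  (hπ : ∀ (W : C) (b : B.obj.obj (op W)), ∃ R ∈ J W, ∀ ⦃V : C⦄ (g : V ⟶ W), R g →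
    ∃ y : I.obj.obj (op V), (π.hom.app (op V)).hom y = (B.obj.map g.op).hom b)

lemma nat_apply' {F G : Sheaf J AddCommGrpCat.{u}} (π : F ⟶ G) {V W : Cᵒᵖ} (g : W ⟶ V)
    (y : F.obj.obj W) :
    (π.hom.app V).hom ((F.obj.map g).hom y) = (G.obj.map g).hom ((π.hom.app W).hom y) := by
  have := ConcreteCategory.congr_hom (π.hom.naturality g) y
  simpa using this

lemma elems_map' {F : Sheaf J AddCommGrpCat.{u}} (x : Zsh J ⟶ F) {X Y : Cᵒᵖ} (f : X ⟶ Y) :
    (F.obj.map f).hom (elems J x X.unop) = elems J x Y.unop :=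
  elems_map J x f.unop

/-- the presheaf of lifts of the section `b₀` -/
def TP : Cᵒᵖ ⥤ Type u where
  obj X := {y : I.obj.obj X // (π.hom.app X).hom y = elems J b₀ X.unop}
  map {X Y} f := TypeCat.ofHom (fun y => ⟨(I.obj.map f).hom y.1, by
    rw [nat_apply', y.2, elems_map']⟩)
  map_id X := by
    ext y
    show (I.obj.map (𝟙 X)).hom y.1 = y.1
    simp
  map_comp f g := by
    ext y
    show (I.obj.map (f ≫ g)).hom y.1 = (I.obj.map g).hom ((I.obj.map f).hom y.1)
    simp

lemma TP_map_val {X Y : Cᵒᵖ} (f : X ⟶ Y) (y : (TP π b₀).obj X) :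
    ((TP π b₀).map f y).1 = (I.obj.map f).hom y.1 := rfl

lemma TP_isSheaf : Presieve.IsSheaf J (TP π b₀) := by
  intro X S hS x hx
  obtain ⟨y, hy⟩ := glue J I S hS (fun V f hf => (x f hf).1) (by
    intro V₁ V₂ Y f₁ f₂ h₁ h₂ g₁ g₂ e
    exact congrArg Subtype.val (hx g₁ g₂ h₁ h₂ e))
  have hπy : (π.hom.app (op X)).hom y = elems J b₀ X := by
    refine sep J B S hS _ _ (fun V f hf => ?_)
    rw [← nat_apply, hy f hf, (x f hf).2, elems_map]
  refine ⟨⟨y, hπy⟩, ?_, ?_⟩
  · intro V f hf
    exact Subtype.ext (hy f hf)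
  · intro t ht
    apply Subtype.ext
    refine sep J I S hS _ _ (fun V f hf => ?_)
    rw [hy f hf]
    exact congrArg Subtype.val (ht f hf)

/-- the sheaf of lifts -/
def TPsh : Sheaf J (Type u) := ⟨TP π b₀, (isSheaf_iff_isSheaf_of_type J _).2 (TP_isSheaf π b₀)⟩

end FromClass

section FromClass2

variable {G I B : Sheaf J AddCommGrpCat.{u}} (ι : G ⟶ I) (π : I ⟶ B) (b₀ : Zsh J ⟶ B)
  (hzero : ∀ (W : Cᵒᵖ) (d : G.obj.obj W), (π.hom.app W).hom ((ι.hom.app W).hom d) = 0)
  (hι : ∀ W : Cᵒᵖ, Function.Injective (ι.hom.app W).hom)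
  (hex : ∀ (W : Cᵒᵖ) (y : I.obj.obj W), (π.hom.app W).hom y = 0 →
    ∃ d, (ι.hom.app W).hom d = y)
  (hπ : ∀ (W : C) (b : B.obj.obj (op W)), ∃ R ∈ J W, ∀ ⦃V : C⦄ (g : V ⟶ W), R g →
    ∃ y : I.obj.obj (op V), (π.hom.app (op V)).hom y = (B.obj.map g.op).hom b)

/-- the torsor of lifts of the section `b₀` -/
def torsorOf : Tors.Torsor G where
  P := TPsh π b₀
  vadd {U} g p := ⟨(ι.hom.app U).hom g + p.1, by rw [map_add, hzero, zero_add, p.2]⟩
  zero_vadd {U} p := Subtype.ext (by simp)
  add_vadd {U} g h p := Subtype.ext (by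
    show (ι.hom.app U).hom (g + h) + p.1 = (ι.hom.app U).hom g + ((ι.hom.app U).hom h + p.1)
    rw [map_add, add_assoc])
  map_vadd {U V} f g p := Subtype.ext (by
    show (I.obj.map f).hom ((ι.hom.app U).hom g + p.1) =
      (ι.hom.app V).hom ((G.obj.map f).hom g) + (I.obj.map f).hom p.1
    rw [map_add, nat_apply'])
  free_transitive {U} p q := by
    obtain ⟨g, hg⟩ := hex U (q.1 - p.1) (by rw [map_sub, q.2, p.2, sub_self])
    refine ⟨g, Subtype.ext ?_, fun g' hg' => ?_⟩
    · show (ι.hom.app U).hom g + p.1 = q.1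
      rw [hg, sub_add_cancel]
    · apply hι U
      have h1 : (ι.hom.app U).hom g' + p.1 = q.1 := congrArg Subtype.val hg'
      rw [hg, ← h1, add_sub_cancel_right]
  locally_nonempty U := by
    obtain ⟨R, hR, h⟩ := hπ U (elems J b₀ U)
    refine ⟨R, hR, fun V f hf => ?_⟩
    obtain ⟨y, hy⟩ := h f hf
    rw [elems_map] at hy
    exact ⟨⟨y, hy⟩⟩

lemma lift_of_hasSection (h : (torsorOf ι π b₀ hzero hι hex hπ).HasSection) :
    ∃ s₀ : Zsh J ⟶ I, s₀ ≫ π = b₀ := by
  obtain ⟨σ⟩ := h
  let E : Sheaf J (Type u) := Sheaf.terminal J Types.isTerminalPUnit.{u}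
  let ρ : E ⟶ TPsh π b₀ := terminal.from E ≫ σ
  let y : ∀ X : C, (TP π b₀).obj (op X) := fun X => ρ.hom.app (op X) PUnit.unit
  have hy : ∀ {X Y : C} (f : X ⟶ Y), (TP π b₀).map f.op (y Y) = y X := by
    intro X Y f
    have := ConcreteCategory.congr_hom (ρ.hom.naturality f.op) PUnit.unit
    exact this.symm
  obtain ⟨s₀, hs₀⟩ := exists_of_elems J (fun X => (y X).1) (fun {X Y} f =>
    congrArg Subtype.val (hy f))
  refine ⟨s₀, elems_injective J _ _ (fun X => ?_)⟩
  rw [elems_comp, hs₀]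
  exact (y X).2

end FromClass2

theorem subsingleton_of_sections (G : Sheaf J AddCommGrpCat.{u})
    (h : ∀ T : Tors.Torsor G, T.HasSection) : Subsingleton (Sheaf.H.{u} G 1) := by
  refine subsingleton_of_forall_eq 0 (fun x => ?_)
  let S : ShortComplex (Sheaf J AddCommGrpCat.{u}) :=
    ShortComplex.mk (Injective.ι G) (cokernel.π (Injective.ι G)) (cokernel.condition _)
  have hS : S.ShortExact :=
    { exact := S.exact_of_g_is_cokernel (cokernelIsCokernel _)
      mono_f := inferInstanceAs (Mono (Injective.ι G))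
      epi_g := inferInstanceAs (Epi (cokernel.π (Injective.ι G))) }
  have h0 : Abelian.Ext.comp x (Abelian.Ext.mk₀ S.f) (add_zero 1) = 0 :=
    Abelian.Ext.eq_zero_of_injective _
  obtain ⟨x₃, hx₃⟩ := Abelian.Ext.covariant_sequence_exact₁ _ hS x h0 (zero_add 1)
  obtain ⟨b₀, rfl⟩ := (Abelian.Ext.mk₀_bijective _ _).2 x₃
  haveI := hS.mono_f
  haveI := hS.epi_g
  obtain ⟨s₀, hs₀⟩ := lift_of_hasSection S.f S.g b₀
    (fun W d => congrArg (fun (m : S.X₁ ⟶ S.X₃) => (m.hom.app W).hom d) S.zero)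
    (fun W => injective_of_mono S.f W.unop)
    (fun W y hy => exact_sections S hS W.unop y hy)
    (fun W b => locally_surj S.g W b) (h _)
  rw [← hx₃, ← hs₀, ← Abelian.Ext.mk₀_comp_mk₀_assoc s₀ S.g hS.extClass, hS.comp_extClass,
    Abelian.Ext.comp_zero]

section FreeAlg

variable {α : Type u}

/-- the augmentation -/
noncomputable def augHom (α : Type u) : FreeAbelianGroup α →+ ULift.{u} ℤ :=
  FreeAbelianGroup.lift (fun _ => ULift.up 1)

lemma augHom_of (a : α) : augHom α (FreeAbelianGroup.of a) = ULift.up 1 :=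
  FreeAbelianGroup.lift_apply_of _ _

lemma lift_const {H : Type u} [AddCommGroup H] (c : H) (x : FreeAbelianGroup α) :
    FreeAbelianGroup.lift (fun _ : α => c) x = (augHom α x).down • c := by
  have : FreeAbelianGroup.lift (fun _ : α => c) =
      ((zmultiplesHom H c).comp AddEquiv.ulift.toAddMonoidHom).comp (augHom α) := by
    apply FreeAbelianGroup.lift_ext
    intro a
    rw [FreeAbelianGroup.lift_apply_of]
    simp only [AddMonoidHom.comp_apply, augHom_of]
    show c = (1 : ℤ) • c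
    rw [one_smul]
  rw [this]
  rfl

lemma lift_indep {H : Type u} [AddCommGroup H] (φ₁ φ₂ : α → H) (c : H)
    (h : ∀ a, φ₁ a = φ₂ a + c) (k : FreeAbelianGroup α) (hk : augHom α k = 0) :
    FreeAbelianGroup.lift φ₁ k = FreeAbelianGroup.lift φ₂ k := by
  have e : φ₁ = φ₂ + fun _ => c := funext h
  rw [e, FreeAbelianGroup.lift_add_apply, lift_const, hk]
  simp

lemma eq_zero_of_isEmpty [IsEmpty α] (x : FreeAbelianGroup α) : x = 0 := by
  induction x using FreeAbelianGroup.induction_on with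
  | zero => rfl
  | of a => exact isEmptyElim a
  | neg a h => exact isEmptyElim a
  | add x y hx hy => rw [hx, hy, add_zero]

end FreeAlg


section Diff

variable {G : Sheaf J AddCommGrpCat.{u}} (T : Tors.Torsor G)

/-- the difference of two sections of a torsor -/
noncomputable def diff {X : Cᵒᵖ} (p q : T.P.obj.obj X) : G.obj.obj X :=
  (T.free_transitive q p).choose

lemma diff_vadd {X : Cᵒᵖ} (p q : T.P.obj.obj X) : T.vadd (diff T p q) q = p :=
  (T.free_transitive q p).choose_spec.1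

lemma eq_diff {X : Cᵒᵖ} (p q : T.P.obj.obj X) (g : G.obj.obj X) (h : T.vadd g q = p) :
    g = diff T p q :=
  (T.free_transitive q p).choose_spec.2 g h

lemma diff_sub_diff {X : Cᵒᵖ} (p p' q : T.P.obj.obj X) :
    diff T p q - diff T p' q = diff T p p' := by
  apply eq_diff
  calc T.vadd (diff T p q - diff T p' q) p'
      = T.vadd (diff T p q - diff T p' q) (T.vadd (diff T p' q) q) := by rw [diff_vadd T p' q]
    _ = T.vadd (diff T p q - diff T p' q + diff T p' q) q := (T.add_vadd _ _ _).symm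
    _ = T.vadd (diff T p q) q := by rw [sub_add_cancel]
    _ = p := diff_vadd T p q

lemma diff_map {X Y : Cᵒᵖ} (f : X ⟶ Y) (p q : T.P.obj.obj X) :
    (G.obj.map f).hom (diff T p q) = diff T (T.P.obj.map f p) (T.P.obj.map f q) := by
  apply eq_diff
  rw [← T.map_vadd, diff_vadd]

end Diff

section Pre

variable {G : Sheaf J AddCommGrpCat.{u}} (T : Tors.Torsor G)

/-- the free abelian presheaf on the torsor -/
noncomputable abbrev FT : Cᵒᵖ ⥤ AddCommGrpCat.{u} := T.P.obj ⋙ AddCommGrpCat.free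

/-- the constant presheaf `ℤ` -/
abbrev constZ : Cᵒᵖ ⥤ AddCommGrpCat.{u} := (Functor.const Cᵒᵖ).obj Zc

lemma FT_map_of {X Y : Cᵒᵖ} (f : X ⟶ Y) (a : T.P.obj.obj X) :
    ((FT T).map f).hom (FreeAbelianGroup.of a) = FreeAbelianGroup.of (T.P.obj.map f a) :=
  FreeAbelianGroup.map_of_apply a

lemma augHom_map {X Y : Cᵒᵖ} (f : X ⟶ Y) (x : FreeAbelianGroup (T.P.obj.obj X)) :
    augHom (T.P.obj.obj Y) (((FT T).map f).hom x) = augHom (T.P.obj.obj X) x := by
  have : (augHom (T.P.obj.obj Y)).comp (FreeAbelianGroup.map (T.P.obj.map f)) =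
      augHom (T.P.obj.obj X) := by
    apply FreeAbelianGroup.lift_ext
    intro a
    show augHom _ (FreeAbelianGroup.map (T.P.obj.map f) (FreeAbelianGroup.of a)) =
      augHom _ (FreeAbelianGroup.of a)
    rw [FreeAbelianGroup.map_of_apply, augHom_of, augHom_of]
  exact DFunLike.congr_fun this x

/-- the augmentation of presheaves -/
noncomputable def aug : FT T ⟶ constZ (C := C) where
  app X := AddCommGrpCat.ofHom (augHom (T.P.obj.obj X))
  naturality X Y f := by
    apply AddCommGrpCat.hom_ext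
    apply AddMonoidHom.ext
    intro x
    exact augHom_map T f x

/-- the kernel presheaf -/
noncomputable def Kpre : Cᵒᵖ ⥤ AddCommGrpCat.{u} where
  obj X := AddCommGrpCat.of (augHom (T.P.obj.obj X)).ker
  map {X Y} f := AddCommGrpCat.ofHom
    ((((FT T).map f).hom.comp (AddSubgroup.subtype _)).codRestrict _ (fun k => by
      exact (augHom_map T f k.1).trans k.2))
  map_id X := by
    apply AddCommGrpCat.hom_ext
    apply AddMonoidHom.ext
    intro k
    apply Subtype.ext
    show ((FT T).map (𝟙 X)).hom k.1 = k.1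
    rw [CategoryTheory.Functor.map_id]
    rfl
  map_comp f g := by
    apply AddCommGrpCat.hom_ext
    apply AddMonoidHom.ext
    intro k
    apply Subtype.ext
    show ((FT T).map (f ≫ g)).hom k.1 = ((FT T).map g).hom (((FT T).map f).hom k.1)
    rw [Functor.map_comp]
    rfl

lemma Kpre_map_val {X Y : Cᵒᵖ} (f : X ⟶ Y) (k : (Kpre T).obj X) :
    (((Kpre T).map f).hom k).1 = ((FT T).map f).hom k.1 := rfl

/-- the inclusion of the kernel presheaf -/
noncomputable def inc : Kpre T ⟶ FT T where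
  app X := AddCommGrpCat.ofHom (AddSubgroup.subtype _)
  naturality X Y f := by
    apply AddCommGrpCat.hom_ext
    apply AddMonoidHom.ext
    intro k
    rfl

lemma inc_aug : inc T ≫ aug T = 0 := by
  ext X k
  exact k.2

/-- the kernel presheaf is a kernel -/
noncomputable def isLimitKpre : IsLimit (KernelFork.ofι (inc T) (inc_aug T)) :=
  KernelFork.IsLimit.ofι _ _
    (fun {W'} h hw =>
      { app := fun X => AddCommGrpCat.ofHom ((h.app X).hom.codRestrict _ (fun x => by
          have := ConcreteCategory.congr_hom (congr_app hw X) x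
          exact this))
        naturality := fun X Y f => by
          apply AddCommGrpCat.hom_ext
          apply AddMonoidHom.ext
          intro x
          apply Subtype.ext
          exact ConcreteCategory.congr_hom (h.naturality f) x })
    (fun {W'} h hw => by
      ext X x
      rfl)
    (fun {W'} h hw m hm => by
      ext X x
      apply Subtype.ext
      have := ConcreteCategory.congr_hom (congr_app hm X) x
      exact this)

end Pre

section Kappa

variable {G : Sheaf J AddCommGrpCat.{u}} (T : Tors.Torsor G)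

open Classical in
/-- the difference map on the kernel, sectionwise -/
noncomputable def κfun (X : Cᵒᵖ) : (augHom (T.P.obj.obj X)).ker →+ G.obj.obj X :=
  if h : Nonempty (T.P.obj.obj X) then
    (FreeAbelianGroup.lift (fun t => diff T t h.some)).comp (AddSubgroup.subtype _)
  else 0

lemma κfun_pos (X : Cᵒᵖ) (t₀ : T.P.obj.obj X) (k : (augHom (T.P.obj.obj X)).ker) :
    κfun T X k = FreeAbelianGroup.lift (fun t => diff T t t₀) k.1 := by
  have h : Nonempty (T.P.obj.obj X) := ⟨t₀⟩
  rw [κfun, dif_pos h]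
  show FreeAbelianGroup.lift (fun t => diff T t h.some) k.1 = _
  refine lift_indep _ _ (diff T t₀ h.some) (fun t => ?_) k.1 k.2
  rw [← diff_sub_diff T t t₀ h.some, sub_add_cancel]

lemma κfun_naturality {X Y : Cᵒᵖ} (f : X ⟶ Y) (k : (augHom (T.P.obj.obj X)).ker) :
    κfun T Y (((Kpre T).map f).hom k) = (G.obj.map f).hom (κfun T X k) := by
  by_cases hX : Nonempty (T.P.obj.obj X)
  · obtain ⟨t₀⟩ := hX
    rw [κfun_pos T X t₀, κfun_pos T Y (T.P.obj.map f t₀), Kpre_map_val]
    have e1 : FreeAbelianGroup.lift (fun t => diff T t (T.P.obj.map f t₀))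
        (((FT T).map f).hom k.1) =
        FreeAbelianGroup.lift ((fun t => diff T t (T.P.obj.map f t₀)) ∘ (T.P.obj.map f)) k.1 :=
      (FreeAbelianGroup.lift_comp _ _ _).symm
    have e2 : (G.obj.map f).hom.comp (FreeAbelianGroup.lift (fun t => diff T t t₀)) =
        FreeAbelianGroup.lift ((fun t => diff T t (T.P.obj.map f t₀)) ∘ (T.P.obj.map f)) := by
      apply FreeAbelianGroup.lift_ext
      intro a
      rw [AddMonoidHom.comp_apply, FreeAbelianGroup.lift_apply_of, FreeAbelianGroup.lift_apply_of,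
        diff_map]
      rfl
    rw [e1, ← e2]
    rfl
  · have : IsEmpty (T.P.obj.obj X) := not_nonempty_iff.mp hX
    have hk : k = 0 := Subtype.ext (eq_zero_of_isEmpty k.1)
    have h1 : ((Kpre T).map f).hom k = 0 :=
      (congrArg ((Kpre T).map f).hom hk).trans (map_zero _)
    have h2 : κfun T X k = 0 := (congrArg (κfun T X) hk).trans (map_zero _)
    calc κfun T Y (((Kpre T).map f).hom k) = κfun T Y 0 := congrArg _ h1
      _ = 0 := map_zero _
      _ = (G.obj.map f).hom 0 := (map_zero _).symm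
      _ = _ := congrArg _ h2.symm

/-- the difference map on the kernel presheaf -/
noncomputable def κpre : Kpre T ⟶ G.obj where
  app X := AddCommGrpCat.ofHom (κfun T X)
  naturality X Y f := by
    apply AddCommGrpCat.hom_ext
    apply AddMonoidHom.ext
    intro k
    exact κfun_naturality T f k

lemma κpre_sub {X : Cᵒᵖ} (t t' : T.P.obj.obj X) (k : (Kpre T).obj X)
    (hk : k.1 = FreeAbelianGroup.of t - FreeAbelianGroup.of t') :
    ((κpre T).app X).hom k = diff T t t' := by
  show κfun T X k = _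
  rw [κfun_pos T X t', hk, map_sub, FreeAbelianGroup.lift_apply_of, FreeAbelianGroup.lift_apply_of,
    diff_sub_diff]
  -- diff t t' - diff t' t' = diff t t'
  
end Kappa

section Sh

open Groth.Agent.S13799 (sep glue one elems_eq one_eq)

variable {G : Sheaf J AddCommGrpCat.{u}} (T : Tors.Torsor G)

/-- the sheafified sequence -/
noncomputable def Ssh : ShortComplex (Sheaf J AddCommGrpCat.{u}) :=
  ShortComplex.mk ((presheafToSheaf J AddCommGrpCat.{u}).map (inc T))
    ((presheafToSheaf J AddCommGrpCat.{u}).map (aug T))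
    (by rw [← Functor.map_comp, inc_aug, Functor.map_zero])

/-- the kernel property after sheafification -/
noncomputable def Ssh_isLimit : IsLimit (KernelFork.ofι (Ssh T).f (Ssh T).zero) :=
  (KernelFork.ofι (inc T) (inc_aug T)).mapIsLimit (isLimitKpre T)
    (presheafToSheaf J AddCommGrpCat.{u})

lemma Ssh_exact : (Ssh T).Exact := ShortComplex.exact_of_f_is_kernel _ (Ssh_isLimit T)

lemma Ssh_mono : Mono (Ssh T).f := mono_of_isLimit_fork (Ssh_isLimit T)

lemma aug_sh_apply {V : C} (t : T.P.obj.obj (op V)) :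
    ((Ssh T).g.hom.app (op V)).hom
      (((toSheafify J (FT T)).app (op V)).hom (FreeAbelianGroup.of t)) = one J V := by
  have h := toSheafify_naturality J (aug T)
  have h2 := ConcreteCategory.congr_hom (congr_app h (op V)) (FreeAbelianGroup.of t)
  rw [one_eq]
  refine h2.symm.trans ?_
  show ((toSheafify J (constZ (C := C))).app (op V)).hom
    (augHom _ (FreeAbelianGroup.of t)) = _
  rw [augHom_of]

lemma Ssh_epi : Epi (Ssh T).g := by
  apply Preadditive.epi_of_cancel_zero
  intro H h hh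
  refine elems_injective J h 0 (fun X => ?_)
  have e0 : elems J (0 : Zsh J ⟶ H) X = 0 := by
    rw [elems_eq]
    rfl
  rw [e0]
  obtain ⟨R, hR, hne⟩ := T.locally_nonempty X
  refine sep J H R hR _ _ (fun V f hf => ?_)
  obtain ⟨t⟩ := hne f hf
  rw [map_zero, elems_map, elems_eq, ← aug_sh_apply T t]
  have := congrArg (fun (m : (Ssh T).X₂ ⟶ H) => (m.hom.app (op V)).hom
    (((toSheafify J (FT T)).app (op V)).hom (FreeAbelianGroup.of t))) hh
  exact this

lemma Ssh_shortExact : (Ssh T).ShortExact :=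
  { exact := Ssh_exact T
    mono_f := Ssh_mono T
    epi_g := Ssh_epi T }

end Sh

section Psi

open Groth.Agent.S13799 (sep glue one elems_eq one_eq)

variable {G : Sheaf J AddCommGrpCat.{u}} (T : Tors.Torsor G)

/-- the difference map on the sheafified kernel -/
noncomputable def κsh : (Ssh T).X₁ ⟶ G := ⟨sheafifyLift J (κpre T) G.property⟩

lemma exists_psi (hH : Subsingleton (Sheaf.H.{u} G 1)) :
    ∃ ψ : (Ssh T).X₂ ⟶ G, (Ssh T).f ≫ ψ = κsh T := by
  have hS := Ssh_shortExact T
  have h0 : hS.extClass.comp (Abelian.Ext.mk₀ (κsh T)) (add_zero 1) = 0 :=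
    @Subsingleton.elim _ hH _ _
  obtain ⟨x₂, hx₂⟩ := Abelian.Ext.contravariant_sequence_exact₁ hS G
    (Abelian.Ext.mk₀ (κsh T)) (add_zero 1) h0
  obtain ⟨ψ, rfl⟩ := (Abelian.Ext.mk₀_bijective _ _).2 x₂
  rw [Abelian.Ext.mk₀_comp_mk₀] at hx₂
  exact ⟨ψ, (Abelian.Ext.mk₀_bijective _ _).1 hx₂⟩

variable (ψ : (Ssh T).X₂ ⟶ G) (hψ : (Ssh T).f ≫ ψ = κsh T)

/-- the presheaf-level map -/
noncomputable def ψpre : FT T ⟶ G.obj := toSheafify J (FT T) ≫ ψ.hom

include hψ in
lemma inc_ψpre : inc T ≫ ψpre T ψ = κpre T := by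
  have h1 := toSheafify_naturality J (inc T)
  have h2 : sheafifyMap J (inc T) ≫ ψ.hom = sheafifyLift J (κpre T) G.property :=
    congrArg (fun (m : (Ssh T).X₁ ⟶ G) => m.hom) hψ
  rw [ψpre, ← Category.assoc, h1, Category.assoc, h2, toSheafify_sheafifyLift]

/-- the value of `ψ` on a section of the torsor -/
noncomputable def ψv {X : Cᵒᵖ} (t : T.P.obj.obj X) : G.obj.obj X :=
  ((ψpre T ψ).app X).hom (FreeAbelianGroup.of t)

include hψ in
lemma ψv_sub {X : Cᵒᵖ} (t t' : T.P.obj.obj X) : ψv T ψ t - ψv T ψ t' = diff T t t' := by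
  have hk : FreeAbelianGroup.of t - FreeAbelianGroup.of t' ∈ (augHom (T.P.obj.obj X)).ker := by
    show augHom _ _ = 0
    rw [map_sub, augHom_of, augHom_of, sub_self]
  let k : (Kpre T).obj X := ⟨_, hk⟩
  have h1 := ConcreteCategory.congr_hom (congr_app (inc_ψpre T ψ hψ) X) k
  rw [κpre_sub T t t' k rfl] at h1
  rw [← h1]
  exact (map_sub ((ψpre T ψ).app X).hom (FreeAbelianGroup.of t) (FreeAbelianGroup.of t')).symm

lemma ψv_map {X Y : Cᵒᵖ} (f : X ⟶ Y) (t : T.P.obj.obj X) :
    (G.obj.map f).hom (ψv T ψ t) = ψv T ψ (T.P.obj.map f t) := by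
  have h := ConcreteCategory.congr_hom ((ψpre T ψ).naturality f) (FreeAbelianGroup.of t)
  rw [ψv, ψv, ← FT_map_of]
  exact h.symm

/-- the canonical local section -/
noncomputable def σ {X : Cᵒᵖ} (t : T.P.obj.obj X) : T.P.obj.obj X := T.vadd (-(ψv T ψ t)) t

include hψ in
lemma σ_indep {X : Cᵒᵖ} (t t' : T.P.obj.obj X) : σ T ψ t = σ T ψ t' := by
  have h1 := ψv_sub T ψ hψ t t'
  have h2 : -(ψv T ψ t) + diff T t t' = -(ψv T ψ t') := by
    rw [← h1]
    abel
  calc σ T ψ t = T.vadd (-(ψv T ψ t)) (T.vadd (diff T t t') t') := by rw [σ, diff_vadd]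
    _ = T.vadd (-(ψv T ψ t) + diff T t t') t' := (T.add_vadd _ _ _).symm
    _ = σ T ψ t' := by rw [h2, σ]

lemma σ_map {X Y : Cᵒᵖ} (f : X ⟶ Y) (t : T.P.obj.obj X) :
    T.P.obj.map f (σ T ψ t) = σ T ψ (T.P.obj.map f t) := by
  rw [σ, T.map_vadd, map_neg, ψv_map, σ]

end Psi

section Glue

variable {G : Sheaf J AddCommGrpCat.{u}} (T : Tors.Torsor G)
  (ψ : (Ssh T).X₂ ⟶ G) (hψ : (Ssh T).f ≫ ψ = κsh T)

lemma TP_sheaf : Presieve.IsSheaf J T.P.obj := (isSheaf_iff_isSheaf_of_type J _).1 T.P.property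

/-- the property characterizing the global section -/
def Q (X : C) (s : T.P.obj.obj (op X)) : Prop :=
  ∀ ⦃V : C⦄ (f : V ⟶ X) (t : T.P.obj.obj (op V)), T.P.obj.map f.op s = σ T ψ t

include hψ in
lemma Q_exists (X : C) : ∃ s, Q T ψ X s := by
  obtain ⟨R, hR, hne⟩ := T.locally_nonempty X
  let x : Presieve.FamilyOfElements T.P.obj R.arrows :=
    fun V f hf => σ T ψ (Classical.choice (hne f hf))
  have hx : x.Compatible := by
    intro Y₁ Y₂ Z g₁ g₂ f₁ f₂ h₁ h₂ e
    show T.P.obj.map g₁.op (σ T ψ _) = T.P.obj.map g₂.op (σ T ψ _)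
    rw [σ_map, σ_map]
    exact σ_indep T ψ hψ _ _
  have hs : ∀ ⦃V : C⦄ (f : V ⟶ X) (hf : R f),
      T.P.obj.map f.op ((TP_sheaf T R hR).amalgamate x hx) = x f hf :=
    fun V f hf => (TP_sheaf T R hR).valid_glue hx f hf
  refine ⟨(TP_sheaf T R hR).amalgamate x hx, fun V f t => ?_⟩
  refine ((TP_sheaf T) (R.pullback f) (J.pullback_stable f hR)).isSeparatedFor.ext
    (fun W h hh => ?_)
  have e1 : T.P.obj.map h.op (T.P.obj.map f.op ((TP_sheaf T R hR).amalgamate x hx)) =
      T.P.obj.map (h ≫ f).op ((TP_sheaf T R hR).amalgamate x hx) := by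
    rw [op_comp, Functor.map_comp]
    rfl
  rw [e1, hs _ hh, σ_map]
  exact σ_indep T ψ hψ _ _

lemma Q_unique (X : C) (s s' : T.P.obj.obj (op X)) (h : Q T ψ X s) (h' : Q T ψ X s') : s = s' := by
  obtain ⟨R, hR, hne⟩ := T.locally_nonempty X
  refine ((TP_sheaf T) R hR).isSeparatedFor.ext (fun V f hf => ?_)
  obtain ⟨t⟩ := hne f hf
  rw [h f t, h' f t]

lemma Q_map {X X' : C} (g : X' ⟶ X) (s : T.P.obj.obj (op X)) (h : Q T ψ X s) :
    Q T ψ X' (T.P.obj.map g.op s) := by
  intro V f t
  have := h (f ≫ g) t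
  rw [op_comp, Functor.map_comp] at this
  exact this

include hψ in
theorem hasSection_of_psi : T.HasSection := by
  choose s hs using Q_exists T ψ hψ
  let E : Sheaf J (Type u) := Sheaf.terminal J Types.isTerminalPUnit.{u}
  let e : E ⟶ T.P :=
    ⟨{ app := fun X => TypeCat.ofHom (fun _ => s X.unop)
       naturality := fun X Y f => by
         ext x
         exact Q_unique T ψ Y.unop _ _ (hs Y.unop) (Q_map T ψ f.unop _ (hs X.unop)) }⟩
  exact ⟨(Sheaf.isTerminalTerminal J Types.isTerminalPUnit.{u}).from _ ≫ e⟩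

theorem hasSection (hH : Subsingleton (Sheaf.H.{u} G 1)) : T.HasSection := by
  obtain ⟨ψ, hψ⟩ := exists_psi T hH
  exact hasSection_of_psi T ψ hψ

end Glue


/-- In a map-free form (small site, abelian sheaf G): the first cohomology group H^1(G) (Ext^1 out of
the constant sheaf Z) is zero if and only if every G-torsor has a global section. The source's
statement is stronger: a canonical bijection between isomorphism classes of G-torsors and H^1(G). -/
theorem result {C : Type u} [SmallCategory C] {J : GrothendieckTopology C}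
    (G : Sheaf J AddCommGrpCat.{u}) :
    Subsingleton (Sheaf.H.{u} G 1) ↔ ∀ T : Tors.Torsor G, T.HasSection := by
  exact ⟨fun hH T => hasSection T hH, subsingleton_of_sections G⟩

end Groth.Agent.S3895
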