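import Groth.Statements.S4027
import Mathlib
-- import your own Groth.Agent.* helpers here

set_option autoImplicit false
universe u
open LefPen

namespace Groth.Agent.S4027

section

variable (k : Type u) [Field k] (r : ℕ)

/-- substitution `X_j ↦ X_j T` -/
noncomputable def sub : MvPolynomial (Fin r) k →+* Polynomial (MvPolynomial (Fin r) k) :=
  MvPolynomial.eval₂Hom (Polynomial.C.comp MvPolynomial.C)
    (fun j => Polynomial.C (MvPolynomial.X j) * Polynomial.X)

/-- swap: `k[X][T] → k[T][X]` -/
noncomputable def sw : Polynomial (MvPolynomial (Fin r) k) →+* MvPolynomial (Fin r) (Polynomial k) :=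
  Polynomial.eval₂RingHom (MvPolynomial.map Polynomial.C) (MvPolynomial.C Polynomial.X)

/-- swap back -/
noncomputable def sw' : MvPolynomial (Fin r) (Polynomial k) →+* Polynomial (MvPolynomial (Fin r) k) :=
  MvPolynomial.eval₂Hom (Polynomial.mapRingHom MvPolynomial.C)
    (fun j => Polynomial.C (MvPolynomial.X j))

lemma sw'_sw (P : Polynomial (MvPolynomial (Fin r) k)) : sw' k r (sw k r P) = P := by
  have h : (sw' k r).comp (sw k r) = RingHom.id _ := by
    apply Polynomial.ringHom_ext
    · intro a
      have h2 : ((sw' k r).comp (sw k r)).comp Polynomial.C =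
          (RingHom.id _).comp Polynomial.C := by
        apply MvPolynomial.ringHom_ext
        · intro c
          simp [sw, sw']
        · intro j
          simp [sw, sw']
      exact RingHom.congr_fun h2 a
    · simp [sw, sw']
  exact RingHom.congr_fun h P

lemma sw_injective : Function.Injective (sw k r) :=
  Function.LeftInverse.injective (sw'_sw k r)

lemma ev1_sub (F : MvPolynomial (Fin r) k) : Polynomial.eval 1 (sub k r F) = F := by
  have h : (Polynomial.evalRingHom 1).comp (sub k r) = RingHom.id _ := by
    apply MvPolynomial.ringHom_ext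
    · intro c
      simp [sub]
    · intro j
      simp [sub]
  exact RingHom.congr_fun h F

lemma ev0_sub (F : MvPolynomial (Fin r) k) :
    Polynomial.eval 0 (sub k r F) = MvPolynomial.C (MvPolynomial.eval (fun _ => (0 : k)) F) := by
  have h : (Polynomial.evalRingHom 0).comp (sub k r) =
      MvPolynomial.C.comp (MvPolynomial.eval (fun _ => (0 : k))) := by
    apply MvPolynomial.ringHom_ext
    · intro c
      simp [sub]
    · intro j
      simp [sub]
  exact RingHom.congr_fun h F

lemma sp1_sw (P : Polynomial (MvPolynomial (Fin r) k)) :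
    MvPolynomial.map (Polynomial.evalRingHom 1) (sw k r P) = Polynomial.eval 1 P := by
  have h : (MvPolynomial.map (Polynomial.evalRingHom (1 : k))).comp (sw k r) =
      Polynomial.evalRingHom 1 := by
    apply Polynomial.ringHom_ext
    · intro a
      have h2 : ((MvPolynomial.map (Polynomial.evalRingHom (1 : k))).comp (sw k r)).comp
          Polynomial.C = (Polynomial.evalRingHom 1).comp Polynomial.C := by
        apply MvPolynomial.ringHom_ext
        · intro c
          simp [sw]
        · intro j
          simp [sw]
      exact RingHom.congr_fun h2 a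
    · simp [sw]
  exact RingHom.congr_fun h P

/-- specialization `X ↦ 0` on `k[T][X]` -/
noncomputable def z : MvPolynomial (Fin r) (Polynomial k) →+* Polynomial k :=
  MvPolynomial.eval₂Hom (RingHom.id _) (fun _ => 0)

lemma z_sw_sub (F : MvPolynomial (Fin r) k) :
    z k r (sw k r (sub k r F)) = Polynomial.C (MvPolynomial.eval (fun _ => (0 : k)) F) := by
  have h : ((z k r).comp (sw k r)).comp (sub k r) =
      Polynomial.C.comp (MvPolynomial.eval (fun _ => (0 : k))) := by
    apply MvPolynomial.ringHom_ext
    · intro c
      simp [sub, sw, z]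
    · intro j
      simp [sub, sw, z]
  exact RingHom.congr_fun h F

lemma totalDegree_map_le {R S : Type*} [CommSemiring R] [CommSemiring S] {σ : Type*}
    (f : R →+* S) (p : MvPolynomial σ R) :
    (MvPolynomial.map f p).totalDegree ≤ p.totalDegree := by
  unfold MvPolynomial.totalDegree
  exact Finset.sup_mono (MvPolynomial.support_map_subset f p)

lemma totalDegree_sw_sub (F : MvPolynomial (Fin r) k) :
    (sw k r (sub k r F)).totalDegree ≤ F.totalDegree := by
  have h1 : sub k r F = ∑ d ∈ F.support, (Polynomial.C.comp MvPolynomial.C) (F.coeff d) *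
      ∏ i, (Polynomial.C (MvPolynomial.X i) * Polynomial.X) ^ d i := by
    unfold sub
    rw [MvPolynomial.coe_eval₂Hom, MvPolynomial.eval₂_eq']
  rw [h1, map_sum]
  apply MvPolynomial.totalDegree_finsetSum_le
  intro d hd
  rw [map_mul, map_prod]
  refine le_trans (MvPolynomial.totalDegree_mul _ _) ?_
  have h2 : (sw k r ((Polynomial.C.comp MvPolynomial.C) (F.coeff d))).totalDegree = 0 := by
    simp [sw]
  rw [h2, zero_add]
  refine le_trans (MvPolynomial.totalDegree_finsetProd _ _) ?_
  have h3 : ∀ i : Fin r, (sw k r ((Polynomial.C (MvPolynomial.X i) * Polynomial.X) ^ d i)).totalDegree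
      ≤ d i := by
    intro i
    rw [map_pow]
    refine le_trans (MvPolynomial.totalDegree_pow _ _) ?_
    have h4 : (sw k r (Polynomial.C (MvPolynomial.X i) * Polynomial.X)).totalDegree ≤ 1 := by
      have : sw k r (Polynomial.C (MvPolynomial.X i) * Polynomial.X) =
          MvPolynomial.X i * MvPolynomial.C Polynomial.X := by
        simp [sw]
      rw [this]
      refine le_trans (MvPolynomial.totalDegree_mul _ _) ?_
      simp
    calc d i * _ ≤ d i * 1 := Nat.mul_le_mul_left _ h4
      _ = d i := mul_one _
  refine le_trans (Finset.sum_le_sum fun i _ => h3 i) ?_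
  have h5 := MvPolynomial.le_totalDegree hd
  rwa [Finsupp.sum_fintype _ _ (fun _ => rfl)] at h5

lemma irreducible_sub (F : MvPolynomial (Fin r) k) (hF : Irreducible F)
    (hF0 : MvPolynomial.eval (fun _ => (0 : k)) F ≠ 0) : Irreducible (sub k r F) := by
  have hG0 : sw k r (sub k r F) ≠ 0 := by
    intro h
    have h1 := z_sw_sub k r F
    rw [h, map_zero] at h1
    exact hF0 (Polynomial.C_eq_zero.mp h1.symm)
  have key : ∀ P Q : Polynomial (MvPolynomial (Fin r) k), sub k r F = P * Q →
      IsUnit (Polynomial.eval 1 P) → IsUnit P := by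
    intro P Q hPQ hu
    have hsw : sw k r (sub k r F) = sw k r P * sw k r Q := by rw [hPQ, map_mul]
    have hP0 : sw k r P ≠ 0 := by
      intro h
      rw [h, zero_mul] at hsw
      exact hG0 hsw
    have hQ0 : sw k r Q ≠ 0 := by
      intro h
      rw [h, mul_zero] at hsw
      exact hG0 hsw
    have hdeg : (sw k r (sub k r F)).totalDegree =
        (sw k r P).totalDegree + (sw k r Q).totalDegree := by
      rw [hsw, MvPolynomial.totalDegree_mul_of_isDomain hP0 hQ0]
    have hF1 : F = Polynomial.eval 1 P * Polynomial.eval 1 Q := by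
      rw [← Polynomial.eval_mul, ← hPQ, ev1_sub]
    obtain ⟨c, hc, hcu⟩ := MvPolynomial.isUnit_iff_eq_C_of_isReduced.mp hu
    have hQD : F.totalDegree ≤ (Polynomial.eval 1 Q).totalDegree := by
      conv_lhs => rw [hF1, hcu]
      refine le_trans (MvPolynomial.totalDegree_mul _ _) ?_
      simp
    have hQD' : (Polynomial.eval 1 Q).totalDegree ≤ (sw k r Q).totalDegree := by
      rw [← sp1_sw]
      exact totalDegree_map_le _ _
    have hGD := totalDegree_sw_sub k r F
    have hP : (sw k r P).totalDegree = 0 := by omega
    rw [MvPolynomial.totalDegree_eq_zero_iff_eq_C] at hP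
    have hz : z k r (sw k r P) * z k r (sw k r Q) =
        Polynomial.C (MvPolynomial.eval (fun _ => (0 : k)) F) := by
      rw [← map_mul, ← hsw, z_sw_sub]
    have hzu : IsUnit (z k r (sw k r P)) := by
      apply isUnit_of_mul_isUnit_left (y := z k r (sw k r Q))
      rw [hz]
      exact Polynomial.isUnit_C.mpr (isUnit_iff_ne_zero.mpr hF0)
    have hzP : z k r (sw k r P) = MvPolynomial.coeff 0 (sw k r P) := by
      conv_lhs => rw [hP]
      simp [z]
    rw [hzP] at hzu
    obtain ⟨c', hc', hcu'⟩ := Polynomial.isUnit_iff.mp hzu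
    have hPeq : P = Polynomial.C (MvPolynomial.C c') := by
      apply sw_injective k r
      rw [hP, ← hcu']
      simp [sw]
    rw [hPeq]
    exact Polynomial.isUnit_C.mpr (hc'.map MvPolynomial.C)
  rw [irreducible_iff]
  refine ⟨fun hu => hF.not_isUnit ?_, fun P Q hPQ => ?_⟩
  · have := hu.map (Polynomial.evalRingHom (1 : MvPolynomial (Fin r) k))
    rwa [Polynomial.coe_evalRingHom, ev1_sub] at this
  · have hF1 : F = Polynomial.eval 1 P * Polynomial.eval 1 Q := by
      rw [← Polynomial.eval_mul, ← hPQ, ev1_sub]
    rcases hF.isUnit_or_isUnit hF1 with h | h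
    · exact Or.inl (key P Q hPQ h)
    · exact Or.inr (key Q P (by rw [hPQ, mul_comm]) h)

lemma isPrimitive_sub (F : MvPolynomial (Fin r) k) (hF : Irreducible F)
    (hF0 : MvPolynomial.eval (fun _ => (0 : k)) F ≠ 0) : (sub k r F).IsPrimitive := by
  rw [Polynomial.isPrimitive_iff_isUnit_of_C_dvd]
  rintro c ⟨G', hG'⟩
  have h0 := ev0_sub k r F
  rw [hG', Polynomial.eval_mul, Polynomial.eval_C] at h0
  apply isUnit_of_mul_isUnit_left (y := Polynomial.eval 0 G')
  rw [h0]
  exact (isUnit_iff_ne_zero.mpr hF0).map MvPolynomial.C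

theorem main (k : Type u) [Field k] [IsAlgClosed k] (r : ℕ) (hr : 2 ≤ r)
    (F : MvPolynomial (Fin r) k) (hF : Irreducible F) (hF0 : MvPolynomial.eval (fun _ => (0 : k)) F ≠ 0) :
    Irreducible ((MvPolynomial.eval₂ (Polynomial.C.comp MvPolynomial.C)
        (fun j => Polynomial.C (MvPolynomial.X j) * Polynomial.X) F).map
      (algebraMap (MvPolynomial (Fin r) k) (FractionRing (MvPolynomial (Fin r) k)))) := by
  have h1 := irreducible_sub k r F hF hF0
  have h2 := isPrimitive_sub k r F hF hF0
  exact (h2.irreducible_iff_irreducible_map_fraction_map).mp h1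

end

/-- Let k be an algebraically closed field, r ≥ 2, and F ∈ k[X_1, …, X_r] an irreducible polynomial with
F(0) ≠ 0 (in the source the origin is the base point of the lines considered and lies off the
hypersurface F = 0; without this the claim fails, e.g. for X_1 - X_2^2). Then the polynomial G(T) =
F(X_1 T, …, X_r T), with coefficients in the field of rational functions k(X_1, …, X_r), is
irreducible. -/
theorem result (k : Type u) [Field k] [IsAlgClosed k] (r : ℕ) (hr : 2 ≤ r)
    (F : MvPolynomial (Fin r) k) (hF : Irreducible F) (hF0 : MvPolynomial.eval (fun _ => (0 : k)) F ≠ 0) :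
    Irreducible ((MvPolynomial.eval₂ (Polynomial.C.comp MvPolynomial.C)
        (fun j => Polynomial.C (MvPolynomial.X j) * Polynomial.X) F).map
      (algebraMap (MvPolynomial (Fin r) k) (FractionRing (MvPolynomial (Fin r) k)))) := by
  exact Groth.Agent.S4027.main k r hr F hF hF0

end Groth.Agent.S4027
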