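import Groth.Statements.S4064
import Groth.Agent.Lib.Helper20.YonedaExt1

set_option autoImplicit false
universe w v v'
open CategoryTheory CategoryTheory.Abelian
open SGA7

namespace Groth.Agent.S4064

open Groth.Agent.Helper20.YonedaExt CategoryTheory.Limits in

theorem result {C : Type w} [Category.{v} C] [Abelian C]
    [HasExt.{v'} C] {P F R E Q : C} (a : P ⟶ F) (b : F ⟶ R) (wF : a ≫ b = 0)
    (hF : (ShortComplex.mk a b wF).ShortExact) (c : R ⟶ E) (d : E ⟶ Q) (wE : c ≫ d = 0)
    (hE : (ShortComplex.mk c d wE).ShortExact) :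
    (∃ (X : C) (i : F ⟶ X) (p : X ⟶ E), i ≫ p = b ≫ c ∧
        (∃ w : (a ≫ i) ≫ p = 0, (ShortComplex.mk (a ≫ i) p w).ShortExact) ∧
        (∃ w : i ≫ (p ≫ d) = 0, (ShortComplex.mk i (p ≫ d) w).ShortExact)) ↔
      hE.extClass.comp hF.extClass (rfl : 1 + 1 = 2) = 0 := by
  constructor
  · rintro ⟨X, i, p, hip, ⟨w1, h1⟩, -⟩
    let ψ : ShortComplex.mk a b wF ⟶ ShortComplex.mk (a ≫ i) p w1 :=
      { τ₁ := 𝟙 _
        τ₂ := i
        τ₃ := c
        comm₁₂ := by simp
        comm₂₃ := by simpa using hip }
    have hn := ShortComplex.ShortExact.extClass_naturality hF h1 ψ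
    have hF' : hF.extClass = (Ext.mk₀ c).comp h1.extClass (zero_add 1) := by
      rw [← hn]
      exact (Ext.comp_mk₀_id _).symm
    rw [hF']
    exact ShortComplex.ShortExact.extClass_comp_assoc hE h1.extClass
  · intro h0
    obtain ⟨x₂, hx₂⟩ := Ext.contravariant_sequence_exact₁ hE P hF.extClass rfl h0
    obtain ⟨X, f, p, w, hS, hx⟩ := exists_shortExact_extClass_eq x₂
    have : Epi p := hS.epi_g
    have : Mono f := hS.mono_f
    have : Mono c := hE.mono_f
    have : Epi d := hE.epi_g
    -- the pullback extension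
    let a' : P ⟶ pullback p c := pullback.lift f 0 (by rw [w, zero_comp])
    have ha'1 : a' ≫ pullback.fst p c = f := pullback.lift_fst _ _ _
    have ha'2 : a' ≫ pullback.snd p c = 0 := pullback.lift_snd _ _ _
    have : Mono a' := mono_of_mono_fac ha'1
    have hex' : (ShortComplex.mk a' (pullback.snd p c) ha'2).Exact := by
      rw [ShortComplex.exact_iff_exact_up_to_refinements]
      intro W t ht
      have ht' : t ≫ pullback.snd p c = 0 := ht
      have h1 : (t ≫ pullback.fst p c) ≫ p = 0 := by
        rw [Category.assoc, pullback.condition, ← Category.assoc, ht', zero_comp]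
      refine ⟨W, 𝟙 W, inferInstance, hS.exact.lift (t ≫ pullback.fst p c) h1, ?_⟩
      rw [Category.id_comp]
      apply pullback.hom_ext
      · rw [Category.assoc]
        show t ≫ pullback.fst p c = _ ≫ a' ≫ pullback.fst p c
        rw [ha'1]
        exact (hS.exact.lift_f _ h1).symm
      · rw [Category.assoc]
        show t ≫ pullback.snd p c = _ ≫ a' ≫ pullback.snd p c
        rw [ha'2, comp_zero, ht']
    have hS' : (ShortComplex.mk a' (pullback.snd p c) ha'2).ShortExact :=
      ShortComplex.ShortExact.mk' hex' inferInstance inferInstance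
    let ψ : ShortComplex.mk a' (pullback.snd p c) ha'2 ⟶ ShortComplex.mk f p w :=
      { τ₁ := 𝟙 _
        τ₂ := pullback.fst p c
        τ₃ := c
        comm₁₂ := by simp [ha'1]
        comm₂₃ := by simpa using pullback.condition }
    have hn := ShortComplex.ShortExact.extClass_naturality hS' hS ψ
    have hcls : hS'.extClass = hF.extClass := by
      rw [← hx₂, ← hx]
      rw [← hn]
      exact (Ext.comp_mk₀_id _).symm
    obtain ⟨φ, hφ1, hφ2⟩ := exists_iso_of_extClass_eq a b wF hF a' (pullback.snd p c) ha'2 hS'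
      hcls.symm
    have hi1 : a ≫ φ.hom ≫ pullback.fst p c = f := by
      rw [← Category.assoc, hφ1, ha'1]
    have hi2 : (φ.hom ≫ pullback.fst p c) ≫ p = b ≫ c := by
      rw [Category.assoc, pullback.condition, ← Category.assoc, hφ2]
    refine ⟨X, φ.hom ≫ pullback.fst p c, p, hi2, ?_, ?_⟩
    · subst hi1
      exact ⟨w, hS⟩
    · have hw2 : (φ.hom ≫ pullback.fst p c) ≫ (p ≫ d) = 0 := by
        rw [← Category.assoc, hi2, Category.assoc, wE, comp_zero]
      refine ⟨hw2, ?_⟩
      have hex2 : (ShortComplex.mk (φ.hom ≫ pullback.fst p c) (p ≫ d) hw2).Exact := by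
        rw [ShortComplex.exact_iff_exact_up_to_refinements]
        intro W t ht
        have ht' : (t ≫ p) ≫ d = 0 := by
          rw [Category.assoc]; exact ht
        let r : W ⟶ R := hE.exact.lift (t ≫ p) ht'
        have hr : r ≫ c = t ≫ p := hE.exact.lift_f _ ht'
        refine ⟨W, 𝟙 W, inferInstance, pullback.lift t r hr.symm ≫ φ.inv, ?_⟩
        rw [Category.id_comp]
        show t = (pullback.lift t r hr.symm ≫ φ.inv) ≫ φ.hom ≫ pullback.fst p c
        rw [Category.assoc, Iso.inv_hom_id_assoc, pullback.lift_fst]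
      exact ShortComplex.ShortExact.mk' hex2 inferInstance inferInstance

end Groth.Agent.S4064
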