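import Groth.Statements.S4087
-- import your own Groth.Agent.* helpers here
import Groth.Agent.Lib.Helper3.QS2

set_option autoImplicit false
universe u
open CategoryTheory MonoidalCategory CartesianMonoidalCategory MonObj GrpObj AlgebraicGeometry CategoryTheory.Limits
open GrpQ

namespace Groth.Agent.S4087

/-- Let (U, R, s, t, c) be a groupoid scheme over S and u : U' → U an immersion which is a
quasi-section: writing V = R ×_{t, U} U' for the arrows with target in U', the morphism V → U
induced by s is finite locally free and surjective, and every subset of U' whose points are pairwise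
equivalent (any two are the target and the source of one arrow) lies in an affine open of U'. Then
(t, s) has a coequalizer p : U → Y in schemes; p is surjective, open if t is open, universally
closed if t is; R → U ×_Y U is surjective; and if j = (t, s) is a monomorphism, R ≅ U ×_Y U, and p
is flat when t is flat. -/
theorem result (S : Scheme.{u}) (G : Grpd.GroupoidScheme S)
    (U' : Scheme.{u}) (u : U' ⟶ G.U) [IsImmersion u]
    (h1 : Mor2.IsFinLocFree (pullback.fst G.t u ≫ G.s) ∧ Surjective (pullback.fst G.t u ≫ G.s))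
    (h2 : ∀ E : Set U', (∀ x ∈ E, ∀ y ∈ E, ∃ r : G.R, G.t.base r = u.base x ∧ G.s.base r = u.base y) →
      ∃ W : U'.Opens, IsAffineOpen W ∧ E ⊆ (W : Set U')) :
    ∃ (Y : Scheme.{u}) (p : G.U ⟶ Y) (w : G.t ≫ p = G.s ≫ p),
      Nonempty (IsColimit (Cofork.ofπ p w)) ∧ Surjective p ∧
      (IsOpenMap G.t.base → IsOpenMap p.base) ∧ (UniversallyClosed G.t → UniversallyClosed p) ∧
      Function.Surjective (pullback.lift G.t G.s w).base ∧
      (Mono G.j → IsPullback G.t G.s p p ∧ (Flat G.t → Flat p)) := by
    classical
  open Groth.Agent.Helper3 in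
  haveI : Mono u := inferInstance
  obtain ⟨⟨hfin, hflat, hlfp⟩, hsurj⟩ := h1
  haveI : IsFinite (QS1.v G u) := hfin
  haveI : Flat (QS1.v G u) := hflat
  haveI : LocallyOfFinitePresentation (QS1.v G u) := hlfp
  haveI : Surjective (QS1.v G u) := hsurj
  have hb := QS1.hb_induced G u h2
  obtain ⟨Y, p', w', ⟨hc⟩, hint, hsur, hopen, -, hΛ', -, hmono⟩ :=
    GQ8.main (G := QS1.induced G u) hb
  have w'' : QS1.t' G u ≫ p' = QS1.s' G u ≫ p' := w'
  obtain ⟨p, hp⟩ := QS2.exists_p G u p' w''
  have w := QS2.w_of G u p' p hp
  haveI := hint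
  haveI := hsur
  refine ⟨Y, p, w, QS2.isColimit_of G u p' p hp w w'' hc, QS2.surjective_of G u p' p hp,
    fun ht => QS2.isOpenMap_of G u p' p hp w hopen ht,
    fun ht => by haveI := ht; exact QS2.universallyClosed_of G u p' p hp,
    QS2.surjective_lift_of G u p' p hp w w'' hΛ', fun hj => ?_⟩
  haveI := hj
  obtain ⟨-, hfl, -, -, hiso⟩ := hmono inferInstance
  haveI : IsIso (pullback.lift (QS1.t' G u) (QS1.s' G u) w'') := hiso
  exact ⟨QS2.isPullback_of G u p' p hp w w'', fun ht => by
    haveI := ht
    haveI := hfl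
    exact QS2.flat_of G u p' p hp⟩

end Groth.Agent.S4087
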