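import Groth.Statements.S4091
import Groth.Agent.Lib.Helper21.FS9
import Groth.Agent.Lib.Helper21.FS10
import Groth.Agent.S0113
import Groth.Agent.S0114

set_option autoImplicit false
universe u
open CategoryTheory MonoidalCategory CartesianMonoidalCategory MonObj GrpObj AlgebraicGeometry CategoryTheory.Limits
open GrpQ

namespace Groth.Agent.S4091

/-- Let p : X → Y and q : Y → S be morphisms of schemes with p surjective, flat and of finite
presentation. If p ≫ q is of finite type then q is of finite type; if p ≫ q is of finite
presentation then q is of finite presentation. -/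
theorem result {X Y S : Scheme.{u}} (p : X ⟶ Y) (q : Y ⟶ S)
    [Surjective p] [Flat p] [LocallyOfFinitePresentation p] [QuasiCompact p] [QuasiSeparated p] :
    ((LocallyOfFiniteType (p ≫ q) ∧ QuasiCompact (p ≫ q)) → (LocallyOfFiniteType q ∧ QuasiCompact q)) ∧
    ((LocallyOfFinitePresentation (p ≫ q) ∧ QuasiCompact (p ≫ q) ∧ QuasiSeparated (p ≫ q)) →
      (LocallyOfFinitePresentation q ∧ QuasiCompact q ∧ QuasiSeparated q)) := by
  haveI hresp : MorphismProperty.RespectsRight @LocallyOfFiniteType.{u} @IsOpenImmersion :=
    ⟨fun i hi f hf => by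
      haveI := hi
      haveI := hf
      exact (inferInstance : LocallyOfFiniteType (f ≫ i))⟩
  refine ⟨?_, ?_⟩
  · rintro ⟨h1, h2⟩
    haveI := h1
    haveI := h2
    refine ⟨?_, Groth.Agent.Helper21.FS.quasiCompact_of_comp_surjective p q⟩
    refine Groth.Agent.Helper21.FS.of_fppf_cover (P := @LocallyOfFiniteType) ?_ p q h1
    intro R A B _ _ _ φ ψ h1 h2 h3
    letI := φ.toAlgebra
    letI := ψ.toAlgebra
    letI := (ψ.comp φ).toAlgebra
    haveI : IsScalarTower R A B := IsScalarTower.of_algebraMap_eq' rfl
    haveI : Algebra.FiniteType R B := h1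
    haveI : Module.FaithfullyFlat A B := h2
    haveI : Algebra.FinitePresentation A B := h3
    exact (Groth.Agent.S0113.result (R := R) (A := A) (B := B) : Algebra.FiniteType R A)
  · rintro ⟨h1, h2, h3⟩
    haveI := h1
    haveI := h2
    haveI := h3
    exact ⟨Groth.Agent.S0114.result p q,
      Groth.Agent.Helper21.FS.quasiCompact_of_comp_surjective p q,
      Groth.Agent.Helper21.FS.quasiSeparated_of_comp_surjective p q⟩

end Groth.Agent.S4091
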