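import Groth.Statements.S6629
import Mathlib

set_option autoImplicit false
open CategoryTheory CategoryTheory.Limits AlgebraicGeometry Opposite
universe u
open EtDesc

namespace Groth.Agent.S6629

section helpers

/-- Pointwise criterion for covering sieves of the small étale site. -/
lemma mem_iff {X : Scheme.{u}} (U : X.Etale) (R : Sieve U) :
    R ∈ X.smallEtaleTopology U ↔
      ∀ x : U.left, ∃ (Z : X.Etale) (g : Z ⟶ U) (z : Z.left), R g ∧ g.left z = x := by
  have eX : X.smallEtaleTopology =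
      (X.smallPretopology (P := EtCoh.etaleMP) (Q := EtCoh.etaleMP)).toGrothendieck :=
    Scheme.smallGrothendieckTopology_eq_toGrothendieck_smallPretopology X le_rfl
  rw [eX]
  constructor
  · intro h x
    obtain ⟨Z, g, z, h1, -, h3⟩ := (Scheme.mem_toGrothendieck_smallPretopology U R).1 h x
    exact ⟨Z, g, z, h1, h3⟩
  · intro h
    refine (Scheme.mem_toGrothendieck_smallPretopology U R).2 ?_
    intro x
    obtain ⟨Z, g, z, h1, h3⟩ := h x
    exact ⟨Z, g, z, h1, inferInstance, h3⟩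

/-- A jointly surjective family generates a covering sieve. -/
lemma ofArrows_cov {X : Scheme.{u}} {U : X.Etale} {μ : Type*} (W : μ → X.Etale) (w : ∀ a, W a ⟶ U)
    (hsurj : ∀ x : U.left, ∃ a, x ∈ Set.range (w a).left) :
    Sieve.ofArrows W w ∈ X.smallEtaleTopology U := by
  rw [mem_iff]
  intro x
  obtain ⟨a, z, hz⟩ := hsurj x
  exact ⟨W a, w a, z, Sieve.ofArrows_mk _ _ a, hz⟩

/-- Sections of a sheaf over the empty scheme form a subsingleton. -/
lemma subsingleton_of_isEmpty {X : Scheme.{u}} (F : Sh X) (Z : X.Etale) [IsEmpty Z.left] :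
    Subsingleton (F.obj.obj (op Z)) := by
  have hcov : (⊥ : Sieve Z) ∈ X.smallEtaleTopology Z := by
    rw [mem_iff]
    intro x
    exact (IsEmpty.false x).elim
  have hsep := ((isSheaf_iff_isSheaf_of_type _ _).1 F.2).isSeparated _ hcov
  refine ⟨fun s s' => hsep.ext ?_⟩
  intro Z' g hg
  exact hg.elim

lemma comp_left' {X : Scheme.{u}} {A B C : X.Etale} (g : A ⟶ B) (h : B ⟶ C) :
    (g ≫ h).left = g.left ≫ h.left := rfl

/-- Gluing sections along a decomposition into pairwise disjoint pieces. -/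
lemma glue {X : Scheme.{u}} (F : Sh X) {U : X.Etale} {μ : Type*} (W : μ → X.Etale)
    (w : ∀ a, W a ⟶ U) (hmono : ∀ a, Mono (w a).left)
    (hdisj : ∀ a b, a ≠ b → ∀ (za : (W a).left) (zb : (W b).left), (w a).left za ≠ (w b).left zb)
    (hsurj : ∀ x : U.left, ∃ a, x ∈ Set.range (w a).left)
    (τ : ∀ a, F.obj.obj (op (W a))) :
    ∃ t : F.obj.obj (op U), ∀ a, F.obj.map (w a).op t = τ a := by
  have hcov : Sieve.ofArrows W w ∈ X.smallEtaleTopology U := ofArrows_cov W w hsurj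
  have hsh : Presieve.IsSheafFor F.obj (Presieve.ofArrows W w) := by
    rw [Presieve.isSheafFor_iff_generate]
    exact (isSheaf_iff_isSheaf_of_type _ _).1 F.2 _ hcov
  rw [Presieve.isSheafFor_arrows_iff] at hsh
  have hcomp : Presieve.Arrows.Compatible F.obj w τ := by
    intro a b Z ga gb hab
    by_cases hab' : a = b
    · subst hab'
      have : ga = gb := by
        apply MorphismProperty.Over.Hom.ext
        have h1 : ga.left ≫ (w a).left = gb.left ≫ (w a).left := by
          rw [← comp_left', ← comp_left', hab]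
        have := hmono a
        exact (cancel_mono _).1 h1
      rw [this]
    · have : IsEmpty Z.left := ⟨fun z => hdisj a b hab' (ga.left z) (gb.left z) (by
          have h1 : ga.left ≫ (w a).left = gb.left ≫ (w b).left := by
            rw [← comp_left', ← comp_left', hab]
          have h2 := congrArg (fun k : Z.left ⟶ U.left => k z) h1
          simpa using h2)⟩
      exact (subsingleton_of_isEmpty F Z).elim _ _
  obtain ⟨t, ht, -⟩ := hsh τ hcomp
  exact ⟨t, ht⟩

/-- Separatedness along a jointly surjective family. -/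
lemma sep {X : Scheme.{u}} (G : Sh X) {U : X.Etale} {μ : Type*} (W : μ → X.Etale)
    (w : ∀ a, W a ⟶ U) (hsurj : ∀ x : U.left, ∃ a, x ∈ Set.range (w a).left)
    (s s' : G.obj.obj (op U)) (h : ∀ a, G.obj.map (w a).op s = G.obj.map (w a).op s') : s = s' := by
  have hcov : Sieve.ofArrows W w ∈ X.smallEtaleTopology U := ofArrows_cov W w hsurj
  have hsep := ((isSheaf_iff_isSheaf_of_type _ _).1 G.2).isSeparated _ hcov
  apply hsep.ext
  rintro Z g ⟨W', a, b, ⟨i⟩, rfl⟩
  rw [op_comp, G.obj.map_comp]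
  exact congrArg (G.obj.map a.op) (h i)

/-- The morphism `V' ⟶ V` of `Y.Etale` given by an étale `v' : V' ⟶ V.left`. -/
noncomputable def rHom {Y₀ : Scheme.{u}} (V : Y₀.Etale) {V' : Scheme.{u}} (v' : V' ⟶ V.left) [Etale v'] :
    Scheme.Etale.mk (v' ≫ V.hom) ⟶ V :=
  MorphismProperty.Over.homMk v' rfl trivial

lemma sym_map_aux {X Y₀ A B : Scheme.{u}} (f : X ⟶ Y₀) (a : A ⟶ Y₀) (b : B ⟶ Y₀) (v' : A ⟶ B)
    (hv : v' ≫ b = a) (m : pullback a f ⟶ pullback b f)
    (e1 : m ≫ pullback.snd b f = pullback.snd a f)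
    (e2 : m ≫ pullback.fst b f = pullback.fst a f ≫ v') :
    (pullbackSymmetry a f).inv ≫ m ≫ (pullbackSymmetry b f).hom =
      pullback.map f a f b (𝟙 X) v' (𝟙 Y₀) (by simp) (by simp [hv]) := by
  apply pullback.hom_ext
  · simp only [Category.assoc, pullbackSymmetry_hom_comp_fst, e1, pullbackSymmetry_inv_comp_snd]
    exact (Eq.trans (pullback.lift_fst _ _ _) (Category.comp_id _)).symm
  · simp only [Category.assoc, pullbackSymmetry_hom_comp_snd, e2]
    rw [← Category.assoc, pullbackSymmetry_inv_comp_fst]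
    exact (pullback.lift_snd _ _ _).symm

/-- The key identity comparing `bc` of `rHom` with `pullback.map`. -/
lemma bc_rHom {X Y₀ : Scheme.{u}} (f : X ⟶ Y₀) (V : Y₀.Etale) {V' : Scheme.{u}} (v' : V' ⟶ V.left)
    [Etale v'] :
    (pullbackSymmetry (v' ≫ V.hom) f).inv ≫ ((EtCoh.bc f).map (rHom V v')).left ≫
      (pullbackSymmetry V.hom f).hom =
    pullback.map f (v' ≫ V.hom) f V.hom (𝟙 X) v' (𝟙 Y₀) (by simp) (by simp) := by
  have e1 : ((EtCoh.bc f).map (rHom V v')).left ≫ pullback.snd V.hom f =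
      pullback.snd (v' ≫ V.hom) f := by
    dsimp [EtCoh.bc]
    exact pullback.lift_snd _ _ _
  have e2 : ((EtCoh.bc f).map (rHom V v')).left ≫ pullback.fst V.hom f =
      pullback.fst (v' ≫ V.hom) f ≫ v' := by
    dsimp [EtCoh.bc]
    exact pullback.lift_fst _ _ _
  exact sym_map_aux f (v' ≫ V.hom) V.hom v' rfl _ e1 e2

lemma aux_hw {X Y₀ A B Zl Wl : Scheme.{u}} (f : X ⟶ Y₀) (a : A ⟶ Y₀) (b : B ⟶ Y₀) (v' : A ⟶ B)
    (hv : v' ≫ b = a) (gl : Zl ⟶ pullback b f) (hl : Wl ⟶ Zl) (ι : Wl ⟶ pullback f a)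
    (hh : hl ≫ gl ≫ (pullbackSymmetry b f).hom =
      ι ≫ pullback.map f a f b (𝟙 X) v' (𝟙 Y₀) (by simp) (by simp [hv])) :
    hl ≫ gl ≫ pullback.snd b f = ι ≫ pullback.fst f a := by
  rw [← pullbackSymmetry_hom_comp_fst b f, ← Category.assoc gl, ← Category.assoc hl, hh,
    Category.assoc]
  congr 1
  exact Eq.trans (pullback.lift_fst _ _ _) (Category.comp_id _)

lemma aux_comm {X Y₀ A B Zl Wl : Scheme.{u}} (f : X ⟶ Y₀) (a : A ⟶ Y₀) (b : B ⟶ Y₀) (v' : A ⟶ B)
    (hv : v' ≫ b = a) (gl : Zl ⟶ pullback b f) (hl : Wl ⟶ Zl) (ι : Wl ⟶ pullback f a)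
    (m : pullback a f ⟶ pullback b f)
    (hm : (pullbackSymmetry a f).inv ≫ m ≫ (pullbackSymmetry b f).hom =
      pullback.map f a f b (𝟙 X) v' (𝟙 Y₀) (by simp) (by simp [hv]))
    (hh : hl ≫ gl ≫ (pullbackSymmetry b f).hom =
      ι ≫ pullback.map f a f b (𝟙 X) v' (𝟙 Y₀) (by simp) (by simp [hv])) :
    hl ≫ gl = (ι ≫ (pullbackSymmetry a f).inv) ≫ m := by
  rw [← cancel_mono (pullbackSymmetry b f).hom, Category.assoc, hh, Category.assoc,
    Category.assoc, hm]

lemma mono_aux {P Q : Scheme.{u}} (W : P.Opens) (e : P ⟶ Q) [IsIso e] : Mono (W.ι ≫ e) :=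
  mono_comp _ _

/-- The piece `W` of `X ×_Y V'` as an object of `X.Etale`. -/
noncomputable def pieceObj {X Y₀ : Scheme.{u}} (f : X ⟶ Y₀) {A : Scheme.{u}} (a : A ⟶ Y₀) [Etale a]
    (W : (pullback f a).Opens) : X.Etale :=
  Scheme.Etale.mk (W.ι ≫ pullback.fst f a)

/-- The inclusion of the piece `W` into `(bc f).obj (mk a)`. -/
noncomputable def pieceHom {X Y₀ : Scheme.{u}} (f : X ⟶ Y₀) {A : Scheme.{u}} (a : A ⟶ Y₀) [Etale a]
    (W : (pullback f a).Opens) : pieceObj f a W ⟶ (EtCoh.bc f).obj (Scheme.Etale.mk a) :=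
  MorphismProperty.Over.homMk (W.ι ≫ (pullbackSymmetry a f).inv) (by
    change (W.ι ≫ (pullbackSymmetry a f).inv) ≫ pullback.snd a f = W.ι ≫ pullback.fst f a
    rw [Category.assoc, pullbackSymmetry_inv_comp_snd]) trivial

lemma pieceHom_left {X Y₀ : Scheme.{u}} (f : X ⟶ Y₀) {A : Scheme.{u}} (a : A ⟶ Y₀) [Etale a]
    (W : (pullback f a).Opens) : (pieceHom f a W).left = W.ι ≫ (pullbackSymmetry a f).inv := rfl

lemma exists_lift {X Y₀ : Scheme.{u}} (f : X ⟶ Y₀) {F G : Sh X} (φ : F ⟶ G) (V : Y₀.Etale)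
    (s : G.obj.obj (op ((EtCoh.bc f).obj V)))
    {ι : Type u} (Z : ι → X.Etale) (g : ∀ i, Z i ⟶ (EtCoh.bc f).obj V)
    (hRg : ∀ i, ∃ t : F.obj.obj (op (Z i)), φ.hom.app _ t = G.obj.map (g i).op s)
    {V' : Scheme.{u}} (v' : V' ⟶ V.left) [Etale v']
    {μ : Type u} (W : μ → (pullback f (v' ≫ V.hom)).Opens)
    (hdis : ∀ a b, a ≠ b → Disjoint (W a) (W b)) (htop : (⨆ a, W a) = ⊤)
    (hfac : ∀ a, ∃ (i : ι) (h : ((W a : (pullback f (v' ≫ V.hom)).Opens) : Scheme.{u}) ⟶ (Z i).left),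
      h ≫ ((g i).left ≫ (pullbackSymmetry V.hom f).hom) =
        (W a).ι ≫ pullback.map f (v' ≫ V.hom) f V.hom (𝟙 X) v' (𝟙 Y₀) (by simp) (by simp)) :
    ∃ t : F.obj.obj (op ((EtCoh.bc f).obj (Scheme.Etale.mk (v' ≫ V.hom)))),
      φ.hom.app _ t = G.obj.map ((EtCoh.bc f).map (rHom V v')).op s := by
  choose i h hh using hfac
  choose t ht using hRg
  -- the morphisms `W a ⟶ Z (i a)` in `X.Etale`
  have hw : ∀ a, h a ≫ (Z (i a)).hom = (W a).ι ≫ pullback.fst f (v' ≫ V.hom) := by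
    intro a
    have e0 : (Z (i a)).hom = (g (i a)).left ≫ pullback.snd V.hom f := (Over.w (g (i a)).hom).symm
    exact (congrArg (fun k => h a ≫ k) e0).trans
      (aux_hw f (v' ≫ V.hom) V.hom v' rfl (g (i a)).left (h a) (W a).ι (hh a))
  let h' : ∀ a, pieceObj f (v' ≫ V.hom) (W a) ⟶ Z (i a) := fun a =>
    MorphismProperty.Over.homMk (h a) (hw a) trivial
  have hcomm : ∀ a, h' a ≫ g (i a) = pieceHom f (v' ≫ V.hom) (W a) ≫ (EtCoh.bc f).map (rHom V v') := by
    intro a
    apply MorphismProperty.Over.Hom.ext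
    exact aux_comm f (v' ≫ V.hom) V.hom v' rfl (g (i a)).left (h a) (W a).ι
      ((EtCoh.bc f).map (rHom V v')).left (bc_rHom f V v') (hh a)
  -- surjectivity and disjointness of the pieces
  have hsurj : ∀ x : ((EtCoh.bc f).obj (Scheme.Etale.mk (v' ≫ V.hom))).left,
      ∃ a, x ∈ Set.range (pieceHom f (v' ≫ V.hom) (W a)).left := by
    intro x
    have hx : (pullbackSymmetry (v' ≫ V.hom) f).hom x ∈ (⨆ a, W a) := by rw [htop]; trivial
    obtain ⟨a, ha⟩ := TopologicalSpace.Opens.mem_iSup.1 hx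
    refine ⟨a, ⟨_, ha⟩, ?_⟩
    rw [pieceHom_left]
    change (pullbackSymmetry (v' ≫ V.hom) f).inv ((W a).ι ⟨_, ha⟩) = x
    have : (W a).ι ⟨_, ha⟩ = (pullbackSymmetry (v' ≫ V.hom) f).hom x := rfl
    rw [this, ← Scheme.Hom.comp_apply, Iso.hom_inv_id]
    rfl
  have hmono : ∀ a, Mono (pieceHom f (v' ≫ V.hom) (W a)).left := by
    intro a
    rw [pieceHom_left]
    exact mono_aux (W a) _
  have hdisj : ∀ a b, a ≠ b → ∀ (za : (pieceObj f (v' ≫ V.hom) (W a)).left)
      (zb : (pieceObj f (v' ≫ V.hom) (W b)).left),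
      (pieceHom f (v' ≫ V.hom) (W a)).left za ≠ (pieceHom f (v' ≫ V.hom) (W b)).left zb := by
    intro a b hab za zb heq
    rw [pieceHom_left, pieceHom_left] at heq
    have heq' : (pullbackSymmetry (v' ≫ V.hom) f).inv ((W a).ι za) =
        (pullbackSymmetry (v' ≫ V.hom) f).inv ((W b).ι zb) := heq
    have hinj : Function.Injective (pullbackSymmetry (v' ≫ V.hom) f).inv := by
      intro p q hpq
      have := congrArg (fun r => (pullbackSymmetry (v' ≫ V.hom) f).hom r) hpq
      simpa [← Scheme.Hom.comp_apply] using this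
    have h3 : (W a).ι za = (W b).ι zb := hinj heq'
    have ha : (W a).ι za ∈ W a := za.2
    have hb : (W a).ι za ∈ W b := by rw [h3]; exact zb.2
    have hbot := (hdis a b hab).le_bot (show (W a).ι za ∈ W a ⊓ W b from ⟨ha, hb⟩)
    exact hbot
  obtain ⟨T, hT⟩ := glue F (fun a => pieceObj f (v' ≫ V.hom) (W a))
    (fun a => pieceHom f (v' ≫ V.hom) (W a)) hmono hdisj hsurj
    (fun a => F.obj.map (h' a).op (t (i a)))
  refine ⟨T, ?_⟩
  apply sep G (fun a => pieceObj f (v' ≫ V.hom) (W a))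
    (fun a => pieceHom f (v' ≫ V.hom) (W a)) hsurj
  intro a
  have n1 := NatTrans.naturality_apply φ.hom (pieceHom f (v' ≫ V.hom) (W a)).op T
  have n2 := NatTrans.naturality_apply φ.hom (h' a).op (t (i a))
  rw [← n1, hT a, n2, ht (i a)]
  have e1 : G.obj.map (h' a).op (G.obj.map (g (i a)).op s) = G.obj.map (h' a ≫ g (i a)).op s := by
    rw [op_comp, G.obj.map_comp]; rfl
  have e2 : G.obj.map (pieceHom f (v' ≫ V.hom) (W a)).op
      (G.obj.map ((EtCoh.bc f).map (rHom V v')).op s) =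
      G.obj.map (pieceHom f (v' ≫ V.hom) (W a) ≫ (EtCoh.bc f).map (rHom V v')).op s := by
    rw [op_comp, G.obj.map_comp]; rfl
  rw [e1, e2, hcomm a]

theorem main6629 {X Y₀ : Scheme.{u}} (f : X ⟶ Y₀) (hB : BigSite.PropB f) {F G : Sh X} (φ : F ⟶ G)
    [hE : Epi φ] : Epi ((pushSh f).map φ) := by
  rw [← Sheaf.isLocallySurjective_iff_epi] at hE ⊢
  refine ⟨fun {V} s => ?_⟩
  have hR : Presheaf.imageSieve φ.hom s ∈ X.smallEtaleTopology ((EtCoh.bc f).obj V) :=
    Presheaf.imageSieve_mem X.smallEtaleTopology φ.hom (U := op ((EtCoh.bc f).obj V)) s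
  rw [mem_iff] at hR
  choose Z g z hRg hz using hR
  obtain ⟨κ, V', v', hv', hcovV, hW⟩ := hB V.left V.hom ((EtCoh.bc f).obj V).left
    (fun x => (Z x).left) (fun x => (g x).left ≫ (pullbackSymmetry V.hom f).hom)
    (fun x => inferInstance) (fun x => ⟨(pullbackSymmetry V.hom f).inv x,
      z ((pullbackSymmetry V.hom f).inv x), by
        have h1 := hz ((pullbackSymmetry V.hom f).inv x)
        change (pullbackSymmetry V.hom f).hom ((g _).left (z _)) = x
        rw [h1, ← Scheme.Hom.comp_apply, Iso.inv_hom_id]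
        rfl⟩)
  have hcovY : Sieve.ofArrows (fun j => @Scheme.Etale.mk _ _ (v' j ≫ V.hom)
      (by have := hv' j; infer_instance))
      (fun j => @rHom _ V _ (v' j) (hv' j)) ∈ Y₀.smallEtaleTopology V :=
    ofArrows_cov _ _ (fun y => hcovV y)
  refine Y₀.smallEtaleTopology.superset_covering ?_ hcovY
  rintro Z' k ⟨V'', a, b, ⟨j⟩, rfl⟩
  apply Sieve.downward_closed
  obtain ⟨μ, W, hdis, htop, hfac⟩ := hW j
  have := hv' j
  exact exists_lift f φ V s Z g hRg (v' j) W hdis htop hfac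

end helpers

/-- Let f : X ⟶ Y be a morphism of schemes satisfying condition (B) (for every etale V ⟶ Y and every
etale covering of X ×_Y V there is an etale covering of V by schemes V_j such that each X ×_Y V_j is
a disjoint union of open subschemes each mapping into X ×_Y V through a member of the given
covering). Then the direct image of sheaves of sets on the small etale sites along f sends
epimorphisms to epimorphisms. -/
theorem result {X Y : Scheme.{u}} (f : X ⟶ Y) (hB : BigSite.PropB f) :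
    (EtDesc.pushSh f).PreservesEpimorphisms := by
  exact ⟨fun φ _ => main6629 f hB φ⟩

end Groth.Agent.S6629
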