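import Groth.Statements.S6626
import Mathlib
import Groth.Agent.S6629

set_option autoImplicit false
open CategoryTheory CategoryTheory.Limits AlgebraicGeometry Opposite
universe u
open EtCore

namespace Groth.Agent.S6626

section helpers

open Groth.Agent.S6629 EtDesc

/-- The underlying sheaf of sets of an abelian sheaf. -/
noncomputable abbrev und {X : Scheme.{u}} (F : EtCoh.Ab X) : Sh X :=
  (sheafCompose X.smallEtaleTopology (forget AddCommGrpCat.{u + 1})).obj F

section pieces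

variable {X Y₀ : Scheme.{u}} (f : X ⟶ Y₀) {A : Scheme.{u}} (a : A ⟶ Y₀) [Etale a]
  {μ : Type*} (P : μ → (pullback f a).Opens)

lemma pieces_surj (htop : (⨆ b, P b) = ⊤)
    (x : ((EtCoh.bc f).obj (Scheme.Etale.mk a)).left) :
    ∃ b, x ∈ Set.range (pieceHom f a (P b)).left := by
  have hx : (pullbackSymmetry a f).hom x ∈ (⨆ b, P b) := by rw [htop]; trivial
  obtain ⟨b, hb⟩ := TopologicalSpace.Opens.mem_iSup.1 hx
  refine ⟨b, ⟨_, hb⟩, ?_⟩
  rw [pieceHom_left]
  change (pullbackSymmetry a f).inv ((P b).ι ⟨_, hb⟩) = x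
  have : (P b).ι ⟨_, hb⟩ = (pullbackSymmetry a f).hom x := rfl
  rw [this, ← Scheme.Hom.comp_apply, Iso.hom_inv_id]
  rfl

lemma pieces_mono (b : μ) : Mono (pieceHom f a (P b)).left := by
  rw [pieceHom_left]
  exact mono_aux (P b) _

lemma pieces_disj (hdis : ∀ b c, b ≠ c → Disjoint (P b) (P c)) (b c : μ) (hbc : b ≠ c)
    (zb : (pieceObj f a (P b)).left) (zc : (pieceObj f a (P c)).left) :
    (pieceHom f a (P b)).left zb ≠ (pieceHom f a (P c)).left zc := by
  intro heq
  rw [pieceHom_left, pieceHom_left] at heq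
  have heq' : (pullbackSymmetry a f).inv ((P b).ι zb) =
      (pullbackSymmetry a f).inv ((P c).ι zc) := heq
  have hinj : Function.Injective (pullbackSymmetry a f).inv := by
    intro p q hpq
    have := congrArg (fun r => (pullbackSymmetry a f).hom r) hpq
    simpa [← Scheme.Hom.comp_apply] using this
  have h3 : (P b).ι zb = (P c).ι zc := hinj heq'
  have hb : (P b).ι zb ∈ P b := zb.2
  have hc : (P b).ι zb ∈ P c := by rw [h3]; exact zc.2
  exact (hdis b c hbc).le_bot (show (P b).ι zb ∈ P b ⊓ P c from ⟨hb, hc⟩)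

end pieces

section clopen

variable {X Y₀ : Scheme.{u}} (f : X ⟶ Y₀) {A : Scheme.{u}} (a : A ⟶ Y₀) [Etale a]
  (W : (pullback f a).Opens) (hW : IsClosed (W : Set ↥(pullback f a)))

/-- The complement of a clopen. -/
def compl (_hW : IsClosed (W : Set ↥(pullback f a))) : (pullback f a).Opens :=
  ⟨(W : Set ↥(pullback f a))ᶜ, _hW.isOpen_compl⟩

/-- The two pieces `W`, `Wᶜ`. -/
def two : Bool → (pullback f a).Opens := fun b => if b then W else compl f a W hW

lemma two_disj : ∀ b c, b ≠ c → Disjoint (two f a W hW b) (two f a W hW c) := by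
  have h1 : Disjoint W (compl f a W hW) := by
    rw [disjoint_iff_inf_le]
    rintro x ⟨h1, h2⟩
    exact (h2 h1).elim
  intro b c hbc
  cases b <;> cases c
  · exact (hbc rfl).elim
  · exact h1.symm
  · exact h1
  · exact (hbc rfl).elim

lemma two_top : (⨆ b, two f a W hW b) = ⊤ := by
  rw [eq_top_iff]
  intro x _
  rw [TopologicalSpace.Opens.mem_iSup]
  by_cases hx : x ∈ W
  · exact ⟨true, hx⟩
  · exact ⟨false, hx⟩

lemma ext_zero (F : EtCoh.Ab X) (s : F.obj.obj (op (pieceObj f a W))) :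
    ∃ T : F.obj.obj (op ((EtCoh.bc f).obj (Scheme.Etale.mk a))),
      F.obj.map (pieceHom f a W).op T = s ∧
      F.obj.map (pieceHom f a (compl f a W hW)).op T = 0 := by
  obtain ⟨T, hT⟩ := glue (und F) (fun b => pieceObj f a (two f a W hW b))
    (fun b => pieceHom f a (two f a W hW b)) (pieces_mono f a _)
    (pieces_disj f a _ (two_disj f a W hW)) (pieces_surj f a _ (two_top f a W hW))
    (fun b => Bool.rec (motive := fun b => (und F).obj.obj (op (pieceObj f a (two f a W hW b))))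
      (0 : F.obj.obj (op (pieceObj f a (compl f a W hW)))) s b)
  exact ⟨T, hT true, hT false⟩

/-- A section vanishing on both pieces vanishes. -/
lemma eq_zero_of_pieces (F : EtCoh.Ab X)
    (T : F.obj.obj (op ((EtCoh.bc f).obj (Scheme.Etale.mk a))))
    (h1 : F.obj.map (pieceHom f a W).op T = 0)
    (h2 : F.obj.map (pieceHom f a (compl f a W hW)).op T = 0) : T = 0 := by
  apply sep (und F) (fun b => pieceObj f a (two f a W hW b))
    (fun b => pieceHom f a (two f a W hW b)) (pieces_surj f a _ (two_top f a W hW))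
  intro b
  cases b
  · exact h2.trans (map_zero (F.obj.map (pieceHom f a (compl f a W hW)).op).hom).symm
  · exact h1.trans (map_zero (F.obj.map (pieceHom f a W).op).hom).symm

end clopen

section propA

variable {X Y₀ : Scheme.{u}} (f : X ⟶ Y₀)

/-- The morphism `W ⟶ U` in `X.Etale` given by condition (A). -/
noncomputable def aHom (U : X.Etale) {V : Scheme.{u}} (v : V ⟶ Y₀) [Etale v]
    (W : (pullback f v).Opens) (h : (W : Scheme.{u}) ⟶ U.left)
    (hh : h ≫ U.hom = W.ι ≫ pullback.fst f v) : pieceObj f v W ⟶ U :=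
  MorphismProperty.Over.homMk h hh trivial

lemma inj_of_push_mono {G F : EtCoh.Ab X} (a : G ⟶ F) [Mono ((EtCoh.push f).map a)]
    (V : Y₀.Etale) : Function.Injective (a.hom.app (op ((EtCoh.bc f).obj V))) := by
  have h1 : Mono ((EtCoh.push f).map a).hom := inferInstance
  have := (NatTrans.mono_iff_mono_app _).1 h1 (op V)
  exact (AddCommGrpCat.mono_iff_injective _).1 this

lemma reflects_mono (hA : BigSite.PropA f) {G F : EtCoh.Ab X} (a : G ⟶ F)
    [Mono ((EtCoh.push f).map a)] : Mono a := by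
  suffices Mono a.hom from Sheaf.Hom.mono_of_presheaf_mono _ _ a
  rw [NatTrans.mono_iff_mono_app]
  intro ⟨U⟩
  rw [AddCommGrpCat.mono_iff_injective]
  rw [injective_iff_map_eq_zero]
  intro s hs
  choose V v hv W hWc h hh hu using hA U.left U.hom
  apply sep (und G) (fun u => @pieceObj _ _ f _ (v u) (hv u) (W u))
    (fun u => @aHom _ _ f U _ (v u) (hv u) (W u) (h u) (hh u))
  · intro u
    obtain ⟨w, hw⟩ := hu u
    exact ⟨u, w, hw⟩
  · intro u
    have := hv u
    -- extend by zero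
    obtain ⟨T, hT1, hT2⟩ := ext_zero f (v u) (W u) (hWc u) G
      (G.obj.map (aHom f U (v u) (W u) (h u) (hh u)).op s)
    have hT0 : T = 0 := by
      apply inj_of_push_mono f a (Scheme.Etale.mk (v u))
      rw [map_zero]
      apply eq_zero_of_pieces f (v u) (W u) (hWc u) F
      · have n1 := NatTrans.naturality_apply a.hom (pieceHom f (v u) (W u)).op T
        rw [← n1, hT1]
        have n2 := NatTrans.naturality_apply a.hom (aHom f U (v u) (W u) (h u) (hh u)).op s
        rw [n2, hs, map_zero]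
      · have n1 := NatTrans.naturality_apply a.hom
          (pieceHom f (v u) (compl f (v u) (W u) (hWc u))).op T
        rw [← n1, hT2, map_zero]
    have : G.obj.map (aHom f U (v u) (W u) (h u) (hh u)).op s = 0 := by
      rw [← hT1, hT0, map_zero]
    exact this.trans (map_zero (G.obj.map (aHom f U (v u) (W u) (h u) (hh u)).op).hom).symm

end propA

section pb

lemma restrict_pt {P Zl : Scheme.{u}} (W : P.Opens) (gl : Zl ⟶ P) (z' : Zl) (w0 : W)
    (hz : gl z' = W.ι w0) :
    ∃ z'' : (gl ⁻¹ᵁ W : Zl.Opens), (gl ⁻¹ᵁ W).ι z'' = z' ∧ (gl ∣_ W) z'' = w0 := by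
  have hmem : z' ∈ gl ⁻¹ᵁ W := by
    change gl z' ∈ W
    rw [hz]
    exact w0.2
  refine ⟨⟨z', hmem⟩, rfl, ?_⟩
  have hinj : Function.Injective W.ι := W.ι.isOpenEmbedding.injective
  apply hinj
  rw [← Scheme.Hom.comp_apply, morphismRestrict_ι, Scheme.Hom.comp_apply, ← hz]
  rfl

lemma pb_aux {X Y₀ V Zl : Scheme.{u}} (f : X ⟶ Y₀) (v : V ⟶ Y₀) (W : (pullback f v).Opens)
    (gl' : Zl ⟶ pullback v f) (zh : Zl ⟶ X) (e0 : gl' ≫ pullback.snd v f = zh) :
    ((gl' ≫ (pullbackSymmetry v f).hom) ∣_ W) ≫ (W.ι ≫ pullback.fst f v) =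
      ((gl' ≫ (pullbackSymmetry v f).hom) ⁻¹ᵁ W).ι ≫ zh ∧
    ((gl' ≫ (pullbackSymmetry v f).hom) ⁻¹ᵁ W).ι ≫ gl' =
      ((gl' ≫ (pullbackSymmetry v f).hom) ∣_ W) ≫ (W.ι ≫ (pullbackSymmetry v f).inv) := by
  constructor
  · rw [← Category.assoc, morphismRestrict_ι, Category.assoc, Category.assoc,
      pullbackSymmetry_hom_comp_fst, e0]
  · rw [← Category.assoc, morphismRestrict_ι, Category.assoc, Category.assoc, Iso.hom_inv_id,
      Category.comp_id]

variable {X Y₀ : Scheme.{u}} (f : X ⟶ Y₀) {V : Scheme.{u}} (v : V ⟶ Y₀) [Etale v]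
  (W : (pullback f v).Opens)

lemma exists_pb (Z' : X.Etale) (g' : Z' ⟶ (EtCoh.bc f).obj (Scheme.Etale.mk v)) :
    ∃ (Z'' : X.Etale) (i : Z'' ⟶ Z') (ρ : Z'' ⟶ pieceObj f v W),
      i ≫ g' = ρ ≫ pieceHom f v W ∧
      ∀ (z' : Z'.left) (w0 : (pieceObj f v W).left),
        g'.left z' = (pieceHom f v W).left w0 →
        ∃ z'' : Z''.left, i.left z'' = z' ∧ ρ.left z'' = w0 := by
  let gl : Z'.left ⟶ pullback f v := g'.left ≫ (pullbackSymmetry v f).hom
  have e0 : g'.left ≫ pullback.snd v f = Z'.hom := Over.w g'.hom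
  obtain ⟨hρ, hcomm⟩ := pb_aux f v W g'.left Z'.hom e0
  let Z'' : X.Etale := Scheme.Etale.mk ((gl ⁻¹ᵁ W).ι ≫ Z'.hom)
  let i : Z'' ⟶ Z' := MorphismProperty.Over.homMk (gl ⁻¹ᵁ W).ι rfl trivial
  let ρ : Z'' ⟶ pieceObj f v W := MorphismProperty.Over.homMk (gl ∣_ W) hρ trivial
  refine ⟨Z'', i, ρ, ?_, ?_⟩
  · apply MorphismProperty.Over.Hom.ext
    exact hcomm
  · intro z' w0 hz
    have hz' : gl z' = W.ι w0 := by
      change (pullbackSymmetry v f).hom (g'.left z') = W.ι w0
      rw [hz, pieceHom_left]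
      change (pullbackSymmetry v f).hom ((pullbackSymmetry v f).inv (W.ι w0)) = W.ι w0
      rw [← Scheme.Hom.comp_apply, Iso.inv_hom_id]
      rfl
    exact restrict_pt W gl z' w0 hz'

end pb

section epi

lemma map_comp_apply' {C : Type*} [Category C] (F : Cᵒᵖ ⥤ AddCommGrpCat.{u + 1}) {A B D : C}
    (p : A ⟶ B) (q : B ⟶ D) (x : F.obj (op D)) :
    F.map p.op (F.map q.op x) = F.map (p ≫ q).op x := by
  rw [op_comp, F.map_comp]; rfl

variable {X Y₀ : Scheme.{u}} (f : X ⟶ Y₀)

lemma reflects_epi (hA : BigSite.PropA f) {G F : EtCoh.Ab X} (a : G ⟶ F)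
    [hE : Epi ((EtCoh.push f).map a)] : Epi a := by
  rw [← Sheaf.isLocallySurjective_iff_epi'] at hE ⊢
  refine ⟨fun {U} s => ?_⟩
  rw [mem_iff]
  intro u
  obtain ⟨V, v, hv, W, hWc, h, hh, w0, hw0⟩ := hA U.left U.hom u
  obtain ⟨T, hT1, -⟩ := ext_zero f v W hWc F (F.obj.map (aHom f U v W h hh).op s)
  have hR := Presheaf.imageSieve_mem Y₀.smallEtaleTopology ((EtCoh.push f).map a).hom
    (U := op (Scheme.Etale.mk v)) T
  have hR' := (EtCoh.coverPreserving_bc f).cover_preserve hR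
  rw [mem_iff] at hR'
  obtain ⟨Z', g', z', hg', hz'⟩ := hR' ((pieceHom f v W).left w0)
  obtain ⟨V'', r, a', ⟨t, ht⟩, rfl⟩ := hg'
  obtain ⟨Z'', i, ρ, hcomm, hpt⟩ := exists_pb f v W Z' (a' ≫ (EtCoh.bc f).map r)
  obtain ⟨z'', hz1, hz2⟩ := hpt z' w0 hz'
  refine ⟨Z'', ρ ≫ aHom f U v W h hh, z'', ?_, ?_⟩
  · refine ⟨G.obj.map (i ≫ a').op t, ?_⟩
    have n1 := NatTrans.naturality_apply a.hom (i ≫ a').op t
    rw [n1]
    have ht' : a.hom.app (op ((EtCoh.bc f).obj V'')) t = F.obj.map ((EtCoh.bc f).map r).op T := ht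
    rw [ht']
    have e1 : F.obj.map (i ≫ a').op (F.obj.map ((EtCoh.bc f).map r).op T) =
        F.obj.map ((i ≫ a') ≫ (EtCoh.bc f).map r).op T := map_comp_apply' F.obj _ _ T
    have e2 : F.obj.map (ρ ≫ aHom f U v W h hh).op s =
        F.obj.map ρ.op (F.obj.map (aHom f U v W h hh).op s) := (map_comp_apply' F.obj _ _ s).symm
    have e3 : F.obj.map ρ.op (F.obj.map (pieceHom f v W).op T) =
        F.obj.map (ρ ≫ pieceHom f v W).op T := map_comp_apply' F.obj _ _ T
    rw [e1, e2, ← hT1, e3, Category.assoc, hcomm]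
  · change (aHom f U v W h hh).left (ρ.left z'') = u
    rw [hz2]
    exact hw0

end epi

section final

variable {X Y₀ : Scheme.{u}} (f : X ⟶ Y₀)

lemma counit_epi (hA : BigSite.PropA f) (F : EtCoh.Ab X) :
    Epi ((EtCoh.pullPushAdj f).counit.app F) := by
  have h1 : (EtCoh.pullPushAdj f).unit.app ((EtCoh.push f).obj F) ≫
      (EtCoh.push f).map ((EtCoh.pullPushAdj f).counit.app F) = 𝟙 _ :=
    (EtCoh.pullPushAdj f).right_triangle_components F
  have : IsSplitEpi ((EtCoh.push f).map ((EtCoh.pullPushAdj f).counit.app F)) :=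
    IsSplitEpi.mk' ⟨_, h1⟩
  exact reflects_epi f hA _

end final

end helpers

/-- Let f : X ⟶ Y be a morphism of schemes satisfying condition (A) (for every etale U ⟶ X and every
point u of U there are an etale V ⟶ Y, an open and closed subscheme W of X ×_Y V and an X-morphism W
⟶ U whose image contains u). Then, on abelian sheaves on the small etale sites, f_* reflects
monomorphisms and epimorphisms, the counit f⁻¹ f_* F ⟶ F is an epimorphism for every F, and f_* is
faithful. -/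
theorem result {X Y : Scheme.{u}} (f : X ⟶ Y) (hA : BigSite.PropA f) :
    (EtCoh.push f).ReflectsMonomorphisms ∧ (EtCoh.push f).ReflectsEpimorphisms ∧
      (∀ F : EtCoh.Ab X, Epi ((EtCoh.pullPushAdj f).counit.app F)) ∧ (EtCoh.push f).Faithful := by
  refine ⟨⟨fun a _ => reflects_mono f hA a⟩, ⟨fun a _ => reflects_epi f hA a⟩,
    fun F => counit_epi f hA F, ?_⟩
  have := fun F => counit_epi f hA F
  exact (EtCoh.pullPushAdj f).faithful_R_of_epi_counit_app

end Groth.Agent.S6626
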