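import Groth.Statements.S4194
import Mathlib
import Groth.Agent.Lib.Helper7.AnPts1

set_option autoImplicit false
open CategoryTheory AlgebraicGeometry Topology TopologicalSpace
open An

namespace Groth.Agent.S4194

/-- A morphism f : X → Y of schemes locally of finite type over ℂ is injective (on underlying points) if
and only if the induced map X(ℂ) → Y(ℂ) is injective. -/
theorem result (X Y : Scheme.{0}) [X.Over An.SC] [LocallyOfFiniteType (X ↘ An.SC)]
    [Y.Over An.SC] [LocallyOfFiniteType (Y ↘ An.SC)] (f : X ⟶ Y) [f.IsOver An.SC] :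
    Function.Injective f.base ↔ Function.Injective (An.Pts.map f) := by
  constructor
  · intro hf x₁ x₂ h
    apply Groth.Agent.Helper7.AnPts.pt_injective X
    apply hf
    have := congrArg An.Pts.pt h
    rw [An.Pts.pt_map, An.Pts.pt_map] at this
    exact this
  · intro hinj p₁ p₂ hp
    by_contra hne
    have hfX : LocallyOfFiniteType f := by
      have : LocallyOfFiniteType (f ≫ (Y ↘ An.SC)) := by rw [comp_over]; infer_instance
      exact locallyOfFiniteType_of_comp f (Y ↘ An.SC)
    let Z := Limits.pullback f f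
    let g : Z ⟶ An.SC := Limits.pullback.fst f f ≫ (X ↘ An.SC)
    have hg : LocallyOfFiniteType g := inferInstance
    have hJ : JacobsonSpace Z := LocallyOfFiniteType.jacobsonSpace g
    obtain ⟨z, hz1, hz2⟩ := Scheme.Pullback.exists_preimage_pullback (f := f) (g := f) p₁ p₂ hp
    let Δ : X ⟶ Z := Limits.pullback.diagonal f
    have hΔ1 : Δ ≫ Limits.pullback.fst f f = 𝟙 X := Limits.pullback.diagonal_fst f
    have hΔ2 : Δ ≫ Limits.pullback.snd f f = 𝟙 X := Limits.pullback.diagonal_snd f
    have hzΔ : z ∉ Set.range Δ := by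
      rintro ⟨p, rfl⟩
      apply hne
      rw [← hz1, ← hz2, ← Scheme.Hom.comp_apply, ← Scheme.Hom.comp_apply, hΔ1, hΔ2]
    obtain ⟨U, C, hU, hC, hUC⟩ := Δ.isLocallyClosed_range
    -- a locally closed set through `z` missing the diagonal
    obtain ⟨S, hzS, hSlc, hSΔ⟩ : ∃ S : Set Z, z ∈ S ∧ IsLocallyClosed S ∧
        Disjoint S (Set.range Δ) := by
      by_cases hzC : z ∈ C
      · refine ⟨Uᶜ, ?_, hU.isClosed_compl.isLocallyClosed, ?_⟩
        · intro hzU
          exact hzΔ (hUC ▸ ⟨hzU, hzC⟩)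
        · rw [hUC]
          exact Set.disjoint_left.2 fun a ha ha' => ha ha'.1
      · refine ⟨Cᶜ, hzC, hC.isOpen_compl.isLocallyClosed, ?_⟩
        rw [hUC]
        exact Set.disjoint_left.2 fun a ha ha' => ha ha'.2
    obtain ⟨z₀, hz₀S, hz₀⟩ := nonempty_inter_closedPoints ⟨z, hzS⟩ hSlc
    let ζ : An.SC ⟶ Z := pointOfClosedPoint g z₀ hz₀
    have hζ : ζ ≫ g = 𝟙 _ := pointOfClosedPoint_comp g z₀ hz₀
    have hζa : ζ An.cpt = z₀ := pointOfClosedPoint_apply g z₀ hz₀ _
    let x₁ : An.Pts X := ⟨ζ ≫ Limits.pullback.fst f f, by rw [Category.assoc]; exact hζ⟩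
    let x₂ : An.Pts X := ⟨ζ ≫ Limits.pullback.snd f f, by
      rw [Category.assoc]
      have : Limits.pullback.snd f f ≫ (X ↘ An.SC) = g := by
        change _ = Limits.pullback.fst f f ≫ (X ↘ An.SC)
        rw [← comp_over f, ← Category.assoc, ← Category.assoc, Limits.pullback.condition]
      rw [this]; exact hζ⟩
    have h12 : An.Pts.map f x₁ = An.Pts.map f x₂ := by
      apply Subtype.ext
      change (ζ ≫ Limits.pullback.fst f f) ≫ f = (ζ ≫ Limits.pullback.snd f f) ≫ f
      rw [Category.assoc, Category.assoc, Limits.pullback.condition]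
    have h12' : ζ ≫ Limits.pullback.fst f f = ζ ≫ Limits.pullback.snd f f :=
      congrArg Subtype.val (hinj h12)
    have hζΔ : ζ = (ζ ≫ Limits.pullback.fst f f) ≫ Δ := by
      apply Limits.pullback.hom_ext
      · rw [Category.assoc, hΔ1, Category.comp_id]
      · rw [Category.assoc, hΔ2, Category.comp_id, h12']
    apply Set.disjoint_left.1 hSΔ hz₀S
    rw [← hζa, hζΔ, Scheme.Hom.comp_apply]
    exact ⟨_, rfl⟩

end Groth.Agent.S4194
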