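import Groth.Statements.S4198
import Mathlib
import Groth.Agent.Lib.Helper7.AnPts1
import Groth.Agent.Lib.Helper7.ConsTop

set_option autoImplicit false
open CategoryTheory AlgebraicGeometry Topology TopologicalSpace
open An

namespace Groth.Agent.S4198

/-- Let f : X → Y be a morphism of finite type (here: quasi-compact, X and Y being locally of finite
type over ℂ). Then f is surjective if and only if the induced map on complex points X(ℂ) → Y(ℂ) is
surjective. (The finite-type hypothesis cannot be dropped.) -/
theorem result (X Y : Scheme.{0}) [X.Over An.SC] [LocallyOfFiniteType (X ↘ An.SC)]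
    [Y.Over An.SC] [LocallyOfFiniteType (Y ↘ An.SC)] (f : X ⟶ Y) [f.IsOver An.SC] [QuasiCompact f] :
    Function.Surjective f.base ↔ Function.Surjective (An.Pts.map f) := by
  have hfX : LocallyOfFiniteType f := by
    have : LocallyOfFiniteType (f ≫ (Y ↘ An.SC)) := by rw [comp_over]; infer_instance
    exact locallyOfFiniteType_of_comp f (Y ↘ An.SC)
  constructor
  · intro hf y
    obtain ⟨p, hp⟩ := hf y.pt
    obtain ⟨z, hz1, hz2⟩ := Scheme.Pullback.exists_preimage_pullback (f := f) (g := y.1) p An.cpt hp
    let Z := Limits.pullback f y.1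
    let g : Z ⟶ An.SC := Limits.pullback.snd f y.1
    have hg : LocallyOfFiniteType g := inferInstance
    have hJ : JacobsonSpace Z := LocallyOfFiniteType.jacobsonSpace g
    obtain ⟨z₀, -, hz₀⟩ := nonempty_inter_closedPoints (X := Z) (Z := Set.univ) ⟨z, trivial⟩
      isOpen_univ.isLocallyClosed
    let ζ : An.SC ⟶ Z := pointOfClosedPoint g z₀ hz₀
    have hζ : ζ ≫ g = 𝟙 _ := pointOfClosedPoint_comp g z₀ hz₀
    have hcond : ζ ≫ Limits.pullback.fst f y.1 ≫ f = y.1 := by
      rw [Limits.pullback.condition, ← Category.assoc]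
      change (ζ ≫ g) ≫ y.1 = y.1
      rw [hζ, Category.id_comp]
    refine ⟨⟨ζ ≫ Limits.pullback.fst f y.1, ?_⟩, ?_⟩
    · rw [Category.assoc, ← comp_over f An.SC, ← Category.assoc, ← Category.assoc]
      rw [Category.assoc ζ, hcond]
      exact y.2
    · apply Subtype.ext
      change (ζ ≫ Limits.pullback.fst f y.1) ≫ f = y.1
      rw [Category.assoc]; exact hcond
  · intro hf
    have hYn : IsLocallyNoetherian Y := LocallyOfFiniteType.isLocallyNoetherian (Y ↘ An.SC)
    have hfp : LocallyOfFinitePresentation f := inferInstance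
    have hcons : IsLocallyConstructible (Set.range f.base) := by
      rw [← Set.image_univ]
      exact f.isLocallyConstructible_image IsLocallyConstructible.univ
    by_contra hns
    have hne : ((Set.range f.base)ᶜ).Nonempty := by
      by_contra h
      rw [Set.not_nonempty_iff_eq_empty, Set.compl_empty_iff] at h
      exact hns (Set.range_eq_univ.1 h)
    obtain ⟨t, hts, htne, htlc⟩ := Groth.Agent.Helper7.ConsTop.exists_isLocallyClosed_subset
      (Groth.Agent.Helper7.ConsTop.isLocallyConstructible_compl hcons) hne
    obtain ⟨y, hy⟩ := Groth.Agent.Helper7.AnPts.exists_pt_mem htne htlc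
    obtain ⟨x, rfl⟩ := hf y
    apply hts hy
    rw [An.Pts.pt_map]
    exact ⟨_, rfl⟩

end Groth.Agent.S4198
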