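import Groth.Statements.S4210
import Mathlib
import Groth.Agent.Lib.Helper10.LanExact

set_option autoImplicit false
open CategoryTheory AlgebraicGeometry Topology TopologicalSpace
open An

namespace Groth.Agent.S4210

section helpers

open CategoryTheory.Limits Opposite

/-- A set map into a "fibre product" of local homeomorphisms is continuous as soon as its two
components are. -/
lemma continuous_of_joint {A Z Y₁ Y₂ B : Type*} [TopologicalSpace A] [TopologicalSpace Z]
    [TopologicalSpace Y₁] [TopologicalSpace Y₂] [TopologicalSpace B]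
    (q₁ : Z → Y₁) (q₂ : Z → Y₂) (r₁ : Y₁ → B) (r₂ : Y₂ → B)
    (hq₁ : IsLocalHomeomorph q₁) (hq₂ : Continuous q₂) (hr₂ : IsLocalHomeomorph r₂)
    (hsq : ∀ z, r₁ (q₁ z) = r₂ (q₂ z))
    (hinj : ∀ z z', q₁ z = q₁ z' → q₂ z = q₂ z' → z = z')
    (m : A → Z) (h₁ : Continuous (q₁ ∘ m)) (h₂ : Continuous (q₂ ∘ m)) : Continuous m := by
  rw [continuous_iff_continuousAt]
  intro a
  obtain ⟨e, he, rfl⟩ := hq₁ (m a)
  obtain ⟨e₂, he₂, rfl⟩ := hr₂ (q₂ (m a))
  have hc : ContinuousAt (fun a' => e.symm (e (m a'))) a := by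
    have h3 : ContinuousAt e.symm (e (m a)) := e.continuousAt_symm (e.map_source he)
    exact ContinuousAt.comp (f := fun a' => e (m a')) h3 h₁.continuousAt
  refine hc.congr ?_
  have hq₂c' : ContinuousAt (fun a' => q₂ (e.symm (e (m a')))) a :=
    ContinuousAt.comp (g := q₂) hq₂.continuousAt hc
  have E1 : ∀ᶠ a' in 𝓝 a, e (m a') ∈ e.target :=
    h₁.continuousAt.preimage_mem_nhds (e.open_target.mem_nhds (e.map_source he))
  have E2 : ∀ᶠ a' in 𝓝 a, q₂ (e.symm (e (m a'))) ∈ e₂.source := by
    refine hq₂c'.preimage_mem_nhds (e₂.open_source.mem_nhds ?_)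
    simpa [e.left_inv he] using he₂
  have E3 : ∀ᶠ a' in 𝓝 a, q₂ (m a') ∈ e₂.source :=
    h₂.continuousAt.preimage_mem_nhds (e₂.open_source.mem_nhds he₂)
  filter_upwards [E1, E2, E3] with a' k1 k2 k3
  apply hinj
  · exact e.right_inv k1
  · apply e₂.injOn k2 k3
    rw [← hsq, ← hsq, e.right_inv k1]

lemma isLocalHomeomorph_hom {T : Type} [TopologicalSpace T] {A B : An.Cl T} (g : A ⟶ B) :
    IsLocalHomeomorph g.toFun := by
  refine IsLocalHomeomorph.of_comp (g := B.p) ?_ B.lh g.continuous
  have : B.p ∘ g.toFun = A.p := funext g.over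
  rw [this]
  exact A.lh

lemma exists_lift_pair {T : Type} [TopologicalSpace T] {A Z Y₁ Y₂ B : An.Cl T}
    (q₁ : Z ⟶ Y₁) (q₂ : Z ⟶ Y₂) (r₁ : Y₁ ⟶ B) (r₂ : Y₂ ⟶ B) (hsq : q₁ ≫ r₁ = q₂ ≫ r₂)
    (hinj : ∀ z z', q₁.toFun z = q₁.toFun z' → q₂.toFun z = q₂.toFun z' → z = z')
    (f₁ : A ⟶ Y₁) (f₂ : A ⟶ Y₂)
    (hex : ∀ a, ∃ z, q₁.toFun z = f₁.toFun a ∧ q₂.toFun z = f₂.toFun a) :
    ∃ l : A ⟶ Z, l ≫ q₁ = f₁ ∧ l ≫ q₂ = f₂ := by
  choose m hm₁ hm₂ using hex
  have hc : Continuous m := by
    refine continuous_of_joint q₁.toFun q₂.toFun r₁.toFun r₂.toFun (isLocalHomeomorph_hom q₁)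
      q₂.continuous (isLocalHomeomorph_hom r₂) ?_ hinj m ?_ ?_
    · intro z
      exact congrArg (fun k : Z ⟶ B => k.toFun z) hsq
    · have : q₁.toFun ∘ m = f₁.toFun := funext hm₁
      rw [this]
      exact f₁.continuous
    · have : q₂.toFun ∘ m = f₂.toFun := funext hm₂
      rw [this]
      exact f₂.continuous
  refine ⟨⟨m, hc, fun a => ?_⟩, ?_, ?_⟩
  · rw [← q₁.over (m a), hm₁ a]
    exact f₁.over a
  · ext a
    exact hm₁ a
  · ext a
    exact hm₂ a

lemma exists_lift_single {T : Type} [TopologicalSpace T] {A Z Y : An.Cl T}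
    (q : Z ⟶ Y) (hinj : Function.Injective q.toFun) (f : A ⟶ Y)
    (hex : ∀ a, ∃ z, q.toFun z = f.toFun a) : ∃ l : A ⟶ Z, l ≫ q = f := by
  choose m hm using hex
  have hq : IsOpenEmbedding q.toFun :=
    (isLocalHomeomorph_hom q).isOpenEmbedding_of_injective hinj
  have hc : Continuous m := by
    rw [hq.isInducing.continuous_iff]
    have : q.toFun ∘ m = f.toFun := funext hm
    rw [this]
    exact f.continuous
  refine ⟨⟨m, hc, fun a => ?_⟩, ?_⟩
  · rw [← q.over (m a), hm a]
    exact f.over a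
  · ext a
    exact hm a

section pts

variable {X : Scheme.{0}} [X.Over An.SC]

lemma pts_lift_pair {P U₁ U₂ V : X.Etale} (fst : P ⟶ U₁) (snd : P ⟶ U₂) (a : U₁ ⟶ V) (b : U₂ ⟶ V)
    (hP : IsPullback fst.left snd.left a.left b.left) (x₁ : An.Pts U₁.left) (x₂ : An.Pts U₂.left)
    (h : An.Pts.map a.left x₁ = An.Pts.map b.left x₂) :
    ∃ z : An.Pts P.left, An.Pts.map fst.left z = x₁ ∧ An.Pts.map snd.left z = x₂ := by
  have h' : x₁.1 ≫ a.left = x₂.1 ≫ b.left := congrArg Subtype.val h
  refine ⟨⟨hP.lift x₁.1 x₂.1 h', ?_⟩, Subtype.ext (hP.lift_fst _ _ _), Subtype.ext (hP.lift_snd _ _ _)⟩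
  rw [← comp_over fst.left An.SC, ← Category.assoc, hP.lift_fst]
  exact x₁.2

lemma pts_inj_pair {P U₁ U₂ V : X.Etale} (fst : P ⟶ U₁) (snd : P ⟶ U₂) (a : U₁ ⟶ V) (b : U₂ ⟶ V)
    (hP : IsPullback fst.left snd.left a.left b.left) (z z' : An.Pts P.left)
    (h₁ : An.Pts.map fst.left z = An.Pts.map fst.left z')
    (h₂ : An.Pts.map snd.left z = An.Pts.map snd.left z') : z = z' :=
  Subtype.ext (hP.hom_ext (congrArg Subtype.val h₁) (congrArg Subtype.val h₂))

lemma pts_lift_eq {E U V : X.Etale} (ι : E ⟶ U) (f g : U ⟶ V)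
    (w : ι.left ≫ f.left = ι.left ≫ g.left) (hE : IsLimit (Fork.ofι ι.left w))
    (x : An.Pts U.left) (h : An.Pts.map f.left x = An.Pts.map g.left x) :
    ∃ z : An.Pts E.left, An.Pts.map ι.left z = x := by
  have h' : x.1 ≫ f.left = x.1 ≫ g.left := congrArg Subtype.val h
  obtain ⟨l, hl⟩ := Fork.IsLimit.lift' hE x.1 h'
  have hl' : l ≫ ι.left = x.1 := hl
  refine ⟨⟨l, ?_⟩, Subtype.ext hl'⟩
  rw [← comp_over ι.left An.SC, ← Category.assoc, hl']
  exact x.2

lemma pts_inj_eq {E U V : X.Etale} (ι : E ⟶ U) (f g : U ⟶ V)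
    (w : ι.left ≫ f.left = ι.left ≫ g.left) (hE : IsLimit (Fork.ofι ι.left w)) :
    Function.Injective (An.Pts.map ι.left : An.Pts E.left → An.Pts U.left) := by
  intro z z' h
  exact Subtype.ext (Fork.IsLimit.hom_ext hE (congrArg Subtype.val h))

end pts

section main

variable (X : Scheme.{0}) [X.Over An.SC] [LocallyOfFiniteType (X ↘ An.SC)] [Fact An.EtaleLH]

open Groth.Agent.Helper10.LanExact in
theorem compFilt_eps (A : (An.Cl (An.Pts X))ᵒᵖ) :
    CompFilt (CostructuredArrow (An.eps X).op A) where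
  span := by
    intro i j j' a b
    have ha : j.hom.unop ≫ (An.eps X).map a.left.unop = i.hom.unop :=
      congrArg Quiver.Hom.unop (CostructuredArrow.w a)
    have hb : j'.hom.unop ≫ (An.eps X).map b.left.unop = i.hom.unop :=
      congrArg Quiver.Hom.unop (CostructuredArrow.w b)
    have hP : IsPullback (pullback.fst a.left.unop b.left.unop).left
        (pullback.snd a.left.unop b.left.unop).left a.left.unop.left b.left.unop.left :=
      (IsPullback.of_hasPullback a.left.unop b.left.unop).map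
        (Scheme.Etale.forget X ⋙ Over.forget X)
    obtain ⟨l, hl1, hl2⟩ := exists_lift_pair
      ((An.eps X).map (pullback.fst a.left.unop b.left.unop))
      ((An.eps X).map (pullback.snd a.left.unop b.left.unop))
      ((An.eps X).map a.left.unop) ((An.eps X).map b.left.unop)
      (by rw [← Functor.map_comp, ← Functor.map_comp, pullback.condition])
      (fun z z' h₁ h₂ => pts_inj_pair _ _ _ _ hP z z' h₁ h₂)
      j.hom.unop j'.hom.unop
      (fun t => pts_lift_pair _ _ _ _ hP _ _
        ((congrArg (fun k : A.unop ⟶ _ => k.toFun t) ha).trans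
          (congrArg (fun k : A.unop ⟶ _ => k.toFun t) hb).symm))
    let k : CostructuredArrow (An.eps X).op A :=
      CostructuredArrow.mk (Y := op (pullback a.left.unop b.left.unop)) l.op
    refine ⟨k, CostructuredArrow.homMk (pullback.fst a.left.unop b.left.unop).op ?_,
      CostructuredArrow.homMk (pullback.snd a.left.unop b.left.unop).op ?_, ?_⟩
    · exact congrArg Quiver.Hom.op hl1
    · exact congrArg Quiver.Hom.op hl2
    · ext
      exact congrArg Quiver.Hom.op (pullback.condition (f := a.left.unop) (g := b.left.unop))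
  coeq := by
    intro j j' f g
    have hf : j'.hom.unop ≫ (An.eps X).map f.left.unop = j.hom.unop :=
      congrArg Quiver.Hom.unop (CostructuredArrow.w f)
    have hg : j'.hom.unop ≫ (An.eps X).map g.left.unop = j.hom.unop :=
      congrArg Quiver.Hom.unop (CostructuredArrow.w g)
    have w : (equalizer.ι f.left.unop g.left.unop).left ≫ f.left.unop.left =
        (equalizer.ι f.left.unop g.left.unop).left ≫ g.left.unop.left :=
      congrArg (fun k => (Scheme.Etale.forget X ⋙ Over.forget X).map k)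
        (equalizer.condition f.left.unop g.left.unop)
    have hE : IsLimit (Fork.ofι (equalizer.ι f.left.unop g.left.unop).left w) :=
      isLimitForkMapOfIsLimit (Scheme.Etale.forget X ⋙ Over.forget X)
        (equalizer.condition f.left.unop g.left.unop)
        (equalizerIsEqualizer f.left.unop g.left.unop)
    obtain ⟨l, hl1⟩ := exists_lift_single
      ((An.eps X).map (equalizer.ι f.left.unop g.left.unop))
      (pts_inj_eq _ _ _ w hE) j'.hom.unop
      (fun t => pts_lift_eq _ _ _ w hE _
        ((congrArg (fun k : A.unop ⟶ _ => k.toFun t) hf).trans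
          (congrArg (fun k : A.unop ⟶ _ => k.toFun t) hg).symm))
    let k : CostructuredArrow (An.eps X).op A :=
      CostructuredArrow.mk (Y := op (equalizer f.left.unop g.left.unop)) l.op
    refine ⟨k, CostructuredArrow.homMk (equalizer.ι f.left.unop g.left.unop).op ?_, ?_⟩
    · exact congrArg Quiver.Hom.op hl1
    · ext
      exact congrArg Quiver.Hom.op (equalizer.condition f.left.unop g.left.unop)

end main

end helpers

/-- Ε is a morphism of sites, so its inverse image functor is exact: for X locally of finite type over ℂ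
the inverse image ε^* from abelian etale sheaves on X to abelian sheaves on the classical site of
X(ℂ) preserves finite limits (it preserves colimits, being a left adjoint). This is the exactness
hypothesis carried by the comparison maps on cohomology. -/
theorem result (X : Scheme.{0}) [X.Over An.SC] [LocallyOfFiniteType (X ↘ An.SC)]
    [Fact An.EtaleLH] [An.EpsCont X] :
    Limits.PreservesFiniteLimits (An.epsPull X) := by
  exact Groth.Agent.Helper10.LanExact.preservesFiniteLimits_sheafPullback_ab_of_compFilt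
    (An.eps X) _ _ (compFilt_eps X)

end Groth.Agent.S4210
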