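import Groth.Statements.S4209
import Mathlib
import Groth.Agent.S4210
import Groth.Agent.S6629
import Groth.Agent.S4186

set_option autoImplicit false
open CategoryTheory AlgebraicGeometry Topology TopologicalSpace
open An

namespace Groth.Agent.S4209

section helpers

open CategoryTheory.Limits Opposite Groth.Agent.Helper10.LanExact

/-- A category with filtered components and a weakly initial object is filtered. -/
lemma isFiltered_of_compFilt {J : Type*} [Category J] (hJ : CompFilt J) (i₀ : J)
    (h₀ : ∀ j, Nonempty (i₀ ⟶ j)) : IsFiltered J := by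
  have : IsFilteredOrEmpty J := by
    refine ⟨fun j j' => ?_, fun j j' f g => ?_⟩
    · obtain ⟨a⟩ := h₀ j
      obtain ⟨b⟩ := h₀ j'
      obtain ⟨k, f, g, -⟩ := hJ.span a b
      exact ⟨k, f, g, trivial⟩
    · obtain ⟨k, h, hh⟩ := hJ.coeq f g
      exact ⟨k, h, hh⟩
  have : Nonempty J := ⟨i₀⟩
  exact {}

section flat

variable (X : Scheme.{0}) [X.Over An.SC] [LocallyOfFiniteType (X ↘ An.SC)] [Fact An.EtaleLH]

/-- `ε(X)` is terminal. -/
noncomputable def epsTopIsTerminal : IsTerminal ((An.eps X).obj (EtCoh.top X)) :=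
  IsTerminal.ofIso (An.Cl.selfIsTerminal (An.Pts X)) (An.epsTopIso X).symm

theorem isFiltered_costructured (A : (An.Cl (An.Pts X))ᵒᵖ) :
    IsFiltered (CostructuredArrow (An.eps X).op A) := by
  let i₀ : CostructuredArrow (An.eps X).op A :=
    CostructuredArrow.mk (Y := op (EtCoh.top X)) ((epsTopIsTerminal X).from A.unop).op
  refine isFiltered_of_compFilt (Groth.Agent.S4210.compFilt_eps X A) i₀ (fun j => ?_)
  refine ⟨CostructuredArrow.homMk ((EtCore.topIsTerminal X).from j.left.unop).op ?_⟩
  apply Quiver.Hom.unop_inj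
  exact (epsTopIsTerminal X).hom_ext _ _

instance representablyFlat_eps : RepresentablyFlat (An.eps X) where
  cofiltered A := by
    have h1 : IsFiltered (CostructuredArrow (An.eps X).op (op A)) := isFiltered_costructured X (op A)
    have h2 : IsFiltered (StructuredArrow A (An.eps X))ᵒᵖ :=
      IsFiltered.of_equivalence (structuredArrowOpEquivalence (An.eps X) A).symm
    exact isCofiltered_of_isFiltered_op _

end flat

section cover

variable {X : Scheme.{0}} [X.Over An.SC]

/-- A `ℂ`-point of `U` whose underlying point lifts to `Z` along an étale `Z ⟶ U` lifts to a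
`ℂ`-point of `Z`. -/
lemma pts_lift_of_point {Z U : X.Etale} (g : Z ⟶ U) (a : An.Pts U.left) (z : Z.left)
    (hz : g.left z = a.pt) : ∃ z' : An.Pts Z.left, An.Pts.map g.left z' = a := by
  let F : Scheme.{0} := pullback g.left a.1
  let _ : F.Over An.SC := ⟨pullback.snd g.left a.1⟩
  have hlft : LocallyOfFiniteType (F ↘ An.SC) := by
    change LocallyOfFiniteType (pullback.snd g.left a.1)
    infer_instance
  have hne : Nonempty ↥F := by
    obtain ⟨w, -, -⟩ := Scheme.Pullback.exists_preimage_pullback (f := g.left) (g := a.1)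
      z An.cpt hz
    exact ⟨w⟩
  obtain ⟨w⟩ := (Groth.Agent.S4186.result F).1 hne
  have hw : w.1 ≫ pullback.snd g.left a.1 = 𝟙 An.SC := w.2
  have hcomp : (w.1 ≫ pullback.fst g.left a.1) ≫ g.left = a.1 := by
    rw [Category.assoc, pullback.condition, ← Category.assoc, hw, Category.id_comp]
  refine ⟨⟨w.1 ≫ pullback.fst g.left a.1, ?_⟩, Subtype.ext hcomp⟩
  rw [← comp_over g.left An.SC, ← Category.assoc, hcomp]
  exact a.2

variable [LocallyOfFiniteType (X ↘ An.SC)] [Fact An.EtaleLH]

theorem coverPreserving_eps :
    CoverPreserving X.smallEtaleTopology (An.Cl.topology (An.Pts X)) (An.eps X) := by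
  constructor
  intro U R hR a
  rw [Groth.Agent.S6629.mem_iff] at hR
  obtain ⟨Z, g, z, hg, hz⟩ := hR (An.Pts.pt (X := U.left) a)
  obtain ⟨z', hz'⟩ := pts_lift_of_point g a z hz
  have hlh : IsLocalHomeomorph ((An.eps X).map g).toFun :=
    Groth.Agent.S4210.isLocalHomeomorph_hom _
  obtain ⟨e, he, hfe⟩ := hlh z'
  refine ⟨An.Cl.restrictOpen ((An.eps X).obj Z) e.source e.open_source,
    An.Cl.restrictOpenι _ _ _ ≫ (An.eps X).map g, ?_, ?_, ⟨⟨z', he⟩, hz'⟩⟩
  · exact ⟨Z, g, An.Cl.restrictOpenι _ _ _, hg, rfl⟩
  · have h1 : (An.Cl.restrictOpenι ((An.eps X).obj Z) e.source e.open_source ≫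
        (An.eps X).map g).toFun = e.source.restrict e := by
      funext w
      change ((An.eps X).map g).toFun w.1 = e w.1
      rw [hfe]
    rw [h1]
    exact e.isOpenEmbedding_restrict

end cover

end helpers

/-- For X locally of finite type over ℂ, U ↦ U(ℂ) defines a morphism of sites ε from the classical site
of X(ℂ) to the small etale site of X; in particular the functor is continuous (precomposition with
it carries sheaves to sheaves). This is the hypothesis An.EpsCont carried by the comparison
statements. -/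
theorem result (X : Scheme.{0}) [X.Over An.SC] [LocallyOfFiniteType (X ↘ An.SC)]
    [Fact An.EtaleLH] :
    An.EpsCont X := by
  exact Functor.isContinuous_of_coverPreserving (compatiblePreservingOfFlat _ _)
    coverPreserving_eps

end Groth.Agent.S4209
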