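import Groth.Statements.S4211
import Mathlib

set_option autoImplicit false
universe u
open An

namespace Groth.Agent.S4211

section helpers

open CategoryTheory TopologicalSpace Topology Opposite

variable (T : Type u) [TopologicalSpace T]

instance full_opensToCl : (An.opensToCl T).Full where
  map_surjective := by
    intro U V f
    have hle : U ≤ V := fun x hx => by
      let y : V := f.toFun ⟨x, hx⟩
      have h1 : (y : T) = x := f.over ⟨x, hx⟩
      rw [← h1]
      exact y.2
    refine ⟨homOfLE hle, ?_⟩
    apply An.Cl.hom_ext
    funext a
    apply Subtype.ext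
    exact (f.over a).symm

instance faithful_opensToCl : (An.opensToCl T).Faithful where
  map_injective := fun _ => Subsingleton.elim _ _

instance isCoverDense_opensToCl : (An.opensToCl T).IsCoverDense (An.Cl.topology T) where
  is_cover E := by
    intro a
    obtain ⟨e, he, hp⟩ := E.lh a
    have hpw : ∀ w, E.p w = e w := fun w => congrFun hp w
    refine ⟨An.Cl.restrictOpen E e.source e.open_source,
      An.Cl.restrictOpenι E e.source e.open_source, ?_,
      e.open_source.isOpenEmbedding_subtypeVal, ⟨⟨a, he⟩, rfl⟩⟩
    let V : Opens T := ⟨e.target, e.open_target⟩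
    refine ⟨⟨V, ⟨fun w => ⟨E.p w.1, by rw [hpw]; exact e.map_source w.2⟩, ?_, fun _ => rfl⟩,
      ⟨fun v => e.symm v.1, ?_, fun v => ?_⟩, ?_⟩⟩
    · exact Continuous.subtype_mk (E.lh.continuous.comp continuous_subtype_val) _
    · exact e.continuousOn_symm.comp_continuous continuous_subtype_val (fun v => v.2)
    · rw [hpw]
      exact e.right_inv v.2
    · apply An.Cl.hom_ext
      funext w
      change e.symm (E.p w.1) = w.1
      rw [hpw]
      exact e.left_inv w.2

instance isDenseSubsite_opensToCl :
    (An.opensToCl T).IsDenseSubsite (Opens.grothendieckTopology T) (An.Cl.topology T) where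
  functorPushforward_mem_iff := by
    intro U S
    constructor
    · intro h x hx
      obtain ⟨B, g, ⟨V, h', k, hS, hfac⟩, -, ⟨b, hb⟩⟩ := h ⟨x, hx⟩
      refine ⟨V, h', hS, ?_⟩
      let y : V := k.toFun b
      have h1 : (y : T) = x := by
        have h2 := congrArg (fun m : B ⟶ (An.opensToCl T).obj U =>
          ((An.opensToCl T).obj U).p (m.toFun b)) hfac
        have h3 : ((An.opensToCl T).obj U).p (g.toFun b) = x := congrArg Subtype.val hb
        exact h2.symm.trans h3
      rw [← h1]
      exact y.2
    · intro h a
      obtain ⟨V, f, hS, hxV⟩ := h a.1 a.2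
      exact ⟨(An.opensToCl T).obj V, (An.opensToCl T).map f,
        Sieve.image_mem_functorPushforward _ S hS, Opens.isOpenEmbedding_of_le f.le,
        ⟨⟨a.1, hxV⟩, Subtype.ext rfl⟩⟩

end helpers

/-- For a topological space T, the inclusion of the opens of T into the site of local homeomorphisms
over T is continuous. This is the hypothesis An.OpCont carried by statements that restrict classical
sheaves to opens. -/
theorem result (T : Type u) [TopologicalSpace T] :
    An.OpCont T := by
  exact inferInstanceAs ((An.opensToCl T).IsContinuous (Opens.grothendieckTopology T)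
    (An.Cl.topology T))

end Groth.Agent.S4211
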