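import Groth.Statements.S4256
import Mathlib

set_option autoImplicit false
open scoped BigOperators
open SGA4h

namespace Groth.Agent.S4256

/-- Let k be a finite field, ψ a nontrivial additive character of k with values in a domain R, and n ≥
1. Then the generalised Kloosterman sum with parameter 0, Σ ψ(x_1 + ⋯ + x_n) over all (x_1, …, x_n)
∈ k^n with x_1 ⋯ x_n = 0, equals (-1)^{n-1}. -/
theorem result (k : Type) [Field k] [Fintype k] [DecidableEq k] (R : Type) [CommRing R] [IsDomain R]
    (ψ : AddChar k R) (hψ : ψ ≠ 1) (n : ℕ) (hn : 1 ≤ n) :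
    ∑ x ∈ (Finset.univ : Finset (Fin n → k)).filter (fun x => ∏ i, x i = 0), ψ (∑ i, x i) = (-1) ^ (n - 1) := by
  classical
  have hsum : ∑ a : k, ψ a = 0 := AddChar.sum_eq_zero_of_ne_one hψ
  have hsum' : ∑ a ∈ ({0}ᶜ : Finset k), ψ a = -1 := by
    have := Finset.sum_compl_add_sum ({0} : Finset k) (fun a => ψ a)
    rw [hsum, Finset.sum_singleton, AddChar.map_zero_eq_one] at this
    exact eq_neg_of_add_eq_zero_left this
  have hψsum' : ∀ (s : Finset (Fin n)) (x : Fin n → k), ψ (∑ i ∈ s, x i) = ∏ i ∈ s, ψ (x i) := by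
    intro s x
    induction s using Finset.induction_on with
    | empty => simp
    | insert a s ha ih => rw [Finset.sum_insert ha, Finset.prod_insert ha, AddChar.map_add_eq_mul, ih]
  have hψsum : ∀ x : Fin n → k, ψ (∑ i, x i) = ∏ i, ψ (x i) := fun x => hψsum' _ x
  have htot : ∑ x : Fin n → k, ψ (∑ i, x i) = 0 := by
    simp_rw [hψsum]
    rw [← Fintype.piFinset_univ, ← Finset.prod_univ_sum, Finset.prod_const, hsum,
      Finset.card_univ, Fintype.card_fin]
    exact zero_pow (by omega)
  have hnz : ∑ x ∈ (Finset.univ : Finset (Fin n → k)).filter (fun x => ¬ ∏ i, x i = 0),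
      ψ (∑ i, x i) = (-1) ^ n := by
    have hfil : (Finset.univ : Finset (Fin n → k)).filter (fun x => ¬ ∏ i, x i = 0)
        = Fintype.piFinset (fun _ : Fin n => ({0}ᶜ : Finset k)) := by
      ext x
      simp [Fintype.mem_piFinset, Finset.prod_eq_zero_iff]
    rw [hfil]
    simp_rw [hψsum]
    rw [← Finset.prod_univ_sum, Finset.prod_const, hsum', Finset.card_univ, Fintype.card_fin]
  have hsplit := Finset.sum_filter_add_sum_filter_not (Finset.univ : Finset (Fin n → k))
    (fun x => ∏ i, x i = 0) (fun x => ψ (∑ i, x i))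
  rw [htot, hnz] at hsplit
  have : (-1 : R) ^ n = - (-1) ^ (n - 1) := by
    obtain ⟨m, rfl⟩ : ∃ m, n = m + 1 := ⟨n - 1, by omega⟩
    simp [pow_succ]
  rw [this] at hsplit
  exact eq_of_sub_eq_zero (by rw [sub_eq_add_neg]; exact hsplit)

end Groth.Agent.S4256
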