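import Groth.Statements.S4330
import Mathlib
import Groth.Agent.Lib.Helper10.LanExactMod
import Groth.Agent.S12541

set_option autoImplicit false
universe u
open CategoryTheory CategoryTheory.Limits AlgebraicGeometry Opposite
attribute [local instance] HasDerivedCategory.standard
open EtSix

namespace Groth.Agent.S4330

section helpers

open CategoryTheory CategoryTheory.Limits

universe w v' u'

variable {A B C : Type u'} [Category.{v'} A] [Category.{v'} B] [Category.{v'} C]
  [Abelian A] [Abelian B] [Abelian C]

lemma isIso_plusNatTrans {F G : A ⥤ B} [F.Additive] [G.Additive] (θ : F ≅ G) :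
    IsIso (EtSix.plusNatTrans θ.hom) := by
  let Φ := ((HomotopyCategory.plus B).fullyFaithfulι.whiskeringRight (HomotopyCategory.Plus A))
  let Ψ := (Functor.whiskeringRight (HomotopyCategory.Plus A) _ _).obj (HomotopyCategory.plus B).ι
  have h : Ψ.map (EtSix.plusNatTrans θ.hom) =
      Functor.whiskerLeft (HomotopyCategory.Plus.ι A)
        (NatTrans.mapHomotopyCategory θ.hom (ComplexShape.up ℤ)) :=
    Φ.map_preimage _
  have h1 : IsIso (NatTrans.mapHomotopyCategory θ.hom (ComplexShape.up ℤ)) := by
    refine ⟨NatTrans.mapHomotopyCategory θ.inv (ComplexShape.up ℤ), ?_, ?_⟩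
    · rw [← NatTrans.mapHomotopyCategory_comp, Iso.hom_inv_id, NatTrans.mapHomotopyCategory_id]
    · rw [← NatTrans.mapHomotopyCategory_comp, Iso.inv_hom_id, NatTrans.mapHomotopyCategory_id]
  have h2 : IsIso (Ψ.map (EtSix.plusNatTrans θ.hom)) := by
    rw [h]
    exact (Functor.isoWhiskerLeft (HomotopyCategory.Plus.ι A)
      (asIso (NatTrans.mapHomotopyCategory θ.hom (ComplexShape.up ℤ)))).isIso_hom
  exact Φ.isIso_of_isIso_map _

variable [HasDerivedCategory.{w} A] [HasDerivedCategory.{w} B] [HasDerivedCategory.{w} C]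
  [EnoughInjectives A] [EnoughInjectives B]

theorem isIso_rPlusDesc₂ (F : A ⥤ B) [F.Additive] [PreservesFiniteLimits F]
    (G : B ⥤ C) [G.Additive] [PreservesFiniteLimits G] (H : A ⥤ C) [H.Additive]
    (θ : H ≅ F ⋙ G)
    (hFG : ∀ I : A, Injective I → IsIso (G.rightDerivedFunctorPlusUnit.app
      ((HomotopyCategory.Plus.singleFunctor B 0).obj (F.obj I)))) :
    IsIso (EtSix.rPlusDesc₂ θ.hom) := by
  have h0 := Groth.Agent.S12541.result F G hFG
  unfold EtSix.rPlusDesc₂
  rw [← Functor.isRightDerivedFunctor_iff_isIso_rightDerivedDesc]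
  rw [Functor.isRightDerivedFunctor_iff_isLeftKanExtension] at h0 ⊢
  have := isIso_plusNatTrans θ
  refine (Functor.isLeftKanExtension_iff_of_iso₂ (EtSix.rPlusUnit₂ θ.hom) _
    (Functor.isoWhiskerRight (asIso (EtSix.plusNatTrans θ.hom)) DerivedCategory.Plus.Qh)
    (Iso.refl _) ?_).2 h0
  unfold EtSix.rPlusUnit₂
  simp only [Iso.refl_hom, Functor.isoWhiskerRight_hom, asIso_hom, Functor.whiskerRight_comp,
    Category.assoc]
  erw [Functor.whiskerLeft_id, Category.comp_id]

omit [HasDerivedCategory.{w} A] [EnoughInjectives A] in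
lemma isIso_unit_of_injective (G : B ⥤ C) [G.Additive] [PreservesFiniteLimits G] (J : B)
    [Injective J] :
    IsIso (G.rightDerivedFunctorPlusUnit.app ((HomotopyCategory.Plus.singleFunctor B 0).obj J)) := by
  rw [Groth.Agent.S6624.result G J]
  refine ⟨inferInstance, ?_⟩
  intro i hi
  obtain ⟨k, rfl⟩ : ∃ k, i = k + 1 := ⟨i - 1, by omega⟩
  exact Functor.isZero_rightDerived_obj_injective_succ G k J

end helpers

/-- Composition of derived direct images: bounded-below version for sheaves of Λ-modules on small etale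
sites: let f : X -> Y and g : Y -> Z be morphisms of schemes and Λ a commutative ring. Then the
canonical morphism R⁺(g ∘ f)_* -> R⁺g_* ∘ R⁺f_* of functors D⁺(X_et, Λ) -> D⁺(Z_et, Λ)
(bounded-below derived functors computed with injective resolutions; the morphism is induced by (g ∘
f)_* ≅ g_* ∘ f_* through the universal property of R⁺(g ∘ f)_*) is an isomorphism. -/
theorem result (Λ : Type (u + 1)) [CommRing Λ] {X Y Z : Scheme.{u}} (f : X ⟶ Y) (g : Y ⟶ Z) :
    IsIso (EtSix.compMapMod Λ f g) := by
  have hpull : PreservesFiniteLimits (EtModW.pull Λ f) :=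
    Groth.Agent.Helper10.LanExactMod.preservesFiniteLimits_sheafPullback_mod Λ (EtCoh.bc f) _ _
  have hinjF : (EtModW.push Λ f).PreservesInjectiveObjects :=
    Functor.preservesInjectiveObjects_of_adjunction_of_preservesMonomorphisms
      (EtSix.pullPushModAdj Λ f)
  have hF : PreservesFiniteLimits (EtModW.push Λ f) := by
    have : PreservesLimitsOfSize.{0, 0} (EtModW.push Λ f) :=
      (EtSix.pullPushModAdj Λ f).rightAdjoint_preservesLimits
    exact PreservesLimitsOfSize.preservesFiniteLimits _
  have hG : PreservesFiniteLimits (EtModW.push Λ g) := by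
    have : PreservesLimitsOfSize.{0, 0} (EtModW.push Λ g) :=
      (EtSix.pullPushModAdj Λ g).rightAdjoint_preservesLimits
    exact PreservesLimitsOfSize.preservesFiniteLimits _
  exact isIso_rPlusDesc₂ (EtModW.push Λ f) (EtModW.push Λ g) (EtModW.push Λ (f ≫ g))
    (EtSix.pushModComp Λ g f).symm (fun I hI => by
      have : Injective ((EtModW.push Λ f).obj I) := (EtModW.push Λ f).injective_obj I
      exact isIso_unit_of_injective (EtModW.push Λ g) _)

end Groth.Agent.S4330
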