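import Groth.Statements.S4336
import Mathlib

set_option autoImplicit false
universe u
open LinTop

namespace Groth.Agent.S4336

/-- Let A be an admissible ring and J an ideal of definition of A. An element of A is invertible if and
only if its image in A/J is invertible. -/
theorem result
    (A : Type u) [CommRing A] [UniformSpace A] [IsUniformAddGroup A] [IsTopologicalRing A]
    (hA : LinTop.IsAdmissible A) (J : Ideal A) (hJ : LinTop.IsIdealOfDefinition A J) (f : A) :
    IsUnit f ↔ IsUnit (Ideal.Quotient.mk J f) := by
  obtain ⟨⟨hlin, -⟩, hT2, hcomp⟩ := hA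
  constructor
  · intro h
    exact h.map _
  · intro h
    obtain ⟨gbar, hg⟩ := h.exists_right_inv
    obtain ⟨g, rfl⟩ := Ideal.Quotient.mk_surjective gbar
    rw [← map_mul, ← map_one (Ideal.Quotient.mk J), Ideal.Quotient.eq] at hg
    -- x = 1 - f * g ∈ J
    set x : A := 1 - f * g with hx
    have hxJ : x ∈ J := by
      have : x = -(f * g - 1) := by rw [hx]; ring
      rw [this]
      exact J.neg_mem hg
    have : NonarchimedeanAddGroup A := by
      constructor
      intro U hU
      obtain ⟨I, ⟨hIo, hIU⟩⟩ :=
        (IsLinearTopology.hasBasis_open_ideal (R := A)).mem_iff.mp hU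
      exact ⟨⟨I.toAddSubgroup, hIo⟩, hIU⟩
    have htend : Filter.Tendsto (fun n : ℕ => x ^ n) Filter.cofinite (nhds 0) := by
      rw [Nat.cofinite_eq_atTop]
      rw [Filter.tendsto_def]
      intro U hU
      obtain ⟨n, -, hn⟩ := hJ.2 U hU
      rw [Filter.mem_atTop_sets]
      refine ⟨n, fun m hm => ?_⟩
      apply hn
      exact Ideal.pow_le_pow_right hm (Ideal.pow_mem_pow hxJ m)
    have hsum : Summable (fun n : ℕ => x ^ n) :=
      NonarchimedeanAddGroup.summable_of_tendsto_cofinite_zero htend
    have h1 := hsum.one_sub_mul_tsum_pow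
    have h2 : (1 : A) - x = f * g := by rw [hx]; ring
    rw [h2, mul_assoc] at h1
    exact IsUnit.of_mul_eq_one _ h1

end Groth.Agent.S4336
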