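import Groth.Statements.S4337
import Mathlib
import Groth.Agent.S4336

set_option autoImplicit false
universe u
open LinTop

namespace Groth.Agent.S4337

/-- Let A be an admissible ring, J an ideal of definition, and u : M -> N a homomorphism of A-modules
with N of finite type. Then u is surjective if and only if u tensored with A/J is surjective. -/
theorem result
    (A : Type u) [CommRing A] [UniformSpace A] [IsUniformAddGroup A] [IsTopologicalRing A]
    (hA : LinTop.IsAdmissible A) (J : Ideal A) (hJ : LinTop.IsIdealOfDefinition A J)
    (M N : Type u) [AddCommGroup M] [Module A M] [AddCommGroup N] [Module A N] [Module.Finite A N]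
    (u : M →ₗ[A] N) :
    Function.Surjective u ↔ Function.Surjective (u.rTensor (A ⧸ J)) := by
  constructor
  · intro h
    exact LinearMap.rTensor_surjective _ h
  · intro h
    have hjac : J ≤ (⊥ : Ideal A).jacobson := by
      intro x hx
      rw [Ideal.mem_jacobson_bot]
      intro y
      rw [Groth.Agent.S4336.result A hA J hJ]
      have : Ideal.Quotient.mk J (x * y + 1) = 1 := by
        rw [map_add, map_one, map_mul, Ideal.Quotient.eq_zero_iff_mem.mpr hx, zero_mul, zero_add]
      rw [this]
      exact isUnit_one
    apply LinearMap.surjective_of_surjective_comp_mkQ u J hjac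
    rw [← LinearMap.range_eq_top, eq_top_iff]
    intro y hy
    clear hy
    obtain ⟨t', rfl⟩ := (TensorProduct.tensorQuotEquivQuotSMul N J).surjective y
    obtain ⟨t, rfl⟩ := h t'
    induction t using TensorProduct.induction_on with
    | zero => simp
    | add a b ha hb =>
      rw [map_add, map_add]
      exact Submodule.add_mem _ ha hb
    | tmul m a =>
      obtain ⟨a, rfl⟩ := Ideal.Quotient.mk_surjective a
      rw [LinearMap.rTensor_tmul, TensorProduct.tensorQuotEquivQuotSMul_tmul_mk]
      exact ⟨a • m, by simp⟩

end Groth.Agent.S4337
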