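import Groth.Statements.S4339
import Groth.Agent.Lib.Helper5.FiltComplete
import Groth.Agent.Lib.Helper1.AdicNoeth

set_option autoImplicit false
set_option linter.style.haveILetI false
universe u
open AdicRing

namespace Groth.Agent.S4339

/-- Nakayama for a nilpotent ideal: `K ≤ N ⊔ K²` and `K^m = 0` imply `K ≤ N`. -/
theorem le_of_le_sup_sq {R : Type*} [CommRing R] (K N : Ideal R) (m : ℕ) (hK : K ^ m = ⊥)
    (h : K ≤ N ⊔ K ^ 2) : K ≤ N := by
  have key : ∀ j : ℕ, K ≤ N ⊔ K ^ (j + 2) := by
    intro j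
    induction j with
    | zero => simpa using h
    | succ j ih =>
      refine ih.trans (sup_le le_sup_left ?_)
      calc K ^ (j + 2) = K ^ (j + 1) * K := by rw [pow_succ]
        _ ≤ K ^ (j + 1) * (N ⊔ K ^ 2) := Ideal.mul_mono_right h
        _ = K ^ (j + 1) * N ⊔ K ^ (j + 1) * K ^ 2 := Ideal.mul_sup _ _ _
        _ ≤ N ⊔ K ^ (j + 1 + 2) := by
          refine sup_le_sup Ideal.mul_le_right ?_
          rw [← pow_add]
  have := key m
  rw [pow_add, hK, Ideal.bot_mul, sup_bot_eq] at this
  exact this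

/-- Let (B_n) be an inverse system of rings with surjective transition maps B_{n+1} → B_n whose kernels
are the (n+1)-st powers of the kernels of the maps B_{n+1} → B_0, the kernel of B_1 → B_0 being
finitely generated, and let A be its inverse limit. Then A is Noetherian if and only if B_0 is
Noetherian. -/
theorem result
    (B : ℕ → Type u) [∀ n, CommRing (B n)]
    (u : ∀ n, B (n + 1) →+* B n) (hu : ∀ n, Function.Surjective (u n))
    (v : ∀ n, B n →+* B 0) (hv0 : v 0 = RingHom.id (B 0)) (hv : ∀ n, (v n).comp (u n) = v (n + 1))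
    (hker : ∀ n, RingHom.ker (u n) = RingHom.ker (v (n + 1)) ^ (n + 1))
    (hfg : (RingHom.ker (v 1)).FG)
    (A : Type u) [CommRing A] (p : ∀ n, A →+* B n)
    (hp : ∀ n, (u n).comp (p (n + 1)) = p n)
    (hinj : ∀ x : A, (∀ n, p n x = 0) → x = 0)
    (hlift : ∀ y : (∀ n, B n), (∀ n, u n (y (n + 1)) = y n) → ∃ x : A, ∀ n, p n x = y n) :
    IsNoetherianRing A ↔ IsNoetherianRing (B 0) := by
  classical
  have hsurj : ∀ n, Function.Surjective (p n) := by
    intro n b
    obtain ⟨y, hy, hb⟩ :=
      Groth.Agent.Helper5.FiltComplete.exists_compatible n B (fun k => u k) hu b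
    obtain ⟨x, hx⟩ := hlift y hy
    exact ⟨x, (hx n).trans hb⟩
  have hp' : ∀ n (x : A), u n (p (n + 1) x) = p n x := fun n x => RingHom.congr_fun (hp n) x
  have hv' : ∀ n (b : B (n + 1)), v n (u n b) = v (n + 1) b := fun n b => RingHom.congr_fun (hv n) b
  have hvp : ∀ n (x : A), v n (p n x) = p 0 x := by
    intro n
    induction n with
    | zero => intro x; rw [hv0]; rfl
    | succ n ih => intro x; rw [← hv' n, hp' n, ih]
  constructor
  · intro hA
    exact isNoetherianRing_of_surjective A (B 0) (p 0) (hsurj 0)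
  intro hB0
  -- the kernels `K n`
  have hKmap : ∀ n, (RingHom.ker (v (n + 1))).map (u n) = RingHom.ker (v n) := by
    intro n
    apply le_antisymm
    · rw [Ideal.map_le_iff_le_comap]
      intro b hb
      rw [Ideal.mem_comap, RingHom.mem_ker, hv' n]
      exact hb
    · intro b hb
      obtain ⟨b', rfl⟩ := hu n b
      refine Ideal.mem_map_of_mem _ ?_
      rw [RingHom.mem_ker, ← hv' n]
      exact hb
  have hKnil : ∀ n, RingHom.ker (v n) ^ (n + 1) = ⊥ := by
    intro n
    rw [← hKmap n, ← Ideal.map_pow, ← hker n, eq_bot_iff, Ideal.map_le_iff_le_comap]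
    intro b hb
    exact hb
  have hJmap : ∀ n, (RingHom.ker (p 0)).map (p n) = RingHom.ker (v n) := by
    intro n
    apply le_antisymm
    · rw [Ideal.map_le_iff_le_comap]
      intro a ha
      rw [Ideal.mem_comap, RingHom.mem_ker, hvp n]
      exact ha
    · intro b hb
      obtain ⟨a, rfl⟩ := hsurj n b
      refine Ideal.mem_map_of_mem _ ?_
      rw [RingHom.mem_ker, ← hvp n]
      exact hb
  -- generators
  obtain ⟨T, hT⟩ := hfg
  have hTmem : ∀ t ∈ T, ∃ a ∈ RingHom.ker (p 0), p 1 a = t := by
    intro t ht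
    have : t ∈ (RingHom.ker (p 0)).map (p 1) := by
      rw [hJmap 1, ← hT]
      exact Ideal.subset_span ht
    exact (Ideal.mem_map_iff_of_surjective _ (hsurj 1)).mp this
  choose! a haJ hat using hTmem
  obtain ⟨J', hJ'def⟩ : ∃ J' : Ideal A, J' = Ideal.span ((T.image a : Finset A) : Set A) := ⟨_, rfl⟩
  have hJ'fg : J'.FG := ⟨T.image a, hJ'def.symm⟩
  have hJ'le : J' ≤ RingHom.ker (p 0) := by
    rw [hJ'def, Ideal.span_le]
    intro x hx
    obtain ⟨t, ht, rfl⟩ := Finset.mem_image.mp (Finset.mem_coe.mp hx)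
    exact haJ t ht
  have hJ'map_le : ∀ n, J'.map (p n) ≤ RingHom.ker (v n) := fun n =>
    (Ideal.map_mono hJ'le).trans (hJmap n).le
  have hJ'map : ∀ n, J'.map (p (n + 1)) = RingHom.ker (v (n + 1)) := by
    intro n
    induction n with
    | zero =>
      refine le_antisymm (hJ'map_le 1) ?_
      rw [show (0 + 1 : ℕ) = 1 from rfl, ← hT, Ideal.span_le]
      intro t ht
      rw [← hat t ht]
      refine Ideal.mem_map_of_mem _ ?_
      rw [hJ'def]
      exact Ideal.subset_span (Finset.mem_coe.mpr (Finset.mem_image_of_mem a ht))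
    | succ n ih =>
      refine le_antisymm (hJ'map_le _) ?_
      apply le_of_le_sup_sq _ _ (n + 1 + 1 + 1) (hKnil (n + 1 + 1))
      intro b hb
      have hub : u (n + 1) b ∈ J'.map (p (n + 1)) := by
        rw [ih, RingHom.mem_ker, hv' (n + 1)]
        exact hb
      obtain ⟨a', ha', ha'b⟩ := (Ideal.mem_map_iff_of_surjective _ (hsurj (n + 1))).mp hub
      have hker' : b - p (n + 1 + 1) a' ∈ RingHom.ker (u (n + 1)) := by
        rw [RingHom.mem_ker, map_sub, hp' (n + 1), ha'b, sub_self]
      rw [hker (n + 1)] at hker'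
      refine Submodule.mem_sup.mpr ⟨p (n + 1 + 1) a', Ideal.mem_map_of_mem _ ha',
        b - p (n + 1 + 1) a', Ideal.pow_le_pow_right (by omega) hker', by ring⟩
  -- the filtration
  let F : ℕ → Submodule A A := fun n => Nat.casesOn n ⊤ (fun k => RingHom.ker (p k))
  have hF0 : F 0 = ⊤ := rfl
  have hFs : ∀ k, F (k + 1) = RingHom.ker (p k) := fun k => rfl
  have hF : Antitone F := by
    apply antitone_nat_of_succ_le
    intro n
    cases n with
    | zero => rw [hF0]; exact le_top
    | succ k =>
      rw [hFs, hFs]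
      intro x hx
      rw [RingHom.mem_ker] at hx ⊢
      rw [← hp' k x, hx, map_zero]
  have hsep : ∀ x : A, (∀ n, x ∈ F n) → x = 0 := by
    intro x hx
    apply hinj
    intro n
    have := hx (n + 1)
    rwa [hFs, RingHom.mem_ker] at this
  have hcompl : ∀ w : ℕ → A, (∀ j, w (j + 1) - w j ∈ F j) → ∃ W : A, ∀ N, W - w N ∈ F N := by
    intro w hw
    have hconst : ∀ n N, n + 1 ≤ N → p n (w N) = p n (w (n + 1)) := by
      intro n N hN
      induction N, hN using Nat.le_induction with
      | base => rfl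
      | succ N hN ih =>
        rw [← ih, ← sub_eq_zero, ← map_sub]
        have := hF hN (hw N)
        rwa [hFs, RingHom.mem_ker] at this
    obtain ⟨W, hW⟩ := hlift (fun n => p n (w (n + 1))) (by
      intro n
      rw [hp' n]
      exact hconst n (n + 1 + 1) (by omega))
    refine ⟨W, fun N => ?_⟩
    cases N with
    | zero => rw [hF0]; exact Submodule.mem_top
    | succ k =>
      rw [hFs, RingHom.mem_ker, map_sub, hW k, sub_self]
  have hsmul : ∀ n, (J' ^ n • ⊤ : Submodule A A) = J' ^ n := fun n => by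
    rw [smul_eq_mul, Ideal.mul_top]
  have h1 : ∀ n, (J' ^ n • ⊤ : Submodule A A) ≤ F n := by
    intro n
    rw [hsmul]
    cases n with
    | zero => rw [hF0]; exact le_top
    | succ k =>
      rw [hFs]
      intro z hz
      have h3 : p k z ∈ (J'.map (p k)) ^ (k + 1) := by
        rw [← Ideal.map_pow]
        exact Ideal.mem_map_of_mem _ hz
      have h4 := Ideal.pow_right_mono (hJ'map_le k) (k + 1) h3
      rw [hKnil k] at h4
      exact h4
  have h2 : ∀ n, F n ≤ (J' ^ n • ⊤ : Submodule A A) ⊔ F (n + 1) := by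
    intro n
    rw [hsmul]
    cases n with
    | zero =>
      rw [pow_zero, Ideal.one_eq_top]
      exact le_trans le_top le_sup_left
    | succ k =>
      rw [hFs, hFs]
      intro x hx
      rw [RingHom.mem_ker] at hx
      have hx1 : p (k + 1) x ∈ RingHom.ker (u k) := by
        rw [RingHom.mem_ker, hp' k x, hx]
      rw [hker k, ← hJ'map k, ← Ideal.map_pow] at hx1
      obtain ⟨l, hl, hlx⟩ := (Ideal.mem_map_iff_of_surjective _ (hsurj (k + 1))).mp hx1
      refine Submodule.mem_sup.mpr ⟨l, hl, x - l, ?_, by ring⟩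
      rw [RingHom.mem_ker, map_sub, hlx, sub_self]
  have hcomplete : IsAdicComplete J' A :=
    Groth.Agent.Helper5.FiltComplete.isAdicComplete_of_filtration J' hJ'fg F hF hsep hcompl h1
  have hFeq :=
    Groth.Agent.Helper5.FiltComplete.filtration_eq_pow_smul J' hJ'fg F hF hsep hcompl h1 h2
  have hJ'eq : J' = RingHom.ker (p 0) := by
    have := hFeq (0 + 1)
    rw [hFs 0, hsmul, zero_add, pow_one] at this
    exact this.symm
  haveI : IsNoetherianRing (A ⧸ J') := by
    rw [hJ'eq]
    exact isNoetherianRing_of_ringEquiv (B 0)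
      (RingHom.quotientKerEquivOfSurjective (hsurj 0)).symm
  exact Groth.Agent.Helper1.isNoetherianRing_of_isAdicComplete_of_fg J' hJ'fg

end Groth.Agent.S4339
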