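import Groth.Statements.S4340
import Groth.Agent.Lib.Helper13.QCohStalk

set_option autoImplicit false
universe u
open QCohSup

namespace Groth.Agent.S4340

open AlgebraicGeometry CategoryTheory Opposite TopologicalSpace Groth.Agent.Helper13.QCoh

/-- local version: around every point there is an affine open on which a power of `f` kills `s` at the
level of germs for all points of that open. -/
lemma local_kill (X : Scheme.{u}) (f : Γ(X, ⊤)) (F : X.Modules) [F.IsQuasicoherent]
    (s : Γ(F, ⊤))
    (hs : F.presheaf.map (homOfLE (le_top : X.basicOpen f ≤ ⊤)).op s = 0) (x : X) :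
    ∃ (U : X.Opens) (n : ℕ), x ∈ U ∧ ∀ y : X, y ∈ U →
      (X.presheaf.germ ⊤ y trivial f) ^ n • F.presheaf.germ ⊤ y trivial s = 0 := by
  obtain ⟨U, hU, hxU, -⟩ := X.isBasis_affineOpens.exists_subset_of_mem_open
    (Set.mem_univ x) isOpen_univ
  have hU' : IsAffineOpen (⟨U, (X.isBasis_affineOpens.isOpen hU)⟩ : X.Opens) := by
    obtain ⟨V, hV, rfl⟩ := hU
    exact hV
  set U' : X.Opens := ⟨U, (X.isBasis_affineOpens.isOpen hU)⟩
  let fU : Γ(X, U') := X.presheaf.map (homOfLE (le_top : U' ≤ ⊤)).op f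
  let sU : Γ(F, U') := F.presheaf.map (homOfLE (le_top : U' ≤ ⊤)).op s
  have hle : X.basicOpen fU ≤ X.basicOpen f := by
    rw [Scheme.basicOpen_res]; exact inf_le_right
  have h0 : F.presheaf.map (homOfLE (X.basicOpen_le fU)).op sU = 0 := by
    have h1 : F.presheaf.map (homOfLE (X.basicOpen_le fU)).op sU =
        F.presheaf.map (homOfLE hle).op
          (F.presheaf.map (homOfLE (le_top : X.basicOpen f ≤ ⊤)).op s) := by
      simp only [sU, ← ConcreteCategory.comp_apply, ← Functor.map_comp]
      rfl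
    rw [h1, hs, map_zero]
  obtain ⟨n, hn⟩ := exists_pow_smul_eq_zero F hU' fU sU h0
  refine ⟨U', n, hxU, fun y hy => ?_⟩
  have h2 := congrArg (F.presheaf.germ U' y hy) hn
  rw [germ_smul, map_zero, map_pow] at h2
  have e1 : X.presheaf.germ U' y hy fU = X.presheaf.germ ⊤ y trivial f :=
    TopCat.Presheaf.germ_res_apply X.presheaf (homOfLE (le_top : U' ≤ ⊤)) y hy f
  have e2 : F.presheaf.germ U' y hy sU = F.presheaf.germ ⊤ y trivial s :=
    TopCat.Presheaf.germ_res_apply F.presheaf (homOfLE (le_top : U' ≤ ⊤)) y hy s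
  rw [e1, e2] at h2
  exact h2

open AlgebraicGeometry in
open CategoryTheory in
open Opposite in
/-- Case of the trivial invertible sheaf. Let X be a quasi-compact scheme, f a global section of O_X, F
a quasi-coherent O_X-module and s a global section of F that restricts to zero on X_f. Then f^n s =
0 for some n > 0. (The published statement assumes X with Noetherian underlying space, or separated
and quasi-compact; for this part only quasi-compactness is used.) -/
theorem result
    (X : Scheme.{u}) [CompactSpace X] (f : Γ(X, ⊤)) (F : X.Modules) [Coh.IsQCoh F]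
    (s : F.val.obj (op ⊤))
    (hs : (F.val.map (homOfLE (le_top : X.basicOpen f ≤ ⊤)).op).hom s = 0) :
    ∃ n : ℕ, 0 < n ∧ (show X.ringCatSheaf.obj.obj (op ⊤) from f) ^ n • s = 0 := by
  haveI : F.IsQuasicoherent := ‹Coh.IsQCoh F›
  have hs' : F.presheaf.map (homOfLE (le_top : X.basicOpen f ≤ ⊤)).op (show Γ(F, ⊤) from s) = 0 := hs
  choose U n hxU hkill using local_kill X f F (show Γ(F, ⊤) from s) hs'
  obtain ⟨T, hT⟩ := isCompact_univ.elim_finite_subcover (fun x : X => (U x : Set X))
    (fun x => (U x).isOpen) (fun x _ => Set.mem_iUnion.2 ⟨x, hxU x⟩)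
  refine ⟨1 + ∑ x ∈ T, n x, by omega, ?_⟩
  change (f ^ (1 + ∑ x ∈ T, n x)) • (show Γ(F, ⊤) from s) = 0
  apply TopCat.Presheaf.section_ext ⟨F.presheaf, F.isSheaf⟩ ⊤
  intro y hy
  obtain ⟨x, hxT, hyx⟩ : ∃ x ∈ T, y ∈ U x := by
    have := hT (Set.mem_univ y)
    simpa using this
  have hk := hkill x y hyx
  have hle : n x ≤ 1 + ∑ x ∈ T, n x :=
    (Finset.single_le_sum (f := n) (fun _ _ => Nat.zero_le _) hxT).trans (Nat.le_add_left _ _)
  obtain ⟨k, hk'⟩ := Nat.exists_eq_add_of_le hle
  change F.presheaf.germ ⊤ y hy _ = F.presheaf.germ ⊤ y hy 0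
  rw [germ_smul, map_zero, map_pow, hk', pow_add, mul_comm, mul_smul, hk, smul_zero]

end Groth.Agent.S4340
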