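import Groth.Statements.S4346
import Mathlib

set_option autoImplicit false
universe u
open SchLoc

namespace Groth.Agent.S4346

open CategoryTheory

open AlgebraicGeometry in
/-- On an integral separated scheme distinct points have distinct local rings inside the function field. -/
theorem result (X : Scheme.{u}) [IsIntegral X] [X.IsSeparated] :
    Function.Injective (fun x : X ↦ (algebraMap (X.presheaf.stalk x) X.functionField).range) := by
  intro x y hxy
  simp only at hxy
  let φx : X.presheaf.stalk x →+* X.functionField := algebraMap _ _
  let φy : X.presheaf.stalk y →+* X.functionField := algebraMap _ _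
  have hφx : Function.Injective φx := IsFractionRing.injective _ _
  have hφy : Function.Injective φy := IsFractionRing.injective _ _
  have hxy' : φy.range = φx.range := hxy.symm
  let ex : X.presheaf.stalk x ≃+* φx.range := RingEquiv.ofBijective φx.rangeRestrict
    ⟨fun a b hab => hφx (congrArg Subtype.val hab), φx.rangeRestrict_surjective⟩
  let ey : X.presheaf.stalk y ≃+* φy.range := RingEquiv.ofBijective φy.rangeRestrict
    ⟨fun a b hab => hφy (congrArg Subtype.val hab), φy.rangeRestrict_surjective⟩
  let e : X.presheaf.stalk y ≃+* X.presheaf.stalk x :=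
    (ey.trans (RingEquiv.subringCongr hxy')).trans ex.symm
  have he : ∀ a, φx (e a) = φy a := by
    intro a
    have h1 : ex (e a) = RingEquiv.subringCongr hxy' (ey a) := by
      simp [e]
    have h2 : ((ex (e a) : φx.range) : X.functionField) = φx (e a) := rfl
    rw [← h2, h1]
    rfl
  have hspx : genericPoint X ⤳ x := (genericPoint_spec X).specializes trivial
  have hspy : genericPoint X ⤳ y := (genericPoint_spec X).specializes trivial
  let ψ : X.presheaf.stalk y ⟶ X.presheaf.stalk x := CommRingCat.ofHom e.toRingHom
  have hcomp : ψ ≫ X.presheaf.stalkSpecializes hspx = X.presheaf.stalkSpecializes hspy := by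
    ext a
    exact he a
  have hdom : IsDominant (Spec.map (X.presheaf.stalkSpecializes hspx)) := by
    constructor
    change DenseRange (PrimeSpectrum.comap φx)
    rw [PrimeSpectrum.denseRange_comap_iff_ker_le_nilRadical]
    rw [(RingHom.injective_iff_ker_eq_bot φx).mp hφx]
    exact bot_le
  have hf : X.fromSpecStalk x = Spec.map ψ ≫ X.fromSpecStalk y := by
    refine ext_of_isDominant (Spec.map (X.presheaf.stalkSpecializes hspx)) ?_
    rw [← Spec.map_comp_assoc, hcomp,
      Scheme.SpecMap_stalkSpecializes_fromSpecStalk, Scheme.SpecMap_stalkSpecializes_fromSpecStalk]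
  have h1 : X.fromSpecStalk x (IsLocalRing.closedPoint (X.presheaf.stalk x)) = x :=
    Scheme.fromSpecStalk_closedPoint
  have hloc : IsLocalHom e.toRingHom := ⟨fun a ha => (isUnit_map_iff e a).mp ha⟩
  have h3 : Spec.map ψ (IsLocalRing.closedPoint (X.presheaf.stalk x))
      = IsLocalRing.closedPoint (X.presheaf.stalk y) := by
    change PrimeSpectrum.comap e.toRingHom _ = _
    exact IsLocalRing.comap_closedPoint e.toRingHom
  have h2 : (Spec.map ψ ≫ X.fromSpecStalk y) (IsLocalRing.closedPoint (X.presheaf.stalk x)) = y := by
    rw [Scheme.Hom.comp_apply, h3]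
    exact Scheme.fromSpecStalk_closedPoint
  rw [← h1, ← h2, hf]

end Groth.Agent.S4346
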