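import Groth.Statements.S4349
import Mathlib

set_option autoImplicit false
universe u
open RatFun

namespace Groth.Agent.S4349

open AlgebraicGeometry CategoryTheory TopologicalSpace in
instance isCofiltered_denseOpens (X : Scheme.{u}) :
    IsCofiltered ((IsDenseOpen X).FullSubcategory) where
  cone_objs U V := by
    refine ⟨⟨U.1 ⊓ V.1, ?_⟩, ?_, ?_, trivial⟩
    · exact Dense.inter_of_isOpen_left U.2 V.2 U.1.2
    · exact ObjectProperty.homMk (homOfLE inf_le_left)
    · exact ObjectProperty.homMk (homOfLE inf_le_right)
  cone_maps U V f g := ⟨U, 𝟙 U, by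
    have : f = g := by
      apply ObjectProperty.hom_ext
      exact Subsingleton.elim _ _
    rw [this]⟩
  nonempty := ⟨⟨⊤, by simp [IsDenseOpen]⟩⟩

open AlgebraicGeometry in
/-- Second assertion (in the form: sections over a dense open inject into the ring of rational
functions). Let X be a reduced scheme and V a dense open subset of X. The canonical map from the
sections of O_X over V to the ring R(X) of rational functions on X is injective. (The published
statement also assumes X locally integral or locally Noetherian; that hypothesis serves the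
quasi-coherence of the sheaf of rational functions and is not needed here.) -/
theorem result (X : Scheme.{u}) [IsReduced X]
    (V : X.Opens) (hV : Dense (V : Set X)) :
    Function.Injective (RatFun.toRing X V hV) := by
  rw [injective_iff_map_eq_zero]
  intro s hs
  have h0 : (RatFun.toRing X V hV) s = (RatFun.toRing X V hV) 0 := by rw [hs, map_zero]
  unfold RatFun.toRing at h0
  obtain ⟨k, f, g, hfg⟩ := CategoryTheory.Limits.Concrete.colimit_exists_of_rep_eq
    (sectionsOnDense X) _ _ h0
  -- k is a dense open W ≤ V, with s restricted to W equal to 0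
  have hW : Dense (k.unop.1 : Set X) := k.unop.2
  have hle : k.unop.1 ≤ V := CategoryTheory.leOfHom f.unop.hom
  have hres : (X.presheaf.map (CategoryTheory.homOfLE hle).op) s = 0 := by
    have h1 : (sectionsOnDense X).map f s = (X.presheaf.map (CategoryTheory.homOfLE hle).op) s := rfl
    have h2 : (sectionsOnDense X).map g (0 : Γ(X, V)) = 0 := map_zero _
    rw [← h1, hfg]
    exact h2
  apply AlgebraicGeometry.eq_zero_of_basicOpen_eq_bot
  by_contra hne
  obtain ⟨x, hx⟩ : ∃ x, x ∈ X.basicOpen s := by
    by_contra hcon
    push Not at hcon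
    apply hne
    ext x
    simp [hcon x]
  obtain ⟨y, hy1, hy2⟩ := hW.inter_open_nonempty _ (X.basicOpen s).2 ⟨x, hx⟩
  have h3 : X.basicOpen ((X.presheaf.map (CategoryTheory.homOfLE hle).op) s) = k.unop.1 ⊓ X.basicOpen s :=
    AlgebraicGeometry.Scheme.basicOpen_res _ _ _
  rw [hres] at h3
  have h4 : y ∈ (k.unop.1 ⊓ X.basicOpen s : X.Opens) := ⟨hy2, hy1⟩
  rw [← h3] at h4
  simp at h4

end Groth.Agent.S4349
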