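import Groth.Statements.S4352
import Groth.Agent.Lib.Helper13.QCAlgSub5
import Groth.Agent.S4342

set_option autoImplicit false
universe u
open QCohSup

namespace Groth.Agent.S4352

open AlgebraicGeometry in
open CategoryTheory in
open Opposite in
/-- Case b), in the sectionwise form its proof gives. Let X be a scheme that is quasi-compact and
separated and B a quasi-coherent O_X-algebra. Every section of B over an affine open U lies in a
quasi-coherent sub-O_X-algebra of B whose sections over every affine open form an algebra of finite
type over the functions; hence B is the inductive limit of its quasi-coherent sub-O_X-algebras of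
finite type. -/
theorem result
    {X : Scheme.{u}} [CompactSpace X] [X.IsSeparated] (B : RelSpec.QCAlg X)
    (U : X.affineOpens) (b : B.presheaf.obj (op (U : X.Opens))) :
    ∃ (B' : RelSpec.QCAlg X) (φ : B' ⟶ B),
      (∀ V : X.Opens, Function.Injective (φ.hom.app (op V)).hom) ∧
      (∀ V : X.affineOpens, (B'.str.app (op (V : X.Opens))).hom.FiniteType) ∧
      b ∈ Set.range (φ.hom.app (op (U : X.Opens))).hom := by
  obtain ⟨G, i, h1, h2, h3, h4⟩ := Groth.Agent.Helper13.FTSub.exists_ft_sub_through_sections
    B.toModule PUnit.{u + 1} (fun _ => U.1) (fun _ => U.2.isCompact) (fun _ => b)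
  obtain ⟨g, hg⟩ := h4 PUnit.unit
  haveI : G.IsQuasicoherent := h2
  haveI : SheafOfModules.IsFiniteType (R := X.ringCatSheaf) G := h3
  obtain ⟨B', φ, hinj, hft, hmem⟩ := Groth.Agent.Helper13.QCAlgSub.main B G i
  refine ⟨B', φ, hinj, hft, ?_⟩
  have := hmem U.1 g
  rw [← hg]
  exact this

end Groth.Agent.S4352
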