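import Groth.Statements.S4361
import Groth.Agent.Lib.Helper7.LocNoeth

set_option autoImplicit false
universe u
open FinCond

namespace Groth.Agent.S4361

open AlgebraicGeometry in
open CategoryTheory in
/-- Let f : X -> Y and g : Y -> Z be morphisms whose composite is quasi-compact, and suppose the
underlying space of X is locally Noetherian (every point has an open neighbourhood which is a
Noetherian topological space). Then f is quasi-compact. (The published statement also covers the
case g separated, which is the standard cancellation property; this row states only the case of a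
locally Noetherian source.) -/
theorem result
    {X Y Z : Scheme.{u}} (f : X ⟶ Y) (g : Y ⟶ Z) [QuasiCompact (f ≫ g)]
    (hX : ∀ x : X, ∃ U : X.Opens, x ∈ U ∧ TopologicalSpace.NoetherianSpace U) :
    QuasiCompact f := by
  have hX' := Groth.Agent.Helper7.locallyNoetherian_opens hX
  constructor
  intro U hU hUc
  have hZ : ∀ z : Z, ∃ W : Z.Opens, z ∈ W ∧ IsCompact (W : Set Z) := fun z => by
    obtain ⟨W, hW, hzW, -⟩ := TopologicalSpace.Opens.isBasis_iff_nbhd.mp Z.isBasis_affineOpens
      (TopologicalSpace.Opens.mem_top z)
    exact ⟨W, hzW, IsAffineOpen.isCompact hW⟩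
  choose W hzW hWc using hZ
  obtain ⟨t, ht⟩ := (hUc.image g.continuous).elim_finite_subcover (fun z => (W z : Set Z))
    (fun z => (W z).2) (fun z _ => Set.mem_iUnion.mpr ⟨z, hzW z⟩)
  have hVc : IsCompact (⋃ z ∈ t, (W z : Set Z)) := t.finite_toSet.isCompact_biUnion (fun z _ => hWc z)
  have hVo : IsOpen (⋃ z ∈ t, (W z : Set Z)) := isOpen_biUnion (fun z _ => (W z).2)
  have hK : IsCompact ((f ≫ g) ⁻¹' (⋃ z ∈ t, (W z : Set Z))) :=
    QuasiCompact.isCompact_preimage _ hVo hVc
  refine Groth.Agent.Helper7.isCompact_of_subset_of_locallyNoetherian hX' hK ?_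
  intro x hx
  apply ht
  exact ⟨f x, hx, rfl⟩

end Groth.Agent.S4361
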