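import Groth.Statements.S4362
import Mathlib

set_option autoImplicit false
universe u
open FinCond

namespace Groth.Agent.S4362

open AlgebraicGeometry CategoryTheory

open AlgebraicGeometry in
open CategoryTheory in
/-- If X is a Noetherian scheme, every increasing sequence of quasi-coherent sheaves of ideals of the
structure sheaf is eventually constant; equivalently the ordered set of quasi-coherent ideal sheaves
of X is well-founded for the reverse order. (On a locally Noetherian scheme quasi-coherent and
coherent ideal sheaves coincide.) -/
theorem result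
    (X : Scheme.{u}) [IsNoetherian X] : WellFoundedGT X.IdealSheafData := by
  classical
  let 𝒰 := X.affineCover.finiteSubcover
  let U : 𝒰.I₀ → X.affineOpens := fun i => ⟨(𝒰.f i).opensRange, isAffineOpen_opensRange _⟩
  have hU : ⨆ i, (U i).1 = ⊤ := 𝒰.iSup_opensRange
  let φ : X.IdealSheafData → (∀ i, Ideal Γ(X, (U i).1)) := fun I i => I.ideal (U i)
  have hφ : StrictMono φ := by
    apply Monotone.strictMono_of_injective
    · intro I J h i; exact h (U i)
    · intro I J h; exact Scheme.IdealSheafData.ext_of_iSup_eq_top U hU (fun i => congrFun h i)
  haveI : ∀ i, WellFoundedGT (Ideal Γ(X, (U i).1)) := fun i => by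
    have := IsLocallyNoetherian.component_noetherian (X := X) (U i)
    infer_instance
  haveI : WellFoundedGT (∀ i, Ideal Γ(X, (U i).1)) :=
    ⟨(Pi.wellFoundedLT (α := fun i => (Ideal Γ(X, (U i).1))ᵒᵈ)).wf⟩
  exact hφ.wellFoundedGT

end Groth.Agent.S4362
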