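import Mathlib
import Groth.Statements.S4363
import Groth.Agent.Lib.Helper4.LimSep3

set_option autoImplicit false
universe u v
open RedSep

namespace Groth.Agent.S4363

open AlgebraicGeometry in
open CategoryTheory in
/-- Let Y be an affine scheme, f : X -> Y a morphism and (U i) a cover of X by affine open subschemes.
Then f is separated if and only if, for every pair of indices i, j, the intersection of U i and U j
is an affine open and its ring of sections is generated, as a ring, by the images of the rings of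
sections of U i and of U j under the restriction maps. -/
theorem result
    {X Y : Scheme.{u}} [IsAffine Y] (f : X ⟶ Y) {ι : Type v} (U : ι → X.Opens)
    (hU : ∀ i, IsAffineOpen (U i)) (hcov : ⨆ i, U i = ⊤) :
    IsSeparated f ↔ ∀ i j, IsAffineOpen (U i ⊓ U j) ∧
      Subring.closure (Set.range (X.presheaf.map (homOfLE (inf_le_left : U i ⊓ U j ≤ U i)).op).hom ∪
        Set.range (X.presheaf.map (homOfLE (inf_le_right : U i ⊓ U j ≤ U j)).op).hom) = ⊤ := by
  have transfer : ∀ {A B C A' B' C' : CommRingCat.{u}} (c : A ⟶ C) (d : B ⟶ C) (c' : A' ⟶ C')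
      (d' : B' ⟶ C') (α : A ≅ A') (β : B ≅ B') (γ : C ≅ C')
      (_ : c ≫ γ.hom = α.hom ≫ c') (_ : d ≫ γ.hom = β.hom ≫ d'),
      Subring.closure (Set.range c.hom ∪ Set.range d.hom) = ⊤ →
      Subring.closure (Set.range c'.hom ∪ Set.range d'.hom) = ⊤ := by
    intro A B C A' B' C' c d c' d' α β γ h1 h2 h
    rw [eq_top_iff]
    intro x _
    have hx : γ.inv.hom x ∈ Subring.closure (Set.range c.hom ∪ Set.range d.hom) := by
      rw [h]; trivial
    have hle : Subring.closure (Set.range c.hom ∪ Set.range d.hom) ≤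
        (Subring.closure (Set.range c'.hom ∪ Set.range d'.hom)).comap γ.hom.hom := by
      rw [Subring.closure_le]
      rintro s (⟨r, rfl⟩ | ⟨r, rfl⟩)
      · refine Subring.subset_closure (Or.inl ⟨α.hom.hom r, ?_⟩)
        have := congr($h1 r)
        simp only [CommRingCat.comp_apply] at this
        exact this.symm
      · refine Subring.subset_closure (Or.inr ⟨β.hom.hom r, ?_⟩)
        have := congr($h2 r)
        simp only [CommRingCat.comp_apply] at this
        exact this.symm
    have := hle hx
    rw [Subring.mem_comap] at this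
    have e : γ.hom.hom (γ.inv.hom x) = x := by
      have := congr($(γ.inv_hom_id) x)
      simpa using this
    rwa [e] at this
  have nat : ∀ (W V : X.Opens) (hV : W ≤ V),
      (X.homOfLE hV).appTop ≫ W.topIso.hom = V.topIso.hom ≫ X.presheaf.map (homOfLE hV).op := by
    intro W V hV
    rw [Scheme.homOfLE_appTop]
    simp only [Scheme.Opens.topIso_hom]
    erw [← Functor.map_comp, ← Functor.map_comp]
    rfl
  have key : ∀ (W V₁ V₂ : X.Opens) (h₁ : W ≤ V₁) (h₂ : W ≤ V₂),
      Groth.Agent.Helper4.LimSep3.JG W V₁ V₂ h₁ h₂ ↔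
        Subring.closure (Set.range (X.presheaf.map (homOfLE h₁).op).hom ∪
          Set.range (X.presheaf.map (homOfLE h₂).op).hom) = ⊤ := by
    intro W V₁ V₂ h₁ h₂
    constructor
    · intro h
      exact transfer _ _ _ _ V₁.topIso V₂.topIso W.topIso (nat W V₁ h₁) (nat W V₂ h₂) h
    · intro h
      refine transfer _ _ _ _ V₁.topIso.symm V₂.topIso.symm W.topIso.symm ?_ ?_ h
      · rw [Iso.symm_hom, Iso.symm_hom, Iso.comp_inv_eq, Category.assoc, nat W V₁ h₁,
          Iso.inv_hom_id_assoc]
      · rw [Iso.symm_hom, Iso.symm_hom, Iso.comp_inv_eq, Category.assoc, nat W V₂ h₂,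
          Iso.inv_hom_id_assoc]
  constructor
  · intro hsep i j
    haveI : IsAffine (U i).toScheme := hU i
    haveI : IsAffine (U j).toScheme := hU j
    have hcl : IsClosedImmersion (Groth.Agent.Helper4.LimSep3.infToProd f (U i) (U j)) := by
      rw [Groth.Agent.Helper4.LimSep3.infToProd_eq]; infer_instance
    refine ⟨?_, (key _ _ _ _ _).1 (Groth.Agent.Helper4.LimSep3.jg_of_isSeparated f (hU i) (hU j))⟩
    exact isAffine_of_isAffineHom (Groth.Agent.Helper4.LimSep3.infToProd f (U i) (U j))
  · intro H
    let U' : ↥(Set.range U) → X.Opens := Subtype.val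
    have hcov' : TopologicalSpace.IsOpenCover U' := by
      rw [TopologicalSpace.IsOpenCover, eq_top_iff, ← hcov]
      exact iSup_le fun i => le_iSup U' ⟨U i, i, rfl⟩
    refine Groth.Agent.Helper4.LimSep3.isSeparated_of_jg f U' hcov' ?_ ?_ ?_
    · rintro ⟨_, i, rfl⟩
      exact hU i
    · rintro ⟨_, i, rfl⟩ ⟨_, j, rfl⟩
      exact (H i j).1
    · rintro ⟨_, i, rfl⟩ ⟨_, j, rfl⟩
      exact (key _ _ _ _ _).2 (H i j).2

end Groth.Agent.S4363
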