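import Mathlib
import Groth.Statements.S4365
import Groth.Agent.Lib.Helper19.FieldEmb

set_option autoImplicit false
universe u
open FinCond

namespace Groth.Agent.S4365

open AlgebraicGeometry in
open CategoryTheory in
/-- Let K be a field, X and Y schemes locally of finite type over K, f : X -> Y a K-morphism and Ω an
algebraically closed extension field of K of infinite transcendence degree over K (there is an
algebraically independent sequence in Ω). Then f is surjective if and only if the map it induces
from the K-points of X with values in Ω to those of Y is surjective, i.e. every K-morphism Spec Ω ->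
Y factors through f. (The published proposition assumes X and Y of finite type over K, and a later
remark of the same text extends it to X and Y locally of finite type over K, the form stated here.) -/
theorem result
    (K Ω : Type u) [Field K] [Field Ω] [IsAlgClosed Ω] [Algebra K Ω]
    (t : ℕ → Ω) (ht : AlgebraicIndependent K t)
    {X Y : Scheme.{u}} (pX : X ⟶ Spec (CommRingCat.of K)) (pY : Y ⟶ Spec (CommRingCat.of K))
    [LocallyOfFiniteType pX] [LocallyOfFiniteType pY] (f : X ⟶ Y) (hf : f ≫ pY = pX) :
    Surjective f ↔ ∀ y : Spec (CommRingCat.of Ω) ⟶ Y,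
      y ≫ pY = Spec.map (CommRingCat.ofHom (algebraMap K Ω)) →
        ∃ x : Spec (CommRingCat.of Ω) ⟶ X, x ≫ f = y := by
  haveI : LocallyOfFiniteType (f ≫ pY) := by rw [hf]; infer_instance
  haveI : LocallyOfFiniteType f := locallyOfFiniteType_of_comp f pY
  constructor
  · intro hsurj y hy
    haveI : Surjective (Limits.pullback.snd f y) := inferInstance
    haveI : LocallyOfFiniteType (Limits.pullback.snd f y) := inferInstance
    haveI : JacobsonSpace (Limits.pullback f y : Scheme.{u}) :=
      LocallyOfFiniteType.jacobsonSpace (Limits.pullback.snd f y)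
    obtain ⟨p0, -⟩ := (Limits.pullback.snd f y).surjective (IsLocalRing.closedPoint Ω)
    obtain ⟨p, hp⟩ : (closedPoints (Limits.pullback f y : Scheme.{u})).Nonempty := by
      by_contra h
      rw [Set.not_nonempty_iff_eq_empty] at h
      have h2 := closure_closedPoints (X := (Limits.pullback f y : Scheme.{u}))
      rw [h, closure_empty] at h2
      have h3 : p0 ∈ (Set.univ : Set (Limits.pullback f y : Scheme.{u})) := Set.mem_univ _
      rw [← h2] at h3
      exact h3
    refine ⟨pointOfClosedPoint (Limits.pullback.snd f y) p hp ≫ Limits.pullback.fst f y, ?_⟩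
    rw [Category.assoc, Limits.pullback.condition, ← Category.assoc, pointOfClosedPoint_comp,
      Category.id_comp]
  · intro H
    refine ⟨fun y0 => ?_⟩
    let φ₀ : CommRingCat.of K ⟶ Y.residueField y0 :=
      Spec.preimage (Y.fromSpecResidueField y0 ≫ pY)
    have hφ₀ : φ₀ = StructureSheaf.toStalk K (pY y0) ≫ pY.stalkMap y0 ≫ Y.residue y0 := by
      apply Spec.map_injective
      rw [Spec.map_preimage, Spec.map_comp, Spec.map_comp, Scheme.fromSpecResidueField,
        Category.assoc, Category.assoc]
      congr 1
      rw [← Scheme.SpecMap_stalkMap_fromSpecStalk, Spec.fromSpecStalk_eq']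
      rfl
    letI : Algebra K (Y.residueField y0) := φ₀.hom.toAlgebra
    haveI : Algebra.EssFiniteType K (Y.residueField y0) := by
      have h1 : (StructureSheaf.toStalk K (pY y0)).hom.EssFiniteType := by
        have : (StructureSheaf.toStalk K (pY y0)).hom = algebraMap K _ := rfl
        rw [this, RingHom.essFiniteType_algebraMap]
        exact Algebra.EssFiniteType.of_isLocalization _ (pY y0).asIdeal.primeCompl
      have h2 : (pY.stalkMap y0).hom.EssFiniteType := LocallyOfFiniteType.stalkMap pY y0
      have h3 : (Y.residue y0).hom.EssFiniteType :=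
        (RingHom.FiniteType.of_surjective _ (Y.residue_surjective y0)).essFiniteType
      have h4 : φ₀.hom.EssFiniteType := by
        rw [hφ₀]
        exact (h1.comp h2).comp h3
      exact h4
    obtain ⟨ψ⟩ := Groth.Agent.Helper19.FieldEmb.nonempty_algHom_of_finTrdeg K
      (Y.residueField y0) Ω t ht
    have hy : (Spec.map (CommRingCat.ofHom ψ.toRingHom) ≫ Y.fromSpecResidueField y0) ≫ pY =
        Spec.map (CommRingCat.ofHom (algebraMap K Ω)) := by
      rw [Category.assoc, ← Spec.map_preimage (Y.fromSpecResidueField y0 ≫ pY), ← Spec.map_comp]
      congr 1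
      ext a
      exact ψ.commutes a
    obtain ⟨x, hx⟩ := H _ hy
    refine ⟨x (IsLocalRing.closedPoint Ω), ?_⟩
    have := congrArg (fun g : Spec (CommRingCat.of Ω) ⟶ Y => g (IsLocalRing.closedPoint Ω)) hx
    simp only [Scheme.Hom.comp_apply] at this
    rw [this, Scheme.fromSpecResidueField_apply]

end Groth.Agent.S4365
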