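import Groth.Statements.S4369
import Mathlib

set_option autoImplicit false
universe u
open AffSch

namespace Groth.Agent.S4369

/-- Let φ : A' -> A be a ring homomorphism such that every f in A can be written f = h φ(f') with h
invertible in A (this holds in particular when φ is surjective). Then the associated continuous map
Spec A -> Spec A' is a homeomorphism onto its image. -/
theorem result
    {A' A : Type u} [CommRing A'] [CommRing A] (φ : A' →+* A)
    (h : ∀ f : A, ∃ (u : Aˣ) (f' : A'), f = (u : A) * φ f') :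
    Topology.IsEmbedding (PrimeSpectrum.comap φ) := by
  refine ⟨⟨?_⟩, ?_⟩
  · refine TopologicalSpace.ext_isClosed fun Z ↦ ?_
    simp_rw [isClosed_induced_iff, PrimeSpectrum.isClosed_iff_zeroLocus,
      @eq_comm _ _ (PrimeSpectrum.zeroLocus _), exists_exists_eq_and,
      PrimeSpectrum.preimage_comap_zeroLocus]
    constructor
    · rintro ⟨s, rfl⟩
      refine ⟨{f' | ∃ f ∈ s, ∃ u : Aˣ, f = (u : A) * φ f'}, ?_⟩
      ext p
      simp only [PrimeSpectrum.mem_zeroLocus, Set.subset_def, Set.mem_image, SetLike.mem_coe]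
      constructor
      · intro hp f hf
        obtain ⟨u, f', rfl⟩ := h f
        exact p.asIdeal.mul_mem_left _ (hp _ ⟨f', ⟨_, hf, u, rfl⟩, rfl⟩)
      · rintro hp _ ⟨f', ⟨f, hf, u, rfl⟩, rfl⟩
        have := hp _ hf
        exact (p.isPrime.mem_or_mem this).resolve_left
          (fun hu => p.isPrime.ne_top (Ideal.eq_top_of_isUnit_mem _ hu u.isUnit))
    · rintro ⟨s, rfl⟩
      exact ⟨_, rfl⟩
  · intro p q hpq
    ext f
    obtain ⟨u, f', rfl⟩ := h f
    have hp : ∀ r : PrimeSpectrum A, (u : A) * φ f' ∈ r.asIdeal ↔ φ f' ∈ r.asIdeal := by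
      intro r
      constructor
      · intro hr
        exact (r.isPrime.mem_or_mem hr).resolve_left
          (fun hu => r.isPrime.ne_top (Ideal.eq_top_of_isUnit_mem _ hu u.isUnit))
      · intro hr
        exact r.asIdeal.mul_mem_left _ hr
    rw [hp, hp]
    have h1 : f' ∈ (PrimeSpectrum.comap φ p).asIdeal ↔ f' ∈ (PrimeSpectrum.comap φ q).asIdeal := by
      rw [hpq]
    exact h1

end Groth.Agent.S4369
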