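import Groth.Statements.S4371
import Mathlib
-- import your own Groth.Agent.* helpers here

set_option autoImplicit false
universe u
open RedSep

namespace Groth.Agent.S4371

section
open AlgebraicGeometry CategoryTheory TopologicalSpace Opposite

theorem res_algebraMap {R : CommRingCat.{u}} {U V : (Spec R).Opens} (i : V ⟶ U) (r : R) :
    ((Spec R).presheaf.map i.op).hom (algebraMap R Γ(Spec R, U) r) =
      algebraMap R Γ(Spec R, V) r := by
  simp only [IsAffineOpen.algebraMap_Spec_obj]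
  rw [← CommRingCat.comp_apply, Category.assoc, ← Functor.map_comp]
  rfl

theorem basicOpen_algebraMap {R : CommRingCat.{u}} (U : (Spec R).Opens) (r : R) :
    (Spec R).basicOpen (algebraMap R Γ(Spec R, U) r) = U ⊓ PrimeSpectrum.basicOpen r := by
  rw [IsAffineOpen.algebraMap_Spec_obj]
  show (Spec R).basicOpen (((Spec R).presheaf.map (homOfLE le_top).op).hom
    ((Scheme.ΓSpecIso R).inv.hom r)) = _
  rw [Scheme.basicOpen_res, basicOpen_eq_of_affine]

theorem hartogs {R : CommRingCat.{u}} [IsDomain R] (s t : R) (hs : Prime s) (hst : ¬ s ∣ t)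
    (ht : t ≠ 0) (U Ds Dt Dst : (Spec R).Opens)
    [IsLocalization.Away s Γ(Spec R, Ds)] [IsLocalization.Away t Γ(Spec R, Dt)]
    [IsLocalization.Away (s * t) Γ(Spec R, Dst)]
    (i₁ : Dst ≤ Ds) (i₂ : Dst ≤ Dt)
    (hsU : Ds ≤ U) (htU : Dt ≤ U) (x : Γ(Spec R, U)) :
    ∃ f : R, ((Spec R).presheaf.map (homOfLE hsU).op).hom x =
      algebraMap R Γ(Spec R, Ds) f := by
  obtain ⟨⟨f, ⟨_, n, rfl⟩⟩, hf⟩ := IsLocalization.surj
    (S := Γ(Spec R, Ds)) (Submonoid.powers s)
    (((Spec R).presheaf.map (homOfLE hsU).op).hom x)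
  obtain ⟨⟨g, ⟨_, m, rfl⟩⟩, hg⟩ := IsLocalization.surj
    (S := Γ(Spec R, Dt)) (Submonoid.powers t)
    (((Spec R).presheaf.map (homOfLE htU).op).hom x)
  simp only at hf hg
  set x' : Γ(Spec R, Dst) :=
    ((Spec R).presheaf.map (homOfLE (i₁.trans hsU)).op).hom x with hx'
  have e₁ : ((Spec R).presheaf.map (homOfLE i₁).op).hom
      (((Spec R).presheaf.map (homOfLE hsU).op).hom x) = x' := by
    rw [hx', ← CommRingCat.comp_apply, ← Functor.map_comp]
    rfl
  have e₂ : ((Spec R).presheaf.map (homOfLE i₂).op).hom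
      (((Spec R).presheaf.map (homOfLE htU).op).hom x) = x' := by
    rw [hx', ← CommRingCat.comp_apply, ← Functor.map_comp]
    rfl
  have hf' : x' * algebraMap R Γ(Spec R, Dst) (s ^ n) =
      algebraMap R Γ(Spec R, Dst) f := by
    rw [← e₁, ← res_algebraMap (homOfLE i₁) (s ^ n), ← res_algebraMap (homOfLE i₁) f, ← hf]
    exact (RingHom.map_mul _ _ _).symm
  have hg' : x' * algebraMap R Γ(Spec R, Dst) (t ^ m) =
      algebraMap R Γ(Spec R, Dst) g := by
    rw [← e₂, ← res_algebraMap (homOfLE i₂) (t ^ m), ← res_algebraMap (homOfLE i₂) g, ← hg]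
    exact (RingHom.map_mul _ _ _).symm
  have hinj : Function.Injective (algebraMap R Γ(Spec R, Dst)) :=
    IsLocalization.injective (Γ(Spec R, Dst))
      (M := Submonoid.powers (s * t))
      (powers_le_nonZeroDivisors_of_noZeroDivisors (mul_ne_zero hs.ne_zero ht))
  have heq : f * t ^ m = g * s ^ n := by
    apply hinj
    rw [map_mul, map_mul, ← hf', ← hg']
    ring
  have hdvd : s ^ n ∣ f := by
    refine Prime.pow_dvd_of_dvd_mul_right (b := t ^ m) hs n (fun h => hst (hs.dvd_of_dvd_pow h)) ?_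
    rw [heq]
    exact Dvd.intro_left g rfl
  obtain ⟨f', rfl⟩ := hdvd
  refine ⟨f', ?_⟩
  have hu : IsUnit (algebraMap R Γ(Spec R, Ds) (s ^ n)) :=
    IsLocalization.map_units (Γ(Spec R, Ds))
      (⟨s ^ n, n, rfl⟩ : Submonoid.powers s)
  rw [map_mul, mul_comm (algebraMap R _ (s ^ n))] at hf
  exact hu.mul_left_inj.mp hf

theorem not_affine {R : CommRingCat.{u}} [IsDomain R] (s t : R) (hs : Prime s) (hst : ¬ s ∣ t)
    (ht : t ≠ 0) (hspan : Ideal.span {s, t} ≠ ⊤) (U Ds Dt Dst : (Spec R).Opens)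
    [IsLocalization.Away s Γ(Spec R, Ds)] [IsLocalization.Away t Γ(Spec R, Dt)]
    [IsLocalization.Away (s * t) Γ(Spec R, Dst)]
    (i₁ : Dst ≤ Ds) (i₂ : Dst ≤ Dt)
    (hDs : Ds = PrimeSpectrum.basicOpen s) (hDt : Dt = PrimeSpectrum.basicOpen t)
    (hUeq : U = Ds ⊔ Dt) : ¬ IsAffineOpen U := by
  intro hU
  have hsU : Ds ≤ U := hUeq ▸ le_sup_left
  have htU : Dt ≤ U := hUeq ▸ le_sup_right
  have h1 : (Spec R).basicOpen (algebraMap R Γ(Spec R, U) s) = Ds := by
    rw [basicOpen_algebraMap, ← hDs]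
    exact inf_eq_right.mpr hsU
  have h2 : (Spec R).basicOpen (algebraMap R Γ(Spec R, U) t) = Dt := by
    rw [basicOpen_algebraMap, ← hDt]
    exact inf_eq_right.mpr htU
  have hspanU : Ideal.span ({algebraMap R Γ(Spec R, U) s, algebraMap R Γ(Spec R, U) t} :
      Set Γ(Spec R, U)) = ⊤ := by
    rw [← hU.self_le_iSup_basicOpen_iff]
    conv_lhs => rw [hUeq]
    apply sup_le
    · exact le_iSup_of_le ⟨algebraMap R Γ(Spec R, U) s, by simp⟩ h1.ge
    · exact le_iSup_of_le ⟨algebraMap R Γ(Spec R, U) t, by simp⟩ h2.ge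
  obtain ⟨a, b, hab⟩ := Ideal.mem_span_pair.mp ((Ideal.eq_top_iff_one _).mp hspanU)
  obtain ⟨a', ha'⟩ := hartogs s t hs hst ht U Ds Dt Dst i₁ i₂ hsU htU a
  obtain ⟨b', hb'⟩ := hartogs s t hs hst ht U Ds Dt Dst i₁ i₂ hsU htU b
  apply hspan
  rw [Ideal.eq_top_iff_one, Ideal.mem_span_pair]
  refine ⟨a', b', ?_⟩
  have hinj : Function.Injective (algebraMap R Γ(Spec R, Ds)) :=
    IsLocalization.injective (Γ(Spec R, Ds)) (M := Submonoid.powers s)
      (powers_le_nonZeroDivisors_of_noZeroDivisors hs.ne_zero)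
  apply hinj
  rw [map_add, map_mul, map_mul, map_one, ← ha', ← hb', ← res_algebraMap (homOfLE hsU) s,
    ← res_algebraMap (homOfLE hsU) t]
  have := congrArg ((Spec R).presheaf.map (homOfLE hsU).op).hom hab
  rw [RingHom.map_add, RingHom.map_mul, RingHom.map_mul, RingHom.map_one] at this
  exact this

theorem main' (R : CommRingCat.{u}) [IsDomain R] (s t : R) (hs : Prime s) (hst : ¬ s ∣ t)
    (ht : t ≠ 0) (hspan : Ideal.span {s, t} ≠ ⊤) :
    ¬ IsAffineOpen (X := Spec R) (PrimeSpectrum.basicOpen s ⊔ PrimeSpectrum.basicOpen t) :=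
  not_affine s t hs hst ht hspan _ (PrimeSpectrum.basicOpen s) (PrimeSpectrum.basicOpen t)
    (PrimeSpectrum.basicOpen (s * t))
    (PrimeSpectrum.basicOpen_mul_le_left _ _) (PrimeSpectrum.basicOpen_mul_le_right _ _)
    rfl rfl rfl

theorem main (K : Type u) [Field K] :
    ¬ IsAffineOpen (X := Spec (CommRingCat.of (MvPolynomial (Fin 2) K)))
      (PrimeSpectrum.basicOpen (MvPolynomial.X 0 : MvPolynomial (Fin 2) K) ⊔
        PrimeSpectrum.basicOpen (MvPolynomial.X 1 : MvPolynomial (Fin 2) K)) := by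
  haveI : IsDomain (CommRingCat.of (MvPolynomial (Fin 2) K)) :=
    inferInstanceAs (IsDomain (MvPolynomial (Fin 2) K))
  refine main' (CommRingCat.of (MvPolynomial (Fin 2) K))
    (MvPolynomial.X 0 : MvPolynomial (Fin 2) K) (MvPolynomial.X 1 : MvPolynomial (Fin 2) K)
    MvPolynomial.X_prime ?_ (MvPolynomial.X_ne_zero _) ?_
  · rw [MvPolynomial.X_dvd_X]
    decide
  · intro h
    rw [Ideal.eq_top_iff_one, Ideal.mem_span_pair] at h
    obtain ⟨a, b, hab⟩ := h
    have := congrArg MvPolynomial.constantCoeff hab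
    simp at this

end

open AlgebraicGeometry in
open CategoryTheory in
/-- Let K be a field and Y = Spec K[s, t] the affine plane over K. The open subset D(s) ∪ D(t) of Y, the
complement of the closed point s = t = 0, is not affine. -/
theorem result
    (K : Type u) [Field K] :
    ¬ IsAffineOpen (X := Spec (CommRingCat.of (MvPolynomial (Fin 2) K)))
      (PrimeSpectrum.basicOpen (MvPolynomial.X 0 : MvPolynomial (Fin 2) K) ⊔
        PrimeSpectrum.basicOpen (MvPolynomial.X 1 : MvPolynomial (Fin 2) K)) := by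
  exact Groth.Agent.S4371.main K

end Groth.Agent.S4371
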