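import Groth.Statements.S4372
import Mathlib
import Groth.Agent.Lib.Helper7.Reduced
import Groth.Agent.S4367

set_option autoImplicit false
universe u
open RedSep

namespace Groth.Agent.S4372

open AlgebraicGeometry CategoryTheory

open AlgebraicGeometry in
open CategoryTheory in
/-- Let h : Z -> X be an immersion with Z reduced (a reduced subscheme of X), and let W be the reduced
closed subscheme of X whose underlying space is the closure of h(Z). Then Z is an open subscheme of
W: h factors as an open immersion Z -> W followed by the closed immersion W -> X. Stated as the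
existence of such a factorization through a reduced scheme W closed-immersed onto the closure of the
image. -/
theorem result
    {Z X : Scheme.{u}} (h : Z ⟶ X) [IsImmersion h] [IsReduced Z] :
    ∃ (W : Scheme.{u}) (j : Z ⟶ W) (i : W ⟶ X), IsOpenImmersion j ∧ IsClosedImmersion i ∧
      IsReduced W ∧ Set.range i = closure (Set.range h) ∧ j ≫ i = h := by
  classical
  let C : TopologicalSpace.Closeds X := ⟨closure (Set.range h), isClosed_closure⟩
  let I : X.IdealSheafData := Scheme.IdealSheafData.vanishingIdeal C
  let W := I.subscheme
  let i : W ⟶ X := I.subschemeι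
  have hrange : Set.range i = closure (Set.range h) := by
    rw [Scheme.IdealSheafData.range_subschemeι]
    simp [I, C]
  have hred : IsReduced W := by
    rw [Groth.Agent.Helper7.isReduced_subscheme_iff_radical_eq]
    rw [← Scheme.IdealSheafData.vanishingIdeal_support]
    congr 1
  -- factor h through W
  have hsub : Set.range h ⊆ Set.range i := by
    rw [hrange]; exact subset_closure
  obtain ⟨j, hj⟩ := Groth.Agent.S4367.result h i hsub
  refine ⟨W, j, i, ?_, inferInstance, hred, hrange, hj⟩
  have himm : IsImmersion (j ≫ i) := by rw [hj]; infer_instance
  have hjimm : IsImmersion j := IsImmersion.of_comp j i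
  -- range j is open
  have hopen : IsOpen (Set.range j) := by
    have hlc : IsLocallyClosed (Set.range h) := h.isLocallyClosed_range
    have hU : IsOpen (coborder (Set.range h)) := hlc.isOpen_coborder
    have hUeq : Set.range h = coborder (Set.range h) ∩ closure (Set.range h) :=
      coborder_inter_closure.symm
    set U := coborder (Set.range h) with hUdef
    have : Set.range j = i ⁻¹' U := by
      ext w
      constructor
      · rintro ⟨z, rfl⟩
        have : i (j z) ∈ Set.range h := ⟨z, by rw [← hj]; rfl⟩
        rw [hUeq] at this
        exact this.1
      · intro hw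
        have hw2 : i w ∈ Set.range h := by
          rw [hUeq]
          refine ⟨hw, ?_⟩
          rw [← hrange]
          exact ⟨w, rfl⟩
        obtain ⟨z, hz⟩ := hw2
        refine ⟨z, ?_⟩
        apply i.isClosedEmbedding.injective
        rw [← hz, ← hj]
        rfl
    rw [this]
    exact hU.preimage i.continuous
  let V : W.Opens := ⟨Set.range j, hopen⟩
  have hV : Set.range j ⊆ Set.range V.ι := by
    rw [Scheme.Opens.range_ι]
    exact subset_rfl
  let j' : Z ⟶ V := IsOpenImmersion.lift V.ι j hV
  have hj' : j' ≫ V.ι = j := IsOpenImmersion.lift_fac _ _ _
  have h1 : IsImmersion (j' ≫ V.ι) := by rw [hj']; exact hjimm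
  have h2 : IsImmersion j' := IsImmersion.of_comp j' V.ι
  have h3 : Function.Surjective j' := by
    intro v
    obtain ⟨z, hz⟩ : V.ι v ∈ Set.range j := v.2
    refine ⟨z, ?_⟩
    apply V.ι.isOpenEmbedding.injective
    rw [← hz, ← hj']
    rfl
  have h4 : Surjective j' := ⟨h3⟩
  have h5 : IsClosedImmersion j' :=
    IsClosedImmersion.of_isPreimmersion j' (by rw [h3.range_eq]; exact isClosed_univ)
  have h6 : IsIso j' := isIso_of_isClosedImmersion_of_surjective j'
  rw [← hj']
  infer_instance

end Groth.Agent.S4372
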