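import Groth.Statements.S4375
import Mathlib
import Groth.Agent.Lib.Helper13.SerreCrit2

set_option autoImplicit false
universe u
open CategoryTheory CategoryTheory.Limits AlgebraicGeometry
open EGA2

namespace Groth.Agent.S4375

open AlgebraicGeometry CategoryTheory CategoryTheory.Limits Opposite TopologicalSpace
open Groth.Agent.Helper13.QCoh Groth.Agent.Helper13.FinType Groth.Agent.Helper13.VanishIdeal
open Groth.Agent.Helper13.LocFree Groth.Agent.Helper13.SerreCrit

/-- (c') ⇒ (a): let X be a quasi-compact separated scheme. Suppose that for every n, every
quasi-coherent O_X-module F admitting a monomorphism into the free module O_X^n, and every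
epimorphism p : F → F'' onto a quasi-coherent O_X-module, the map induced by p on global sections is
surjective. Then X is affine. (The published statement also allows X to be a scheme whose underlying
space is Noetherian; this row assumes it quasi-compact and separated.) -/
theorem result (X : Scheme.{u}) [CompactSpace X] [X.IsSeparated]
    (h : ∀ (n : ℕ) (F F'' : X.Modules) (i : F ⟶ FlatMod.freeMod X n) (p : F ⟶ F''),
      Mono i → Epi p → Coh.IsQCoh F → Coh.IsQCoh F'' →
        Function.Surjective (p.val.app (Opposite.op ⊤)).hom) :
    IsAffine X := by
  apply isAffine_of_surjective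
  · intro Z x hx hxZ
    haveI := isClosedImmersion_fromSpecResidueField x hx
    let i := (Scheme.IdealSheafData.vanishingIdeal Z).subschemeι
    let j := X.fromSpecResidueField x
    have hri : Set.range i = (Z : Set X) := by
      rw [Scheme.IdealSheafData.range_subschemeι, Scheme.IdealSheafData.coe_support_vanishingIdeal]
    have hcl : IsClosed (Set.range i) := hri ▸ Z.isClosed
    have hdisj : Disjoint (Set.range i) (Set.range j) := by
      rw [hri, Scheme.range_fromSpecResidueField]
      exact Set.disjoint_singleton_right.2 hxZ
    haveI : Mono (ι (X := X) 1 0) := (SplitMono.mk (π 1 0) (ι_π_self 1 0)).mono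
    haveI : (Coh.structureModule (Spec (X.residueField x))).IsQuasicoherent :=
      isQuasicoherent_unit _
    exact h 1 (idealMod i) _ (idealι i ≫ ι 1 0) (idealι i ≫ sharp j) (mono_comp _ _)
      (epi_ev i hcl j hdisj) (isQuasicoherent_idealMod i)
      (Groth.Agent.Helper13.Qcqs.isQuasicoherent_pushforward_of_qcqs j _)
  · intro n f hcov _
    apply span_eq_top_of_surjective
    haveI : (Coh.structureModule X).IsQuasicoherent := isQuasicoherent_unit _
    exact h n (FlatMod.freeMod X n) (Coh.structureModule X) (𝟙 _)
      (descSec (Coh.structureModule X) (fun k => toO ⊤ (f k))) inferInstance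
      (epi_descSec_of_cover f hcov) inferInstance inferInstance

end Groth.Agent.S4375
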