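import Groth.Statements.S4378
import Mathlib

set_option autoImplicit false
universe u
open CategoryTheory CategoryTheory.Limits AlgebraicGeometry
open EGA2

namespace Groth.Agent.S4378

/-- Let q : Y → S be separated and of finite type, and f : X → Y a morphism such that X is also
separated and of finite type over S through f ≫ q. Then f is proper if and only if for every scheme
S' over S the morphism X ×_S S' → Y ×_S S' induced by f is closed (as a map of topological spaces). -/
theorem result {X Y S : Scheme.{u}} (q : Y ⟶ S) (f : X ⟶ Y)
    [IsSeparated q] [LocallyOfFiniteType q] [QuasiCompact q]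
    [IsSeparated (f ≫ q)] [LocallyOfFiniteType (f ≫ q)] [QuasiCompact (f ≫ q)] :
    IsProper f ↔ ∀ (S' : Scheme.{u}) (g : S' ⟶ S),
      IsClosedMap (pullback.map (f ≫ q) g q g f (𝟙 S') (𝟙 S) (Category.comp_id (f ≫ q))
        ((Category.comp_id g).trans (Category.id_comp g).symm)).base := by
  constructor
  · intro hf S' g
    set F := pullback.map (f ≫ q) g q g f (𝟙 S') (𝟙 S) (Category.comp_id (f ≫ q))
        ((Category.comp_id g).trans (Category.id_comp g).symm) with hF
    have hFs : F ≫ pullback.snd q g = pullback.snd (f ≫ q) g := by
      rw [hF, pullback.map, pullback.lift_snd, Category.comp_id]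
    have hFf : F ≫ pullback.fst q g = pullback.fst (f ≫ q) g ≫ f := by
      rw [hF, pullback.map, pullback.lift_fst]
    have s : IsPullback (F ≫ pullback.snd q g) (pullback.fst (f ≫ q) g) g (f ≫ q) := by
      rw [hFs]
      exact (IsPullback.of_hasPullback (f ≫ q) g).flip
    have sq : IsPullback F (pullback.fst (f ≫ q) g) (pullback.fst q g) f :=
      IsPullback.of_right s hFf (IsPullback.of_hasPullback q g).flip
    have : IsProper F := MorphismProperty.of_isPullback (P := @IsProper) sq.flip hf
    exact F.isClosedMap
  · intro H
    have h1 : IsSeparated f := IsSeparated.of_comp f q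
    have h2 : LocallyOfFiniteType f := locallyOfFiniteType_of_comp f q
    have h3 : QuasiCompact f := QuasiCompact.of_comp f q
    have h4 : UniversallyClosed f := by
      rw [universallyClosed_eq]
      intro X' Y' i₁ i₂ f' sq
      have hF := H Y' (i₂ ≫ q)
      set F := pullback.map (f ≫ q) (i₂ ≫ q) q (i₂ ≫ q) f (𝟙 Y') (𝟙 S) (Category.comp_id (f ≫ q))
        ((Category.comp_id (i₂ ≫ q)).trans (Category.id_comp (i₂ ≫ q)).symm) with hFdef
      let ι : X' ⟶ pullback (f ≫ q) (i₂ ≫ q) :=
        pullback.lift i₁ f' (by rw [← Category.assoc, ← sq.w, Category.assoc])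
      let Γ' : Y' ⟶ pullback q (i₂ ≫ q) := pullback.lift i₂ (𝟙 Y') (by simp)
      have hcomm : ι ≫ F = f' ≫ Γ' := by
        apply pullback.hom_ext
        · rw [hFdef, pullback.map, Category.assoc, pullback.lift_fst, Category.assoc,
            pullback.lift_fst, ← Category.assoc, pullback.lift_fst, sq.w]
        · rw [hFdef, pullback.map, Category.assoc, pullback.lift_snd, Category.assoc,
            pullback.lift_snd, Category.comp_id, Category.comp_id, pullback.lift_snd]
      have hι : IsClosedImmersion ι := by
        have e : ι = sq.flip.isoPullback.hom ≫ pullback.mapDesc f i₂ q := by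
          apply pullback.hom_ext
          · rw [pullback.lift_fst, Category.assoc, pullback.mapDesc, pullback.lift_fst,
              Category.comp_id, IsPullback.isoPullback_hom_fst]
          · rw [pullback.lift_snd, Category.assoc, pullback.mapDesc, pullback.lift_snd,
              Category.comp_id, IsPullback.isoPullback_hom_snd]
        rw [e]
        infer_instance
      have hΓ : IsClosedImmersion Γ' := by
        have : Γ' ≫ pullback.snd q (i₂ ≫ q) = 𝟙 Y' := pullback.lift_snd _ _ _
        have : IsClosedImmersion (Γ' ≫ pullback.snd q (i₂ ≫ q)) := by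
          rw [this]; infer_instance
        exact IsClosedImmersion.of_comp Γ' (pullback.snd q (i₂ ≫ q))
      have hcl : IsClosedMap (ι ≫ F).base := by
        rw [Scheme.Hom.comp_base, TopCat.coe_comp]
        exact hF.comp ι.isClosedMap
      rw [hcomm, Scheme.Hom.comp_base, TopCat.coe_comp] at hcl
      show IsClosedMap f'.base
      intro C hC
      have := hcl C hC
      rw [Set.image_comp] at this
      have h5 := this.preimage Γ'.continuous
      rwa [Set.preimage_image_eq _ Γ'.isClosedEmbedding.injective] at h5
    exact { }

end Groth.Agent.S4378
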