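import Groth.Statements.S4388
import Mathlib
import Groth.Prelude.Def_Coh
import Groth.Prelude.Def_Pic
import Groth.Prelude.Def_CohB1
import Groth.Prelude.Def_LCI2
import Groth.Agent.Lib.Helper13.CounitGen
import Groth.Agent.Lib.Helper13.AmpleQA
import Groth.Agent.Lib.Helper13.AmpleBasis

set_option autoImplicit false
universe u
open CategoryTheory CategoryTheory.Limits AlgebraicGeometry
open EGA2

namespace Groth.Agent.S4388

open Groth.Agent.Helper13.CounitGen Groth.Agent.Helper13.Tensor Groth.Agent.Helper13.Inv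
open Groth.Agent.Helper13.Ample Groth.Agent.Helper13.GlobGen Groth.Agent.Helper13.GenLoc

/-- Let f : X → Y be a quasi-compact morphism, L an O_X-module ample relative to f and L' an invertible
O_X-module such that, for some n > 0, the canonical morphism f^*(f_*(L'^{⊗n})) → L'^{⊗n} (counit of
the adjunction between f^* and f_*) is an epimorphism. Then L ⊗ L' is ample relative to f. -/
theorem result {X Y : Scheme.{u}} (f : X ⟶ Y) [QuasiCompact f] (L L' : X.Modules)
    (hL : RelAmple.IsRelAmple f L) (hL' : PicF.IsInvertible L') (n : ℕ) (hn : 0 < n)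
    (hepi : Epi ((Scheme.Modules.pullbackPushforwardAdjunction f).counit.app (CohB1.tensorPow L' n))) :
    RelAmple.IsRelAmple f (CohB1.tensorMod L L') := by
  refine ⟨hL.1, fun V => ?_⟩
  have hamp := hL.2 V
  have hL'U : PicF.IsInvertible (L'.restrict (f ⁻¹ᵁ V.1).ι) := isInvertible_restrict _ L' hL'
  refine isAmple_of_iso (restrictIso (f ⁻¹ᵁ V.1).ι L L').symm ?_
  apply isAmple_tensorMod_of_generated _ _ hamp hL'U
  intro x
  have hM : PicF.IsInvertible (CohB1.tensorPow L' n) := isInvertible_tensorPow L' hL' n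
  haveI : (CohB1.tensorPow L' n).IsQuasicoherent := isQuasicoherent_of_isInvertible _ hM
  have hc : IsCompact ((f ⁻¹ᵁ V.1 : X.Opens) : Set X) :=
    QuasiCompact.isCompact_preimage (f := f) V.1 V.1.2 V.2.isCompact
  have hq : IsQuasiSeparated ((f ⁻¹ᵁ V.1 : X.Opens) : Set X) := by
    have h1 : QuasiSeparatedSpace ((f ⁻¹ᵁ V.1 : X.Opens) : Scheme.{u}) :=
      quasiSeparatedSpace_of_isAmple _ hamp
    exact (isQuasiSeparated_iff_quasiSeparatedSpace _ (f ⁻¹ᵁ V.1).2).2 h1
  have hgg := isGloballyGenerated_restrict_of_epi f (CohB1.tensorPow L' n) hepi V.1 V.2 hc hq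
  have hgg' : Curv2.IsGloballyGenerated (CohB1.tensorPow (L'.restrict (f ⁻¹ᵁ V.1).ι) n) :=
    isGloballyGenerated_of_iso (powRestrict _ L' n) hgg
  obtain ⟨m, s', hx⟩ := exists_mem_genLocus_of_isGloballyGenerated _
    (isInvertible_tensorPow _ hL'U n) hgg' x
  obtain ⟨k, hk⟩ : ∃ k, n * (m + 1) = k + 1 := ⟨n * (m + 1) - 1, by
    have : 0 < n * (m + 1) := Nat.mul_pos hn (Nat.succ_pos m)
    omega⟩
  refine ⟨k, s' ≫ (powMul _ n (m + 1) ≪≫ powCast _ hk).hom, ?_⟩
  rw [genLocus_comp_iso]
  exact hx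

end Groth.Agent.S4388
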