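import Groth.Statements.S4395
import Groth.Agent.Lib.Helper7.Graded4

set_option autoImplicit false
universe u
open EGA2

namespace Groth.Agent.S4395

/-- Let S be a ring graded in nonnegative degrees, n₀ > 0 an integer and, for every n ≥ n₀, p_n an
additive subgroup of S_n. Then there is a graded prime ideal p of S not containing S_+ with p ∩ S_n
= p_n for all n ≥ n₀ if and only if: (1) S_m p_n ⊆ p_{m+n} for all m ≥ 0 and n ≥ n₀; (2) for m ≥ n₀,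
n ≥ n₀, f ∈ S_m, g ∈ S_n, fg ∈ p_{m+n} implies f ∈ p_m or g ∈ p_n; (3) p_n ≠ S_n for at least one n
≥ n₀. Moreover such a graded prime ideal is unique. -/
theorem result {R A : Type u} [CommRing R] [CommRing A] [Algebra R A] (𝒜 : ℕ → Submodule R A) [GradedAlgebra 𝒜]
    (n₀ : ℕ) (hn₀ : 0 < n₀) (p : ℕ → AddSubgroup A) (hp : ∀ n : ℕ, n₀ ≤ n → (p n : Set A) ⊆ 𝒜 n) :
    ((∃ 𝔭 : HomogeneousIdeal 𝒜, 𝔭.toIdeal.IsPrime ∧ ¬ HomogeneousIdeal.irrelevant 𝒜 ≤ 𝔭 ∧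
        ∀ n : ℕ, n₀ ≤ n → (𝔭.toIdeal : Set A) ∩ 𝒜 n = p n) ↔
      ((∀ m n : ℕ, n₀ ≤ n → ∀ a ∈ 𝒜 m, ∀ b ∈ p n, a * b ∈ p (m + n)) ∧
        (∀ m n : ℕ, n₀ ≤ m → n₀ ≤ n → ∀ f ∈ 𝒜 m, ∀ g ∈ 𝒜 n, f * g ∈ p (m + n) → f ∈ p m ∨ g ∈ p n) ∧
        ∃ n : ℕ, n₀ ≤ n ∧ (p n : Set A) ≠ 𝒜 n)) ∧
    ∀ 𝔭 𝔮 : HomogeneousIdeal 𝒜, 𝔭.toIdeal.IsPrime → 𝔮.toIdeal.IsPrime →
      ¬ HomogeneousIdeal.irrelevant 𝒜 ≤ 𝔭 → ¬ HomogeneousIdeal.irrelevant 𝒜 ≤ 𝔮 →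
      (∀ n : ℕ, n₀ ≤ n → (𝔭.toIdeal : Set A) ∩ 𝒜 n = p n) → (∀ n : ℕ, n₀ ≤ n → (𝔮.toIdeal : Set A) ∩ 𝒜 n = p n) →
      𝔭 = 𝔮 := by
  classical
  refine ⟨⟨?_, ?_⟩, ?_⟩
  · rintro ⟨𝔭, hprime, hirr, htail⟩
    refine ⟨?_, ?_, ?_⟩
    · intro m n hn a ha b hb
      have hb' : b ∈ (𝔭.toIdeal : Set A) ∩ 𝒜 n := by rw [htail n hn]; exact hb
      have : a * b ∈ (𝔭.toIdeal : Set A) ∩ 𝒜 (m + n) :=
        ⟨Ideal.mul_mem_left _ _ hb'.1, SetLike.mul_mem_graded ha hb'.2⟩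
      rw [htail (m + n) (by omega)] at this
      exact this
    · intro m n hm hn f hf g hg hfg
      have hfg' : f * g ∈ (𝔭.toIdeal : Set A) ∩ 𝒜 (m + n) := by
        rw [htail (m + n) (by omega)]; exact hfg
      rcases hprime.mem_or_mem hfg'.1 with h | h
      · left
        have : f ∈ (𝔭.toIdeal : Set A) ∩ 𝒜 m := ⟨h, hf⟩
        rw [htail m hm] at this
        exact this
      · right
        have : g ∈ (𝔭.toIdeal : Set A) ∩ 𝒜 n := ⟨h, hg⟩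
        rw [htail n hn] at this
        exact this
    · obtain ⟨k, hk, f, hf, hfp⟩ := Groth.Agent.Helper7.Graded.exists_homogeneous_not_mem 𝒜 𝔭 hirr
      have hle : n₀ ≤ n₀ • k := by
        have : n₀ * 1 ≤ n₀ * k := Nat.mul_le_mul_left _ hk
        simp only [smul_eq_mul]; omega
      refine ⟨n₀ • k, hle, ?_⟩
      intro heq
      have h1 : f ^ n₀ ∈ (𝒜 (n₀ • k) : Set A) := SetLike.pow_mem_graded n₀ hf
      rw [← heq, ← htail _ hle] at h1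
      exact hfp (hprime.mem_of_pow_mem _ h1.1)
  · rintro ⟨c1, c2, c3⟩
    exact Groth.Agent.Helper7.Graded.exists_prime_of_conditions 𝒜 n₀ hn₀ p hp c1 c2 c3
  · intro 𝔭 𝔮 h𝔭 h𝔮 hp' hq' h1 h2
    exact le_antisymm (Groth.Agent.Helper7.Graded.le_of_tail 𝒜 n₀ p 𝔭 𝔮 h𝔮 hq' h1 h2)
      (Groth.Agent.Helper7.Graded.le_of_tail 𝒜 n₀ p 𝔮 𝔭 h𝔭 hp' h2 h1)

end Groth.Agent.S4395
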