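import Groth.Statements.S4396
import Groth.Agent.Lib.Helper7.VerAway

set_option autoImplicit false
universe u
open AlgebraicGeometry
open EGA2

namespace Groth.Agent.S4396

/-- Let S be a ring graded in nonnegative degrees, d > 0, and S^{(d)} the graded ring whose degree-n
part is S_{nd} (given here as any graded ring S' with an injective algebra homomorphism φ : S' → S
carrying S'_n onto S_{nd} for every n); let f' ∈ S'_1, with image f = φ(f') ∈ S_d. Then there is a
ring isomorphism between the degree-zero homogeneous localization S_(f) and the quotient S'/(f' -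
1)S', whose inverse sends the class of an element x of S'_n to the fraction φ(x)/f^n. (The module
part of the published statement is not stated here.) -/
theorem result {R A : Type u} [CommRing R] [CommRing A] [Algebra R A] (𝒜 : ℕ → Submodule R A) [GradedAlgebra 𝒜]
    {B : Type u} [CommRing B] [Algebra R B] (ℬ : ℕ → Submodule R B) [GradedAlgebra ℬ]
    (d : ℕ) (hd : 0 < d) (φ : B →ₐ[R] A) (hφ : Function.Injective φ)
    (hdeg : ∀ n : ℕ, Submodule.map φ.toLinearMap (ℬ n) = 𝒜 (n * d)) (f' : B) (hf' : f' ∈ ℬ 1) :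
    ∃ e : HomogeneousLocalization.Away 𝒜 (φ f') ≃+* B ⧸ Ideal.span {f' - 1},
      ∀ (n : ℕ) (x : B), x ∈ ℬ n →
        (e.symm (Ideal.Quotient.mk (Ideal.span {f' - 1}) x)).val =
          Localization.mk (φ x) ⟨φ f' ^ n, pow_mem (Submonoid.mem_powers (φ f')) n⟩ := by
  classical
  refine ⟨(RingEquiv.ofBijective (Groth.Agent.Helper7.VerAway.psi 𝒜 ℬ d φ hdeg f' hf')
    ⟨Groth.Agent.Helper7.VerAway.psi_injective 𝒜 ℬ d φ hdeg f' hf' hφ,
      Groth.Agent.Helper7.VerAway.psi_surjective 𝒜 ℬ d φ hdeg f' hf'⟩).symm, ?_⟩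
  intro n x hx
  rw [RingEquiv.symm_symm, RingEquiv.ofBijective_apply, Groth.Agent.Helper7.VerAway.psi,
    Ideal.Quotient.lift_mk, Groth.Agent.Helper7.VerAway.Psi_of_mem 𝒜 ℬ d φ hdeg f' hf' hx]
  rfl

end Groth.Agent.S4396
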