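import Groth.Statements.S4405
import Mathlib

set_option autoImplicit false
universe u
open EGA2

namespace Groth.Agent.S4405

/-- Let S be a ring graded in nonnegative degrees and E any subset of the irrelevant ideal S_+. Then the
intersection of S_+ with the vanishing ideal of the closed subset V_+(E) of Proj S equals the
intersection of S_+ with the radical of the graded ideal generated by E (the smallest homogeneous
ideal containing E). -/
theorem result {R A : Type u} [CommRing R] [CommRing A] [Algebra R A] (𝒜 : ℕ → Submodule R A) [GradedAlgebra 𝒜]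
    (E : Set A) (hE : E ⊆ (HomogeneousIdeal.irrelevant 𝒜).toIdeal) :
    (HomogeneousIdeal.irrelevant 𝒜).toIdeal ⊓
        (ProjectiveSpectrum.vanishingIdeal (ProjectiveSpectrum.zeroLocus 𝒜 E)).toIdeal =
      (HomogeneousIdeal.irrelevant 𝒜).toIdeal ⊓ (Ideal.homogeneousHull 𝒜 (Ideal.span E)).toIdeal.radical := by
  ext x
  simp only [Ideal.mem_inf]
  refine and_congr_right fun hx => ?_
  constructor
  · intro hv
    have hv' : x ∈ ProjectiveSpectrum.vanishingIdeal (ProjectiveSpectrum.zeroLocus 𝒜 E) := hv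
    rw [ProjectiveSpectrum.mem_vanishingIdeal] at hv'
    rw [Ideal.radical_eq_sInf, Ideal.mem_sInf]
    rintro P ⟨hle, hP⟩
    have hQ : (P.homogeneousCore 𝒜).toIdeal.IsPrime := hP.homogeneousCore
    have hQP : (P.homogeneousCore 𝒜).toIdeal ≤ P := Ideal.toIdeal_homogeneousCore_le 𝒜 P
    have hhull : Ideal.homogeneousHull 𝒜 (Ideal.span E) ≤ P.homogeneousCore 𝒜 :=
      (Ideal.homogeneousCore.gc 𝒜 _ _).mp hle
    by_cases hirr : HomogeneousIdeal.irrelevant 𝒜 ≤ P.homogeneousCore 𝒜
    · exact hQP (hirr hx)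
    · let y : ProjectiveSpectrum 𝒜 := ⟨P.homogeneousCore 𝒜, hQ, hirr⟩
      have hy : y ∈ ProjectiveSpectrum.zeroLocus 𝒜 E := by
        rw [ProjectiveSpectrum.mem_zeroLocus]
        intro e he
        exact hhull (Ideal.le_toIdeal_homogeneousHull 𝒜 _ (Ideal.subset_span he))
      exact hQP (hv' y hy)
  · intro hr
    show x ∈ ProjectiveSpectrum.vanishingIdeal (ProjectiveSpectrum.zeroLocus 𝒜 E)
    rw [ProjectiveSpectrum.mem_vanishingIdeal]
    intro y hy
    rw [ProjectiveSpectrum.mem_zeroLocus] at hy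
    have h1 : Ideal.span E ≤ y.asHomogeneousIdeal.toIdeal := Ideal.span_le.mpr hy
    have h2 : Ideal.homogeneousHull 𝒜 (Ideal.span E) ≤ y.asHomogeneousIdeal :=
      (Ideal.homogeneousHull.gc 𝒜 _ _).mpr h1
    have h3 : (Ideal.homogeneousHull 𝒜 (Ideal.span E)).toIdeal.radical ≤
        y.asHomogeneousIdeal.toIdeal :=
      (y.isPrime.radical_le_iff).mpr h2
    exact h3 hr

end Groth.Agent.S4405
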