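import Groth.Statements.S4408
import Mathlib
import Groth.Agent.Lib.Helper13.VanishIdealFT
import Groth.Agent.Lib.Helper13.GlobGen3

set_option autoImplicit false
universe u
open CategoryTheory CategoryTheory.Limits AlgebraicGeometry
open EGA2

namespace Groth.Agent.S4408

open CategoryTheory CategoryTheory.Limits AlgebraicGeometry
open EGA2

open CategoryTheory CategoryTheory.Limits AlgebraicGeometry Opposite TopologicalSpace
open Groth.Agent.Helper13.CounitGen Groth.Agent.Helper13.VanishIdeal Groth.Agent.Helper13.GlobGen

/-- (e') ⇒ (a): let X be a quasi-compact separated scheme such that every quasi-coherent submodule of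
finite type of O_X is generated by its global sections. Then X is quasi-affine. (The published
statement also allows X to be a scheme whose underlying space is Noetherian; this row assumes it
quasi-compact and separated.) -/
theorem result (X : Scheme.{u}) [CompactSpace X] [X.IsSeparated]
    (h : ∀ (J : X.Modules) (i : J ⟶ Coh.structureModule X), Mono i → Coh.IsQCoh J → CohB1.IsFT J →
      Curv2.IsGloballyGenerated J) :
    X.IsQuasiAffine := by
  apply Scheme.IsQuasiAffine.of_forall_exists_mem_basicOpen
  intro x
  obtain ⟨W, hW, hxW, -⟩ := exists_isAffineOpen_mem_and_subset (x := x) (U := ⊤) trivial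
  let Zc : Closeds X := ⟨(W : Set X)ᶜ, W.2.isClosed_compl⟩
  let i := (Scheme.IdealSheafData.vanishingIdeal Zc).subschemeι
  have hrange : Set.range i = (W : Set X)ᶜ := by
    rw [Scheme.IdealSheafData.range_subschemeι, Scheme.IdealSheafData.coe_support_vanishingIdeal]
    rfl
  have hcl : IsClosed (Set.range i) := by rw [hrange]; exact W.2.isClosed_compl
  obtain ⟨J, φ, h1, h2, h3, h4⟩ := exists_finiteType_ideal i hcl x (by rw [hrange]; exact fun h => h hxW)
  haveI := h1
  have hgg := h J (φ ≫ idealι i) inferInstance h2 h3
  have hspan : secSpan J ⊤ x trivial = ⊤ := (isGloballyGenerated_iff J).1 hgg x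
  obtain ⟨s, hxs, hsZ⟩ := exists_basicOpen_of_secSpan' i φ ⊤ x trivial h4 hspan
  have hsW : X.basicOpen s ≤ W := fun z hz => by
    have := hsZ z hz
    rw [hrange] at this
    exact not_not.1 this
  have haff : IsAffineOpen (X.basicOpen s) := by
    have := hW.basicOpen (X.presheaf.map (homOfLE (le_top : W ≤ ⊤)).op s)
    rwa [Scheme.basicOpen_res, inf_eq_right.2 hsW] at this
  exact ⟨s, haff, hxs⟩

end Groth.Agent.S4408
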