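import Groth.Statements.S4409
import Mathlib
import Groth.Prelude.Def_Coh
import Groth.Prelude.Def_Mor2
import Groth.Agent.Lib.Helper13.VanishIdeal
import Groth.Agent.Lib.Helper13.GlobGen3

set_option autoImplicit false
universe u
open CategoryTheory CategoryTheory.Limits AlgebraicGeometry
open EGA2

namespace Groth.Agent.S4409

open CategoryTheory CategoryTheory.Limits AlgebraicGeometry Opposite TopologicalSpace
open Groth.Agent.Helper13.CounitGen Groth.Agent.Helper13.VanishIdeal Groth.Agent.Helper13.GlobGen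

/-- (a) ⇔ (d): let f : X → Y be a quasi-compact morphism. Then f is quasi-affine (the preimage of every
affine open of Y is a quasi-affine scheme) if and only if f is separated and, for every
quasi-coherent O_X-module F, the canonical morphism f^*(f_*(F)) → F (counit of the adjunction
between f^* and f_*) is an epimorphism. -/
theorem result {X Y : Scheme.{u}} (f : X ⟶ Y) [QuasiCompact f] :
    Mor2.IsQuasiAffine f ↔ (IsSeparated f ∧ ∀ F : X.Modules, Coh.IsQCoh F →
      Epi ((Scheme.Modules.pullbackPushforwardAdjunction f).counit.app F)) := by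
  constructor
  · rintro ⟨-, h⟩
    constructor
    · rw [HasAffineProperty.iff_of_iSup_eq_top (P := @IsSeparated) (fun U : Y.affineOpens => U)
        (iSup_affineOpens_eq_top Y)]
      intro U
      haveI := h U.1 U.2
      infer_instance
    · intro F hF
      haveI : F.IsQuasicoherent := hF
      apply epi_of_isGloballyGenerated_restrict f F
      intro x
      obtain ⟨V, hV, hxV, -⟩ := exists_isAffineOpen_mem_and_subset (x := f x) (U := ⊤) trivial
      haveI := h V hV
      haveI : (F.restrict (f ⁻¹ᵁ V).ι).IsQuasicoherent :=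
        Scheme.Modules.isQuasicoherent_restrictFunctor (f ⁻¹ᵁ V).ι F
      exact ⟨V, hxV, isGloballyGenerated_of_isQuasiAffine _⟩
  · rintro ⟨hsep, h⟩
    refine ⟨inferInstance, fun V hV => ?_⟩
    have hc : IsCompact ((f ⁻¹ᵁ V : X.Opens) : Set X) :=
      QuasiCompact.isCompact_preimage (f := f) V V.2 hV.isCompact
    have hq : IsQuasiSeparated ((f ⁻¹ᵁ V : X.Opens) : Set X) :=
      Scheme.Hom.isQuasiSeparated_preimage f hV.isQuasiSeparated
    haveI : CompactSpace ((f ⁻¹ᵁ V : X.Opens) : Scheme.{u}) := isCompact_iff_compactSpace.1 hc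
    apply Scheme.IsQuasiAffine.of_forall_exists_mem_basicOpen
    intro y
    obtain ⟨W, hW, hyW, hWU⟩ := exists_isAffineOpen_mem_and_subset (x := y.1) (U := f ⁻¹ᵁ V) y.2
    let Zc : Closeds X := ⟨(W : Set X)ᶜ, W.2.isClosed_compl⟩
    let i := (Scheme.IdealSheafData.vanishingIdeal Zc).subschemeι
    have hrange : Set.range i = (W : Set X)ᶜ := by
      rw [Scheme.IdealSheafData.range_subschemeι, Scheme.IdealSheafData.coe_support_vanishingIdeal]
      rfl
    have hcl : IsClosed (Set.range i) := by rw [hrange]; exact W.2.isClosed_compl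
    haveI := isQuasicoherent_idealMod i
    have hepi := h (idealMod i) inferInstance
    have hspan := (epi_ε_iff f (idealMod i)).1 hepi y.1
    rw [relSpan_eq_secSpan f (idealMod i) V hV hc hq y.1 y.2] at hspan
    obtain ⟨s, hys, hsZ⟩ := exists_basicOpen_of_secSpan i hcl (f ⁻¹ᵁ V) y.1 y.2
      (by rw [hrange]; exact fun h => h hyW) hspan
    have hsW : X.basicOpen s ≤ W := fun z hz => by
      have := hsZ z hz
      rw [hrange] at this
      exact not_not.1 this
    have haff : IsAffineOpen (X.basicOpen s) := by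
      have := hW.basicOpen (X.presheaf.map (homOfLE hWU).op s)
      rwa [Scheme.basicOpen_res, inf_eq_right.2 hsW] at this
    refine ⟨(f ⁻¹ᵁ V).topIso.inv s, ?_, ?_⟩
    · rw [← Scheme.Hom.isAffineOpen_iff_of_isOpenImmersion (f ⁻¹ᵁ V).ι,
        Scheme.Opens.ι_image_basicOpen_topIso_inv]
      exact haff
    · have : (f ⁻¹ᵁ V).ι y ∈ (f ⁻¹ᵁ V).ι ''ᵁ ((f ⁻¹ᵁ V).toScheme.basicOpen ((f ⁻¹ᵁ V).topIso.inv s)) := by
        rw [Scheme.Opens.ι_image_basicOpen_topIso_inv]
        exact hys
      obtain ⟨y', hy', hyy'⟩ := this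
      have : y' = y := (f ⁻¹ᵁ V).ι.isOpenEmbedding.injective hyy'
      rwa [this] at hy'

end Groth.Agent.S4409
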