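import Groth.Statements.S4431
import Mathlib

set_option autoImplicit false
universe u
open EGA2

namespace Groth.Agent.S4431

/-- Let A be an integral domain with fraction field K, E a finitely generated torsion-free A-module and
u an endomorphism of E whose characteristic-polynomial coefficients (those of u ⊗ 1 on K ⊗_A E) all
lie in A. If the determinant of u is the image of a unit of A, then u is an automorphism of E. -/
theorem result (A : Type u) [CommRing A] [IsDomain A] (K : Type u) [Field K]
    [Algebra A K] [IsFractionRing A K] (E : Type u) [AddCommGroup E] [Module A E] [Module.Finite A E]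
    [Module.IsTorsionFree A E]
    (u : E →ₗ[A] E) (hcoeff : ∀ i : ℕ, ((u.baseChange K).charpoly).coeff i ∈ (algebraMap A K).range)
    (a : A) (ha : algebraMap A K a = LinearMap.det (u.baseChange K)) (hunit : IsUnit a) :
    Function.Bijective u := by
  classical
  -- injectivity of E → K ⊗ E
  have hinj : Function.Injective (TensorProduct.mk A K E 1) := by
    rw [injective_iff_map_eq_zero]
    intro x hx
    have : IsLocalizedModule (nonZeroDivisors A) (TensorProduct.mk A K E 1) :=
      inferInstance
    obtain ⟨s, hs⟩ := (IsLocalizedModule.eq_zero_iff (nonZeroDivisors A)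
      (TensorProduct.mk A K E 1)).mp hx
    have hreg : IsRegular (s : A) := isRegular_iff_mem_nonZeroDivisors.mpr s.2
    have := Module.IsTorsionFree.isSMulRegular (M := E) hreg
    exact this (show (s : A) • x = (s : A) • (0 : E) by rw [smul_zero]; exact hs)
  -- lift the characteristic polynomial
  obtain ⟨q, hq⟩ : ∃ q : Polynomial A, q.map (algebraMap A K) = (u.baseChange K).charpoly := by
    have : (u.baseChange K).charpoly ∈ Polynomial.lifts (algebraMap A K) := by
      rw [Polynomial.lifts_iff_coeff_lifts]
      intro n
      exact hcoeff n
    exact (Polynomial.mem_lifts _).mp this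
  have h1 : Polynomial.aeval (u.baseChange K) (q.map (algebraMap A K)) = 0 := by
    rw [hq]; exact LinearMap.aeval_self_charpoly _
  rw [Polynomial.aeval_map_algebraMap] at h1
  have h2 : (Polynomial.aeval u q).baseChange K = 0 := by
    have := Polynomial.aeval_algHom_apply (Module.End.baseChangeHom A K E) u q
    have h0 : Module.End.baseChangeHom A K E (Polynomial.aeval u q) =
        (Polynomial.aeval u q).baseChange K := rfl
    rw [← h0, ← this]
    exact h1
  have h3 : Polynomial.aeval u q = 0 := by
    ext x
    apply hinj
    have := LinearMap.congr_fun h2 ((1 : K) ⊗ₜ[A] x)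
    simpa using this
  -- constant coefficient
  have h4 : q.coeff 0 = (-1) ^ Module.finrank K (TensorProduct A K E) * a := by
    apply IsFractionRing.injective A K
    rw [← Polynomial.coeff_map, hq, map_mul, ha, LinearMap.det_eq_sign_charpoly_coeff, map_pow,
      map_neg, map_one, ← mul_assoc, ← mul_pow]
    simp
  have h5 : IsUnit (q.coeff 0) := by
    rw [h4]
    exact ((IsUnit.neg isUnit_one).pow _).mul hunit
  set w := Polynomial.aeval u q.divX with hw
  have h6 : w * u + (q.coeff 0) • (1 : Module.End A E) = 0 := by
    have := congrArg (Polynomial.aeval u) (Polynomial.divX_mul_X_add q)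
    rw [h3, map_add, map_mul, Polynomial.aeval_X, Polynomial.aeval_C] at this
    rw [Algebra.algebraMap_eq_smul_one] at this
    exact this
  have hcomm : w * u = u * w := by
    have hX : Polynomial.aeval u (Polynomial.X : Polynomial A) = u := Polynomial.aeval_X u
    calc w * u = Polynomial.aeval u (q.divX) * Polynomial.aeval u Polynomial.X := by rw [hX]
      _ = Polynomial.aeval u (q.divX * Polynomial.X) := (map_mul _ _ _).symm
      _ = Polynomial.aeval u (Polynomial.X * q.divX) := by rw [mul_comm]
      _ = u * w := by rw [map_mul, hX]
  obtain ⟨c, hc⟩ := h5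
  constructor
  · rw [injective_iff_map_eq_zero]
    intro x hx
    have := LinearMap.congr_fun h6 x
    simp only [LinearMap.add_apply, Module.End.mul_apply, hx, map_zero, LinearMap.smul_apply,
      Module.End.one_apply, LinearMap.zero_apply, zero_add] at this
    rw [← hc] at this
    have h7 := congrArg (fun y => ((c⁻¹ : Aˣ) : A) • y) this
    simpa [smul_smul] using h7
  · intro y
    refine ⟨w (-((c⁻¹ : Aˣ) : A) • y), ?_⟩
    have := LinearMap.congr_fun h6 (-((c⁻¹ : Aˣ) : A) • y)
    rw [hcomm] at this
    simp only [LinearMap.add_apply, Module.End.mul_apply, LinearMap.smul_apply,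
      Module.End.one_apply, LinearMap.zero_apply] at this
    rw [← hc, smul_smul] at this
    have h8 : (c : A) * -((c⁻¹ : Aˣ) : A) = -1 := by
      rw [mul_neg, ← Units.val_mul, mul_inv_cancel, Units.val_one]
    rw [h8, neg_one_smul] at this
    exact eq_of_sub_eq_zero (by rw [sub_eq_add_neg]; exact this)

end Groth.Agent.S4431
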