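import Groth.Statements.S4433
import Mathlib
import Groth.Agent.Lib.Helper4.DVRDom

set_option autoImplicit false
universe u
open EGA2

namespace Groth.Agent.S4433

/-- Let A be a Noetherian local domain that is not a field, K its field of fractions and L a finitely
generated field extension of K. Then there is a discrete valuation subring of L, with fraction field
L, which contains the image of A and dominates A (elements of the maximal ideal of A have valuation
less than one). -/
theorem result (A : Type u) [CommRing A] [IsDomain A] [IsNoetherianRing A]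
    [IsLocalRing A] (hA : ¬ IsField A) (K : Type u) [Field K] [Algebra A K] [IsFractionRing A K]
    (L : Type u) [Field L] [Algebra K L] [Algebra A L] [IsScalarTower A K L] (hfg : (⊤ : IntermediateField K L).FG) :
    ∃ R : ValuationSubring L, IsDiscreteValuationRing R ∧ (∀ a : A, algebraMap A L a ∈ R) ∧
      ∀ a ∈ IsLocalRing.maximalIdeal A, R.valuation (algebraMap A L a) < 1 := by
  classical
  obtain ⟨S, hS⟩ := hfg
  have hinjK : Function.Injective (algebraMap A K) := IsFractionRing.injective A K
  have hinj : Function.Injective (algebraMap A L) := by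
    rw [IsScalarTower.algebraMap_eq A K L]
    exact (algebraMap K L).injective.comp hinjK
  have hcl : Subfield.closure (Set.range (algebraMap A L) ∪ (S : Set L)) = ⊤ := by
    have h1 : (IntermediateField.adjoin K (S : Set L)).toSubfield = ⊤ := by
      rw [hS]; rfl
    rw [IntermediateField.adjoin_toSubfield] at h1
    rw [eq_top_iff, ← h1, Subfield.closure_le]
    rintro y (⟨k, rfl⟩ | hy)
    · obtain ⟨a, s, hs, rfl⟩ := IsFractionRing.div_surjective (A := A) k
      rw [map_div₀, ← IsScalarTower.algebraMap_apply, ← IsScalarTower.algebraMap_apply]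
      exact Subfield.div_mem _ (Subfield.subset_closure (Or.inl ⟨a, rfl⟩))
        (Subfield.subset_closure (Or.inl ⟨s, rfl⟩))
    · exact Subfield.subset_closure (Or.inr hy)
  obtain ⟨a₀, ha₀, ha₀'⟩ : ∃ a₀ ∈ IsLocalRing.maximalIdeal A, a₀ ≠ 0 := by
    by_contra h
    push Not at h
    apply hA
    have hbot : IsLocalRing.maximalIdeal A = ⊥ := by
      rw [eq_bot_iff]
      intro a ha
      exact h a ha
    exact IsLocalRing.isField_iff_maximalIdeal_eq.mpr hbot
  obtain ⟨R, hR, hAR, hmR⟩ := Groth.Agent.Helper4.DVRDom.exists_dvr A hinj S hcl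
    (IsLocalRing.maximalIdeal A) (IsLocalRing.maximalIdeal.isMaximal A).ne_top a₀ ha₀ ha₀'
  refine ⟨R, hR, hAR, fun a ha => ?_⟩
  exact (ValuationSubring.mem_nonunits_iff R).mp (hmR a ha)

end Groth.Agent.S4433
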