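import Groth.Statements.S4434
import Mathlib
import Groth.Agent.Lib.Helper4.DVRDom

set_option autoImplicit false
universe u
open EGA2

namespace Groth.Agent.S4434

/-- Let A be a Noetherian domain with field of fractions K and L a finitely generated field extension of
K. The integral closure of A in L is the intersection of the discrete valuation subrings of L (with
fraction field L) containing the image of A: an element of L is integral over A exactly when it
belongs to all of them. -/
theorem result (A : Type u) [CommRing A] [IsDomain A] [IsNoetherianRing A]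
    (K : Type u) [Field K] [Algebra A K] [IsFractionRing A K]
    (L : Type u) [Field L] [Algebra K L] [Algebra A L] [IsScalarTower A K L] (hfg : (⊤ : IntermediateField K L).FG) (x : L) :
    IsIntegral A x ↔ ∀ R : ValuationSubring L, IsDiscreteValuationRing R → (∀ a : A, algebraMap A L a ∈ R) → x ∈ R := by
  classical
  have hinjK : Function.Injective (algebraMap A K) := IsFractionRing.injective A K
  have hinj : Function.Injective (algebraMap A L) := by
    rw [IsScalarTower.algebraMap_eq A K L]
    exact (algebraMap K L).injective.comp hinjK
  constructor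
  · intro hx R _ hAR
    letI : Algebra A R :=
      ((algebraMap A L).codRestrict R.toSubring hAR).toAlgebra
    haveI : IsScalarTower A R L := IsScalarTower.of_algebraMap_eq fun _ => rfl
    have h1 : IsIntegral R x := hx.tower_top
    obtain ⟨y, hy⟩ := IsIntegrallyClosed.algebraMap_eq_of_integral h1
    rw [← hy]
    exact y.2
  · intro h
    by_contra hx
    have hx0 : x ≠ 0 := by
      rintro rfl
      exact hx isIntegral_zero
    obtain ⟨S, hS⟩ := hfg
    have hcl : Subfield.closure (Set.range (algebraMap A L) ∪ (S : Set L)) = ⊤ := by
      have h1 : (IntermediateField.adjoin K (S : Set L)).toSubfield = ⊤ := by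
        rw [hS]; rfl
      rw [IntermediateField.adjoin_toSubfield] at h1
      rw [eq_top_iff, ← h1, Subfield.closure_le]
      rintro y (⟨k, rfl⟩ | hy)
      · obtain ⟨a, s, hs, rfl⟩ := IsFractionRing.div_surjective (A := A) k
        rw [map_div₀, ← IsScalarTower.algebraMap_apply, ← IsScalarTower.algebraMap_apply]
        exact Subfield.div_mem _ (Subfield.subset_closure (Or.inl ⟨a, rfl⟩))
          (Subfield.subset_closure (Or.inl ⟨s, rfl⟩))
      · exact Subfield.subset_closure (Or.inr hy)
    -- the ring `A' = A[x⁻¹]`
    let y : L := x⁻¹
    have hy0 : y ≠ 0 := inv_ne_zero hx0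
    letI : Invertible y := invertibleOfNonzero hy0
    let A' := Algebra.adjoin A ({y} : Set L)
    have hA'noeth : IsNoetherianRing A' := by
      have := Groth.Agent.Helper4.DVRDom.isNoetherianRing_adjoin A ({y} : Finset L)
      rw [Finset.coe_singleton] at this
      exact this
    let y' : A' := ⟨y, Algebra.subset_adjoin rfl⟩
    have hJ : Ideal.span ({y'} : Set A') ≠ ⊤ := by
      intro hJ
      apply hx
      have h2 : (⊥ : Ideal A).map (algebraMap A A') ⊔ Ideal.span {y'} = ⊤ := by
        rw [hJ]; exact sup_top_eq _
      obtain ⟨p, hp, hpx⟩ := Algebra.exists_aeval_invOf_eq_zero_of_idealMap_adjoin_sup_span_eq_top y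
        (⊥ : Ideal A) bot_ne_top h2
      have hp1 : p.leadingCoeff = 1 := by
        have := (Ideal.mem_bot).mp hp
        exact sub_eq_zero.mp this
      have hxy : ⅟y = x := by
        rw [invOf_eq_inv]; exact inv_inv x
      rw [hxy] at hpx
      exact ⟨p, hp1, hpx⟩
    have hinj' : Function.Injective (algebraMap A' L) := Subtype.val_injective
    have hcl' : Subfield.closure (Set.range (algebraMap A' L) ∪ (S : Set L)) = ⊤ := by
      rw [eq_top_iff, ← hcl]
      apply Subfield.closure_mono
      apply Set.union_subset_union_left
      rintro _ ⟨a, rfl⟩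
      exact ⟨algebraMap A A' a, rfl⟩
    have hy'0 : y' ≠ 0 := fun h0 => hy0 (congrArg Subtype.val h0)
    obtain ⟨R, hR, hAR, hmR⟩ := Groth.Agent.Helper4.DVRDom.exists_dvr A' hinj' S hcl'
      (Ideal.span {y'}) hJ y' (Ideal.mem_span_singleton_self y') hy'0
    have hxR : x ∈ R := h R hR (fun a => hAR (algebraMap A A' a))
    have hyR : y ∈ R.nonunits := hmR y' (Ideal.mem_span_singleton_self y')
    rcases (ValuationSubring.inv_mem_nonunits_iff (A := R)).mp hyR with h0 | h0
    · exact hx0 h0
    · exact h0 hxR

end Groth.Agent.S4434
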