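import Groth.Statements.S4445
import Groth.Agent.Lib.Helper4.CurveMor

set_option autoImplicit false
universe u
open CategoryTheory CategoryTheory.Limits AlgebraicGeometry
attribute [local instance] Curv2.stalkAlgebra
open EGA2

namespace Groth.Agent.S4445

/-- Let X be a normal irreducible algebraic curve over a field k with field of rational functions K, and
Y an integral complete (proper over k) algebraic curve with field of rational functions L. Dominant
k-morphisms X ⟶ Y correspond bijectively to k-embeddings L → K: for every k-algebra homomorphism φ :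
L → K there is exactly one k-morphism u : X ⟶ Y mapping the generic point of X to the generic point
of Y and inducing φ on the stalks at the generic points. -/
theorem result (k : Type u) [Field k] (X Y : Scheme.{u})
    [X.Over (Spec (CommRingCat.of k))] [LocallyOfFiniteType (X ↘ (Spec (CommRingCat.of k)))]
    [QuasiCompact (X ↘ (Spec (CommRingCat.of k)))] [IsSeparated (X ↘ (Spec (CommRingCat.of k)))] [IsIntegral X]
    (hX : ∀ x : X, IsClosed ({x} : Set X) → ringKrullDim (X.presheaf.stalk x) = 1) (hnorm : Pi1.IsNormalScheme X)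
    [Y.Over (Spec (CommRingCat.of k))] [IsProper (Y ↘ (Spec (CommRingCat.of k)))] [IsIntegral Y]
    (hY : ∀ y : Y, IsClosed ({y} : Set Y) → ringKrullDim (Y.presheaf.stalk y) = 1)
    (φ : Y.functionField →ₐ[k] X.functionField) :
    ∃! u : X ⟶ Y, u ≫ (Y ↘ (Spec (CommRingCat.of k))) = X ↘ (Spec (CommRingCat.of k)) ∧
      ∃ hu : u.base (genericPoint X) = genericPoint Y,
        (Y.presheaf.stalkSpecializes (specializes_of_eq hu) ≫ u.stalkMap (genericPoint X)).hom = (φ : Y.functionField →+* X.functionField) := by
  have hψ : (Spec.map (CommRingCat.ofHom (φ : Y.functionField →+* X.functionField)) ≫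
      Y.fromSpecStalk (genericPoint Y)) ≫ (Y ↘ Spec (CommRingCat.of k)) =
      X.fromSpecStalk (genericPoint X) ≫ (X ↘ Spec (CommRingCat.of k)) := by
    rw [Category.assoc, Groth.Agent.Helper4.CurveMor.fromSpecStalk_over k Y (genericPoint Y),
      Groth.Agent.Helper4.CurveMor.fromSpecStalk_over k X (genericPoint X), ← Spec.map_comp]
    congr 1
    ext c
    exact φ.commutes c
  obtain ⟨U, hξU, g, hg1, hg2⟩ := spread_out_of_isGermInjective'
    (X ↘ Spec (CommRingCat.of k)) (Y ↘ Spec (CommRingCat.of k)) (x := genericPoint X) _ hψ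
  have hU : Dense (U : Set X) := by
    have hd : Dense ({genericPoint X} : Set X) := by
      rw [dense_iff_closure_eq]
      exact (genericPoint_spec X)
    exact hd.mono (Set.singleton_subset_iff.mpr hξU)
  obtain ⟨u, ⟨hu1, hu2⟩, -⟩ :=
    Groth.Agent.Helper4.CurveExt.existsUnique_extension_curve k X Y hX hnorm U hU g hg2
  have hfu : X.fromSpecStalk (genericPoint X) ≫ u =
      Spec.map (CommRingCat.ofHom (φ : Y.functionField →+* X.functionField)) ≫
        Y.fromSpecStalk (genericPoint Y) := by
    rw [hg1, ← hu1, ← Category.assoc, Scheme.Opens.fromSpecStalkOfMem_ι]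
  have key : ∀ (u' : X ⟶ Y) (hu' : u'.base (genericPoint X) = genericPoint Y),
      X.fromSpecStalk (genericPoint X) ≫ u' =
        Spec.map (Y.presheaf.stalkSpecializes (specializes_of_eq hu') ≫
          u'.stalkMap (genericPoint X)) ≫ Y.fromSpecStalk (genericPoint Y) := fun u' hu' =>
    Groth.Agent.Helper4.CurveMor.fromSpecStalk_comp u' (genericPoint X) (genericPoint Y) hu'
  have hgen : u.base (genericPoint X) = genericPoint Y := by
    have h1 : u.base (genericPoint X) ∈ Set.range (Y.fromSpecStalk (genericPoint Y)) := by
      have h2 : X.fromSpecStalk (genericPoint X) (IsLocalRing.closedPoint _) = genericPoint X :=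
        Scheme.fromSpecStalk_closedPoint
      rw [← h2, ← Scheme.Hom.comp_apply, hfu, Scheme.Hom.comp_apply]
      exact ⟨_, rfl⟩
    rw [Scheme.range_fromSpecStalk] at h1
    exact (h1.antisymm ((genericPoint_spec Y).specializes trivial)).eq
  refine ⟨u, ⟨hu2, hgen, ?_⟩, ?_⟩
  · have h3 := (key u hgen).symm.trans hfu
    rw [cancel_mono] at h3
    have h4 := Spec.map_injective h3
    rw [h4]
    rfl
  · rintro u' ⟨hu'1, hu', hst⟩
    have h5 : X.fromSpecStalk (genericPoint X) ≫ u' = X.fromSpecStalk (genericPoint X) ≫ u := by
      rw [key u' hu', hfu]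
      congr 2
      ext a
      exact congrFun (congrArg DFunLike.coe hst) a
    exact ext_of_isDominant_of_isSeparated (Y ↘ Spec (CommRingCat.of k))
      (hu'1.trans hu2.symm) (X.fromSpecStalk (genericPoint X)) h5

end Groth.Agent.S4445
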