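import Mathlib
import Groth.Statements.S4449
import Groth.Agent.Lib.Helper19.ValEx3

set_option autoImplicit false
universe u
open CategoryTheory CategoryTheory.Limits AlgebraicGeometry
open EGA2

namespace Groth.Agent.S4449

/-- Case of an arbitrary integral separated base: let Y and X be integral separated schemes and f : X ⟶
Y a dominant morphism of finite type, ξ the generic point of X. Suppose that every valuation subring
R of K(X) other than K(X) itself which dominates the local ring of Y at a point y (via O_{Y,y} →
O_{Y,f(ξ)} → K(X)) dominates the local ring of X at some point x (via O_{X,x} → K(X)). Then f is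
proper. (Compare the locally Noetherian variant with discrete valuation rings.) -/
theorem result {X Y : Scheme.{u}} [IsIntegral X] [IsIntegral Y]
    [X.IsSeparated] [Y.IsSeparated] (f : X ⟶ Y) [IsDominant f] [LocallyOfFiniteType f] [QuasiCompact f]
    (h : ∀ (R : ValuationSubring X.functionField), R ≠ ⊤ →
      ∀ (y : Y) (hy : f.base (genericPoint X) ⤳ y),
        ((∀ a : Y.presheaf.stalk y, (Y.presheaf.stalkSpecializes hy ≫ f.stalkMap (genericPoint X)).hom a ∈ R) ∧
          ∀ a ∈ IsLocalRing.maximalIdeal (Y.presheaf.stalk y),
            R.valuation ((Y.presheaf.stalkSpecializes hy ≫ f.stalkMap (genericPoint X)).hom a) < 1) →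
        ∃ x : X, (∀ a : X.presheaf.stalk x, algebraMap (X.presheaf.stalk x) X.functionField a ∈ R) ∧
          ∀ a ∈ IsLocalRing.maximalIdeal (X.presheaf.stalk x), R.valuation (algebraMap (X.presheaf.stalk x) X.functionField a) < 1) :
    IsProper f := by
  classical
  haveI : IsSeparated f := inferInstance
  have hex : ValuativeCriterion.Existence f := by
    refine Groth.Agent.Lib.Helper19.ValEx.existence' f (ι := PUnit.{1})
      (fun _ => (X.functionField : Type u)) (fun _ => X.fromSpecStalk (genericPoint X)) ?_ ?_
    · intro x
      refine ⟨PUnit.unit, ?_⟩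
      have : (X.fromSpecStalk (genericPoint X)).base (IsLocalRing.closedPoint X.functionField) =
          genericPoint X := Scheme.fromSpecStalk_closedPoint
      rw [this]
      exact genericPoint_specializes x
    · intro _ A φ hφ
      have huniq : ∀ φ₁ φ₂ : Spec (CommRingCat.of A) ⟶ X,
          Spec.map (CommRingCat.ofHom A.subtype) ≫ φ₁ = X.fromSpecStalk (genericPoint X) →
          φ₁ ≫ f = φ →
          Spec.map (CommRingCat.ofHom A.subtype) ≫ φ₂ = X.fromSpecStalk (genericPoint X) →
          φ₂ ≫ f = φ → φ₁ = φ₂ := by
        intro φ₁ φ₂ h1 h1' h2 h2'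
        let sq : ValuativeCommSq f :=
          { R := A, K := X.functionField, i₁ := X.fromSpecStalk (genericPoint X), i₂ := φ,
            commSq := ⟨hφ.symm⟩ }
        have := IsSeparated.valuativeCriterion f sq
        exact congrArg CommSq.LiftStruct.l
          (Subsingleton.elim (⟨φ₁, h1, h1'⟩ : sq.commSq.LiftStruct) ⟨φ₂, h2, h2'⟩)
      suffices hex : ∃ φ' : Spec (CommRingCat.of A) ⟶ X,
          Spec.map (CommRingCat.ofHom A.subtype) ≫ φ' = X.fromSpecStalk (genericPoint X) ∧
            φ' ≫ f = φ by
        obtain ⟨φ', h1, h2⟩ := hex
        exact ⟨φ', ⟨h1, h2⟩, fun φ'' ⟨h1', h2'⟩ => huniq φ'' φ' h1' h2' h1 h2⟩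
      have hsecond : ∀ φ' : Spec (CommRingCat.of A) ⟶ X,
          Spec.map (CommRingCat.ofHom A.subtype) ≫ φ' = X.fromSpecStalk (genericPoint X) →
          φ' ≫ f = φ := by
        intro φ' h1
        let sqY : ValuativeCommSq (terminal.from Y) :=
          { R := A, K := X.functionField, i₁ := X.fromSpecStalk (genericPoint X) ≫ f,
            i₂ := terminal.from _, commSq := ⟨terminal.hom_ext _ _⟩ }
        have := IsSeparated.valuativeCriterion (terminal.from Y) sqY
        exact congrArg CommSq.LiftStruct.l
          (Subsingleton.elim (⟨φ' ≫ f, (by
            change Spec.map (CommRingCat.ofHom A.subtype) ≫ φ' ≫ f = _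
            rw [← Category.assoc, h1]), terminal.hom_ext _ _⟩ :
            sqY.commSq.LiftStruct) ⟨φ, hφ, terminal.hom_ext _ _⟩)
      by_cases hA : A = ⊤
      · let e : X.functionField →+* A :=
          RingHom.codRestrict (RingHom.id _) A.toSubring (fun x => by rw [hA]; trivial)
        have he : CommRingCat.ofHom e ≫ CommRingCat.ofHom A.subtype = 𝟙 _ := by
          ext a; rfl
        have h1 : Spec.map (CommRingCat.ofHom A.subtype) ≫
            Spec.map (CommRingCat.ofHom e) ≫ X.fromSpecStalk (genericPoint X) =
              X.fromSpecStalk (genericPoint X) := by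
          rw [← Category.assoc, ← Spec.map_comp, he, Spec.map_id, Category.id_comp]
        exact ⟨_, h1, hsecond _ h1⟩
      · have hy : f.base (genericPoint X) ⤳ φ.base (IsLocalRing.closedPoint A) := by
          have e1 : f.base (genericPoint X) = φ.base
              ((Spec.map (CommRingCat.ofHom A.subtype)).base
                (IsLocalRing.closedPoint X.functionField)) := by
            have h0 := congrArg (fun m => m.base (IsLocalRing.closedPoint X.functionField)) hφ
            have h00 : (X.fromSpecStalk (genericPoint X)).base
                (IsLocalRing.closedPoint X.functionField) = genericPoint X :=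
              Scheme.fromSpecStalk_closedPoint
            simp only [Scheme.Hom.comp_base, TopCat.hom_comp, ContinuousMap.comp_apply] at h0
            rw [h00] at h0
            exact h0.symm
          rw [e1]
          exact (IsLocalRing.specializes_closedPoint _).map φ.continuous
        have hα : Spec.map (Scheme.stalkClosedPointTo φ) ≫
            Y.fromSpecStalk (φ.base (IsLocalRing.closedPoint A)) = φ :=
          Scheme.Spec_stalkClosedPointTo_fromSpecStalk φ
        have key : Scheme.stalkClosedPointTo φ ≫ CommRingCat.ofHom A.subtype =
            Y.presheaf.stalkSpecializes hy ≫ f.stalkMap (genericPoint X) := by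
          apply Spec.map_injective
          rw [← cancel_mono (Y.fromSpecStalk (φ.base (IsLocalRing.closedPoint A))),
            Spec.map_comp, Category.assoc, hα, hφ, Spec.map_comp, Category.assoc,
            Scheme.SpecMap_stalkSpecializes_fromSpecStalk, Scheme.SpecMap_stalkMap_fromSpecStalk]
        have key' : ∀ a, (Y.presheaf.stalkSpecializes hy ≫ f.stalkMap (genericPoint X)).hom a =
            (((Scheme.stalkClosedPointTo φ).hom a : A) : X.functionField) := fun a =>
          (congrArg (fun m => m.hom a) key).symm
        obtain ⟨x, hxA, -⟩ := h A hA (φ.base (IsLocalRing.closedPoint A)) hy ⟨fun a => by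
          rw [key']; exact ((Scheme.stalkClosedPointTo φ).hom a).2, fun a ha => by
          rw [key']
          apply (ValuationSubring.valuation_lt_one_iff A _).mp
          rw [IsLocalRing.mem_maximalIdeal, mem_nonunits_iff] at ha ⊢
          exact fun hu => ha (IsLocalHom.map_nonunit a hu)⟩
        let β : X.presheaf.stalk x →+* A :=
          RingHom.codRestrict (algebraMap (X.presheaf.stalk x) X.functionField) A.toSubring hxA
        have hβ : CommRingCat.ofHom β ≫ CommRingCat.ofHom A.subtype =
            X.presheaf.stalkSpecializes ((genericPoint_spec X).specializes trivial) := by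
          ext a; rfl
        have h1 : Spec.map (CommRingCat.ofHom A.subtype) ≫
            Spec.map (CommRingCat.ofHom β) ≫ X.fromSpecStalk x =
              X.fromSpecStalk (genericPoint X) := by
          rw [← Category.assoc, ← Spec.map_comp, hβ,
            Scheme.SpecMap_stalkSpecializes_fromSpecStalk]
        exact ⟨_, h1, hsecond _ h1⟩
  haveI : UniversallyClosed f := UniversallyClosed.of_valuativeCriterion f hex
  exact {}

end Groth.Agent.S4449
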