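import Groth.Statements.S4451
import Groth.Agent.Lib.Helper4.CurveVal

set_option autoImplicit false
universe u
open CategoryTheory CategoryTheory.Limits AlgebraicGeometry
attribute [local instance] Curv2.stalkAlgebra
open EGA2

namespace Groth.Agent.S4451

/-- Let X be a normal, complete, irreducible algebraic curve over a field k with field of rational
functions K. The set of local rings of X, as subrings of K, consists of K itself (at the generic
point) and of the valuation rings of K containing k (and distinct from K): every non-generic point
has such a valuation ring as local ring, and every such valuation ring is the local ring of exactly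
one point. -/
theorem result (k : Type u) [Field k] (X : Scheme.{u})
    [X.Over (Spec (CommRingCat.of k))] [IsProper (X ↘ (Spec (CommRingCat.of k)))] [IsIntegral X]
    (hX : ∀ x : X, IsClosed ({x} : Set X) → ringKrullDim (X.presheaf.stalk x) = 1) (hnorm : Pi1.IsNormalScheme X) :
    (∀ x : X, x ≠ genericPoint X → ∃ R : ValuationSubring X.functionField, R ≠ ⊤ ∧
        (R : Set X.functionField) = Set.range (algebraMap (X.presheaf.stalk x) X.functionField)) ∧
      ∀ R : ValuationSubring X.functionField, R ≠ ⊤ → (∀ c : k, algebraMap k X.functionField c ∈ R) →
        ∃! x : X, (R : Set X.functionField) = Set.range (algebraMap (X.presheaf.stalk x) X.functionField) := by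
  haveI : IsLocallyNoetherian X :=
    LocallyOfFiniteType.isLocallyNoetherian (X ↘ (Spec (CommRingCat.of k)))
  haveI : CompactSpace X :=
    QuasiCompact.compactSpace_of_compactSpace (X ↘ (Spec (CommRingCat.of k)))
  have hdvr : ∀ x : X, x ≠ genericPoint X → IsDiscreteValuationRing (X.presheaf.stalk x) :=
    fun x hx => Groth.Agent.Helper4.CurveVal.isDiscreteValuationRing_stalk X hX hnorm x hx
  refine ⟨fun x hx => ?_, fun R hR hk => ?_⟩
  · haveI := hdvr x hx
    exact ⟨Groth.Agent.Helper4.CurveVal.valSubring X x,
      Groth.Agent.Helper4.CurveVal.valSubring_ne_top X x hx,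
      Groth.Agent.Helper4.CurveVal.coe_valSubring X x⟩
  · obtain ⟨x, θ, hθ, hc⟩ := Groth.Agent.Helper4.CurveVal.exists_dominated k X R hk
    have hx : x ≠ genericPoint X := by
      intro hxe
      subst hxe
      apply hR
      rw [eq_top_iff]
      intro r _
      have hs : Function.Surjective
          (@algebraMap (X.presheaf.stalk (genericPoint X)) X.functionField _ _
            (stalkFunctionFieldAlgebra X (genericPoint X))) :=
        (@IsFractionRing.surjective_iff_isField (X.presheaf.stalk (genericPoint X)) _
          X.functionField _ (stalkFunctionFieldAlgebra X (genericPoint X))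
          inferInstance inferInstance).mpr (Field.toIsField X.functionField)
      obtain ⟨a, rfl⟩ := hs r
      rw [← hc]
      exact (θ a).2
    haveI := hdvr x hx
    have hRx := Groth.Agent.Helper4.CurveVal.coe_eq_range_of_dominated X R x θ hθ hc
    refine ⟨x, hRx, fun x' hx' => ?_⟩
    have h1 : x' ⤳ x := Groth.Agent.Helper4.CurveVal.specializes_of_range_subset k X x x'
      (by rw [← hRx, ← hx'])
    have h2 : x ⤳ x' := Groth.Agent.Helper4.CurveVal.specializes_of_range_subset k X x' x
      (by rw [← hRx, ← hx'])
    exact (h1.antisymm h2).eq

end Groth.Agent.S4451
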