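import Groth.Statements.S4457
import Mathlib
import Groth.Agent.Lib.Helper13.RpushRel
import Groth.Agent.Lib.Helper13.ShfBasis
import Groth.Agent.Lib.Helper13.RpushShf

set_option autoImplicit false
universe u
open Coherent

namespace Groth.Agent.S4457

open Coherent

open AlgebraicGeometry CategoryTheory in

open AlgebraicGeometry CategoryTheory in
/-- Let f : X → Y be a separated quasi-compact morphism, g : Y → Z an affine morphism and F a
quasi-coherent O_X-module. Then for every p ≥ 0, R^p (g ∘ f)_* F is isomorphic to g_*(R^p f_* F)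
(higher direct images and direct image of the underlying abelian sheaves). The source shows that the
canonical comparison map is an isomorphism; only the existence of an isomorphism is asserted here. -/
theorem result {X Y Z : Scheme.{u}} (f : X ⟶ Y) (g : Y ⟶ Z)
    [IsSeparated f] [QuasiCompact f] [IsAffineHom g] (F : X.Modules) [Coh.IsQCoh F] (p : ℕ) :
    Nonempty ((Coh.RpushAb (f ≫ g) p).obj (Coh.toAb F) ≅
      (Coh.pushAb g).obj ((Coh.RpushAb f p).obj (Coh.toAb F))) := by
  haveI : F.IsQuasicoherent := ‹Coh.IsQCoh F›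
  obtain ⟨e₁⟩ := Groth.Agent.Helper13.RpushShf.main (Opens.grothendieckTopology X)
    (Opens.grothendieckTopology Z) (TopologicalSpace.Opens.map (f ≫ g).base) (Coh.toAb F) p
  obtain ⟨e₂⟩ := Groth.Agent.Helper13.RpushShf.main (Opens.grothendieckTopology X)
    (Opens.grothendieckTopology Y) (TopologicalSpace.Opens.map f.base) (Coh.toAb F) p
  -- the sheaf `R^p f_* F` in sheafified form
  let 𝒢 := (presheafToSheaf (Opens.grothendieckTopology Y) AddCommGrpCat.{u}).obj
    (Groth.Agent.Helper13.RpushGlobal.P f F p)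
  let η := toSheafify (Opens.grothendieckTopology Y) (Groth.Agent.Helper13.RpushGlobal.P f F p)
  -- the comparison on `Z`
  let ψ : Groth.Agent.Helper13.RpushGlobal.P (f ≫ g) F p ⟶ ((Coh.pushAb g).obj 𝒢).obj :=
    { app := fun W => η.app (Opposite.op (g ⁻¹ᵁ W.unop))
      naturality := fun W W' i => η.naturality ((TopologicalSpace.Opens.map g.base).op.map i) }
  obtain ⟨e₃⟩ := Groth.Agent.Helper13.ShfBasis.nonempty_iso_of_basis (Y := Z.toTopCat)
    {W | IsAffineOpen W} Z.isBasis_affineOpens ((Coh.pushAb g).obj 𝒢) ψ (by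
      intro W hW
      exact Groth.Agent.Helper13.RpushRel.toSheafify_bijective f (g ⁻¹ᵁ W) F p
        (IsAffineOpen.preimage hW g))
  exact ⟨e₁ ≪≫ e₃ ≪≫ (Coh.pushAb g).mapIso e₂.symm⟩

end Groth.Agent.S4457
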