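import Groth.Statements.S4459
import Mathlib

set_option autoImplicit false
universe u
open Coherent

namespace Groth.Agent.S4459

open AlgebraicGeometry CategoryTheory in
/-- Let A be a Noetherian ring which is separated and complete for the J-adic topology, and let f : X →
Spec A be a morphism of schemes which is a closed map on underlying spaces. Then every open subset
of X containing the inverse image of V(J) is all of X. (The published statement also assumes X of
finite type over A; that hypothesis is not used.) -/
theorem result (A : Type u) [CommRing A] [IsNoetherianRing A]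
    (J : Ideal A) [IsAdicComplete J A] {X : Scheme.{u}} (f : X ⟶ Spec (CommRingCat.of A))
    (hf : IsClosedMap f.base) (U : X.Opens)
    (hU : f.base ⁻¹' (PrimeSpectrum.zeroLocus (J : Set A)) ⊆ (U : Set X)) : U = ⊤ := by
  by_contra hne
  have hex : ∃ x : X, x ∉ U := by
    by_contra h
    exact hne (top_le_iff.mp fun x _ => by_contra fun hx => h ⟨x, hx⟩)
  obtain ⟨x, hx⟩ := hex
  have hZ : IsClosed ((U : Set X)ᶜ) := U.isOpen.isClosed_compl
  have hT : IsClosed (f.base '' ((U : Set X)ᶜ)) := hf _ hZ
  obtain ⟨I, hI⟩ := (PrimeSpectrum.isClosed_iff_zeroLocus_ideal _).mp hT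
  have hIne : I ≠ ⊤ := by
    rintro rfl
    have : f.base x ∈ f.base '' ((U : Set X)ᶜ) := ⟨x, hx, rfl⟩
    rw [hI] at this
    simp at this
    exact this
  obtain ⟨m, hm, hIm⟩ := Ideal.exists_le_maximal I hIne
  have hmT : (⟨m, hm.isPrime⟩ : PrimeSpectrum A) ∈ f.base '' ((U : Set X)ᶜ) := by
    rw [hI]
    exact hIm
  obtain ⟨z, hz, hzm⟩ := hmT
  have hJm : J ≤ m := by
    refine (IsAdicComplete.le_jacobson_bot J).trans ?_
    exact sInf_le ⟨bot_le, hm⟩
  apply hz
  apply hU
  change f.base z ∈ PrimeSpectrum.zeroLocus (J : Set A)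
  rw [hzm]
  exact hJm

end Groth.Agent.S4459
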