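import Groth.Statements.S4466
import Groth.Agent.Lib.Helper26.PnEuler

set_option autoImplicit false
universe u
open Coherent

namespace Groth.Agent.S4466

open AlgebraicGeometry CategoryTheory in
/-- Let k be a field, r > 0 and n any integer. Then the Euler characteristic of the twisting sheaf O(n)
on projective r-space over k, namely the alternating sum of the dimensions of H^j(P^r_k, O(n)) for 0
≤ j ≤ r, equals the binomial coefficient C(n+r, r), understood as the binomial polynomial evaluated
at the integer n+r (so that it makes sense and is correct for negative n too). -/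
theorem result (k : Type u) [Field k] (r : ℕ) (hr : 0 < r)
    (n : ℤ) :
    ((Finset.range (r + 1)).sum fun j => (-1 : ℤ) ^ j *
        (Module.finrank k (Coh.HH (CohB1.ProjSpace r k) (Twist.twistProjSpace r k n) j) : ℤ)) =
      Ring.choose (n + r) r := by
  classical
  have hsingle : ∀ (j₀ : ℕ), j₀ ∈ Finset.range (r + 1) →
      (∀ j ∈ Finset.range (r + 1), j ≠ j₀ →
        Module.finrank k (Coh.HH (CohB1.ProjSpace r k) (Twist.twistProjSpace r k n) j) = 0) →
      ((Finset.range (r + 1)).sum fun j => (-1 : ℤ) ^ j *
        (Module.finrank k (Coh.HH (CohB1.ProjSpace r k) (Twist.twistProjSpace r k n) j) : ℤ)) =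
      (-1 : ℤ) ^ j₀ *
        (Module.finrank k (Coh.HH (CohB1.ProjSpace r k) (Twist.twistProjSpace r k n) j₀) : ℤ) := by
    intro j₀ hj₀ h
    rw [Finset.sum_eq_single j₀]
    · intro j hj hne
      rw [h j hj hne]
      simp
    · intro hcon
      exact absurd hj₀ hcon
  by_cases h0 : 0 ≤ n
  · -- nonnegative twist
    obtain ⟨m, rfl⟩ := Int.eq_ofNat_of_zero_le h0
    rw [hsingle 0 (Finset.mem_range.2 (by omega))]
    · rw [Groth.Agent.Helper26.PnCoh.finrank_H0, pow_zero, one_mul]
      have : ((m : ℤ) + (r : ℤ)) = ((m + r : ℕ) : ℤ) := by push_cast; ring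
      rw [this, Ring.choose_natCast]
    · intro j _ hne
      apply Groth.Agent.Helper26.PnCoh.finrank_H_zero
      · intro h; exact hne h.1
      · intro h; omega
  · by_cases h1 : n ≤ -((r : ℤ) + 1)
    · -- very negative twist
      obtain ⟨m, hm⟩ : ∃ m : ℕ, n = -((r : ℤ) + 1 + m) :=
        ⟨(-n - r - 1).toNat, by omega⟩
      subst hm
      rw [hsingle r (Finset.mem_range.2 (by omega))]
      · rw [Groth.Agent.Helper26.PnCoh.finrank_Htop]
        have h2 : (-((r : ℤ) + 1 + m) + r) = -((m + 1 : ℕ) : ℤ) := by push_cast; ring
        rw [h2, Ring.choose_neg]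
        have h3 : (((m + 1 : ℕ) : ℤ) + (r : ℤ) - 1) = ((m + r : ℕ) : ℤ) := by push_cast; ring
        rw [h3, Ring.choose_natCast]
        rcases Nat.even_or_odd r with he | ho
        · rw [Int.negOnePow_even _ (by exact_mod_cast he), he.neg_one_pow]
          simp
        · rw [Int.negOnePow_odd _ (by exact_mod_cast ho), ho.neg_one_pow]
          simp
      · intro j _ hne
        apply Groth.Agent.Helper26.PnCoh.finrank_H_zero
        · intro h; omega
        · intro h; exact hne h.1
    · -- intermediate twist: everything vanishes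
      rw [Finset.sum_eq_zero]
      · obtain ⟨t, ht⟩ : ∃ t : ℕ, n + r = (t : ℤ) := ⟨(n + r).toNat, by omega⟩
        rw [ht, Ring.choose_natCast, Nat.choose_eq_zero_of_lt (by omega)]
        rfl
      · intro j _
        rw [Groth.Agent.Helper26.PnCoh.finrank_H_zero]
        · simp
        · intro h; omega
        · intro h; omega

end Groth.Agent.S4466
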