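import Groth.Statements.S4487
import Groth.Agent.Lib.Helper7.TFin2

set_option autoImplicit false
universe u
open FlatCx

namespace Groth.Agent.S4487

open CategoryTheory CategoryTheory.Limits in
/-- The case of the homological functor T_p(M) = H_p(P ⊗_A M) of a chain complex P of flat modules over
a commutative ring A. Let A be Noetherian and suppose P_i = 0 for i < i₀ and that every T_n(A) is a
finitely generated A-module. Then for every integer N there is a dense open subset U of Spec A such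
that, for every p ≤ N, the function x ↦ dim_{k(x)} H_p(P ⊗_A k(x)) is locally constant on U. (The
published statement says constant on U; over the product of two fields, with P the projective module
supported on one factor placed in degree 0, the only dense open set is the whole two-point spectrum
and the ranks there are 1 and 0, so locally constant on U is what holds; the argument produces U as
a disjoint union of opens, one dense in each irreducible component, on each of which the functions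
are constant.) -/
theorem result {A : Type u} [CommRing A] [IsNoetherianRing A]
    (P : ChainComplex (ModuleCat.{u} A) ℤ) (hP : ∀ i, Module.Flat A (P.X i)) (i₀ : ℤ)
    (hb : ∀ i < i₀, IsZero (P.X i))
    (hfg : ∀ n : ℤ, Module.Finite A (CohIII.T P n (ModuleCat.of A A))) (N : ℤ) :
    ∃ U : Set (PrimeSpectrum A), IsOpen U ∧ Dense U ∧
      ∀ p ≤ N, IsLocallyConstant (fun x : U => CohIII.dRank P p x) := by
  classical
  have hfg' : ∀ n : ℤ, Module.Finite A ((CohIII.TFun P n).obj (ModuleCat.of A A)) := hfg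
  have hfinite : (minimalPrimes A).Finite := minimalPrimes.finite_of_isNoetherianRing A
  have hfin : Finite (minimalPrimes A) := hfinite.to_subtype
  have hB : ∀ 𝔭 : minimalPrimes A, ∃ f : A, f ∉ (𝔭 : Ideal A) ∧ ∀ q ≤ N, ∃ c : ℕ,
      ∀ x : PrimeSpectrum A, (𝔭 : Ideal A) ≤ x.asIdeal → f ∉ x.asIdeal →
        CohIII.dRank P q x = c := fun 𝔭 => by
    haveI : (𝔭 : Ideal A).IsPrime := 𝔭.2.1.1
    exact Groth.Agent.Helper7.TFin.exists_const_dRank P hP i₀ hb hfg' N 𝔭
  choose f hf hc using hB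
  let W : minimalPrimes A → Set (PrimeSpectrum A) := fun 𝔭 =>
    (PrimeSpectrum.basicOpen (f 𝔭) : Set (PrimeSpectrum A)) ∩
      (⋃ 𝔮 ∈ {𝔮 : minimalPrimes A | 𝔮 ≠ 𝔭}, PrimeSpectrum.zeroLocus ((𝔮 : Ideal A) : Set A))ᶜ
  have hWopen : ∀ 𝔭, IsOpen (W 𝔭) := by
    intro 𝔭
    apply IsOpen.inter (PrimeSpectrum.basicOpen (f 𝔭)).isOpen
    rw [isOpen_compl_iff]
    exact Set.Finite.isClosed_biUnion (Set.toFinite _)
      (fun 𝔮 _ => PrimeSpectrum.isClosed_zeroLocus _)
  -- every point lies over a minimal prime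
  have hmin : ∀ x : PrimeSpectrum A, ∃ 𝔭 : minimalPrimes A, (𝔭 : Ideal A) ≤ x.asIdeal := by
    intro x
    obtain ⟨𝔭, h𝔭min, h𝔭le⟩ := Ideal.exists_minimalPrimes_le (bot_le : ⊥ ≤ x.asIdeal)
    exact ⟨⟨𝔭, h𝔭min⟩, h𝔭le⟩
  have hWle : ∀ 𝔭, ∀ z ∈ W 𝔭, (𝔭 : Ideal A) ≤ z.asIdeal := by
    intro 𝔭 z hz
    obtain ⟨𝔮, h𝔮⟩ := hmin z
    by_cases h : 𝔮 = 𝔭
    · rw [← h]; exact h𝔮
    · exfalso
      apply hz.2
      simp only [Set.mem_iUnion]
      exact ⟨𝔮, h, (PrimeSpectrum.mem_zeroLocus _ _).2 h𝔮⟩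
  refine ⟨⋃ 𝔭, W 𝔭, isOpen_iUnion hWopen, ?_, ?_⟩
  · rw [dense_iff_inter_open]
    rintro O hO ⟨x, hxO⟩
    obtain ⟨𝔭, h𝔭le⟩ := hmin x
    let y : PrimeSpectrum A := ⟨(𝔭 : Ideal A), 𝔭.2.1.1⟩
    have hyx : y ⤳ x := (PrimeSpectrum.le_iff_specializes y x).1 h𝔭le
    have hyO : y ∈ O := hyx.mem_open hO hxO
    refine ⟨y, hyO, Set.mem_iUnion.2 ⟨𝔭, ?_, ?_⟩⟩
    · exact hf 𝔭
    · simp only [Set.mem_compl_iff, Set.mem_iUnion, not_exists]
      intro 𝔮 h𝔮ne hy𝔮
      have hle : (𝔮 : Ideal A) ≤ (𝔭 : Ideal A) := (PrimeSpectrum.mem_zeroLocus _ _).1 hy𝔮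
      have hge : (𝔭 : Ideal A) ≤ (𝔮 : Ideal A) := 𝔭.2.2 ⟨𝔮.2.1.1, bot_le⟩ hle
      exact h𝔮ne (Subtype.ext (le_antisymm hle hge))
  · intro q hq
    choose c hc' using fun 𝔭 => hc 𝔭 q hq
    rw [IsLocallyConstant.iff_exists_open]
    intro x
    obtain ⟨𝔭, hx𝔭⟩ := Set.mem_iUnion.1 x.2
    have key : ∀ z ∈ W 𝔭, CohIII.dRank P q z = c 𝔭 :=
      fun z hz => hc' 𝔭 z (hWle 𝔭 z hz) hz.1
    refine ⟨Subtype.val ⁻¹' W 𝔭, (hWopen 𝔭).preimage continuous_subtype_val, hx𝔭,
      fun x' hx' => ?_⟩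
    change CohIII.dRank P q x' = CohIII.dRank P q x
    rw [key x' hx', key x hx𝔭]

end Groth.Agent.S4487
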