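import Groth.Statements.S4488
import Groth.Agent.Lib.Helper7.TBr2
import Groth.Agent.Lib.Helper4.FibFree
import Groth.Agent.S2406

set_option autoImplicit false
universe u
open FlatCx

namespace Groth.Agent.S4488

open CategoryTheory CategoryTheory.Limits MonoidalCategory

theorem dRank_eq_finrank_of_exact {A : Type u} [CommRing A] [IsLocalRing A]
    (P : ChainComplex (ModuleCat.{u} A) ℤ) (hP : ∀ i, Module.Flat A (P.X i)) (q : ℤ)
    (hfp : Module.FinitePresentation A ((CohIII.TFun P q).obj (ModuleCat.of A A)))
    (hmono : (CohIII.TFun P q).PreservesMonomorphisms)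
    (hepi : (CohIII.TFun P q).PreservesEpimorphisms) (x : PrimeSpectrum A) :
    CohIII.dRank P q x = Module.finrank A ((CohIII.TFun P q).obj (ModuleCat.of A A)) := by
  have hb := Groth.Agent.Helper7.TComp.tM_bijective_of_halfExact_of_preservesEpimorphisms
    (CohIII.TFun P q) (Groth.Agent.Helper7.TFun.halfExact P hP q)
  let e := Groth.Agent.Helper7.TComp.isoTensorLeft (CohIII.TFun P q) hb
  have hflat : Module.Flat A ((CohIII.TFun P q).obj (ModuleCat.of A A)) :=
    Groth.Agent.Helper7.TComp.flat_of_iso_tensorLeft (CohIII.TFun P q) _ e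
  have hfin : Module.Finite A ((CohIII.TFun P q).obj (ModuleCat.of A A)) := inferInstance
  have hfree : Module.Free A ((CohIII.TFun P q).obj (ModuleCat.of A A)) :=
    Module.free_of_flat_of_isLocalRing
  rw [Groth.Agent.Helper7.TBr.dRank_eq_of_bijective P q x (hb _)]
  exact Module.finrank_baseChange

theorem exact_of_isZero {A : Type u} [CommRing A]
    (P : ChainComplex (ModuleCat.{u} A) ℤ) (q : ℤ) (hz : IsZero (P.X q)) :
    (CohIII.TFun P q).PreservesMonomorphisms ∧ (CohIII.TFun P q).PreservesEpimorphisms := by
  have hz' : ∀ M : ModuleCat.{u} A, IsZero ((CohIII.TFun P q).obj M) := by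
    intro M
    apply ShortComplex.isZero_homology_of_isZero_X₂
    have : IsZero ((tensorRight M).obj (P.X q)) :=
      Functor.map_isZero (tensorRight M) hz
    exact this
  refine ⟨⟨fun {M N} g _ => ?_⟩, ⟨fun {M N} g _ => ?_⟩⟩
  · exact ⟨fun {Z} a b _ => (hz' M).eq_of_tgt a b⟩
  · exact ⟨fun {Z} a b _ => (hz' N).eq_of_src a b⟩

open CategoryTheory CategoryTheory.Limits in
/-- For the homological functor T_q(M) = H_q(P ⊗_A M) of a chain complex P of flat modules over a
commutative local ring A with residue field k. Suppose P_i = 0 for i < i₀ and that every T_n(A) is a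
finitely presented A-module, and let p be an integer. If T_q takes injections to injections and
surjections to surjections for every q ≤ p, then dim_{k(x)} T_q(k(x)) = dim_k T_q(k) for every point
x of Spec A and every q ≤ p. Conversely, if A is reduced and this equality holds at the generic
point of every irreducible component of Spec A (every minimal prime) for every q ≤ p, then T_q takes
injections to injections and surjections to surjections for every q ≤ p. No Noetherian hypothesis on
A. -/
theorem result {A : Type u} [CommRing A] [IsLocalRing A]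
    (P : ChainComplex (ModuleCat.{u} A) ℤ) (hP : ∀ i, Module.Flat A (P.X i)) (i₀ : ℤ)
    (hb : ∀ i < i₀, IsZero (P.X i))
    (hfp : ∀ n : ℤ, Module.FinitePresentation A (CohIII.T P n (ModuleCat.of A A))) (p : ℤ) :
    ((∀ q ≤ p, (CohIII.TFun P q).PreservesMonomorphisms ∧ (CohIII.TFun P q).PreservesEpimorphisms) →
        ∀ (x : PrimeSpectrum A), ∀ q ≤ p, CohIII.dRank P q x = CohIII.dRank P q (IsLocalRing.closedPoint A)) ∧
      (IsReduced A →
        (∀ x : PrimeSpectrum A, x.asIdeal ∈ minimalPrimes A →
          ∀ q ≤ p, CohIII.dRank P q x = CohIII.dRank P q (IsLocalRing.closedPoint A)) →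
        ∀ q ≤ p, (CohIII.TFun P q).PreservesMonomorphisms ∧ (CohIII.TFun P q).PreservesEpimorphisms) := by
  have hfp' : ∀ n : ℤ, Module.FinitePresentation A ((CohIII.TFun P n).obj (ModuleCat.of A A)) := hfp
  refine ⟨?_, ?_⟩
  · intro hex x q hq
    rw [dRank_eq_finrank_of_exact P hP q (hfp' q) (hex q hq).1 (hex q hq).2 x,
      dRank_eq_finrank_of_exact P hP q (hfp' q) (hex q hq).1 (hex q hq).2
        (IsLocalRing.closedPoint A)]
  · intro hred hmin
    have key : ∀ n : ℕ, ∀ q : ℤ, q ≤ p → q < i₀ + n →
        (CohIII.TFun P q).PreservesMonomorphisms ∧ (CohIII.TFun P q).PreservesEpimorphisms := by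
      intro n
      induction n with
      | zero =>
        intro q _ hq
        exact exact_of_isZero P q (hb q (by simpa using hq))
      | succ n ih =>
        intro q hqp hq
        by_cases hlt : q < i₀ + n
        · exact ih q hqp hlt
        · have hprev := ih (q - 1) (by omega) (by push_cast at hq; omega)
          have hepi : (CohIII.TFun P q).PreservesEpimorphisms :=
            (Groth.Agent.S2406.result P hP q (q - 1) (by omega)).2 hprev.1
          refine ⟨?_, hepi⟩
          have hbij := Groth.Agent.Helper7.TComp.tM_bijective_of_halfExact_of_preservesEpimorphisms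
            (CohIII.TFun P q) (Groth.Agent.Helper7.TFun.halfExact P hP q)
          let e := Groth.Agent.Helper7.TComp.isoTensorLeft (CohIII.TFun P q) hbij
          have hfin : Module.Finite A ((CohIII.TFun P q).obj (ModuleCat.of A A)) := inferInstance
          have hfree : Module.Free A ((CohIII.TFun P q).obj (ModuleCat.of A A)) := by
            apply Groth.Agent.Helper4.DRank.free_of_fibDim_minimalPrimes
            intro x hx
            rw [← Groth.Agent.Helper7.TBr.dRank_eq_of_bijective P q x (hbij _),
              ← Groth.Agent.Helper7.TBr.dRank_eq_of_bijective P q (IsLocalRing.closedPoint A)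
                (hbij _)]
            exact hmin x hx q hqp
          have h1 := Groth.Agent.Helper7.TComp.preservesMonomorphisms_tensorLeft
            ((CohIII.TFun P q).obj (ModuleCat.of A A))
          exact Functor.PreservesMonomorphisms.of_iso e
    intro q hq
    obtain ⟨n, hn⟩ : ∃ n : ℕ, q < i₀ + n := ⟨(q - i₀ + 1).toNat, by omega⟩
    exact key n q hq hn

end Groth.Agent.S4488
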