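import Groth.Statements.S4489
import Groth.Agent.S2375
import Groth.Agent.S2406
import Mathlib.RingTheory.Flat.TorsionFree
import Mathlib.Algebra.Homology.ShortComplex.ModuleCat

set_option autoImplicit false
universe u
open FlatCx

namespace Groth.Agent.S4489

open CategoryTheory in
private lemma flat_opcycles_iff {A : Type u} [CommRing A] [IsDedekindDomain A]
    (P : ChainComplex (ModuleCat.{u} A) ℤ) (hP : ∀ i, Module.Flat A (P.X i)) (p : ℤ) :
    Module.Flat A (P.opcycles p) ↔ Module.Flat A (P.homology p) := by
  set j := (ComplexShape.down ℤ).next p with hj
  have hker := P.homologyIsKernel p j rfl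
  have hex : (ShortComplex.mk (P.homologyι p) (P.fromOpcycles p j)
      (P.homologyι_comp_fromOpcycles p j)).Exact :=
    ShortComplex.exact_of_f_is_kernel _ hker
  rw [ShortComplex.moduleCat_exact_iff] at hex
  have hinj : Function.Injective (P.homologyι p).hom :=
    (ModuleCat.mono_iff_injective _).mp inferInstance
  constructor
  · intro hflat
    have : Module.IsTorsionFree A (P.opcycles p) := inferInstance
    have : Module.IsTorsionFree A (P.homology p) :=
      Function.Injective.moduleIsTorsionFree (P.homologyι p).hom hinj (fun r m => map_smul _ r m)
    infer_instance
  · intro hflat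
    have h1 : Module.IsTorsionFree A (P.homology p) := inferInstance
    have := hP j
    have h2 : Module.IsTorsionFree A (P.X j) := inferInstance
    have : Module.IsTorsionFree A (P.opcycles p) := by
      rw [Module.isTorsionFree_iff_smul_eq_zero] at h1 h2 ⊢
      intro r z hrz
      by_cases hr : r = 0
      · exact Or.inl hr
      · right
        have hz : (P.fromOpcycles p j).hom z = 0 := by
          have : r • (P.fromOpcycles p j).hom z = 0 := by
            rw [← map_smul, hrz, map_zero]
          exact (h2 r _ this).resolve_left hr
        obtain ⟨h, rfl⟩ := hex z hz
        have hh : r • h = 0 := by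
          apply hinj
          change (P.homologyι p).hom (r • h) = (P.homologyι p).hom 0
          rw [map_smul, map_zero]
          exact hrz
        rw [(h1 r h hh).resolve_left hr]
        exact map_zero _
    infer_instance

open CategoryTheory CategoryTheory.Limits in
/-- For the homological functor T_p(M) = H_p(P ⊗_A M) of a chain complex P of flat modules, stated over
a Dedekind domain A. (The published statement allows A to be a finite product of Dedekind domains,
that is, a Noetherian regular ring of dimension at most 1; this row takes A a Dedekind domain.) Then
T_p takes injections to injections if and only if H_p(P) is a flat A-module; and, with q + 1 = p,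
T_p takes injections to injections and surjections to surjections if and only if H_p(P) and H_q(P)
are both flat. -/
theorem result {A : Type u} [CommRing A] [IsDedekindDomain A]
    (P : ChainComplex (ModuleCat.{u} A) ℤ) (hP : ∀ i, Module.Flat A (P.X i)) (p q : ℤ) (hpq : q + 1 = p) :
    ((CohIII.TFun P p).PreservesMonomorphisms ↔ Module.Flat A (P.homology p)) ∧
      (((CohIII.TFun P p).PreservesMonomorphisms ∧ (CohIII.TFun P p).PreservesEpimorphisms) ↔
        (Module.Flat A (P.homology p) ∧ Module.Flat A (P.homology q))) := by
  have h1 := Groth.Agent.S2375.result P hP p
  have h2 := Groth.Agent.S2375.result P hP q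
  have h3 := Groth.Agent.S2406.result P hP p q hpq
  refine ⟨h1.trans (flat_opcycles_iff P hP p), ?_⟩
  rw [h3, h1, h2, flat_opcycles_iff P hP p, flat_opcycles_iff P hP q]

end Groth.Agent.S4489
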