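import Groth.Statements.S4490
import Groth.Agent.Lib.Helper4.TFunLib

set_option autoImplicit false
universe u
open FlatCx

namespace Groth.Agent.S4490

open CategoryTheory CategoryTheory.Limits MonoidalCategory TensorProduct

theorem cycle_lift_general {A : Type u} [CommRing A] {ι : Type} {c : ComplexShape ι}
    (P : HomologicalComplex (ModuleCat.{u} A) c) (i j k : ι)
    (hi : c.prev j = i) (hk : c.next j = k) {M N : ModuleCat.{u} A} (g : M ⟶ N)
    (hepi : Epi ((CohIII.TFun P j).map g)) :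
    ∀ y : P.X j ⊗[A] N, ((P.d j k).hom.rTensor N) y = 0 →
      ∃ z₀ : P.X j ⊗[A] M, ((P.d j k).hom.rTensor M) z₀ = 0 ∧ ∃ w : P.X i ⊗[A] N,
        y = (g.hom.lTensor (P.X j)) z₀ + ((P.d i j).hom.rTensor N) w := by
  intro y hy
  rw [Groth.Agent.Helper4.TFunLib.epi_TFun_map_iff P i j k hi hk] at hepi
  let y₂ : ModuleCat.of A A ⟶ P.X j ⊗ N :=
    ModuleCat.ofHom (LinearMap.toSpanSingleton A (P.X j ⊗[A] N) y)
  have hy₂ : y₂ ≫ (P.d j k ▷ N) = 0 := by
    apply ModuleCat.hom_ext
    apply LinearMap.ext_ring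
    change ((P.d j k).hom.rTensor N) (LinearMap.toSpanSingleton A _ y 1) = 0
    rw [LinearMap.toSpanSingleton_apply, one_smul, hy]
  obtain ⟨X', π, hπ, x₂, hx₂, y₁, heq⟩ := hepi y₂ hy₂
  obtain ⟨t, ht⟩ := (ModuleCat.epi_iff_surjective π).1 hπ (1 : A)
  refine ⟨x₂.hom t, ?_, y₁.hom t, ?_⟩
  · exact congrArg (fun f => f.hom t) hx₂
  · have h2 := congrArg (fun f => f.hom t) heq
    change y₂.hom (π.hom t) = (g.hom.lTensor (P.X j)) (x₂.hom t) +
      ((P.d i j).hom.rTensor N) (y₁.hom t) at h2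
    have h3 : π.hom t = (1 : A) := ht
    rw [h3] at h2
    change LinearMap.toSpanSingleton A _ y 1 = _ at h2
    rw [LinearMap.toSpanSingleton_apply, one_smul] at h2
    exact h2

theorem exists_cycle_of_AR {A : Type u} [CommRing A] [IsNoetherianRing A] (I : Ideal A)
    {M N : Type u} [AddCommGroup M] [Module A M] [AddCommGroup N] [Module A N]
    [Module.Finite A N] (d : M →ₗ[A] N) :
    ∃ c : ℕ, ∀ n, c ≤ n → ∀ x : M, d x ∈ (I ^ (n + 1) • ⊤ : Submodule A N) →
      ∃ z ∈ LinearMap.ker d, x - z ∈ (I • ⊤ : Submodule A M) := by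
  obtain ⟨c, hc⟩ := Ideal.exists_pow_inf_eq_pow_smul I (LinearMap.range d)
  refine ⟨c, fun n hn x hx => ?_⟩
  have h1 : d x ∈ I ^ (n + 1) • (⊤ : Submodule A N) ⊓ LinearMap.range d := ⟨hx, ⟨x, rfl⟩⟩
  rw [hc (n + 1) (by omega)] at h1
  have h2 : I ^ (n + 1 - c) • (I ^ c • (⊤ : Submodule A N) ⊓ LinearMap.range d) ≤
      I • LinearMap.range d :=
    Submodule.smul_mono (Ideal.pow_le_self (by omega)) inf_le_right
  have h3 : d x ∈ (I • (⊤ : Submodule A M)).map d := by
    rw [Submodule.map_smul'', Submodule.map_top]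
    exact h2 h1
  obtain ⟨x', hx', hdx'⟩ := h3
  refine ⟨x - x', ?_, ?_⟩
  · rw [LinearMap.mem_ker, map_sub, hdx', sub_self]
  · rw [sub_sub_cancel]
    exact hx'

theorem exists_tmul_one {A : Type u} [CommRing A] (J : Ideal A) (M : Type u) [AddCommGroup M]
    [Module A M] (t : M ⊗[A] (A ⧸ J)) : ∃ x : M, t = x ⊗ₜ[A] (1 : A ⧸ J) := by
  induction t using TensorProduct.induction_on with
  | zero => exact ⟨0, (TensorProduct.zero_tmul _ _).symm⟩
  | tmul m q =>
    obtain ⟨a, rfl⟩ := Ideal.Quotient.mk_surjective q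
    refine ⟨a • m, ?_⟩
    rw [TensorProduct.smul_tmul, ← Ideal.Quotient.algebraMap_eq, Algebra.smul_def, mul_one]
  | add s t hs ht =>
    obtain ⟨x, rfl⟩ := hs
    obtain ⟨y, rfl⟩ := ht
    exact ⟨x + y, (TensorProduct.add_tmul _ _ _).symm⟩

theorem tmul_one_eq_zero_iff {A : Type u} [CommRing A] (J : Ideal A) (N : Type u) [AddCommGroup N]
    [Module A N] (x : N) : x ⊗ₜ[A] (1 : A ⧸ J) = 0 ↔ x ∈ (J • ⊤ : Submodule A N) := by
  rw [← TensorProduct.tensorQuotEquivQuotSMul_symm_mk J x, LinearEquiv.map_eq_zero_iff,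
    Submodule.Quotient.mk_eq_zero]

open CategoryTheory CategoryTheory.Limits in
/-- The case of the functor T_p(M) = H_p(P ⊗_A M) of a chain complex P of finitely generated flat
modules over a Noetherian local ring A with maximal ideal m and residue field k. Then T_p takes
surjections to surjections if and only if the map T_p(A) → T_p(k) induced by A → k is surjective;
and also if and only if, for all sufficiently large n (there is n₀ such that for every n ≥ n₀), the
map T_p(A/m^(n+1)) → T_p(A/m) induced by the projection is surjective. (Surjectivity at one n gives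
it at every smaller n, so this is the same as asking it for every n; at n = 0 alone the map is an
isomorphism and the condition would be empty.) -/
theorem result {A : Type u} [CommRing A] [IsNoetherianRing A]
    [IsLocalRing A] (P : ChainComplex (ModuleCat.{u} A) ℤ)
    (hP : ∀ i, Module.Finite A (P.X i) ∧ Module.Flat A (P.X i)) (p : ℤ) :
    ((CohIII.TFun P p).PreservesEpimorphisms ↔
      Function.Surjective ((CohIII.TFun P p).map
        (ModuleCat.ofHom (Algebra.linearMap A (IsLocalRing.ResidueField A)))).hom) ∧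
    ((CohIII.TFun P p).PreservesEpimorphisms ↔
      ∃ n₀ : ℕ, ∀ n : ℕ, n₀ ≤ n → Function.Surjective ((CohIII.TFun P p).map (ModuleCat.ofHom
        (Ideal.Quotient.factorₐ A (Ideal.pow_le_self (I := IsLocalRing.maximalIdeal A)
          (Nat.succ_ne_zero n))).toLinearMap :
        ModuleCat.of A (A ⧸ IsLocalRing.maximalIdeal A ^ (n + 1)) ⟶
          ModuleCat.of A (A ⧸ IsLocalRing.maximalIdeal A))).hom) := by
  have hfin : ∀ i, Module.Finite A (P.X i) := fun i => (hP i).1
  have hflat : ∀ i, Module.Flat A (P.X i) := fun i => (hP i).2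
  have hfree : ∀ i, Module.Free A (P.X i) := fun i => Module.free_of_flat_of_isLocalRing
  have hres_epi : Epi (ModuleCat.ofHom (Algebra.linearMap A (IsLocalRing.ResidueField A))) :=
    (ModuleCat.epi_iff_surjective _).2 IsLocalRing.residue_surjective
  have hgi : (∃ e : P.X ((ComplexShape.down ℤ).next p) ⟶ P.X p,
      P.d p ((ComplexShape.down ℤ).next p) ≫ e ≫ P.d p ((ComplexShape.down ℤ).next p) =
        P.d p ((ComplexShape.down ℤ).next p)) → (CohIII.TFun P p).PreservesEpimorphisms := by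
    rintro ⟨e, he⟩
    exact ⟨fun {M N} g hg => Groth.Agent.Helper4.TFunLib.epi_TFun_map_of_gi P p _ rfl e he g⟩
  refine ⟨⟨fun hepi => ?_, fun hs => ?_⟩, ⟨fun hepi => ?_, fun hs => ?_⟩⟩
  · exact (ModuleCat.epi_iff_surjective _).1 (hepi.preserves _)
  · exact hgi (Groth.Agent.Helper4.TFunLib.exists_gi_of_surjective P hP p _ rfl hs)
  · refine ⟨0, fun n _ => ?_⟩
    have : Epi (ModuleCat.ofHom
        (Ideal.Quotient.factorₐ A (Ideal.pow_le_self (I := IsLocalRing.maximalIdeal A)
          (Nat.succ_ne_zero n))).toLinearMap :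
        ModuleCat.of A (A ⧸ IsLocalRing.maximalIdeal A ^ (n + 1)) ⟶
          ModuleCat.of A (A ⧸ IsLocalRing.maximalIdeal A)) :=
      (ModuleCat.epi_iff_surjective _).2 (Ideal.Quotient.factor_surjective
        (Ideal.pow_le_self (I := IsLocalRing.maximalIdeal A) (Nat.succ_ne_zero n)))
    exact (ModuleCat.epi_iff_surjective _).1 (hepi.preserves _)
  · obtain ⟨n₀, hn₀⟩ := hs
    apply hgi
    set k := (ComplexShape.down ℤ).next p with hk
    set i := (ComplexShape.down ℤ).prev p with hi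
    obtain ⟨c, hc⟩ := exists_cycle_of_AR (IsLocalRing.maximalIdeal A) (P.d p k).hom
    set n := max n₀ c with hn
    have hepi : Epi ((CohIII.TFun P p).map (ModuleCat.ofHom
        (Ideal.Quotient.factorₐ A (Ideal.pow_le_self (I := IsLocalRing.maximalIdeal A)
          (Nat.succ_ne_zero n))).toLinearMap :
        ModuleCat.of A (A ⧸ IsLocalRing.maximalIdeal A ^ (n + 1)) ⟶
          ModuleCat.of A (A ⧸ IsLocalRing.maximalIdeal A))) :=
      (ModuleCat.epi_iff_surjective _).2 (hn₀ n (le_max_left _ _))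
    have H0 := cycle_lift_general P i p k rfl rfl _ hepi
    have H : ∀ y : P.X p ⊗[A] (IsLocalRing.ResidueField A),
        ((P.d p k).hom.rTensor (IsLocalRing.ResidueField A)) y = 0 →
        ∃ z ∈ LinearMap.ker (P.d p k).hom, ∃ w : P.X i ⊗[A] (IsLocalRing.ResidueField A),
          y = z ⊗ₜ 1 + ((P.d i p).hom.rTensor (IsLocalRing.ResidueField A)) w := by
      intro y hy
      obtain ⟨z₀, hz₀, w, hyw⟩ := H0 y hy
      obtain ⟨x, rfl⟩ := exists_tmul_one (IsLocalRing.maximalIdeal A ^ (n + 1)) _ z₀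
      have h1 : (P.d p k).hom x ∈
          (IsLocalRing.maximalIdeal A ^ (n + 1) • ⊤ : Submodule A (P.X k)) := by
        rw [← tmul_one_eq_zero_iff]
        exact hz₀
      obtain ⟨z, hz, hxz⟩ := hc n (le_max_right _ _) x h1
      refine ⟨z, hz, w, ?_⟩
      rw [hyw]
      congr 1
      have h2 : (x - z) ⊗ₜ[A] (1 : A ⧸ IsLocalRing.maximalIdeal A) = 0 :=
        (tmul_one_eq_zero_iff _ _ _).2 hxz
      rw [TensorProduct.sub_tmul, sub_eq_zero] at h2
      change x ⊗ₜ[A] ((Ideal.Quotient.factorₐ A (Ideal.pow_le_self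
        (I := IsLocalRing.maximalIdeal A) (Nat.succ_ne_zero n))) 1) = _
      rw [map_one]
      exact h2
    have hdd : (P.d p k).hom ∘ₗ (P.d i p).hom = 0 := by
      have := P.d_comp_d i p k
      rw [← ModuleCat.hom_comp, this]
      rfl
    obtain ⟨e, he⟩ := Groth.Agent.Helper4.TFunLib.exists_gi_of_local _ _ hdd H
    refine ⟨ModuleCat.ofHom e, ?_⟩
    apply ModuleCat.hom_ext
    rw [ModuleCat.hom_comp, ModuleCat.hom_comp, ModuleCat.hom_ofHom]
    rw [← LinearMap.comp_assoc] at he
    exact he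

end Groth.Agent.S4490
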