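import Groth.Statements.S4494
import Groth.Agent.Lib.Helper6.TorBC
import Groth.Agent.Lib.Helper21.TorSymm

set_option autoImplicit false
universe u
open HTor

namespace Groth.Agent.S4494

/-- Case of complexes reduced to single modules (to which the flat base change reduces). Let A → A' be a
ring map making A' a flat A-module, P' an A'-module (viewed also as an A-module) and Q an A-module.
Then for every n there is a bijective map Tor_n^A(P', Q) → Tor_n^{A'}(P', A' ⊗_A Q), semilinear over
A → A'. (Tor is Mathlib's, left derived in the second variable. The published statement gives a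
canonical isomorphism for hypertor of complexes bounded below; this row asserts, for single modules,
that a semilinear bijection exists.) -/
theorem result (A A' : Type u) [CommRing A] [CommRing A']
    [Algebra A A'] [Module.Flat A A'] (P' : Type u) [AddCommGroup P'] [Module A' P'] [Module A P']
    [IsScalarTower A A' P'] (Q : Type u) [AddCommGroup Q] [Module A Q] (n : ℕ) :
    ∃ φ : DRing.Tor A n P' Q →ₛₗ[algebraMap A A'] DRing.Tor A' n P' (TensorProduct A A' Q),
      Function.Bijective φ := by
  classical
  obtain ⟨e1⟩ := Groth.Agent.Helper21.TS.nonempty_tor_comm (ModuleCat.of A P') (ModuleCat.of A Q) n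
  obtain ⟨e3⟩ := Groth.Agent.Helper21.TS.nonempty_tor_comm
    (ModuleCat.of A' (TensorProduct A A' Q)) (ModuleCat.of A' P') n
  have hP : ∀ q : ℕ, 0 < q → Subsingleton
      (((CategoryTheory.Tor (ModuleCat.{u} A) q).obj (ModuleCat.of A Q)).obj (ModuleCat.of A A')) := by
    intro q hq
    obtain ⟨m, rfl⟩ := Nat.exists_eq_succ_of_ne_zero hq.ne'
    haveI : Module.Flat A (ModuleCat.of A A') := ‹Module.Flat A A'›
    have h := Groth.Agent.Helper6.TorFlat.isZero_tor_succ_of_flat_right (ModuleCat.of A A') m
      (ModuleCat.of A Q)
    exact (ModuleCat.isZero_iff_subsingleton).1 h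
  obtain ⟨ψ, hψ⟩ := Groth.Agent.Helper6.TorBC.tor_baseChange (A := A) (A' := A') Q P' hP n
  refine ⟨(e3.hom.hom).comp (ψ.comp e1.hom.hom), ?_⟩
  have b1 : Function.Bijective e1.hom.hom := CategoryTheory.ConcreteCategory.bijective_of_isIso e1.hom
  have b3 : Function.Bijective e3.hom.hom := CategoryTheory.ConcreteCategory.bijective_of_isIso e3.hom
  exact b3.comp (hψ.comp b1)

end Groth.Agent.S4494
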