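import Groth.Statements.S4495
import Mathlib.Topology.Sheaves.CommRingCat
import Mathlib.Topology.Connected.Clopen

set_option autoImplicit false
universe u
open FlatCx

namespace Groth.Agent.S4495

open CategoryTheory AlgebraicGeometry Opposite TopologicalSpace in
private lemma idem_unit {R : Type*} [CommRing R] {e : R} (he : IsIdempotentElem e) (hu : IsUnit e) :
    e = 1 := by
  obtain ⟨u, rfl⟩ := hu
  have : (u : R) * u = u := he
  calc (u : R) = ((u⁻¹ : Rˣ) : R) * (u * u) := by rw [← mul_assoc, Units.inv_mul, one_mul]
    _ = 1 := by rw [this, Units.inv_mul]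

open CategoryTheory AlgebraicGeometry Opposite TopologicalSpace in
private lemma compl_basicOpen (Z : LocallyRingedSpace.{u}) (e : Z.presheaf.obj (op ⊤))
    (he : IsIdempotentElem e) :
    (Z.toRingedSpace.basicOpen e).1ᶜ = (Z.toRingedSpace.basicOpen (1 - e)).1 := by
  ext x
  change ¬ (x ∈ Z.toRingedSpace.basicOpen e) ↔ x ∈ Z.toRingedSpace.basicOpen (1 - e)
  rw [RingedSpace.mem_top_basicOpen, RingedSpace.mem_top_basicOpen, map_sub, map_one]
  set a := (Z.toRingedSpace.presheaf.Γgerm x) e with ha
  have hloc : IsLocalRing (Z.presheaf.stalk x) := Z.isLocalRing x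
  have hidem : a * a = a := by
    rw [ha, ← map_mul, he.eq]
  constructor
  · intro h
    exact (IsLocalRing.isUnit_or_isUnit_one_sub_self a).resolve_left h
  · intro h1 h2
    have h0 : a * (1 - a) = 0 := by rw [mul_sub, mul_one, hidem, sub_self]
    have := h2.mul h1
    rw [h0] at this
    exact not_isUnit_zero this

open CategoryTheory AlgebraicGeometry Opposite in
/-- A locally ringed space Z is connected, in the sense that it is not the disjoint union of two
nonempty open subsets (the empty space being allowed), if and only if every idempotent of the ring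
of global sections Γ(Z, O_Z) is 0 or 1 (equivalently, Γ(Z, O_Z) is not isomorphic to a product of
two nonzero rings). -/
theorem result (Z : LocallyRingedSpace.{u}) :
    PreconnectedSpace Z ↔
      ∀ e : Z.presheaf.obj (op ⊤), IsIdempotentElem e → e = 0 ∨ e = 1 := by
  constructor
  · intro hpre e he
    have hclopen : IsClopen (Z.toRingedSpace.basicOpen e).1 := by
      refine ⟨?_, (Z.toRingedSpace.basicOpen e).2⟩
      rw [← isOpen_compl_iff, compl_basicOpen Z e he]
      exact (Z.toRingedSpace.basicOpen (1 - e)).2
    rcases (@isClopen_iff _ _ hpre _).mp hclopen with h | h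
    · -- D(e) = ∅, so D(1-e) = univ
      left
      have h2 : (Z.toRingedSpace.basicOpen (1 - e)).1 = Set.univ := by
        rw [← compl_basicOpen Z e he, h, Set.compl_empty]
      have hu : IsUnit (1 - e) := by
        apply Z.toRingedSpace.isUnit_of_isUnit_germ ⊤ (1 - e)
        intro x hx
        have hx' : x ∈ Z.toRingedSpace.basicOpen (1 - e) := by
          change x ∈ (Z.toRingedSpace.basicOpen (1 - e)).1
          rw [h2]; trivial
        exact (Z.toRingedSpace.mem_basicOpen (1 - e) x hx).mp hx'
      have := idem_unit he.one_sub hu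
      exact sub_eq_self.mp this
    · right
      have hu : IsUnit e := by
        apply Z.toRingedSpace.isUnit_of_isUnit_germ ⊤ e
        intro x hx
        have hx' : x ∈ Z.toRingedSpace.basicOpen e := by
          change x ∈ (Z.toRingedSpace.basicOpen e).1
          rw [h]; trivial
        exact (Z.toRingedSpace.mem_basicOpen e x hx).mp hx'
      exact idem_unit he hu
  · intro hidem
    rw [preconnectedSpace_iff_clopen]
    intro s hs
    let U : TopologicalSpace.Opens Z := ⟨s, hs.2⟩
    let V : TopologicalSpace.Opens Z := ⟨sᶜ, hs.1.isOpen_compl⟩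
    have hUV : U ⊓ V = ⊥ := by
      ext x
      simp [U, V]
    have hcov : (⊤ : TopologicalSpace.Opens Z) ≤ U ⊔ V := by
      intro x _
      by_cases hx : x ∈ s
      · exact Or.inl hx
      · exact Or.inr hx
    have hsub : Subsingleton (Z.sheaf.1.obj (op (U ⊓ V))) :=
      CommRingCat.subsingleton_of_isTerminal (Z.sheaf.isTerminalOfEqEmpty hUV)
    let x : ↥(RingHom.eqLocus
      (RingHom.comp (Z.sheaf.obj.map (homOfLE inf_le_left : U ⊓ V ⟶ U).op).hom
        (RingHom.fst (Z.sheaf.obj.obj <| op U) (Z.sheaf.obj.obj <| op V)))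
      (RingHom.comp (Z.sheaf.obj.map (homOfLE inf_le_right : U ⊓ V ⟶ V).op).hom
        (RingHom.snd (Z.sheaf.obj.obj <| op U) (Z.sheaf.obj.obj <| op V)))) :=
      ⟨(1, 0), Subsingleton.elim _ _⟩
    let e' := (Z.sheaf.objSupIsoProdEqLocus U V).inv x
    let e : Z.presheaf.obj (op ⊤) := Z.presheaf.map (homOfLE hcov).op e'
    have heU : Z.presheaf.map (homOfLE (le_top : U ≤ ⊤)).op e = 1 := by
      have := Z.sheaf.objSupIsoProdEqLocus_inv_fst U V x
      change Z.presheaf.map (homOfLE (le_top : U ≤ ⊤)).op (Z.presheaf.map (homOfLE hcov).op e') = 1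
      rw [← CommRingCat.comp_apply, ← Z.presheaf.map_comp]
      exact this
    have heV : Z.presheaf.map (homOfLE (le_top : V ≤ ⊤)).op e = 0 := by
      have := Z.sheaf.objSupIsoProdEqLocus_inv_snd U V x
      change Z.presheaf.map (homOfLE (le_top : V ≤ ⊤)).op (Z.presheaf.map (homOfLE hcov).op e') = 0
      rw [← CommRingCat.comp_apply, ← Z.presheaf.map_comp]
      exact this
    have he : IsIdempotentElem e := by
      refine Z.sheaf.eq_of_locally_eq₂ (homOfLE (le_top : U ≤ ⊤)) (homOfLE (le_top : V ≤ ⊤)) hcov
        _ _ ?_ ?_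
      · change Z.presheaf.map _ (e * e) = Z.presheaf.map _ e
        rw [map_mul, heU, mul_one]
      · change Z.presheaf.map _ (e * e) = Z.presheaf.map _ e
        rw [map_mul, heV, mul_zero]
    rcases hidem e he with h0 | h1
    · -- e = 0: then 1 = 0 on U so U empty
      left
      rw [h0, map_zero] at heU
      by_contra hne
      obtain ⟨y, hy⟩ := Set.nonempty_iff_ne_empty.mpr hne
      have hne : Nonempty U := ⟨⟨y, hy⟩⟩
      have := @LocallyRingedSpace.component_nontrivial Z U hne
      exact zero_ne_one heU
    · right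
      rw [h1, map_one] at heV
      by_contra hne
      have : sᶜ ≠ ∅ := by
        intro h
        exact hne (Set.compl_empty_iff.mp h)
      obtain ⟨y, hy⟩ := Set.nonempty_iff_ne_empty.mpr this
      have hne : Nonempty V := ⟨⟨y, hy⟩⟩
      have := @LocallyRingedSpace.component_nontrivial Z V hne
      exact one_ne_zero heV

end Groth.Agent.S4495
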