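import Groth.Statements.S4501
import Groth.Agent.S2418
import Groth.Agent.S2406
import Groth.Agent.S2409
import Groth.Agent.Lib.Helper4.TFunLib2

set_option autoImplicit false
universe u
open FlatCx

namespace Groth.Agent.S4501

open CategoryTheory CategoryTheory.Limits in
/-- The case of finitely generated flat terms. Let A be a Noetherian domain, P a chain complex of
finitely generated flat A-modules, and for a prime y of A let P_y be the base change of P to the
local ring A_y. Then the set U of points y of Spec A such that the functor N ↦ H_p(P_y ⊗_{A_y} N) on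
A_y-modules takes injections to injections and surjections to surjections is open and nonempty (it
contains the generic point). -/
theorem result {A : Type u} [CommRing A] [IsNoetherianRing A] [IsDomain A]
    (P : ChainComplex (ModuleCat.{u} A) ℤ) (hP : ∀ i, Module.Finite A (P.X i) ∧ Module.Flat A (P.X i))
    (p : ℤ) :
    IsOpen {y : PrimeSpectrum A |
        (CohIII.TFun (CohIII.bcCx (algebraMap A (Localization.AtPrime y.asIdeal)) P) p).PreservesMonomorphisms ∧
          (CohIII.TFun (CohIII.bcCx (algebraMap A (Localization.AtPrime y.asIdeal)) P) p).PreservesEpimorphisms} ∧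
      {y : PrimeSpectrum A |
        (CohIII.TFun (CohIII.bcCx (algebraMap A (Localization.AtPrime y.asIdeal)) P) p).PreservesMonomorphisms ∧
          (CohIII.TFun (CohIII.bcCx (algebraMap A (Localization.AtPrime y.asIdeal)) P) p).PreservesEpimorphisms}.Nonempty := by
  classical
  have hQ : ∀ y : PrimeSpectrum A, ∀ i,
      Module.Finite (Localization.AtPrime y.asIdeal)
        ((CohIII.bcCx (algebraMap A (Localization.AtPrime y.asIdeal)) P).X i) ∧
      Module.Flat (Localization.AtPrime y.asIdeal)
        ((CohIII.bcCx (algebraMap A (Localization.AtPrime y.asIdeal)) P).X i) :=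
    fun y => Groth.Agent.Helper4.TFunLib.finite_flat_bcCx P hP
  have hset : {y : PrimeSpectrum A |
        (CohIII.TFun (CohIII.bcCx (algebraMap A (Localization.AtPrime y.asIdeal)) P) p).PreservesMonomorphisms ∧
          (CohIII.TFun (CohIII.bcCx (algebraMap A (Localization.AtPrime y.asIdeal)) P) p).PreservesEpimorphisms} =
      {y : PrimeSpectrum A |
        (CohIII.TFun (CohIII.bcCx (algebraMap A (Localization.AtPrime y.asIdeal)) P) (p + 1)).PreservesEpimorphisms} ∩
      {y : PrimeSpectrum A |
        (CohIII.TFun (CohIII.bcCx (algebraMap A (Localization.AtPrime y.asIdeal)) P) p).PreservesEpimorphisms} := by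
    ext y
    simp only [Set.mem_setOf_eq, Set.mem_inter_iff]
    rw [Groth.Agent.S2406.result _ (fun i => (hQ y i).2) (p + 1) p rfl]
  refine ⟨?_, ?_⟩
  · rw [hset]
    exact (Groth.Agent.S2418.result P hP (p + 1)).inter (Groth.Agent.S2418.result P hP p)
  · refine ⟨⟨⊥, Ideal.isPrime_bot⟩, ?_⟩
    have hN : IsNoetherianRing (Localization.AtPrime (⊥ : Ideal A)) :=
      IsLocalization.isNoetherianRing (⊥ : Ideal A).primeCompl _ inferInstance
    rw [Set.mem_setOf_eq, Groth.Agent.S2409.result _ (hQ ⟨⊥, Ideal.isPrime_bot⟩) p (p + 1) rfl]
    have hmax : IsLocalRing.maximalIdeal (Localization.AtPrime (⊥ : Ideal A)) = ⊥ := by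
      rw [← Localization.AtPrime.map_eq_maximalIdeal, Ideal.map_bot]
    have hbij : Function.Bijective (Algebra.linearMap (Localization.AtPrime (⊥ : Ideal A))
        (IsLocalRing.ResidueField (Localization.AtPrime (⊥ : Ideal A)))) := by
      refine ⟨?_, IsLocalRing.residue_surjective⟩
      rw [← LinearMap.ker_eq_bot, LinearMap.ker_eq_bot']
      intro x hx
      have : x ∈ IsLocalRing.maximalIdeal (Localization.AtPrime (⊥ : Ideal A)) := by
        rw [← IsLocalRing.residue_eq_zero_iff]
        exact hx
      rw [hmax] at this
      exact this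
    have hiso : IsIso (ModuleCat.ofHom (Algebra.linearMap (Localization.AtPrime (⊥ : Ideal A))
        (IsLocalRing.ResidueField (Localization.AtPrime (⊥ : Ideal A))))) :=
      (ConcreteCategory.isIso_iff_bijective _).2 hbij
    refine ⟨?_, ?_⟩
    · exact (ModuleCat.epi_iff_surjective _).1 inferInstance
    · exact (ModuleCat.epi_iff_surjective _).1 inferInstance

end Groth.Agent.S4501
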