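import Groth.Statements.S4511
import Mathlib
import Groth.Agent.S9444
import Groth.Agent.Lib.Helper5.PSR2
-- import your own Groth.Agent.* helpers here

set_option autoImplicit false
universe u
open EGA41

namespace Groth.Agent.S4511

open IsLocalRing in
theorem exists_section' (A : Type u) [CommRing A] [IsLocalRing A]
    [IsAdicComplete (maximalIdeal A) A] (p : ℕ) [CharP (ResidueField A) p] (hp0 : (p : A) = 0) :
    ∃ s : ResidueField A →+* A, (residue A).comp s = RingHom.id _ := by
  rcases CharP.char_is_prime_or_zero (ResidueField A) p with hp | hp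
  · haveI : CharP A p := (CharP.charP_iff_prime_eq_zero hp).mpr hp0
    letI : Algebra (ZMod p) A := ZMod.algebra A p
    haveI := Fact.mk hp
    letI : Algebra (ULift.{u} (ZMod p)) A := ULift.algebra' (ZMod p) A
    exact Groth.Agent.S9444.exists_section A (ULift.{u} (ZMod p))
  · subst hp
    haveI : CharZero (ResidueField A) := CharP.charP_to_charZero _
    exact Groth.Agent.S0579.result A

open IsLocalRing MvPowerSeries in
theorem ker_le (A : Type u) [CommRing A] [IsLocalRing A] (K : Type u) [Field K] (n : ℕ)
    (ψ : MvPowerSeries (Fin n) K →+* A) (x : Fin n → maximalIdeal A)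
    (hlin : LinearIndependent (ResidueField A) (fun i => (maximalIdeal A).toCotangent (x i)))
    (hψX : ∀ i, ψ (X i) = x i) :
    RingHom.ker ψ ≤ maximalIdeal (MvPowerSeries (Fin n) K) ^ 2 := by
  classical
  have hlocal : ∀ a : MvPowerSeries (Fin n) K, ψ a ∈ maximalIdeal A →
      a ∈ maximalIdeal (MvPowerSeries (Fin n) K) := by
    intro a ha
    by_contra hna
    have hu : IsUnit a := by
      by_contra h
      exact hna ((IsLocalRing.mem_maximalIdeal a).mpr h)
    exact (IsLocalRing.mem_maximalIdeal _).mp ha (hu.map ψ)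
  intro g hg
  have hg0 : ψ g = 0 := hg
  have hgm : g ∈ maximalIdeal (MvPowerSeries (Fin n) K) := by
    apply hlocal
    rw [hg0]
    exact zero_mem _
  rw [Groth.Agent.Helper5.PSR.maximalIdeal_eq_span_X] at hgm
  obtain ⟨a, ha⟩ := (Ideal.mem_span_range_iff_exists_fun).mp hgm
  have h1 : ∑ i, ψ (a i) * (x i : A) = 0 := by
    rw [← hg0, ← ha, map_sum]
    refine Finset.sum_congr rfl fun i _ => ?_
    rw [map_mul, hψX]
  have h2 : ∑ i, ψ (a i) • x i = 0 := by
    apply Subtype.ext
    rw [Submodule.coe_sum]
    simpa using h1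
  have h3 : ∑ i, residue A (ψ (a i)) • (maximalIdeal A).toCotangent (x i) = 0 := by
    have := congrArg (maximalIdeal A).toCotangent h2
    rw [map_sum, map_zero] at this
    rw [← this]
    refine Finset.sum_congr rfl fun i _ => ?_
    rw [map_smul]
    rfl
  have h4 := Fintype.linearIndependent_iff.mp hlin _ h3
  have h5 : ∀ i, a i ∈ maximalIdeal (MvPowerSeries (Fin n) K) := by
    intro i
    apply hlocal
    have := h4 i
    rwa [residue_eq_zero_iff] at this
  rw [← ha, pow_two]
  refine Ideal.sum_mem _ fun i _ => ?_
  refine Ideal.mul_mem_mul (h5 i) ?_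
  rw [Groth.Agent.Helper5.PSR.maximalIdeal_eq_span_X]
  exact Ideal.subset_span ⟨i, rfl⟩

open IsLocalRing MvPowerSeries in
theorem key (A : Type u) [CommRing A] [IsLocalRing A] [IsNoetherianRing A]
    [IsAdicComplete (maximalIdeal A) A] (s : ResidueField A →+* A)
    (hs : (residue A).comp s = RingHom.id _) :
    ∃ (n : ℕ) (f : MvPowerSeries (Fin n) (ResidueField A) →+* A),
      Function.Surjective f ∧
        RingHom.ker f ≤ maximalIdeal (MvPowerSeries (Fin n) (ResidueField A)) ^ 2 := by
  classical
  let n := Module.finrank (ResidueField A) (CotangentSpace A)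
  let b : Module.Basis (Fin n) (ResidueField A) (CotangentSpace A) :=
    Module.finBasis (ResidueField A) (CotangentSpace A)
  have hex : ∀ i, ∃ x : maximalIdeal A, (maximalIdeal A).toCotangent x = b i :=
    fun i => Ideal.toCotangent_surjective _ (b i)
  choose x hx using hex
  have hxb : (fun i : Fin n => (maximalIdeal A).toCotangent (x i)) = b := funext hx
  let y : Fin n → A := fun i => (x i : A)
  have hy : ∀ i, y i ∈ maximalIdeal A := fun i => (x i).2
  have hyx : ∀ i, (⟨y i, hy i⟩ : maximalIdeal A) = x i := fun i => Subtype.ext rfl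
  have hspan : Ideal.span (Set.range y) = maximalIdeal A := by
    apply Groth.Agent.Helper5.PSR.ideal_span_eq_of_cotangent_span y hy
    have : (fun i : Fin n => (maximalIdeal A).toCotangent ⟨y i, hy i⟩) = b := by
      funext i
      rw [hyx, hx]
    rw [this]
    exact b.span_eq
  have hlin : LinearIndependent (ResidueField A)
      (fun i => (maximalIdeal A).toCotangent (x i)) := by
    rw [hxb]
    exact b.linearIndependent
  letI : Algebra (ResidueField A) A := s.toAlgebra
  have hres : ∀ c : ResidueField A, residue A (algebraMap (ResidueField A) A c) = c :=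
    fun c => DFunLike.congr_fun hs c
  let ψ : MvPowerSeries (Fin n) (ResidueField A) →ₐ[ResidueField A] A :=
    Groth.Agent.Helper5.PSR.evalHom y hy
  have hψX : ∀ i, ψ (X i) = y i := Groth.Agent.Helper5.PSR.evalHom_X y hy
  have hsurj : Function.Surjective ψ := by
    apply Groth.Agent.Helper5.PSR.surjective_of_span_eq
    · intro c
      exact ⟨c, hres c⟩
    · have : (fun i => ψ (X i)) = y := funext hψX
      rw [this, hspan]
  exact ⟨n, ψ.toRingHom, hsurj, ker_le A (ResidueField A) n ψ.toRingHom x hlin hψX⟩

open IsLocalRing in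
/-- Let A be a complete Noetherian local ring whose residue field has characteristic p (p = 0 allowed).
The following are equivalent: (a) A contains a field, i.e. there is a ring homomorphism from a field
into A; (b) p·1 = 0 in A; (c) A is isomorphic to a quotient of a power series ring K[[T_1, …, T_n]]
over a field K. Moreover, when they hold, the surjection in (c) may be chosen with kernel contained
in the square of the maximal ideal of K[[T_1, …, T_n]]. -/
theorem result (A : Type u) [CommRing A] [IsLocalRing A] [IsNoetherianRing A]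
    [IsAdicComplete (maximalIdeal A) A] (p : ℕ) [CharP (ResidueField A) p] :
    [∃ (K : Type u) (_ : Field K), Nonempty (K →+* A),
     (p : A) = 0,
     ∃ (K : Type u) (_ : Field K) (n : ℕ) (f : MvPowerSeries (Fin n) K →+* A), Function.Surjective f].TFAE ∧
    ((p : A) = 0 → ∃ (K : Type u) (_ : Field K) (n : ℕ) (f : MvPowerSeries (Fin n) K →+* A),
      Function.Surjective f ∧ RingHom.ker f ≤ maximalIdeal (MvPowerSeries (Fin n) K) ^ 2) := by
  have hbc : (p : A) = 0 → ∃ (K : Type u) (_ : Field K) (n : ℕ)
      (f : MvPowerSeries (Fin n) K →+* A),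
      Function.Surjective f ∧ RingHom.ker f ≤ maximalIdeal (MvPowerSeries (Fin n) K) ^ 2 := by
    intro hp0
    obtain ⟨s, hs⟩ := exists_section' A p hp0
    obtain ⟨n, f, hf, hker⟩ := key A s hs
    exact ⟨ResidueField A, inferInstance, n, f, hf, hker⟩
  refine ⟨?_, hbc⟩
  tfae_have 1 → 2 := by
    rintro ⟨K, _, ⟨φ⟩⟩
    haveI : CharP K p :=
      (RingHom.charP_iff ((residue A).comp φ) ((residue A).comp φ).injective p).mpr inferInstance
    have : (p : K) = 0 := CharP.cast_eq_zero K p
    have h2 := congrArg φ this
    rwa [map_natCast, map_zero] at h2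
  tfae_have 2 → 3 := by
    intro hp0
    obtain ⟨K, hK, n, f, hf, -⟩ := hbc hp0
    exact ⟨K, hK, n, f, hf⟩
  tfae_have 3 → 1 := by
    rintro ⟨K, hK, n, f, -⟩
    exact ⟨K, hK, ⟨f.comp MvPowerSeries.C⟩⟩
  tfae_finish

end Groth.Agent.S4511
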