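import Groth.Statements.S4513
import Mathlib
import Groth.Agent.Lib.Helper14.AdicFSGeomReg
import Groth.Agent.Lib.Helper14.GeomRedTFAE
import Groth.Agent.Lib.Lead.RLR1
-- import your own Groth.Agent.* helpers here

set_option autoImplicit false
universe u
open EGA41

namespace Groth.Agent.S4513

open IsLocalRing in
/-- Let A be a Noetherian local ring and k a field mapping to A such that A is formally smooth over k
for the adic topology of its maximal ideal (k discrete). Then every field K with k → K → A
(compatible ring maps) is a separable extension of k, i.e. K is geometrically reduced over k. -/
theorem result {k A K : Type u} [Field k] [CommRing A]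
    [IsLocalRing A] [IsNoetherianRing A] [Algebra k A] (h : CAlgX.IsAdicFormallySmooth k A (maximalIdeal A))
    [Field K] [Algebra k K] [Algebra K A] [IsScalarTower k K A] :
    Algebra.IsGeometricallyReduced k K := by
  classical
  apply Groth.Agent.Helper14.isGeometricallyReduced_of_forall_finite_purelyInseparable
  intro k' _ _ _ _
  have hreg := Groth.Agent.Helper14.AdicFSGeomReg.isRegularRing_tensor h k'
  have hred : IsReduced (TensorProduct k k' A) := by
    apply isReduced_ofLocalizationMaximal
    intro J hJ
    haveI : IsRegularLocalRing (Localization.AtPrime J) :=
      IsRegularRing.isRegularLocalRing_localization J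
    haveI := Groth.Agent.Lead.RLR.isDomain (Localization.AtPrime J)
    infer_instance
  have hinj : Function.Injective (algebraMap K A) := (algebraMap K A).injective
  let f : TensorProduct k k' K →ₐ[k] TensorProduct k k' A :=
    Algebra.TensorProduct.map (AlgHom.id k k') (IsScalarTower.toAlgHom k K A)
  have hf : Function.Injective f := by
    have h1 : Function.Injective
        (LinearMap.lTensor k' (IsScalarTower.toAlgHom k K A).toLinearMap) :=
      Module.Flat.lTensor_preserves_injective_linearMap _ hinj
    intro x y hxy
    apply h1
    have : ∀ z, f z = LinearMap.lTensor k' (IsScalarTower.toAlgHom k K A).toLinearMap z := by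
      intro z
      induction z using TensorProduct.induction_on with
      | zero => simp
      | tmul a b => simp [f]
      | add a b ha hb => rw [map_add, map_add, ha, hb]
    rw [← this, ← this, hxy]
  exact isReduced_of_injective f hf

end Groth.Agent.S4513
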