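import Groth.Statements.S4514
import Groth.Agent.Lib.Helper14.ModelExist
import Groth.Agent.S9444
-- import your own Groth.Agent.* helpers here

set_option autoImplicit false
universe u
open EGA41

namespace Groth.Agent.S4514

open IsLocalRing TensorProduct in
/-- Let A be a Noetherian local ring with residue field k, and let B₀ be a k-algebra which is a complete
regular local ring. Then there exist a complete Noetherian local ring B and a local homomorphism A →
B making B a flat A-module, such that B₀ is k-isomorphic to k ⊗_A B = B/𝔪B. -/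
theorem result {A : Type u} [CommRing A] [IsLocalRing A] [IsNoetherianRing A]
    (B₀ : Type u) [CommRing B₀] [IsRegularLocalRing B₀] [IsAdicComplete (maximalIdeal B₀) B₀]
    [Algebra (ResidueField A) B₀] :
    ∃ (B : Type u) (_ : CommRing B) (_ : IsLocalRing B) (_ : IsNoetherianRing B) (_ : Algebra A B)
      (_ : IsLocalHom (algebraMap A B)),
      IsAdicComplete (maximalIdeal B) B ∧ Module.Flat A B ∧
        Nonempty (ResidueField A ⊗[A] B ≃ₐ[ResidueField A] B₀) := by
  obtain ⟨d, ⟨e⟩⟩ := Groth.Agent.S9444.result B₀ (ResidueField A)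
  let σ : ResidueField A →+* MvPowerSeries (Fin d) (ResidueField B₀) :=
    (e : B₀ →+* _).comp (algebraMap (ResidueField A) B₀)
  obtain ⟨D, _, _, _, hDN, hDc, hDflat, hDloc, χ, hχ, hker, hcompat⟩ :=
    Groth.Agent.Helper14.ModelExist.exists_model d σ
  refine ⟨D, inferInstance, inferInstance, hDN, inferInstance, hDloc, hDc, hDflat, ?_⟩
  refine Groth.Agent.Helper14.ModelExist.fibre_equiv ((e.symm : _ →+* B₀).comp χ)
    (e.symm.surjective.comp hχ) ?_ ?_
  · rw [← hker]
    ext x
    simp only [RingHom.mem_ker, RingHom.comp_apply, RingHom.coe_coe]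
    exact map_eq_zero_iff _ e.symm.injective
  · intro a
    simp only [RingHom.comp_apply, RingHom.coe_coe]
    rw [hcompat a]
    exact e.symm_apply_apply _

end Groth.Agent.S4514
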