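import Groth.Statements.S4516
import Mathlib
import Groth.Agent.Lib.Helper9.PBasis4

set_option autoImplicit false
universe u
open EGA41

namespace Groth.Agent.S4516

/-- Let p be a prime, B an A-algebra of characteristic p and A' an A-subalgebra of B contained in
A[B^p]. Then the canonical map between Ω_{B/A} and Ω_{B/A'} is bijective (every A-derivation of B
vanishes on A[B^p]). -/
theorem result (p : ℕ) [Fact p.Prime] {A B : Type u}
    [CommRing A] [CommRing B] [Algebra A B] [CharP B p] (A' : Subalgebra A B)
    (hA' : A' ≤ EGA41.pPowerSubalgebra p A B) :
    Function.Bijective (KaehlerDifferential.map A A' B B) := by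
  refine ⟨?_, KaehlerDifferential.map_surjective A A' B⟩
  have hzero : ∀ c : A', KaehlerDifferential.D A B (c : B) = 0 := fun c =>
    Groth.Agent.Helper9.PBasis.der_coe_eq_zero (p := p) (KaehlerDifferential.D A B)
      ⟨(c : B), hA' c.2⟩
  let D' : Derivation A' B (Ω[B⁄A]) := Derivation.mk'
    { toFun := KaehlerDifferential.D A B
      map_add' := map_add _
      map_smul' := fun c b => by
        simp only [RingHom.id_apply]
        rw [Subalgebra.smul_def, smul_eq_mul, Derivation.leibniz, hzero, smul_zero, add_zero]
        rfl }
    (fun a b => Derivation.leibniz _ a b)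
  have hcomp : D'.liftKaehlerDifferential ∘ₗ (KaehlerDifferential.map A A' B B) = LinearMap.id := by
    apply Derivation.liftKaehlerDifferential_unique
    ext b
    change D'.liftKaehlerDifferential (KaehlerDifferential.map A A' B B
      (KaehlerDifferential.D A B b)) = KaehlerDifferential.D A B b
    rw [KaehlerDifferential.map_D]
    change D'.liftKaehlerDifferential (KaehlerDifferential.D A' B b) = _
    rw [Derivation.liftKaehlerDifferential_comp_D]
    rfl
  intro x y hxy
  have := congrArg D'.liftKaehlerDifferential hxy
  rw [← LinearMap.comp_apply, ← LinearMap.comp_apply, hcomp] at this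
  exact this

end Groth.Agent.S4516
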