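import Groth.Statements.S4517
import Mathlib

set_option autoImplicit false
universe u
open EGA41

namespace Groth.Agent.S4517

/-- Let p be a prime, B an A-algebra of characteristic p, and suppose there is s ≥ 0 such that b^(p^s)
lies in the image of A for every b ∈ B. Then the kernel of the multiplication map B ⊗_A B → B is a
nil ideal. -/
theorem result (p : ℕ) [Fact p.Prime] {A B : Type u}
    [CommRing A] [CommRing B] [Algebra A B] [CharP B p] (s : ℕ)
    (hpow : ∀ b : B, b ^ p ^ s ∈ Set.range (algebraMap A B)) :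
    ∀ x ∈ KaehlerDifferential.ideal A B, IsNilpotent x := by
  intro x hx
  rcases subsingleton_or_nontrivial (TensorProduct A B B) with hsub | hnt
  · exact ⟨1, Subsingleton.elim _ _⟩
  have hp0 : ((p : ℕ) : TensorProduct A B B) = 0 := by
    have h1 : ((p : ℕ) : B) = 0 := CharP.cast_eq_zero B p
    have h2 : (Algebra.TensorProduct.includeLeft (R := A) (S := A) (A := B) (B := B)) ((p : ℕ) : B) =
        ((p : ℕ) : TensorProduct A B B) := map_natCast _ p
    rw [← h2, h1, map_zero]
  have hchar : CharP (TensorProduct A B B) p :=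
    (CharP.ringChar_of_prime_eq_zero (Fact.out : p.Prime) hp0) ▸ ringChar.charP _
  rw [← KaehlerDifferential.span_range_eq_ideal] at hx
  have hle : Ideal.span (Set.range fun s : B => (1 : B) ⊗ₜ[A] s - s ⊗ₜ[A] (1 : B)) ≤
      nilradical (TensorProduct A B B) := by
    rw [Ideal.span_le]
    rintro _ ⟨b, rfl⟩
    refine ⟨p ^ s, ?_⟩
    rw [sub_pow_char_pow, Algebra.TensorProduct.tmul_pow, Algebra.TensorProduct.tmul_pow, one_pow]
    obtain ⟨a, ha⟩ := hpow b
    rw [← ha, Algebra.algebraMap_eq_smul_one, TensorProduct.smul_tmul, sub_self]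
    exact Ideal.zero_mem _
  exact hle hx

end Groth.Agent.S4517
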