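import Groth.Statements.S4519
import Mathlib
import Groth.Agent.Lib.Helper9.PBasis3

set_option autoImplicit false
universe u
open EGA41

namespace Groth.Agent.S4519

/-- Let p be a prime, B a ring of characteristic p and A a subring of B with B^p ⊆ A (here: A → B
injective with every p-th power in its image; R → A → B with the image of R in B equal to the set of
p-th powers, so that R stands for B^p). If B admits a p-basis over A, then B is a formally smooth
A-algebra relative to R for the discrete topologies (square-zero liftings, as in the prelude's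
relative notion). -/
theorem result (p : ℕ) [Fact p.Prime] {R A B : Type u} [CommRing R] [CommRing A]
    [CommRing B] [Algebra R A] [Algebra A B] [Algebra R B] [IsScalarTower R A B] [CharP B p]
    (hinj : Function.Injective (algebraMap A B)) (hpow : ∀ b : B, b ^ p ∈ Set.range (algebraMap A B))
    (hR : Set.range (algebraMap R B) = Set.range fun b : B => b ^ p)
    {ι : Type u} (x : ι → B) (hx : EGA41.IsPBasis p A x) :
    EGA41.IsFormallySmoothRel R A B := by
  intro C _ _ _ _ J hJ u₀ ⟨u, hu⟩
  have hz : ∀ i a, algebraMap A B a = x i ^ p → u (x i) ^ p = algebraMap A C a := by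
    intro i a ha
    have hr : x i ^ p ∈ Set.range (algebraMap R B) := by rw [hR]; exact ⟨x i, rfl⟩
    obtain ⟨r, hr⟩ := hr
    have h1 : a = algebraMap R A r := hinj (by rw [ha, ← hr, IsScalarTower.algebraMap_apply R A B])
    rw [← map_pow, ← hr, AlgHom.commutes, h1, ← IsScalarTower.algebraMap_apply]
  obtain ⟨φ, ⟨h1, h2⟩, -⟩ := Groth.Agent.Helper9.PBasis.existsUnique_lift' hinj hpow hx
    (algebraMap A C) (fun i => u (x i)) hz
  refine ⟨{ φ with commutes' := h1 }, ?_⟩
  have hz' : ∀ i a, algebraMap A B a = x i ^ p → u₀ (x i) ^ p = algebraMap A (C ⧸ J) a := by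
    intro i a ha
    rw [← map_pow, ← ha, AlgHom.commutes]
  obtain ⟨ψ, -, huniq⟩ := Groth.Agent.Helper9.PBasis.existsUnique_lift' hinj hpow hx
    (algebraMap A (C ⧸ J)) (fun i => u₀ (x i)) hz'
  have e1 := huniq u₀.toRingHom ⟨fun a => u₀.commutes a, fun i => rfl⟩
  have e2 := huniq (((Ideal.Quotient.mkₐ A J).comp
    ({ φ with commutes' := h1 } : B →ₐ[A] C)).toRingHom) ⟨fun a => AlgHom.commutes _ a, fun i => by
      have := congrArg (fun f => f (x i)) hu
      simp only [AlgHom.comp_apply, AlgHom.restrictScalars_apply] at this
      change Ideal.Quotient.mk J (φ (x i)) = _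
      rw [h2]
      exact this⟩
  ext b
  have := congrArg (fun f => f b) (e2.trans e1.symm)
  exact this

end Groth.Agent.S4519
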