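import Groth.Statements.S4524
import Mathlib

set_option autoImplicit false
universe u
open EGA41

namespace Groth.Agent.S4524

/-- Let k be a field of characteristic 0 and K an extension of k. Then Ω_{K/k} = 0 if and only if K is
an algebraic extension of k. -/
theorem result {k K : Type u} [Field k] [CharZero k] [Field K] [Algebra k K] :
    Subsingleton (Ω[K⁄k]) ↔ Algebra.IsAlgebraic k K := by
  constructor
  · intro hΩ
    refine ⟨fun x => ?_⟩
    let L : IntermediateField k K := IntermediateField.adjoin k {x}
    -- K is formally smooth over L
    have : Algebra.FormallySmooth L K := by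
      obtain ⟨s, hs⟩ := exists_isTranscendenceBasis L (A := K)
      have : Algebra.IsAlgebraic (IntermediateField.adjoin L (Set.range ((↑) : s → K))) K :=
        hs.isAlgebraic_field
      have : Algebra.IsSeparable (IntermediateField.adjoin L (Set.range ((↑) : s → K))) K :=
        Algebra.IsAlgebraic.isSeparable_of_perfectField
      exact Algebra.FormallySmooth.of_algebraicIndependent_of_isSeparable hs.1
    -- injectivity of the base change map
    have hinj : Function.Injective (KaehlerDifferential.mapBaseChange k L K) := by
      rw [injective_iff_map_eq_zero]
      intro z hz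
      obtain ⟨w, rfl⟩ := (Algebra.H1Cotangent.exact_δ_mapBaseChange k L K z).mp hz
      rw [Subsingleton.elim w 0, map_zero]
    have : Subsingleton (TensorProduct L K Ω[L⁄k]) := hinj.subsingleton
    have : Subsingleton Ω[L⁄k] := by
      by_contra h
      rw [not_subsingleton_iff_nontrivial] at h
      exact not_subsingleton (TensorProduct L K Ω[L⁄k]) inferInstance
    have : Algebra.FormallyUnramified k L := ⟨inferInstance⟩
    have : Algebra.EssFiniteType k L :=
      IntermediateField.essFiniteType_iff.mpr ⟨{x}, by simp [L]⟩
    have : Algebra.IsSeparable k L := Algebra.FormallyUnramified.isSeparable k L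
    have hx : IsAlgebraic k (⟨x, IntermediateField.mem_adjoin_simple_self k x⟩ : L) :=
      Algebra.IsAlgebraic.isAlgebraic _
    exact (isAlgebraic_algHom_iff L.val L.val.injective
      (a := (⟨x, IntermediateField.mem_adjoin_simple_self k x⟩ : L))).mpr hx
  · intro h
    have : Algebra.IsSeparable k K := Algebra.IsAlgebraic.isSeparable_of_perfectField
    have : Algebra.FormallyUnramified k K := Algebra.FormallyUnramified.of_isSeparable k K
    infer_instance

end Groth.Agent.S4524
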