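import Groth.Statements.S4529
import Mathlib
import Groth.Agent.Lib.Helper9.TopModLib2

set_option autoImplicit false
universe u
open EGA41

namespace Groth.Agent.S4529

/-- Let A be a ring, M, N two A-modules with N projective, u : M → N a homomorphism and J an ideal of A;
suppose either (i) J is nilpotent, or (ii) J is contained in the Jacobson radical of A and M is of
finite type. Then u is left invertible if and only if the induced map u₀ : M/JM → N/JN is left
invertible. (A left inverse of u₀ composed with N → N/JN is an A-linear map v : N → M/JM with v ∘ u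
the projection, and conversely; the right-hand side is written in that form.) -/
theorem result {A : Type u} [CommRing A] {M N : Type u} [AddCommGroup M] [Module A M]
    [AddCommGroup N] [Module A N] [Module.Projective A N] (u : M →ₗ[A] N) (J : Ideal A)
    (hJ : IsNilpotent J ∨ (J ≤ (⊥ : Ideal A).jacobson ∧ Module.Finite A M)) :
    (∃ w : N →ₗ[A] M, w ∘ₗ u = LinearMap.id) ↔
      ∃ v : N →ₗ[A] M ⧸ (J • ⊤ : Submodule A M), v ∘ₗ u = (J • ⊤ : Submodule A M).mkQ := by
  constructor
  · rintro ⟨w, hw⟩
    exact ⟨(J • ⊤ : Submodule A M).mkQ ∘ₗ w, by rw [LinearMap.comp_assoc, hw, LinearMap.comp_id]⟩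
  · rintro ⟨v, hv⟩
    obtain ⟨w₀, hw₀⟩ := Module.projective_lifting_property (J • ⊤ : Submodule A M).mkQ v
      (Submodule.mkQ_surjective _)
    set φ : Module.End A M := w₀ ∘ₗ u with hφ
    set ε : Module.End A M := 1 - φ with hεdef
    have hε : ∀ z, ε z ∈ (J • ⊤ : Submodule A M) := by
      intro z
      rw [← Submodule.Quotient.mk_eq_zero, hεdef]
      change (J • ⊤ : Submodule A M).mkQ (z - w₀ (u z)) = 0
      rw [map_sub]
      have h1 : (J • ⊤ : Submodule A M).mkQ (w₀ (u z)) = v (u z) := LinearMap.congr_fun hw₀ (u z)
      have h2 : v (u z) = (J • ⊤ : Submodule A M).mkQ z := LinearMap.congr_fun hv z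
      rw [h1, h2, sub_self]
    have hunit : IsUnit φ := by
      rcases hJ with hnil | ⟨hjac, hfin⟩
      · obtain ⟨n, hn⟩ := hnil
        have hεn : ε ^ n = 0 := by
          ext z
          have := Groth.Agent.Helper9.TopModLib.range_pow_le J ε hε n z
          rw [hn, Ideal.zero_eq_bot, Submodule.bot_smul] at this
          simpa using this
        have : IsUnit (1 - ε) := IsNilpotent.isUnit_one_sub ⟨n, hεn⟩
        rwa [hεdef, sub_sub_cancel] at this
      · have hsurj : Function.Surjective φ := by
          rw [← LinearMap.range_eq_top, eq_top_iff]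
          apply Submodule.le_of_le_smul_of_le_jacobson_bot Module.Finite.fg_top hjac
          intro z _
          have hz : z = φ z + ε z := by
            rw [hεdef]; simp
          rw [hz]
          exact Submodule.add_mem_sup (LinearMap.mem_range_self _ _) (hε z)
        have hinj : Function.Injective φ :=
          OrzechProperty.injective_of_surjective_endomorphism φ hsurj
        exact (Module.End.isUnit_iff φ).mpr ⟨hinj, hsurj⟩
    obtain ⟨e, he⟩ := hunit
    refine ⟨((e⁻¹ : (Module.End A M)ˣ) : Module.End A M) ∘ₗ w₀, ?_⟩
    rw [LinearMap.comp_assoc]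
    change ((e⁻¹ : (Module.End A M)ˣ) : Module.End A M) * φ = 1
    rw [← he]
    exact e.inv_mul

end Groth.Agent.S4529
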