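import Groth.Statements.S4531
import Mathlib
import Groth.Agent.Lib.Helper9.LeftInv

set_option autoImplicit false
universe u
open EGA41

namespace Groth.Agent.S4531

open TensorProduct in
/-- Let A be a ring, M an A-module of finite type, N a projective A-module and u : M → N a homomorphism.
(i) u is left invertible if and only if u_𝔪 : M_𝔪 → N_𝔪 is left invertible for every maximal ideal 𝔪
of A. (ii) If A' is an A-algebra which is a faithfully flat A-module, u is left invertible if and
only if u ⊗ 1 : M ⊗_A A' → N ⊗_A A' is left invertible (as an A'-linear map). -/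
theorem result {A : Type u} [CommRing A] {M N : Type u} [AddCommGroup M] [Module A M]
    [Module.Finite A M] [AddCommGroup N] [Module A N] [Module.Projective A N] (u : M →ₗ[A] N) :
    ((∃ w : N →ₗ[A] M, w ∘ₗ u = LinearMap.id) ↔
      ∀ (m : Ideal A) [m.IsMaximal],
        ∃ w : LocalizedModule m.primeCompl N →ₗ[A] LocalizedModule m.primeCompl M,
          w ∘ₗ LocalizedModule.map m.primeCompl u = LinearMap.id) ∧
    ∀ (A' : Type u) [CommRing A'] [Algebra A A'] [Module.FaithfullyFlat A A'],
      (∃ w : N →ₗ[A] M, w ∘ₗ u = LinearMap.id) ↔
        ∃ w : A' ⊗[A] N →ₗ[A'] A' ⊗[A] M, w ∘ₗ u.baseChange A' = LinearMap.id := by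
  have h1 : (∃ w : N →ₗ[A] M, w ∘ₗ u = LinearMap.id) ↔
      Groth.Agent.Helper9.LeftInv.splitIdeal u = ⊤ := by
    rw [Ideal.eq_top_iff_one]
    exact Groth.Agent.Helper9.LeftInv.one_mem_splitIdeal.symm
  have hmax : (∀ (m : Ideal A) [m.IsMaximal],
      ∃ a ∈ m.primeCompl, a ∈ Groth.Agent.Helper9.LeftInv.splitIdeal u) →
      Groth.Agent.Helper9.LeftInv.splitIdeal u = ⊤ := by
    intro h
    by_contra hne
    obtain ⟨m, hm, hle⟩ := Ideal.exists_le_maximal _ hne
    obtain ⟨a, haS, ha⟩ := h m
    exact haS (hle ha)
  refine ⟨?_, ?_⟩
  · constructor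
    · intro hw m _
      exact (Groth.Agent.Helper9.LeftInv.leftInverse_localizedModule_iff m.primeCompl u).mpr
        ⟨1, Submonoid.one_mem _, by rw [h1.mp hw]; trivial⟩
    · intro h
      refine h1.mpr (hmax fun m _ => ?_)
      exact (Groth.Agent.Helper9.LeftInv.leftInverse_localizedModule_iff m.primeCompl u).mp (h m)
  · intro A' _ _ _
    constructor
    · rintro ⟨w, hw⟩
      exact ⟨w.baseChange A', by rw [← LinearMap.baseChange_comp, hw, LinearMap.baseChange_id]⟩
    · rintro ⟨w', hw'⟩
      refine h1.mpr (hmax fun m _ => ?_)
      apply Groth.Agent.Helper9.LeftInv.exists_mem_of_injective_lTensor u m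
      rw [← Module.FaithfullyFlat.lTensor_injective_iff_injective A A']
      let eM := TensorProduct.leftComm A A' m.ResidueField M
      let eN := TensorProduct.leftComm A A' m.ResidueField N
      have hcomm : ∀ z, eN ((u.lTensor m.ResidueField).lTensor A' z) =
          (u.lTensor A').lTensor m.ResidueField (eM z) := by
        intro z
        induction z with
        | zero => simp
        | add x y hx hy => simp only [map_add, hx, hy]
        | tmul x y =>
          induction y with
          | zero => simp
          | add y y' hy hy' => simp only [TensorProduct.tmul_add, map_add, hy, hy']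
          | tmul r m => simp [eM, eN]
      have hli : ∀ z, ((w'.restrictScalars A).lTensor m.ResidueField)
          ((u.lTensor A').lTensor m.ResidueField z) = z := by
        intro z
        have h2 : (w'.restrictScalars A) ∘ₗ (u.lTensor A') = LinearMap.id := by
          apply LinearMap.ext
          intro y
          exact LinearMap.congr_fun hw' y
        have h3 := LinearMap.lTensor_comp m.ResidueField (w'.restrictScalars A) (u.lTensor A')
        rw [h2, LinearMap.lTensor_id] at h3
        have := LinearMap.congr_fun h3 z
        simpa using this.symm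
      intro z z' hz
      apply eM.injective
      rw [← hli (eM z), ← hli (eM z'), ← hcomm, ← hcomm, hz]

end Groth.Agent.S4531
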