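import Groth.Statements.S4535
import Mathlib

set_option autoImplicit false
universe u
open EGA41

namespace Groth.Agent.S4535

open TensorProduct in
/-- Let B (𝔟-adic) be formally smooth over A (𝔞-adic) and let A' (𝔞'-adic) be a topological A-algebra (a
power of 𝔞 maps into 𝔞'). Then the A'-algebra A' ⊗_A B, with the tensor product topology, i.e. the
adic topology of the ideal generated by the images of 𝔞' and 𝔟, is formally smooth over A'. -/
theorem result {A B A' : Type u} [CommRing A] [CommRing B] [CommRing A'] [Algebra A B] [Algebra A A']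
    (𝔞 : Ideal A) (𝔟 : Ideal B) (𝔞' : Ideal A') (hAA' : ∃ k : ℕ, (𝔞 ^ k).map (algebraMap A A') ≤ 𝔞')
    (hB : EGA41.IsFormallySmoothAdic A 𝔞 B 𝔟) :
    EGA41.IsFormallySmoothAdic A' 𝔞' (A' ⊗[A] B)
      (𝔞'.map (algebraMap A' (A' ⊗[A] B)) ⊔
        𝔟.map (Algebra.TensorProduct.includeRight : B →ₐ[A] A' ⊗[A] B).toRingHom) := by
  intro C _ algC J hJ hA' u hu
  obtain ⟨k₀, hk₀⟩ := hAA'
  obtain ⟨k₁, hk₁⟩ := hA'
  obtain ⟨m, hm⟩ := hu
  letI algAC : Algebra A C := ((algebraMap A' C).comp (algebraMap A A')).toAlgebra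
  haveI : IsScalarTower A A' C := IsScalarTower.of_algebraMap_eq (fun _ => rfl)
  haveI : IsScalarTower A A' (C ⧸ J) := IsScalarTower.of_algebraMap_eq (fun _ => rfl)
  have hcond : ∃ k : ℕ, (𝔞 ^ k).map (algebraMap A C) = ⊥ := by
    refine ⟨k₀ * k₁, ?_⟩
    have h1 : algebraMap A C = (algebraMap A' C).comp (algebraMap A A') := rfl
    rw [h1, ← Ideal.map_map, pow_mul, Ideal.map_pow, eq_bot_iff, ← hk₁]
    exact Ideal.map_mono (Ideal.pow_right_mono hk₀ k₁)
  let uB : B →ₐ[A] C ⧸ J :=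
    (u.restrictScalars A).comp (Algebra.TensorProduct.includeRight : B →ₐ[A] A' ⊗[A] B)
  have huB : ∃ k : ℕ, ∀ x ∈ 𝔟 ^ k, uB x = 0 := by
    refine ⟨m, fun x hx => hm _ ?_⟩
    have h2 : (Algebra.TensorProduct.includeRight : B →ₐ[A] A' ⊗[A] B).toRingHom x ∈
        (𝔟 ^ m).map (Algebra.TensorProduct.includeRight : B →ₐ[A] A' ⊗[A] B).toRingHom :=
      Ideal.mem_map_of_mem _ hx
    rw [Ideal.map_pow] at h2
    exact Ideal.pow_right_mono le_sup_right m h2
  obtain ⟨vB, hvB⟩ := hB C J hJ hcond uB huB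
  let v : A' ⊗[A] B →ₐ[A'] C :=
    Algebra.TensorProduct.lift (Algebra.ofId A' C) vB (fun _ _ => Commute.all _ _)
  refine ⟨v, ?_⟩
  apply Algebra.TensorProduct.ext'
  intro a' b
  have h1 : a' ⊗ₜ[A] b = a' • ((1 : A') ⊗ₜ[A] b) := by
    rw [TensorProduct.smul_tmul', smul_eq_mul, mul_one]
  have h2 : Ideal.Quotient.mk J (vB b) = uB b := AlgHom.congr_fun hvB b
  rw [h1, map_smul, map_smul]
  congr 1
  change Ideal.Quotient.mk J (v ((1 : A') ⊗ₜ[A] b)) = uB b
  rw [← h2]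
  congr 1
  simp [v]

end Groth.Agent.S4535
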