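import Groth.Statements.S4536
import Mathlib
import Groth.Agent.Lib.Helper9.FSAdic2

set_option autoImplicit false
universe u
open EGA41

namespace Groth.Agent.S4536

/-- Let A carry the 𝔞-adic and B the 𝔟-adic topology, A → B being continuous (a power of 𝔞 maps into 𝔟).
Then B is formally smooth over A if and only if for every n the (A/𝔞ⁿ)-algebra B/𝔞ⁿB, with the adic
topology of the image of 𝔟, is formally smooth over the discrete ring A/𝔞ⁿ. -/
theorem result {A B : Type u} [CommRing A] [CommRing B] [Algebra A B]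
    (𝔞 : Ideal A) (𝔟 : Ideal B) (hAB : ∃ k : ℕ, (𝔞 ^ k).map (algebraMap A B) ≤ 𝔟) :
    EGA41.IsFormallySmoothAdic A 𝔞 B 𝔟 ↔
      ∀ n : ℕ, EGA41.IsFormallySmoothAdic (A ⧸ 𝔞 ^ n) ⊥ (B ⧸ (𝔞 ^ n).map (algebraMap A B))
        (𝔟.map (Ideal.Quotient.mk ((𝔞 ^ n).map (algebraMap A B)))) := by
  constructor
  · intro hB n
    exact Groth.Agent.Helper9.FSAdic.fs_quotient 𝔞 𝔟 (𝔞 ^ n) ⟨n, le_rfl⟩ hB
  · intro h C _ _ J hJ hA u hu
    obtain ⟨k, hk⟩ := hA
    exact Groth.Agent.Helper9.FSAdic.lift_of_quotient 𝔟 (𝔞 ^ k) (h k) C J hJ hk u hu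

end Groth.Agent.S4536
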