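import Groth.Statements.S4547
import Mathlib
import Groth.Agent.Lib.Helper9.LeftInv

set_option autoImplicit false
universe u
open EGA41

namespace Groth.Agent.S4547

open IsLocalRing TensorProduct in
/-- Let A be a local ring with residue field k, M an A-module of finite type, N a projective A-module
and u : M → N a homomorphism. Then u is left invertible if and only if there is a finite system of
generators (x_i) of M such that the elements 1 ⊗ u(x_i) of k ⊗_A N are linearly independent over k;
and such a system (x_i) is then a basis of M. -/
theorem result {A : Type u} [CommRing A] [IsLocalRing A] {M N : Type u}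
    [AddCommGroup M] [Module A M] [Module.Finite A M] [AddCommGroup N] [Module A N] [Module.Projective A N]
    (u : M →ₗ[A] N) :
    ((∃ w : N →ₗ[A] M, w ∘ₗ u = LinearMap.id) ↔
      ∃ (m : ℕ) (x : Fin m → M), Submodule.span A (Set.range x) = ⊤ ∧
        LinearIndependent (ResidueField A) (fun i => (1 : ResidueField A) ⊗ₜ[A] u (x i))) ∧
    ∀ (m : ℕ) (x : Fin m → M), Submodule.span A (Set.range x) = ⊤ →
      LinearIndependent (ResidueField A) (fun i => (1 : ResidueField A) ⊗ₜ[A] u (x i)) →
        ∃ b : Module.Basis (Fin m) A M, ∀ i, b i = x i := by
  classical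
  -- Step A
  have stepA : ∀ (m : ℕ) (x : Fin m → M), Submodule.span A (Set.range x) = ⊤ →
      LinearIndependent (ResidueField A) (fun i => (1 : ResidueField A) ⊗ₜ[A] u (x i)) →
      (∃ w : N →ₗ[A] M, w ∘ₗ u = LinearMap.id) ∧
        LinearIndependent (ResidueField A) (fun i => (1 : ResidueField A) ⊗ₜ[A] x i) := by
    intro m x hx hli
    have hli' : LinearIndependent (ResidueField A) (fun i => (1 : ResidueField A) ⊗ₜ[A] x i) := by
      apply LinearIndependent.of_comp (u.baseChange (ResidueField A))
      have : (u.baseChange (ResidueField A)) ∘ (fun i => (1 : ResidueField A) ⊗ₜ[A] x i) =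
          fun i => (1 : ResidueField A) ⊗ₜ[A] u (x i) := by
        funext i; simp
      rw [this]; exact hli
    have hspan : Submodule.span (ResidueField A)
        (Set.range (fun i => (1 : ResidueField A) ⊗ₜ[A] x i)) = ⊤ := by
      have h1 := Submodule.baseChange_span (R := A) (ResidueField A) (Set.range x)
      rw [hx, Submodule.baseChange_top] at h1
      rw [h1, ← Set.range_comp]
      rfl
    refine ⟨?_, hli'⟩
    apply Groth.Agent.Helper9.LeftInv.leftInverse_of_injective_lTensor_local u
    have hinj : Function.Injective (u.baseChange (ResidueField A)) := by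
      rw [← LinearMap.ker_eq_bot, LinearMap.ker_eq_bot']
      intro z hz
      have hzmem : z ∈ Submodule.span (ResidueField A)
          (Set.range (fun i => (1 : ResidueField A) ⊗ₜ[A] x i)) := by rw [hspan]; trivial
      obtain ⟨c, rfl⟩ := (Submodule.mem_span_range_iff_exists_fun _).mp hzmem
      rw [map_sum] at hz
      simp only [map_smul, LinearMap.baseChange_tmul] at hz
      have hc := Fintype.linearIndependent_iff.mp hli c hz
      simp [hc]
    exact hinj
  refine ⟨⟨?_, ?_⟩, ?_⟩
  · rintro ⟨w, hw⟩
    haveI : Module.Projective A M := Module.Projective.of_split u w hw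
    haveI : Module.Free A M := Module.free_of_flat_of_isLocalRing
    let b := Module.finBasis A M
    refine ⟨_, b, b.span_eq, ?_⟩
    apply LinearIndependent.of_comp (w.baseChange (ResidueField A))
    have : (w.baseChange (ResidueField A)) ∘ (fun i => (1 : ResidueField A) ⊗ₜ[A] u (b i)) =
        fun i => (b.baseChange (ResidueField A)) i := by
      funext i
      have h1 : w (u (b i)) = b i := LinearMap.congr_fun hw (b i)
      simp [h1]
    rw [this]
    exact (b.baseChange (ResidueField A)).linearIndependent
  · rintro ⟨m, x, hx, hli⟩
    exact (stepA m x hx hli).1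
  · intro m x hx hli
    obtain ⟨⟨w, hw⟩, hli'⟩ := stepA m x hx hli
    haveI : Module.Projective A M := Module.Projective.of_split u w hw
    have hLI : LinearIndependent A x := Module.IsLocalRing.linearIndependent_of_flat x hli'
    exact ⟨Module.Basis.mk hLI (by rw [hx]), fun i => Module.Basis.mk_apply _ _ i⟩

end Groth.Agent.S4547
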