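import Groth.Statements.S4552
import Mathlib

set_option autoImplicit false
universe u
open EGA41

namespace Groth.Agent.S4552

/-- For the 𝔞-adic topology on A and the deduced topology on M: the topological A-module M is formally
projective (for every open ideal 𝔞ⁿ, every pair of (A/𝔞ⁿ)-modules P, Q, every surjection P → Q and
every continuous A-linear map M → Q — here automatically continuous — there is a continuous A-linear
lift M → P) if and only if it is strictly formally projective, i.e. M/𝔞ⁿM is a projective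
(A/𝔞ⁿ)-module for every n. -/
theorem result {A : Type u} [CommRing A] (𝔞 : Ideal A) (M : Type u)
    [AddCommGroup M] [Module A M] :
    (∀ (n : ℕ) (P Q : Type u) [AddCommGroup P] [Module A P] [AddCommGroup Q] [Module A Q],
      (∀ a ∈ 𝔞 ^ n, ∀ y : P, a • y = 0) → (∀ a ∈ 𝔞 ^ n, ∀ y : Q, a • y = 0) →
      ∀ f : P →ₗ[A] Q, Function.Surjective f → ∀ v : M →ₗ[A] Q, ∃ w : M →ₗ[A] P, f ∘ₗ w = v) ↔
    ∀ n : ℕ, Module.Projective (A ⧸ 𝔞 ^ n) (M ⧸ (𝔞 ^ n • ⊤ : Submodule A M)) := by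
  have hsurj : ∀ n : ℕ, Function.Surjective (algebraMap A (A ⧸ 𝔞 ^ n)) :=
    fun n => Ideal.Quotient.mk_surjective
  constructor
  · intro h n
    apply Module.Projective.of_lifting_property
    intro P Q _ _ _ _ f g hf
    letI : Module A P := Module.compHom P (Ideal.Quotient.mk (𝔞 ^ n))
    letI : Module A Q := Module.compHom Q (Ideal.Quotient.mk (𝔞 ^ n))
    haveI : IsScalarTower A (A ⧸ 𝔞 ^ n) P := ⟨fun a r p => by
      change (a • r) • p = Ideal.Quotient.mk (𝔞 ^ n) a • (r • p)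
      rw [Algebra.smul_def, mul_smul]; rfl⟩
    haveI : IsScalarTower A (A ⧸ 𝔞 ^ n) Q := ⟨fun a r p => by
      change (a • r) • p = Ideal.Quotient.mk (𝔞 ^ n) a • (r • p)
      rw [Algebra.smul_def, mul_smul]; rfl⟩
    have hP : ∀ a ∈ 𝔞 ^ n, ∀ y : P, a • y = 0 := fun a ha y => by
      change Ideal.Quotient.mk (𝔞 ^ n) a • y = 0
      rw [Ideal.Quotient.eq_zero_iff_mem.mpr ha, zero_smul]
    have hQ : ∀ a ∈ 𝔞 ^ n, ∀ y : Q, a • y = 0 := fun a ha y => by
      change Ideal.Quotient.mk (𝔞 ^ n) a • y = 0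
      rw [Ideal.Quotient.eq_zero_iff_mem.mpr ha, zero_smul]
    obtain ⟨w, hw⟩ := h n P Q hP hQ (f.restrictScalars A) hf
      ((g.restrictScalars A) ∘ₗ (𝔞 ^ n • ⊤ : Submodule A M).mkQ)
    have hwker : (𝔞 ^ n • ⊤ : Submodule A M) ≤ LinearMap.ker w := by
      rw [Submodule.smul_le]
      intro a ha m _
      rw [LinearMap.mem_ker, map_smul, hP a ha]
    let w₁ : M ⧸ (𝔞 ^ n • ⊤ : Submodule A M) →ₗ[A] P := (𝔞 ^ n • ⊤ : Submodule A M).liftQ w hwker
    refine ⟨w₁.extendScalarsOfSurjective (hsurj n), ?_⟩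
    ext x
    obtain ⟨m, rfl⟩ := Submodule.Quotient.mk_surjective _ x
    exact LinearMap.congr_fun hw m
  · intro h n P Q _ _ _ _ hP hQ f hf v
    have htP : Module.IsTorsionBySet A P (𝔞 ^ n : Ideal A) := fun y a => hP a.1 a.2 y
    have htQ : Module.IsTorsionBySet A Q (𝔞 ^ n : Ideal A) := fun y a => hQ a.1 a.2 y
    letI : Module (A ⧸ 𝔞 ^ n) P := htP.module
    letI : Module (A ⧸ 𝔞 ^ n) Q := htQ.module
    haveI : IsScalarTower A (A ⧸ 𝔞 ^ n) P := htP.isScalarTower
    haveI : IsScalarTower A (A ⧸ 𝔞 ^ n) Q := htQ.isScalarTower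
    have hvker : (𝔞 ^ n • ⊤ : Submodule A M) ≤ LinearMap.ker v := by
      rw [Submodule.smul_le]
      intro a ha m _
      rw [LinearMap.mem_ker, map_smul, hQ a ha]
    let v₁ : M ⧸ (𝔞 ^ n • ⊤ : Submodule A M) →ₗ[A] Q := (𝔞 ^ n • ⊤ : Submodule A M).liftQ v hvker
    haveI := h n
    obtain ⟨g, hg⟩ := Module.projective_lifting_property
      (f.extendScalarsOfSurjective (hsurj n)) (v₁.extendScalarsOfSurjective (hsurj n)) hf
    refine ⟨(g.restrictScalars A) ∘ₗ (𝔞 ^ n • ⊤ : Submodule A M).mkQ, ?_⟩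
    ext m
    exact LinearMap.congr_fun hg (Submodule.Quotient.mk m)

end Groth.Agent.S4552
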