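import Groth.Statements.S4559
import Mathlib
import Groth.Agent.Lib.Helper9.FUnram

set_option autoImplicit false
universe u
open EGA41

namespace Groth.Agent.S4559

/-- Let A be 𝔞-adic and B a topological A-algebra for the 𝔟-adic topology (a power of 𝔞 maps into 𝔟).
Then B is a formally unramified A-algebra (for every homomorphism E → C of discrete A-algebras with
nilpotent kernel and every continuous u : B → C there is at most one continuous lift B → E; here E
discrete means killed by a power of 𝔞, and one may take C = E/J) if and only if the separated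
completion of Ω_{B/A}, i.e. its 𝔟-adic completion, is zero. -/
theorem result {A B : Type u} [CommRing A] [CommRing B] [Algebra A B]
    (𝔞 : Ideal A) (𝔟 : Ideal B) (hAB : ∃ k : ℕ, (𝔞 ^ k).map (algebraMap A B) ≤ 𝔟) :
    (∀ (E : Type u) [CommRing E] [Algebra A E], (∃ k : ℕ, (𝔞 ^ k).map (algebraMap A E) = ⊥) →
      ∀ J : Ideal E, IsNilpotent J → ∀ v₁ v₂ : B →ₐ[A] E,
        (∃ m : ℕ, ∀ x ∈ 𝔟 ^ m, v₁ x = 0) → (∃ m : ℕ, ∀ x ∈ 𝔟 ^ m, v₂ x = 0) →
        (∀ b : B, Ideal.Quotient.mk J (v₁ b) = Ideal.Quotient.mk J (v₂ b)) → v₁ = v₂) ↔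
    Subsingleton (AdicCompletion 𝔟 (Ω[B⁄A])) := by
  constructor
  · intro H
    have htop := Groth.Agent.Helper9.FUnram.smul_top_eq_top_of_unique 𝔞 𝔟 hAB H
    refine ⟨fun x y => ?_⟩
    apply AdicCompletion.ext
    intro n
    have hn := Groth.Agent.Helper9.FUnram.pow_smul_top_eq_top (M := Ω[B⁄A]) 𝔟 htop n
    haveI : Subsingleton (Ω[B⁄A] ⧸ (𝔟 ^ n • ⊤ : Submodule B Ω[B⁄A])) := by
      rw [Submodule.Quotient.subsingleton_iff]; exact hn
    exact Subsingleton.elim _ _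
  · intro hsub E _ _ hE J hJ v₁ v₂ hv₁ hv₂ hagree
    obtain ⟨m, hm⟩ := hv₁
    have h1 : (𝔟 • ⊤ : Submodule B Ω[B⁄A]) = ⊤ := by
      have hs : Subsingleton (Ω[B⁄A] ⧸ (𝔟 ^ 1 • ⊤ : Submodule B Ω[B⁄A])) :=
        (AdicCompletion.eval_surjective 𝔟 Ω[B⁄A] 1).subsingleton
      rw [Submodule.Quotient.subsingleton_iff, pow_one] at hs
      exact hs
    have hm' := Groth.Agent.Helper9.FUnram.pow_smul_top_eq_top (M := Ω[B⁄A]) 𝔟 h1 m
    exact Groth.Agent.Helper9.FUnram.eq_of_smul_top_eq_top (𝔟 ^ m) hm' J hJ v₁ v₂ hm hagree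

end Groth.Agent.S4559
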