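import Groth.Statements.S4560
import Mathlib
import Groth.Agent.Lib.Helper9.FUnram

set_option autoImplicit false
universe u
open EGA41

namespace Groth.Agent.S4560

/-- Let A be a ring, 𝔪 an ideal of A, B an A-algebra; give A the 𝔪-adic topology and B the topology
deduced from it (the 𝔪B-adic topology), and put A₀ = A/𝔪, B₀ = B/𝔪B. Then B is a formally unramified
A-algebra (for these topologies: E discrete means killed by a power of 𝔪, and continuity of maps B →
E is then automatic) if and only if Ω_{B₀/A₀} = 0, i.e. B₀ is a formally unramified A₀-algebra. -/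
theorem result {A B : Type u} [CommRing A] [CommRing B] [Algebra A B] (𝔪 : Ideal A) :
    (∀ (E : Type u) [CommRing E] [Algebra A E], (∃ k : ℕ, (𝔪 ^ k).map (algebraMap A E) = ⊥) →
      ∀ J : Ideal E, IsNilpotent J → ∀ v₁ v₂ : B →ₐ[A] E,
        (∀ b : B, Ideal.Quotient.mk J (v₁ b) = Ideal.Quotient.mk J (v₂ b)) → v₁ = v₂) ↔
    Subsingleton (Ω[B ⧸ 𝔪.map (algebraMap A B)⁄A ⧸ 𝔪]) := by
  set I : Ideal B := 𝔪.map (algebraMap A B) with hI
  constructor
  · intro H
    suffices h : Algebra.FormallyUnramified (A ⧸ 𝔪) (B ⧸ I) from h.subsingleton_kaehlerDifferential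
    rw [Algebra.FormallyUnramified.iff_comp_injective]
    intro E₀ _ _ I₀ hI₀ g₁ g₂ hg
    letI algAE : Algebra A E₀ := ((algebraMap (A ⧸ 𝔪) E₀).comp (Ideal.Quotient.mk 𝔪)).toAlgebra
    haveI : IsScalarTower A (A ⧸ 𝔪) E₀ := IsScalarTower.of_algebraMap_eq (fun _ => rfl)
    have hE : ∃ k : ℕ, (𝔪 ^ k).map (algebraMap A E₀) = ⊥ := ⟨1, by
      rw [pow_one, eq_bot_iff, Ideal.map_le_iff_le_comap]
      intro a ha
      rw [Ideal.mem_comap, Ideal.mem_bot]
      change algebraMap (A ⧸ 𝔪) E₀ (Ideal.Quotient.mk 𝔪 a) = 0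
      rw [Ideal.Quotient.eq_zero_iff_mem.mpr ha, map_zero]⟩
    let v₁ : B →ₐ[A] E₀ := (g₁.restrictScalars A).comp (Ideal.Quotient.mkₐ A I)
    let v₂ : B →ₐ[A] E₀ := (g₂.restrictScalars A).comp (Ideal.Quotient.mkₐ A I)
    have hv : v₁ = v₂ := H E₀ hE I₀ ⟨2, hI₀⟩ v₁ v₂ (fun b =>
      AlgHom.congr_fun hg (Ideal.Quotient.mk I b))
    ext x
    obtain ⟨b, rfl⟩ := Ideal.Quotient.mk_surjective x
    exact AlgHom.congr_fun hv b
  · intro hsub E _ _ hE J hJ v₁ v₂ hagree
    haveI : Algebra.FormallyUnramified (A ⧸ 𝔪) (B ⧸ I) := ⟨hsub⟩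
    haveI : Algebra.FormallyUnramified A (B ⧸ I) :=
      Algebra.FormallyUnramified.comp A (A ⧸ 𝔪) (B ⧸ I)
    have htop : (I • ⊤ : Submodule B Ω[B⁄A]) = ⊤ :=
      Groth.Agent.Helper9.FUnram.smul_top_eq_top_of_subsingleton_quotient 𝔪
    obtain ⟨k, hk⟩ := hE
    have hkill : ∀ x ∈ I ^ k, v₁ x = 0 := by
      have hle : I ^ k ≤ RingHom.ker v₁.toRingHom := by
        rw [hI, ← Ideal.map_pow, Ideal.map_le_iff_le_comap]
        intro a ha
        rw [Ideal.mem_comap, RingHom.mem_ker]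
        change v₁ (algebraMap A B a) = 0
        rw [v₁.commutes]
        have := Ideal.mem_map_of_mem (algebraMap A E) ha
        rwa [hk] at this
      exact fun x hx => hle hx
    exact Groth.Agent.Helper9.FUnram.eq_of_smul_top_eq_top (I ^ k)
      (Groth.Agent.Helper9.FUnram.pow_smul_top_eq_top (M := Ω[B⁄A]) I htop k) J hJ v₁ v₂ hkill hagree

end Groth.Agent.S4560
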