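import Groth.Statements.S4564
import Groth.Agent.Lib.Helper7.ComplN2
import Groth.Agent.Lib.Helper5.FinComplete

set_option autoImplicit false
universe u
open CAlg

namespace Groth.Agent.S4564

/-- Let A be a complete Noetherian local domain with fraction field K and K' a finite extension of K.
Then the integral closure of A in K' is a local ring, complete for the adic topology of its maximal
ideal. -/
theorem result {A K' : Type u} [CommRing A]
    [IsDomain A] [IsLocalRing A] [IsNoetherianRing A] [IsAdicComplete (IsLocalRing.maximalIdeal A) A]
    [Field K'] [Algebra A K'] [Algebra (FractionRing A) K'] [IsScalarTower A (FractionRing A) K']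
    [FiniteDimensional (FractionRing A) K'] :
    ∃ _ : IsLocalRing (integralClosure A K'),
      IsAdicComplete (IsLocalRing.maximalIdeal (integralClosure A K')) (integralClosure A K') := by
  classical
  have : Module.Finite A (integralClosure A K') :=
    Groth.Agent.Helper7.ComplN2.isN2_of_complete_local_domain A K' inferInstance
  have : HenselianLocalRing A :=
    Groth.Agent.Helper5.FinComplete.henselianLocalRing_of_isAdicComplete A
  have hloc : IsLocalRing (integralClosure A K') := by
    apply IsLocalRing.of_unique_max_ideal
    obtain ⟨m, hm⟩ := Ideal.exists_maximal (integralClosure A K')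
    refine ⟨m, hm, fun m' hm' => ?_⟩
    by_contra hne
    obtain ⟨e, he, he1, he2⟩ :=
      Groth.Agent.Helper1.exists_isIdempotentElem_mem_notMem (R := A) m' m hne
    rcases IsIdempotentElem.iff_eq_zero_or_one.mp he with h | h
    · exact he2 (h ▸ m.zero_mem)
    · exact hm'.ne_top ((Ideal.eq_top_iff_one _).mpr (h ▸ he1))
  exact ⟨hloc, Groth.Agent.Helper5.FinComplete.isAdicComplete_maximalIdeal_of_finite A
    (integralClosure A K')⟩

end Groth.Agent.S4564
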