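import Groth.Statements.S4569
import Mathlib

set_option autoImplicit false
universe u
open CAlg

namespace Groth.Agent.S4569

theorem aux {A : Type*} [CommRing A] (x : A) (hx : x ∈ nonZeroDivisors A)
    (hp : (Ideal.span ({x} : Set A)).IsPrime) (n : ℕ) :
    ∀ a s c : A, s ∉ Ideal.span ({x} : Set A) → s * a = x ^ n * c → a ∈ Ideal.span ({x ^ n} : Set A) := by
  induction n with
  | zero => intro a s c _ _; simp
  | succ n ih =>
    intro a s c hs h
    have h1 : s * a ∈ Ideal.span ({x} : Set A) := by
      rw [h, Ideal.mem_span_singleton]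
      exact ⟨x ^ n * c, by ring⟩
    rcases hp.mem_or_mem h1 with h2 | h2
    · exact absurd h2 hs
    · obtain ⟨a1, rfl⟩ := Ideal.mem_span_singleton.mp h2
      have h3 : s * a1 = x ^ n * c := by
        have h4 : (s * a1 - x ^ n * c) * x = 0 := by
          have : s * (x * a1) = x ^ (n + 1) * c := h
          linear_combination this
        have := (mem_nonZeroDivisors_iff_right.mp hx) _ h4
        exact sub_eq_zero.mp this
      obtain ⟨d, hd⟩ := Ideal.mem_span_singleton.mp (ih a1 s c hs h3)
      rw [Ideal.mem_span_singleton]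
      exact ⟨d, by rw [hd]; ring⟩

/-- Let A be a ring, x a non-zero-divisor of A with p = xA prime. For every n > 0 the inverse image in A
of x^n A_p is x^n A. -/
theorem result {A : Type u} [CommRing A] (x : A)
    (hx : x ∈ nonZeroDivisors A) [(Ideal.span ({x} : Set A)).IsPrime] (n : ℕ) (hn : 0 < n) :
    Ideal.comap (algebraMap A (Localization.AtPrime (Ideal.span ({x} : Set A))))
      (Ideal.map (algebraMap A (Localization.AtPrime (Ideal.span ({x} : Set A)))) (Ideal.span ({x ^ n} : Set A))) =
      Ideal.span ({x ^ n} : Set A) := by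
  apply le_antisymm
  · intro a ha
    rw [Ideal.mem_comap, IsLocalization.mem_map_algebraMap_iff
      (Ideal.span ({x} : Set A)).primeCompl] at ha
    obtain ⟨⟨⟨i, hi⟩, ⟨s, hs⟩⟩, h⟩ := ha
    simp only at h
    rw [← map_mul, IsLocalization.eq_iff_exists (Ideal.span ({x} : Set A)).primeCompl] at h
    obtain ⟨⟨u, hu⟩, h⟩ := h
    simp only at h
    obtain ⟨c, rfl⟩ := Ideal.mem_span_singleton.mp hi
    refine aux x hx inferInstance n a (u * s) (u * c) ?_ ?_
    · intro hmem
      rcases Ideal.IsPrime.mem_or_mem inferInstance hmem with h1 | h1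
      · exact hu h1
      · exact hs h1
    · linear_combination h
  · exact Ideal.le_comap_map

end Groth.Agent.S4569
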