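import Groth.Statements.S4571
import Mathlib
import Groth.Agent.Lib.Helper14.AdicFSPrime
import Groth.Agent.Lib.Helper14.AdicFSKaehler
import Groth.Agent.Lib.Helper14.AdicFSDer
import Groth.Agent.Lib.Helper26.AFS1
import Groth.Agent.Lib.Helper26.AFS2
import Groth.Agent.Lib.Helper26.AFS3

set_option autoImplicit false
universe u
open TensorProduct KaehlerDifferential IsLocalRing
open EGA41

namespace Groth.Agent.S4571

/-- For an arbitrary local algebra: let k be a field and A a local k-algebra with maximal ideal m and
residue field K. Then A is formally smooth over k for the m-adic topology if and only if the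
canonical maps Sym^n_K(m/m²) → m^n/m^(n+1) are bijective for n ≥ 1 and the canonical map Ω_{k/ℤ} ⊗_k
K → Ω_{A/ℤ} ⊗_A K is injective (absolute differentials, which agree with differentials over the
prime field). -/
theorem result {k A : Type u} [Field k] [CommRing A]
    [IsLocalRing A] [Algebra k A] :
    CAlgX.IsAdicFormallySmooth k A (maximalIdeal A) ↔
      (PP16.SymGrBijective A (maximalIdeal A) ∧
        Function.Injective ((mapBaseChange ℤ k A).lTensor (ResidueField A))) := by
  obtain ⟨F, _, _, hF, hFs⟩ := Groth.Agent.Helper14.AdicFSPrime.exists_primeField k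
  let _ : Algebra F A := ((algebraMap k A).comp (algebraMap F k)).toAlgebra
  have _ : IsScalarTower F k A := IsScalarTower.of_algebraMap_eq fun x => rfl
  let _ : Field (A ⧸ maximalIdeal A) := Ideal.Quotient.field (maximalIdeal A)
  have _ : Algebra.FormallySmooth F (A ⧸ maximalIdeal A) := hFs (A ⧸ maximalIdeal A)
  have _ : Algebra.FormallySmooth F k := hFs k
  constructor
  · intro h
    refine ⟨?_, Groth.Agent.Helper14.AdicFSKaehler.injective_of_adicFS h⟩
    have h1 : CAlgX.IsAdicFormallySmooth F A (maximalIdeal A) :=
      Groth.Agent.Lib.Helper26.AFS3.adic_comp (Λ := F) (A := k) (B := A) (maximalIdeal A) h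
    exact (Groth.Agent.Lib.Helper26.AFS1.forward (A := F) h1).2
  · rintro ⟨hsym, hφ⟩
    have hproj : Module.Projective (A ⧸ maximalIdeal A) (maximalIdeal A).Cotangent :=
      Module.Projective.of_free
    have h1 : CAlgX.IsAdicFormallySmooth F A (maximalIdeal A) :=
      Groth.Agent.Lib.Helper26.AFS2.backward (A := F) (maximalIdeal A) hproj hsym
    exact Groth.Agent.Helper14.AdicFSDer.of_tower (maximalIdeal A) h1
      (fun V _ _ hV δ hδ =>
        Groth.Agent.Helper14.AdicFSKaehler.exists_derivation_of_injective hφ V hV δ hδ)

end Groth.Agent.S4571
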