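import Groth.Statements.S4575
import Mathlib
import Groth.Agent.Lib.Lead.RLR6

set_option autoImplicit false
universe u
open IsLocalRing
open EGA41

namespace Groth.Agent.S4575

/-- Let R be a regular local ring with maximal ideal m and n a proper ideal with R/n regular. Then
(n/n²) ⊗_R K → (m/m²) ⊗_R K is injective, K the residue field; stated in the equivalent form n ∩ m²
= m·n (the kernel of n/mn → m/m² is (n ∩ m²)/mn). -/
theorem result {R : Type u} [CommRing R] [IsRegularLocalRing R]
    (n : Ideal R) (hn : n ≠ ⊤) (hreg : IsRegularRing (R ⧸ n)) :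
    n ⊓ maximalIdeal R ^ 2 = maximalIdeal R * n := by
  haveI : IsLocalRing (R ⧸ n) := Groth.Agent.Lead.RLR.isLocalRing_quotient hn
  haveI : IsRegularRing (R ⧸ n) := hreg
  haveI : IsRegularLocalRing (R ⧸ n) := IsRegularLocalRing.of_isRegularRing_of_isLocalRing _
  obtain ⟨c, e, z, hce, hz, hI⟩ :=
    Groth.Agent.Lead.RLR.exists_adapted_generators_of_regular_quotient n
  rw [hI]
  exact Groth.Agent.Lead.RLR.inf_sq_eq_mul_of_generators z hz hce.symm (Fin.castAdd e)
    (Fin.castAdd_injective c e)

end Groth.Agent.S4575
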