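import Groth.Statements.S4579
import Mathlib
import Groth.Agent.Lib.Helper14.AdicFSJacobi
import Groth.Agent.Lib.Helper14.FSSpread
import Groth.Agent.Lib.Helper14.AdicFSGeomReg
import Groth.Agent.Lib.Helper14.RegularLocalization
import Groth.Agent.S4578
-- import your own Groth.Agent.* helpers here

set_option autoImplicit false
universe u
open EGA41

namespace Groth.Agent.S4579

open TensorProduct in
theorem isRegularRing_tensor_of_forall_localization {k₀ C : Type u} [Field k₀] [CommRing C]
    [Algebra k₀ C] [IsNoetherianRing C] (k' : Type u) [Field k'] [Algebra k₀ k']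
    [Module.Finite k₀ k']
    (h : ∀ (p : Ideal C) [p.IsPrime], IsRegularRing (k' ⊗[k₀] Localization.AtPrime p)) :
    IsRegularRing (k' ⊗[k₀] C) := by
  let e : k' ⊗[k₀] C ≃ₐ[k₀] C ⊗[k₀] k' := Algebra.TensorProduct.comm k₀ k' C
  haveI : IsNoetherianRing (C ⊗[k₀] k') := IsNoetherianRing.of_finite C (C ⊗[k₀] k')
  haveI : IsNoetherianRing (k' ⊗[k₀] C) :=
    isNoetherianRing_of_ringEquiv (C ⊗[k₀] k') e.symm.toRingEquiv
  rw [isRegularRing_iff]
  intro n hn
  let incl : C →ₐ[k₀] k' ⊗[k₀] C := Algebra.TensorProduct.includeRight
  let p : Ideal C := n.comap incl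
  haveI : p.IsPrime := Ideal.comap_isPrime incl n
  letI : Algebra (k' ⊗[k₀] C) (k' ⊗[k₀] Localization.AtPrime p) :=
    (Algebra.TensorProduct.map (AlgHom.id k' k')
      (IsScalarTower.toAlgHom k₀ C (Localization.AtPrime p))).toRingHom.toAlgebra
  haveI : IsScalarTower k' (k' ⊗[k₀] C) (k' ⊗[k₀] Localization.AtPrime p) :=
    IsScalarTower.of_algebraMap_eq fun x => by
      change _ = Algebra.TensorProduct.map (AlgHom.id k' k')
        (IsScalarTower.toAlgHom k₀ C (Localization.AtPrime p)) (x ⊗ₜ 1)
      simp
  haveI hloc : IsLocalization (p.primeCompl.map (Algebra.TensorProduct.includeRight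
      (R := k₀) (A := k'))) (k' ⊗[k₀] Localization.AtPrime p) :=
    IsLocalization.tensorProduct_tensorProduct_right k₀ k' p.primeCompl (Localization.AtPrime p) (by
      ext a
      change Algebra.TensorProduct.map (AlgHom.id k' k')
        (IsScalarTower.toAlgHom k₀ C (Localization.AtPrime p)) (1 ⊗ₜ a) = 1 ⊗ₜ algebraMap C _ a
      simp)
  have hle : p.primeCompl.map (Algebra.TensorProduct.includeRight (R := k₀) (A := k')) ≤
      n.primeCompl := by
    rintro _ ⟨a, ha, rfl⟩
    exact ha
  have hunits : ∀ y : p.primeCompl.map (Algebra.TensorProduct.includeRight (R := k₀) (A := k')),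
      IsUnit (algebraMap (k' ⊗[k₀] C) (Localization.AtPrime n) y) := fun y =>
    IsLocalization.map_units (Localization.AtPrime n) (⟨y.1, hle y.2⟩ : n.primeCompl)
  letI : Algebra (k' ⊗[k₀] Localization.AtPrime p) (Localization.AtPrime n) :=
    (IsLocalization.lift hunits).toAlgebra
  haveI : IsScalarTower (k' ⊗[k₀] C) (k' ⊗[k₀] Localization.AtPrime p) (Localization.AtPrime n) :=
    IsScalarTower.of_algebraMap_eq' (IsLocalization.lift_comp hunits).symm
  haveI : IsLocalization (n.primeCompl.map (algebraMap (k' ⊗[k₀] C)
      (k' ⊗[k₀] Localization.AtPrime p))) (Localization.AtPrime n) :=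
    IsLocalization.isLocalization_of_submonoid_le (k' ⊗[k₀] Localization.AtPrime p)
      (Localization.AtPrime n) _ n.primeCompl hle
  haveI := h p
  haveI : IsRegularRing (Localization.AtPrime n) :=
    Groth.Agent.Helper14.RegularLocalization.isRegularRing_of_isLocalization
      (n.primeCompl.map (algebraMap (k' ⊗[k₀] C) (k' ⊗[k₀] Localization.AtPrime p)))
      (Localization.AtPrime n)
  exact IsRegularLocalRing.of_isRegularRing_of_isLocalRing _

/-- Let k₀ be a field, k a separable (formally smooth) extension field of k₀ and C a k-algebra of finite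
type. The following are equivalent: C is formally smooth over k₀ (discrete topologies); every C_p, p
prime, is formally smooth over k₀; every C_m, m maximal, is; C is geometrically regular over k₀.
(Geometric regularity is tested on finite extensions of k₀. The published statement quantifies the
last condition over all extensions k' of k₀; for infinite ones the base change need not be
Noetherian, so it need not be regular in the Noetherian sense, and the printed proof passes through
the local rings as here.) -/
theorem result {k₀ k C : Type u} [Field k₀] [Field k] [Algebra k₀ k]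
    [Algebra.FormallySmooth k₀ k] [CommRing C] [Algebra k C] [Algebra k₀ C] [IsScalarTower k₀ k C]
    [Algebra.FiniteType k C] :
    [Algebra.FormallySmooth k₀ C,
     ∀ (p : Ideal C) [p.IsPrime], Algebra.FormallySmooth k₀ (Localization.AtPrime p),
     ∀ (m : Ideal C) [m.IsMaximal], Algebra.FormallySmooth k₀ (Localization.AtPrime m),
     CAlg.IsGeometricallyRegular k₀ C].TFAE := by
  classical
  haveI : IsNoetherianRing C := Algebra.FiniteType.isNoetherianRing k C
  tfae_have 1 → 2 := by
    intro h p _
    haveI : Algebra.FormallySmooth C (Localization.AtPrime p) :=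
      Algebra.FormallySmooth.of_isLocalization p.primeCompl
    exact Algebra.FormallySmooth.comp k₀ C (Localization.AtPrime p)
  tfae_have 2 → 3 := by
    intro h m hm
    exact h m
  tfae_have 3 → 1 := by
    intro h
    obtain ⟨n, φ, hφ⟩ := Algebra.FiniteType.iff_quotient_mvPolynomial''.mp
      (inferInstance : Algebra.FiniteType k C)
    letI : Algebra (MvPolynomial (Fin n) k) C := φ.toRingHom.toAlgebra
    haveI : IsScalarTower k (MvPolynomial (Fin n) k) C :=
      IsScalarTower.of_algebraMap_eq' φ.comp_algebraMap.symm
    haveI : IsScalarTower k₀ (MvPolynomial (Fin n) k) C := by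
      refine IsScalarTower.of_algebraMap_eq (R := k₀) (S := MvPolynomial (Fin n) k) (A := C)
        fun r => ?_
      rw [IsScalarTower.algebraMap_apply k₀ k C,
        IsScalarTower.algebraMap_apply k (MvPolynomial (Fin n) k) C,
        ← IsScalarTower.algebraMap_apply k₀ k (MvPolynomial (Fin n) k)]
    have hsurj : Function.Surjective (algebraMap (MvPolynomial (Fin n) k) C) := hφ
    let P : Algebra.Extension.{u} k₀ C :=
      { Ring := MvPolynomial (Fin n) k, σ := _, algebraMap_σ := Function.surjInv_eq hsurj }
    haveI : Algebra.FormallySmooth k₀ P.Ring :=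
      Algebra.FormallySmooth.comp k₀ k (MvPolynomial (Fin n) k)
    haveI : IsNoetherianRing P.Ring :=
      (inferInstance : IsNoetherianRing (MvPolynomial (Fin n) k))
    exact Groth.Agent.Helper14.FSSpread.formallySmooth_of_forall_maximal P h
  tfae_have 2 → 4 := by
    intro h k' _ _ hfin
    haveI := hfin
    apply isRegularRing_tensor_of_forall_localization k'
    intro p _
    haveI : IsNoetherianRing (Localization.AtPrime p) :=
      IsLocalization.isNoetherianRing p.primeCompl _ inferInstance
    have h2 := ((Groth.Agent.S4578.result (k₀ := k₀) (k := k) p).out 0 1).mp (h p)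
    exact Groth.Agent.Helper14.AdicFSGeomReg.isRegularRing_tensor h2 k'
  tfae_have 4 → 2 := by
    intro h p _
    refine ((Groth.Agent.S4578.result (k₀ := k₀) (k := k) p).out 3 0).mp ?_
    intro k' _ _ hfin
    exact Groth.Agent.Helper14.RegularLocalization.isRegularRing_tensor_localization k'
      (h k' hfin) p.primeCompl (Localization.AtPrime p)
  tfae_finish

end Groth.Agent.S4579
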