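import Groth.Statements.S4580
import Mathlib
import Groth.Agent.Lib.Helper14.JacobiDer
import Groth.Agent.Lib.Helper14.FSSpread
-- import your own Groth.Agent.* helpers here

set_option autoImplicit false
universe u
open EGA41

namespace Groth.Agent.S4580

open Algebra Groth.Agent.Helper14 in
@[reducible] noncomputable def extP {k₀ k : Type u} [Field k₀] [Field k] [Algebra k₀ k] (r : ℕ)
    (J : Ideal (MvPolynomial (Fin r) k)) : Extension.{u} k₀ (MvPolynomial (Fin r) k ⧸ J) where
  Ring := MvPolynomial (Fin r) k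
  σ := Function.surjInv Ideal.Quotient.mk_surjective
  algebraMap_σ := Function.surjInv_eq Ideal.Quotient.mk_surjective

theorem extP_ker {k₀ k : Type u} [Field k₀] [Field k] [Algebra k₀ k] (r : ℕ)
    (J : Ideal (MvPolynomial (Fin r) k)) : (extP (k₀ := k₀) r J).ker = J :=
  Ideal.mk_ker (I := J)

theorem exists_mul_eq_sum {A : Type*} [CommRing A] (q : Ideal A) [q.IsPrime] (J : Ideal A)
    (hJ : J.FG) {m : ℕ} (f : Fin m → A)
    (hspan : J.map (algebraMap A (Localization.AtPrime q)) =
      Ideal.span (Set.range fun i => algebraMap A (Localization.AtPrime q) (f i))) :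
    ∃ s₀ ∉ q, ∀ x ∈ J, ∃ b : Fin m → A, s₀ * x = ∑ i, b i * f i := by
  classical
  set J' := Ideal.span (Set.range f) with hJ'
  have hmap : J'.map (algebraMap A (Localization.AtPrime q)) =
      J.map (algebraMap A (Localization.AtPrime q)) := by
    rw [hspan, hJ', Ideal.map_span, ← Set.range_comp]
    rfl
  have h1 : ∀ x ∈ J, ∃ s ∉ q, s * x ∈ J' := by
    intro x hx
    have : algebraMap A (Localization.AtPrime q) x ∈
        J'.map (algebraMap A (Localization.AtPrime q)) := by
      rw [hmap]; exact Ideal.mem_map_of_mem _ hx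
    rw [IsLocalization.mem_map_algebraMap_iff q.primeCompl] at this
    obtain ⟨⟨y, s⟩, hys⟩ := this
    rw [← map_mul, IsLocalization.eq_iff_exists q.primeCompl] at hys
    obtain ⟨c, hc⟩ := hys
    refine ⟨c * s, (c * s).2, ?_⟩
    have : (c : A) * s * x = c * y := by
      rw [← hc]; ring
    rw [this]
    exact Ideal.mul_mem_left _ _ y.2
  obtain ⟨T, hT⟩ := hJ
  choose! s hsq hs using h1
  refine ⟨∏ x ∈ T, s x, ?_, ?_⟩
  · intro h
    rw [Ideal.IsPrime.prod_mem_iff] at h
    obtain ⟨x, hxT, hx⟩ := h
    exact hsq x (hT ▸ Ideal.subset_span hxT) hx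
  · intro x hx
    have key : (∏ x ∈ T, s x) * x ∈ J' := by
      rw [← hT] at hx
      induction hx using Submodule.span_induction with
      | mem y hy =>
        have := hs y (hT ▸ Ideal.subset_span hy)
        rw [← Finset.mul_prod_erase T s hy, mul_comm (s y), mul_assoc]
        exact Ideal.mul_mem_left _ _ this
      | zero => simp
      | add a b _ _ ha hb => rw [mul_add]; exact add_mem ha hb
      | smul a b _ hb =>
        rw [smul_eq_mul, mul_left_comm]; exact Ideal.mul_mem_left _ _ hb
    rw [hJ', Ideal.mem_span_range_iff_exists_fun] at key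
    obtain ⟨c, hc⟩ := key
    exact ⟨c, hc.symm⟩

/-- Let k₀ be a field, k a separable (formally smooth) extension field of k₀, B = k[T_1, ..., T_r], J an
ideal of B and q a prime of B containing J, with image p in C = B/J. Then C_p is formally smooth
over k₀ for the discrete topologies if and only if there exist f_1, ..., f_m ∈ J whose images
generate J B_q and k₀-derivations D_1, ..., D_m of B with det(D_j f_i) ∉ q. -/
theorem result {k₀ k : Type u} [Field k₀] [Field k] [Algebra k₀ k]
    [Algebra.FormallySmooth k₀ k] (r : ℕ) (J q : Ideal (MvPolynomial (Fin r) k)) [q.IsPrime] (hJq : J ≤ q)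
    [(q.map (Ideal.Quotient.mk J)).IsPrime] :
    Algebra.FormallySmooth k₀ (Localization.AtPrime (q.map (Ideal.Quotient.mk J))) ↔
      ∃ (m : ℕ) (f : Fin m → MvPolynomial (Fin r) k) (D : Fin m → Derivation k₀ (MvPolynomial (Fin r) k) (MvPolynomial (Fin r) k)),
        (∀ i, f i ∈ J) ∧
        J.map (algebraMap (MvPolynomial (Fin r) k) (Localization.AtPrime q)) =
          Ideal.span (Set.range fun i => algebraMap (MvPolynomial (Fin r) k) (Localization.AtPrime q) (f i)) ∧
        Matrix.det (Matrix.of fun i j => D j (f i)) ∉ q := by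
  classical
  have hker : (extP (k₀ := k₀) r J).ker = J := extP_ker r J
  haveI : Algebra.FormallySmooth k₀ (extP (k₀ := k₀) r J).Ring :=
    (.comp k₀ k (MvPolynomial (Fin r) k) : Algebra.FormallySmooth k₀ (MvPolynomial (Fin r) k))
  haveI : IsNoetherianRing (extP (k₀ := k₀) r J).Ring :=
    (inferInstance : IsNoetherianRing (MvPolynomial (Fin r) k))
  constructor
  · intro hfs
    obtain ⟨g, hgM, hg⟩ := Groth.Agent.Helper14.FSSpread.exists_mem_retractionIdeal
      (extP (k₀ := k₀) r J) (q.map (Ideal.Quotient.mk J)).primeCompl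
      (Localization.AtPrime (q.map (Ideal.Quotient.mk J)))
    obtain ⟨g', rfl⟩ := Ideal.Quotient.mk_surjective g
    have hgq : g' ∉ q := fun h => hgM (Ideal.mem_map_of_mem _ h)
    obtain ⟨m, f, D, hf, hspan, hdet⟩ :=
      Groth.Agent.Helper14.JacobiDer.exists_jacobian_of_mem_retractionIdeal
        (extP (k₀ := k₀) r J) q (hker.symm ▸ hJq) g' hgq hg
    refine ⟨m, f, D, fun i => hker ▸ hf i, ?_, hdet⟩
    rw [← hker]
    exact hspan
  · rintro ⟨m, f, D, hf, hspan, hdet⟩
    obtain ⟨s₀, hs₀q, hs₀⟩ := exists_mul_eq_sum q J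
      ((isNoetherianRing_iff_ideal_fg _).mp inferInstance J) f hspan
    have hg := Groth.Agent.Helper14.JacobiDer.mem_retractionIdeal_of_jacobian
      (extP (k₀ := k₀) r J) f (fun i => hker.symm ▸ hf i) D s₀
      (fun x hx => hs₀ x (hker ▸ hx))
    refine Groth.Agent.Helper14.FSSpread.formallySmooth_atPrime_of_mem
      (extP (k₀ := k₀) r J) hg _ ?_
    change Ideal.Quotient.mk J _ ∉ _
    rw [Ideal.mem_quotient_iff_mem hJq]
    intro h
    rcases Ideal.IsPrime.mem_or_mem inferInstance h with h | h
    · exact hs₀q h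
    · exact hdet h

end Groth.Agent.S4580
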