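import Groth.Statements.S4584
import Mathlib

set_option autoImplicit false
universe u
open AlgebraicGeometry CategoryTheory Topology
open EGA41

namespace Groth.Agent.S4584

/-- Given a scheme X that is quasi-compact and quasi-separated, together with a constructible subset Z
of X, one can find an affine scheme X' with a morphism X' → X of finite presentation whose image
equals Z. -/
theorem result (X : Scheme.{u}) [CompactSpace X]
    [QuasiSeparatedSpace X] (Z : Set X) (hZ : IsConstructible Z) :
    ∃ (X' : Scheme.{u}) (f : X' ⟶ X), IsAffine X' ∧ LocallyOfFinitePresentation f ∧ QuasiCompact f ∧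
      QuasiSeparated f ∧ Set.range f.base = Z := by
  suffices H : ∃ (X' : Scheme.{u}) (f : X' ⟶ X), IsAffine X' ∧ LocallyOfFinitePresentation f ∧
      Set.range f.base = Z by
    obtain ⟨X', f, h1, h2, h3⟩ := H
    exact ⟨X', f, h1, h2, inferInstance, inferInstance, h3⟩
  have : Nonempty X.affineOpens := ⟨⟨⊥, isAffineOpen_bot X⟩⟩
  refine IsConstructible.induction_of_isTopologicalBasis
    (P := fun s _ => ∃ (X' : Scheme.{u}) (f : X' ⟶ X), IsAffine X' ∧
      LocallyOfFinitePresentation f ∧ Set.range f.base = s)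
    (fun i : X.affineOpens => ((i : X.Opens) : Set X)) ?_ (fun i => i.2.isCompact) ?_ ?_ Z hZ
  · have := X.isBasis_affineOpens
    rw [TopologicalSpace.Opens.IsBasis] at this
    convert this using 1
    ext s
    simp
  · intro i s hs
    obtain ⟨U, hU⟩ := i
    have hqc : QuasiCompact hU.fromSpec := inferInstance
    have hWo : IsOpen (⋃ j ∈ s, ((j : X.Opens) : Set X)) :=
      isOpen_biUnion fun j _ => (j : X.Opens).2
    have hWc : IsCompact (⋃ j ∈ s, ((j : X.Opens) : Set X)) :=
      hs.isCompact_biUnion fun j _ => j.2.isCompact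
    have hW : IsCompact (hU.fromSpec ⁻¹' (⋃ j ∈ s, ((j : X.Opens) : Set X))) :=
      hqc.isCompact_preimage _ hWo hWc
    obtain ⟨t, ht⟩ := PrimeSpectrum.isCompact_isOpen_iff.1 ⟨hW, hWo.preimage hU.fromSpec.continuous⟩
    refine ⟨Spec (.of (Γ(X, U) ⧸ Ideal.span (t : Set Γ(X, U)))),
      Spec.map (CommRingCat.ofHom (Ideal.Quotient.mk _)) ≫ hU.fromSpec, inferInstance, ?_, ?_⟩
    · have : LocallyOfFinitePresentation
          (Spec.map (CommRingCat.ofHom (Ideal.Quotient.mk (Ideal.span (t : Set Γ(X, U)))))) := by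
        rw [HasRingHomProperty.Spec_iff (P := @LocallyOfFinitePresentation)]
        exact RingHom.FinitePresentation.of_surjective _ Ideal.Quotient.mk_surjective
          (by change (RingHom.ker (Ideal.Quotient.mk _)).FG; rw [Ideal.mk_ker]; exact ⟨t, rfl⟩)
      infer_instance
    · rw [Scheme.Hom.comp_base, TopCat.coe_comp, Set.range_comp]
      have hr : Set.range (Spec.map (CommRingCat.ofHom
          (Ideal.Quotient.mk (Ideal.span (t : Set Γ(X, U)))))).base =
          PrimeSpectrum.zeroLocus (t : Set Γ(X, U)) := by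
        have := range_comap_of_surjective _
          (Ideal.Quotient.mk (Ideal.span (t : Set Γ(X, U)))) Ideal.Quotient.mk_surjective
        rw [Ideal.mk_ker, PrimeSpectrum.zeroLocus_span] at this
        exact this
      rw [hr]
      have hz : PrimeSpectrum.zeroLocus (t : Set Γ(X, U)) =
          (hU.fromSpec ⁻¹' (⋃ j ∈ s, ((j : X.Opens) : Set X)))ᶜ := by
        rw [← ht]
        exact (compl_compl _).symm
      rw [hz]
      ext x
      simp only [Set.mem_image, Set.mem_compl_iff, Set.mem_preimage, Set.mem_sdiff]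
      constructor
      · rintro ⟨y, hy, rfl⟩
        refine ⟨?_, hy⟩
        have : hU.fromSpec y ∈ Set.range hU.fromSpec := ⟨y, rfl⟩
        rw [hU.range_fromSpec] at this
        exact this
      · rintro ⟨hxU, hx⟩
        have : x ∈ Set.range hU.fromSpec := by rw [hU.range_fromSpec]; exact hxU
        obtain ⟨y, rfl⟩ := this
        exact ⟨y, hx, rfl⟩
  · rintro s hs t ht ⟨X₁, f₁, h₁, h₁', rfl⟩ ⟨X₂, f₂, h₂, h₂', rfl⟩
    refine ⟨Limits.coprod X₁ X₂, Limits.coprod.desc f₁ f₂, inferInstance, ?_, ?_⟩
    · rw [IsZariskiLocalAtSource.iff_of_openCover (P := @LocallyOfFinitePresentation)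
        (coprodOpenCover.{_, 0} X₁ X₂)]
      rintro (i | i)
      · change LocallyOfFinitePresentation (Limits.coprod.inl ≫ Limits.coprod.desc f₁ f₂)
        rw [Limits.coprod.inl_desc]; exact h₁'
      · change LocallyOfFinitePresentation (Limits.coprod.inr ≫ Limits.coprod.desc f₁ f₂)
        rw [Limits.coprod.inr_desc]; exact h₂'
    · ext x
      simp only [Set.mem_range, Set.mem_union]
      constructor
      · rintro ⟨y, rfl⟩
        obtain ⟨y, rfl⟩ := (coprodMk X₁ X₂).surjective y
        obtain (y | y) := y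
        · left
          refine ⟨y, ?_⟩
          rw [coprodMk_inl, ← Scheme.Hom.comp_apply, Limits.coprod.inl_desc]
        · right
          refine ⟨y, ?_⟩
          rw [coprodMk_inr, ← Scheme.Hom.comp_apply, Limits.coprod.inr_desc]
      · rintro (⟨y, rfl⟩ | ⟨y, rfl⟩)
        · exact ⟨(Limits.coprod.inl : X₁ ⟶ Limits.coprod X₁ X₂) y, by rw [← Scheme.Hom.comp_apply, Limits.coprod.inl_desc]⟩
        · exact ⟨(Limits.coprod.inr : X₂ ⟶ Limits.coprod X₁ X₂) y, by rw [← Scheme.Hom.comp_apply, Limits.coprod.inr_desc]⟩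

end Groth.Agent.S4584
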