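import Groth.Statements.S4585
import Mathlib
import Groth.Agent.Lib.Helper7.GenImage

set_option autoImplicit false
universe u
open AlgebraicGeometry CategoryTheory
open EGA41

namespace Groth.Agent.S4585

/-- Let Y be an irreducible scheme with generic point η and f : X → Y locally of finite type with
nonempty fibre over η. Then some open neighbourhood of η is contained in f(X). (The second
assertion, on fibres of a quasi-coherent module of finite type, is not stated.) -/
theorem result {X Y : Scheme.{u}} (f : X ⟶ Y)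
    [LocallyOfFiniteType f] [IrreducibleSpace Y] (h : genericPoint Y ∈ Set.range f.base) :
    genericPoint Y ∈ interior (Set.range f.base) := by
  obtain ⟨x, hx⟩ := h
  obtain ⟨_, ⟨(V : Y.Opens), hV : IsAffineOpen V, rfl⟩, hηV, -⟩ :=
    Y.isBasis_affineOpens.exists_subset_of_mem_open (Set.mem_univ (genericPoint Y)) isOpen_univ
  have hxV : x ∈ f ⁻¹ᵁ V := by
    change f.base x ∈ V
    rw [hx]; exact hηV
  obtain ⟨_, ⟨(U : X.Opens), hU : IsAffineOpen U, rfl⟩, hxU, hUV⟩ :=
    X.isBasis_affineOpens.exists_subset_of_mem_open hxV (f ⁻¹ᵁ V).2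
  have e : U ≤ f ⁻¹ᵁ V := hUV
  algebraize [(f.appLE V U e).hom]
  have hft : Algebra.FiniteType Γ(Y, V) Γ(X, U) := f.finiteType_appLE hV hU e
  let p₀ : Spec Γ(Y, V) := hV.primeIdealOf ⟨genericPoint Y, hηV⟩
  have hp₀ : (p₀ : PrimeSpectrum Γ(Y, V)) ∈
      Set.range (PrimeSpectrum.comap (algebraMap Γ(Y, V) Γ(X, U))) := by
    refine ⟨hU.primeIdealOf ⟨x, hxU⟩, ?_⟩
    have := IsAffineOpen.comap_primeIdealOf_appLE (f := f) V hV U hU e hxU
    refine this.trans ?_
    change hV.primeIdealOf _ = hV.primeIdealOf _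
    congr 2
  obtain ⟨a, ha, hall⟩ := Groth.Agent.Helper7.GenImage.exists_forall_mem_range_comap
    (p₀ : PrimeSpectrum Γ(Y, V)) hp₀
  rw [mem_interior]
  refine ⟨Y.basicOpen a, ?_, (Y.basicOpen a).2, ?_⟩
  · intro y hy
    have hyV : y ∈ V := Y.basicOpen_le a hy
    let p : Spec Γ(Y, V) := hV.primeIdealOf ⟨y, hyV⟩
    have hpy : hV.fromSpec p = y := hV.fromSpec_primeIdealOf ⟨y, hyV⟩
    have hp₀η : hV.fromSpec p₀ = genericPoint Y := hV.fromSpec_primeIdealOf ⟨genericPoint Y, hηV⟩
    have hspec : p₀ ⤳ p := by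
      rw [← hV.fromSpec.isOpenEmbedding.isInducing.specializes_iff, hpy, hp₀η]
      exact genericPoint_specializes y
    have hle : (p₀ : PrimeSpectrum Γ(Y, V)).asIdeal ≤ (p : PrimeSpectrum Γ(Y, V)).asIdeal :=
      (PrimeSpectrum.le_iff_specializes _ _).2 hspec
    have hap : a ∉ (p : PrimeSpectrum Γ(Y, V)).asIdeal := by
      have : p ∈ hV.fromSpec ⁻¹ᵁ Y.basicOpen a := by
        change hV.fromSpec p ∈ Y.basicOpen a
        rw [hpy]; exact hy
      rw [hV.fromSpec_preimage_basicOpen] at this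
      exact this
    obtain ⟨q, hq⟩ := hall p hle hap
    refine ⟨hU.fromSpec (q : Spec Γ(X, U)), ?_⟩
    rw [← hpy]
    have := IsAffineOpen.SpecMap_appLE_fromSpec f hV hU e
    have h2 := congrArg (fun g => g.base (q : Spec Γ(X, U))) this
    simp only [Scheme.Hom.comp_base, TopCat.comp_app] at h2
    rw [← h2]
    congr 1
  · change genericPoint Y ∈ Y.basicOpen a
    have hp₀η : hV.fromSpec p₀ = genericPoint Y := hV.fromSpec_primeIdealOf ⟨genericPoint Y, hηV⟩
    rw [← hp₀η]
    change p₀ ∈ hV.fromSpec ⁻¹ᵁ Y.basicOpen a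
    rw [hV.fromSpec_preimage_basicOpen]
    exact ha

end Groth.Agent.S4585
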