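import Groth.Statements.S4586
import Mathlib
import Groth.Agent.Lib.Helper5.ProConsImage
import Groth.Agent.Lib.Helper5.ProConsImage2
import Groth.Agent.Lib.Helper5.ProConsAffineImage
import Groth.Agent.Lib.Helper23.ProConsLib

set_option autoImplicit false
universe u
open AlgebraicGeometry CategoryTheory Topology
open EGA41

namespace Groth.Agent.S4586

/-- Let f : X → Y be surjective and either quasi-compact or locally of finite presentation, E ⊆ Y. Then
E is locally constructible (resp. pro-constructible, resp. ind-constructible) if and only if f⁻¹(E)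
is. -/
theorem result {X Y : Scheme.{u}} (f : X ⟶ Y) [Surjective f]
    (hf : QuasiCompact f ∨ LocallyOfFinitePresentation f) (E : Set Y) :
    (IsLocallyConstructible E ↔ IsLocallyConstructible (f.base ⁻¹' E)) ∧
    (ProCons.IsProConstructible E ↔ ProCons.IsProConstructible (f.base ⁻¹' E)) ∧
    (ProCons.IsIndConstructible E ↔ ProCons.IsIndConstructible (f.base ⁻¹' E)) := by
  classical
  have hsurj : Function.Surjective f.base := f.surjective
  -- complement duality
  have dual : ∀ {Z : Scheme.{u}} (E : Set Z),
      ProCons.IsProConstructible E ↔ ProCons.IsIndConstructible Eᶜ := by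
    intro Z E
    rw [Groth.Agent.Helper5.PC.isProConstructible_iff, Groth.Agent.Helper5.PC.isIndConstructible_iff]
    exact Iff.rfl
  have ind_of_lc : ∀ {Z : Scheme.{u}} {E : Set Z}, IsLocallyConstructible E →
      ProCons.IsIndConstructible E := by
    intro Z E h x
    refine ⟨Set.univ, isOpen_univ, Set.mem_univ x, {Subtype.val ⁻¹' E}, ?_,
      (Set.sUnion_singleton _).symm⟩
    intro T hT
    rw [Set.mem_singleton_iff] at hT
    subst hT
    exact h.preimage_of_isOpenEmbedding isOpen_univ.isOpenEmbedding_subtypeVal
  have pro_of_lc : ∀ {Z : Scheme.{u}} {E : Set Z}, IsLocallyConstructible E →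
      ProCons.IsProConstructible E := by
    intro Z E h x
    refine ⟨Set.univ, isOpen_univ, Set.mem_univ x, {Subtype.val ⁻¹' E}, ?_,
      (Set.sInter_singleton _).symm⟩
    intro T hT
    rw [Set.mem_singleton_iff] at hT
    subst hT
    exact h.preimage_of_isOpenEmbedding isOpen_univ.isOpenEmbedding_subtypeVal
  have lc_of : ∀ {Z : Scheme.{u}} {E : Set Z}, ProCons.IsIndConstructible E →
      ProCons.IsProConstructible E → IsLocallyConstructible E := by
    intro Z E h1 h2 x
    obtain ⟨V, hV, hx⟩ := Groth.Agent.Helper5.PC.exists_isAffineOpen_mem x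
    have := Groth.Agent.Helper5.PC.compactSpace_of_isAffineOpen hV
    have := Groth.Agent.Helper5.PC.quasiSeparatedSpace_of_isAffineOpen hV
    have := Groth.Agent.Helper5.PC.prespectralSpace_of_opens V
    have := Groth.Agent.Helper5.PC.quasiSober_of_opens V
    refine ⟨V, V.isOpen.mem_nhds hx, V.isOpen, ?_⟩
    exact Groth.Agent.Helper5.PC.isConstructible_of_isClopen_cT
      (Groth.Agent.Helper5.PC.isOpen_cT_affine_of_isIndConstructible hV h1)
      (Groth.Agent.Helper5.PC.isClosed_cT_affine_of_isProConstructible hV h2)
  -- descent of pro / ind along f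
  have key : (∀ E : Set Y, ProCons.IsProConstructible (f.base ⁻¹' E) → ProCons.IsProConstructible E) ∧
      (∀ E : Set Y, ProCons.IsIndConstructible (f.base ⁻¹' E) → ProCons.IsIndConstructible E) := by
    rcases hf with hqc | hfp
    · have hpro : ∀ E : Set Y, ProCons.IsProConstructible (f.base ⁻¹' E) →
          ProCons.IsProConstructible E := by
        intro E h
        have h3 : (f '' (f.base ⁻¹' E) : Set Y) = E := Set.image_preimage_eq E hsurj
        have := Groth.Agent.Helper5.PC.isProConstructible_image f h
        rwa [h3] at this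
      refine ⟨hpro, fun E h => ?_⟩
      have h' : ProCons.IsProConstructible (Eᶜ) := by
        apply hpro
        rw [Set.preimage_compl, dual, compl_compl]
        exact h
      have := (dual Eᶜ).mp h'
      rwa [compl_compl] at this
    · have hind : ∀ E : Set Y, ProCons.IsIndConstructible (f.base ⁻¹' E) →
          ProCons.IsIndConstructible E := by
        intro E h
        have h3 : (f '' (f.base ⁻¹' E) : Set Y) = E := Set.image_preimage_eq E hsurj
        have := Groth.Agent.Helper5.PC.isIndConstructible_image f h
        rwa [h3] at this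
      refine ⟨fun E h => ?_, hind⟩
      rw [dual]
      apply hind
      rw [Set.preimage_compl, ← dual]
      exact h
  refine ⟨⟨fun h => Groth.Agent.Helper23.ProConsLib.isLocallyConstructible_preimage f h, fun h => ?_⟩,
    ⟨fun h => Groth.Agent.Helper23.ProConsLib.isProConstructible_preimage f E h, key.1 E⟩,
    ⟨fun h => Groth.Agent.Helper23.ProConsLib.isIndConstructible_preimage f E h, key.2 E⟩⟩
  exact lc_of (key.2 E (ind_of_lc h)) (key.1 E (pro_of_lc h))

end Groth.Agent.S4586
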