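import Groth.Statements.S4591
import Mathlib
import Groth.Agent.S3439
-- import your own Groth.Agent.* helpers here

set_option autoImplicit false
universe u
open AlgebraicGeometry
open EGA41

namespace Groth.Agent.S4591

section
open AlgebraicGeometry

lemma isProConstructible_compl {X : Type*} [TopologicalSpace X] {E : Set X}
    (hE : ProCons.IsIndConstructible E) : ProCons.IsProConstructible Eᶜ := by
  intro x
  obtain ⟨U, hU, hxU, S, hS, hES⟩ := hE x
  refine ⟨U, hU, hxU, compl '' S, ?_, ?_⟩
  · rintro T ⟨T', hT', rfl⟩
    exact Groth.Agent.Helper5.PC.isLocallyConstructible_compl (hS T' hT')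
  · rw [Set.preimage_compl, hES]
    ext y
    simp only [Set.mem_compl_iff, Set.mem_sUnion, not_exists, not_and, Set.mem_sInter,
      Set.mem_image, forall_exists_index, and_imp, forall_apply_eq_imp_iff₂]

lemma isIndConstructible_empty {X : Type*} [TopologicalSpace X] :
    ProCons.IsIndConstructible (∅ : Set X) := by
  intro x
  refine ⟨Set.univ, isOpen_univ, Set.mem_univ x, ∅, by simp, by simp⟩

theorem main (X : Scheme.{u}) [CompactSpace X]
    (F : Set X) (hF : ProCons.IsProConstructible F) {ι : Type u} (E : ι → Set X)
    (hE : ∀ i, ProCons.IsIndConstructible (E i)) (h : F ⊆ ⋃ i, E i) :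
    ∃ J : Finset ι, F ⊆ ⋃ i ∈ J, E i := by
  classical
  let F' : Option ι → Set X := fun o => o.elim F (fun i => (E i)ᶜ)
  have hF' : ∀ o, ProCons.IsProConstructible (F' o) := by
    intro o
    cases o with
    | none => exact hF
    | some i => exact isProConstructible_compl (hE i)
  have hint : ⋂ o, F' o ⊆ (∅ : Set X) := by
    intro x hx
    rw [Set.mem_iInter] at hx
    have h1 : x ∈ F := hx none
    obtain ⟨i, hi⟩ := Set.mem_iUnion.mp (h h1)
    exact (hx (some i)) hi
  obtain ⟨J, hJ⟩ := Groth.Agent.S3439.result X ∅ isIndConstructible_empty F' hF' hint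
  refine ⟨J.preimage some (Option.some_injective _).injOn, ?_⟩
  intro x hx
  by_contra hcon
  apply hJ (a := x)
  rw [Set.mem_iInter₂]
  intro o ho
  cases o with
  | none => exact hx
  | some i =>
    show x ∈ (E i)ᶜ
    intro hxi
    apply hcon
    rw [Set.mem_iUnion₂]
    exact ⟨i, by simpa using ho, hxi⟩
end

/-- Let X be a quasi-compact scheme, F a pro-constructible subset and (E_i) a family of
ind-constructible subsets covering F. Then some finite subfamily covers F. -/
theorem result (X : Scheme.{u}) [CompactSpace X]
    (F : Set X) (hF : ProCons.IsProConstructible F) {ι : Type u} (E : ι → Set X)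
    (hE : ∀ i, ProCons.IsIndConstructible (E i)) (h : F ⊆ ⋃ i, E i) :
    ∃ J : Finset ι, F ⊆ ⋃ i ∈ J, E i := by
  exact Groth.Agent.S4591.main X F hF E hE h

end Groth.Agent.S4591
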