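import Groth.Statements.S4594
import Mathlib
import Groth.Agent.Lib.Helper9.ConormalP

set_option autoImplicit false
universe u
open TensorProduct KaehlerDifferential
open EGA41

namespace Groth.Agent.S4594

/-- Let Λ be a ring, A → C a surjection of Λ-algebras with kernel J, C of characteristic p > 0, and π
the class of p·1 in J/J². If C is formally smooth over Λ/pΛ for the discrete topologies, then 0 →
(J/J²)/Cπ → Ω_{A/Λ} ⊗_A C → Ω_{C/Λ} → 0 is exact: the kernel of the conormal map J/J² → Ω_{A/Λ} ⊗_A
C is the span of π, and the base-change map to Ω_{C/Λ} is surjective with kernel the image of J/J². -/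
theorem result {Λ A C : Type u} [CommRing Λ] [CommRing A]
    [CommRing C] [Algebra Λ A] [Algebra A C] [Algebra Λ C] [IsScalarTower Λ A C]
    (hsurj : Function.Surjective (algebraMap A C)) (p : ℕ) [Fact p.Prime] [CharP C p]
    [Algebra (Λ ⧸ Ideal.span {(p : Λ)}) C] [IsScalarTower Λ (Λ ⧸ Ideal.span {(p : Λ)}) C]
    [Algebra.FormallySmooth (Λ ⧸ Ideal.span {(p : Λ)}) C]
    (hp : (p : A) ∈ RingHom.ker (algebraMap A C)) :
    LinearMap.ker (kerCotangentToTensor Λ A C) =
        Submodule.span A {(RingHom.ker (algebraMap A C)).toCotangent ⟨(p : A), hp⟩} ∧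
      LinearMap.range (kerCotangentToTensor Λ A C) = (LinearMap.ker (mapBaseChange Λ A C)).restrictScalars A ∧
      Function.Surjective (mapBaseChange Λ A C) := by
  refine ⟨?_, KaehlerDifferential.range_kerCotangentToTensor Λ A C hsurj,
    KaehlerDifferential.mapBaseChange_surjective Λ A C hsurj⟩
  apply le_antisymm
  · intro x hx
    obtain ⟨⟨y, hy⟩, rfl⟩ := (RingHom.ker (algebraMap A C)).toCotangent_surjective x
    rw [LinearMap.mem_ker, KaehlerDifferential.kerCotangentToTensor_toCotangent] at hx
    have hmem := Groth.Agent.Helper9.ConormalP.mem_sq_sup_span_of_tmul_D_eq_zero hsurj p hp y hy hx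
    obtain ⟨a, ha, b, hb, hab⟩ := Submodule.mem_sup.mp hmem
    obtain ⟨c, rfl⟩ := Ideal.mem_span_singleton'.mp hb
    have haK : a ∈ RingHom.ker (algebraMap A C) := Ideal.pow_le_self two_ne_zero ha
    have hcp : c * (p : A) ∈ RingHom.ker (algebraMap A C) := Ideal.mul_mem_left _ c hp
    have hy2 : (⟨y, hy⟩ : RingHom.ker (algebraMap A C)) = ⟨a, haK⟩ + c • ⟨(p : A), hp⟩ :=
      Subtype.ext hab.symm
    rw [hy2, map_add, (Ideal.toCotangent_eq_zero _ ⟨a, haK⟩).mpr ha, zero_add, map_smul]
    exact Submodule.smul_mem _ c (Submodule.subset_span rfl)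
  · rw [Submodule.span_le, Set.singleton_subset_iff, SetLike.mem_coe, LinearMap.mem_ker,
      KaehlerDifferential.kerCotangentToTensor_toCotangent]
    have : D Λ A ((p : ℕ) : A) = 0 := Derivation.map_natCast (D Λ A) p
    rw [this, TensorProduct.tmul_zero]

end Groth.Agent.S4594
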