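import Groth.Statements.S4597
import Groth.Agent.Lib.Helper7.QCDescent

set_option autoImplicit false
universe u
open AlgebraicGeometry CategoryTheory CategoryTheory.Limits
open EGA41

namespace Groth.Agent.S4597

/-- Let f : X → Y, g : Y' → Y and f' : X ×_Y Y' → Y' the base change. If g is quasi-compact surjective
and f' quasi-compact, f is quasi-compact; if g is surjective and f' dominant, f is dominant. -/
theorem result {X Y Y' : Scheme.{u}} (f : X ⟶ Y)
    (g : Y' ⟶ Y) [Surjective g] :
    (QuasiCompact g → QuasiCompact (pullback.snd f g) → QuasiCompact f) ∧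
    (IsDominant (pullback.snd f g) → IsDominant f) := by
  constructor
  · intro hg hsnd
    have : QuasiCompact (pullback.fst f g ≫ f) := by
      rw [pullback.condition]; infer_instance
    exact Groth.Agent.Helper7.quasiCompact_of_surjective_comp (pullback.fst f g) f
  · intro hdom
    constructor
    rw [DenseRange, dense_iff_closure_eq, Set.eq_univ_iff_forall]
    intro y
    obtain ⟨y', rfl⟩ := g.surjective y
    have h1 : y' ∈ closure (Set.range (pullback.snd f g)) := hdom.denseRange y'
    have h2 : g y' ∈ closure (g '' Set.range (pullback.snd f g)) :=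
      image_closure_subset_closure_image g.continuous ⟨y', h1, rfl⟩
    refine closure_mono ?_ h2
    rintro _ ⟨_, ⟨z, rfl⟩, rfl⟩
    refine ⟨pullback.fst f g z, ?_⟩
    rw [← Scheme.Hom.comp_apply, pullback.condition, Scheme.Hom.comp_apply]

end Groth.Agent.S4597
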