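import Groth.Statements.S4601
import Mathlib
-- import your own Groth.Agent.* helpers here

set_option autoImplicit false
universe u
open TensorProduct
open CAlg

namespace Groth.Agent.S4601

section
open TensorProduct

theorem main {A B K' R : Type u} [CommRing A]
    [IsDomain A] [CommRing B] [Algebra A B] [IsNoetherianRing B] [Module.Flat A B]
    [Field K'] [Algebra A K'] [Algebra (FractionRing A) K'] [IsScalarTower A (FractionRing A) K']
    [CommRing R] [Algebra (B ⧸ nilradical B) R] [IsFractionRing (B ⧸ nilradical B) R]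
    [Algebra B R] [IsScalarTower B (B ⧸ nilradical B) R] [Algebra A R] [IsScalarTower A B R]
    (A' : Subalgebra A K') (x : ↥A' ⊗[A] B)
    (hx : IsNilpotent (Algebra.TensorProduct.map A'.val (IsScalarTower.toAlgHom A B R) x)) :
    IsNilpotent x := by
  haveI : IsScalarTower A (B ⧸ nilradical B) R := by
    refine IsScalarTower.of_algebraMap_eq fun a => ?_
    rw [IsScalarTower.algebraMap_apply A B R, IsScalarTower.algebraMap_apply B (B ⧸ nilradical B) R]
    rfl
  haveI : Module.Flat A K' := Module.Flat.trans A (FractionRing A) K'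
  let Φ₁ : ↥A' ⊗[A] B →ₐ[A] K' ⊗[A] B := Algebra.TensorProduct.map A'.val (AlgHom.id A B)
  let Φ₂ : K' ⊗[A] B →ₐ[A] K' ⊗[A] (B ⧸ nilradical B) :=
    Algebra.TensorProduct.map (AlgHom.id A K') (Ideal.Quotient.mkₐ A (nilradical B))
  let Φ₃ : K' ⊗[A] (B ⧸ nilradical B) →ₐ[A] K' ⊗[A] R :=
    Algebra.TensorProduct.map (AlgHom.id A K') (IsScalarTower.toAlgHom A (B ⧸ nilradical B) R)
  have hfac : ∀ y, Algebra.TensorProduct.map A'.val (IsScalarTower.toAlgHom A B R) y =
      Φ₃ (Φ₂ (Φ₁ y)) := by
    intro y
    induction y using TensorProduct.induction_on with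
    | zero => simp
    | tmul a b =>
      simp only [Φ₁, Φ₂, Φ₃, Algebra.TensorProduct.map_tmul, AlgHom.coe_id, id_eq,
        IsScalarTower.coe_toAlgHom', Ideal.Quotient.mkₐ_eq_mk]
      congr 1
      exact IsScalarTower.algebraMap_apply B (B ⧸ nilradical B) R b
    | add y z hy hz => simp only [map_add, hy, hz]
  have hΦ₁ : Function.Injective Φ₁ :=
    Module.Flat.rTensor_preserves_injective_linearMap (M := B) A'.val.toLinearMap
      Subtype.val_injective
  have hΦ₃ : Function.Injective Φ₃ :=
    Module.Flat.lTensor_preserves_injective_linearMap (M := K')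
      (IsScalarTower.toAlgHom A (B ⧸ nilradical B) R).toLinearMap
      (IsFractionRing.injective (B ⧸ nilradical B) R)
  have hker : RingHom.ker Φ₂ = (nilradical B).map
      (Algebra.TensorProduct.includeRight : B →ₐ[A] K' ⊗[A] B) := by
    have := Algebra.TensorProduct.lTensor_ker (A := K') (Ideal.Quotient.mkₐ A (nilradical B))
      (Ideal.Quotient.mkₐ_surjective A (nilradical B))
    rw [this]
    congr 1
    exact Ideal.Quotient.mkₐ_ker A (nilradical B)
  obtain ⟨n, hn⟩ := hx
  obtain ⟨m, hm⟩ := IsNoetherianRing.isNilpotent_nilradical B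
  rw [hfac, ← map_pow, ← map_pow, ← map_pow] at hn
  have h1 : Φ₂ (Φ₁ (x ^ n)) = 0 := hΦ₃ (by rw [hn, map_zero])
  have h2 : Φ₁ (x ^ n) ∈ RingHom.ker Φ₂ := h1
  rw [hker] at h2
  have h3 : (Φ₁ (x ^ n)) ^ m ∈ ((nilradical B).map
      (Algebra.TensorProduct.includeRight : B →ₐ[A] K' ⊗[A] B)) ^ m := Ideal.pow_mem_pow h2 m
  rw [← Ideal.map_pow, hm, Ideal.zero_eq_bot, Ideal.map_bot] at h3
  refine ⟨n * m, ?_⟩
  apply hΦ₁
  rw [map_zero, pow_mul, map_pow]
  exact h3

end

/-- Let A be a domain with fraction field K, B a Noetherian A-algebra which is flat over A, K' an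
extension field of K, B₁ = B_red and R its total ring of fractions. For every sub-A-algebra A' of
K', the map (A' ⊗_A B)_red → (K' ⊗_A R)_red is injective, i.e. an element of A' ⊗_A B with nilpotent
image in K' ⊗_A R is nilpotent. -/
theorem result {A B K' R : Type u} [CommRing A]
    [IsDomain A] [CommRing B] [Algebra A B] [IsNoetherianRing B] [Module.Flat A B]
    [Field K'] [Algebra A K'] [Algebra (FractionRing A) K'] [IsScalarTower A (FractionRing A) K']
    [CommRing R] [Algebra (B ⧸ nilradical B) R] [IsFractionRing (B ⧸ nilradical B) R]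
    [Algebra B R] [IsScalarTower B (B ⧸ nilradical B) R] [Algebra A R] [IsScalarTower A B R]
    (A' : Subalgebra A K') (x : ↥A' ⊗[A] B)
    (hx : IsNilpotent (Algebra.TensorProduct.map A'.val (IsScalarTower.toAlgHom A B R) x)) :
    IsNilpotent x := by
  exact Groth.Agent.S4601.main A' x hx

end Groth.Agent.S4601
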