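import Groth.Statements.S4603
import Groth.Agent.Lib.Helper7.LimDom2

set_option autoImplicit false
universe u
open AlgebraicGeometry CategoryTheory
open EGA41

namespace Groth.Agent.S4603

theorem exists_maximal_generization {T : Type*} [TopologicalSpace T] [QuasiSober T] [T0Space T]
    (x : T) : ∃ x' : T, x' ⤳ x ∧ ∀ x'' : T, x'' ⤳ x' → x'' = x' := by
  obtain ⟨x', hx'⟩ := QuasiSober.sober (isIrreducible_irreducibleComponent (x := x))
    isClosed_irreducibleComponent
  have hcl : closure {x'} = irreducibleComponent x := hx'
  refine ⟨x', ?_, ?_⟩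
  · rw [specializes_iff_mem_closure, hcl]
    exact mem_irreducibleComponent
  · intro x'' h
    have h1 : irreducibleComponent x ⊆ closure {x''} := by
      rw [← hcl]
      exact h.closure_subset
    have h2 : closure {x''} = irreducibleComponent x :=
      eq_irreducibleComponent isIrreducible_singleton.closure.isPreirreducible h1
    have h3 : x' ⤳ x'' := by
      rw [specializes_iff_mem_closure, hcl, ← h2]
      exact subset_closure rfl
    exact (h.antisymm h3).eq

/-- Let f : X → Y be quasi-compact. The following are equivalent: f is dominant; the fibre of f over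
every maximal point of Y (a point with no proper generization, i.e. the generic point of an
irreducible component) is nonempty; every maximal point of Y is the image of a maximal point of X. -/
theorem result {X Y : Scheme.{u}} (f : X ⟶ Y) [QuasiCompact f] :
    [IsDominant f,
     ∀ y : Y, (∀ y' : Y, y' ⤳ y → y' = y) → y ∈ Set.range f.base,
     ∀ y : Y, (∀ y' : Y, y' ⤳ y → y' = y) → ∃ x : X, (∀ x' : X, x' ⤳ x → x' = x) ∧ f.base x = y].TFAE := by
  tfae_have 1 → 2 := by
    intro hd y hy
    have hy' : y ∈ closure (Set.range f) := by
      rw [hd.1.closure_eq]; trivial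
    obtain ⟨x, hx⟩ :=
      Groth.Agent.Helper7.QcClosure.exists_specializes_of_mem_closure_range f y hy'
    exact ⟨x, hy _ hx⟩
  tfae_have 2 → 3 := by
    intro h y hy
    obtain ⟨x, rfl⟩ := h y hy
    obtain ⟨x', hx'1, hx'2⟩ := exists_maximal_generization x
    exact ⟨x', hx'2, hy _ (hx'1.map f.continuous)⟩
  tfae_have 3 → 1 := by
    intro h
    constructor
    rw [DenseRange, dense_iff_closure_eq, Set.eq_univ_iff_forall]
    intro y
    obtain ⟨y', hy'1, hy'2⟩ := exists_maximal_generization y
    obtain ⟨x, -, rfl⟩ := h y' hy'2
    exact hy'1.mem_closed isClosed_closure (subset_closure ⟨x, rfl⟩)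
  tfae_finish

end Groth.Agent.S4603
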