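import Groth.Statements.S4604
import Groth.Agent.Lib.Helper3.MonicTower

set_option autoImplicit false
universe u
open IsLocalRing
open EGA41

namespace Groth.Agent.S4604

/-- (i) and the kernel statement of (ii): let A be a local ring with maximal ideal m of square zero,
F_i(T_i) = T_i^{d_i} + Σ_{k<d_i} c_{ik} T_i^k (1 ≤ i ≤ r) monic of degrees d_i ≥ 2 with non-leading
coefficients in m, and A' = A[T_1, …, T_r]/(F_1, …, F_r). Then A' is local with residue field K, and
the kernel of m → m'/m'² (m' the maximal ideal of A') is the ideal generated by the constant terms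
c_{i0}. -/
theorem result {A : Type u} [CommRing A] [IsLocalRing A]
    (hm : maximalIdeal A ^ 2 = ⊥) {r : ℕ} (d : Fin r → ℕ) (hd : ∀ i, 2 ≤ d i) (c : Fin r → ℕ → A)
    (hc : ∀ i k, c i k ∈ maximalIdeal A) :
    let F : Fin r → MvPolynomial (Fin r) A := fun i =>
      MvPolynomial.X i ^ d i + (Finset.range (d i)).sum fun k => MvPolynomial.C (c i k) * MvPolynomial.X i ^ k
    ∃ _ : IsLocalRing (MvPolynomial (Fin r) A ⧸ Ideal.span (Set.range F)),
      Function.Surjective ((Ideal.Quotient.mk (maximalIdeal (MvPolynomial (Fin r) A ⧸ Ideal.span (Set.range F)))).comp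
        (algebraMap A (MvPolynomial (Fin r) A ⧸ Ideal.span (Set.range F)))) ∧
      maximalIdeal A ⊓ Ideal.comap (algebraMap A (MvPolynomial (Fin r) A ⧸ Ideal.span (Set.range F)))
          (maximalIdeal (MvPolynomial (Fin r) A ⧸ Ideal.span (Set.range F)) ^ 2) =
        Ideal.span (Set.range fun i => c i 0) := by
  have hd1 : ∀ i, 1 ≤ d i := fun i => le_trans (by norm_num) (hd i)
  have key : ∃ _ : IsLocalRing (Groth.Agent.Helper3.MonicTower.Q d c),
      Function.Surjective ((Ideal.Quotient.mk (maximalIdeal (Groth.Agent.Helper3.MonicTower.Q d c))).comp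
        (algebraMap A (Groth.Agent.Helper3.MonicTower.Q d c))) ∧
      maximalIdeal A ⊓ Ideal.comap (algebraMap A (Groth.Agent.Helper3.MonicTower.Q d c))
          (maximalIdeal (Groth.Agent.Helper3.MonicTower.Q d c) ^ 2) =
        Ideal.span (Set.range fun i => c i 0) := by
    refine ⟨Groth.Agent.Helper3.MonicTower.isLocalRing d hd1 c hc, ?_, ?_⟩
    · haveI := Groth.Agent.Helper3.MonicTower.isLocalRing d hd1 c hc
      exact Groth.Agent.Helper3.MonicTower.residue_surjective d hd1 c hc _
    · exact Groth.Agent.Helper3.MonicTower.kernel_eq hm d hd c hc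
  exact key

end Groth.Agent.S4604
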