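import Groth.Statements.S4606
import Mathlib
import Groth.Agent.Lib.Helper14.CotBridge
import Groth.Agent.Lib.Helper14.AdicFSLocBase
import Groth.Agent.Lib.Helper14.AdicFSJacobi
-- import your own Groth.Agent.* helpers here

set_option autoImplicit false
universe u
open TensorProduct KaehlerDifferential IsLocalRing
open EGA41

namespace Groth.Agent.S4606

/-- Let B be a Noetherian A-algebra formally smooth for the discrete topologies, B → C a surjection with
kernel J, p a prime of C and q its contraction to A. Then C_p is formally smooth over A_q (A_q
discrete, C_p with the adic topology of its maximal ideal) if and only if κ(p) ⊗ J/J² → κ(p) ⊗ (C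
⊗_B Ω_{B/A}) is injective. (The equivalent variant with the q-adic topology on A_q is not stated.) -/
theorem result {A B C : Type u} [CommRing A]
    [CommRing B] [CommRing C] [Algebra A B] [Algebra B C] [Algebra A C] [IsScalarTower A B C] [IsNoetherianRing B]
    [Algebra.FormallySmooth A B] (hsurj : Function.Surjective (algebraMap B C)) (p : Ideal C) [p.IsPrime]
    [Algebra (Localization.AtPrime (p.comap (algebraMap A C))) (Localization.AtPrime p)]
    [IsScalarTower A (Localization.AtPrime (p.comap (algebraMap A C))) (Localization.AtPrime p)] :
    CAlgX.IsAdicFormallySmooth (Localization.AtPrime (p.comap (algebraMap A C))) (Localization.AtPrime p)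
        (maximalIdeal (Localization.AtPrime p)) ↔
      Function.Injective ((kerCotangentToTensor A B C).lTensor p.ResidueField) := by
  classical
  let P : Algebra.Extension.{u} A C :=
    { Ring := B, σ := _, algebraMap_σ := Function.surjInv_eq hsurj }
  haveI : Algebra.FormallySmooth A P.Ring := ‹_›
  haveI : IsNoetherianRing P.Ring := ‹_›
  rw [Groth.Agent.Helper14.AdicFSLocBase.iff_base (A := A)
    (p.comap (algebraMap A C)).primeCompl (maximalIdeal (Localization.AtPrime p))]
  have h12 : CAlgX.IsAdicFormallySmooth A (Localization.AtPrime p)
      (maximalIdeal (Localization.AtPrime p)) ↔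
      Algebra.FormallySmooth A (Localization.AtPrime p) := by
    constructor
    · intro h
      haveI := Groth.Agent.Helper14.FSSpread.formallySmooth_locRing P p.primeCompl
        (Localization.AtPrime p)
      haveI : IsNoetherianRing
          (Groth.Agent.Helper14.ExtLoc.Q P p.primeCompl (Localization.AtPrime p)).Ring :=
        (IsLocalization.isNoetherianRing (Groth.Agent.Helper14.ExtLoc.M' P p.primeCompl)
          (Localization (Groth.Agent.Helper14.ExtLoc.M' P p.primeCompl)) inferInstance :
          IsNoetherianRing (Localization (Groth.Agent.Helper14.ExtLoc.M' P p.primeCompl)))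
      exact Groth.Agent.Helper14.AdicFSJacobi.formallySmooth_of_adicFS
        (P := (Groth.Agent.Helper14.ExtLoc.Q P p.primeCompl (Localization.AtPrime p)).Ring)
        (Groth.Agent.Helper14.ExtLoc.Q P p.primeCompl
          (Localization.AtPrime p)).algebraMap_surjective h
    · intro h T _ _ J hJ ψ _
      exact Algebra.FormallySmooth.exists_lift J ⟨2, hJ⟩ ψ
  rw [h12, Groth.Agent.Helper14.CotBridge.formallySmooth_atPrime_iff_injective P p]
  have hcomp : P.cotangentComplex.restrictScalars P.Ring =
      (kerCotangentToTensor A B C) ∘ₗ P.cotangentEquivCotangentKer.toLinearMap :=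
    LinearMap.ext fun x => rfl
  rw [hcomp, LinearMap.lTensor_comp]
  have hbij : Function.Bijective
      ((P.cotangentEquivCotangentKer.toLinearMap).lTensor p.ResidueField) :=
    (LinearEquiv.lTensor p.ResidueField P.cotangentEquivCotangentKer).bijective
  rw [LinearMap.coe_comp]
  exact Function.Injective.of_comp_iff' _ hbij

end Groth.Agent.S4606
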