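import Groth.Statements.S4608

set_option autoImplicit false
universe u
open AlgebraicGeometry CategoryTheory CategoryTheory.Limits
open EGA41

namespace Groth.Agent.S4608

/-- A morphism from a disjoint union X' ⨿ X'' → Y is quasi-compact if and only if its two components
are. -/
theorem result {X' X'' Y : Scheme.{u}} (f' : X' ⟶ Y) (f'' : X'' ⟶ Y) :
    QuasiCompact (coprod.desc f' f'') ↔ QuasiCompact f' ∧ QuasiCompact f'' := by
  have hl : Topology.IsClosedEmbedding (coprod.inl : X' ⟶ X' ⨿ X'') := by
    refine ⟨(coprod.inl : X' ⟶ X' ⨿ X'').isOpenEmbedding.isEmbedding, ?_⟩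
    have := (isCompl_range_inl_inr X' X'')
    rw [← isOpen_compl_iff, this.compl_eq]
    exact (coprod.inr : X'' ⟶ X' ⨿ X'').isOpenEmbedding.isOpen_range
  have hr : Topology.IsClosedEmbedding (coprod.inr : X'' ⟶ X' ⨿ X'') := by
    refine ⟨(coprod.inr : X'' ⟶ X' ⨿ X'').isOpenEmbedding.isEmbedding, ?_⟩
    have := (isCompl_range_inl_inr X' X'')
    rw [← isOpen_compl_iff, this.symm.compl_eq]
    exact (coprod.inl : X' ⟶ X' ⨿ X'').isOpenEmbedding.isOpen_range
  constructor
  · intro h
    constructor
    · constructor
      intro U hU hUc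
      have h1 := h.isCompact_preimage U hU hUc
      have h2 := hl.isCompact_preimage h1
      convert h2 using 1
      ext x
      simp only [Set.mem_preimage]
      rw [← Scheme.Hom.comp_apply, coprod.inl_desc]
    · constructor
      intro U hU hUc
      have h1 := h.isCompact_preimage U hU hUc
      have h2 := hr.isCompact_preimage h1
      convert h2 using 1
      ext x
      simp only [Set.mem_preimage]
      rw [← Scheme.Hom.comp_apply, coprod.inr_desc]
  · rintro ⟨h1, h2⟩
    constructor
    intro U hU hUc
    have e : (coprod.desc f' f'') ⁻¹' U =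
        (coprod.inl : X' ⟶ X' ⨿ X'') '' (f' ⁻¹' U) ∪ (coprod.inr : X'' ⟶ X' ⨿ X'') '' (f'' ⁻¹' U) := by
      ext x
      obtain ⟨x | x, rfl⟩ := (coprodMk X' X'').surjective x
      · simp only [coprodMk_inl, Set.mem_preimage, Set.mem_union, Set.mem_image]
        rw [← Scheme.Hom.comp_apply, coprod.inl_desc]
        constructor
        · intro hx; exact Or.inl ⟨x, hx, rfl⟩
        · rintro (⟨y, hy, e⟩ | ⟨y, hy, e⟩)
          · rwa [← hl.injective e]
          · exact absurd e (inr_ne_inl _ _ _ _)
      · simp only [coprodMk_inr, Set.mem_preimage, Set.mem_union, Set.mem_image]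
        rw [← Scheme.Hom.comp_apply, coprod.inr_desc]
        constructor
        · intro hx; exact Or.inr ⟨x, hx, rfl⟩
        · rintro (⟨y, hy, e⟩ | ⟨y, hy, e⟩)
          · exact absurd e (inl_ne_inr _ _ _ _)
          · rwa [← hr.injective e]
    rw [e]
    exact ((h1.isCompact_preimage U hU hUc).image (Scheme.Hom.continuous _)).union
      ((h2.isCompact_preimage U hU hUc).image (Scheme.Hom.continuous _))

end Groth.Agent.S4608
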