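import Groth.Statements.S4609

set_option autoImplicit false
universe u
open AlgebraicGeometry CategoryTheory CategoryTheory.Limits
open EGA41

namespace Groth.Agent.S4609

/-- A morphism from a disjoint union X' ⨿ X'' → Y is quasi-separated if and only if its two components
are. -/
theorem result {X' X'' Y : Scheme.{u}} (f' : X' ⟶ Y) (f'' : X'' ⟶ Y) :
    QuasiSeparated (coprod.desc f' f'') ↔ QuasiSeparated f' ∧ QuasiSeparated f'' := by
  have hl : Topology.IsClosedEmbedding (coprod.inl : X' ⟶ X' ⨿ X'') := by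
    refine ⟨(coprod.inl : X' ⟶ X' ⨿ X'').isOpenEmbedding.isEmbedding, ?_⟩
    have := (isCompl_range_inl_inr X' X'')
    rw [← isOpen_compl_iff, this.compl_eq]
    exact (coprod.inr : X'' ⟶ X' ⨿ X'').isOpenEmbedding.isOpen_range
  have hr : Topology.IsClosedEmbedding (coprod.inr : X'' ⟶ X' ⨿ X'') := by
    refine ⟨(coprod.inr : X'' ⟶ X' ⨿ X'').isOpenEmbedding.isEmbedding, ?_⟩
    have := (isCompl_range_inl_inr X' X'')
    rw [← isOpen_compl_iff, this.symm.compl_eq]
    exact (coprod.inl : X' ⟶ X' ⨿ X'').isOpenEmbedding.isOpen_range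
  constructor
  · intro h
    constructor
    · have : QuasiSeparated ((coprod.inl : X' ⟶ X' ⨿ X'') ≫ coprod.desc f' f'') := inferInstance
      rwa [coprod.inl_desc] at this
    · have : QuasiSeparated ((coprod.inr : X'' ⟶ X' ⨿ X'') ≫ coprod.desc f' f'') := inferInstance
      rwa [coprod.inr_desc] at this
  · rintro ⟨h1, h2⟩
    rw [HasAffineProperty.iff_of_iSup_eq_top (P := @QuasiSeparated)
      (Q := fun X _ _ _ ↦ QuasiSeparatedSpace X) (fun U : Y.affineOpens => U)
      (by simpa using iSup_affineOpens_eq_top Y)]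
    intro U
    show QuasiSeparatedSpace ((coprod.desc f' f'') ⁻¹ᵁ U.1)
    refine (isQuasiSeparated_iff_quasiSeparatedSpace _ ((coprod.desc f' f'') ⁻¹ᵁ U.1).2).mp ?_
    have q1 : IsQuasiSeparated (f' ⁻¹ᵁ U.1 : Set X') :=
      f'.isQuasiSeparated_preimage U.2.isQuasiSeparated
    have q2 : IsQuasiSeparated (f'' ⁻¹ᵁ U.1 : Set X'') :=
      f''.isQuasiSeparated_preimage U.2.isQuasiSeparated
    intro A B hA hAo hAc hB hBo hBc
    have e : A ∩ B =
        (coprod.inl : X' ⟶ X' ⨿ X'') '' ((coprod.inl : X' ⟶ X' ⨿ X'') ⁻¹' A ∩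
            (coprod.inl : X' ⟶ X' ⨿ X'') ⁻¹' B) ∪
        (coprod.inr : X'' ⟶ X' ⨿ X'') '' ((coprod.inr : X'' ⟶ X' ⨿ X'') ⁻¹' A ∩
            (coprod.inr : X'' ⟶ X' ⨿ X'') ⁻¹' B) := by
      ext x
      obtain ⟨x | x, rfl⟩ := (coprodMk X' X'').surjective x
      · simp only [coprodMk_inl, Set.mem_inter_iff, Set.mem_union, Set.mem_image, Set.mem_preimage]
        constructor
        · intro hx; exact Or.inl ⟨x, hx, rfl⟩
        · rintro (⟨y, hy, e⟩ | ⟨y, hy, e⟩)
          · rwa [← hl.injective e]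
          · exact absurd e (inr_ne_inl _ _ _ _)
      · simp only [coprodMk_inr, Set.mem_inter_iff, Set.mem_union, Set.mem_image, Set.mem_preimage]
        constructor
        · intro hx; exact Or.inr ⟨x, hx, rfl⟩
        · rintro (⟨y, hy, e⟩ | ⟨y, hy, e⟩)
          · exact absurd e (inl_ne_inr _ _ _ _)
          · rwa [← hr.injective e]
    rw [e]
    refine IsCompact.union (IsCompact.image ?_ (Scheme.Hom.continuous _))
      (IsCompact.image ?_ (Scheme.Hom.continuous _))
    · refine q1 _ _ ?_ (hAo.preimage (Scheme.Hom.continuous _)) (hl.isCompact_preimage hAc)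
        ?_ (hBo.preimage (Scheme.Hom.continuous _)) (hl.isCompact_preimage hBc)
      · intro x hx
        have := hA hx
        change (coprod.desc f' f'') ((coprod.inl : X' ⟶ X' ⨿ X'') x) ∈ U.1 at this
        rwa [← Scheme.Hom.comp_apply, coprod.inl_desc] at this
      · intro x hx
        have := hB hx
        change (coprod.desc f' f'') ((coprod.inl : X' ⟶ X' ⨿ X'') x) ∈ U.1 at this
        rwa [← Scheme.Hom.comp_apply, coprod.inl_desc] at this
    · refine q2 _ _ ?_ (hAo.preimage (Scheme.Hom.continuous _)) (hr.isCompact_preimage hAc)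
        ?_ (hBo.preimage (Scheme.Hom.continuous _)) (hr.isCompact_preimage hBc)
      · intro x hx
        have := hA hx
        change (coprod.desc f' f'') ((coprod.inr : X'' ⟶ X' ⨿ X'') x) ∈ U.1 at this
        rwa [← Scheme.Hom.comp_apply, coprod.inr_desc] at this
      · intro x hx
        have := hB hx
        change (coprod.desc f' f'') ((coprod.inr : X'' ⟶ X' ⨿ X'') x) ∈ U.1 at this
        rwa [← Scheme.Hom.comp_apply, coprod.inr_desc] at this

end Groth.Agent.S4609
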