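import Groth.Statements.S4610
import Mathlib

set_option autoImplicit false
universe u
open EGA41

namespace Groth.Agent.S4610

noncomputable abbrev gen {A : Type u} [CommRing A] {n : ℕ} (F : Fin n → Polynomial A) (i : Fin n) :
    MvPolynomial (Fin n) A :=
  Polynomial.aeval (MvPolynomial.X i : MvPolynomial (Fin n) A) (F i)

noncomputable abbrev II {A : Type u} [CommRing A] {n : ℕ} (F : Fin n → Polynomial A) :
    Ideal (MvPolynomial (Fin n) A) :=
  Ideal.span (Set.range (gen F))

theorem claim (n : ℕ) : ∀ (A : Type u) [CommRing A] [Nontrivial A] (F : Fin n → Polynomial A),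
    (∀ i, (F i).Monic) →
    Module.Free A (MvPolynomial (Fin n) A ⧸ II F) ∧
      Module.finrank A (MvPolynomial (Fin n) A ⧸ II F) = ∏ i, (F i).natDegree := by
  induction n with
  | zero =>
    intro A _ _ F hF
    have hI : II F = ⊥ := by
      show Ideal.span (Set.range (gen F)) = ⊥
      rw [Set.range_eq_empty, Ideal.span_empty]
    let e1 : (MvPolynomial (Fin 0) A ⧸ II F) ≃ₐ[A] MvPolynomial (Fin 0) A :=
      (Ideal.quotientEquivAlgOfEq A hI).trans (AlgEquiv.quotientBot A _)
    let e : (MvPolynomial (Fin 0) A ⧸ II F) ≃ₗ[A] A :=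
      e1.toLinearEquiv.trans (MvPolynomial.isEmptyAlgEquiv A (Fin 0)).toLinearEquiv
    refine ⟨Module.Free.of_equiv e.symm, ?_⟩
    rw [LinearEquiv.finrank_eq e, Module.finrank_self]
    simp
  | succ n ih =>
    intro A _ _ F hF
    classical
    by_cases hd : (F 0).natDegree = 0
    · have h1 : F 0 = 1 := (hF 0).natDegree_eq_zero.mp hd
      have htop : II F = ⊤ := by
        rw [Ideal.eq_top_iff_one]
        have h2 : gen F 0 = 1 := by
          show Polynomial.aeval _ (F 0) = 1
          rw [h1, map_one]
        rw [← h2]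
        exact Ideal.subset_span ⟨0, rfl⟩
      haveI : Subsingleton (MvPolynomial (Fin (n + 1)) A ⧸ II F) :=
        Ideal.Quotient.subsingleton_iff.mpr htop
      refine ⟨Module.Free.of_subsingleton A _, ?_⟩
      rw [Module.finrank_zero_of_subsingleton]
      exact (Finset.prod_eq_zero (Finset.mem_univ 0) hd).symm
    · haveI hfreeA' : Module.Free A (AdjoinRoot (F 0)) := (hF 0).free_adjoinRoot
      have hrankA' : Module.finrank A (AdjoinRoot (F 0)) = (F 0).natDegree :=
        (AdjoinRoot.powerBasis' (hF 0)).finrank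
      haveI : Nontrivial (AdjoinRoot (F 0)) := by
        apply Module.nontrivial_of_finrank_pos (R := A)
        rw [hrankA']
        exact Nat.pos_of_ne_zero hd
      let F' : Fin n → Polynomial (AdjoinRoot (F 0)) :=
        fun i => (F i.succ).map (algebraMap A (AdjoinRoot (F 0)))
      have hF' : ∀ i, (F' i).Monic := fun i => (hF i.succ).map _
      obtain ⟨hfree', hrank'⟩ := ih (AdjoinRoot (F 0)) F' hF'
      have hdeg' : ∀ i, (F' i).natDegree = (F i.succ).natDegree :=
        fun i => (hF i.succ).natDegree_map _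
      haveI := hfree'
      have hfreeAB' : Module.Free A (MvPolynomial (Fin n) (AdjoinRoot (F 0)) ⧸ II F') :=
        Module.Free.of_basis ((Module.Free.chooseBasis A (AdjoinRoot (F 0))).smulTower
          (Module.Free.chooseBasis (AdjoinRoot (F 0))
            (MvPolynomial (Fin n) (AdjoinRoot (F 0)) ⧸ II F')))
      have hrankAB' : Module.finrank A (MvPolynomial (Fin n) (AdjoinRoot (F 0)) ⧸ II F') =
          (F 0).natDegree * ∏ i : Fin n, (F i.succ).natDegree := by
        rw [← Module.finrank_mul_finrank A (AdjoinRoot (F 0))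
          (MvPolynomial (Fin n) (AdjoinRoot (F 0)) ⧸ II F'), hrankA', hrank']
        simp_rw [hdeg']
      -- the map φ
      let v : Fin (n + 1) → (MvPolynomial (Fin n) (AdjoinRoot (F 0)) ⧸ II F') :=
        Fin.cons (algebraMap (AdjoinRoot (F 0)) _ (AdjoinRoot.root (F 0)))
          (fun i => Ideal.Quotient.mk (II F') (MvPolynomial.X i))
      let φ₀ : MvPolynomial (Fin (n + 1)) A →ₐ[A]
          (MvPolynomial (Fin n) (AdjoinRoot (F 0)) ⧸ II F') := MvPolynomial.aeval v
      have hφ₀gen : ∀ i, φ₀ (gen F i) = 0 := by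
        intro i
        show φ₀ (Polynomial.aeval (MvPolynomial.X i) (F i)) = 0
        rw [← Polynomial.aeval_algHom_apply]
        have hX : φ₀ (MvPolynomial.X i) = v i := MvPolynomial.aeval_X v i
        rw [hX]
        induction i using Fin.cases with
        | zero =>
          show Polynomial.aeval (algebraMap (AdjoinRoot (F 0)) _ (AdjoinRoot.root (F 0))) (F 0) = 0
          rw [Polynomial.aeval_algebraMap_apply, AdjoinRoot.aeval_eq, AdjoinRoot.mk_self, map_zero]
        | succ i' =>
          show Polynomial.aeval (Ideal.Quotient.mkₐ A (II F') (MvPolynomial.X i')) (F i'.succ) = 0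
          rw [Polynomial.aeval_algHom_apply]
          have h2 : Polynomial.aeval (MvPolynomial.X i' : MvPolynomial (Fin n) (AdjoinRoot (F 0)))
              (F i'.succ) = gen F' i' := by
            show _ = Polynomial.aeval _ ((F i'.succ).map (algebraMap A (AdjoinRoot (F 0))))
            rw [Polynomial.aeval_map_algebraMap]
          rw [h2]
          exact Ideal.Quotient.eq_zero_iff_mem.mpr (Ideal.subset_span ⟨i', rfl⟩)
      have hφ₀le : II F ≤ RingHom.ker φ₀.toRingHom := by
        rw [Ideal.span_le]
        rintro _ ⟨i, rfl⟩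
        exact hφ₀gen i
      let φ : (MvPolynomial (Fin (n + 1)) A ⧸ II F) →ₐ[A]
          (MvPolynomial (Fin n) (AdjoinRoot (F 0)) ⧸ II F') :=
        Ideal.Quotient.liftₐ (II F) φ₀ (fun p hp => RingHom.mem_ker.mp (hφ₀le hp))
      have hφmk : ∀ q, φ (Ideal.Quotient.mk _ q) = φ₀ q := fun q => rfl
      -- κ
      have hκ0 : (F 0).eval₂ (Algebra.ofId A (MvPolynomial (Fin (n + 1)) A ⧸ II F) : A →+* _)
          (Ideal.Quotient.mk (II F) (MvPolynomial.X 0)) = 0 := by
        have h3 : Polynomial.aeval (Ideal.Quotient.mkₐ A (II F) (MvPolynomial.X 0)) (F 0) = 0 := by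
          rw [Polynomial.aeval_algHom_apply]
          exact Ideal.Quotient.eq_zero_iff_mem.mpr (Ideal.subset_span ⟨0, rfl⟩)
        exact h3
      let κ : AdjoinRoot (F 0) →ₐ[A] (MvPolynomial (Fin (n + 1)) A ⧸ II F) :=
        AdjoinRoot.liftAlgHom (F 0) (Algebra.ofId A _) (Ideal.Quotient.mk (II F) (MvPolynomial.X 0))
          hκ0
      have hκroot : κ (AdjoinRoot.root (F 0)) = Ideal.Quotient.mk (II F) (MvPolynomial.X 0) :=
        AdjoinRoot.liftAlgHom_root _ _ _ _
      letI algA'B : Algebra (AdjoinRoot (F 0)) (MvPolynomial (Fin (n + 1)) A ⧸ II F) :=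
        κ.toRingHom.toAlgebra
      haveI : IsScalarTower A (AdjoinRoot (F 0)) (MvPolynomial (Fin (n + 1)) A ⧸ II F) :=
        IsScalarTower.of_algebraMap_eq (fun a => (κ.commutes a).symm)
      let ψ₀ : MvPolynomial (Fin n) (AdjoinRoot (F 0)) →ₐ[AdjoinRoot (F 0)]
          (MvPolynomial (Fin (n + 1)) A ⧸ II F) :=
        MvPolynomial.aeval (fun i => Ideal.Quotient.mk (II F) (MvPolynomial.X i.succ))
      have hψ₀gen : ∀ i, ψ₀ (gen F' i) = 0 := by
        intro i
        show ψ₀ (Polynomial.aeval (MvPolynomial.X i) (F' i)) = 0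
        rw [← Polynomial.aeval_algHom_apply]
        have hX : ψ₀ (MvPolynomial.X i) = Ideal.Quotient.mk (II F) (MvPolynomial.X i.succ) :=
          MvPolynomial.aeval_X _ i
        rw [hX]
        show Polynomial.aeval _ ((F i.succ).map (algebraMap A (AdjoinRoot (F 0)))) = 0
        rw [Polynomial.aeval_map_algebraMap]
        show Polynomial.aeval (Ideal.Quotient.mkₐ A (II F) (MvPolynomial.X i.succ)) (F i.succ) = 0
        rw [Polynomial.aeval_algHom_apply]
        exact Ideal.Quotient.eq_zero_iff_mem.mpr (Ideal.subset_span ⟨i.succ, rfl⟩)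
      have hψ₀le : II F' ≤ RingHom.ker ψ₀.toRingHom := by
        rw [Ideal.span_le]
        rintro _ ⟨i, rfl⟩
        exact hψ₀gen i
      let ψ : (MvPolynomial (Fin n) (AdjoinRoot (F 0)) ⧸ II F') →ₐ[AdjoinRoot (F 0)]
          (MvPolynomial (Fin (n + 1)) A ⧸ II F) :=
        Ideal.Quotient.liftₐ (II F') ψ₀ (fun p hp => RingHom.mem_ker.mp (hψ₀le hp))
      have hψmk : ∀ q, ψ (Ideal.Quotient.mk _ q) = ψ₀ q := fun q => rfl
      have hφX : ∀ i, φ (Ideal.Quotient.mk _ (MvPolynomial.X i)) = v i := fun i => by
        rw [hφmk]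
        exact MvPolynomial.aeval_X v i
      have hψX : ∀ i, ψ (Ideal.Quotient.mk _ (MvPolynomial.X i)) =
          Ideal.Quotient.mk (II F) (MvPolynomial.X i.succ) := fun i => by
        rw [hψmk]
        exact MvPolynomial.aeval_X _ i
      have hχ : (ψ.restrictScalars A).comp φ = AlgHom.id A _ := by
        apply Ideal.Quotient.algHom_ext
        apply MvPolynomial.algHom_ext
        intro i
        show ψ (φ (Ideal.Quotient.mk _ (MvPolynomial.X i))) = Ideal.Quotient.mk _ (MvPolynomial.X i)
        rw [hφX]
        induction i using Fin.cases with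
        | zero =>
          show ψ (algebraMap (AdjoinRoot (F 0)) _ (AdjoinRoot.root (F 0))) = _
          rw [AlgHom.commutes]
          exact hκroot
        | succ i' =>
          show ψ (Ideal.Quotient.mk (II F') (MvPolynomial.X i')) = _
          rw [hψX]
      have hκφ : ∀ a' : AdjoinRoot (F 0), φ (κ a') = algebraMap (AdjoinRoot (F 0)) _ a' := by
        intro a'
        have h5 : φ.comp κ = IsScalarTower.toAlgHom A (AdjoinRoot (F 0))
            (MvPolynomial (Fin n) (AdjoinRoot (F 0)) ⧸ II F') := by
          apply AdjoinRoot.algHom_ext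
          show φ (κ (AdjoinRoot.root (F 0))) = algebraMap (AdjoinRoot (F 0)) _ (AdjoinRoot.root (F 0))
          rw [hκroot, hφX]
          rfl
        exact AlgHom.congr_fun h5 a'
      have hφψ : ∀ b', φ (ψ b') = b' := by
        intro b'
        obtain ⟨p', rfl⟩ := Ideal.Quotient.mk_surjective b'
        induction p' using MvPolynomial.induction_on with
        | C a' =>
          rw [hψmk]
          have h6 : ψ₀ (MvPolynomial.C a') = κ a' := MvPolynomial.aeval_C _ a'
          rw [h6, hκφ]
          rfl
        | add p q hp hq => rw [map_add, map_add, map_add, hp, hq]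
        | mul_X p i hp =>
          rw [map_mul, map_mul, map_mul, hp, hψX, hφX]
          rfl
      let e : (MvPolynomial (Fin (n + 1)) A ⧸ II F) ≃ₐ[A]
          (MvPolynomial (Fin n) (AdjoinRoot (F 0)) ⧸ II F') :=
        AlgEquiv.ofBijective φ
          ⟨Function.LeftInverse.injective (g := ψ) (fun b => AlgHom.congr_fun hχ b),
            Function.RightInverse.surjective (g := ψ) hφψ⟩
      refine ⟨Module.Free.of_equiv e.symm.toLinearEquiv, ?_⟩
      rw [LinearEquiv.finrank_eq e.toLinearEquiv, hrankAB', Fin.prod_univ_succ]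


/-- Let A be a nonzero ring and F_1, …, F_r monic one-variable polynomials of degrees d_1, …, d_r; then
A[T_1, …, T_r]/(F_1(T_1), …, F_r(T_r)) is a free A-module of rank ∏ d_i. (The published statement
assumes A local with maximal ideal of square zero and A' local, which this assertion does not use;
its bound [K' : K] ≤ d and part (ii) are not stated.) -/
theorem result {A : Type u} [CommRing A] [Nontrivial A]
    {r : ℕ} (F : Fin r → Polynomial A) (hF : ∀ i, (F i).Monic) :
    Module.Free A (MvPolynomial (Fin r) A ⧸ Ideal.span (Set.range fun i => Polynomial.aeval (MvPolynomial.X i : MvPolynomial (Fin r) A) (F i))) ∧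
      Module.finrank A (MvPolynomial (Fin r) A ⧸ Ideal.span (Set.range fun i => Polynomial.aeval (MvPolynomial.X i : MvPolynomial (Fin r) A) (F i))) =
        Finset.univ.prod fun i => (F i).natDegree := by
  exact claim r A F hF

end Groth.Agent.S4610
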