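import Groth.Statements.S4611
import Mathlib

set_option autoImplicit false
universe u
open EGA41

namespace Groth.Agent.S4611

/-- A local algebra essentially of finite type over a ring A is A-isomorphic to a quotient of a
localization A[T_1, …, T_n]_q of a polynomial algebra at a prime ideal q; stated as the existence of
a surjective A-algebra map from such a localization. -/
theorem result {A B : Type u} [CommRing A]
    [CommRing B] [IsLocalRing B] [Algebra A B] [Algebra.EssFiniteType A B] :
    ∃ (n : ℕ) (q : Ideal (MvPolynomial (Fin n) A)) (_ : q.IsPrime)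
      (φ : Localization.AtPrime q →ₐ[A] B), Function.Surjective φ := by
  classical
  obtain ⟨σ, hσ⟩ := (Algebra.essFiniteType_iff A B).mp inferInstance
  let n := σ.card
  let v : Fin n → B := fun i => (σ.equivFin.symm i : B)
  let g : MvPolynomial (Fin n) A →ₐ[A] B := MvPolynomial.aeval v
  have hrange : Set.range v = (σ : Set B) := by
    ext b
    constructor
    · rintro ⟨i, rfl⟩
      exact (σ.equivFin.symm i).2
    · intro hb
      exact ⟨σ.equivFin ⟨b, hb⟩, by simp [v]⟩
  have hg : g.range = Algebra.adjoin A (σ : Set B) := by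
    rw [← hrange]
    exact (Algebra.adjoin_range_eq_range_aeval A v).symm
  let q : Ideal (MvPolynomial (Fin n) A) := (IsLocalRing.maximalIdeal B).comap g.toRingHom
  have hq : q.IsPrime := Ideal.comap_isPrime _ _
  have hunits : ∀ y : q.primeCompl, IsUnit (g y) := by
    intro y
    have : (y : MvPolynomial (Fin n) A) ∉ q := y.2
    by_contra h
    exact this ((IsLocalRing.mem_maximalIdeal _).mpr h)
  refine ⟨n, q, hq, IsLocalization.liftAlgHom (M := q.primeCompl) (f := g) hunits, ?_⟩
  intro b
  obtain ⟨t, ht, htu, hbt⟩ := hσ b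
  rw [← hg] at ht hbt
  obtain ⟨p, hp⟩ := ht
  obtain ⟨p', hp'⟩ := hbt
  have hpq : p ∈ q.primeCompl := by
    intro hmem
    have h1 : g p ∈ IsLocalRing.maximalIdeal B := hmem
    have h2 : g p = t := hp
    rw [h2] at h1
    exact (IsLocalRing.mem_maximalIdeal _).mp h1 htu
  refine ⟨IsLocalization.mk' _ p' ⟨p, hpq⟩, ?_⟩
  rw [IsLocalization.coe_liftAlgHom, IsLocalization.lift_mk'_spec]
  have h2 : g p = t := hp
  have h3 : g p' = b * t := hp'
  show g p' = g p * b
  rw [h2, h3, mul_comm]

end Groth.Agent.S4611
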