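import Groth.Statements.S4621
import Groth.Agent.Lib.Helper4.GeomConnSet

set_option autoImplicit false
open CategoryTheory AlgebraicGeometry
universe u
open FBase

namespace Groth.Agent.S4621

/-- Let h : Y → X be a morphism of schemes over a field k, with Y nonempty and geometrically connected
over k. Then the connected component of X containing the (connected) image h(Y) is geometrically
connected: for every extension field K of k, the inverse image in X ⊗_k K of the connected component
of h(y), for a point y of Y, is connected. -/
theorem result {k K : Type u} [Field k] [Field K] [Algebra k K]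
    {X Y : Scheme.{u}} (f : X ⟶ Spec (CommRingCat.of k)) (g : Y ⟶ Spec (CommRingCat.of k)) (h : Y ⟶ X) (w : h ≫ f = g)
    [GeometricallyConnected g] (y : Y) :
    _root_.IsConnected (⇑(FBase.bcπ f K) ⁻¹' connectedComponent (h y)) := by
  haveI : GeometricallyConnected (h ≫ f) := by rw [w]; infer_instance
  have hD : ∀ (L : Type u) [Field L] [Algebra k L],
      _root_.IsConnected ((FBase.bcπ f L).base ⁻¹' Set.range h.base) := fun L _ _ =>
    Groth.Agent.Helper4.GeomConnSet.isConnected_preimage_range f L h
  refine Groth.Agent.Helper4.GeomConnSet.isConnected_preimage_of_subset f K
    (connectedComponent (h.base y)) (Set.range h.base) isConnected_connectedComponent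
    isClosed_connectedComponent ?_ hD
  have h1 := hD k
  have hsurj : Function.Surjective (FBase.bcπ f k).base := by
    unfold FBase.bcπ
    haveI : Surjective (Spec.map (CommRingCat.ofHom (algebraMap k k))) :=
      ⟨fun x => ⟨x, by
        have : Subsingleton ↥(Spec (CommRingCat.of k)) :=
          inferInstanceAs (Subsingleton (PrimeSpectrum k))
        exact Subsingleton.elim _ _⟩⟩
    exact (Limits.pullback.fst f _).surjective
  have h2 : _root_.IsConnected (Set.range h.base) := by
    have := h1.image _ (FBase.bcπ f k).continuous.continuousOn
    rwa [Set.image_preimage_eq _ hsurj] at this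
  exact h2.isPreconnected.subset_connectedComponent ⟨y, rfl⟩

end Groth.Agent.S4621
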