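import Groth.Statements.S4622
import Mathlib
-- import your own Groth.Agent.* helpers here

set_option autoImplicit false
open CategoryTheory AlgebraicGeometry
universe u
open FBase

namespace Groth.Agent.S4622

section
open AlgebraicGeometry CategoryTheory Limits MorphismProperty

lemma univHomeo_of {X Y : Scheme.{u}} (f : X ⟶ Y) [IsIntegralHom f] [UniversallyInjective f]
    [Surjective f] : FlatMor.IsUnivHomeo f := by
  intro X' Y' i₁ i₂ f' sq
  have h1 : IsIntegralHom f' := MorphismProperty.of_isPullback sq.flip inferInstance
  have h2 : UniversallyInjective f' := MorphismProperty.of_isPullback sq.flip inferInstance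
  have h3 : Surjective f' := MorphismProperty.of_isPullback sq.flip inferInstance
  exact (isHomeomorph_iff_continuous_isClosedMap_bijective).mpr
    ⟨f'.continuous, f'.isClosedMap, f'.injective, f'.surjective⟩

theorem main {k k' : Type u} [Field k] [IsSepClosed k] [Field k'] [Algebra k k']
    [IsAlgClosure k k'] {X : Scheme.{u}} (f : X ⟶ Spec (CommRingCat.of k)) :
    FlatMor.IsUnivHomeo (FBase.bcπ f k') := by
  haveI : Algebra.IsAlgebraic k k' := IsAlgClosure.isAlgebraic
  haveI : IsPurelyInseparable k k' := inferInstance
  have h1 : IsIntegralHom (Spec.map (CommRingCat.ofHom (algebraMap k k'))) :=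
    IsIntegralHom.SpecMap_iff.mpr (algebraMap_isIntegral_iff.mpr inferInstance)
  have h2 : UniversallyInjective (Spec.map (CommRingCat.ofHom (algebraMap k k'))) := by
    have := (tfae_universallyInjective (Spec.map (CommRingCat.ofHom (algebraMap k k')))).out 0 1
    rw [this]
    intro K _ g₁ g₂ hg
    obtain ⟨ψ₁, rfl⟩ := Spec.map_surjective g₁
    obtain ⟨ψ₂, rfl⟩ := Spec.map_surjective g₂
    simp only [← Spec.map_comp] at hg
    have h := Spec.map_injective hg
    congr 1
    apply CommRingCat.hom_ext
    apply IsPurelyInseparable.injective_comp_algebraMap k k' K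
    exact congrArg CommRingCat.Hom.hom h
  have h3 : Surjective (Spec.map (CommRingCat.ofHom (algebraMap k k'))) :=
    ⟨fun y => ⟨(default : PrimeSpectrum k'), Subsingleton.elim (α := PrimeSpectrum k) _ _⟩⟩
  have h4 := univHomeo_of (Spec.map (CommRingCat.ofHom (algebraMap k k')))
  haveI : FlatMor.IsUnivHomeo.{u}.IsStableUnderBaseChange := universally_isStableUnderBaseChange _
  exact MorphismProperty.pullback_fst (P := FlatMor.IsUnivHomeo.{u}) f _ h4

end

/-- Let k be a separably closed field, k' an algebraic closure of k and X a scheme over k. Then the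
projection X ⊗_k k' → X is a universal homeomorphism. -/
theorem result {k k' : Type u} [Field k] [IsSepClosed k] [Field k'] [Algebra k k']
    [IsAlgClosure k k'] {X : Scheme.{u}} (f : X ⟶ Spec (CommRingCat.of k)) :
    FlatMor.IsUnivHomeo (FBase.bcπ f k') := by
  exact Groth.Agent.S4622.main f

end Groth.Agent.S4622
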