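import Groth.Statements.S4634
import Mathlib
import Groth.Agent.Lib.Helper7.LimDom2
import Groth.Agent.Lib.Helper4.QuasiFlat

set_option autoImplicit false
open CategoryTheory AlgebraicGeometry
universe u
open FDesc

namespace Groth.Agent.S4634

/-- Let f : X → Y be a quasi-flat quasi-compact morphism and F a closed subset of X which is saturated
for f, i.e. F = f⁻¹(f(F)). Then F is the inverse image of the closure of f(F). -/
theorem result {X Y : Scheme.{u}} (f : X ⟶ Y) (hf : FDesc.IsQuasiFlat f)
    [QuasiCompact f] (F : Set ↥X) (hF : IsClosed F) (hsat : ⇑f ⁻¹' (⇑f '' F) = F) :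
    ⇑f ⁻¹' closure (⇑f '' F) = F := by
  have hgen := Groth.Agent.Helper4.QuasiFlat.generalizingMap_of_isQuasiFlat f hf
  apply subset_antisymm
  · intro x hx
    let I := Scheme.IdealSheafData.vanishingIdeal ⟨F, hF⟩
    let g := I.subschemeι ≫ f
    have h1 : Set.range I.subschemeι = F := by
      rw [Scheme.IdealSheafData.range_subschemeι, Scheme.IdealSheafData.coe_support_vanishingIdeal]
      rfl
    have hrange : Set.range g = f '' F := by
      ext y
      constructor
      · rintro ⟨w, rfl⟩
        refine ⟨I.subschemeι w, ?_, rfl⟩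
        rw [← h1]; exact ⟨w, rfl⟩
      · rintro ⟨z, hz, rfl⟩
        rw [← h1] at hz
        obtain ⟨w, rfl⟩ := hz
        exact ⟨w, rfl⟩
    have hx' : f x ∈ closure (Set.range g) := by rw [hrange]; exact hx
    obtain ⟨w, hw⟩ :=
      Groth.Agent.Helper7.QcClosure.exists_specializes_of_mem_closure_range g (f x) hx'
    obtain ⟨x', hx'1, hx'2⟩ := hgen hw
    have hx'F : x' ∈ F := by
      rw [← hsat]
      show f x' ∈ f '' F
      rw [← hrange]
      exact ⟨w, hx'2.symm⟩
    exact hx'1.mem_closed hF hx'F
  · intro x hx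
    exact subset_closure ⟨x, hx, rfl⟩

end Groth.Agent.S4634
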