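import Groth.Statements.S4638
import Groth.Agent.Lib.Helper13.QCohWeakAss

set_option autoImplicit false
open CategoryTheory AlgebraicGeometry
universe u
open AssSch

namespace Groth.Agent.S4638

open Groth.Agent.Helper13.QCoh

/-- Let X be a locally Noetherian scheme, F a quasi-coherent O_X-module and f a global section of O_X.
Then f is F-regular, i.e. multiplication by the germ of f is injective on every stalk of F, if and
only if every associated point of F lies in the open subset X_f where f does not vanish. -/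
theorem result {X : Scheme.{u}} [IsLocallyNoetherian X] (F : X.Modules)
    (hF : Coh.IsQCoh F) (f : Γ(X, ⊤)) :
    (∀ x : X, IsSMulRegular ↑(F.presheaf.stalk x) (X.presheaf.germ ⊤ x trivial f)) ↔
      AssSch.Ass F ⊆ (X.basicOpen f : Set ↥X) := by
  have : F.IsQuasicoherent := hF
  constructor
  · intro hreg x hx
    obtain ⟨m, hm⟩ := (isAssPoint_iff_isWeakAssPoint F x).1 hx
    by_contra hxf
    have hnu : ¬ IsUnit (X.presheaf.germ ⊤ x trivial f) := fun hu =>
      hxf ((X.mem_basicOpen f x trivial).2 hu)
    have hmem : X.presheaf.germ ⊤ x trivial f ∈ IsLocalRing.maximalIdeal (X.presheaf.stalk x) :=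
      (IsLocalRing.mem_maximalIdeal _).2 hnu
    rw [← hm] at hmem
    obtain ⟨k, hk⟩ := hmem
    rw [LinearMap.mem_ker, LinearMap.toSpanSingleton_apply] at hk
    have hm0 : m = 0 := by
      have hregk := (hreg x).pow k
      exact (isSMulRegular_iff_right_eq_zero_of_smul.1 hregk) m hk
    have hne := not_subsingleton_of_isWeakAssPoint F x ⟨m, hm⟩
    -- m = 0 forces radical ⊤
    have htop : LinearMap.ker (LinearMap.toSpanSingleton (X.presheaf.stalk x) (F.presheaf.stalk x) m) = ⊤ := by
      rw [eq_top_iff]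
      intro r _
      rw [LinearMap.mem_ker, LinearMap.toSpanSingleton_apply, hm0, smul_zero]
    rw [htop, Ideal.radical_top] at hm
    exact (IsLocalRing.maximalIdeal.isMaximal (X.presheaf.stalk x)).ne_top hm.symm
  · intro hass x
    rw [isSMulRegular_iff_right_eq_zero_of_smul]
    intro m hfm
    by_contra hm
    obtain ⟨_, ⟨V, hV, rfl⟩, hxV, -⟩ :=
      X.isBasis_affineOpens.exists_subset_of_mem_open (Set.mem_univ x) isOpen_univ
    have hV' : IsAffineOpen V := hV
    set fV : Γ(X, V) := X.presheaf.map (homOfLE (le_top : V ≤ ⊤)).op f with hfV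
    have hgermf : ∀ (y : X) (hy : y ∈ V), X.presheaf.germ V y hy fV = X.presheaf.germ ⊤ y trivial f :=
      fun y hy => TopCat.Presheaf.germ_res_apply X.presheaf (homOfLE (le_top : V ≤ ⊤)) y hy f
    obtain ⟨g, hxg, t, hgt⟩ := exists_germ_smul_eq F hV' x hxV m
    have hgerm_t : F.presheaf.germ V x hxV t ≠ 0 := by
      intro h0
      rw [h0] at hgt
      exact hm (eq_zero_of_germ_smul_eq_zero F x hxV g hxg m hgt)
    have h1 : F.presheaf.germ V x hxV (fV • t) = 0 := by
      rw [germ_smul, hgermf, ← hgt, smul_comm, hfm, smul_zero]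
    obtain ⟨g', hxg', hg't⟩ := exists_smul_eq_zero_of_germ_eq_zero F hV' x hxV _ h1
    have ht' : F.presheaf.germ V x hxV (g' • t) ≠ 0 := by
      intro h0
      rw [germ_smul] at h0
      exact hgerm_t (eq_zero_of_germ_smul_eq_zero F x hxV g' hxg' _ h0)
    obtain ⟨y, hyV, -, hyne, hrad⟩ := exists_weakAss_specializes_of_germ_ne_zero F hV' (g' • t) x hxV ht'
    have hyf : y ∈ X.basicOpen f := hass ((isAssPoint_iff_isWeakAssPoint F y).2 ⟨_, hrad⟩)
    have hyfV : y ∈ X.basicOpen fV := by
      rw [X.mem_basicOpen fV y hyV, hgermf]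
      exact (X.mem_basicOpen f y trivial).1 hyf
    apply hyne
    apply eq_zero_of_germ_smul_eq_zero F y hyV fV hyfV
    rw [← germ_smul, smul_comm, hg't, map_zero]

end Groth.Agent.S4638
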