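import Groth.Statements.S4640
import Mathlib
-- import your own Groth.Agent.* helpers here

set_option autoImplicit false
universe u
open FDesc

namespace Groth.Agent.S4640

section
open TensorProduct nonZeroDivisors

variable {A K : Type u} [CommRing A] [IsDedekindDomain A] [Field K]
    [Algebra A K] [IsFractionRing A K] {M : Type u} [AddCommGroup M] [Module A M]

/-- membership in a `K`-submodule can be tested after multiplying by a nonzero scalar of `A`. -/
lemma mem_of_smul_mem (P' : Submodule K (K ⊗[A] M)) (s : A) (hs : s ≠ 0) (x : K ⊗[A] M)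
    (h : s • x ∈ P') : x ∈ P' := by
  have hs' : algebraMap A K s ≠ 0 := by
    simpa using (IsFractionRing.injective A K).ne hs
  have : x = (algebraMap A K s)⁻¹ • (s • x) := by
    rw [← algebraMap_smul K s x, smul_smul, inv_mul_cancel₀ hs', one_smul]
  rw [this]
  exact P'.smul_mem _ h

lemma exists_rep (N : Type u) [AddCommGroup N] [Module A N] (x : K ⊗[A] N) :
    ∃ (s : A) (m : N), s ≠ 0 ∧ s • x = (1 : K) ⊗ₜ[A] m := by
  haveI : IsLocalizedModule A⁰ (TensorProduct.mk A K N 1) :=
    IsLocalization.tensorProduct_isLocalizedModule A⁰ K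
  obtain ⟨⟨m, s⟩, h⟩ := IsLocalizedModule.surj A⁰ (TensorProduct.mk A K N 1) x
  exact ⟨s, m, nonZeroDivisors.ne_zero s.2, by simpa [Submonoid.smul_def] using h⟩

lemma tmul_eq_zero_iff (N : Type u) [AddCommGroup N] [Module A N] (m : N) :
    (1 : K) ⊗ₜ[A] m = 0 ↔ ∃ c : A, c ≠ 0 ∧ c • m = 0 := by
  haveI : IsLocalizedModule A⁰ (TensorProduct.mk A K N 1) :=
    IsLocalization.tensorProduct_isLocalizedModule A⁰ K
  have := IsLocalizedModule.eq_zero_iff A⁰ (TensorProduct.mk A K N 1) (m := m)
  simp only [TensorProduct.mk_apply] at this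
  rw [this]
  constructor
  · rintro ⟨c, hc⟩
    exact ⟨c, nonZeroDivisors.ne_zero c.2, by simpa [Submonoid.smul_def] using hc⟩
  · rintro ⟨c, hc, h⟩
    exact ⟨⟨c, mem_nonZeroDivisors_of_ne_zero hc⟩, by simpa [Submonoid.smul_def] using h⟩

lemma smul_eq_zero_K (N : Type u) [AddCommGroup N] [Module A N] (s : A) (hs : s ≠ 0)
    (y : K ⊗[A] N) (h : s • y = 0) : y = 0 := by
  have hs' : algebraMap A K s ≠ 0 := by
    simpa using (IsFractionRing.injective A K).ne hs
  rw [← algebraMap_smul K s y] at h
  exact (smul_eq_zero.mp h).resolve_left hs'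

theorem main (P' : Submodule K (K ⊗[A] M)) (Q : Submodule A M) :
    Q = LinearMap.ker ((P'.restrictScalars A).mkQ ∘ₗ TensorProduct.mk A K M 1) ↔
      (Module.Flat A (M ⧸ Q) ∧ LinearMap.ker (Q.mkQ.baseChange K) = P') := by
  have hker : ∀ m : M, m ∈ LinearMap.ker ((P'.restrictScalars A).mkQ ∘ₗ TensorProduct.mk A K M 1)
      ↔ (1 : K) ⊗ₜ[A] m ∈ P' := by
    intro m
    simp [LinearMap.mem_ker, Submodule.Quotient.mk_eq_zero]
  constructor
  · intro hQ
    have hQm : ∀ m : M, m ∈ Q ↔ (1 : K) ⊗ₜ[A] m ∈ P' := by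
      intro m; rw [hQ]; exact hker m
    have htf : Module.IsTorsionFree A (M ⧸ Q) := by
      rw [Module.isTorsionFree_iff_smul_eq_zero]
      intro a x hax
      by_cases ha : a = 0
      · exact Or.inl ha
      right
      obtain ⟨m, rfl⟩ := Submodule.Quotient.mk_surjective Q x
      rw [← Submodule.Quotient.mk_smul, Submodule.Quotient.mk_eq_zero, hQm] at hax
      rw [Submodule.Quotient.mk_eq_zero, hQm]
      apply mem_of_smul_mem P' a ha
      rwa [TensorProduct.tmul_smul] at hax
    refine ⟨inferInstance, ?_⟩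
    ext x
    rw [LinearMap.mem_ker]
    obtain ⟨s, m, hs, hsx⟩ := exists_rep (A := A) (K := K) M x
    have h1 : s • (Q.mkQ.baseChange K x) = (1 : K) ⊗ₜ[A] (Q.mkQ m) := by
      rw [← LinearMap.map_smul_of_tower, hsx]; simp
    constructor
    · intro hx
      rw [hx, smul_zero] at h1
      have := (tmul_eq_zero_iff (A := A) (K := K) (M ⧸ Q) (Q.mkQ m)).mp h1.symm
      obtain ⟨c, hc, hcm⟩ := this
      have hm0 : Q.mkQ m = 0 := by
        rcases (Module.isTorsionFree_iff_smul_eq_zero.mp htf) c (Q.mkQ m) hcm with h | h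
        · exact absurd h hc
        · exact h
      have hmQ : m ∈ Q := by simpa using hm0
      apply mem_of_smul_mem P' s hs
      rw [hsx]
      exact (hQm m).mp hmQ
    · intro hx
      have h2 : (1 : K) ⊗ₜ[A] m ∈ P' := by
        rw [← hsx, ← algebraMap_smul K s x]; exact P'.smul_mem _ hx
      have hmQ : m ∈ Q := (hQm m).mpr h2
      have : Q.mkQ m = 0 := by simpa using hmQ
      rw [this, TensorProduct.tmul_zero] at h1
      exact smul_eq_zero_K (A := A) (K := K) (M ⧸ Q) s hs _ h1
  · rintro ⟨hflat, hP⟩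
    ext m
    rw [hker, ← hP, LinearMap.mem_ker]
    have : Q.mkQ.baseChange K ((1 : K) ⊗ₜ[A] m) = (1 : K) ⊗ₜ[A] (Q.mkQ m) := by simp
    rw [this, tmul_eq_zero_iff (A := A) (K := K)]
    constructor
    · intro hm
      exact ⟨1, one_ne_zero, by simpa using hm⟩
    · rintro ⟨c, hc, hcm⟩
      have htf : Module.IsTorsionFree A (M ⧸ Q) := inferInstance
      have hm0 : Q.mkQ m = 0 := by
        rcases (Module.isTorsionFree_iff_smul_eq_zero.mp htf) c (Q.mkQ m) hcm with h | h
        · exact absurd h hc
        · exact h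
      simpa using hm0

end

open TensorProduct in
/-- Let A be a Dedekind domain with fraction field K, M an A-module and P' a K-submodule of K ⊗_A M. Let
φ : M → (K ⊗_A M)/P' be m ↦ class of 1 ⊗ m. Then a submodule Q of M equals ker φ if and only if M/Q
is a flat A-module and the kernel of the induced surjection K ⊗_A M → K ⊗_A (M/Q) is P'. Thus M/ker
φ is the unique flat quotient of M with generic fibre (K ⊗_A M)/P'. (The published statement takes A
Noetherian, regular and of dimension 1; a field is allowed here, where the statement is immediate.) -/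
theorem result {A K : Type u} [CommRing A] [IsDedekindDomain A] [Field K]
    [Algebra A K] [IsFractionRing A K] {M : Type u} [AddCommGroup M] [Module A M]
    (P' : Submodule K (K ⊗[A] M)) (Q : Submodule A M) :
    Q = LinearMap.ker ((P'.restrictScalars A).mkQ ∘ₗ TensorProduct.mk A K M 1) ↔
      (Module.Flat A (M ⧸ Q) ∧ LinearMap.ker (Q.mkQ.baseChange K) = P') := by
  exact Groth.Agent.S4640.main P' Q

end Groth.Agent.S4640
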