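import Groth.Statements.S4642
import Mathlib
import Groth.Agent.Lib.Helper14.UOpenFam
import Groth.Agent.Lib.Helper14.FieldBCComp
-- import your own Groth.Agent.* helpers here

set_option autoImplicit false
open CategoryTheory AlgebraicGeometry
universe u
open FBase

namespace Groth.Agent.S4642

open AlgebraicGeometry CategoryTheory Limits Groth.Agent.Helper14

/-- Let X be a scheme locally of finite type over a field k and K an extension field of k. Then X ⊗_k K
and X have the same dimension. (Dimension is the Krull dimension of the underlying topological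
space, which for schemes locally of finite type over a field agrees with the supremum of the
transcendence degrees of the residue fields at maximal points.) -/
theorem result {k K : Type u} [Field k] [Field K] [Algebra k K] {X : Scheme.{u}}
    (f : X ⟶ Spec (CommRingCat.of k)) [LocallyOfFiniteType f] :
    topologicalKrullDim ↥(FBase.bc f K) = topologicalKrullDim ↥X := by
  classical
  obtain ⟨y'⟩ : Nonempty ↥(Spec (CommRingCat.of K)) :=
    inferInstanceAs (Nonempty (PrimeSpectrum K))
  haveI : Subsingleton ↥(Spec (CommRingCat.of K)) :=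
    inferInstanceAs (Subsingleton (PrimeSpectrum K))
  have h := UOpenFam.dim_bc (FieldBCComp.isPullback_bc f (K := K)) (Set.univ : Set X) y'
  have e1 : (⇑(FBase.bcStr f K) ⁻¹' {y'} ∩ closure (⇑(FBase.bcπ f K) ⁻¹' (Set.univ : Set X) ∩
      ⇑(FBase.bcStr f K) ⁻¹' {y'}) : Set ↥(FBase.bc f K)) = Set.univ := by
    have : (⇑(FBase.bcStr f K) ⁻¹' {y'} : Set ↥(FBase.bc f K)) = Set.univ := by
      ext x; simp only [Set.mem_preimage, Set.mem_singleton_iff, Set.mem_univ, iff_true]
      exact Subsingleton.elim _ _
    rw [this, Set.preimage_univ, Set.univ_inter, Set.univ_inter, closure_univ]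
  have e2 : (⇑f ⁻¹' {(Spec.map (CommRingCat.ofHom (algebraMap k K))) y'} ∩
      closure ((Set.univ : Set X) ∩ ⇑f ⁻¹' {(Spec.map (CommRingCat.ofHom (algebraMap k K))) y'}) :
        Set X) = Set.univ := by
    have : (⇑f ⁻¹' {(Spec.map (CommRingCat.ofHom (algebraMap k K))) y'} : Set X) = Set.univ := by
      ext x; simp only [Set.mem_preimage, Set.mem_singleton_iff, Set.mem_univ, iff_true]
      exact Subsingleton.elim _ _
    rw [this, Set.univ_inter, Set.univ_inter, closure_univ]
  rw [e1, e2] at h
  rw [← IsHomeomorph.topologicalKrullDim_eq _ (Homeomorph.Set.univ ↥(FBase.bc f K)).isHomeomorph,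
    ← IsHomeomorph.topologicalKrullDim_eq _ (Homeomorph.Set.univ ↥X).isHomeomorph]
  exact h

end Groth.Agent.S4642
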