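import Groth.Statements.S4643
import Mathlib
import Groth.Agent.Lib.Helper14.UOpenFam
import Groth.Agent.Lib.Helper14.FieldBCComp
import Groth.Agent.Lib.Helper14.ResFieldBridge
-- import your own Groth.Agent.* helpers here

set_option autoImplicit false
open CategoryTheory AlgebraicGeometry
universe u
open FBase

namespace Groth.Agent.S4643

open AlgebraicGeometry CategoryTheory Limits Groth.Agent.Helper14 TopologicalSpace

instance instSubsingletonSpecField (k : Type u) [Field k] :
    Subsingleton ↥(Spec (CommRingCat.of k)) :=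
  inferInstanceAs (Subsingleton (PrimeSpectrum k))

theorem inter_fibre_eq_univ {k : Type u} [Field k] {T : Scheme.{u}}
    (φ : T ⟶ Spec (CommRingCat.of k)) (s : ↥(Spec (CommRingCat.of k))) :
    (((⊤ : Closeds T) : Set T) ∩ ⇑φ ⁻¹' {s}) = Set.univ := by
  ext x
  simp only [Closeds.coe_top, Set.univ_inter, Set.mem_preimage, Set.mem_singleton_iff,
    Set.mem_univ, iff_true]
  exact Subsingleton.elim _ _

theorem le_dimk {k : Type u} [Field k] {T : Scheme.{u}}
    (φ : T ⟶ Spec (CommRingCat.of k)) [LocallyOfFiniteType φ] (t : T) (n : ℕ)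
    (hn : @Algebra.trdeg ((Spec (CommRingCat.of k)).residueField (φ t)) (T.residueField t) _ _
        (φ.residueFieldMap t).hom.toAlgebra = n) :
    (n : WithBot ℕ∞) ≤ topologicalKrullDim ↥T := by
  have h := UOpenFam.le_dim_of_trdeg φ ⊤ t trivial n hn
  rw [inter_fibre_eq_univ,
    IsHomeomorph.topologicalKrullDim_eq _ (Homeomorph.Set.univ ↥T).isHomeomorph] at h
  exact h

theorem dimk_le {k : Type u} [Field k] {T : Scheme.{u}}
    (φ : T ⟶ Spec (CommRingCat.of k)) [LocallyOfFiniteType φ] (d : WithBot ℕ∞)
    (h : ∀ t : T, ∀ n : ℕ,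
      @Algebra.trdeg ((Spec (CommRingCat.of k)).residueField (φ t)) (T.residueField t) _ _
        (φ.residueFieldMap t).hom.toAlgebra = n → (n : WithBot ℕ∞) ≤ d) :
    topologicalKrullDim ↥T ≤ d := by
  obtain ⟨s⟩ : Nonempty ↥(Spec (CommRingCat.of k)) :=
    inferInstanceAs (Nonempty (PrimeSpectrum k))
  have h' := UOpenFam.dim_le_of_forall_trdeg φ ⊤ s d (fun x _ _ n hn => h x n hn)
  rw [inter_fibre_eq_univ,
    IsHomeomorph.topologicalKrullDim_eq _ (Homeomorph.Set.univ ↥T).isHomeomorph] at h'
  exact h'

theorem dim_eq_bot_of_isEmpty (T : Type*) [TopologicalSpace T] [IsEmpty T] :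
    topologicalKrullDim T = ⊥ := by
  unfold topologicalKrullDim
  rw [Order.krullDim_eq_bot_iff]
  exact ⟨fun Z => Z.isIrreducible'.nonempty.elim (fun x _ => IsEmpty.false x)⟩

open CategoryTheory.Limits in
/-- Let X and Y be schemes locally of finite type over a field k. Then the dimension of X ×_k Y is the
sum of the dimensions of X and Y (Krull dimensions of the underlying spaces, valued in WithBot ℕ∞,
the empty scheme having dimension ⊥). -/
theorem result {k : Type u} [Field k] {X Y : Scheme.{u}}
    (f : X ⟶ Spec (CommRingCat.of k)) (g : Y ⟶ Spec (CommRingCat.of k)) [LocallyOfFiniteType f] [LocallyOfFiniteType g] :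
    topologicalKrullDim ↥(pullback f g) = topologicalKrullDim ↥X + topologicalKrullDim ↥Y := by
  classical
  have hsq : IsPullback (pullback.fst f g) (pullback.snd f g) f g := IsPullback.of_hasPullback f g
  haveI : LocallyOfFiniteType (pullback.snd f g) := MorphismProperty.pullback_snd _ _ inferInstance
  haveI : LocallyOfFiniteType (pullback.snd f g ≫ g) := inferInstance
  apply le_antisymm
  · apply dimk_le (pullback.snd f g ≫ g)
    intro z n hn
    obtain ⟨a, ha⟩ := ResFieldBridge.exists_nat_trdeg_residueField f (pullback.fst f g z)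
    obtain ⟨b, hb⟩ := ResFieldBridge.exists_nat_trdeg_residueField g (pullback.snd f g z)
    have h1 := (FibreBC.trdeg_of_isPullback hsq z).1
    rw [ha] at h1
    have h2 := DimClosure.trdeg_comp (pullback.snd f g) g z
    rw [hn, hb] at h2
    have h3 : (n : Cardinal) ≤ ((b + a : ℕ) : Cardinal) := by
      rw [h2]; push_cast; exact add_le_add le_rfl h1
    have h4 : n ≤ b + a := by exact_mod_cast h3
    have hA := le_dimk f _ a ha
    have hB := le_dimk g _ b hb
    calc (n : WithBot ℕ∞) ≤ ((b + a : ℕ) : WithBot ℕ∞) := by exact_mod_cast h4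
      _ = (a : WithBot ℕ∞) + (b : WithBot ℕ∞) := by push_cast; exact add_comm _ _
      _ ≤ _ := add_le_add hA hB
  · rcases isEmpty_or_nonempty ↥X with hX | ⟨⟨x₀⟩⟩
    · rw [dim_eq_bot_of_isEmpty ↥X, WithBot.bot_add]; exact bot_le
    rcases isEmpty_or_nonempty ↥Y with hY | ⟨⟨y₀⟩⟩
    · rw [dim_eq_bot_of_isEmpty ↥Y, WithBot.add_bot]; exact bot_le
    -- pairwise bound
    have key : ∀ (x : X) (y : Y) (a b : ℕ),
        @Algebra.trdeg ((Spec (CommRingCat.of k)).residueField (f x)) (X.residueField x) _ _
          (f.residueFieldMap x).hom.toAlgebra = a →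
        @Algebra.trdeg ((Spec (CommRingCat.of k)).residueField (g y)) (Y.residueField y) _ _
          (g.residueFieldMap y).hom.toAlgebra = b →
        ((a + b : ℕ) : WithBot ℕ∞) ≤ topologicalKrullDim ↥(pullback f g) := by
      intro x y a b ha hb
      obtain ⟨z, hzx, hzy, hz⟩ := PtTrdegEq.exists_point_trdeg_eq hsq x y (Subsingleton.elim _ _)
      rw [FibreBC.trdeg_point_congr f hzx, ha] at hz
      have h2 := DimClosure.trdeg_comp (pullback.snd f g) g z
      rw [hz, FibreBC.trdeg_point_congr g hzy, hb] at h2
      apply le_dimk (pullback.snd f g ≫ g) z (a + b)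
      rw [h2]; push_cast; exact add_comm _ _
    set D := topologicalKrullDim ↥(pullback f g) with hD
    obtain ⟨a₀, ha₀⟩ := ResFieldBridge.exists_nat_trdeg_residueField f x₀
    obtain ⟨b₀, hb₀⟩ := ResFieldBridge.exists_nat_trdeg_residueField g y₀
    induction hDD : D using WithBot.recBotCoe with
    | bot =>
      have := key x₀ y₀ a₀ b₀ ha₀ hb₀
      rw [hDD] at this
      exact absurd this (by simp)
    | coe D' =>
      induction D' using ENat.recTopCoe with
      | top => exact le_top
      | coe N =>
        rw [hDD] at key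
        have key' : ∀ (x : X) (y : Y) (a b : ℕ), _ → _ → a + b ≤ N := fun x y a b ha hb => by
          have := key x y a b ha hb
          exact_mod_cast this
        have hX0 : (0 : WithBot ℕ∞) ≤ topologicalKrullDim ↥X := by
          have := le_dimk f x₀ a₀ ha₀
          exact le_trans (by exact_mod_cast Nat.zero_le a₀) this
        have hXle : ∀ (y : Y) (b : ℕ),
            @Algebra.trdeg ((Spec (CommRingCat.of k)).residueField (g y)) (Y.residueField y) _ _
              (g.residueFieldMap y).hom.toAlgebra = b →
            topologicalKrullDim ↥X ≤ ((N - b : ℕ) : WithBot ℕ∞) := by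
          intro y b hb
          apply dimk_le f
          intro x a ha
          have := key' x y a b ha hb
          exact_mod_cast (by omega : a ≤ N - b)
        obtain ⟨A, hA, hAle⟩ := Groth.Agent.Lead.RLR.exists_nat_of_le hX0 (hXle y₀ b₀ hb₀)
        have hYle : topologicalKrullDim ↥Y ≤ ((N - A : ℕ) : WithBot ℕ∞) := by
          apply dimk_le g
          intro y b hb
          have h1 := hXle y b hb
          rw [hA] at h1
          have h2 : A ≤ N - b := by exact_mod_cast h1
          have h3 := key' x₀ y a₀ b ha₀ hb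
          exact_mod_cast (by omega : b ≤ N - A)
        rw [hA]
        calc ((A : ℕ) : WithBot ℕ∞) + topologicalKrullDim ↥Y
            ≤ (A : WithBot ℕ∞) + ((N - A : ℕ) : WithBot ℕ∞) := add_le_add le_rfl hYle
          _ = ((A + (N - A) : ℕ) : WithBot ℕ∞) := by push_cast; rfl
          _ ≤ ((N : ℕ) : WithBot ℕ∞) := by
              have : A + (N - A) ≤ N := by omega
              exact_mod_cast this

end Groth.Agent.S4643
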