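import Groth.Statements.S4646
import Groth.Agent.Lib.Helper4.FinLevel2

set_option autoImplicit false
open CategoryTheory AlgebraicGeometry
universe u
open FBase

namespace Groth.Agent.S4646

/-- Let X be a scheme over a field k having finitely many irreducible components, such that for the
generic point x of each irreducible component the separable algebraic closure of k in κ(x) has
finite degree over k. Then there is a finite separable extension L of k such that all irreducible
components of X ⊗_k L are geometrically irreducible over L: for every extension field K of L and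
every irreducible component Z' of X ⊗_k L, the inverse image of Z' in (X ⊗_k L) ⊗_L K is
irreducible. (No finite-type hypothesis on X.) -/
theorem result {k : Type u} [Field k] {X : Scheme.{u}}
    (f : X ⟶ Spec (CommRingCat.of k)) [Finite ↥(irreducibleComponents ↥X)]
    (hx : ∀ (Z : Set ↥X) (hZ : Z ∈ irreducibleComponents ↥X),
      FBase.ResidueFieldProp f hZ.1.genericPoint (fun K _ _ => FiniteDimensional k (separableClosure k K))) :
    ∃ (L : Type u) (_ : Field L) (_ : Algebra k L), FiniteDimensional k L ∧ Algebra.IsSeparable k L ∧
      ∀ (K : Type u) [Field K] [Algebra L K] (Z' : Set ↥(FBase.bc f L)), Z' ∈ irreducibleComponents ↥(FBase.bc f L) →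
        IsIrreducible (⇑(FBase.bcπ (FBase.bcStr f L) K) ⁻¹' Z') := by
  haveI : Algebra.IsAlgebraic k (SeparableClosure k) :=
    Algebra.IsSeparable.isAlgebraic k (SeparableClosure k)
  have hfin := Groth.Agent.Helper4.FinLevel2.finite_irreducibleComponents_bc' f
    (SeparableClosure k) (Set.toFinite _) hx
  obtain ⟨E, hE, hirrE⟩ :=
    Groth.Agent.Helper4.FinLevel.exists_finite_level_irreducible (SeparableClosure k) f hfin
  haveI := hE
  haveI : Algebra.IsSeparable k E :=
    Algebra.isSeparable_tower_bot_of_isSeparable k E (SeparableClosure k)
  refine ⟨↥E, inferInstance, inferInstance, hE, inferInstance, fun K _ _ Z' hZ' => ?_⟩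
  exact Groth.Agent.Helper4.GalOrbit.isIrreducible_preimage_of_bc (FBase.bcStr f ↥E)
    (SeparableClosure k) Z' (isClosed_of_mem_irreducibleComponents Z' hZ') (hirrE Z' hZ') K

end Groth.Agent.S4646
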