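import Groth.Statements.S4648
import Mathlib
import Groth.Agent.Lib.Helper5.ProConsImage
import Groth.Agent.Lib.Helper5.ProConsAffineImage
import Groth.Agent.Lib.Helper7.ProCons2
import Groth.Agent.Lib.Helper4.QuasiFlat
import Groth.Agent.S2495

set_option autoImplicit false
open CategoryTheory AlgebraicGeometry
universe u
open FDesc

namespace Groth.Agent.S4648

/-- Let f : X → Y be a quasi-flat, surjective and quasi-compact morphism and Z a subset of Y. Then Z is
a locally closed pro-constructible subset of Y if and only if f⁻¹(Z) is a locally closed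
pro-constructible subset of X. -/
theorem result {X Y : Scheme.{u}} (f : X ⟶ Y)
    (hf : FDesc.IsQuasiFlat f) [Surjective f] [QuasiCompact f] (Z : Set ↥Y) :
    (IsLocallyClosed Z ∧ ProCons.IsProConstructible Z) ↔
      (IsLocallyClosed (⇑f ⁻¹' Z) ∧ ProCons.IsProConstructible (⇑f ⁻¹' Z)) := by
  have hgen := Groth.Agent.Helper4.QuasiFlat.generalizingMap_of_isQuasiFlat f hf
  have hquot : Topology.IsQuotientMap f.base := Groth.Agent.S2495.result f hf
  constructor
  · rintro ⟨h1, h2⟩
    exact ⟨h1.preimage f.continuous, Groth.Agent.Helper5.PC.isProConstructible_preimage f h2⟩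
  · rintro ⟨h1, h2⟩
    have hZ : ProCons.IsProConstructible Z := by
      have h3 : (f '' (f ⁻¹' Z) : Set Y) = Z := Set.image_preimage_eq Z f.surjective
      have := Groth.Agent.Helper5.PC.isProConstructible_image f h2
      rwa [h3] at this
    refine ⟨?_, hZ⟩
    have hcl : f ⁻¹' closure Z = closure (f ⁻¹' Z) := by
      apply subset_antisymm
      · exact Groth.Agent.Helper7.ProCons2.preimage_closure_subset f hgen
          (Groth.Agent.Helper7.ProCons2.CC.of_isProConstructible hZ)
      · exact closure_minimal (Set.preimage_mono subset_closure)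
          (isClosed_closure.preimage f.continuous)
    rw [isLocallyClosed_iff_isOpen_coborder] at h1 ⊢
    have hco : f.base ⁻¹' (coborder Z) = coborder (f ⁻¹' Z) := by
      show f.base ⁻¹' (closure Z \ Z)ᶜ = (closure (f ⁻¹' Z) \ (f ⁻¹' Z))ᶜ
      rw [← hcl]
      rfl
    rw [← hquot.isOpen_preimage, hco]
    exact h1

end Groth.Agent.S4648
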