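import Groth.Statements.S4652
import Groth.Agent.Lib.Helper13.LocFree4

set_option autoImplicit false
open CategoryTheory AlgebraicGeometry
universe u
open FDesc

namespace Groth.Agent.S4652

open Groth.Agent.Helper13.LocFree Groth.Agent.Helper13.FinType

/-- Let X be a scheme, F a finitely presented O_X-module and x a point of X. Then F_x is a flat module
over the local ring O_{X,x} if and only if x has an open neighbourhood U such that the restriction
of F to U is finite locally free. -/
theorem result {X : Scheme.{u}} (F : X.Modules) (hF : CohB1.IsFP F) (x : X) :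
    FlatMod.IsFlatAt F x ↔ ∃ U : X.Opens, x ∈ U ∧ FlatMod.IsFinLocFree ((Scheme.Modules.pullback U.ι).obj F) := by
  haveI : SheafOfModules.IsFinitePresentation (R := X.ringCatSheaf) F := hF
  haveI : F.IsQuasicoherent := inferInstanceAs (SheafOfModules.IsQuasicoherent (R := X.ringCatSheaf) F)
  constructor
  · intro h
    haveI : Module.Finite (X.presheaf.stalk x) (F.presheaf.stalk x) := finite_stalk_of_isFiniteType F x
    haveI : Module.Flat (X.presheaf.stalk x) (F.presheaf.stalk x) := h
    haveI : Module.Free (X.presheaf.stalk x) (F.presheaf.stalk x) := Module.free_of_flat_of_isLocalRing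
    obtain ⟨_, ⟨U, hU, rfl⟩, hxU, -⟩ :=
      X.isBasis_affineOpens.exists_subset_of_mem_open (Set.mem_univ x) isOpen_univ
    haveI := finitePresentation_sections_of_isFinitePresentation F hU
    obtain ⟨r, hxr, n, ⟨b⟩⟩ := exists_basicOpen_basis F hU ⟨x, hxU⟩
    refine ⟨X.basicOpen r, hxr, ?_⟩
    obtain ⟨e⟩ := restrict_iso_freeMod_of_basis F (hU.basicOpen r) b
    have e' : FlatMod.freeMod (↑(X.basicOpen r)) n ≅
        (Scheme.Modules.pullback (X.basicOpen r).ι).obj F :=
      e.symm ≪≫ (Scheme.Modules.restrictFunctorIsoPullback (X.basicOpen r).ι).app F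
    exact isFinLocFree_of_iso e' (isFinLocFree_freeMod n)
  · rintro ⟨U, hxU, h⟩
    have h' : FlatMod.IsFinLocFree (F.restrict U.ι) :=
      isFinLocFree_of_iso ((Scheme.Modules.restrictFunctorIsoPullback U.ι).app F).symm h
    haveI := free_stalk_of_isFinLocFree_restrict F U h' x hxU
    exact Module.Flat.of_free

end Groth.Agent.S4652
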