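import Groth.Statements.S4654
import Groth.Agent.Lib.Helper13.FlatExactH3
import Groth.Agent.Lib.Helper13.EpiStalk

set_option autoImplicit false
open CategoryTheory AlgebraicGeometry
universe u
open FDesc

namespace Groth.Agent.S4654

open Groth.Agent.Helper13.QCoh Groth.Agent.Helper13.FinType

/-- the stalk map as a linear map over the local ring of the base. -/
noncomputable def stalkLin {X Y : Scheme.{u}} (f : X ⟶ Y) {F G : X.Modules} (φ : F ⟶ G) (x : X) :
    letI := Module.compHom (F.presheaf.stalk x) (f.stalkMap x).hom
    letI := Module.compHom (G.presheaf.stalk x) (f.stalkMap x).hom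
    F.presheaf.stalk x →ₗ[Y.presheaf.stalk (f x)] G.presheaf.stalk x :=
  letI := Module.compHom (F.presheaf.stalk x) (f.stalkMap x).hom
  letI := Module.compHom (G.presheaf.stalk x) (f.stalkMap x).hom
  { toFun := stalkMap φ x
    map_add' := fun a b => map_add _ a b
    map_smul' := fun r m => stalkMap_smul φ x ((f.stalkMap x).hom r) m }

/-- Let f : X → Y be a morphism of schemes and 0 → F' → F → F'' → 0 a short exact sequence of
quasi-coherent O_X-modules such that F'' is flat over Y. Then F is flat over Y if and only if F' is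
flat over Y. -/
theorem result {X Y : Scheme.{u}} (f : X ⟶ Y) (S : ShortComplex X.Modules)
    (hS : S.ShortExact) (h₁ : Coh.IsQCoh S.X₁) (h₂ : Coh.IsQCoh S.X₂) (h₃ : Coh.IsQCoh S.X₃)
    (hflat : FlatMod.IsFlatOver f S.X₃) :
    FlatMod.IsFlatOver f S.X₂ ↔ FlatMod.IsFlatOver f S.X₁ := by
  haveI := hS.mono_f
  haveI := hS.epi_g
  have key : ∀ x : X, FlatMod.IsFlatOverAt f S.X₂ x ↔ FlatMod.IsFlatOverAt f S.X₁ x := by
    intro x
    have h3 := hflat x
    unfold FlatMod.IsFlatOverAt at h3 ⊢
    letI := Module.compHom (S.X₁.presheaf.stalk x) (f.stalkMap x).hom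
    letI := Module.compHom (S.X₂.presheaf.stalk x) (f.stalkMap x).hom
    letI := Module.compHom (S.X₃.presheaf.stalk x) (f.stalkMap x).hom
    have hi : Function.Injective (stalkLin f S.f x) := (mono_iff_stalk_injective S.f).1 inferInstance x
    have hπ : Function.Surjective (stalkLin f S.g x) := stalkMap_surjective_of_epi S.g x
    have hex : Function.Exact (stalkLin f S.f x) (stalkLin f S.g x) := by
      intro m
      constructor
      · intro hm
        exact stalk_exact_of_exact_of_mono S hS.exact x m hm
      · rintro ⟨m₁, rfl⟩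
        change stalkMap S.g x (stalkMap S.f x m₁) = 0
        rw [← ConcreteCategory.comp_apply]
        have h0 : S.f.mapPresheaf ≫ S.g.mapPresheaf = 0 := by
          change (Scheme.Modules.toPresheaf X).map S.f ≫ (Scheme.Modules.toPresheaf X).map S.g = 0
          rw [← Functor.map_comp, S.zero]
          rfl
        have h1 : stalkMap S.f x ≫ stalkMap S.g x = 0 := by
          change (TopCat.Presheaf.stalkFunctor Ab.{u} x).map S.f.mapPresheaf ≫
            (TopCat.Presheaf.stalkFunctor Ab.{u} x).map S.g.mapPresheaf = 0
          rw [← Functor.map_comp, h0, Functor.map_zero]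
        rw [h1]
        rfl
    constructor
    · intro h2
      exact Groth.Agent.Helper13.H3.flat_of_exact_left _ _ hi hπ hex
    · intro h1
      exact Groth.Agent.Helper13.H3.flat_of_exact_mid _ _ hi hπ hex
  exact ⟨fun h x => (key x).1 (h x), fun h x => (key x).2 (h x)⟩

end Groth.Agent.S4654
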