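import Groth.Statements.S9350
import Groth.Agent.Lib.Helper13.PullbackStalk
import Groth.Agent.Lib.Helper13.FlatTensor

set_option autoImplicit false
universe u
open FlatMod

namespace Groth.Agent.S9350

open AlgebraicGeometry CategoryTheory in

open AlgebraicGeometry CategoryTheory in
/-- Let h : X → Y be a morphism of S-schemes, q : Y → S, G a quasi-coherent O_Y-module and x ∈ X with h
flat at x. Flatness of G over S at h x is equivalent to flatness of h^*G over S at x. -/
theorem result {X Y S : Scheme.{u}} (h : X ⟶ Y) (q : Y ⟶ S)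
    (G : Y.Modules) (hG : Coh.IsQCoh G) (x : X) (hflat : (h.stalkMap x).hom.Flat) :
    FlatMod.IsFlatOverAt q G (h.base x) ↔ FlatMod.IsFlatOverAt (h ≫ q) ((Scheme.Modules.pullback h).obj G) x := by
  haveI : G.IsQuasicoherent := hG
  unfold FlatMod.IsFlatOverAt
  letI algCA : Algebra (S.presheaf.stalk (q (h x))) (Y.presheaf.stalk (h x)) :=
    (q.stalkMap (h x)).hom.toAlgebra
  letI algAB : Algebra (Y.presheaf.stalk (h x)) (X.presheaf.stalk x) :=
    (h.stalkMap x).hom.toAlgebra
  letI algCB : Algebra (S.presheaf.stalk (q (h x))) (X.presheaf.stalk x) :=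
    ((h ≫ q).stalkMap x).hom.toAlgebra
  haveI : IsScalarTower (S.presheaf.stalk (q (h x))) (Y.presheaf.stalk (h x)) (X.presheaf.stalk x) := by
    refine IsScalarTower.of_algebraMap_eq (fun r => ?_)
    change ((h ≫ q).stalkMap x).hom r = (h.stalkMap x).hom ((q.stalkMap (h x)).hom r)
    rw [Scheme.Hom.stalkMap_comp]
    rfl
  haveI : IsLocalHom (algebraMap (Y.presheaf.stalk (h x)) (X.presheaf.stalk x)) := by
    change IsLocalHom (h.stalkMap x).hom
    infer_instance
  haveI : Module.Flat (Y.presheaf.stalk (h x)) (X.presheaf.stalk x) := hflat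
  haveI : Module.FaithfullyFlat (Y.presheaf.stalk (h x)) (X.presheaf.stalk x) :=
    Module.FaithfullyFlat.of_flat_of_isLocalHom
  obtain ⟨e⟩ := Groth.Agent.Helper13.Pullback.exists_stalk_pullback_equiv h G x
  letI modCM : Module (S.presheaf.stalk (q (h x))) (G.presheaf.stalk (h x)) :=
    Module.compHom (G.presheaf.stalk (h x)) (q.stalkMap (h x)).hom
  haveI : IsScalarTower (S.presheaf.stalk (q (h x))) (Y.presheaf.stalk (h x))
      (G.presheaf.stalk (h x)) := IsScalarTower.of_algebraMap_smul (fun _ _ => rfl)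
  letI modCN : Module (S.presheaf.stalk (q (h x)))
      (((Scheme.Modules.pullback h).obj G).presheaf.stalk x) :=
    Module.compHom (((Scheme.Modules.pullback h).obj G).presheaf.stalk x) ((h ≫ q).stalkMap x).hom
  haveI : IsScalarTower (S.presheaf.stalk (q (h x))) (X.presheaf.stalk x)
      (((Scheme.Modules.pullback h).obj G).presheaf.stalk x) :=
    IsScalarTower.of_algebraMap_smul (fun _ _ => rfl)
  have h1 := Groth.Agent.Helper13.Pullback.flat_tensor_iff_of_faithfullyFlat
    (C := S.presheaf.stalk (q (h x))) (A := Y.presheaf.stalk (h x)) (B := X.presheaf.stalk x)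
    (M := G.presheaf.stalk (h x))
  have h2 := Module.Flat.equiv_iff (e.restrictScalars (S.presheaf.stalk (q (h x))))
  exact h1.symm.trans h2.symm

end Groth.Agent.S9350
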