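import Groth.Statements.S4657
import Mathlib
import Groth.Agent.Lib.Helper6.RedModOpenA
import Groth.Agent.S4636

set_option autoImplicit false
open CategoryTheory AlgebraicGeometry
universe u
open AssSch

namespace Groth.Agent.S4657

/-- Let X be a locally Noetherian scheme, U an open subset of X and F a coherent O_X-module such that U
∩ Supp F is dense in Supp F. Then F is a reduced module if and only if its restriction to U is a
reduced module and F has no embedded associated points. -/
theorem result {X : Scheme.{u}} [IsLocallyNoetherian X] (U : X.Opens) (F : X.Modules)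
    (hF : Coh.IsCoh F) (hdense : CohB1.support F ⊆ closure ((U : Set ↥X) ∩ CohB1.support F)) :
    AssSch.IsReducedMod F ↔ AssSch.IsReducedMod ((Scheme.Modules.pullback U.ι).obj F) ∧ AssSch.NoEmbedded F := by
  haveI : F.IsQuasicoherent := hF.1
  constructor
  · rintro ⟨hne, hlen⟩
    refine ⟨⟨?_, ?_⟩, hne⟩
    · intro x' hx' y' hy' hspec
      have h1 := hne (U.ι x') ((Groth.Agent.Helper6.RedModOpen.mem_ass_restrict_iff U F x').1 hx')
        (U.ι y') ((Groth.Agent.Helper6.RedModOpen.mem_ass_restrict_iff U F y').1 hy')
        (hspec.map U.ι.continuous)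
      exact U.ι.isOpenEmbedding.injective h1
    · intro x' hx'
      rw [Groth.Agent.Helper6.RedModOpen.length_stalk_restrict U F x']
      exact hlen _ ((Groth.Agent.Helper6.RedModOpen.mem_ass_restrict_iff U F x').1 hx')
  · rintro ⟨⟨hneG, hlenG⟩, hne⟩
    refine ⟨hne, ?_⟩
    intro x hx
    have hxU : x ∈ U := by
      have h46 := (Groth.Agent.S4636.result F hF x).1
        ⟨hx, fun y hy hyx => (hne x hx y hy hyx).symm⟩
      have hxS : x ∈ CohB1.support F := by
        change ¬ Subsingleton _
        rw [not_subsingleton_iff_nontrivial]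
        exact h46.1
      refine Groth.Agent.Helper6.RedModOpen.mem_of_maximal_of_dense U (CohB1.support F)
        (Groth.Agent.Helper6.RedModOpen.isClosed_support' F hF) x (hdense hxS) ?_
      intro y hy hyx
      exact h46.2 y (not_subsingleton_iff_nontrivial.1 hy) hyx
    obtain ⟨x', rfl⟩ : x ∈ Set.range U.ι := by
      rw [Scheme.Opens.range_ι]
      exact hxU
    rw [← Groth.Agent.Helper6.RedModOpen.length_stalk_restrict U F x']
    exact hlenG x' ((Groth.Agent.Helper6.RedModOpen.mem_ass_restrict_iff U F x').2 hx)

end Groth.Agent.S4657
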