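import Groth.Statements.S4662
import Mathlib
import Groth.Agent.Lib.Helper14.FieldBCComp
import Groth.Agent.Lib.Helper14.ResFieldBridge
-- import your own Groth.Agent.* helpers here

set_option autoImplicit false
open CategoryTheory AlgebraicGeometry
universe u
open FBase

namespace Groth.Agent.S4662

open AlgebraicGeometry CategoryTheory Limits Groth.Agent.Helper14

theorem dim_integral {k : Type u} [Field k] {X : Scheme.{u}}
    (f : X ⟶ Spec (CommRingCat.of k)) [IsIntegral X] [LocallyOfFiniteType f] (a : ℕ)
    (ha : @Algebra.trdeg ((Spec (CommRingCat.of k)).residueField (f (genericPoint X)))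
      (X.residueField (genericPoint X)) _ _
      (f.residueFieldMap (genericPoint X)).hom.toAlgebra = a) :
    topologicalKrullDim ↥X = (a : WithBot ℕ∞) := by
  have h := FieldBCComp.dim_eq_of_isGenericPoint k f Set.univ (genericPoint X)
    (genericPoint_spec X)
  rw [DimClosure.trdegFun_eq f _ a ha] at h
  rw [← IsHomeomorph.topologicalKrullDim_eq _ (Homeomorph.Set.univ ↥X).isHomeomorph, h]
  rfl

open CategoryTheory.Limits in
/-- Let X and Y be integral schemes locally of finite type over a field k. Then every irreducible
component of X ×_k Y has dimension dim X + dim Y (Krull dimensions of the underlying spaces, valued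
in WithBot ℕ∞). -/
theorem result {k : Type u} [Field k] {X Y : Scheme.{u}}
    (f : X ⟶ Spec (CommRingCat.of k)) (g : Y ⟶ Spec (CommRingCat.of k)) [IsIntegral X] [IsIntegral Y]
    [LocallyOfFiniteType f] [LocallyOfFiniteType g] (Z : Set ↥(pullback f g))
    (hZ : Z ∈ irreducibleComponents ↥(pullback f g)) :
    topologicalKrullDim ↥Z = topologicalKrullDim ↥X + topologicalKrullDim ↥Y := by
  classical
  have hsq : IsPullback (pullback.fst f g) (pullback.snd f g) f g := IsPullback.of_hasPullback f g
  haveI : LocallyOfFiniteType (pullback.snd f g) := MorphismProperty.pullback_snd _ _ inferInstance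
  haveI : LocallyOfFiniteType (pullback.snd f g ≫ g) := inferInstance
  haveI : Subsingleton ↥(Spec (CommRingCat.of k)) :=
    inferInstanceAs (Subsingleton (PrimeSpectrum k))
  obtain ⟨z, hz, hmax⟩ := FieldBCComp.exists_maximal_of_mem_irreducibleComponents Z hZ
  have hfst : pullback.fst f g z = genericPoint X := by
    obtain ⟨z', hz', hgz', -⟩ := FibreBC.exists_generization_lift hsq z (genericPoint X)
      (genericPoint_specializes _) (Subsingleton.elim _ _)
    rw [← hgz', hmax z' hz']
  have hsnd : pullback.snd f g z = genericPoint Y := by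
    obtain ⟨z', hz', hgz', -⟩ := FibreBC.exists_generization_lift hsq.flip z (genericPoint Y)
      (genericPoint_specializes _) (Subsingleton.elim _ _)
    rw [← hgz', hmax z' hz']
  obtain ⟨a, ha⟩ := ResFieldBridge.exists_nat_trdeg_residueField f (genericPoint X)
  obtain ⟨b, hb⟩ := ResFieldBridge.exists_nat_trdeg_residueField g (genericPoint Y)
  have h1 := PtTrdegMax.trdeg_eq_of_maximal hsq z (fun z' hz' _ _ => hmax z' hz')
  rw [FibreBC.trdeg_point_congr f hfst, ha] at h1
  have h2 := DimClosure.trdeg_comp (pullback.snd f g) g z
  rw [h1, FibreBC.trdeg_point_congr g hsnd, hb] at h2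
  have h3 : @Algebra.trdeg ((Spec (CommRingCat.of k)).residueField ((pullback.snd f g ≫ g) z))
      ((pullback f g).residueField z) _ _
      ((pullback.snd f g ≫ g).residueFieldMap z).hom.toAlgebra = ((b + a : ℕ) : Cardinal) := by
    rw [h2]; push_cast; rfl
  rw [FieldBCComp.dim_eq_of_isGenericPoint k (pullback.snd f g ≫ g) Z z hz,
    DimClosure.trdegFun_eq _ z (b + a) h3, dim_integral f a ha, dim_integral g b hb]
  simp only [Int.toNat_natCast]
  push_cast
  exact add_comm _ _

end Groth.Agent.S4662
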