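import Groth.Statements.S4663
import Mathlib
import Groth.Agent.Lib.Helper14.FieldBCComp
-- import your own Groth.Agent.* helpers here

set_option autoImplicit false
open CategoryTheory AlgebraicGeometry
universe u
open FBase

namespace Groth.Agent.S4663

open AlgebraicGeometry CategoryTheory Limits Groth.Agent.Helper14

/-- Let X be a scheme locally of finite type over a field k, K an extension field of k, and Z an
irreducible closed subset of X. Then every irreducible component of the inverse image of Z in X ⊗_k
K has the same dimension as Z (Krull dimensions of the underlying topological spaces, valued in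
WithBot ℕ∞). (In the published statement Z is a cycle associated to a quasi-coherent O_X-module,
with its reduced subscheme structure, and the components are those of Z ⊗_k K; such cycles are
exactly the irreducible closed subsets of X, and Z ⊗_k K has the inverse image of Z as underlying
space.) -/
theorem result {k K : Type u} [Field k] [Field K] [Algebra k K]
    {X : Scheme.{u}} (f : X ⟶ Spec (CommRingCat.of k)) [LocallyOfFiniteType f]
    (Z : Set ↥X) (hZc : IsClosed Z) (hZi : IsIrreducible Z)
    (W : Set ↥(⇑(FBase.bcπ f K) ⁻¹' Z)) (hW : W ∈ irreducibleComponents ↥(⇑(FBase.bcπ f K) ⁻¹' Z)) :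
    topologicalKrullDim ↥W = topologicalKrullDim ↥Z := by
  classical
  have hEc : IsClosed (⇑(FBase.bcπ f K) ⁻¹' Z) := hZc.preimage (FBase.bcπ f K).continuous
  haveI : QuasiSober ↥(⇑(FBase.bcπ f K) ⁻¹' Z) := hEc.isClosedEmbedding_subtypeVal.quasiSober
  obtain ⟨w₀, hw₀, hmax₀⟩ := FieldBCComp.exists_maximal_of_mem_irreducibleComponents W hW
  obtain ⟨ζ, hζ⟩ := QuasiSober.sober hZi hZc
  have hsq : IsPullback (FBase.bcπ f K) (FBase.bcStr f K) f
      (Spec.map (CommRingCat.ofHom (algebraMap k K))) := IsPullback.of_hasPullback f _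
  haveI : LocallyOfFiniteType (FBase.bcStr f K) := MorphismProperty.pullback_snd _ _ inferInstance
  have hmax : ∀ z' : ↥(FBase.bc f K), z' ⤳ w₀.1 → (FBase.bcπ f K) z' ∈ Z → z' = w₀.1 := by
    intro z' hz' hzZ
    have := hmax₀ ⟨z', hzZ⟩ (by rw [subtype_specializes_iff]; exact hz')
    exact congrArg Subtype.val this
  haveI : Subsingleton ↥(Spec (CommRingCat.of k)) :=
    inferInstanceAs (Subsingleton (PrimeSpectrum k))
  have hπ : (FBase.bcπ f K) w₀.1 = ζ :=
    FieldBCComp.map_eq_of_maximal hsq Z ζ hζ (fun x _ => Subsingleton.elim _ _) w₀.1 w₀.2 hmax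
  have htr := PtTrdegMax.trdeg_eq_of_maximal hsq w₀.1
    (fun z' hz' hg _ => hmax z' hz' (by rw [hg]; exact w₀.2))
  have hW' : IsGenericPoint w₀.1 (Subtype.val '' W) := by
    rw [IsGenericPoint, ← hw₀.def, ← hEc.isClosedEmbedding_subtypeVal.closure_image_eq,
      Set.image_singleton]
  rw [← SectionComp.topDim_image Subtype.val Topology.IsEmbedding.subtypeVal W,
    FieldBCComp.dim_eq_of_isGenericPoint K (FBase.bcStr f K) _ w₀.1 hW',
    FieldBCComp.dim_eq_of_isGenericPoint k f Z ζ hζ]
  unfold DimClosure.trdegFun
  rw [htr, FibreBC.trdeg_point_congr f hπ]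

end Groth.Agent.S4663
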