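import Groth.Statements.S4874
-- import your own Groth.Agent.* helpers here

set_option autoImplicit false
universe u
open CategoryTheory AlgebraicGeometry
open EGA43

namespace Groth.Agent.S4874

section
open AlgebraicGeometry CategoryTheory

/-- sections inject along a flat surjective morphism -/
lemma app_injective_of_flat_surjective {X X' : Scheme.{u}} (g : X' ⟶ X) [Flat g] [Surjective g]
    (V : X.Opens) : Function.Injective (g.app V) := by
  rw [injective_iff_map_eq_zero]
  intro t ht
  apply TopCat.Presheaf.section_ext X.sheaf V t 0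
  intro x hx
  obtain ⟨x', rfl⟩ := g.surjective x
  have hinj : Function.Injective (g.stalkMap x') := by
    algebraize [(g.stalkMap x').hom]
    have : Module.FaithfullyFlat (X.presheaf.stalk (g x')) (X'.presheaf.stalk x') :=
      @Module.FaithfullyFlat.of_flat_of_isLocalHom _ _ _ _ _ _ _
        (Flat.stalkMap g x') (g.toLRSHom.prop x')
    exact ‹RingHom.FaithfullyFlat _›.injective
  apply hinj
  have h1 := Scheme.Hom.germ_stalkMap_apply g V x' hx t
  have h2 := Scheme.Hom.germ_stalkMap_apply g V x' hx 0
  erw [h1, h2, ht]
  simp

theorem aux {X X' : Scheme.{u}} {ι : Type u} (Z : ι → Scheme.{u})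
    (f : ∀ i, Z i ⟶ X) (g : X' ⟶ X) [Flat g] [Surjective g]
    (h : (∀ (V : (X').Opens) (t : Γ(X', V)), (∀ i, (Limits.pullback.snd (f i) g).app V t = 0) → t = 0)) :
    (∀ (V : (X).Opens) (t : Γ(X, V)), (∀ i, (f i).app V t = 0) → t = 0) := by
  intro V t ht
  apply app_injective_of_flat_surjective g V
  rw [map_zero]
  apply h
  intro i
  have key : g.app V ≫ (Limits.pullback.snd (f i) g).app (g ⁻¹ᵁ V) =
      (f i).app V ≫ (Limits.pullback.fst (f i) g).app _ ≫
        (Limits.pullback (f i) g).presheaf.map (eqToHom (by
          rw [← Scheme.Hom.comp_preimage, ← Scheme.Hom.comp_preimage,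
            Limits.pullback.condition])).op := by
    rw [← Scheme.Hom.comp_app, Scheme.Hom.congr_app
      (Limits.pullback.condition (f := f i) (g := g)).symm V]
    exact Category.assoc _ _ _
  have h2 := ConcreteCategory.congr_hom key t
  rw [CommRingCat.comp_apply, CommRingCat.comp_apply] at h2
  rw [h2, ht i, map_zero]
end

/-- Let (f_i : Z_i ⟶ X) be a family of morphisms, g : X' ⟶ X a faithfully flat morphism and f'_i : Z_i
×_X X' ⟶ X' the base changes. If the family (f'_i) is schematically dominant, then so is the family
(f_i). (Schematically dominant: a section of the structure sheaf over an open whose pullback along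
every member of the family vanishes is zero.) -/
theorem result {X X' : Scheme.{u}} {ι : Type u} (Z : ι → Scheme.{u})
    (f : ∀ i, Z i ⟶ X) (g : X' ⟶ X) [Flat g] [Surjective g]
    (h : (∀ (V : (X').Opens) (t : Γ(X', V)), (∀ i, (Limits.pullback.snd (f i) g).app V t = 0) → t = 0)) :
    (∀ (V : (X).Opens) (t : Γ(X, V)), (∀ i, (f i).app V t = 0) → t = 0) := by
  exact aux Z f g h

end Groth.Agent.S4874
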