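import Groth.Statements.S4667
import Mathlib.AlgebraicGeometry.Morphisms.SchemeTheoreticallyDominant
-- import your own Groth.Agent.* helpers here

set_option autoImplicit false
open CategoryTheory AlgebraicGeometry
universe u
open FDesc

namespace Groth.Agent.S4667

section
open AlgebraicGeometry CategoryTheory CategoryTheory.Limits

lemma toImage_dominant {X Y : Scheme.{u}} (f : X ⟶ Y) [QuasiCompact f] :
    IsSchemeTheoreticallyDominant f.toImage := by
  constructor
  rw [eq_bot_iff]
  refine Scheme.IdealSheafData.le_of_iSup_eq_top
    (fun U : Y.affineOpens => (⟨f.imageι ⁻¹ᵁ U.1, U.2.preimage f.imageι⟩ : f.image.affineOpens))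
    ?_ ?_
  · rw [eq_top_iff]
    intro x _
    obtain ⟨_, ⟨U, hU, rfl⟩, hxU, -⟩ :=
      Y.isBasis_affineOpens.exists_subset_of_mem_open (Set.mem_univ (f.imageι x)) isOpen_univ
    exact TopologicalSpace.Opens.mem_iSup.2 ⟨⟨U, hU⟩, hxU⟩
  · intro U
    refine (Scheme.Hom.ideal_ker_le f.toImage _).trans ?_
    rw [(RingHom.injective_iff_ker_eq_bot _).1 (f.toImage_app_injective U)]
    simp

theorem aux {X Y Y' : Scheme.{u}} (f : X ⟶ Y) (g : Y' ⟶ Y)
    [QuasiCompact f] [Flat g] :
    (pullback.snd f g).ker = f.ker.comap g := by
  let i := f.imageι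
  let h : pullback f g ⟶ pullback i g :=
    pullback.map f g i g f.toImage (𝟙 _) (𝟙 _) (by simp [i]) (by simp)
  have hsnd : h ≫ pullback.snd i g = pullback.snd f g :=
    (pullback.lift_snd _ _ _).trans (Category.comp_id _)
  have hfst : h ≫ pullback.fst i g = pullback.fst f g ≫ f.toImage :=
    pullback.lift_fst _ _ _
  have hpb : IsPullback (pullback.fst f g) h f.toImage (pullback.fst i g) := by
    refine IsPullback.flip (IsPullback.of_right ?_ hfst (IsPullback.of_hasPullback i g).flip)
    rw [hsnd, f.toImage_imageι]
    exact (IsPullback.of_hasPullback f g).flip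
  haveI := toImage_dominant f
  haveI : IsSchemeTheoreticallyDominant h := IsSchemeTheoreticallyDominant.of_isPullback hpb
  rw [← hsnd, Scheme.Hom.ker_comp, h.ker_eq_bot, Scheme.IdealSheafData.map_bot,
    ← pullbackSymmetry_hom_comp_fst, Scheme.Hom.ker_comp_of_isIso,
    Scheme.IdealSheafData.ker_fst_of_isClosedImmersion]
  congr 1
  exact Scheme.IdealSheafData.ker_subschemeι _
end

open CategoryTheory.Limits in
/-- Let f : X → Y be a quasi-compact morphism of schemes and g : Y' → Y a flat morphism, and let f' : X
×_Y Y' → Y' be the base change of f. Then the scheme-theoretic image of f' is the inverse image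
under g of the scheme-theoretic image of f: the quasi-coherent ideal sheaf cutting out the former is
the pull-back along g of the one cutting out the latter. (One published statement is phrased for a
quasi-compact and quasi-separated S-morphism f and a flat base change S′ → S, which reduces to this
case; quasi-compactness of f suffices.) -/
theorem result {X Y Y' : Scheme.{u}} (f : X ⟶ Y) (g : Y' ⟶ Y)
    [QuasiCompact f] [Flat g] :
    (pullback.snd f g).ker = f.ker.comap g := by
  exact aux f g

end Groth.Agent.S4667
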