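import Groth.Statements.S4672
import Mathlib
import Groth.Agent.Lib.Helper14.FieldBCComp
import Groth.Agent.Lib.Helper14.FibreClosure
-- import your own Groth.Agent.* helpers here

set_option autoImplicit false
open CategoryTheory AlgebraicGeometry
universe u
open FBase

namespace Groth.Agent.S4672

open AlgebraicGeometry CategoryTheory Limits Groth.Agent.Helper14

open CategoryTheory.Limits in
/-- Let X and Y be locally Noetherian schemes over a field k such that X ×_k Y is locally Noetherian,
with projections p and q. Then a subset W of X ×_k Y is an irreducible component of X ×_k Y if and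
only if there exist an irreducible component X' of X and an irreducible component Y' of Y such that
W is a maximal irreducible subset of p⁻¹(X') ∩ q⁻¹(Y') (that is, an irreducible component of the
space underlying X' ×_k Y' for the reduced structures on X' and Y'). -/
theorem result {k : Type u} [Field k] {X Y : Scheme.{u}}
    (f : X ⟶ Spec (CommRingCat.of k)) (g : Y ⟶ Spec (CommRingCat.of k)) [IsLocallyNoetherian X]
    [IsLocallyNoetherian Y] [IsLocallyNoetherian (pullback f g)] (W : Set ↥(pullback f g)) :
    W ∈ irreducibleComponents ↥(pullback f g) ↔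
      ∃ X' ∈ irreducibleComponents ↥X, ∃ Y' ∈ irreducibleComponents ↥Y,
        Maximal (fun V : Set ↥(pullback f g) => IsIrreducible V ∧ V ⊆ ⇑(pullback.fst f g) ⁻¹' X' ∩ ⇑(pullback.snd f g) ⁻¹' Y') W := by
  classical
  have hsq : IsPullback (pullback.fst f g) (pullback.snd f g) f g := IsPullback.of_hasPullback f g
  haveI : Subsingleton ↥(Spec (CommRingCat.of k)) :=
    inferInstanceAs (Subsingleton (PrimeSpectrum k))
  constructor
  · intro hW
    obtain ⟨z, hz, hmax⟩ := FieldBCComp.exists_maximal_of_mem_irreducibleComponents W hW
    have hξ : ∀ ξ' : X, ξ' ⤳ pullback.fst f g z → ξ' = pullback.fst f g z := by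
      intro ξ' hξ'
      obtain ⟨z', hz', hgz', -⟩ := FibreBC.exists_generization_lift hsq z ξ' hξ'
        (Subsingleton.elim _ _)
      rw [← hgz', hmax z' hz']
    have hη : ∀ η' : Y, η' ⤳ pullback.snd f g z → η' = pullback.snd f g z := by
      intro η' hη'
      obtain ⟨z', hz', hgz', -⟩ := FibreBC.exists_generization_lift hsq.flip z η' hη'
        (Subsingleton.elim _ _)
      rw [← hgz', hmax z' hz']
    refine ⟨closure {pullback.fst f g z},
      FibreClosure.closure_mem_irreducibleComponents_of_maximal _ hξ,
      closure {pullback.snd f g z},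
      FibreClosure.closure_mem_irreducibleComponents_of_maximal _ hη, ⟨hW.1, ?_⟩, ?_⟩
    · rw [← hz.def]
      refine closure_minimal ?_ ((isClosed_closure.preimage (pullback.fst f g).continuous).inter
        (isClosed_closure.preimage (pullback.snd f g).continuous))
      rintro _ rfl
      exact ⟨subset_closure rfl, subset_closure rfl⟩
    · intro V hV hWV
      exact hW.2 hV.1 hWV
  · rintro ⟨X', hX', Y', hY', hWm⟩
    obtain ⟨ξ, hξ, hξmax⟩ := FieldBCComp.exists_maximal_of_mem_irreducibleComponents X' hX'
    obtain ⟨η, hη, hηmax⟩ := FieldBCComp.exists_maximal_of_mem_irreducibleComponents Y' hY'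
    have hX'c : IsClosed X' := isClosed_of_mem_irreducibleComponents X' hX'
    have hY'c : IsClosed Y' := isClosed_of_mem_irreducibleComponents Y' hY'
    have hEc : IsClosed (⇑(pullback.fst f g) ⁻¹' X' ∩ ⇑(pullback.snd f g) ⁻¹' Y') :=
      (hX'c.preimage (pullback.fst f g).continuous).inter
        (hY'c.preimage (pullback.snd f g).continuous)
    have hWc : IsClosed W := by
      have h1 : closure W ≤ W := hWm.2 ⟨hWm.1.1.closure, closure_minimal hWm.1.2 hEc⟩
        subset_closure
      exact closure_subset_iff_isClosed.mp h1
    obtain ⟨w, hw⟩ := QuasiSober.sober hWm.1.1 hWc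
    have hwE := hWm.1.2 hw.mem
    have hmaxE : ∀ z' : ↥(pullback f g), z' ⤳ w → pullback.fst f g z' ∈ X' →
        pullback.snd f g z' ∈ Y' → z' = w := by
      intro z' hz' h1 h2
      have hV : IsIrreducible (closure ({z'} : Set ↥(pullback f g))) :=
        isIrreducible_singleton.closure
      have hVE : closure ({z'} : Set ↥(pullback f g)) ⊆
          ⇑(pullback.fst f g) ⁻¹' X' ∩ ⇑(pullback.snd f g) ⁻¹' Y' :=
        closure_minimal (by rintro _ rfl; exact ⟨h1, h2⟩) hEc
      have hWV : W ≤ closure ({z'} : Set ↥(pullback f g)) := by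
        rw [← hw.def]
        exact closure_minimal (Set.singleton_subset_iff.mpr hz'.mem_closure) isClosed_closure
      have h3 := hWm.2 ⟨hV, hVE⟩ hWV
      have hzW : z' ∈ W := h3 (subset_closure rfl)
      rw [← hw.def] at hzW
      exact (((specializes_iff_mem_closure.mpr hzW).antisymm hz').symm).eq
    have hp : pullback.fst f g w = ξ :=
      FieldBCComp.map_eq_of_maximal' hsq X' ξ hξ (fun _ _ => Subsingleton.elim _ _) w hwE.1
        (fun z' hz' h1 h2 => hmaxE z' hz' h1 (by rw [h2]; exact hwE.2))
    have hq : pullback.snd f g w = η :=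
      FieldBCComp.map_eq_of_maximal' hsq.flip Y' η hη (fun _ _ => Subsingleton.elim _ _) w hwE.2
        (fun z' hz' h1 h2 => hmaxE z' hz' (by rw [h2]; exact hwE.1) h1)
    have hwmax : ∀ z : ↥(pullback f g), z ⤳ w → z = w := by
      intro z hz
      have h1 : pullback.fst f g z = ξ := by
        apply hξmax
        rw [← hp]
        exact hz.map (pullback.fst f g).continuous
      have h2 : pullback.snd f g z = η := by
        apply hηmax
        rw [← hq]
        exact hz.map (pullback.snd f g).continuous
      exact hmaxE z hz (by rw [h1]; exact hξ.mem) (by rw [h2]; exact hη.mem)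
    rw [← hw.def]
    exact FibreClosure.closure_mem_irreducibleComponents_of_maximal w hwmax

end Groth.Agent.S4672
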