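import Groth.Statements.S4673
import Mathlib
import Groth.Agent.Lib.Helper14.FieldBCComp
import Groth.Agent.Lib.Helper14.FibreClosure
-- import your own Groth.Agent.* helpers here

set_option autoImplicit false
open CategoryTheory AlgebraicGeometry
universe u
open FBase

namespace Groth.Agent.S4673

open AlgebraicGeometry CategoryTheory Limits Groth.Agent.Helper14

/-- Let X be a scheme locally of finite type over a field k and K an extension field of k. Then the set
of dimensions of the irreducible components of X ⊗_k K is equal to the set of dimensions of the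
irreducible components of X (Krull dimensions of the underlying spaces, valued in WithBot ℕ∞). -/
theorem result {k K : Type u} [Field k] [Field K] [Algebra k K]
    {X : Scheme.{u}} (f : X ⟶ Spec (CommRingCat.of k)) [LocallyOfFiniteType f] :
    (fun Z : Set ↥(FBase.bc f K) => topologicalKrullDim ↥Z) '' irreducibleComponents ↥(FBase.bc f K) =
      (fun Z : Set ↥X => topologicalKrullDim ↥Z) '' irreducibleComponents ↥X := by
  classical
  ext d
  simp only [Set.mem_image]
  constructor
  · rintro ⟨W, hW, rfl⟩
    obtain ⟨w, hw, hmax⟩ := FieldBCComp.exists_maximal_of_mem_irreducibleComponents W hW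
    obtain ⟨hmaxπ, htr⟩ := FieldBCComp.maximal_map f w hmax
    refine ⟨closure {(FBase.bcπ f K) w},
      FibreClosure.closure_mem_irreducibleComponents_of_maximal _ hmaxπ, ?_⟩
    rw [FieldBCComp.dim_eq_of_isGenericPoint K (FBase.bcStr f K) W w hw,
      FieldBCComp.dim_eq_of_isGenericPoint k f _ ((FBase.bcπ f K) w) isGenericPoint_closure, htr]
  · rintro ⟨Z, hZ, rfl⟩
    obtain ⟨ζ, hζ, hmaxζ⟩ := FieldBCComp.exists_maximal_of_mem_irreducibleComponents Z hZ
    obtain ⟨w₁, hw₁⟩ := FieldBCComp.bcπ_surjective (K := K) f ζ
    refine ⟨irreducibleComponent w₁, irreducibleComponent_mem_irreducibleComponents w₁, ?_⟩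
    obtain ⟨w, hw, hmax⟩ := FieldBCComp.exists_maximal_of_mem_irreducibleComponents
      (irreducibleComponent w₁) (irreducibleComponent_mem_irreducibleComponents w₁)
    obtain ⟨hmaxπ, htr⟩ := FieldBCComp.maximal_map f w hmax
    have hsp : w ⤳ w₁ := hw.specializes mem_irreducibleComponent
    have hπ : (FBase.bcπ f K) w = ζ := by
      have h1 : (FBase.bcπ f K) w ⤳ (FBase.bcπ f K) w₁ := hsp.map (FBase.bcπ f K).continuous
      rw [hw₁] at h1
      exact hmaxζ _ h1
    rw [FieldBCComp.dim_eq_of_isGenericPoint K (FBase.bcStr f K) _ w hw,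
      FieldBCComp.dim_eq_of_isGenericPoint k f Z ζ hζ, htr, hπ]

end Groth.Agent.S4673
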