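import Groth.Statements.S4674
import Mathlib

set_option autoImplicit false
open scoped TensorProduct
universe u v w
open FDesc

namespace Groth.Agent.S4674

/-- Let B be a flat A-algebra and M a finitely presented A-module. Then the annihilator of the B-module
B ⊗_A M is the ideal of B generated by the image of the annihilator of M. -/
theorem result {A : Type u} {B : Type v} [CommRing A] [CommRing B] [Algebra A B]
    [Module.Flat A B] (M : Type w) [AddCommGroup M] [Module A M] [Module.FinitePresentation A M] :
    Module.annihilator B (B ⊗[A] M) = (Module.annihilator A M).map (algebraMap A B) := by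
  classical
  apply le_antisymm
  · intro b hb
    obtain ⟨n, s, hs⟩ := Module.Finite.exists_fin (R := A) (M := M)
    let φ : A →ₗ[A] (Fin n → M) := LinearMap.pi (fun i => LinearMap.toSpanSingleton A M (s i))
    have hker : LinearMap.ker φ = (Module.annihilator A M).restrictScalars A := by
      ext a
      simp only [LinearMap.mem_ker, Submodule.restrictScalars_mem, Module.mem_annihilator]
      constructor
      · intro h m
        have hm : m ∈ Submodule.span A (Set.range s) := by rw [hs]; trivial
        induction hm using Submodule.span_induction with
        | mem x hx =>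
          obtain ⟨i, rfl⟩ := hx
          have := congrFun h i
          simpa [φ] using this
        | zero => simp
        | add x y _ _ hx hy => rw [smul_add, hx, hy, add_zero]
        | smul c x _ hx => rw [smul_comm, hx, smul_zero]
      · intro h
        ext i
        simp [φ, h (s i)]
    have hex : Function.Exact (LinearMap.ker φ).subtype φ := LinearMap.exact_subtype_ker_map φ
    have hex' := Module.Flat.lTensor_exact B hex
    have hb1 : (φ.lTensor B) (b ⊗ₜ[A] (1 : A)) = 0 := by
      apply (TensorProduct.piRight A A B (fun _ : Fin n => M)).injective
      rw [map_zero, LinearMap.lTensor_tmul, TensorProduct.piRight_apply, TensorProduct.piRightHom_tmul]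
      ext i
      have hbi : b • ((1 : B) ⊗ₜ[A] (s i)) = 0 := Module.mem_annihilator.mp hb _
      simpa [φ, TensorProduct.smul_tmul'] using hbi
    obtain ⟨t, ht⟩ := (hex' _).mp hb1
    -- apply the multiplication map B ⊗ A → B
    let μ : B ⊗[A] A →ₗ[A] B := (TensorProduct.rid A B).toLinearMap
    have hμ : μ (b ⊗ₜ[A] (1 : A)) = b := by simp [μ]
    have key : ∀ t : B ⊗[A] (LinearMap.ker φ),
        μ ((LinearMap.lTensor B (LinearMap.ker φ).subtype) t) ∈
          (Module.annihilator A M).map (algebraMap A B) := by
      intro t
      induction t using TensorProduct.induction_on with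
      | zero => simp
      | tmul x y =>
        have hy : (y : A) ∈ Module.annihilator A M := by
          have h1 : (y : A) ∈ LinearMap.ker φ := y.2
          have h2 := (SetLike.ext_iff.mp hker (y : A)).mp h1
          exact h2
        simp only [LinearMap.lTensor_tmul, Submodule.subtype_apply, μ, LinearEquiv.coe_coe,
          TensorProduct.rid_tmul]
        rw [Algebra.smul_def]
        exact Ideal.mul_mem_right _ _ (Ideal.mem_map_of_mem _ hy)
      | add x y hx hy =>
        rw [map_add, map_add]
        exact Ideal.add_mem _ hx hy
    rw [← hμ, ← ht]
    exact key t
  · rw [Ideal.map_le_iff_le_comap]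
    intro a ha
    rw [Ideal.mem_comap, Module.mem_annihilator]
    intro x
    induction x using TensorProduct.induction_on with
    | zero => simp
    | tmul b m =>
      rw [algebraMap_smul]
      have : a • (b ⊗ₜ[A] m) = b ⊗ₜ[A] (a • m) := by
        rw [TensorProduct.tmul_smul]
      rw [this, Module.mem_annihilator.mp ha m, TensorProduct.tmul_zero]
    | add x y hx hy => rw [smul_add, hx, hy, add_zero]

end Groth.Agent.S4674
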