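import Groth.Statements.S4688

set_option autoImplicit false
universe u
open EGA4

namespace Groth.Agent.S4688

open Polynomial in
/-- Let A be a Noetherian ring, p a prime ideal of A and q a prime ideal of the polynomial ring A[T]
lying over p. Then the extended ideal p A[T] has the same height as p, and if q is different from p
A[T] one has ht(q) = ht(p) + 1. (The remaining assertions of the published item, that p A[T] is
prime over p and that there are infinitely many pairwise incomparable such q, are not restated.) -/
theorem result (A : Type u) [CommRing A] [IsNoetherianRing A]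
    (p : Ideal A) [p.IsPrime] (q : Ideal A[X]) [q.IsPrime] [q.LiesOver p] :
    (p.map (Polynomial.C : A →+* A[X])).height = p.height ∧
      (q ≠ p.map (Polynomial.C : A →+* A[X]) → q.height = p.height + 1) := by
  classical
  set P₀ : Ideal A[X] := p.map (Polynomial.C : A →+* A[X]) with hP₀
  have hP₀prime : P₀.IsPrime := Ideal.isPrime_map_C_of_isPrime
  have hP₀over : P₀.comap (Polynomial.C : A →+* A[X]) = p := by
    ext x
    rw [Ideal.mem_comap, hP₀, Ideal.mem_map_C_iff]
    constructor
    · intro h
      have := h 0
      simpa using this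
    · intro hx n
      rw [Polynomial.coeff_C]
      split_ifs
      · exact hx
      · exact zero_mem _
  have hP₀lies : P₀.LiesOver p := ⟨hP₀over.symm⟩
  have hnt : Nontrivial (A[X] ⧸ P₀) := Ideal.Quotient.nontrivial_iff.2 hP₀prime.ne_top
  have hmapalg : p.map (algebraMap A A[X]) = P₀ := rfl
  constructor
  · have h1 := Ideal.height_eq_height_add_of_liesOver_of_hasGoingDown p P₀
    rw [hmapalg, Ideal.map_quotient_self, Ideal.height_bot, add_zero] at h1
    exact h1
  · intro hne
    have hle : P₀ ≤ q := by
      rw [hP₀, Ideal.map_le_iff_le_comap]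
      exact (Ideal.LiesOver.over (P := q) (p := p)).le
    have h1 := Ideal.height_eq_height_add_of_liesOver_of_hasGoingDown p q
    rw [hmapalg] at h1
    rw [h1]
    congr 1
    set Q : Ideal (A[X] ⧸ P₀) := q.map (Ideal.Quotient.mk P₀) with hQ
    have hQprime : Q.IsPrime := Ideal.map_isPrime_of_surjective Ideal.Quotient.mk_surjective
      (by rw [Ideal.mk_ker]; exact hle)
    have hQcomap : Q.comap (Ideal.Quotient.mk P₀) = q := by
      rw [hQ, Ideal.comap_map_of_surjective _ Ideal.Quotient.mk_surjective, ← RingHom.ker_eq_comap_bot,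
        Ideal.mk_ker, sup_eq_left.2 hle]
    have hdom : IsDomain (A[X] ⧸ P₀) := Ideal.Quotient.isDomain P₀
    -- lower bound
    have hQne : Q ≠ ⊥ := by
      intro h0
      apply hne
      refine le_antisymm ?_ hle
      rw [← hQcomap, h0, ← RingHom.ker_eq_comap_bot, Ideal.mk_ker]
    have hlow : 1 ≤ Q.height := by
      have hbp : (⊥ : Ideal (A[X] ⧸ P₀)).IsPrime := Ideal.isPrime_bot
      have := Ideal.height_add_one_le_of_lt_of_isPrime (bot_lt_iff_ne_bot.2 hQne)
      exact le_trans le_add_self this
    -- upper bound via the fibre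
    have hfib : Order.krullDim
        (PrimeSpectrum.comap (algebraMap A A[X]) ⁻¹' {(⟨p, inferInstance⟩ : PrimeSpectrum A)}) ≤ 1 := by
      rw [Order.krullDim_eq_of_orderIso
        (PrimeSpectrum.preimageOrderIsoFiber A A[X] ⟨p, inferInstance⟩), ← ringKrullDim,
        ← ringKrullDim_eq_of_ringEquiv (polyEquivTensor A (p.ResidueField)).toRingEquiv]
      have : Ring.KrullDimLE 1 (p.ResidueField[X]) := inferInstance
      exact (Ring.krullDimLE_iff (n := 1)).1 this
    have hup : Q.height ≤ 1 := by
      have h2 : Q.height = Order.height (⟨Q, hQprime⟩ : PrimeSpectrum (A[X] ⧸ P₀)) :=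
        PrimeSpectrum.height_eq_orderHeight ⟨Q, hQprime⟩
      have h3 := Order.height_eq_krullDim_Iic (⟨Q, hQprime⟩ : PrimeSpectrum (A[X] ⧸ P₀))
      let g : Set.Iic (⟨Q, hQprime⟩ : PrimeSpectrum (A[X] ⧸ P₀)) →
          (PrimeSpectrum.comap (algebraMap A A[X]) ⁻¹' {(⟨p, inferInstance⟩ : PrimeSpectrum A)}) :=
        fun Q₁ => ⟨PrimeSpectrum.comap (Ideal.Quotient.mk P₀) Q₁.1, by
          rw [Set.mem_preimage, Set.mem_singleton_iff]
          apply PrimeSpectrum.ext
          change Ideal.comap (algebraMap A A[X]) (Ideal.comap (Ideal.Quotient.mk P₀) Q₁.1.asIdeal) = p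
          apply le_antisymm
          · have h4 : Q₁.1.asIdeal ≤ Q := Q₁.2
            have h5 := Ideal.comap_mono (f := algebraMap A A[X])
              (Ideal.comap_mono (f := Ideal.Quotient.mk P₀) h4)
            rw [hQcomap] at h5
            exact h5.trans (Ideal.LiesOver.over (P := q) (p := p)).ge
          · have h4 : P₀ ≤ Ideal.comap (Ideal.Quotient.mk P₀) Q₁.1.asIdeal := by
              intro x hx
              rw [Ideal.mem_comap, Ideal.Quotient.eq_zero_iff_mem.2 hx]
              exact zero_mem _
            have h5 := Ideal.comap_mono (f := algebraMap A A[X]) h4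
            rw [show Ideal.comap (algebraMap A A[X]) P₀ = p from hP₀over] at h5
            exact h5⟩
      have hg : StrictMono g := by
        intro Q₁ Q₂ h
        have h' : Q₁.1.asIdeal < Q₂.1.asIdeal := h
        change Ideal.comap (Ideal.Quotient.mk P₀) Q₁.1.asIdeal <
          Ideal.comap (Ideal.Quotient.mk P₀) Q₂.1.asIdeal
        refine lt_of_le_of_ne (Ideal.comap_mono h'.le) ?_
        intro heq
        exact h'.ne (Ideal.comap_injective_of_surjective _ Ideal.Quotient.mk_surjective heq)
      have h6 := Order.krullDim_le_of_strictMono g hg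
      have h7 : (Q.height : WithBot ℕ∞) ≤ 1 := by
        rw [h2, h3]
        exact h6.trans hfib
      exact_mod_cast h7
    exact (le_antisymm hup hlow)

end Groth.Agent.S4688
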