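import Groth.Statements.S4689
import Groth.Agent.Lib.Helper14.DimFormula
-- import your own Groth.Agent.* helpers here

set_option autoImplicit false
universe u
open EGA4

namespace Groth.Agent.S4689

/-- Let A be a universally catenary Noetherian local domain and B a domain containing A which is a
finite A-algebra. Then for every maximal ideal n of B the local ring B_n has the same Krull
dimension as A. -/
theorem result (A B : Type u) [CommRing A] [IsDomain A]
    [IsNoetherianRing A] [IsLocalRing A] (hA : CAlg.IsUniversallyCatenary A) [CommRing B] [IsDomain B]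
    [Algebra A B] [FaithfulSMul A B] [Module.Finite A B] (n : Ideal B) [n.IsMaximal] :
    ringKrullDim (Localization.AtPrime n) = ringKrullDim A := by
  classical
  haveI : Algebra.IsIntegral A B := inferInstance
  let p : Ideal A := n.under A
  haveI hpmax : p.IsMaximal := Ideal.isMaximal_comap_of_isIntegral_of_isMaximal n
  have hp : p = IsLocalRing.maximalIdeal A := IsLocalRing.eq_maximalIdeal hpmax
  haveI : n.LiesOver p := inferInstance
  have key := Groth.Agent.Helper14.DimFormula.dimension_formula A hA B p n
  haveI : Algebra.IsAlgebraic A B := inferInstance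
  have h0 : Algebra.trdeg A B = 0 := _root_.trdeg_eq_zero
  haveI : Algebra.IsIntegral A (B ⧸ n) := inferInstance
  haveI : Algebra.IsIntegral (A ⧸ p) (B ⧸ n) := Algebra.IsIntegral.tower_top (R := A)
  letI : Field (A ⧸ p) := Ideal.Quotient.field p
  haveI : Algebra.IsAlgebraic (A ⧸ p) (B ⧸ n) := inferInstance
  have h1 : Algebra.trdeg (A ⧸ p) (B ⧸ n) = 0 := _root_.trdeg_eq_zero
  rw [h0, h1, add_zero, add_zero] at key
  have h2 : n.height = p.height := by exact_mod_cast key
  rw [IsLocalization.AtPrime.ringKrullDim_eq_height n, h2, hp, IsLocalRing.maximalIdeal_height_eq_ringKrullDim]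

end Groth.Agent.S4689
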