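import Groth.Statements.S4690
import Mathlib
import Groth.Agent.Lib.Helper14.DimFormulaSch
import Groth.Agent.S9686
-- import your own Groth.Agent.* helpers here

set_option autoImplicit false
universe u
open EGA4

namespace Groth.Agent.S4690

open AlgebraicGeometry CategoryTheory in
/-- Let Y be an irreducible locally Noetherian scheme, X an irreducible scheme and f : X → Y a dominant
morphism locally of finite type; let e be the dimension of the generic fibre of f. Then dim X ≤ dim
Y + e. If moreover every local ring of Y is universally catenary, the two sides are equal if and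
only if dim Y equals the supremum of the dimensions of the local rings of Y at the points of f(X). -/
theorem result {X Y : Scheme.{u}} (f : X ⟶ Y) [IsLocallyNoetherian Y]
    [LocallyOfFiniteType f] [IrreducibleSpace X] [IrreducibleSpace Y] (hf : DenseRange f.base) :
    topologicalKrullDim X ≤ topologicalKrullDim Y + topologicalKrullDim (f.fiber (genericPoint Y)) ∧
      ((∀ y : Y, CAlg.IsUniversallyCatenary (Y.presheaf.stalk y)) →
        (topologicalKrullDim X = topologicalKrullDim Y + topologicalKrullDim (f.fiber (genericPoint Y)) ↔
          topologicalKrullDim Y = ⨆ y ∈ Set.range f.base, ringKrullDim (Y.presheaf.stalk y))) := by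
  have hgen : f (genericPoint X) = genericPoint Y :=
    Groth.Agent.Helper14.FibreGeneric.map_genericPoint f hf
  obtain ⟨E, hE⟩ := Groth.Agent.Helper14.ResFieldBridge.exists_nat_trdeg_residueField f
    (genericPoint X)
  have hdimgen : topologicalKrullDim (f.fiber (genericPoint Y)) = (E : WithBot ℕ∞) := by
    rw [← hgen]
    exact Groth.Agent.Helper14.DimFormulaSch.dim_genericFibre_eq f E hE
  rw [hdimgen]
  refine ⟨?_, fun hcat => ?_⟩
  · refine Groth.Agent.S9686.result f E ?_
    intro ξ hξ
    have h1 : closure {ξ} = Set.univ :=
      Set.eq_univ_of_univ_subset (hξ.2 (IrreducibleSpace.isIrreducible_univ X) (Set.subset_univ _))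
    have h2 : genericPoint X = ξ := (genericPoint_spec X).eq h1
    subst h2
    exact hE.le
  · have key := Groth.Agent.Helper14.DimFormulaSch.dim_eq_iSup_add f hgen
      (fun x => hcat (f x)) E hE
    rw [key]
    constructor
    · intro h
      exact (Groth.Agent.Helper14.DimFormulaSch.add_nat_cancel _ _ E h).symm
    · intro h
      rw [← h]

end Groth.Agent.S4690
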