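import Groth.Statements.S4691
import Groth.Agent.Lib.Helper5.FibreDim
import Mathlib

set_option autoImplicit false
universe u
open EGA4

namespace Groth.Agent.S4691

theorem topDim_eq {X : AlgebraicGeometry.Scheme.{u}} : topologicalKrullDim X = Order.krullDim X := by
  unfold topologicalKrullDim
  exact Order.krullDim_eq_of_orderIso irreducibleSetEquivPoints

theorem stalk_le {X : AlgebraicGeometry.Scheme.{u}} (x : X) :
    ringKrullDim (X.presheaf.stalk x) ≤ topologicalKrullDim X := by
  rw [AlgebraicGeometry.ringKrullDim_stalk_eq_coheight, topDim_eq]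
  exact Order.coheight_le_krullDim x

open AlgebraicGeometry CategoryTheory in
/-- Let Y be a locally Noetherian scheme, f : X → Y a morphism locally of finite type and n a natural
number such that every fibre of f has dimension at most n. Then dim X ≤ dim Y + n. -/
theorem result {X Y : Scheme.{u}} (f : X ⟶ Y) [IsLocallyNoetherian Y]
    [LocallyOfFiniteType f] (n : ℕ) (h : ∀ y : Y, topologicalKrullDim (f.fiber y) ≤ n) :
    topologicalKrullDim X ≤ topologicalKrullDim Y + n := by
  rw [topDim_eq (X := X), Order.krullDim_eq_iSup_coheight]
  refine iSup_le fun x => ?_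
  rw [← AlgebraicGeometry.ringKrullDim_stalk_eq_coheight]
  refine (Groth.Agent.Helper5.FD.ringKrullDim_stalk_le_add_fibre f x).trans ?_
  refine add_le_add (stalk_le _) ?_
  exact (stalk_le (X := f.fiber (f.base x)) (f.asFiber x)).trans (h (f.base x))

end Groth.Agent.S4691
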