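import Groth.Statements.S4692
import Mathlib
import Groth.Agent.Lib.Helper14.DimFormulaSch
-- import your own Groth.Agent.* helpers here

set_option autoImplicit false
universe u
open EGA4

namespace Groth.Agent.S4692

open AlgebraicGeometry CategoryTheory in
theorem surj_of_le {X Y : Scheme.{u}} (f : X ⟶ Y) (n : ℕ)
    (h : ∀ y : Y, (n : WithBot ℕ∞) ≤ topologicalKrullDim (f.fiber y)) :
    Function.Surjective f := by
  intro y
  by_contra hne
  have hemp : IsEmpty (f.fiber y) := ⟨fun z => hne ⟨f.fiberι y z, (f.fiberHomeo y z).2⟩⟩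
  have hbot : topologicalKrullDim (f.fiber y) = ⊥ := by
    unfold topologicalKrullDim
    haveI : IsEmpty (TopologicalSpace.IrreducibleCloseds (f.fiber y)) :=
      ⟨fun Z => hemp.false Z.isIrreducible'.nonempty.some⟩
    exact Order.krullDim_eq_bot
  have := h y
  rw [hbot, le_bot_iff] at this
  exact WithBot.coe_ne_bot (a := (n : ℕ∞)) this

open AlgebraicGeometry CategoryTheory in
/-- Let Y be a locally Noetherian scheme all of whose local rings are universally catenary, X an
irreducible scheme, f : X → Y a morphism locally of finite type and n a natural number. If every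
fibre of f has dimension at least n then dim X ≥ dim Y + n; if every fibre has dimension exactly n
then dim X = dim Y + n. (The empty scheme has dimension ⊥, so either hypothesis forces f to be
surjective.) -/
theorem result {X Y : Scheme.{u}} (f : X ⟶ Y) [IsLocallyNoetherian Y]
    [LocallyOfFiniteType f] [IrreducibleSpace X] (hY : ∀ y : Y, CAlg.IsUniversallyCatenary (Y.presheaf.stalk y))
    (n : ℕ) :
    ((∀ y : Y, (n : WithBot ℕ∞) ≤ topologicalKrullDim (f.fiber y)) →
        topologicalKrullDim Y + n ≤ topologicalKrullDim X) ∧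
      ((∀ y : Y, topologicalKrullDim (f.fiber y) = n) →
        topologicalKrullDim X = topologicalKrullDim Y + n) := by
  have core : (∀ y : Y, (n : WithBot ℕ∞) ≤ topologicalKrullDim (f.fiber y)) →
      ∃ E : ℕ, topologicalKrullDim (f.fiber (f (genericPoint X))) = (E : WithBot ℕ∞) ∧
        topologicalKrullDim X = topologicalKrullDim Y + (E : WithBot ℕ∞) := by
    intro h
    have hsurj := surj_of_le f n h
    haveI : IrreducibleSpace Y := hsurj.irreducibleSpace f.continuous
    have hgen := Groth.Agent.Helper14.FibreGeneric.map_genericPoint f hsurj.denseRange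
    obtain ⟨E, hE⟩ := Groth.Agent.Helper14.ResFieldBridge.exists_nat_trdeg_residueField f
      (genericPoint X)
    refine ⟨E, Groth.Agent.Helper14.DimFormulaSch.dim_genericFibre_eq f E hE, ?_⟩
    rw [Groth.Agent.Helper14.DimFormulaSch.dim_eq_iSup_add f hgen (fun x => hY _) E hE]
    congr 1
    rw [Groth.Agent.Helper14.LocalDimSch.dim_eq_iSup_stalk]
    refine iSup_congr fun y => ?_
    exact iSup_pos (hsurj y)
  refine ⟨fun h => ?_, fun h => ?_⟩
  · obtain ⟨E, hE1, hE2⟩ := core h
    rw [hE2]
    have : (n : WithBot ℕ∞) ≤ (E : WithBot ℕ∞) := by rw [← hE1]; exact h _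
    exact add_le_add_right this _
  · obtain ⟨E, hE1, hE2⟩ := core (fun y => (h y).ge)
    rw [hE2, ← hE1, h]

end Groth.Agent.S4692
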