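import Groth.Statements.S4693
import Groth.Agent.Lib.Lead.DimF2

set_option autoImplicit false
universe u
open EGA4

namespace Groth.Agent.S4693

/-- Let A → B be a local homomorphism of Noetherian local rings such that the closed fibre ring B/m_A B
has Krull dimension 0 (that is, m_A B is an ideal of definition of B). Then dim B ≤ dim A. If
moreover some finite B-module which is flat over A has support equal to all of Spec B (for instance
if B is flat over A), then dim B = dim A. -/
theorem result (A B : Type u) [CommRing A] [CommRing B] [IsNoetherianRing A]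
    [IsNoetherianRing B] [IsLocalRing A] [IsLocalRing B] [Algebra A B] [IsLocalHom (algebraMap A B)]
    (h0 : ringKrullDim (EGA4.FibRing A B) = 0) :
    ringKrullDim B ≤ ringKrullDim A ∧
      (∀ (N : Type u) [AddCommGroup N] [Module B N] [Module A N] [IsScalarTower A B N] [Module.Finite B N]
          [Module.Flat A N], Module.support B N = Set.univ → ringKrullDim B = ringKrullDim A) := by
  have hB0 : Module.supportDim B (B ⧸ (IsLocalRing.maximalIdeal A).map (algebraMap A B) •
      (⊤ : Submodule B B)) = 0 := by
    have hI : (IsLocalRing.maximalIdeal A).map (algebraMap A B) • (⊤ : Submodule B B) =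
        (IsLocalRing.maximalIdeal A).map (algebraMap A B) := by
      rw [Ideal.smul_eq_mul, Ideal.mul_top]
    rw [hI, Module.supportDim_quotient_eq_ringKrullDim]
    exact h0
  obtain ⟨d, hd⟩ := Groth.Agent.Lead.Depth.exists_nat_supportDim (R := A) A
  have hdA : ringKrullDim A = (d : WithBot ℕ∞) := by
    rw [← Module.supportDim_self_eq_ringKrullDim (R := A)]
    exact hd
  have part1 : ringKrullDim B ≤ ringKrullDim A := by
    have h1 := Groth.Agent.Lead.DimF.supportDim_tensor_le (R := A) (S := B) B d A hd.le
    rw [hB0, add_zero, Module.supportDim_eq_of_equiv (TensorProduct.AlgebraTensorModule.rid A B B),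
      Module.supportDim_self_eq_ringKrullDim] at h1
    rw [hdA]
    exact h1
  refine ⟨part1, ?_⟩
  intro N _ _ _ _ _ _ hsupp
  refine le_antisymm part1 ?_
  have hNnt : Nontrivial N := by
    by_contra hnt
    rw [not_nontrivial_iff_subsingleton] at hnt
    have hempty : Module.support B N = ∅ := Module.support_eq_empty_iff.mpr hnt
    rw [hsupp] at hempty
    exact Set.empty_ne_univ hempty.symm
  have hfib_nt : Nontrivial (N ⧸ (IsLocalRing.maximalIdeal A).map (algebraMap A B) •
      (⊤ : Submodule B N)) := by
    rw [Submodule.Quotient.nontrivial_iff]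
    intro htop
    have hle : (IsLocalRing.maximalIdeal A).map (algebraMap A B) ≤ (⊥ : Ideal B).jacobson := by
      rw [IsLocalRing.jacobson_eq_maximalIdeal ⊥ bot_ne_top]
      exact IsLocalRing.map_maximalIdeal_le (algebraMap A B)
    have hbot := Submodule.eq_bot_of_le_smul_of_le_jacobson_bot
      ((IsLocalRing.maximalIdeal A).map (algebraMap A B)) (⊤ : Submodule B N)
      Module.Finite.fg_top htop.ge hle
    obtain ⟨x, hx⟩ := exists_ne (0 : N)
    have hxmem : x ∈ (⊥ : Submodule B N) := hbot ▸ Submodule.mem_top
    exact hx ((Submodule.mem_bot B).mp hxmem)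
  have h2 := Groth.Agent.Lead.DimF.le_supportDim_tensor (R := A) (S := B) N d A hd.ge
  have h3 : (0 : WithBot ℕ∞) ≤ Module.supportDim B (N ⧸ (IsLocalRing.maximalIdeal A).map
      (algebraMap A B) • (⊤ : Submodule B N)) :=
    Groth.Agent.Lead.Depth.supportDim_nonneg (R := B) _
  have h4 : Module.supportDim B (TensorProduct A N A) ≤ ringKrullDim B :=
    Module.supportDim_le_ringKrullDim B _
  calc ringKrullDim A = (d : WithBot ℕ∞) := hdA
    _ = (d : WithBot ℕ∞) + 0 := (add_zero _).symm
    _ ≤ (d : WithBot ℕ∞) + Module.supportDim B (N ⧸ (IsLocalRing.maximalIdeal A).map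
      (algebraMap A B) • (⊤ : Submodule B N)) := add_le_add le_rfl h3
    _ ≤ Module.supportDim B (TensorProduct A N A) := h2
    _ ≤ ringKrullDim B := h4

end Groth.Agent.S4693
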