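import Groth.Statements.S4694
import Mathlib
import Groth.Agent.Lib.Lead.Flat6

set_option autoImplicit false
universe u
open EGA4

namespace Groth.Agent.S4694

open TensorProduct in
/-- Let A → B be a local homomorphism of Noetherian local rings, M a finite A-module and N a nonzero
finite B-module, flat over A, whose closed-fibre module N/m_A N has finite length. Then the depth of
the B-module N ⊗_A M equals the depth of the A-module M. (The companion equality of codepths in the
published item is not restated.) -/
theorem result {A B M N : Type u} [CommRing A] [CommRing B]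
    [IsNoetherianRing A] [IsNoetherianRing B] [IsLocalRing A] [IsLocalRing B] [Algebra A B]
    [IsLocalHom (algebraMap A B)] [AddCommGroup M] [Module A M] [Module.Finite A M]
    [AddCommGroup N] [Module B N] [Module A N] [IsScalarTower A B N] [Module.Finite B N] [Nontrivial N]
    [Module.Flat A N] (hN : IsFiniteLength B (EGA4.FibMod A B N)) :
    LocCoh.depth B (N ⊗[A] M) = LocCoh.depth A M := by
  rw [Groth.Agent.Lead.FlatDepth.depth_tensor_eq_add_fibre M N]
  haveI : Nontrivial (EGA4.FibMod A B N) := by
    rw [Submodule.Quotient.nontrivial_iff]
    intro htop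
    have h3 : (IsLocalRing.maximalIdeal A).map (algebraMap A B) ≤ IsLocalRing.maximalIdeal B :=
      IsLocalRing.map_maximalIdeal_le (algebraMap A B)
    have h4 : IsLocalRing.maximalIdeal B • (⊤ : Submodule B N) = ⊤ :=
      top_le_iff.mp (htop.ge.trans (Submodule.smul_mono_left h3))
    exact Groth.Agent.Lead.Depth.maximalIdeal_smul_top_ne_top N h4
  have h0 := Groth.Agent.Lead.FlatDepth.depth_eq_zero_of_isFiniteLength (EGA4.FibMod A B N) hN
  change LocCoh.depth A M + LocCoh.depth B (EGA4.FibMod A B N) = LocCoh.depth A M
  rw [h0, add_zero]

end Groth.Agent.S4694
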