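import Groth.Statements.S4698
import Groth.Agent.Lib.Helper21.ModFlat2

set_option autoImplicit false
universe u
open EGA4

namespace Groth.Agent.S4698

open AlgebraicGeometry CategoryTheory in
/-- Let Y be an integral locally Noetherian scheme, u : X → Y a morphism of finite type and F a coherent
O_X-module. Then there is a nonempty open subset U of Y such that F is flat over Y at every point of
u⁻¹(U). -/
theorem result {X Y : Scheme.{u}} (u : X ⟶ Y) [IsIntegral Y] [IsLocallyNoetherian Y]
    [LocallyOfFiniteType u] [QuasiCompact u] (F : X.Modules) (hF : Coh.IsCoh F) :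
    ∃ U : Y.Opens, (U : Set Y).Nonempty ∧ ∀ x : X, u.base x ∈ U → FlatMod.IsFlatOverAt u F x := by
  obtain ⟨hq, hft⟩ := hF
  haveI : F.IsQuasicoherent := hq
  haveI := hft
  haveI : LocallyOfFinitePresentation u := by
    constructor
    intro U hU V hV e
    haveI : IsNoetherianRing Γ(Y, U) := IsLocallyNoetherian.component_noetherian ⟨U, hU⟩
    exact RingHom.FinitePresentation.of_finiteType.1 (u.finiteType_appLE hU hV e)
  haveI : IsLocallyNoetherian X := LocallyOfFiniteType.isLocallyNoetherian u
  haveI : SheafOfModules.IsFinitePresentation (R := X.ringCatSheaf) F := by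
    apply Groth.Agent.Helper13.LocFree.isFinitePresentation_of_finitePresentation_sections F
    intro x
    obtain ⟨_, ⟨V, hV, rfl⟩, hxV, -⟩ :=
      X.isBasis_affineOpens.exists_subset_of_mem_open (Set.mem_univ x) isOpen_univ
    haveI : IsNoetherianRing Γ(X, V) := IsLocallyNoetherian.component_noetherian ⟨V, hV⟩
    haveI : Module.Finite Γ(X, V) Γ(F, V) :=
      Groth.Agent.Helper13.FinType.finite_sections_of_isFiniteType F hV
    exact ⟨V, hV, hxV, Module.finitePresentation_of_finite _ _⟩
  exact Groth.Agent.Helper21.ModFlat.generic_flatness_module u F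

end Groth.Agent.S4698
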