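import Groth.Statements.S4701
import Mathlib
import Groth.Agent.S4700
-- import your own Groth.Agent.* helpers here

set_option autoImplicit false
universe u
open EGA4

namespace Groth.Agent.S4701

/-- regularity transfers along ring isomorphisms, pointwise. -/
theorem mem_regLocus_of_ringEquiv {R₁ R₂ : Type u} [CommRing R₁] [CommRing R₂] (e : R₁ ≃+* R₂)
    (Q : PrimeSpectrum R₂)
    (h : PrimeSpectrum.comap (e : R₁ →+* R₂) Q ∈ EGA4.regLocus R₁) : Q ∈ EGA4.regLocus R₂ := by
  change IsRegularLocalRing (Localization.AtPrime Q.asIdeal)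
  haveI : IsRegularLocalRing (Localization.AtPrime (Q.asIdeal.comap e)) := h
  exact IsRegularLocalRing.of_ringEquiv <| IsLocalization.ringEquivOfRingEquiv
    (Localization.AtPrime (Q.asIdeal.comap e)) (Localization.AtPrime Q.asIdeal) e
    (e.map_primeCompl_comap_eq Q.asIdeal)

theorem exists_open_of_ringEquiv {R₁ R₂ : Type u} [CommRing R₁] [CommRing R₂] (e : R₁ ≃+* R₂)
    (h : ∃ U : Set (PrimeSpectrum R₁), IsOpen U ∧ U.Nonempty ∧ U ⊆ EGA4.regLocus R₁) :
    ∃ U : Set (PrimeSpectrum R₂), IsOpen U ∧ U.Nonempty ∧ U ⊆ EGA4.regLocus R₂ := by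
  obtain ⟨U, hU, ⟨x, hx⟩, hUreg⟩ := h
  refine ⟨PrimeSpectrum.comap (e : R₁ →+* R₂) ⁻¹' U, hU.preimage (PrimeSpectrum.continuous_comap _),
    ⟨PrimeSpectrum.comap (e.symm : R₂ →+* R₁) x, ?_⟩, ?_⟩
  · have : PrimeSpectrum.comap (e : R₁ →+* R₂) (PrimeSpectrum.comap (e.symm : R₂ →+* R₁) x) = x := by
      apply PrimeSpectrum.ext
      change (x.asIdeal.comap (e.symm : R₂ →+* R₁)).comap (e : R₁ →+* R₂) = x.asIdeal
      rw [Ideal.comap_comap]
      have : (e.symm : R₂ →+* R₁).comp (e : R₁ →+* R₂) = RingHom.id R₁ := by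
        ext r; simp
      rw [this, Ideal.comap_id]
    rw [Set.mem_preimage, this]
    exact hx
  · intro Q hQ
    exact mem_regLocus_of_ringEquiv e Q (hUreg hQ)

/-- The generic point of a Noetherian domain is in the regular locus. -/
theorem bot_mem_regLocus (D : Type u) [CommRing D] [IsDomain D] [IsNoetherianRing D] :
    (⟨⊥, Ideal.isPrime_bot⟩ : PrimeSpectrum D) ∈ EGA4.regLocus D := by
  change IsRegularLocalRing (Localization.AtPrime (⊥ : Ideal D))
  haveI : IsNoetherianRing (Localization.AtPrime (⊥ : Ideal D)) :=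
    IsLocalization.isNoetherianRing (⊥ : Ideal D).primeCompl _ inferInstance
  apply IsRegularLocalRing.of_spanFinrank_maximalIdeal_le
  have h1 : IsLocalRing.maximalIdeal (Localization.AtPrime (⊥ : Ideal D)) = ⊥ := by
    rw [← Localization.AtPrime.map_eq_maximalIdeal, Ideal.map_bot]
  rw [h1]
  have h2 : (⊥ : Ideal (Localization.AtPrime (⊥ : Ideal D))).spanFinrank = 0 :=
    Submodule.spanFinrank_bot
  rw [h2]
  exact_mod_cast ringKrullDim_nonneg_of_nontrivial

/-- Let A be a Noetherian ring. The regular locus of every quotient ring A/I is open in its spectrum if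
and only if, for every prime ideal p, the regular locus of the domain A/p contains a nonempty open
subset of Spec(A/p). (The published statement quantifies over all subschemes of Spec A; open
subschemes of the closed ones add nothing, so closed subschemes are used here.) -/
theorem result (A : Type u) [CommRing A] [IsNoetherianRing A] :
    (∀ I : Ideal A, IsOpen (EGA4.regLocus (A ⧸ I))) ↔
      ∀ (p : Ideal A) [p.IsPrime],
        ∃ U : Set (PrimeSpectrum (A ⧸ p)), IsOpen U ∧ U.Nonempty ∧ U ⊆ EGA4.regLocus (A ⧸ p) := by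
  classical
  constructor
  · intro h p hp
    refine ⟨EGA4.regLocus (A ⧸ p), h p, ⟨_, bot_mem_regLocus (A ⧸ p)⟩, subset_rfl⟩
  · intro h I
    apply Groth.Agent.S4700.result (A ⧸ I)
    intro P _
    -- (A/I)/P ≅ A/p
    set f : A →+* (A ⧸ I) ⧸ P.asIdeal :=
      (Ideal.Quotient.mk P.asIdeal).comp (Ideal.Quotient.mk I) with hf
    have hfsurj : Function.Surjective f :=
      Ideal.Quotient.mk_surjective.comp Ideal.Quotient.mk_surjective
    haveI : (RingHom.ker f).IsPrime := RingHom.ker_isPrime f
    exact exists_open_of_ringEquiv (RingHom.quotientKerEquivOfSurjective hfsurj) (h (RingHom.ker f))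

end Groth.Agent.S4701
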