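import Groth.Statements.S4709
import Groth.Agent.Lib.Helper7.QENag2
import Groth.Agent.Lib.Helper7.FFNag
import Groth.Agent.Lib.Helper7.Mono2

set_option autoImplicit false
universe u
open EGA4

set_option linter.style.haveILetI false
namespace Groth.Agent.S4709

/-- Let A be a Noetherian ring such that (i) for every maximal ideal m the formal fibres of A_m are
geometrically reduced, and (ii) the regular locus of every A-algebra of finite type is open (A is
J-2). Then A is universally Japanese. -/
theorem result (A : Type u) [CommRing A] [IsNoetherianRing A]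
    (h1 : ∀ (m : Ideal A) [m.IsMaximal], EGA4.HasGeomReducedFormalFibres (Localization.AtPrime m))
    (h2 : EGA4.IsJ2 A) : CAlg.IsUniversallyJapanese A := by
  classical
  have hNag : CAlg.IsNagata A := by
    rw [Groth.Agent.Helper7.QENag.s12125]
    refine ⟨?_, ?_⟩
    · intro m _ P _
      exact (Groth.Agent.Helper7.FFNag.s2657 (Localization.AtPrime m) (h1 m)).2 P
    · intro p _ K' _ _ _ _ _ _ B' hB' hfrac
      haveI := hB'
      haveI := hfrac
      letI : Algebra A B' := ((algebraMap (A ⧸ p) B').comp (Ideal.Quotient.mk p)).toAlgebra
      haveI : IsScalarTower A (A ⧸ p) B' := IsScalarTower.of_algebraMap_eq (fun x => rfl)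
      have hft : Algebra.FiniteType A B' := by
        have h1 : Algebra.FiniteType A (A ⧸ p) := inferInstance
        have h2 : Algebra.FiniteType (A ⧸ p) B' := inferInstance
        exact Algebra.FiniteType.trans h1 h2
      have hopen : IsOpen (EGA4.regLocus B') := h2 B' hft
      have hbot := Groth.Agent.Helper7.QENag.bot_mem_regLocus B'
      obtain ⟨U, ⟨_, ⟨f, rfl⟩, rfl⟩, hfU, hsub⟩ :=
        PrimeSpectrum.isBasis_basic_opens.exists_subset_of_mem_open hbot hopen
      have hf0 : f ≠ 0 := by
        rintro rfl
        exact hfU (Submodule.zero_mem _)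
      refine ⟨f, hf0, ?_⟩
      apply Groth.Agent.Helper7.QENag.isIntegrallyClosed_away_of_subset_regLocus B' f hf0
      intro q hq
      exact hsub hq
  exact ((Groth.Agent.Helper7.Mono.s0567 A).mp hNag).2

end Groth.Agent.S4709
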