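import Groth.Statements.S4711
import Mathlib

set_option autoImplicit false
universe u
open EGA4

namespace Groth.Agent.S4711

theorem exists_isLocallyClosed_singleton_basic {A : Type*} [CommRing A] (f : A) (I : Ideal A)
    (hne : ((PrimeSpectrum.basicOpen f : Set (PrimeSpectrum A)) ∩
      PrimeSpectrum.zeroLocus (I : Set A)).Nonempty) :
    ∃ q ∈ (PrimeSpectrum.basicOpen f : Set (PrimeSpectrum A)) ∩ PrimeSpectrum.zeroLocus (I : Set A),
      IsLocallyClosed ({q} : Set (PrimeSpectrum A)) := by
  obtain ⟨r, hrf, hrI⟩ := hne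
  have hdisj : Disjoint (Submonoid.powers f : Set A) (r.asIdeal : Set A) := by
    rw [Set.disjoint_left]
    rintro _ ⟨n, rfl⟩ hmem
    exact hrf (r.2.mem_of_pow_mem n hmem)
  have hrprime : (r.asIdeal.map (algebraMap A (Localization.Away f))).IsPrime :=
    IsLocalization.isPrime_of_isPrime_disjoint (Submonoid.powers f) _ _ r.2 hdisj
  obtain ⟨M, hM, hrM⟩ := Ideal.exists_le_maximal _ hrprime.ne_top
  let q : PrimeSpectrum A := ⟨M.comap (algebraMap A (Localization.Away f)), Ideal.comap_isPrime _ _⟩
  have hrq : r.asIdeal ≤ q.asIdeal := Ideal.map_le_iff_le_comap.1 hrM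
  have hfq : f ∉ q.asIdeal := by
    intro hmem
    have hunit : IsUnit (algebraMap A (Localization.Away f) f) :=
      IsLocalization.map_units _ (⟨_, Submonoid.mem_powers _⟩ : Submonoid.powers f)
    exact hM.ne_top (Ideal.eq_top_of_isUnit_mem _ hmem hunit)
  refine ⟨q, ⟨hfq, fun a ha => hrq (hrI ha)⟩, ?_⟩
  refine ⟨PrimeSpectrum.basicOpen f, closure {q}, (PrimeSpectrum.basicOpen f).2, isClosed_closure, ?_⟩
  apply subset_antisymm
  · rw [Set.singleton_subset_iff]
    exact ⟨hfq, subset_closure rfl⟩
  · rintro q' ⟨hfq', hq'⟩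
    have hqq' : q.asIdeal ≤ q'.asIdeal :=
      (PrimeSpectrum.le_iff_specializes q q').2 (specializes_iff_mem_closure.2 hq')
    have hdisj' : Disjoint (Submonoid.powers f : Set A) (q'.asIdeal : Set A) := by
      rw [Set.disjoint_left]
      rintro _ ⟨n, rfl⟩ hmem
      exact hfq' (q'.2.mem_of_pow_mem n hmem)
    have hq'prime : (q'.asIdeal.map (algebraMap A (Localization.Away f))).IsPrime :=
      IsLocalization.isPrime_of_isPrime_disjoint (Submonoid.powers f) _ _ q'.2 hdisj'
    have h1 : M ≤ q'.asIdeal.map (algebraMap A (Localization.Away f)) := by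
      rw [← IsLocalization.map_under (Submonoid.powers f) (Localization.Away f) M]
      exact Ideal.map_mono hqq'
    have h2 : M = q'.asIdeal.map (algebraMap A (Localization.Away f)) :=
      hM.eq_of_le hq'prime.ne_top h1
    have h3 : (q'.asIdeal.map (algebraMap A (Localization.Away f))).comap
        (algebraMap A (Localization.Away f)) = q'.asIdeal :=
      IsLocalization.under_map_of_isPrime_disjoint (Submonoid.powers f) _ q'.2 hdisj'
    rw [Set.mem_singleton_iff]
    apply PrimeSpectrum.ext
    change q'.asIdeal = M.comap _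
    rw [h2, h3]

theorem exists_isLocallyClosed_singleton_of_isConstructible {A : Type*} [CommRing A]
    (s : Set (PrimeSpectrum A)) (hs : Topology.IsConstructible s) :
    s.Nonempty → ∃ q ∈ s, IsLocallyClosed ({q} : Set (PrimeSpectrum A)) := by
  induction s, hs using Topology.IsConstructible.induction_of_isTopologicalBasis
    (fun f : A => (PrimeSpectrum.basicOpen f : Set (PrimeSpectrum A)))
    PrimeSpectrum.isTopologicalBasis_basic_opens
    (fun f => PrimeSpectrum.isCompact_basicOpen f) with
  | sdiff f t ht =>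
    intro hne
    have heq : (PrimeSpectrum.basicOpen f : Set (PrimeSpectrum A)) \
        ⋃ j ∈ t, (PrimeSpectrum.basicOpen j : Set (PrimeSpectrum A)) =
        (PrimeSpectrum.basicOpen f : Set (PrimeSpectrum A)) ∩
          PrimeSpectrum.zeroLocus ((Ideal.span t : Ideal A) : Set A) := by
      ext p
      simp only [Set.mem_sdiff, Set.mem_iUnion, not_exists, Set.mem_inter_iff,
        PrimeSpectrum.zeroLocus_span, PrimeSpectrum.mem_zeroLocus]
      constructor
      · rintro ⟨h1, h2⟩
        refine ⟨h1, fun j hj => ?_⟩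
        by_contra hn
        exact h2 j hj hn
      · rintro ⟨h1, h2⟩
        exact ⟨h1, fun j hj hn => hn (h2 hj)⟩
    rw [heq] at hne ⊢
    exact exists_isLocallyClosed_singleton_basic f _ hne
  | union s hs t ht ihs iht =>
    rintro ⟨p, hp | hp⟩
    · obtain ⟨q, hq, hq'⟩ := ihs ⟨p, hp⟩
      exact ⟨q, Or.inl hq, hq'⟩
    · obtain ⟨q, hq, hq'⟩ := iht ⟨p, hp⟩
      exact ⟨q, Or.inr hq, hq'⟩

open AlgebraicGeometry Topology in
/-- In any scheme X, every nonempty locally constructible subset E contains a point x such that the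
one-point set {x} is locally closed in X (equivalently x is isolated in its closure). -/
theorem result (X : Scheme.{u}) (E : Set X)
    (hE : Topology.IsLocallyConstructible E) (hne : E.Nonempty) :
    ∃ x ∈ E, IsLocallyClosed ({x} : Set X) := by
  obtain ⟨e, heE⟩ := hne
  obtain ⟨_, ⟨(U : X.Opens), hU : IsAffineOpen U, rfl⟩, heU, -⟩ :=
    X.isBasis_affineOpens.exists_subset_of_mem_open (Set.mem_univ e) isOpen_univ
  let ι := hU.fromSpec
  have hι : Topology.IsOpenEmbedding ι := hU.fromSpec.isOpenEmbedding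
  have hE' : Topology.IsLocallyConstructible (ι ⁻¹' E) := hE.preimage_of_isOpenEmbedding hι
  have hE'c : Topology.IsConstructible (ι ⁻¹' E) := hE'.isConstructible
  let p : Spec Γ(X, U) := hU.primeIdealOf ⟨e, heU⟩
  have hp : ι p = e := hU.fromSpec_primeIdealOf ⟨e, heU⟩
  have hne' : (ι ⁻¹' E).Nonempty := ⟨p, by rw [Set.mem_preimage, hp]; exact heE⟩
  obtain ⟨q, hqE, hq⟩ := exists_isLocallyClosed_singleton_of_isConstructible (A := Γ(X, U))
    (ι ⁻¹' E) hE'c hne'
  refine ⟨ι q, hqE, ?_⟩
  have h1 : IsLocallyClosed (ι '' {q}) :=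
    hq.image hι.isInducing hι.isOpen_range.isLocallyClosed
  have h2 : (ι '' ({q} : Set (PrimeSpectrum Γ(X, U))) : Set X) = {ι q} := Set.image_singleton
  rw [← h2]
  exact h1

end Groth.Agent.S4711
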