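import Groth.Statements.S4712
import Groth.Agent.Lib.Helper7.LocClosedPt

set_option autoImplicit false
universe u
open EGA4

namespace Groth.Agent.S4712

open AlgebraicGeometry in
/-- Let X be a locally Noetherian scheme and x a point such that {x} is locally closed in X. Then the
closure of {x} has dimension at most 1, and every point of that closure other than x is a closed
point of X. -/
theorem result (X : Scheme.{u}) [IsLocallyNoetherian X] (x : X)
    (hx : IsLocallyClosed ({x} : Set X)) :
    topologicalKrullDim (closure ({x} : Set X)) ≤ 1 ∧
      ∀ y ∈ closure ({x} : Set X), y ≠ x → IsClosed ({y} : Set X) := by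
  have hpts : ∀ y ∈ closure ({x} : Set X), y ≠ x → IsClosed ({y} : Set X) := fun y hy hne =>
    Groth.Agent.Helper7.LocClosedPt.isClosed_singleton_of_specializes hx
      (specializes_iff_mem_closure.2 hy) hne
  refine ⟨?_, hpts⟩
  unfold topologicalKrullDim
  rw [Order.krullDim_le_one_iff]
  intro W
  have hqs : QuasiSober ↥(closure ({x} : Set X)) :=
    isClosed_closure.isClosedEmbedding_subtypeVal.quasiSober
  obtain ⟨w, hw⟩ := QuasiSober.sober W.isIrreducible W.isClosed
  have hwcl : closure {w} = (W : Set ↥(closure ({x} : Set X))) := hw
  by_cases hwx : w.1 = x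
  · right
    intro W' hWW'
    intro z hz
    rw [← SetLike.mem_coe, ← hwcl, closure_subtype, Set.image_singleton, hwx]
    exact z.2
  · left
    have hcl : IsClosed ({w.1} : Set X) := hpts w.1 w.2 hwx
    have hWeq : (W : Set ↥(closure ({x} : Set X))) = {w} := by
      rw [← hwcl]
      apply IsClosed.closure_eq
      have : ({w} : Set ↥(closure ({x} : Set X))) = Subtype.val ⁻¹' {w.1} := by
        ext z
        simp only [Set.mem_singleton_iff, Set.mem_preimage]
        exact ⟨fun h => congrArg Subtype.val h, fun h => Subtype.ext h⟩
      rw [this]
      exact hcl.preimage continuous_subtype_val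
    intro W' hW'W
    intro z hz
    have hzw : z = w := by
      have : z ∈ (W : Set ↥(closure ({x} : Set X))) := hz
      rw [hWeq] at this
      exact this
    obtain ⟨z', hz'⟩ := W'.isIrreducible.nonempty
    have hz'w : z' = w := by
      have : z' ∈ (W : Set ↥(closure ({x} : Set X))) := hW'W hz'
      rw [hWeq] at this
      exact this
    rw [hzw, ← hz'w]
    exact hz'

end Groth.Agent.S4712
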