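import Groth.Statements.S4717
import Groth.Agent.Lib.Helper7.TopDim

set_option autoImplicit false
universe u
open EGA4

namespace Groth.Agent.S4717

open AlgebraicGeometry CategoryTheory in
/-- Let f : X → Y be a finite morphism of locally Noetherian schemes. Then dim X equals the dimension of
the image f(X); in particular if f is surjective then dim X = dim Y. -/
theorem result {X Y : Scheme.{u}} (f : X ⟶ Y) [IsLocallyNoetherian X] [IsLocallyNoetherian Y]
    [IsFinite f] :
    topologicalKrullDim X = topologicalKrullDim (Set.range f.base) ∧
      (Function.Surjective f.base → topologicalKrullDim X = topologicalKrullDim Y) := by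
  have hanti : ∀ x x' : X, x' ⤳ x → f.base x = f.base x' → x = x' := by
    intro x x' hx hfx
    exact Groth.Agent.Helper7.TopDim.eq_of_specializes_of_isDiscrete
      (f.isDiscrete_preimage_singleton (f.base x)) rfl hfx.symm hx
  have hcl : IsClosedMap f.base := f.isClosedMap
  constructor
  · apply le_antisymm
    · exact Groth.Agent.Helper7.TopDim.topologicalKrullDim_le_of_fiber_antisymm_codRestrict
        (f := (f.base : X → Y)) f.continuous hanti (Set.range f.base) (fun x => ⟨x, rfl⟩)
    · have hrc : IsClosed (Set.range f.base) := hcl.isClosed_range
      have : QuasiSober ↥(Set.range f.base) := hrc.isClosedEmbedding_subtypeVal.quasiSober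
      refine Groth.Agent.Helper11.topologicalKrullDim_le_of_surjective_of_lift
        (f := Set.rangeFactorization (f.base : X → Y))
        (f.continuous.subtype_mk _) Set.rangeFactorization_surjective (Or.inl ?_)
      apply IsClosedMap.specializingMap
      intro Z hZ
      have h1 : Set.rangeFactorization (f.base : X → Y) '' Z = Subtype.val ⁻¹' (f.base '' Z) := by
        ext ⟨y, hy⟩
        constructor
        · rintro ⟨z, hz, e⟩
          exact ⟨z, hz, congrArg Subtype.val e⟩
        · rintro ⟨z, hz, e⟩
          exact ⟨z, hz, Subtype.ext e⟩
      rw [h1]
      exact (hcl Z hZ).preimage continuous_subtype_val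
  · intro hs
    apply le_antisymm
    · exact Groth.Agent.Helper7.TopDim.topologicalKrullDim_le_of_fiber_antisymm
        (f := (f.base : X → Y)) f.continuous hanti
    · exact Groth.Agent.Helper11.topologicalKrullDim_le_of_surjective_of_lift
        (f := (f.base : X → Y)) f.continuous hs (Or.inl hcl.specializingMap)

end Groth.Agent.S4717
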