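import Groth.Statements.S4719
import Groth.Agent.Lib.Lead.FinRes3
import Groth.Agent.S2669

set_option autoImplicit false
universe u
open EGA4

namespace Groth.Agent.S4719

/-- Let A → B be a homomorphism of Noetherian rings and M a B-module which is finite as an A-module. (i)
If M satisfies (S_k) as an A-module, it satisfies (S_k) as a B-module. (ii) If for every two primes
q, q' of B in the support of M having the same contraction to A the modules M_q and M_{q'} have the
same dimension, then (S_k) for M as a B-module implies (S_k) for M as an A-module. (The published
statement asks the equal-dimension condition for all pairs of primes of B with the same contraction;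
this row asks it only for primes in the support of M, which is all its proof uses.) -/
theorem result (k : ℕ) (A B : Type u) [CommRing A] [CommRing B] [IsNoetherianRing A]
    [IsNoetherianRing B] [Algebra A B] (M : Type u) [AddCommGroup M] [Module B M] [Module A M]
    [IsScalarTower A B M] [Module.Finite A M] :
    (LocCoh.HasSk k A M → LocCoh.HasSk k B M) ∧
      ((∀ q ∈ Module.support B M, ∀ q' ∈ Module.support B M,
          q.asIdeal.comap (algebraMap A B) = q'.asIdeal.comap (algebraMap A B) →
            Module.supportDim (Localization.AtPrime q.asIdeal) (LocalizedModule q.asIdeal.primeCompl M) =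
              Module.supportDim (Localization.AtPrime q'.asIdeal) (LocalizedModule q'.asIdeal.primeCompl M)) →
        LocCoh.HasSk k B M → LocCoh.HasSk k A M) := by
  constructor
  · intro hA q _
    obtain ⟨hdim, hdepth⟩ := Groth.Agent.S2669.result A B M (q.comap (algebraMap A B))
    have hAp := hA (q.comap (algebraMap A B))
    by_cases hq : (⟨q, inferInstance⟩ : PrimeSpectrum B) ∈ Module.support B M
    · have hmem : (⟨q, inferInstance⟩ : PrimeSpectrum B) ∈ {q' : PrimeSpectrum B |
          q'.asIdeal.comap (algebraMap A B) = q.comap (algebraMap A B) ∧
            q' ∈ Module.support B M} := ⟨rfl, hq⟩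
      have h1 : Module.supportDim (Localization.AtPrime q) (LocalizedModule q.primeCompl M) ≤
          Module.supportDim (Localization.AtPrime (q.comap (algebraMap A B)))
            (LocalizedModule (q.comap (algebraMap A B)).primeCompl M) :=
        le_of_le_of_eq (le_iSup₂ (f := fun (q' : PrimeSpectrum B) (_ : q' ∈ {q' : PrimeSpectrum B |
          q'.asIdeal.comap (algebraMap A B) = q.comap (algebraMap A B) ∧
            q' ∈ Module.support B M}) => Module.supportDim (Localization.AtPrime q'.asIdeal)
              (LocalizedModule q'.asIdeal.primeCompl M)) ⟨q, inferInstance⟩ hmem) hdim.symm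
      have h2 : LocCoh.depth (Localization.AtPrime (q.comap (algebraMap A B)))
            (LocalizedModule (q.comap (algebraMap A B)).primeCompl M) ≤
          LocCoh.depth (Localization.AtPrime q) (LocalizedModule q.primeCompl M) :=
        le_of_eq_of_le hdepth (iInf₂_le (f := fun (q' : PrimeSpectrum B)
          (_ : q' ∈ {q' : PrimeSpectrum B |
          q'.asIdeal.comap (algebraMap A B) = q.comap (algebraMap A B) ∧
            q' ∈ Module.support B M}) => LocCoh.depth (Localization.AtPrime q'.asIdeal)
              (LocalizedModule q'.asIdeal.primeCompl M)) ⟨q, inferInstance⟩ hmem)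
      exact le_trans (min_le_min le_rfl h1) (le_trans hAp (WithBot.coe_le_coe.mpr h2))
    · haveI : Subsingleton (LocalizedModule q.primeCompl M) := Module.notMem_support_iff.mp hq
      refine le_trans (min_le_right _ _) ?_
      rw [Module.supportDim_eq_bot_of_subsingleton]
      exact bot_le
  · intro hEq hB p _
    obtain ⟨hdim, hdepth⟩ := Groth.Agent.S2669.result A B M p
    rw [hdepth]
    refine Groth.Agent.Lead.FinRes.core_le
      {q : PrimeSpectrum B | q.asIdeal.comap (algebraMap A B) = p ∧ q ∈ Module.support B M}
      (fun q => LocCoh.depth (Localization.AtPrime q.asIdeal)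
        (LocalizedModule q.asIdeal.primeCompl M)) _ (fun q hq => ?_)
    have h1 : Module.supportDim (Localization.AtPrime p) (LocalizedModule p.primeCompl M) =
        Module.supportDim (Localization.AtPrime q.asIdeal)
          (LocalizedModule q.asIdeal.primeCompl M) := by
      rw [hdim]
      apply le_antisymm
      · exact iSup₂_le fun q' hq' => (hEq q' hq'.2 q hq.2 (hq'.1.trans hq.1.symm)).le
      · exact le_iSup₂ (f := fun (q' : PrimeSpectrum B) (_ : q' ∈ {q : PrimeSpectrum B |
          q.asIdeal.comap (algebraMap A B) = p ∧ q ∈ Module.support B M}) =>
            Module.supportDim (Localization.AtPrime q'.asIdeal)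
              (LocalizedModule q'.asIdeal.primeCompl M)) q hq
    rw [h1]
    exact hB q.asIdeal

end Groth.Agent.S4719
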