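import Groth.Statements.S4722
import Mathlib

set_option autoImplicit false
universe u
open EGA4

namespace Groth.Agent.S4722

section aux

variable {A : Type*} [CommRing A] {M : Type*} [AddCommGroup M] [Module A M]

/-- `N₂ / N₁` embeds in `A / p`. -/
def Q (p : Ideal A) (N₁ N₂ : Submodule A M) : Prop :=
  ∃ g : (↥N₂ ⧸ Submodule.comap N₂.subtype N₁) →ₗ[A] (A ⧸ p), Function.Injective g

def Sat (p : Ideal A) (N : Submodule A M) : Prop :=
  ∀ s : A, s ∉ p → ∀ m : M, s • m ∈ N → m ∈ N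

theorem step [IsNoetherianRing A] [Module.Finite A M] (p : Ideal A) [hp : p.IsPrime] (k : ℕ)
    (hk : p ^ k ≤ Module.annihilator A M) (N : Submodule A M) (hN : N ≠ ⊤) (hsat : Sat p N) :
    ∃ N' : Submodule A M, N < N' ∧ Sat p N' ∧ Q p N N' := by
  classical
  have hone : (1 : A) ∉ p := fun h => hp.ne_top ((Ideal.eq_top_iff_one p).mpr h)
  have : Nontrivial (M ⧸ N) := Submodule.Quotient.nontrivial_iff.mpr hN
  obtain ⟨q, hq⟩ := associatedPrimes.nonempty A (M ⧸ N)
  rw [AssociatedPrimes.mem_iff, isAssociatedPrime_iff] at hq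
  obtain ⟨hqp, xbar, hqx⟩ := hq
  obtain ⟨x, rfl⟩ := Submodule.mkQ_surjective N xbar
  have hmemq : ∀ a : A, a ∈ q ↔ a • x ∈ N := by
    intro a
    rw [hqx, Submodule.mem_colon_singleton, Submodule.mem_bot, ← map_smul, Submodule.mkQ_apply,
      Submodule.Quotient.mk_eq_zero]
  have hxN : x ∉ N := by
    intro h
    apply hqp.ne_top
    rw [Ideal.eq_top_iff_one, hmemq, one_smul]
    exact h
  have hqp_eq : q = p := by
    apply le_antisymm
    · intro a ha
      by_contra hap
      exact hxN (hsat a hap x ((hmemq a).mp ha))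
    · intro a ha
      have h1 : a ^ k ∈ p ^ k := Ideal.pow_mem_pow ha k
      have h2 : a ^ k • x = 0 := Module.mem_annihilator.mp (hk h1) x
      have h3 : a ^ k ∈ q := by
        rw [hmemq, h2]
        exact N.zero_mem
      exact hqp.mem_of_pow_mem k h3
  have hmemp : ∀ a : A, a ∈ p ↔ a • x ∈ N := fun a => hqp_eq ▸ hmemq a
  let T : Submodule A M := N ⊔ Submodule.span A {x}
  let N' : Submodule A M :=
    { carrier := {m | ∃ s : A, s ∉ p ∧ s • m ∈ T}
      zero_mem' := ⟨1, hone, by rw [smul_zero]; exact T.zero_mem⟩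
      add_mem' := by
        rintro m₁ m₂ ⟨s₁, hs₁, h₁⟩ ⟨s₂, hs₂, h₂⟩
        refine ⟨s₁ * s₂, fun h => (hp.mem_or_mem h).elim hs₁ hs₂, ?_⟩
        have e : (s₁ * s₂) • (m₁ + m₂) = s₂ • (s₁ • m₁) + s₁ • (s₂ • m₂) := by
          rw [smul_add, mul_smul, mul_smul, smul_comm s₁ s₂ m₁]
        rw [e]
        exact T.add_mem (T.smul_mem _ h₁) (T.smul_mem _ h₂)
      smul_mem' := by
        rintro a m ⟨s, hs, h⟩
        exact ⟨s, hs, by rw [smul_comm]; exact T.smul_mem a h⟩ }
  have hle : N ≤ N' := fun m hm =>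
    ⟨1, hone, by rw [one_smul]; exact Submodule.mem_sup_left hm⟩
  have hxN' : x ∈ N' :=
    ⟨1, hone, by rw [one_smul]; exact Submodule.mem_sup_right (Submodule.mem_span_singleton_self x)⟩
  have hlt : N < N' := lt_of_le_of_ne hle (fun h => hxN (by rw [h]; exact hxN'))
  have hsat' : Sat p N' := by
    rintro s' hs' m ⟨s, hs, h⟩
    refine ⟨s * s', fun h => (hp.mem_or_mem h).elim hs hs', ?_⟩
    rw [mul_smul]
    exact h
  refine ⟨N', hlt, hsat', ?_⟩
  -- common denominator
  obtain ⟨S, hS⟩ := (IsNoetherian.noetherian N' : N'.FG)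
  have hch : ∀ n : M, ∃ s : A, s ∉ p ∧ (n ∈ N' → s • n ∈ T) := by
    intro n
    by_cases hn : n ∈ N'
    · obtain ⟨s, hs, h⟩ := hn
      exact ⟨s, hs, fun _ => h⟩
    · exact ⟨1, hone, fun h => absurd h hn⟩
  choose σ hσ hσT using hch
  let s : A := ∏ n ∈ S, σ n
  have hs : s ∉ p := by
    intro h
    obtain ⟨n, _, hn⟩ := (Ideal.IsPrime.prod_mem_iff).mp h
    exact hσ n hn
  have hsN' : ∀ m ∈ N', s • m ∈ T := by
    intro m hm
    rw [← hS] at hm
    refine Submodule.span_induction (p := fun m _ => s • m ∈ T) ?_ ?_ ?_ ?_ hm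
    · intro n hn
      have hnS : n ∈ S := Finset.mem_coe.mp hn
      have hnN' : n ∈ N' := by
        rw [← hS]
        exact Submodule.subset_span hn
      have e : s = (∏ j ∈ S.erase n, σ j) * σ n := by
        rw [mul_comm]
        exact (Finset.mul_prod_erase S σ hnS).symm
      rw [e, mul_smul]
      exact T.smul_mem _ (hσT n hnN')
    · rw [smul_zero]
      exact T.zero_mem
    · intro a b _ _ ha hb
      rw [smul_add]
      exact T.add_mem ha hb
    · intro a b _ hb
      rw [smul_comm]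
      exact T.smul_mem a hb
  -- the embedding of A/p in M/N
  let ι₀ : A →ₗ[A] M ⧸ N := LinearMap.toSpanSingleton A (M ⧸ N) (N.mkQ x)
  have hι₀ker : LinearMap.ker ι₀ = p := by
    ext a
    rw [LinearMap.mem_ker, LinearMap.toSpanSingleton_apply, hmemp, ← map_smul,
      Submodule.mkQ_apply, Submodule.Quotient.mk_eq_zero]
  let ι : (A ⧸ p) →ₗ[A] M ⧸ N := Submodule.liftQ p ι₀ hι₀ker.ge
  have hι : Function.Injective ι := by
    rw [← LinearMap.ker_eq_bot]
    exact Submodule.ker_liftQ_eq_bot _ _ _ hι₀ker.le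
  let h₀ : ↥N' →ₗ[A] M ⧸ N := s • (N.mkQ ∘ₗ N'.subtype)
  have hh₀ : ∀ m : ↥N', h₀ m = N.mkQ (s • (m : M)) := by
    intro m
    rw [map_smul]
    rfl
  have hrange : ∀ m : ↥N', h₀ m ∈ LinearMap.range ι := by
    intro m
    have h1 : s • (m : M) ∈ T := hsN' m m.2
    obtain ⟨y, hy, z, hz, hyz⟩ := Submodule.mem_sup.mp h1
    obtain ⟨a, rfl⟩ := Submodule.mem_span_singleton.mp hz
    refine ⟨Submodule.Quotient.mk a, ?_⟩
    rw [hh₀, ← hyz, map_add]
    have h2 : N.mkQ y = 0 := by
      rw [Submodule.mkQ_apply, Submodule.Quotient.mk_eq_zero]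
      exact hy
    rw [h2, zero_add, map_smul]
    rfl
  let e := LinearEquiv.ofInjective ι hι
  let g₀ : ↥N' →ₗ[A] (A ⧸ p) :=
    e.symm.toLinearMap ∘ₗ (h₀.codRestrict (LinearMap.range ι) hrange)
  have hg₀ : ∀ m : ↥N', g₀ m = 0 ↔ (m : M) ∈ N := by
    intro m
    have h1 : g₀ m = 0 ↔ h₀ m = 0 := by
      show e.symm (h₀.codRestrict (LinearMap.range ι) hrange m) = 0 ↔ _
      rw [LinearEquiv.map_eq_zero_iff]
      constructor
      · intro h
        exact congrArg Subtype.val h
      · intro h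
        exact Subtype.ext h
    rw [h1, hh₀, Submodule.mkQ_apply, Submodule.Quotient.mk_eq_zero]
    constructor
    · intro h
      exact hsat s hs _ h
    · intro h
      exact N.smul_mem s h
  refine ⟨Submodule.liftQ _ g₀ ?_, ?_⟩
  · intro m hm
    rw [LinearMap.mem_ker, hg₀]
    exact hm
  · rw [← LinearMap.ker_eq_bot]
    apply Submodule.ker_liftQ_eq_bot
    intro m hm
    exact (hg₀ m).mp (LinearMap.mem_ker.mp hm)

end aux


/-- Let A be a Noetherian ring and M a finite A-module whose set of associated primes is a single prime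
p. Then M has a finite decreasing filtration by submodules M = M_0 ⊇ M_1 ⊇ ⋯ ⊇ M_m = 0 such that
each quotient M_h/M_{h+1} is isomorphic to a submodule of A/p (i.e. embeds A-linearly into A/p). -/
theorem result (A : Type u) [CommRing A] [IsNoetherianRing A]
    (M : Type u) [AddCommGroup M] [Module A M] [Module.Finite A M] (p : Ideal A)
    (hp : associatedPrimes A M = {p}) :
    ∃ (m : ℕ) (F : Fin (m + 1) → Submodule A M), Antitone F ∧ F 0 = ⊤ ∧ F (Fin.last m) = ⊥ ∧
      ∀ i : Fin m, ∃ g : (↥(F i.castSucc) ⧸ Submodule.comap (F i.castSucc).subtype (F i.succ)) →ₗ[A] (A ⧸ p),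
        Function.Injective g := by
  classical
  have hpmem : p ∈ associatedPrimes A M := by
    rw [hp]
    exact Set.mem_singleton p
  haveI hpp : p.IsPrime := (AssociatedPrimes.mem_iff.mp hpmem).isPrime
  obtain ⟨k, hk⟩ : ∃ k, p ^ k ≤ Module.annihilator A M := by
    apply Ideal.exists_pow_le_of_le_radical_of_fg _ (IsNoetherian.noetherian p)
    rw [← Ideal.sInf_minimalPrimes]
    refine le_sInf fun P hP => ?_
    have h1 := Module.associatedPrimes.minimalPrimes_annihilator_subset_associatedPrimes A M hP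
    rw [hp] at h1
    rw [Set.mem_singleton_iff.mp h1]
  have hbot : Sat p (⊥ : Submodule A M) := by
    intro s hs m hm
    rw [Submodule.mem_bot] at hm ⊢
    by_contra hm0
    have h1 : s ∈ {r : A | ∃ x : M, x ≠ 0 ∧ r • x = 0} := ⟨m, hm0, hm⟩
    rw [← biUnion_associatedPrimes_eq_zero_divisors A M, hp] at h1
    simp only [Set.mem_singleton_iff, Set.iUnion_iUnion_eq_left, SetLike.mem_coe] at h1
    exact hs h1
  have key : (fun N : Submodule A M => Sat p N ∧ ∃ (m : ℕ) (G : Fin (m + 1) → Submodule A M),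
      G 0 = ⊥ ∧ G (Fin.last m) = N ∧
        ∀ i : Fin m, G i.castSucc ≤ G i.succ ∧ Q p (G i.castSucc) (G i.succ)) ⊤ := by
    refine WellFoundedGT.induction_top
      ⟨⊥, hbot, 0, fun _ => ⊥, rfl, rfl, fun i => i.elim0⟩ ?_
    rintro N hN ⟨hsat, m, G, hG0, hGl, hG⟩
    obtain ⟨N', hlt, hsat', hQ⟩ := step p k hk N hN hsat
    refine ⟨N', hlt, hsat', m + 1, (Fin.snoc G N' : Fin (m + 1 + 1) → Submodule A M),
      ?_, ?_, ?_⟩
    · have h0 : (0 : Fin (m + 1 + 1)) = Fin.castSucc (0 : Fin (m + 1)) := rfl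
      rw [h0, Fin.snoc_castSucc]
      exact hG0
    · exact Fin.snoc_last _ _
    · intro i
      refine Fin.lastCases ?_ (fun j => ?_) i
      · simp only [Fin.succ_last, Fin.snoc_last, Fin.snoc_castSucc, hGl]
        exact ⟨hlt.le, hQ⟩
      · simp only [Fin.succ_castSucc, Fin.snoc_castSucc]
        exact hG j
  obtain ⟨-, m, G, hG0, hGl, hG⟩ := key
  have hmono : Monotone G := Fin.monotone_iff_le_succ.mpr fun i => (hG i).1
  refine ⟨m, fun i => G (Fin.rev i), ?_, ?_, ?_, ?_⟩
  · intro i j hij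
    exact hmono (Fin.rev_le_rev.mpr hij)
  · show G (Fin.rev 0) = ⊤
    rw [Fin.rev_zero]
    exact hGl
  · show G (Fin.rev (Fin.last m)) = ⊥
    rw [Fin.rev_last]
    exact hG0
  · intro i
    have h1 := (hG (Fin.rev i)).2
    rw [← Fin.rev_succ, ← Fin.rev_castSucc] at h1
    exact h1

end Groth.Agent.S4722
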