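import Groth.Statements.S4723
import Groth.Agent.Lib.Helper8.Hull3
import Groth.Agent.Lib.Lead.PC3

set_option autoImplicit false
universe u
open EGA4

namespace Groth.Agent.S4723

/-- Let A be a Noetherian ring which is either a quotient of a regular Noetherian ring or universally
catenary and universally Japanese. Then for every prime q of A, writing B = A/q with fraction field
K, and every ideal J of B of height at least 2, the subring of K consisting of the elements lying in
B_p for every prime p of B not containing J (the ring of sections of the structure sheaf of Spec B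
over the open complement of V(J)) is a finite B-algebra (some B-subalgebra of K with exactly this
underlying set is a finitely generated B-module). -/
theorem result (A : Type u) [CommRing A] [IsNoetherianRing A]
    (hA : (∃ (R : Type u) (_ : CommRing R), IsNoetherianRing R ∧ IsRegularRing R ∧
        ∃ f : R →+* A, Function.Surjective f) ∨
      (CAlg.IsUniversallyCatenary A ∧ CAlg.IsUniversallyJapanese A))
    (q : Ideal A) [q.IsPrime] (J : Ideal (A ⧸ q)) (hJ2 : (2 : ℕ∞) ≤ J.height) :
    ∃ B' : Subalgebra (A ⧸ q) (FractionRing (A ⧸ q)),
      (B' : Set (FractionRing (A ⧸ q))) =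
          {x | ∀ (p : Ideal (A ⧸ q)) [p.IsPrime], ¬ J ≤ p →
            ∃ s : A ⧸ q, s ∉ p ∧ ∃ a : A ⧸ q,
              algebraMap (A ⧸ q) (FractionRing (A ⧸ q)) a = algebraMap (A ⧸ q) (FractionRing (A ⧸ q)) s * x} ∧
        Module.Finite (A ⧸ q) B' := by
  classical
  rcases hA with ⟨R, _, hRN, hRreg, f, hf⟩ | hA
  · -- quotient of a regular ring
    exact Groth.Agent.Helper8.Hull.exists_subalgebra_finite_of_regular hRreg
      ((Ideal.Quotient.mk q).comp f) (Ideal.Quotient.mk_surjective.comp hf)
      (FractionRing (A ⧸ q)) J hJ2
  · -- universally catenary and universally Japanese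
    obtain ⟨B'', hB''set, hfin⟩ := Groth.Agent.Lead.PC.heightOneHullFinite_quot hA q
    let T : Set (FractionRing (A ⧸ q)) := {x | ∀ (p : Ideal (A ⧸ q)) [p.IsPrime], ¬ J ≤ p →
      ∃ s : A ⧸ q, s ∉ p ∧ ∃ a : A ⧸ q,
        algebraMap (A ⧸ q) (FractionRing (A ⧸ q)) a = algebraMap (A ⧸ q) (FractionRing (A ⧸ q)) s * x}
    have hTle : T ⊆ (B'' : Set (FractionRing (A ⧸ q))) := by
      intro x hx
      rw [hB''set]
      intro p hp hp1
      refine hx p (fun hJp => ?_)
      have h2 := Ideal.height_mono hJp
      rw [hp1] at h2
      exact absurd (le_trans hJ2 h2) (by norm_num)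
    let B' : Subalgebra (A ⧸ q) (FractionRing (A ⧸ q)) :=
      { carrier := T
        mul_mem' := by
          intro x y hx hy p hp hJp
          obtain ⟨s, hsp, a, ha⟩ := hx p hJp
          obtain ⟨s', hsp', a', ha'⟩ := hy p hJp
          refine ⟨s * s', fun h => ?_, a * a', ?_⟩
          · rcases hp.mem_or_mem h with h | h
            · exact hsp h
            · exact hsp' h
          · rw [map_mul, map_mul, ha, ha']
            ring
        one_mem' := by
          intro p hp _
          exact ⟨1, hp.one_notMem, 1, by rw [map_one, mul_one]⟩
        add_mem' := by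
          intro x y hx hy p hp hJp
          obtain ⟨s, hsp, a, ha⟩ := hx p hJp
          obtain ⟨s', hsp', a', ha'⟩ := hy p hJp
          refine ⟨s * s', fun h => ?_, a * s' + a' * s, ?_⟩
          · rcases hp.mem_or_mem h with h | h
            · exact hsp h
            · exact hsp' h
          · rw [map_add, map_mul, map_mul, map_mul, ha, ha']
            ring
        zero_mem' := by
          intro p hp _
          exact ⟨1, hp.one_notMem, 0, by rw [map_zero, mul_zero]⟩
        algebraMap_mem' := by
          intro r p hp _
          exact ⟨1, hp.one_notMem, r, by rw [map_one, one_mul]⟩ }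
    refine ⟨B', rfl, ?_⟩
    haveI := hfin
    haveI : IsNoetherian (A ⧸ q) B'' := isNoetherian_of_isNoetherianRing_of_finite (A ⧸ q) B''
    let ι : B' →ₗ[A ⧸ q] B'' :=
      { toFun := fun x => ⟨x.1, hTle x.2⟩
        map_add' := fun _ _ => rfl
        map_smul' := fun _ _ => rfl }
    have hι : Function.Injective ι := by
      intro x y h
      have h' : (ι x : FractionRing (A ⧸ q)) = (ι y : FractionRing (A ⧸ q)) := congrArg _ h
      exact Subtype.ext h'
    exact Module.Finite.of_injective ι hι

end Groth.Agent.S4723
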