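import Groth.Statements.S4729

set_option autoImplicit false
universe u
open EGA4

namespace Groth.Agent.S4729

theorem mem_support_localizedModule_iff {A : Type*} [CommRing A] (S : Submonoid A)
    (M : Type*) [AddCommGroup M] [Module A M] (P : PrimeSpectrum (Localization S)) :
    P ∈ Module.support (Localization S) (LocalizedModule S M) ↔
      (PrimeSpectrum.comap (algebraMap A (Localization S)) P) ∈ Module.support A M := by
  rw [Module.mem_support_iff', Module.mem_support_iff']
  constructor
  · rintro ⟨x, hx⟩
    induction x using LocalizedModule.induction_on with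
    | h m s =>
      refine ⟨m, fun r hr hrm => ?_⟩
      refine hx (algebraMap A (Localization S) r) hr ?_
      rw [algebraMap_smul, LocalizedModule.smul'_mk, hrm, LocalizedModule.zero_mk]
  · rintro ⟨m, hm⟩
    refine ⟨LocalizedModule.mk m 1, fun r' hr' h0 => ?_⟩
    obtain ⟨a, t, rfl⟩ := IsLocalization.exists_mk'_eq S r'
    have h1 : IsLocalization.mk' (Localization S) a t • LocalizedModule.mk m (1 : S) =
        LocalizedModule.mk (a • m) t := by
      rw [← Localization.mk_eq_mk', LocalizedModule.mk_smul_mk, mul_one]
    rw [h1, ← LocalizedModule.zero_mk (1 : S), LocalizedModule.mk_eq] at h0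
    obtain ⟨u, hu⟩ := h0
    have h2 : ((u : A) * a) • m = 0 := by
      rw [mul_smul]
      have : u • a • m = 0 := by simpa using hu
      exact this
    have h3 : (u : A) * a ∈ (PrimeSpectrum.comap (algebraMap A (Localization S)) P).asIdeal := by
      by_contra hn
      exact hm _ hn h2
    apply hr'
    have h4 : algebraMap A (Localization S) ((u : A) * a) ∈ P.asIdeal := h3
    have h5 : IsLocalization.mk' (Localization S) a t =
        algebraMap A (Localization S) ((u : A) * a) * IsLocalization.mk' (Localization S) 1 (u * t) := by
      rw [← IsLocalization.mk'_eq_mul_mk'_one, IsLocalization.mk'_eq_iff_eq]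
      simp only [Submonoid.coe_mul]
      ring_nf
    rw [h5]
    exact Ideal.mul_mem_right _ _ h4

/-- Let A be a commutative ring, M a finite A-module and p ⊆ q prime ideals of A (so that p is a
generization of q). Then the dimension of the A_p-module M_p is at most the dimension of the
A_q-module M_q. -/
theorem result (A : Type u) [CommRing A] (M : Type u) [AddCommGroup M] [Module A M]
    [Module.Finite A M] (p q : Ideal A) [p.IsPrime] [q.IsPrime] (hpq : p ≤ q) :
    Module.supportDim (Localization.AtPrime p) (LocalizedModule p.primeCompl M) ≤
      Module.supportDim (Localization.AtPrime q) (LocalizedModule q.primeCompl M) := by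
  unfold Module.supportDim
  have hle : ∀ P : PrimeSpectrum (Localization.AtPrime p),
      P.asIdeal.comap (algebraMap A (Localization.AtPrime p)) ≤ q := by
    intro P
    have h1 : P.asIdeal ≤ IsLocalRing.maximalIdeal (Localization.AtPrime p) :=
      IsLocalRing.le_maximalIdeal P.2.ne_top
    have h2 := Ideal.comap_mono (f := algebraMap A (Localization.AtPrime p)) h1
    have h3 : (IsLocalRing.maximalIdeal (Localization.AtPrime p)).comap
        (algebraMap A (Localization.AtPrime p)) = p := Localization.AtPrime.under_maximalIdeal
    rw [h3] at h2
    exact h2.trans hpq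
  have hdisj : ∀ P : PrimeSpectrum (Localization.AtPrime p),
      Disjoint (q.primeCompl : Set A)
        ((P.asIdeal.comap (algebraMap A (Localization.AtPrime p)) : Ideal A) : Set A) := by
    intro P
    rw [Set.disjoint_left]
    intro a ha ha'
    exact ha (hle P ha')
  have hprime : ∀ P : PrimeSpectrum (Localization.AtPrime p),
      (Ideal.map (algebraMap A (Localization.AtPrime q))
        (P.asIdeal.comap (algebraMap A (Localization.AtPrime p)))).IsPrime := fun P =>
    IsLocalization.isPrime_of_isPrime_disjoint q.primeCompl _ _ (Ideal.comap_isPrime _ _) (hdisj P)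
  have hcomap : ∀ P : PrimeSpectrum (Localization.AtPrime p),
      (Ideal.map (algebraMap A (Localization.AtPrime q))
        (P.asIdeal.comap (algebraMap A (Localization.AtPrime p)))).comap
          (algebraMap A (Localization.AtPrime q)) =
        P.asIdeal.comap (algebraMap A (Localization.AtPrime p)) := fun P =>
    IsLocalization.under_map_of_isPrime_disjoint q.primeCompl _ (Ideal.comap_isPrime _ _) (hdisj P)
  let g : Module.support (Localization.AtPrime p) (LocalizedModule p.primeCompl M) →
      Module.support (Localization.AtPrime q) (LocalizedModule q.primeCompl M) := fun P =>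
    ⟨⟨_, hprime P.1⟩, by
      rw [mem_support_localizedModule_iff q.primeCompl M]
      have h1 := (mem_support_localizedModule_iff p.primeCompl M P.1).1 P.2
      have h2 : PrimeSpectrum.comap (algebraMap A (Localization q.primeCompl)) ⟨_, hprime P.1⟩ =
          PrimeSpectrum.comap (algebraMap A (Localization p.primeCompl)) P.1 :=
        PrimeSpectrum.ext (hcomap P.1)
      rw [h2]
      exact h1⟩
  refine Order.krullDim_le_of_strictMono g ?_
  intro P₁ P₂ h
  have h' : P₁.1.asIdeal < P₂.1.asIdeal := h
  have hmono : (g P₁).1.asIdeal ≤ (g P₂).1.asIdeal :=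
    Ideal.map_mono (Ideal.comap_mono h'.le)
  refine lt_of_le_of_ne hmono ?_
  intro heq
  have heq' : (g P₁).1.asIdeal = (g P₂).1.asIdeal := congrArg (fun z => z.1.asIdeal) heq
  have h3 := congrArg (Ideal.comap (algebraMap A (Localization.AtPrime q))) heq'
  change Ideal.comap _ (Ideal.map _ _) = Ideal.comap _ (Ideal.map _ _) at h3
  rw [hcomap, hcomap] at h3
  have h4 := congrArg (Ideal.map (algebraMap A (Localization.AtPrime p))) h3
  have h5 : ∀ J : Ideal (Localization.AtPrime p),
      Ideal.map (algebraMap A (Localization.AtPrime p)) (J.comap (algebraMap A (Localization.AtPrime p))) = J :=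
    fun J => IsLocalization.map_under p.primeCompl (Localization.AtPrime p) J
  rw [h5, h5] at h4
  exact h'.ne h4

end Groth.Agent.S4729
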