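import Groth.Statements.S4731

set_option autoImplicit false
universe u
open EGA4

namespace Groth.Agent.S4731

theorem isNoetherian_of_surjective_algebraMap {R S M : Type*} [CommRing R] [CommRing S]
    [Algebra R S] [AddCommGroup M] [Module R M] [Module S M] [IsScalarTower R S M]
    (hs : Function.Surjective (algebraMap R S)) [IsNoetherian S M] : IsNoetherian R M := by
  rw [isNoetherian_iff'] 
  let g : Submodule R M → Submodule S M := fun N => Submodule.span S (N : Set M)
  have hg : StrictMono g := by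
    intro N₁ N₂ h
    refine lt_of_le_of_ne (Submodule.span_mono h.le) ?_
    intro heq
    have h1 := congrArg (Submodule.restrictScalars R) heq
    simp only [g] at h1
    rw [Submodule.restrictScalars_span R S hs, Submodule.restrictScalars_span R S hs,
      Submodule.span_eq, Submodule.span_eq] at h1
    exact h.ne h1
  have : WellFoundedGT (Submodule S M) := (isNoetherian_iff' (R := S) (M := M)).1 inferInstance
  exact hg.wellFoundedGT

/-- Let S → R be an injective homomorphism of commutative rings making R a finite S-module, with R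
Noetherian; let c be the conductor of S in R, the ideal of those s in S with s R contained in (the
image of) S. If S/c is Noetherian, then every increasing sequence of ideals of S contained in c is
eventually constant. -/
theorem result (S R : Type u) [CommRing S] [CommRing R] [Algebra S R]
    [FaithfulSMul S R] [IsNoetherianRing R] [Module.Finite S R] (c : Ideal S)
    (hc : ∀ s : S, s ∈ c ↔ ∀ r : R, ∃ s' : S, algebraMap S R s' = algebraMap S R s * r)
    [IsNoetherianRing (S ⧸ c)] (a : ℕ →o Ideal S) (ha : ∀ n, a n ≤ c) :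
    ∃ N : ℕ, ∀ n, N ≤ n → a n = a N := by
  classical
  set φ := algebraMap S R with hφ
  have hinj : Function.Injective φ := FaithfulSMul.algebraMap_injective S R
  have hcR : ∀ t ∈ c, ∀ r : R, ∃ t' ∈ c, φ t' = φ t * r := by
    intro t ht r
    obtain ⟨t', ht'⟩ := (hc t).1 ht r
    refine ⟨t', (hc t').2 fun r' => ?_, ht'⟩
    obtain ⟨t'', ht''⟩ := (hc t).1 ht (r * r')
    exact ⟨t'', by rw [ht'', ht', mul_assoc]⟩
  let b : ℕ →o Ideal R :=
    ⟨fun n => Ideal.map φ (a n), fun m n h => Ideal.map_mono (a.monotone h)⟩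
  obtain ⟨N, hN⟩ := monotone_stabilizes_iff_noetherian.2 (inferInstance : IsNoetherian R R) b
  let J : Ideal R := Ideal.map φ (a N)
  let J' : Ideal S := J.comap φ
  have haJ' : ∀ n, a n ≤ J' := by
    intro n x hx
    change φ x ∈ J
    by_cases h : n ≤ N
    · exact Ideal.mem_map_of_mem φ (a.monotone h hx)
    · have h1 := hN n (le_of_not_ge h)
      have h2 : φ x ∈ Ideal.map φ (a n) := Ideal.mem_map_of_mem φ hx
      change φ x ∈ b N
      rw [h1]; exact h2
  have hF3 : ∀ n, N ≤ n → c * J' ≤ a n := by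
    intro n hn
    have key : ∀ y ∈ Ideal.map φ (a n), ∀ t ∈ c, ∃ z ∈ a n, φ z = φ t * y := by
      intro y hy
      refine Submodule.span_induction ?_ ?_ ?_ ?_ hy
      · rintro _ ⟨x, hx, rfl⟩ t ht
        exact ⟨t * x, Ideal.mul_mem_left _ _ hx, map_mul φ t x⟩
      · intro t ht; exact ⟨0, zero_mem _, by simp⟩
      · intro y₁ y₂ _ _ h₁ h₂ t ht
        obtain ⟨z₁, hz₁, e₁⟩ := h₁ t ht
        obtain ⟨z₂, hz₂, e₂⟩ := h₂ t ht
        exact ⟨z₁ + z₂, add_mem hz₁ hz₂, by rw [map_add, e₁, e₂, mul_add]⟩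
      · intro r y _ h t ht
        obtain ⟨t', ht', e'⟩ := hcR t ht r
        obtain ⟨z, hz, e⟩ := h t' ht'
        exact ⟨z, hz, by rw [e, e', smul_eq_mul, mul_assoc]⟩
    rw [Ideal.mul_le]
    intro t ht s hs
    have hs' : φ s ∈ Ideal.map φ (a n) := by
      have h1 : φ s ∈ b N := hs
      rw [hN n hn] at h1; exact h1
    obtain ⟨z, hz, e⟩ := key _ hs' t ht
    have h2 : z = t * s := hinj (by rw [e, map_mul])
    rw [← h2]; exact hz
  have hF2 : ∀ y ∈ J, ∃ s ∈ c, φ s = y := by
    intro y hy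
    refine Submodule.span_induction ?_ ?_ ?_ ?_ hy
    · rintro _ ⟨x, hx, rfl⟩; exact ⟨x, ha N hx, rfl⟩
    · exact ⟨0, zero_mem _, map_zero _⟩
    · rintro y₁ y₂ _ _ ⟨s₁, h₁, rfl⟩ ⟨s₂, h₂, rfl⟩
      exact ⟨s₁ + s₂, add_mem h₁ h₂, map_add _ _ _⟩
    · rintro r y _ ⟨s, hs, rfl⟩
      obtain ⟨t', ht', e'⟩ := hcR s hs r
      exact ⟨t', ht', by rw [e', smul_eq_mul, mul_comm]⟩
  have hfinRJ : Module.Finite R J := Module.Finite.of_fg (IsNoetherian.noetherian J)
  have hfinSJ : Module.Finite S J := Module.Finite.trans R J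
  let e : J' →ₗ[S] J :=
    { toFun := fun s => ⟨φ s.1, s.2⟩
      map_add' := fun x y => Subtype.ext (map_add φ x.1 y.1)
      map_smul' := fun r x => Subtype.ext (by
        change φ (r • x.1) = r • φ x.1
        rw [smul_eq_mul, map_mul, Algebra.smul_def]) }
  have he : Function.Bijective e := by
    constructor
    · intro x y h
      exact Subtype.ext (hinj (congrArg Subtype.val h))
    · rintro ⟨y, hy⟩
      obtain ⟨s, -, rfl⟩ := hF2 y hy
      exact ⟨⟨s, hy⟩, rfl⟩
  have hfinJ' : Module.Finite S J' := Module.Finite.equiv (LinearEquiv.ofBijective e he).symm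
  have hQfin : Module.Finite (S ⧸ c) (↥J' ⧸ (c • (⊤ : Submodule S ↥J'))) :=
    Module.Finite.of_restrictScalars_finite S _ _
  have hQ1 : IsNoetherian (S ⧸ c) (↥J' ⧸ (c • (⊤ : Submodule S ↥J'))) :=
    isNoetherian_of_isNoetherianRing_of_finite (S ⧸ c) _
  have hQ2 : IsNoetherian S (↥J' ⧸ (c • (⊤ : Submodule S ↥J'))) :=
    isNoetherian_of_surjective_algebraMap (R := S) (S := S ⧸ c) Ideal.Quotient.mk_surjective
  let Nn : ℕ →o Submodule S (↥J' ⧸ (c • (⊤ : Submodule S ↥J'))) :=
    ⟨fun n => Submodule.map (Submodule.mkQ _) (Submodule.comap J'.subtype (a n)),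
      fun m n h => Submodule.map_mono (Submodule.comap_mono (a.monotone h))⟩
  obtain ⟨N₁, hN₁⟩ := monotone_stabilizes_iff_noetherian.2 hQ2 Nn
  refine ⟨max N N₁, fun n hn => le_antisymm ?_ (a.monotone hn)⟩
  intro y hy
  have hyJ : y ∈ J' := haJ' n hy
  have h1 : Submodule.mkQ (c • (⊤ : Submodule S ↥J')) ⟨y, hyJ⟩ ∈ Nn n :=
    Submodule.mem_map_of_mem (show (⟨y, hyJ⟩ : J') ∈ Submodule.comap J'.subtype (a n) from hy)
  have h2 : Nn n = Nn (max N N₁) := by
    rw [← hN₁ n (le_trans (le_max_right _ _) hn), ← hN₁ _ (le_max_right _ _)]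
  rw [h2] at h1
  obtain ⟨z, hz, ez⟩ := h1
  have h3 : z - ⟨y, hyJ⟩ ∈ c • (⊤ : Submodule S ↥J') := by
    rw [← Submodule.Quotient.eq]
    exact ez
  have h4 : ∀ w ∈ c • (⊤ : Submodule S ↥J'), (w : S) ∈ a (max N N₁) := by
    intro w hw
    refine Submodule.smul_induction_on hw ?_ ?_
    · intro t ht m _
      exact hF3 _ (le_max_left _ _) (Ideal.mul_mem_mul ht m.2)
    · intro w₁ w₂ h₁ h₂
      exact add_mem h₁ h₂
  have h5 : (z : S) - y ∈ a (max N N₁) := h4 _ h3
  have hz' : (z : S) ∈ a (max N N₁) := hz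
  have h6 : y = (z : S) - ((z : S) - y) := by ring
  rw [h6]
  exact sub_mem hz' h5

end Groth.Agent.S4731
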