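import Groth.Statements.S4732
import Mathlib

set_option autoImplicit false
universe u
open EGA4

namespace Groth.Agent.S4732

open AlgebraicGeometry CategoryTheory in
/-- Let k be a field, X a scheme locally of finite type over k and x a point of X. Then there are an
open neighbourhood U of x, a k-scheme Y all of whose local rings are regular, and an immersion U → Y
compatible with the structure morphisms to Spec k. -/
theorem result (k : Type u) [Field k] {X : Scheme.{u}}
    (f : X ⟶ Spec (CommRingCat.of k)) [LocallyOfFiniteType f] (x : X) :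
    ∃ (U : X.Opens) (_ : x ∈ U) (Y : Scheme.{u}) (g : Y ⟶ Spec (CommRingCat.of k)) (i : (U : Scheme.{u}) ⟶ Y),
      IsImmersion i ∧ i ≫ g = U.ι ≫ f ∧ ∀ y : Y, IsRegularLocalRing (Y.presheaf.stalk y) := by
  obtain ⟨_, ⟨(U : X.Opens), hU : IsAffineOpen U, rfl⟩, hxU, -⟩ :=
    X.isBasis_affineOpens.exists_subset_of_mem_open (Set.mem_univ x) isOpen_univ
  have hUaff : IsAffine (U : Scheme.{u}) := hU
  set g₀ : (U : Scheme.{u}) ⟶ Spec (CommRingCat.of k) := U.ι ≫ f with hg₀
  have hg₀ft : LocallyOfFiniteType g₀ := inferInstance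
  have h1 : g₀.appTop.hom.FiniteType :=
    (HasRingHomProperty.iff_of_isAffine (P := @LocallyOfFiniteType)).1 hg₀ft
  set φ : CommRingCat.of k ⟶ Γ((U : Scheme.{u}), ⊤) :=
    (Scheme.ΓSpecIso (CommRingCat.of k)).inv ≫ g₀.appTop with hφ
  have hφft : φ.hom.FiniteType := by
    rw [hφ, CommRingCat.hom_comp]
    exact h1.comp (RingHom.FiniteType.of_surjective _
      (ConcreteCategory.bijective_of_isIso (Scheme.ΓSpecIso (CommRingCat.of k)).inv).2)
  let _ : Algebra k Γ((U : Scheme.{u}), ⊤) := φ.hom.toAlgebra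
  have hft : Algebra.FiniteType k Γ((U : Scheme.{u}), ⊤) := hφft
  obtain ⟨n, ψ, hψ⟩ := Algebra.FiniteType.iff_quotient_mvPolynomial''.1 hft
  let ρ : CommRingCat.of (MvPolynomial (Fin n) k) ⟶ Γ((U : Scheme.{u}), ⊤) :=
    CommRingCat.ofHom ψ.toRingHom
  have hρ : CommRingCat.ofHom (algebraMap k (MvPolynomial (Fin n) k)) ≫ ρ = φ := by
    ext a
    exact ψ.commutes a
  have hci : IsClosedImmersion (Spec.map ρ) := IsClosedImmersion.spec_of_surjective ρ hψ
  refine ⟨U, hxU, Spec (CommRingCat.of (MvPolynomial (Fin n) k)),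
    Spec.map (CommRingCat.ofHom (algebraMap k (MvPolynomial (Fin n) k))),
    (U : Scheme.{u}).isoSpec.hom ≫ Spec.map ρ, inferInstance, ?_, ?_⟩
  · rw [Category.assoc, ← Spec.map_comp, hρ, hφ, Spec.map_comp]
    have h2 := Scheme.toSpecΓ_naturality g₀
    rw [← SpecMap_ΓSpecIso_hom] at h2
    have h3 : g₀ = (U : Scheme.{u}).toSpecΓ ≫ Spec.map g₀.appTop ≫
        Spec.map (Scheme.ΓSpecIso (CommRingCat.of k)).inv := by
      rw [← Category.assoc, ← h2, Category.assoc, ← Spec.map_comp, Iso.inv_hom_id, Spec.map_id,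
        Category.comp_id]
    exact h3.symm
  · intro y
    have hreg : IsRegularRing (MvPolynomial (Fin n) k) := inferInstance
    have : IsRegularLocalRing (Localization.AtPrime y.asIdeal) := inferInstance
    exact IsRegularLocalRing.of_ringEquiv
      (StructureSheaf.stalkIso (MvPolynomial (Fin n) k) y).toRingEquiv

end Groth.Agent.S4732
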