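import Groth.Statements.S4734
import Groth.Agent.Lib.Lead.LocLoc
import Groth.Agent.Lib.Lead.NFLoc
import Groth.Agent.Lib.Lead.NFlat2

set_option autoImplicit false
universe u
open EGA4

namespace Groth.Agent.S4734

/-- Let A be a Noetherian ring, I a nilpotent ideal of A and M a finite A-module whose support is all of
Spec A and which is normally flat along I. Then for every prime p of A: M satisfies Serre's
condition (S_n) at p if and only if the A-module A/I does; and the codepth of M_p is at most n if
and only if the codepth of the A_p-module (A/I)_p is at most n (codepth written additively as dim ≤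
depth + n). -/
theorem result (n : ℕ) (A : Type u) [CommRing A] [IsNoetherianRing A]
    (I : Ideal A) (hI : IsNilpotent I) (M : Type u) [AddCommGroup M] [Module A M] [Module.Finite A M]
    (hsupp : Module.support A M = Set.univ) (hM : EGA4.IsNormallyFlat I M) (p : Ideal A) [p.IsPrime] :
    (EGA4.HasSkAt n A M p ↔ EGA4.HasSkAt n A (A ⧸ I) p) ∧
      (Module.supportDim (Localization.AtPrime p) (LocalizedModule p.primeCompl M) ≤
          ((LocCoh.depth (Localization.AtPrime p) (LocalizedModule p.primeCompl M) : ℕ∞) : WithBot ℕ∞) + n ↔
        Module.supportDim (Localization.AtPrime p) (LocalizedModule p.primeCompl (A ⧸ I)) ≤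
          ((LocCoh.depth (Localization.AtPrime p) (LocalizedModule p.primeCompl (A ⧸ I)) : ℕ∞) : WithBot ℕ∞) + n) := by
  have hsuppQ : Module.support A (A ⧸ I) = Set.univ := by
    rw [Module.support_eq_zeroLocus, Ideal.annihilator_quotient]
    ext x
    simp only [Set.mem_univ, iff_true]
    rw [PrimeSpectrum.mem_zeroLocus, SetLike.coe_subset_coe]
    obtain ⟨n, hn⟩ := hI
    have h1 : I ^ n ≤ x.asIdeal := by
      rw [hn]
      exact bot_le
    exact Ideal.IsPrime.le_of_pow_le h1
  have hDE : ∀ (q : Ideal A) [q.IsPrime],
      Module.supportDim (Localization.AtPrime q) (LocalizedModule q.primeCompl M) =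
        Module.supportDim (Localization.AtPrime q) (LocalizedModule q.primeCompl (A ⧸ I)) ∧
      LocCoh.depth (Localization.AtPrime q) (LocalizedModule q.primeCompl M) =
        LocCoh.depth (Localization.AtPrime q) (LocalizedModule q.primeCompl (A ⧸ I)) := by
    intro q _
    constructor
    · apply le_antisymm
      · exact Groth.Agent.Helper28.ReflDepth.supportDim_localizedModule_mono q M (A ⧸ I)
          (by rw [hsuppQ]; exact Set.subset_univ _)
      · exact Groth.Agent.Helper28.ReflDepth.supportDim_localizedModule_mono q (A ⧸ I) M
          (by rw [hsupp]; exact Set.subset_univ _)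
    · have hNF := Groth.Agent.Lead.NFLoc.isNormallyFlat_localized q.primeCompl I M hM
      have hnil : IsNilpotent (I.map (algebraMap A (Localization.AtPrime q))) := by
        obtain ⟨n, hn⟩ := hI
        refine ⟨n, ?_⟩
        rw [← Ideal.map_pow, hn, Ideal.zero_eq_bot, Ideal.map_bot]
        rfl
      haveI hnt : Nontrivial (LocalizedModule q.primeCompl M) := by
        have h1 : (⟨q, ‹_›⟩ : PrimeSpectrum A) ∈ Module.support A M := by
          rw [hsupp]; exact Set.mem_univ _
        exact Module.mem_support_iff.1 h1
      have h1 := Groth.Agent.Lead.NFlat.depth_eq_of_isNormallyFlat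
        (A := Localization.AtPrime q) (I.map (algebraMap A (Localization.AtPrime q)))
        (LocalizedModule q.primeCompl M) hnil hNF
      have h2 := Groth.Agent.Lead.Depth.depth_localizedModule_eq_of_isLocalizedModule q
        (IsScalarTower.toAlgHom A (A ⧸ I)
          (Localization.AtPrime q ⧸ I.map (algebraMap A (Localization.AtPrime q)))).toLinearMap
      rw [h1, h2]
  refine ⟨?_, ?_⟩
  · rw [Groth.Agent.Lead.LocLoc.hasSkAt_iff, Groth.Agent.Lead.LocLoc.hasSkAt_iff]
    constructor
    · intro h q _ hq
      rw [← (hDE q).1, ← (hDE q).2]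
      exact h q hq
    · intro h q _ hq
      rw [(hDE q).1, (hDE q).2]
      exact h q hq
  · rw [(hDE p).1, (hDE p).2]

end Groth.Agent.S4734
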