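import Groth.Statements.S4736
import Groth.Agent.Lib.Helper7.GeomRed2

set_option autoImplicit false
universe u
open EGA4

namespace Groth.Agent.S4736

/-- Let A → B be a regular homomorphism of Noetherian rings (flat, with geometrically regular fibres)
and S a multiplicative subset of A. Then the induced homomorphism S⁻¹A → S⁻¹B is regular. (S⁻¹A and
S⁻¹B are given here as arbitrary localizations at S and at its image.) -/
theorem result (A B : Type u) [CommRing A] [CommRing B] [IsNoetherianRing A] [IsNoetherianRing B]
    [Algebra A B] (h : CAlg.IsRegularHom A B) (S : Submonoid A)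
    (A' B' : Type u) [CommRing A'] [CommRing B'] [Algebra A A'] [Algebra B B'] [Algebra A' B'] [Algebra A B']
    [IsScalarTower A A' B'] [IsScalarTower A B B'] [IsLocalization S A']
    [IsLocalization (Algebra.algebraMapSubmonoid B S) B'] :
    CAlg.IsRegularHom A' B' := by
  obtain ⟨hflat, hfib⟩ := h
  have hreg : ∀ (p' : Ideal A') [p'.IsPrime],
      CAlg.IsGeometricallyRegular p'.ResidueField (p'.Fiber B') := by
    intro p' _ k' _ _ hfin
    exact Groth.Agent.Helper7.GeomRed.fibre_transfer_localization A B S A' B'
      (fun R _ => IsRegularRing R)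
      (fun R R' _ _ e hR => @IsRegularRing.of_ringEquiv R _ R' _ e hR)
      (fun p _ k' _ _ hf => (hfib p).2 k' hf) p' k' hfin
  refine ⟨Groth.Agent.Helper7.GeomRed.flat_localization A B S A' B', fun p' _ => ⟨?_, hreg p'⟩⟩
  have h1 : IsRegularRing (TensorProduct p'.ResidueField p'.ResidueField (p'.Fiber B')) :=
    hreg p' p'.ResidueField inferInstance
  have h2 : IsRegularRing (p'.Fiber B') :=
    @IsRegularRing.of_ringEquiv _ _ _ _
      (Algebra.TensorProduct.lid p'.ResidueField (p'.Fiber B')).toRingEquiv h1
  exact inferInstance

end Groth.Agent.S4736
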