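import Groth.Statements.S4737
import Groth.Agent.Lib.Helper7.GeomRed3

set_option autoImplicit false
universe u
open EGA4

namespace Groth.Agent.S4737

/-- The property 'geometrically regular', case of a local ring: let A be a Noetherian local ring whose
completion map A → Â is regular (the formal fibres of A are geometrically regular). Then for every
proper ideal I of A, the completion map of the local ring A/I is regular. -/
theorem result (A : Type u) [CommRing A] [IsNoetherianRing A] [IsLocalRing A]
    (hA : CAlg.IsRegularHom A (EGA4.Cpl A)) (I : Ideal A) [Nontrivial (A ⧸ I)] :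
    CAlg.IsRegularHom (A ⧸ I) (EGA4.Cpl (A ⧸ I)) := by
  obtain ⟨hflat, hfib⟩ := hA
  have hreg : ∀ (p' : Ideal (A ⧸ I)) [p'.IsPrime],
      CAlg.IsGeometricallyRegular p'.ResidueField (p'.Fiber (EGA4.Cpl (A ⧸ I))) := by
    intro p' _ k' _ _ hfin
    exact Groth.Agent.Helper7.GeomRed.formalFibre_transfer_quotient A I
      (fun k k' _ _ _ => Module.Finite k k')
      (fun k₁ k₂ k' _ _ _ _ _ _ _ hb h =>
        Groth.Agent.Helper7.GeomRed.finite_of_bijective k₁ k₂ k' hb h)
      (fun R _ => IsRegularRing R)
      (fun R R' _ _ e hR => @IsRegularRing.of_ringEquiv R _ R' _ e hR)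
      (fun p _ k' _ _ hk => (hfib p).2 k' hk)
      p' k' hfin
  refine ⟨AdicCompletion.flat_of_isNoetherian (IsLocalRing.maximalIdeal (A ⧸ I)), fun p' _ => ⟨?_, hreg p'⟩⟩
  have h1 : IsRegularRing (TensorProduct p'.ResidueField p'.ResidueField (p'.Fiber (EGA4.Cpl (A ⧸ I)))) :=
    hreg p' p'.ResidueField inferInstance
  have h2 : IsRegularRing (p'.Fiber (EGA4.Cpl (A ⧸ I))) :=
    @IsRegularRing.of_ringEquiv _ _ _ _
      (Algebra.TensorProduct.lid p'.ResidueField (p'.Fiber (EGA4.Cpl (A ⧸ I)))).toRingEquiv h1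
  exact inferInstance

end Groth.Agent.S4737
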