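import Groth.Statements.S4738
import Groth.Agent.Lib.Helper7.GeomRed3

set_option autoImplicit false
universe u
open EGA4

namespace Groth.Agent.S4738

/-- For the property 'geometrically reduced', case of a local ring: if the formal fibres of a Noetherian
local ring A are geometrically reduced, then so are the formal fibres of A/I for every proper ideal
I of A. -/
theorem result (A : Type u) [CommRing A] [IsNoetherianRing A] [IsLocalRing A]
    (hA : EGA4.HasGeomReducedFormalFibres A) (I : Ideal A) [Nontrivial (A ⧸ I)] :
    EGA4.HasGeomReducedFormalFibres (A ⧸ I) := by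
  intro p' _
  show Algebra.IsGeometricallyReduced p'.ResidueField (EGA4.formalFibre (A ⧸ I) p')
  rw [Algebra.isGeometricallyReduced_field_iff]
  exact Groth.Agent.Helper7.GeomRed.formalFibre_transfer_quotient A I
    (fun k k' _ _ _ => Algebra.IsAlgebraic k k')
    (fun k₁ k₂ k' _ _ _ _ _ _ _ hb h =>
      Groth.Agent.Helper7.GeomRed.isAlgebraic_of_bijective k₁ k₂ k' hb h)
    (fun R _ => IsReduced R)
    (fun R R' _ _ e hR => isReduced_of_injective e.symm.toRingHom e.symm.injective)
    (fun p _ k' _ _ hk => by
      have := hA p
      have : Algebra.IsAlgebraic p.ResidueField k' := hk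
      infer_instance)
    p' (AlgebraicClosure p'.ResidueField) inferInstance

end Groth.Agent.S4738
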