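import Groth.Statements.S4753
import Groth.Agent.Lib.Helper7.GeomRed1

set_option autoImplicit false
universe u
open EGA4

namespace Groth.Agent.S4753

open TensorProduct Function

/-- Case of reduced morphisms, affine form: let A → B → C be homomorphisms of Noetherian rings such that
B → C is faithfully flat with geometrically reduced fibres and the composite A → C is flat with
geometrically reduced fibres. Then A → B is flat with geometrically reduced fibres. -/
theorem result (A B C : Type u) [CommRing A] [CommRing B] [CommRing C]
    [IsNoetherianRing A] [IsNoetherianRing B] [IsNoetherianRing C] [Algebra A B] [Algebra B C] [Algebra A C]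
    [IsScalarTower A B C] [Module.FaithfullyFlat B C] [Module.Flat A C]
    (hBC : ∀ (q : Ideal B) [q.IsPrime], Algebra.IsGeometricallyReduced q.ResidueField (q.Fiber C))
    (hAC : ∀ (p : Ideal A) [p.IsPrime], Algebra.IsGeometricallyReduced p.ResidueField (p.Fiber C)) :
    Module.Flat A B ∧ ∀ (p : Ideal A) [p.IsPrime], Algebra.IsGeometricallyReduced p.ResidueField (p.Fiber B) := by
  refine ⟨Groth.Agent.Helper7.GeomRed.flat_of_faithfullyFlat_of_flat_comp A B C, fun p _ => ?_⟩
  have := hAC p
  let f : p.Fiber B →ₐ[p.ResidueField] p.Fiber C :=
    Algebra.TensorProduct.map (AlgHom.id _ _) (IsScalarTower.toAlgHom A B C)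
  refine Algebra.IsGeometricallyReduced.of_injective f ?_
  have key : ∀ x : p.Fiber B, TensorProduct.comm A _ _ (f x) =
      (IsScalarTower.toAlgHom A B C).toLinearMap.rTensor p.ResidueField
        (TensorProduct.comm A _ _ x) := by
    intro x
    induction x using TensorProduct.induction_on with
    | zero => simp
    | add x y hx hy => simp only [map_add, hx, hy]
    | tmul a b => simp [f]
  intro x y hxy
  apply (TensorProduct.comm A p.ResidueField B).injective
  apply Groth.Agent.Helper7.GeomRed.rTensor_injective_of_faithfullyFlat A B C p.ResidueField
  rw [← key, ← key, hxy]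

end Groth.Agent.S4753
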