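import Groth.Statements.S4755
import Groth.Agent.Lib.Lead.FE3

set_option autoImplicit false
universe u
open EGA4

namespace Groth.Agent.S4755

/-- For the property 'Cohen–Macaulay', case of a local ring: if the formal fibres of a Noetherian local
ring A are Cohen–Macaulay, then so are the formal fibres of A/I for every proper ideal I of A. -/
theorem result (A : Type u) [CommRing A] [IsNoetherianRing A] [IsLocalRing A]
    (hA : EGA4.HasCMFormalFibres A) (I : Ideal A) [Nontrivial (A ⧸ I)] :
    EGA4.HasCMFormalFibres (A ⧸ I) := by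
  intro p _
  haveI : IsNoetherianRing (AdicCompletion (IsLocalRing.maximalIdeal (A ⧸ I)) (A ⧸ I)) :=
    Groth.Agent.S0543.result _ _
  haveI : IsNoetherianRing (AdicCompletion (IsLocalRing.maximalIdeal A) A) :=
    Groth.Agent.S0543.result _ _
  show LocCoh.IsCohenMacaulayRing
    (p.Fiber (AdicCompletion (IsLocalRing.maximalIdeal (A ⧸ I)) (A ⧸ I)))
  rw [Groth.Agent.Lead.Fib.isCohenMacaulayRing_fiber_iff p]
  intro r _ _
  obtain ⟨P, hP, Q, hQ, hover, h1, h2⟩ := Groth.Agent.Lead.FE.FL_transport A (A ⧸ I)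
    (Ideal.Quotient.mk I) Ideal.Quotient.mk_surjective p r
  rw [h1, h2]
  exact (Groth.Agent.Lead.Fib.isCohenMacaulayRing_fiber_iff P).mp (hA P) Q

end Groth.Agent.S4755
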