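import Groth.Statements.S4756
import Groth.Agent.Lib.Helper7.GeomRed2

set_option autoImplicit false
universe u
open EGA4

namespace Groth.Agent.S4756

theorem isNormalRing_of_ringEquiv' (R R' : Type u) [CommRing R] [CommRing R'] (e : R ≃+* R')
    (hR : EGA4.IsNormalRing R) : EGA4.IsNormalRing R' := by
  intro p hp
  let f : Localization.AtPrime (p.comap e) ≃+* Localization.AtPrime p :=
    IsLocalization.ringEquivOfRingEquiv
      (Localization.AtPrime (p.comap e)) (Localization.AtPrime p) e (e.map_primeCompl_comap_eq p)
  obtain ⟨h1, h2⟩ := hR (p.comap e)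
  have h3 : IsDomain (Localization.AtPrime p) := f.toMulEquiv.isDomain_iff.mp h1
  exact ⟨h3, IsIntegrallyClosed.of_equiv f⟩

/-- Let A → B be a normal homomorphism of Noetherian rings (flat, with geometrically normal fibres) and
S a multiplicative subset of A. Then the induced homomorphism S⁻¹A → S⁻¹B (arbitrary localizations
at S and at its image) is normal. -/
theorem result (A B : Type u) [CommRing A] [CommRing B] [IsNoetherianRing A] [IsNoetherianRing B]
    [Algebra A B] (h : EGA4.IsNormalHom A B) (S : Submonoid A)
    (A' B' : Type u) [CommRing A'] [CommRing B'] [Algebra A A'] [Algebra B B'] [Algebra A' B'] [Algebra A B']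
    [IsScalarTower A A' B'] [IsScalarTower A B B'] [IsLocalization S A']
    [IsLocalization (Algebra.algebraMapSubmonoid B S) B'] :
    EGA4.IsNormalHom A' B' := by
  obtain ⟨hflat, hfib⟩ := h
  refine ⟨Groth.Agent.Helper7.GeomRed.flat_localization A B S A' B', fun p' _ => ?_⟩
  intro k' _ _ hfin
  exact Groth.Agent.Helper7.GeomRed.fibre_transfer_localization A B S A' B'
    (fun R _ => EGA4.IsNormalRing R)
    (fun R R' _ _ e hR => isNormalRing_of_ringEquiv' R R' e hR)
    (fun p _ k' _ _ hf => hfib p k' hf) p' k' hfin

end Groth.Agent.S4756
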