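import Groth.Statements.S4760
import Groth.Agent.Lib.Helper7.LimCons3

set_option autoImplicit false
universe u
open CategoryTheory AlgebraicGeometry
open Lim8

namespace Groth.Agent.S4760

/-- Let S = lim S_i be a cofiltered limit of schemes with affine transition maps, some stage S_{i₀}
being quasi-compact and quasi-separated. Then every subset Z of S that is both locally closed and
constructible is the preimage under the projection S ⟶ S_i of a locally closed constructible subset
of S_i, for some index i over i₀. -/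
theorem result {I : Type u} [SmallCategory I] [IsCofiltered I]
    (D : I ⥤ Scheme.{u}) (c : Limits.Cone D) (hc : Limits.IsLimit c)
    [∀ (i j : I) (f : i ⟶ j), IsAffineHom (D.map f)] (i₀ : I)
    [CompactSpace (D.obj i₀)] [QuasiSeparatedSpace (D.obj i₀)] (Z : Set c.pt)
    (hZ : Topology.IsConstructible Z) (hZ' : IsLocallyClosed Z) :
    ∃ (i : I) (_ : i ⟶ i₀) (Zi : Set (D.obj i)),
      Topology.IsConstructible Zi ∧ IsLocallyClosed Zi ∧ (⇑(c.π.app i) ⁻¹' Zi : Set c.pt) = Z := by
  have : ∀ {i j : I} (f : i ⟶ j), IsAffineHom (D.map f) := fun f => inferInstance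
  obtain ⟨i, φ, Zi, hZi, rfl⟩ :=
    Groth.Agent.Helper7.LimBC.exists_isConstructible_preimage_eq D c hc i₀ Z hZ
  have : CompactSpace (D.obj i) := Groth.Agent.Helper7.LimBC.compactSpace_of_hom D φ
  have hcpt : CompactSpace c.pt := Groth.Agent.Helper7.LimBC.compactSpace_pt D c hc i
  obtain ⟨U, U', hU, hU', hWU⟩ := Groth.Agent.Helper7.LimBC.exists_compact_opens_diff hZ hZ'
  obtain ⟨j, ψ, A, A', hAA'⟩ :=
    Groth.Agent.Helper7.LimBC.exists_preimage_eq_diff_of_constructible D c hc i Zi hZi
      U U' hU hU' hWU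
  refine ⟨j, ψ ≫ φ, D.map ψ ⁻¹' Zi, Scheme.Hom.isConstructible_preimage _ hZi, ?_, ?_⟩
  · rw [hAA']
    exact ⟨A, (A' : Set (D.obj j))ᶜ, A.2, A'.2.isClosed_compl, rfl⟩
  · change (c.π.app j ≫ D.map ψ) ⁻¹' Zi = _
    rw [Limits.Cone.w]

end Groth.Agent.S4760
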