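import Groth.Statements.S4776
import Groth.Agent.Lib.Helper7.LimConn
import Groth.Agent.Lib.Helper7.Geom2

set_option autoImplicit false
universe u
open CategoryTheory AlgebraicGeometry
open Lim8

namespace Groth.Agent.S4776

/-- Let S = lim S_i be a cofiltered limit of schemes whose transition maps are affine, flat and
surjective, some stage S_{i₀} being quasi-compact, and assume that the underlying topological space
of S is Noetherian. Then S is integral if and only if there is an index i over i₀ such that S_j is
integral for every j over i. (The published statement carries neither the quasi-compactness nor the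
Noetherian hypothesis; its proof combines the reducedness criterion with the irreducibility
criterion for limits, and the latter is proved only under these two hypotheses, so they are assumed
here.) -/
theorem result {I : Type u} [SmallCategory I] [IsCofiltered I]
    (D : I ⥤ Scheme.{u}) (c : Limits.Cone D) (hc : Limits.IsLimit c)
    [∀ (i j : I) (f : i ⟶ j), IsAffineHom (D.map f)] (i₀ : I)
    [CompactSpace (D.obj i₀)] [TopologicalSpace.NoetherianSpace c.pt]
    (hf : ∀ (i j : I) (φ : i ⟶ j), Flat (D.map φ) ∧ Surjective (D.map φ)) :
    IsIntegral c.pt ↔ ∃ (i : I) (_ : i ⟶ i₀), ∀ (j : I) (_ : j ⟶ i), IsIntegral (D.obj j) := by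
  have : ∀ {i j : I} (f : i ⟶ j), IsAffineHom (D.map f) := fun f => inferInstance
  have hd : ∀ (i j : I) (φ : i ⟶ j), IsDominant (D.map φ) := fun i j φ => by
    have := (hf i j φ).2
    infer_instance
  have hirr := Groth.Agent.Helper7.LimBC.irreducibleSpace_iff_eventually D c hc i₀ hd
  constructor
  · intro h
    refine ⟨i₀, 𝟙 i₀, fun j φ => ?_⟩
    have h1 : Flat (c.π.app j) :=
      Groth.Agent.Helper7.LimBC.flat_π D c hc j (fun j' φ' => (hf j' j φ').1)
    have h2 : Surjective (c.π.app j) := by
      rw [surjective_iff, ← Set.range_eq_univ,
        Groth.Agent.Helper7.LimBC.range_π_eq_iInter D c hc j]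
      simp only [Set.iInter_eq_univ]
      intro j' φ'
      exact Set.range_eq_univ.mpr (hf j' j φ').2.surj
    have h3 : AlgebraicGeometry.IsReduced (((Functor.const I).obj c.pt).obj j) :=
      inferInstanceAs (AlgebraicGeometry.IsReduced c.pt)
    have h4 : AlgebraicGeometry.IsReduced (D.obj j) :=
      Groth.Agent.Helper7.isReduced_of_flat_surjective (c.π.app j)
    have h5 : IrreducibleSpace (((Functor.const I).obj c.pt).obj j) :=
      inferInstanceAs (IrreducibleSpace c.pt)
    have h6 : IrreducibleSpace (D.obj j) := (c.π.app j).surjective.irreducibleSpace (c.π.app j).continuous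
    exact isIntegral_of_irreducibleSpace_of_isReduced (D.obj j)
  · rintro ⟨i, φ, hi⟩
    have h1 : IrreducibleSpace c.pt := hirr.mpr ⟨i, φ, fun j ψ => by have := hi j ψ; infer_instance⟩
    have h2 : AlgebraicGeometry.IsReduced c.pt := by
      by_contra hcon
      obtain ⟨k, hk⟩ := Groth.Agent.Helper7.LimBC.exists_forall_not_isReduced D c hc hcon
      have := hi (IsCofiltered.min k i) (IsCofiltered.minToRight k i)
      exact hk _ (IsCofiltered.minToLeft k i) inferInstance
    exact isIntegral_of_irreducibleSpace_of_isReduced c.pt

end Groth.Agent.S4776
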