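import Groth.Statements.S4781
import Mathlib
import Groth.Agent.Lib.Helper14.GenericEquidim
import Groth.Agent.S1653
import Groth.Agent.S0402
-- import your own Groth.Agent.* helpers here

set_option autoImplicit false
universe u
open CategoryTheory AlgebraicGeometry
open Cons9

namespace Groth.Agent.S4781

open Topology in
/-- irreducible components correspond under homeomorphisms. -/
theorem preimage_mem_irreducibleComponents {A B : Type*} [TopologicalSpace A] [TopologicalSpace B]
    (h : A ≃ₜ B) (T : Set B) (hT : T ∈ irreducibleComponents B) :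
    h ⁻¹' T ∈ irreducibleComponents A := by
  refine ⟨?_, fun S hS hle => ?_⟩
  · rw [← h.image_symm]
    exact hT.1.image _ h.symm.continuous.continuousOn
  · have h1 : IsIrreducible (h '' S) := hS.image _ h.continuous.continuousOn
    have h2 : T ≤ h '' S := by
      intro t ht
      refine ⟨h.symm t, hle (by simpa using ht), by simp⟩
    have h3 := hT.2 h1 h2
    intro a ha
    exact h3 ⟨a, ha, rfl⟩

/-- Let S be a Noetherian irreducible scheme with generic point η, let X be an irreducible scheme and f
: X ⟶ S a dominant morphism of finite type. Then there is an open neighbourhood U of η in S such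
that, for every s ∈ U, all irreducible components of the fibre f⁻¹(s) have dimension equal to dim
f⁻¹(η). Fibres are taken as subspaces of X and dimensions are topological Krull dimensions. -/
theorem result {X S : Scheme.{u}} (f : X ⟶ S)
    [IsNoetherian S] [IrreducibleSpace S] [IrreducibleSpace X] [IsDominant f]
    [LocallyOfFiniteType f] [QuasiCompact f] :
    ∃ U : S.Opens, genericPoint S ∈ U ∧ ∀ s ∈ U, ∀ T ∈ irreducibleComponents ↥(⇑f ⁻¹' {s}),
      topologicalKrullDim ↥T = topologicalKrullDim ↥(⇑f ⁻¹' {genericPoint S}) := by
  open Groth.Agent.Helper14 Topology in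
  haveI : IsLocallyNoetherian X := LocallyOfFiniteType.isLocallyNoetherian f
  haveI : CompactSpace X := QuasiCompact.compactSpace_of_compactSpace f
  haveI : IsNoetherian X := {}
  have hopen : ∀ n : ℕ, IsOpen {x : X | FlatMor.fibreDimAt f x ≤ n} :=
    fun n => Groth.Agent.S0402.result f n
  have hge : ∀ x : X, FlatMor.fibreDimAt f (genericPoint X) ≤ FlatMor.fibreDimAt f x :=
    Groth.Agent.S1653.fibreDimAt_generic_le' f hopen
  have hgen : f (genericPoint X) = genericPoint S :=
    FibreGeneric.map_genericPoint f (IsDominant.denseRange (f := f))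
  -- the generic fibre dimension is a natural number
  have hξmax : ∀ z' : f.fiber (f (genericPoint X)), z' ⤳ f.asFiber (genericPoint X) →
      z' = f.asFiber (genericPoint X) := by
    intro z' hz'
    have h1 := hz'.map (f.fiberι (f (genericPoint X))).continuous
    rw [f.fiberι_asFiber] at h1
    have h2 : genericPoint X ⤳ f.fiberι (f (genericPoint X)) z' := genericPoint_specializes _
    have h3 : f.fiberι (f (genericPoint X)) z' = genericPoint X := (h1.antisymm h2).eq
    apply (f.fiberι (f (genericPoint X))).isEmbedding.injective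
    rw [h3, f.fiberι_asFiber]
  obtain ⟨e, he⟩ := ResFieldBridge.exists_nat_trdeg_residueField f (genericPoint X)
  have hdimξ : FlatMor.fibreDimAt f (genericPoint X) = e := by
    rw [FibreGeneric.fibreDimAt_eq_stalk_add_trdeg f (genericPoint X) e he,
      FibreComp.ringKrullDim_stalk_of_maximal _ hξmax, zero_add]
  have hfibη : topologicalKrullDim ↥(⇑f ⁻¹' {genericPoint S}) = e := by
    rw [← hdimξ, ← FibreGeneric.dim_genericFibre f, hgen]
    exact (IsHomeomorph.topologicalKrullDim_eq _ (f.fiberHomeo (genericPoint S)).isHomeomorph).symm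
  -- the bad locus
  let Z : Set X := {x : X | FlatMor.fibreDimAt f x ≤ e}ᶜ
  have hZclosed : IsClosed Z := (hopen e).isClosed_compl
  have hZc : IsConstructible Z := by
    have : IsConstructible Zᶜ :=
      (TopologicalSpace.NoetherianSpace.isCompact _).isConstructible hZclosed.isOpen_compl
    simpa using this.compl
  have hfZ : IsConstructible ((f : X → S) '' Z) := f.isConstructible_image hZc
  have hηfZ : genericPoint S ∉ (f : X → S) '' Z := by
    rintro ⟨x, hxZ, hfx⟩
    apply hxZ
    show FlatMor.fibreDimAt f x ≤ e
    have h1 : FlatMor.fibreDimAt f x ≤ topologicalKrullDim (f.fiber (f x)) :=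
      FibreGeneric.localDim_le_dim _
    have h2 : topologicalKrullDim (f.fiber (f x)) = e := by
      rw [← hfibη]
      rw [hfx]
      exact IsHomeomorph.topologicalKrullDim_eq _ (f.fiberHomeo (genericPoint S)).isHomeomorph
    rw [h2] at h1
    exact h1
  have hηcl : genericPoint S ∉ closure ((f : X → S) '' Z) :=
    GenericEquidim.not_mem_closure_of_constructible (genericPoint S)
      (fun U hU hne => (genericPoint_spec S).mem_open_set_iff hU |>.mpr (by simpa using hne))
      hfZ hηfZ
  refine ⟨⟨(closure ((f : X → S) '' Z))ᶜ, isClosed_closure.isOpen_compl⟩, hηcl, ?_⟩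
  intro s hs T hT
  rw [hfibη]
  -- transport to the scheme-theoretic fibre
  have hT' := preimage_mem_irreducibleComponents (f.fiberHomeo s) T hT
  obtain ⟨z, hzT, hzmax⟩ := FibreComp.exists_maximal_of_mem_irreducibleComponents _ hT'
  have hdimT : topologicalKrullDim T = topologicalKrullDim ((f.fiberHomeo s) ⁻¹' T) := by
    have e' : ((f.fiberHomeo s) ⁻¹' T) ≃ₜ T :=
      (f.fiberHomeo s).subtype (fun _ => Iff.rfl)
    exact (IsHomeomorph.topologicalKrullDim_eq _ e'.isHomeomorph).symm
  rw [hdimT, ← hzT, GenericEquidim.dim_closure_maximal f s z hzmax]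
  have hfs : f (f.fiberι s z) = s := (f.fiberHomeo s z).2
  have hnotZ : f.fiberι s z ∉ Z := by
    intro hZ
    apply hs
    apply subset_closure
    exact ⟨_, hZ, hfs⟩
  have hle : FlatMor.fibreDimAt f (f.fiberι s z) ≤ e := by
    by_contra hcon
    exact hnotZ hcon
  have hge' := hge (f.fiberι s z)
  rw [hdimξ] at hge'
  exact le_antisymm hle hge'

end Groth.Agent.S4781
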