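import Groth.Statements.S4783
import Groth.Agent.Lib.Helper7.LimOI2
import Groth.Agent.Lib.Helper7.LimConn

set_option autoImplicit false
universe u
open CategoryTheory AlgebraicGeometry
open Lim8

namespace Groth.Agent.S4783

/-- Let S = lim S_i be a cofiltered limit of schemes whose transition maps are open immersions (in
particular affine), and let S_{i₀} be a Noetherian stage. Then S is integral if and only if there is
an index i over i₀ such that S_j is integral for every j over i. -/
theorem result {I : Type u} [SmallCategory I] [IsCofiltered I]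
    (D : I ⥤ Scheme.{u}) (c : Limits.Cone D) (hc : Limits.IsLimit c)
    [∀ (i j : I) (f : i ⟶ j), IsAffineHom (D.map f)] (i₀ : I)
    [IsNoetherian (D.obj i₀)] (hoi : ∀ (i j : I) (φ : i ⟶ j), IsOpenImmersion (D.map φ)) :
    IsIntegral c.pt ↔ ∃ (i : I) (_ : i ⟶ i₀), ∀ (j : I) (_ : j ⟶ i), IsIntegral (D.obj j) := by
  have : ∀ {i j : I} (f : i ⟶ j), IsAffineHom (D.map f) := fun f => inferInstance
  have hoi' : ∀ {i j : I} (φ : i ⟶ j), IsOpenImmersion (D.map φ) := fun φ => hoi _ _ φ
  have hNS : TopologicalSpace.NoetherianSpace c.pt :=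
    (Groth.Agent.Helper7.LimOI.isInducing_π D c hc hoi' i₀).noetherianSpace
  constructor
  · intro h
    have hN : ∀ U : (D.obj i₀).affineOpens, (nilradical Γ(D.obj i₀, U)).FG := by
      intro U
      have := IsLocallyNoetherian.component_noetherian U
      exact IsNoetherian.noetherian _
    have h1 := Groth.Agent.Helper7.LimOI.exists_forall_isReduced D c hc hoi' i₀ hN inferInstance
    have h2 := Groth.Agent.Helper7.LimOI.exists_forall_irreducibleSpace D c hc hoi' i₀
      inferInstance
    obtain ⟨l₁, ψ₁, h₁⟩ := h1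
    obtain ⟨l₂, ψ₂, h₂⟩ := h2
    obtain ⟨l, a, b, hab⟩ := IsCofiltered.cospan ψ₁ ψ₂
    refine ⟨l, a ≫ ψ₁, fun j χ => ?_⟩
    have := h₁ j (χ ≫ a)
    have := h₂ j (χ ≫ b)
    exact isIntegral_of_irreducibleSpace_of_isReduced _
  · rintro ⟨i, φ, hi⟩
    have hred : IsReduced c.pt := by
      by_contra hcon
      obtain ⟨k, hk⟩ := Groth.Agent.Helper7.LimBC.exists_forall_not_isReduced D c hc hcon
      have := hi (IsCofiltered.min i k) (IsCofiltered.minToLeft i k)
      exact hk (IsCofiltered.min i k) (IsCofiltered.minToRight i k) inferInstance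
    have hirr : IrreducibleSpace c.pt := by
      by_contra hcon
      obtain ⟨k, ψ, hk⟩ :=
        Groth.Agent.Helper7.LimBC.exists_forall_not_irreducibleSpace D c hc i₀ hcon
      have := hi (IsCofiltered.min i k) (IsCofiltered.minToLeft i k)
      exact hk (IsCofiltered.min i k) (IsCofiltered.minToRight i k) inferInstance
    exact isIntegral_of_irreducibleSpace_of_isReduced _

end Groth.Agent.S4783
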