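import Groth.Statements.S4786
import Groth.Agent.Lib.Helper7.ProCons2
import Groth.Agent.Lib.Helper7.LimFlat

set_option autoImplicit false
universe u
open CategoryTheory AlgebraicGeometry
open Lim8

namespace Groth.Agent.S4786

/-- Let S = lim S_i be a cofiltered limit of schemes whose transition maps are affine and flat, let
S_{i₁} be a quasi-compact stage, and let Z' and Z'' be pro-constructible subsets of S_{i₁} such that
the closure of Z' is constructible. Then the preimage of Z'' in S is contained in the closure of the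
preimage of Z' in S if and only if there is an index j over i₁ such that the preimage of Z'' in S_j
is contained in the closure of the preimage of Z' in S_j. -/
theorem result {I : Type u} [SmallCategory I] [IsCofiltered I]
    (D : I ⥤ Scheme.{u}) (c : Limits.Cone D) (hc : Limits.IsLimit c)
    [∀ (i j : I) (f : i ⟶ j), IsAffineHom (D.map f)] (i₁ : I) [CompactSpace (D.obj i₁)]
    (hfl : ∀ (i j : I) (φ : i ⟶ j), Flat (D.map φ))
    (Z' Z'' : Set (D.obj i₁)) (hZ' : ProCons.IsProConstructible Z') (hZ'' : ProCons.IsProConstructible Z'')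
    (hcl : Topology.IsConstructible (closure Z')) :
    (⇑(c.π.app i₁) ⁻¹' Z'' : Set c.pt) ⊆ closure (⇑(c.π.app i₁) ⁻¹' Z' : Set c.pt) ↔
      ∃ (j : I) (φ : j ⟶ i₁), ⇑(D.map φ) ⁻¹' Z'' ⊆ closure (⇑(D.map φ) ⁻¹' Z') := by
  have hinst : ∀ {i j : I} (f : i ⟶ j), IsAffineHom (D.map f) := fun f => inferInstance
  have hCC' : Groth.Agent.Helper7.ProCons2.CC Z' :=
    Groth.Agent.Helper7.ProCons2.CC.of_isProConstructible hZ'
  have hCC'' : Groth.Agent.Helper7.ProCons2.CC Z'' :=
    Groth.Agent.Helper7.ProCons2.CC.of_isProConstructible hZ''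
  constructor
  · intro h
    have hG : Groth.Agent.Helper7.ProCons2.CC (Z'' ∩ (closure Z')ᶜ) :=
      hCC''.inter (Groth.Agent.Helper7.ProCons2.CC.of_isConstructible hcl.compl)
    have hem : c.π.app i₁ ⁻¹' (Z'' ∩ (closure Z')ᶜ) = ∅ := by
      rw [Set.eq_empty_iff_forall_notMem]
      rintro x ⟨hx1, hx2⟩
      apply hx2
      have h1 : x ∈ closure (⇑(c.π.app i₁) ⁻¹' Z' : Set c.pt) := h hx1
      exact (closure_minimal (Set.preimage_mono subset_closure)
        (isClosed_closure.preimage (c.π.app i₁).continuous)) h1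
    obtain ⟨j, φ, hj⟩ := Groth.Agent.Helper7.LimBC.exists_preimage_eq_empty_of_CC D c hc i₁ _ hG hem
    refine ⟨j, φ, ?_⟩
    have := hfl _ _ φ
    intro y hy
    have h1 : y ∈ D.map φ ⁻¹' closure Z' := by
      by_contra hn
      have : y ∈ D.map φ ⁻¹' (Z'' ∩ (closure Z')ᶜ) := ⟨hy, hn⟩
      rw [hj] at this
      exact this
    exact Groth.Agent.Helper7.ProCons2.preimage_closure_subset (D.map φ)
      (Flat.generalizingMap (D.map φ)) hCC' h1
  · rintro ⟨j, φ, hj⟩
    have hflat : Flat (c.π.app i₁) :=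
      Groth.Agent.Helper7.LimBC.flat_π D c hc i₁ (fun j φ => hfl _ _ φ)
    intro x hx
    have hw : c.π.app j ≫ D.map φ = c.π.app i₁ := Limits.Cone.w c φ
    have h1 : c.π.app j x ∈ D.map φ ⁻¹' Z'' := by
      change (c.π.app j ≫ D.map φ) x ∈ Z''
      rw [hw]; exact hx
    have h2 : c.π.app j x ∈ D.map φ ⁻¹' closure Z' :=
      (closure_minimal (Set.preimage_mono subset_closure)
        (isClosed_closure.preimage (D.map φ).continuous)) (hj h1)
    have h3 : x ∈ c.π.app i₁ ⁻¹' closure Z' := by
      change c.π.app i₁ x ∈ closure Z'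
      rw [← hw]; exact h2
    exact Groth.Agent.Helper7.ProCons2.preimage_closure_subset (c.π.app i₁)
      (Flat.generalizingMap (c.π.app i₁)) hCC' h3

end Groth.Agent.S4786
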