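import Groth.Statements.S4790
import Mathlib
import Groth.Agent.Lib.Helper14.HomLimH
import Groth.Agent.Lib.Helper14.LimModH
-- import your own Groth.Agent.* helpers here

set_option autoImplicit false
universe u
open CategoryTheory AlgebraicGeometry
open Lim8

namespace Groth.Agent.S4790

/-- Let S = lim S_i be a cofiltered limit of schemes with affine transition maps and S_{i₀} a
quasi-compact quasi-separated stage; let F₀ and G₀ be quasi-coherent O-modules of finite
presentation on S_{i₀}. Then the pullbacks of F₀ and G₀ along S ⟶ S_{i₀} are isomorphic if and only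
if, for some index j over i₀, their pullbacks along S_j ⟶ S_{i₀} are isomorphic. -/
theorem result {I : Type u} [SmallCategory I] [IsCofiltered I]
    (D : I ⥤ Scheme.{u}) (c : Limits.Cone D) (hc : Limits.IsLimit c)
    [∀ (i j : I) (f : i ⟶ j), IsAffineHom (D.map f)] (i₀ : I) [CompactSpace (D.obj i₀)]
    [QuasiSeparatedSpace (D.obj i₀)] (F₀ G₀ : (D.obj i₀).Modules)
    [Coh.IsQCoh F₀] (hF₀fp : CohB1.IsFP F₀)
    [Coh.IsQCoh G₀] (hG₀fp : CohB1.IsFP G₀) :
    Nonempty ((Scheme.Modules.pullback (c.π.app i₀)).obj F₀ ≅ (Scheme.Modules.pullback (c.π.app i₀)).obj G₀) ↔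
      ∃ (j : I) (φ : j ⟶ i₀),
        Nonempty ((Scheme.Modules.pullback (D.map φ)).obj F₀ ≅ (Scheme.Modules.pullback (D.map φ)).obj G₀) := by
  haveI : SheafOfModules.IsFinitePresentation (R := (D.obj i₀).ringCatSheaf) F₀ := hF₀fp
  haveI : SheafOfModules.IsFinitePresentation (R := (D.obj i₀).ringCatSheaf) G₀ := hG₀fp
  haveI hAff : ∀ {i j : I} (f : i ⟶ j), IsAffineHom (D.map f) := fun f => inferInstance
  haveI : SheafOfModules.IsQuasicoherent (R := (D.obj i₀).ringCatSheaf) F₀ := ‹Coh.IsQCoh F₀›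
  haveI : SheafOfModules.IsQuasicoherent (R := (D.obj i₀).ringCatSheaf) G₀ := ‹Coh.IsQCoh G₀›
  constructor
  · rintro ⟨e⟩
    obtain ⟨j, φ, a, ha⟩ := Groth.Agent.Helper14.HomLim.exists_stage_hom D c hc i₀ F₀ G₀ e.hom
    haveI : CompactSpace (D.obj j) := QuasiCompact.compactSpace_of_compactSpace (D.map φ)
    haveI : ((Scheme.Modules.pullback (D.map φ)).obj F₀).IsQuasicoherent :=
      Groth.Agent.Helper13.Pullback.isQuasicoherent_pullback _ _
    haveI : ((Scheme.Modules.pullback (D.map φ)).obj G₀).IsQuasicoherent :=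
      Groth.Agent.Helper13.Pullback.isQuasicoherent_pullback _ _
    haveI : SheafOfModules.IsFiniteType (R := (D.obj j).ringCatSheaf)
        ((Scheme.Modules.pullback (D.map φ)).obj F₀) :=
      Groth.Agent.Helper13.FittSheaf.isFiniteType_pullback _ _
    haveI : SheafOfModules.IsFinitePresentation (R := (D.obj j).ringCatSheaf)
        ((Scheme.Modules.pullback (D.map φ)).obj G₀) :=
      Groth.Agent.Helper9.PrinPart4.isFinitePresentation_pullback _ _
    have hiso : IsIso ((Scheme.Modules.pullback (c.π.app j)).map a) := by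
      have h1 : (Scheme.Modules.pullback (c.π.app j)).map a =
          (Groth.Agent.Helper14.HomLim.kap (c.π.app j) (D.map φ) (c.π.app i₀) (c.w φ)).hom.app F₀ ≫
            e.hom ≫
          (Groth.Agent.Helper14.HomLim.kap (c.π.app j) (D.map φ) (c.π.app i₀) (c.w φ)).inv.app G₀ := by
        rw [← ha]
        simp
      rw [h1]
      infer_instance
    obtain ⟨j', φ', hiso'⟩ :=
      Groth.Agent.Helper14.LimMod.exists_stage_isIso_pullback_map D c hc j a hiso
    refine ⟨j', φ' ≫ φ, ⟨?_⟩⟩
    exact ((Groth.Agent.Helper14.LimMod.pullbackMapCompIso D i₀ φ φ').app F₀).symm ≪≫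
      @asIso _ _ _ _ ((Scheme.Modules.pullback (D.map φ')).map a) hiso' ≪≫
      (Groth.Agent.Helper14.LimMod.pullbackMapCompIso D i₀ φ φ').app G₀
  · rintro ⟨j, φ, ⟨e⟩⟩
    exact ⟨((Groth.Agent.Helper14.LimMod.pullbackStageIso D c i₀ φ).app F₀).symm ≪≫
      (Scheme.Modules.pullback (c.π.app j)).mapIso e ≪≫
      (Groth.Agent.Helper14.LimMod.pullbackStageIso D c i₀ φ).app G₀⟩

end Groth.Agent.S4790
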