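import Groth.Statements.S4810
import Groth.Agent.Lib.Helper12.NormTrans

set_option autoImplicit false
set_option linter.style.haveILetI false
universe u
open CategoryTheory AlgebraicGeometry
open Lim8

namespace Groth.Agent.S4810

/-- Let Y be an integral scheme, X an integral normal scheme (every local ring integrally closed) and f
: X ⟶ Y a dominant locally quasi-finite morphism (locally of finite type with discrete fibres). Let
Y' be the relative normalization of Y in X (here the normalization of Y in the function field of X)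
and f' : X ⟶ Y' the canonical morphism, so that f is f' followed by the canonical morphism Y' ⟶ Y.
Then f' is a local isomorphism, and f' is an open immersion if and only if f is separated. (The
published statement assumes f only locally quasi-finite; this row takes f moreover quasi-compact and
quasi-separated, the setting in which the relative normalization is built chart by chart from
integral closures.) -/
theorem result {X Y : Scheme.{u}} [IsIntegral X] [IsIntegral Y]
    (hN : ∀ x : X, IsIntegrallyClosed (X.presheaf.stalk x)) (f : X ⟶ Y) [IsDominant f]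
    [LocallyQuasiFinite f] [LocallyOfFiniteType f] [QuasiCompact f] [QuasiSeparated f] :
    IsLocalIso f.toNormalization ∧ (IsOpenImmersion f.toNormalization ↔ IsSeparated f) := by
  classical
  refine ⟨⟨fun x => ?_⟩, ⟨fun h => ?_, fun h => inferInstance⟩⟩
  · obtain ⟨V, hV, hxV⟩ : ∃ V : Y.Opens, IsAffineOpen V ∧ f x ∈ V := by
      obtain ⟨_, ⟨V, hV, rfl⟩, hxV, -⟩ := Y.isBasis_affineOpens.exists_subset_of_mem_open
        (Set.mem_univ (f x)) isOpen_univ
      exact ⟨V, hV, hxV⟩
    haveI : IsAffine (V : Scheme.{u}) := hV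
    obtain ⟨p₁, hp₁⟩ : ∃ p₁ : Limits.pullback f V.ι ⟶ X, p₁ = Limits.pullback.fst f V.ι := ⟨_, rfl⟩
    obtain ⟨p₂, hp₂⟩ : ∃ p₂ : Limits.pullback f V.ι ⟶ (V : Scheme.{u}),
        p₂ = Limits.pullback.snd f V.ι := ⟨_, rfl⟩
    haveI : IsOpenImmersion p₁ := by rw [hp₁]; infer_instance
    haveI : QuasiCompact p₂ := by rw [hp₂]; infer_instance
    haveI : QuasiSeparated p₂ := by rw [hp₂]; infer_instance
    haveI : LocallyQuasiFinite p₂ := by rw [hp₂]; infer_instance
    haveI : LocallyOfFiniteType p₂ := by rw [hp₂]; infer_instance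
    obtain ⟨x', hx'⟩ : ∃ x' : ↥(Limits.pullback f V.ι), p₁ x' = x := by
      have : x ∈ Set.range (Limits.pullback.fst f V.ι) := by
        rw [Scheme.Pullback.range_fst, Scheme.Opens.range_ι]
        exact hxV
      rw [hp₁]
      exact this
    haveI : Nonempty ↥(Limits.pullback f V.ι) := ⟨x'⟩
    haveI : IsIntegral (Limits.pullback f V.ι) := isIntegral_of_isOpenImmersion p₁
    have hNP : ∀ z : ↥(Limits.pullback f V.ι),
        IsIntegrallyClosed ((Limits.pullback f V.ι).presheaf.stalk z) := by
      intro z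
      haveI := hN (p₁ z)
      exact IsIntegrallyClosed.of_equiv (asIso (p₁.stalkMap z)).commRingCatIsoToRingEquiv
    obtain ⟨U', hU', hx'U⟩ : ∃ U' : (Limits.pullback f V.ι).Opens, IsAffineOpen U' ∧ x' ∈ U' := by
      obtain ⟨_, ⟨U', hU', rfl⟩, hx'U, -⟩ :=
        (Limits.pullback f V.ι).isBasis_affineOpens.exists_subset_of_mem_open
          (Set.mem_univ x') isOpen_univ
      exact ⟨U', hU', hx'U⟩
    haveI : IsAffine (U' : Scheme.{u}) := hU'
    haveI : Nonempty ↥U' := ⟨⟨x', hx'U⟩⟩
    haveI : Nonempty ↥(U' : Scheme.{u}) := ⟨⟨x', hx'U⟩⟩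
    haveI : IsIntegral (U' : Scheme.{u}) := inferInstance
    haveI : QuasiCompact (U'.ι ≫ p₂) := inferInstance
    haveI : QuasiSeparated (U'.ι ≫ p₂) := inferInstance
    haveI : QuasiCompact U'.ι := QuasiCompact.of_comp U'.ι p₂
    haveI : QuasiSeparated U'.ι := inferInstance
    haveI : IsIso U'.ι.fromNormalization :=
      Groth.Agent.Helper12.NormalExt.isIso_fromNormalization_of_birational hNP U'.ι
        (genericPoint_eq_of_isOpenImmersion _) inferInstance
    haveI : IsDominant U'.ι := by
      constructor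
      rw [DenseRange, Scheme.Opens.range_ι]
      exact U'.2.dense ⟨x', hx'U⟩
    obtain ⟨h, β, hβ, hh1, hh2, hh3⟩ :=
      Groth.Agent.Helper12.NormTrans.normalization_trans U'.ι p₂
    haveI := hβ
    haveI : IsSeparated (U'.ι ≫ p₂) := inferInstance
    haveI : LocallyQuasiFinite (U'.ι ≫ p₂) := inferInstance
    haveI : LocallyOfFiniteType (U'.ι ≫ p₂) := inferInstance
    haveI : IsOpenImmersion (U'.ι ≫ p₂).toNormalization := inferInstance
    have h1 : U'.ι ≫ p₂.toNormalization = (U'.ι ≫ p₂).toNormalization ≫ inv β := by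
      rw [IsIso.eq_comp_inv, Category.assoc, hh3, hh2]
    haveI : IsOpenImmersion (U'.ι ≫ p₂.toNormalization) := by rw [h1]; infer_instance
    have h2 : ∀ (q₁ : Limits.pullback f V.ι ⟶ X) (q₂ : Limits.pullback f V.ι ⟶ (V : Scheme.{u}))
        (hq₁ : q₁ = Limits.pullback.fst f V.ι) (hq₂ : q₂ = Limits.pullback.snd f V.ι)
        [QuasiCompact q₂] [QuasiSeparated q₂] [IsOpenImmersion (U'.ι ≫ q₂.toNormalization)],
        IsOpenImmersion ((U'.ι ≫ q₁) ≫ f.toNormalization) := by
      intro q₁ q₂ hq₁ hq₂ _ _ hoi
      subst hq₁ hq₂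
      have h2' := Scheme.Hom.toNormalization_normalizationPullback_fst f V.ι
      have h3 : (U'.ι ≫ Limits.pullback.fst f V.ι) ≫ f.toNormalization =
          (U'.ι ≫ (Limits.pullback.snd f V.ι).toNormalization) ≫
            f.normalizationPullback V.ι ≫ Limits.pullback.fst _ _ := by
        rw [Category.assoc, Category.assoc, h2']
      rw [h3]
      infer_instance
    haveI : IsOpenImmersion ((U'.ι ≫ p₁) ≫ f.toNormalization) := h2 p₁ p₂ hp₁ hp₂
    refine ⟨(U'.ι ≫ p₁).opensRange, ⟨⟨x', hx'U⟩, ?_⟩, ?_⟩
    · rw [Scheme.Hom.comp_apply]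
      exact hx'
    · rw [← Scheme.Hom.isoOpensRange_inv_comp, Category.assoc]
      infer_instance
  · haveI := h
    have h1 : f = f.toNormalization ≫ f.fromNormalization :=
      (Scheme.Hom.toNormalization_fromNormalization f).symm
    rw [h1]
    infer_instance

end Groth.Agent.S4810
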