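import Groth.Statements.S4816
import Groth.Agent.Lib.Helper7.LimHom

set_option autoImplicit false
universe u
open CategoryTheory AlgebraicGeometry
open Lim8

namespace Groth.Agent.S4816

theorem aux_fwd {I : Type u} [SmallCategory I] [IsCofiltered I]
    (D : I ⥤ Scheme.{u}) (c : Limits.Cone D) (hc : Limits.IsLimit c)
    [∀ {i j : I} (f : i ⟶ j), IsAffineHom (D.map f)] (i₀ : I) [CompactSpace (D.obj i₀)]
    {Z₁ Z₂ : Scheme.{u}} (ι₁ : Z₁ ⟶ D.obj i₀) (ι₂ : Z₂ ⟶ D.obj i₀)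
    [QuasiCompact ι₁] [Mono ι₂] [LocallyOfFinitePresentation ι₂]
    (k : Limits.pullback ι₁ (c.π.app i₀) ⟶ Limits.pullback ι₂ (c.π.app i₀))
    (hk : k ≫ Limits.pullback.snd ι₂ (c.π.app i₀) = Limits.pullback.snd ι₁ (c.π.app i₀)) :
    ∃ (j : I) (φ : j ⟶ i₀) (k : Limits.pullback ι₁ (D.map φ) ⟶ Limits.pullback ι₂ (D.map φ)),
        k ≫ Limits.pullback.snd ι₂ (D.map φ) = Limits.pullback.snd ι₁ (D.map φ) := by
  have : CompactSpace Z₁ := QuasiCompact.compactSpace_of_compactSpace ι₁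
  obtain ⟨j, φ, aj, haj⟩ := Groth.Agent.Helper7.LimBC.exists_fac_of_compactSpace D c hc i₀ ι₁ ι₂
    ((Limits.pullbackSymmetry _ _).hom ≫ k ≫ Limits.pullback.fst ι₂ (c.π.app i₀)) (by
      rw [Category.assoc, Category.assoc, Limits.pullback.condition, reassoc_of% hk,
        Limits.pullbackSymmetry_hom_comp_snd_assoc, Limits.pullback.condition])
  refine ⟨j, φ, Limits.pullback.lift ((Limits.pullbackSymmetry _ _).hom ≫ aj)
    (Limits.pullback.snd ι₁ (D.map φ)) ?_, ?_⟩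
  · rw [Category.assoc, haj, Limits.pullbackSymmetry_hom_comp_snd_assoc, Limits.pullback.condition]
  · rw [Limits.pullback.lift_snd]

open CategoryTheory.Limits in
/-- Let S = lim S_i be a cofiltered limit of schemes with affine transition maps and S_{i₀} a
quasi-compact stage; let ι₁ : Z₁ ⟶ S_{i₀} and ι₂ : Z₂ ⟶ S_{i₀} be two subschemes of finite
presentation of S_{i₀} (immersions which are locally of finite presentation and quasi-compact), with
base changes Z₁ ×_{S_{i₀}} T ⟶ T to T = S and to T = S_j. Then Z₁ ×_{S_{i₀}} S is a subscheme of Z₂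
×_{S_{i₀}} S (its immersion into S factors through that of Z₂ ×_{S_{i₀}} S) if and only if, for some
index j over i₀, Z₁ ×_{S_{i₀}} S_j is a subscheme of Z₂ ×_{S_{i₀}} S_j. -/
theorem result {I : Type u} [SmallCategory I] [IsCofiltered I]
    (D : I ⥤ Scheme.{u}) (c : Limits.Cone D) (hc : Limits.IsLimit c)
    [∀ (i j : I) (f : i ⟶ j), IsAffineHom (D.map f)] (i₀ : I) [CompactSpace (D.obj i₀)]
    {Z₁ Z₂ : Scheme.{u}} (ι₁ : Z₁ ⟶ D.obj i₀) (ι₂ : Z₂ ⟶ D.obj i₀)
    [IsImmersion ι₁] [LocallyOfFinitePresentation ι₁] [QuasiCompact ι₁]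
    [IsImmersion ι₂] [LocallyOfFinitePresentation ι₂] [QuasiCompact ι₂] :
    (∃ k : pullback ι₁ (c.π.app i₀) ⟶ pullback ι₂ (c.π.app i₀),
        k ≫ pullback.snd ι₂ (c.π.app i₀) = pullback.snd ι₁ (c.π.app i₀)) ↔
      ∃ (j : I) (φ : j ⟶ i₀) (k : pullback ι₁ (D.map φ) ⟶ pullback ι₂ (D.map φ)),
        k ≫ pullback.snd ι₂ (D.map φ) = pullback.snd ι₁ (D.map φ) := by
  have : ∀ {i j : I} (f : i ⟶ j), IsAffineHom (D.map f) := fun f => inferInstance
  constructor
  · rintro ⟨k, hk⟩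
    exact aux_fwd D c hc i₀ ι₁ ι₂ k hk
  · rintro ⟨j, φ, k, hk⟩
    obtain ⟨p, hp1, hp2⟩ : ∃ p : Limits.pullback ι₁ (c.π.app i₀) ⟶ Limits.pullback ι₁ (D.map φ),
        p ≫ Limits.pullback.fst _ _ = Limits.pullback.fst _ _ ∧
        p ≫ Limits.pullback.snd _ _ = Limits.pullback.snd _ _ ≫ c.π.app j :=
      ⟨Limits.pullback.lift (Limits.pullback.fst ι₁ (c.π.app i₀))
        (Limits.pullback.snd ι₁ (c.π.app i₀) ≫ c.π.app j)
        (by rw [Category.assoc, Limits.Cone.w, Limits.pullback.condition]),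
        Limits.pullback.lift_fst _ _ _, Limits.pullback.lift_snd _ _ _⟩
    refine ⟨Limits.pullback.lift (p ≫ k ≫ Limits.pullback.fst ι₂ (D.map φ))
      (Limits.pullback.snd ι₁ (c.π.app i₀)) ?_, ?_⟩
    · rw [Category.assoc, Category.assoc, Limits.pullback.condition, reassoc_of% hk,
        reassoc_of% hp2, Limits.Cone.w]
    · rw [Limits.pullback.lift_snd]

end Groth.Agent.S4816
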