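import Groth.Statements.S4823
import Mathlib
import Groth.Agent.Lib.Helper14.FieldLim
import Groth.Agent.Lib.Helper14.HomLimD
import Groth.Agent.S4790
-- import your own Groth.Agent.* helpers here

set_option autoImplicit false
open CategoryTheory AlgebraicGeometry
universe u
open Cons9

namespace Groth.Agent.S4823

open Groth.Agent.Helper4.LimSubalgK Groth.Agent.Helper14.FieldLim Groth.Agent.Helper14.HomLim
  CategoryTheory.Limits Opposite

open CategoryTheory.Limits in
/-- Let k be a field, Ω an algebraically closed extension field of k, X a scheme of finite type over k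
and F, G two coherent O_X-modules (quasi-coherent of finite presentation). If the pullbacks of F and
G to X ⊗_k Ω are isomorphic, then there is a finite extension k' of k such that the pullbacks of F
and G to X ⊗_k k' are already isomorphic (base changes are the chosen fibre products with Spec of
the extension, and the modules are pulled back along the first projection). -/
theorem result {k : Type u} [Field k] {X : Scheme.{u}}
    (p : X ⟶ Spec (CommRingCat.of k)) [LocallyOfFiniteType p] [QuasiCompact p]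
    (F G : X.Modules) [Coh.IsQCoh F] [Coh.IsQCoh G] (hF : CohB1.IsFP F) (hG : CohB1.IsFP G)
    (Ω : Type u) [Field Ω] [Algebra k Ω] [IsAlgClosed Ω]
    (e : (Scheme.Modules.pullback (pullback.fst p (Spec.map (CommRingCat.ofHom (algebraMap k Ω))))).obj F ≅
      (Scheme.Modules.pullback (pullback.fst p (Spec.map (CommRingCat.ofHom (algebraMap k Ω))))).obj G) :
    ∃ (k' : Type u) (_ : Field k') (_ : Algebra k k') (_ : Module.Finite k k'),
      Nonempty ((Scheme.Modules.pullback (pullback.fst p (Spec.map (CommRingCat.ofHom (algebraMap k k'))))).obj F ≅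
        (Scheme.Modules.pullback (pullback.fst p (Spec.map (CommRingCat.ofHom (algebraMap k k'))))).obj G) := by
  classical
  haveI : CompactSpace X := QuasiCompact.compactSpace_of_compactSpace p
  haveI : IsLocallyNoetherian X := LocallyOfFiniteType.isLocallyNoetherian p
  haveI : QuasiSeparatedSpace X := inferInstance
  let S₀ : (J k Ω)ᵒᵖ := op ⟨⊥, Subalgebra.fg_bot⟩
  haveI : ∀ (i j : (J k Ω)ᵒᵖ) (f : i ⟶ j), IsAffineHom ((E Ω p).map f) :=
    fun _ _ f => E_isAffineHom Ω p f
  haveI : CompactSpace ((E Ω p).obj S₀) := E_compactSpace Ω p S₀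
  haveI : QuasiSeparatedSpace ((E Ω p).obj S₀) := E_quasiSeparatedSpace Ω p S₀
  let q₀ : (E Ω p).obj S₀ ⟶ X := pullback.fst p (sm k Ω S₀)
  let F₀ : ((E Ω p).obj S₀).Modules := (Scheme.Modules.pullback q₀).obj F
  let G₀ : ((E Ω p).obj S₀).Modules := (Scheme.Modules.pullback q₀).obj G
  haveI : SheafOfModules.IsQuasicoherent (R := X.ringCatSheaf) F := ‹Coh.IsQCoh F›
  haveI : SheafOfModules.IsQuasicoherent (R := X.ringCatSheaf) G := ‹Coh.IsQCoh G›
  haveI : SheafOfModules.IsFinitePresentation (R := X.ringCatSheaf) F := hF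
  haveI : SheafOfModules.IsFinitePresentation (R := X.ringCatSheaf) G := hG
  haveI hF₀q : Coh.IsQCoh F₀ := Groth.Agent.Helper13.Pullback.isQuasicoherent_pullback _ _
  haveI hG₀q : Coh.IsQCoh G₀ := Groth.Agent.Helper13.Pullback.isQuasicoherent_pullback _ _
  have hF₀ : CohB1.IsFP F₀ := Groth.Agent.Helper9.PrinPart4.isFinitePresentation_pullback _ _
  have hG₀ : CohB1.IsFP G₀ := Groth.Agent.Helper9.PrinPart4.isFinitePresentation_pullback _ _
  have e' : (Scheme.Modules.pullback ((cE Ω p).π.app S₀)).obj F₀ ≅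
      (Scheme.Modules.pullback ((cE Ω p).π.app S₀)).obj G₀ :=
    (kap ((cE Ω p).π.app S₀) q₀ _ (cE_π_fst Ω p S₀)).app F ≪≫ e ≪≫
      ((kap ((cE Ω p).π.app S₀) q₀ _ (cE_π_fst Ω p S₀)).app G).symm
  obtain ⟨j, φ, ⟨ej⟩⟩ := (Groth.Agent.S4790.result (E Ω p) (cE Ω p) (isLimitCE Ω p) S₀ F₀ G₀
    hF₀ hG₀).mp ⟨e'⟩
  let qj : (E Ω p).obj j ⟶ X := pullback.fst p (sm k Ω j)
  have ej' : (Scheme.Modules.pullback qj).obj F ≅ (Scheme.Modules.pullback qj).obj G :=
    ((kap ((E Ω p).map φ) q₀ qj (E_map_fst Ω p φ)).app F).symm ≪≫ ej ≪≫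
      (kap ((E Ω p).map φ) q₀ qj (E_map_fst Ω p φ)).app G
  -- a maximal ideal of the finitely generated subalgebra
  obtain ⟨m, hm⟩ := Ideal.exists_maximal (j.unop.1 : Subalgebra k Ω)
  haveI := hm
  letI : Field ((j.unop.1 : Subalgebra k Ω) ⧸ m) := Ideal.Quotient.field m
  haveI : Algebra.FiniteType k (j.unop.1 : Subalgebra k Ω) :=
    (Subalgebra.fg_iff_finiteType _).mp j.unop.2
  haveI : Algebra.FiniteType k ((j.unop.1 : Subalgebra k Ω) ⧸ m) :=
    Algebra.FiniteType.of_surjective (Ideal.Quotient.mkₐ k m) (Ideal.Quotient.mkₐ_surjective k m)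
  have hfin : Module.Finite k ((j.unop.1 : Subalgebra k Ω) ⧸ m) :=
    finite_of_finite_type_of_isJacobsonRing k _
  let s : Spec (CommRingCat.of ((j.unop.1 : Subalgebra k Ω) ⧸ m)) ⟶ (D k Ω).obj j :=
    Spec.map (CommRingCat.ofHom (Ideal.Quotient.mk m))
  have hs : s ≫ sm k Ω j =
      Spec.map (CommRingCat.ofHom (algebraMap k ((j.unop.1 : Subalgebra k Ω) ⧸ m))) := by
    change Spec.map (CommRingCat.ofHom (Ideal.Quotient.mk m)) ≫
      Spec.map (CommRingCat.ofHom (algebraMap k (j.unop.1 : Subalgebra k Ω))) = _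
    rw [← Spec.map_comp]
    rfl
  let h : pullback p (Spec.map (CommRingCat.ofHom
      (algebraMap k ((j.unop.1 : Subalgebra k Ω) ⧸ m)))) ⟶ (E Ω p).obj j :=
    pullback.lift (pullback.fst _ _) (pullback.snd _ _ ≫ s)
      (by rw [Category.assoc, hs, pullback.condition])
  have hh : h ≫ qj = pullback.fst p (Spec.map (CommRingCat.ofHom
      (algebraMap k ((j.unop.1 : Subalgebra k Ω) ⧸ m)))) := pullback.lift_fst _ _ _
  exact ⟨(j.unop.1 : Subalgebra k Ω) ⧸ m, inferInstance, inferInstance, hfin,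
    ⟨((kap h qj _ hh).app F).symm ≪≫ (Scheme.Modules.pullback h).mapIso ej' ≪≫
      (kap h qj _ hh).app G⟩⟩

end Groth.Agent.S4823
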