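import Groth.Statements.S4837
import Mathlib
import Groth.Agent.Lib.Helper28.SpecCover

set_option autoImplicit false
open CategoryTheory AlgebraicGeometry
universe u
open Lim8

namespace Groth.Agent.S4837

/-- Let f : X ⟶ Y be a quasi-compact quasi-separated morphism, C a quasi-coherent O_Y-algebra with
relative spectrum Z = Spec(C) over Y, g : X ⟶ Z a Y-morphism which is an immersion, and φ : C ⟶
f_*O_X the homomorphism of O_Y-algebras corresponding to g (the canonical identification of C with
the direct image of O_Z followed by the map induced by g). Then the scheme-theoretic image of g is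
the whole of Z, i.e. the kernel ideal of g vanishes, if and only if φ is injective; and when this
holds g is an open immersion. -/
theorem result {X Y : Scheme.{u}} (f : X ⟶ Y)
    [QuasiCompact f] [QuasiSeparated f] (C : RelSpec.QCAlg Y) (g : X ⟶ C.spec) (w : g ≫ C.π = f)
    [IsImmersion g] (φ : C ⟶ RelSpec.QCAlg.directImage f)
    (hφ : C.gammaMap ≫ φ.hom = AffAlg.algHom C.π f g w) :
    (g.ker = ⊥ ↔ ∀ U : Y.Opens, Function.Injective (φ.hom.app (Opposite.op U)).hom) ∧
      (g.ker = ⊥ → IsOpenImmersion g) := by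
  subst w
  haveI : QuasiCompact g := QuasiCompact.of_comp g C.π
  have key : ∀ (U : Y.Opens) (t : Γ(C.spec, C.π ⁻¹ᵁ U)),
      (φ.hom.app (Opposite.op U)).hom ((C.gammaMap.app (Opposite.op U)).hom t) =
        (g.app (C.π ⁻¹ᵁ U)).hom t := by
    intro U t
    have h := congrArg (fun k => (k.app (Opposite.op U)).hom t) hφ
    exact h
  have hinj : ∀ (U : Y.Opens) (hU : IsAffineOpen U),
      Function.Injective (φ.hom.app (Opposite.op U)).hom ↔
        Function.Injective (g.app (C.π ⁻¹ᵁ U)).hom := by
    intro U hU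
    haveI := Groth.Agent.Helper28.SpecCover.isIso_gammaAff C U hU
    have hb : Function.Bijective (C.gammaMap.app (Opposite.op U)).hom := by
      rw [C.gammaMap_app U hU]
      exact ConcreteCategory.bijective_of_isIso (C.gammaAff U hU)
    constructor
    · intro h a b hab
      apply hb.1
      apply h
      rw [key, key]
      exact hab
    · intro h a b hab
      obtain ⟨a', rfl⟩ := hb.2 a
      obtain ⟨b', rfl⟩ := hb.2 b
      rw [key, key] at hab
      rw [h hab]
  have hker : ∀ (U : Y.Opens) (hU : IsAffineOpen U),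
      g.ker.ideal ⟨C.π ⁻¹ᵁ U, hU.preimage C.π⟩ = ⊥ ↔
        Function.Injective (g.app (C.π ⁻¹ᵁ U)).hom := by
    intro U hU
    rw [Scheme.Hom.ker_apply]
    exact (RingHom.injective_iff_ker_eq_bot _).symm
  refine ⟨⟨?_, ?_⟩, ?_⟩
  · intro hk U a b hab
    refine TopCat.Sheaf.eq_of_locally_eq'
      (⟨C.presheaf, C.isSheaf⟩ : TopCat.Sheaf CommRingCat.{u} Y.carrier)
      (fun V : {V : Y.affineOpens // V.1 ≤ U} => V.1.1) U (fun V => homOfLE V.2) ?_ a b ?_
    · intro x hx
      obtain ⟨_, ⟨V, hV, rfl⟩, hxV, hVU⟩ :=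
        Y.isBasis_affineOpens.exists_subset_of_mem_open hx U.2
      exact TopologicalSpace.Opens.mem_iSup.mpr ⟨⟨⟨V, hV⟩, hVU⟩, hxV⟩
    · rintro ⟨⟨V, hV⟩, hVU⟩
      have hbot : g.ker.ideal ⟨C.π ⁻¹ᵁ V, hV.preimage C.π⟩ = ⊥ := by
        rw [hk]
        exact congrFun Scheme.IdealSheafData.ideal_bot _
      have hV' : Function.Injective (φ.hom.app (Opposite.op V)).hom :=
        (hinj V hV).mpr ((hker V hV).mp hbot)
      apply hV'
      have nat := fun s => congrArg (fun k => k.hom s) (φ.hom.naturality (homOfLE hVU).op)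
      have na := nat a
      have nb := nat b
      exact na.trans ((congrArg (fun z =>
        ((RelSpec.QCAlg.directImage (g ≫ C.π)).presheaf.map (homOfLE hVU).op).hom z) hab).trans
          nb.symm)
  · intro hall
    refine Scheme.IdealSheafData.ext_of_iSup_eq_top
      (fun V : Y.affineOpens => (⟨C.π ⁻¹ᵁ V.1, V.2.preimage C.π⟩ : C.spec.affineOpens)) ?_ ?_
    · rw [eq_top_iff]
      intro x _
      obtain ⟨_, ⟨V, hV, rfl⟩, hxV, -⟩ :=
        Y.isBasis_affineOpens.exists_subset_of_mem_open (Set.mem_univ (C.π x)) isOpen_univ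
      exact TopologicalSpace.Opens.mem_iSup.mpr ⟨⟨V, hV⟩, hxV⟩
    · intro V
      rw [(hker V.1 V.2).mpr ((hinj V.1 V.2).mp (hall V.1))]
      exact (congrFun Scheme.IdealSheafData.ideal_bot _).symm
  · intro hk
    have h1 : IsIso g.ker.subschemeι := (Scheme.isIso_subschemeι_iff_eq_bot _).mpr hk
    haveI : IsIso g.imageι := h1
    rw [← g.toImage_imageι]
    infer_instance

end Groth.Agent.S4837
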