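import Groth.Statements.S4839
import Mathlib
import Groth.Agent.Lib.Helper9.ConsPair4

set_option autoImplicit false
open CategoryTheory AlgebraicGeometry
universe u
open Cons9

namespace Groth.Agent.S4839

open CategoryTheory.Limits in
/-- Let k be a field and X, Y two schemes of finite type over k. If for some field extension K of k
there is a K-isomorphism X ⊗_k K ≅ Y ⊗_k K (X and Y are geometrically isomorphic), then there are a
finite extension k' of k and a k'-isomorphism X ⊗_k k' ≅ Y ⊗_k k'. This is the case of the property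
of being an isomorphism (base changes are the chosen fibre products with Spec of the extension). -/
theorem result {k : Type u} [Field k] {X Y : Scheme.{u}}
    (p : X ⟶ Spec (CommRingCat.of k)) (q : Y ⟶ Spec (CommRingCat.of k))
    [LocallyOfFiniteType p] [QuasiCompact p] [LocallyOfFiniteType q] [QuasiCompact q]
    (K : Type u) [Field K] [Algebra k K]
    (e : pullback p (Spec.map (CommRingCat.ofHom (algebraMap k K))) ≅ pullback q (Spec.map (CommRingCat.ofHom (algebraMap k K))))
    (he : e.hom ≫ pullback.snd q (Spec.map (CommRingCat.ofHom (algebraMap k K))) = pullback.snd p (Spec.map (CommRingCat.ofHom (algebraMap k K)))) :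
    ∃ (k' : Type u) (_ : Field k') (_ : Algebra k k') (_ : Module.Finite k k')
      (e' : pullback p (Spec.map (CommRingCat.ofHom (algebraMap k k'))) ≅ pullback q (Spec.map (CommRingCat.ofHom (algebraMap k k')))),
      e'.hom ≫ pullback.snd q (Spec.map (CommRingCat.ofHom (algebraMap k k'))) = pullback.snd p (Spec.map (CommRingCat.ofHom (algebraMap k k'))) := by
  classical
  have hXK : IsPullback (pullback.fst p (Spec.map (CommRingCat.ofHom (algebraMap k K))))
      (pullback.snd p (Spec.map (CommRingCat.ofHom (algebraMap k K)))) p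
      (Spec.map (CommRingCat.ofHom (algebraMap k K)) ≫ 𝟙 (Spec (CommRingCat.of k))) := by
    rw [Category.comp_id]; exact IsPullback.of_hasPullback _ _
  have hYK : IsPullback (pullback.fst q (Spec.map (CommRingCat.ofHom (algebraMap k K))))
      (pullback.snd q (Spec.map (CommRingCat.ofHom (algebraMap k K)))) q
      (Spec.map (CommRingCat.ofHom (algebraMap k K)) ≫ 𝟙 (Spec (CommRingCat.of k))) := by
    rw [Category.comp_id]; exact IsPullback.of_hasPullback _ _
  obtain ⟨W, σ, π, hπ, hW, hσ, XW, YW, pX, uW, pY, vW, hXW, hYW, gW, hgW, hQW⟩ :=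
    Groth.Agent.Helper9.ConsPair.affine_case (Q := fun _ _ g => IsIso g) p q k K
      (𝟙 (Spec (CommRingCat.of k))) Groth.Agent.Helper9.ConsPair.desc_isIso _ _ _ _ hXK hYK
      e.hom he (inferInstance : IsIso e.hom)
  haveI := hW
  haveI := hσ
  obtain ⟨φ, hφ⟩ : ∃ φ : CommRingCat.of k ⟶ Γ(W, ⊤), Spec.map φ = W.isoSpec.inv ≫ σ :=
    ⟨Spec.preimage _, Spec.map_preimage _⟩
  have hft : φ.hom.FiniteType := by
    have : LocallyOfFiniteType (Spec.map φ) := by rw [hφ]; infer_instance
    exact (HasRingHomProperty.Spec_iff (P := @LocallyOfFiniteType)).mp this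
  obtain ⟨x₀⟩ : Nonempty ↥(Spec (CommRingCat.of K)) := inferInstance
  let x : PrimeSpectrum Γ(W, ⊤) := W.isoSpec.hom (π x₀)
  obtain ⟨m, hm, -⟩ := Ideal.exists_le_maximal x.asIdeal x.isPrime.ne_top
  letI : Field (Γ(W, ⊤) ⧸ m) := Ideal.Quotient.field m
  letI alg : Algebra k (Γ(W, ⊤) ⧸ m) := ((Ideal.Quotient.mk m).comp φ.hom).toAlgebra
  have hfin : Module.Finite k (Γ(W, ⊤) ⧸ m) := by
    haveI : Algebra.FiniteType k (Γ(W, ⊤) ⧸ m) := by
      apply RingHom.finiteType_algebraMap.1
      change ((Ideal.Quotient.mk m).comp φ.hom).FiniteType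
      exact (RingHom.FiniteType.of_surjective _ Ideal.Quotient.mk_surjective).comp hft
    exact finite_of_finite_type_of_isJacobsonRing k _
  have ht : (Spec.map (CommRingCat.ofHom (Ideal.Quotient.mk m)) ≫ W.isoSpec.inv) ≫ σ =
      𝟙 _ ≫ Spec.map (CommRingCat.ofHom (algebraMap k (Γ(W, ⊤) ⧸ m))) := by
    rw [Category.assoc, ← hφ, ← Spec.map_comp, Category.id_comp]
    rfl
  obtain ⟨X₂, Y₂, gX₂, gY₂, eX₂, eY₂, h1, h2, g₂, hg₂, hQ₂⟩ :=
    Groth.Agent.Helper9.ConsPair.bc_main (Q := fun _ _ g => IsIso g)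
      Groth.Agent.Helper9.ConsPair.bcstable_isIso hXW hYW gW hgW hQW
      (IsPullback.of_hasPullback p (Spec.map (CommRingCat.ofHom (algebraMap k (Γ(W, ⊤) ⧸ m)))))
      (IsPullback.of_hasPullback q (Spec.map (CommRingCat.ofHom (algebraMap k (Γ(W, ⊤) ⧸ m)))))
      (Spec.map (CommRingCat.ofHom (Ideal.Quotient.mk m)) ≫ W.isoSpec.inv) (𝟙 _) ht
  haveI : IsIso g₂ := hQ₂
  haveI : IsIso eX₂ := h1.isIso_fst_of_isIso
  haveI : IsIso eY₂ := h2.isIso_fst_of_isIso
  refine ⟨Γ(W, ⊤) ⧸ m, inferInstance, alg, hfin, (asIso eX₂).symm ≪≫ asIso g₂ ≪≫ asIso eY₂, ?_⟩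
  have w1 := h1.w
  have w2 := h2.w
  rw [Category.comp_id] at w1 w2
  simp only [Iso.trans_hom, Iso.symm_hom, asIso_hom, asIso_inv, Category.assoc, w2, hg₂]
  rw [IsIso.inv_comp_eq, w1]

end Groth.Agent.S4839
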