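import Groth.Statements.S4847
import Groth.Agent.S0392
import Groth.Agent.Lib.Helper4.QuasiFlat

set_option autoImplicit false
universe u
open EGA43


namespace Groth.Agent.S4847

open TensorProduct IsLocalRing

/-- Fibrewise flatness criterion, both directions, for local homomorphisms `A → B → C` of
Noetherian local rings and a nonzero finite `C`-module. -/
theorem fibrewise {A B C M : Type u} [CommRing A] [CommRing B] [CommRing C]
    [IsLocalRing A] [IsLocalRing B] [IsLocalRing C]
    [IsNoetherianRing A] [IsNoetherianRing B] [IsNoetherianRing C]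
    [Algebra A B] [Algebra B C] [Algebra A C] [IsScalarTower A B C]
    [IsLocalHom (algebraMap A B)] [IsLocalHom (algebraMap B C)]
    [AddCommGroup M] [Module C M] [Module B M] [Module A M] [IsScalarTower B C M]
    [IsScalarTower A B M] [Module.Finite C M] [Nontrivial M] :
    (Module.Flat A M ∧ Module.Flat (B ⧸ (maximalIdeal A).map (algebraMap A B))
        (M ⧸ ((maximalIdeal A).map (algebraMap A B) • (⊤ : Submodule B M)))) ↔
      (Module.Flat A B ∧ Module.Flat B M) := by
  have hsurj : Function.Surjective
      (algebraMap B (B ⧸ (maximalIdeal A).map (algebraMap A B))) := Ideal.Quotient.mk_surjective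
  let e : ((B ⧸ (maximalIdeal A).map (algebraMap A B)) ⊗[B] M) ≃ₗ[B ⧸ (maximalIdeal A).map (algebraMap A B)]
      (M ⧸ ((maximalIdeal A).map (algebraMap A B) • (⊤ : Submodule B M))) :=
    (TensorProduct.quotTensorEquivQuotSMul M ((maximalIdeal A).map (algebraMap A B))).extendScalarsOfSurjective hsurj
  constructor
  · rintro ⟨h1, h2⟩
    haveI := h1
    haveI := h2
    have h3 : Module.Flat (B ⧸ (maximalIdeal A).map (algebraMap A B))
        ((B ⧸ (maximalIdeal A).map (algebraMap A B)) ⊗[B] M) := Module.Flat.of_linearEquiv e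
    exact Groth.Agent.S0392.result (R := A) (S := B) (S' := C) (M := M) h3
  · rintro ⟨h1, h2⟩
    haveI := h1
    haveI := h2
    refine ⟨Module.Flat.trans A B M, ?_⟩
    exact Module.Flat.of_linearEquiv e.symm

end Groth.Agent.S4847

namespace Groth.Agent.S4847

open AlgebraicGeometry CategoryTheory Limits in
/-- Case 1° (fibrewise flatness criterion for locally Noetherian schemes): let S, X and Y be locally
Noetherian schemes, f : X ⟶ Y and h : Y ⟶ S arbitrary morphisms, F a coherent O_X-module and x a
point of X with images y in Y and s in S, such that the stalk F_x is nonzero. Then F is flat over S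
at x and F_x / m_s F_x is flat over O_{Y,y} / m_s O_{Y,y} (that is, the fibre module F_s is flat
over the fibre Y_s at x) if and only if h is flat at y and F is flat over Y at x. No finiteness
hypothesis on f or h is required in this case. -/
theorem result {X Y S : Scheme.{u}}
    [IsLocallyNoetherian X] [IsLocallyNoetherian Y] [IsLocallyNoetherian S]
    (f : X ⟶ Y) (h : Y ⟶ S) (F : X.Modules) (hF : Coh.IsCoh F) (x : X)
    (hx : Nontrivial ↑(F.presheaf.stalk x)) :
    letI := FlatMod.moduleStalkOver f F x
    (FlatMod.IsFlatOverAt (f ≫ h) F x ∧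
      Module.Flat (↑(Y.presheaf.stalk (f x)) ⧸ Ideal.map (h.stalkMap (f x)).hom (IsLocalRing.maximalIdeal ↑(S.presheaf.stalk (h (f x)))))
        (↑(F.presheaf.stalk x) ⧸ (Ideal.map (h.stalkMap (f x)).hom (IsLocalRing.maximalIdeal ↑(S.presheaf.stalk (h (f x)))) •
          (⊤ : Submodule ↑(Y.presheaf.stalk (f x)) ↑(F.presheaf.stalk x))))) ↔
    ((h.stalkMap (f x)).hom.Flat ∧ FlatMod.IsFlatOverAt f F x) := by
  obtain ⟨hqc, hft⟩ := hF
  haveI : Module.Finite (X.presheaf.stalk x) (F.presheaf.stalk x) :=
    Groth.Agent.Helper4.QuasiFlat.finite_stalk F hft x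
  letI algAB : Algebra (S.presheaf.stalk (h (f x))) (Y.presheaf.stalk (f x)) :=
    (h.stalkMap (f x)).hom.toAlgebra
  letI algBC : Algebra (Y.presheaf.stalk (f x)) (X.presheaf.stalk x) := (f.stalkMap x).hom.toAlgebra
  letI algAC : Algebra (S.presheaf.stalk (h (f x))) (X.presheaf.stalk x) :=
    ((f ≫ h).stalkMap x).hom.toAlgebra
  have key : ∀ r : S.presheaf.stalk (h (f x)),
      ((f ≫ h).stalkMap x).hom r = (f.stalkMap x).hom ((h.stalkMap (f x)).hom r) := by
    intro r
    rw [Scheme.Hom.stalkMap_comp]
    rfl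
  haveI : IsScalarTower (S.presheaf.stalk (h (f x))) (Y.presheaf.stalk (f x)) (X.presheaf.stalk x) :=
    IsScalarTower.of_algebraMap_eq key
  haveI : IsLocalHom (algebraMap (S.presheaf.stalk (h (f x))) (Y.presheaf.stalk (f x))) :=
    inferInstanceAs (IsLocalHom (h.stalkMap (f x)).hom)
  haveI : IsLocalHom (algebraMap (Y.presheaf.stalk (f x)) (X.presheaf.stalk x)) :=
    inferInstanceAs (IsLocalHom (f.stalkMap x).hom)
  letI modB : Module (Y.presheaf.stalk (f x)) (F.presheaf.stalk x) := FlatMod.moduleStalkOver f F x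
  letI modA : Module (S.presheaf.stalk (h (f x))) (F.presheaf.stalk x) :=
    FlatMod.moduleStalkOver (f ≫ h) F x
  haveI : IsScalarTower (Y.presheaf.stalk (f x)) (X.presheaf.stalk x) (F.presheaf.stalk x) :=
    IsScalarTower.of_algebraMap_smul (fun _ _ => rfl)
  haveI : IsScalarTower (S.presheaf.stalk (h (f x))) (Y.presheaf.stalk (f x)) (F.presheaf.stalk x) := by
    refine IsScalarTower.of_algebraMap_smul (fun r m => ?_)
    change (f.stalkMap x).hom ((h.stalkMap (f x)).hom r) • m = ((f ≫ h).stalkMap x).hom r • m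
    rw [key r]
  exact fibrewise (A := S.presheaf.stalk (h (f x))) (B := Y.presheaf.stalk (f x))
    (C := X.presheaf.stalk x) (M := F.presheaf.stalk x)

end Groth.Agent.S4847
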