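import Groth.Statements.S4859
-- import your own Groth.Agent.* helpers here

set_option autoImplicit false
universe u
open EGA43

namespace Groth.Agent.S4859

/-- Conditions a), a′), b) (quasi-homeomorphisms): for a continuous map f : X₀ → X the following are
equivalent: taking preimages is a bijection from the open subsets of X onto the open subsets of X₀;
taking preimages is a bijection from the closed subsets of X onto the closed subsets of X₀; the
topology of X₀ is induced from X through f and the image f(X₀) is very dense in X, in the sense that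
two open subsets of X with the same trace on f(X₀) coincide. -/
theorem result {X₀ X : Type u} [TopologicalSpace X₀] [TopologicalSpace X]
    (f : X₀ → X) (hf : Continuous f) :
    [Function.Bijective (fun U : TopologicalSpace.Opens X =>
        (⟨f ⁻¹' (U : Set X), U.isOpen.preimage hf⟩ : TopologicalSpace.Opens X₀)),
      Function.Bijective (fun F : TopologicalSpace.Closeds X =>
        (⟨f ⁻¹' (F : Set X), F.isClosed.preimage hf⟩ : TopologicalSpace.Closeds X₀)),
      Topology.IsInducing f ∧
        ∀ U V : Set X, IsOpen U → IsOpen V → U ∩ Set.range f = V ∩ Set.range f → U = V].TFAE := by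
  have key : ∀ U V : Set X, f ⁻¹' U = f ⁻¹' V ↔ U ∩ Set.range f = V ∩ Set.range f := by
    intro U V
    constructor
    · intro h
      ext x
      constructor
      · rintro ⟨hx, y, rfl⟩
        exact ⟨(Set.ext_iff.mp h y).mp hx, y, rfl⟩
      · rintro ⟨hx, y, rfl⟩
        exact ⟨(Set.ext_iff.mp h y).mpr hx, y, rfl⟩
    · intro h
      ext y
      have := Set.ext_iff.mp h (f y)
      simp only [Set.mem_inter_iff, Set.mem_range_self, and_true] at this
      exact this
  tfae_have 1 ↔ 2 := by
    constructor
    · rintro ⟨hi, hs⟩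
      refine ⟨?_, ?_⟩
      · intro F G hFG
        have h1 : f ⁻¹' (F : Set X) = f ⁻¹' (G : Set X) := congrArg (fun Z : TopologicalSpace.Closeds X₀ => (Z : Set X₀)) hFG
        have := @hi ⟨(F : Set X)ᶜ, F.isClosed.isOpen_compl⟩ ⟨(G : Set X)ᶜ, G.isClosed.isOpen_compl⟩ (by
          apply TopologicalSpace.Opens.ext
          simp only [TopologicalSpace.Opens.coe_mk, Set.preimage_compl, h1])
        have h2 : (F : Set X)ᶜ = (G : Set X)ᶜ := congrArg (fun Z : TopologicalSpace.Opens X => (Z : Set X)) this
        exact TopologicalSpace.Closeds.ext (compl_injective h2)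
      · intro G
        obtain ⟨U, hU⟩ := hs ⟨(G : Set X₀)ᶜ, G.isClosed.isOpen_compl⟩
        refine ⟨⟨(U : Set X)ᶜ, U.isOpen.isClosed_compl⟩, ?_⟩
        apply TopologicalSpace.Closeds.ext
        have h2 : f ⁻¹' (U : Set X) = (G : Set X₀)ᶜ := congrArg (fun Z : TopologicalSpace.Opens X₀ => (Z : Set X₀)) hU
        simp only [TopologicalSpace.Closeds.coe_mk, Set.preimage_compl, h2, compl_compl]
    · rintro ⟨hi, hs⟩
      refine ⟨?_, ?_⟩
      · intro F G hFG
        have h1 : f ⁻¹' (F : Set X) = f ⁻¹' (G : Set X) := congrArg (fun Z : TopologicalSpace.Opens X₀ => (Z : Set X₀)) hFG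
        have := @hi ⟨(F : Set X)ᶜ, F.isOpen.isClosed_compl⟩ ⟨(G : Set X)ᶜ, G.isOpen.isClosed_compl⟩ (by
          apply TopologicalSpace.Closeds.ext
          simp only [TopologicalSpace.Closeds.coe_mk, Set.preimage_compl, h1])
        have h2 : (F : Set X)ᶜ = (G : Set X)ᶜ := congrArg (fun Z : TopologicalSpace.Closeds X => (Z : Set X)) this
        exact TopologicalSpace.Opens.ext (compl_injective h2)
      · intro G
        obtain ⟨U, hU⟩ := hs ⟨(G : Set X₀)ᶜ, G.isOpen.isClosed_compl⟩
        refine ⟨⟨(U : Set X)ᶜ, U.isClosed.isOpen_compl⟩, ?_⟩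
        apply TopologicalSpace.Opens.ext
        have h2 : f ⁻¹' (U : Set X) = (G : Set X₀)ᶜ := congrArg (fun Z : TopologicalSpace.Closeds X₀ => (Z : Set X₀)) hU
        simp only [TopologicalSpace.Opens.coe_mk, Set.preimage_compl, h2, compl_compl]
  tfae_have 1 ↔ 3 := by
    constructor
    · rintro ⟨hi, hs⟩
      refine ⟨?_, ?_⟩
      · rw [Topology.isInducing_iff, TopologicalSpace.ext_iff]
        intro s
        rw [isOpen_induced_iff]
        constructor
        · intro hso
          obtain ⟨U, hU⟩ := hs ⟨s, hso⟩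
          exact ⟨U, U.isOpen, congrArg (fun Z : TopologicalSpace.Opens X₀ => (Z : Set X₀)) hU⟩
        · rintro ⟨t, ht, rfl⟩
          exact ht.preimage hf
      · intro U V hU hV hUV
        have := @hi ⟨U, hU⟩ ⟨V, hV⟩ (by
          apply TopologicalSpace.Opens.ext
          exact (key U V).mpr hUV)
        exact congrArg (fun Z : TopologicalSpace.Opens X => (Z : Set X)) this
    · rintro ⟨hind, hd⟩
      refine ⟨?_, ?_⟩
      · intro U V hUV
        have h1 : f ⁻¹' (U : Set X) = f ⁻¹' (V : Set X) := congrArg (fun Z : TopologicalSpace.Opens X₀ => (Z : Set X₀)) hUV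
        exact TopologicalSpace.Opens.ext (hd _ _ U.isOpen V.isOpen ((key _ _).mp h1))
      · intro V
        obtain ⟨t, ht, htV⟩ := hind.isOpen_iff.mp V.isOpen
        exact ⟨⟨t, ht⟩, TopologicalSpace.Opens.ext htV⟩
  tfae_finish

end Groth.Agent.S4859
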