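import Groth.Statements.S4861
import Groth.Agent.Lib.Helper8.Goldman

set_option autoImplicit false
universe u
open EGA43

namespace Groth.Agent.S4861

/-- For a Noetherian integral domain B the following are equivalent (and hence equivalent to: the
fraction field of B is a finitely generated B-algebra; the generic point of Spec B is open): a) the
localization B_f is a field for some nonzero f; e) Spec B is finite; f) B is semi-local (finitely
many maximal ideals) of Krull dimension at most 1. -/
theorem result (B : Type u) [CommRing B] [IsDomain B]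
    [IsNoetherianRing B] :
    [∃ f : B, f ≠ 0 ∧ IsField (Localization.Away f),
      Finite (PrimeSpectrum B),
      Finite (MaximalSpectrum B) ∧ ringKrullDim B ≤ 1].TFAE := by
  tfae_have 1 → 2 := by
    rintro ⟨f, hf, hF⟩
    exact Groth.Agent.Helper8.Goldman.finite_primeSpectrum_of hf
      ((Groth.Agent.Helper8.Goldman.isField_away_iff hf).mp hF)
  tfae_have 2 → 1 := by
    intro h
    obtain ⟨f, hf, hq⟩ := Groth.Agent.Helper8.Goldman.exists_of_finite_primeSpectrum (B := B)
    exact ⟨f, hf, (Groth.Agent.Helper8.Goldman.isField_away_iff hf).mpr hq⟩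
  tfae_have 1 → 3 := by
    rintro ⟨f, hf, hF⟩
    have hq := (Groth.Agent.Helper8.Goldman.isField_away_iff hf).mp hF
    have : Finite (PrimeSpectrum B) := Groth.Agent.Helper8.Goldman.finite_primeSpectrum_of hf hq
    exact ⟨Finite.of_injective _ MaximalSpectrum.toPrimeSpectrum_injective,
      Groth.Agent.Helper8.Goldman.ringKrullDim_le_one_of hf hq⟩
  tfae_have 3 → 2 := by
    rintro ⟨hfin, hdim⟩
    exact Groth.Agent.Helper8.Goldman.finite_primeSpectrum_of_finite_maximalSpectrum hdim
  tfae_finish

end Groth.Agent.S4861
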