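import Groth.Statements.S4862
import Mathlib.RingTheory.Localization.Away.AdjoinRoot
import Mathlib.RingTheory.IntegralClosure.IsIntegralClosure.Basic
import Mathlib.RingTheory.Localization.FractionRing

set_option autoImplicit false
universe u
open EGA43

namespace Groth.Agent.S4862

/-- For a commutative ring A the following are equivalent: a) A is a Jacobson ring; b) for every prime
ideal p of A which is not maximal and every nonzero f of B = A/p, the localization B_f is not a
field; b′) every finitely generated A-algebra which is a field is a finite A-module. -/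
theorem result (A : Type u) [CommRing A] :
    [IsJacobsonRing A,
      ∀ (p : Ideal A) [p.IsPrime], ¬ p.IsMaximal → ∀ f : A ⧸ p, f ≠ 0 → ¬ IsField (Localization.Away f),
      ∀ (K : Type u) [Field K] [Algebra A K], Algebra.FiniteType A K → Module.Finite A K].TFAE := by
  classical
  tfae_have 1 → 3 := by
    intro hJ K _ _ hK
    exact finite_of_finite_type_of_isJacobsonRing A K
  tfae_have 3 → 2 := by
    intro h3 p hp hpmax f hf hfield
    let _ : Field (Localization.Away f) := hfield.toField
    have hfp1 : Algebra.FinitePresentation (A ⧸ p) (Localization.Away f) :=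
      IsLocalization.Away.finitePresentation f
    have hft1 : Algebra.FiniteType (A ⧸ p) (Localization.Away f) :=
      Algebra.FiniteType.of_finitePresentation
    have hft2 : Algebra.FiniteType A (A ⧸ p) :=
      Algebra.FiniteType.of_surjective (Algebra.ofId A (A ⧸ p)) Ideal.Quotient.mk_surjective
    have hft : Algebra.FiniteType A (Localization.Away f) := Algebra.FiniteType.trans hft2 hft1
    have hfin : Module.Finite A (Localization.Away f) := h3 (Localization.Away f) hft
    have hfin' : Module.Finite (A ⧸ p) (Localization.Away f) :=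
      Module.Finite.of_restrictScalars_finite A (A ⧸ p) (Localization.Away f)
    have hinj : Function.Injective (algebraMap (A ⧸ p) (Localization.Away f)) := by
      apply IsLocalization.injective (M := Submonoid.powers f)
      exact powers_le_nonZeroDivisors_of_noZeroDivisors hf
    have : Algebra.IsIntegral (A ⧸ p) (Localization.Away f) := Algebra.IsIntegral.of_finite _ _
    have hF : IsField (A ⧸ p) := isField_of_isIntegral_of_isField hinj hfield
    exact hpmax (Ideal.Quotient.maximal_of_isField p hF)
  tfae_have 2 → 1 := by
    intro h2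
    rw [isJacobsonRing_iff_prime_eq]
    intro P hP
    refine le_antisymm ?_ Ideal.le_jacobson
    intro x hxJ
    by_contra hxP
    -- a maximal ideal among those containing `P` and disjoint from the powers of `x`
    have hdisj : Disjoint (P : Set A) (Submonoid.powers x) := by
      rw [Set.disjoint_left]
      rintro _ hy ⟨n, rfl⟩
      exact hxP (hP.mem_of_pow_mem n hy)
    have ⟨Q, hPQ, hQ⟩ := zorn_le_nonempty₀ {Q : Ideal A | Disjoint (Q : Set A) (Submonoid.powers x)}
      (fun c hc hc' y hy ↦ by
        cases isEmpty_or_nonempty c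
        · exact ⟨P, hdisj, fun J hJ ↦ isEmptyElim (⟨J, hJ⟩ : c)⟩
        refine ⟨sSup c, Set.disjoint_left.mpr fun z hz ↦ ?_, fun _ ↦ le_sSup⟩
        have ⟨q, hq⟩ := (Submodule.mem_iSup_of_directed _ hc'.directed).mp (sSup_eq_iSup' c ▸ hz)
        exact Set.disjoint_left.mp (hc q.2) hq) P hdisj
    have hQdisj : Disjoint (Q : Set A) (Submonoid.powers x) := hQ.1
    have hQprime : Q.IsPrime :=
      Ideal.isPrime_of_maximally_disjoint _ _ hQ.1 (fun _ ↦ hQ.not_prop_of_gt)
    have hxQ : x ∉ Q := fun h => Set.disjoint_left.mp hQdisj h (Submonoid.mem_powers x)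
    have hQmax : ¬ Q.IsMaximal := by
      intro hmax
      apply hxQ
      rw [Ideal.jacobson, Ideal.mem_sInf] at hxJ
      exact hxJ ⟨hPQ, hmax⟩
    have hf : (Ideal.Quotient.mk Q x) ≠ 0 := by
      rwa [Ne, Ideal.Quotient.eq_zero_iff_mem]
    apply h2 Q hQmax (Ideal.Quotient.mk Q x) hf
    -- the localization is a field
    have hle : Submonoid.powers (Ideal.Quotient.mk Q x) ≤ nonZeroDivisors (A ⧸ Q) :=
      powers_le_nonZeroDivisors_of_noZeroDivisors hf
    have hdom : IsDomain (Localization.Away (Ideal.Quotient.mk Q x)) :=
      IsLocalization.isDomain_localization hle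
    rw [Ring.isField_iff_maximal_bot]
    obtain ⟨m', hm'⟩ := Ideal.exists_maximal (Localization.Away (Ideal.Quotient.mk Q x))
    have hcomap : (m'.comap (algebraMap (A ⧸ Q) (Localization.Away (Ideal.Quotient.mk Q x)))).comap
        (Ideal.Quotient.mk Q) = Q := by
      symm
      apply hQ.eq_of_le
      · show Disjoint _ _
        rw [Set.disjoint_left]
        rintro _ hy ⟨n, rfl⟩
        rw [SetLike.mem_coe, Ideal.mem_comap, Ideal.mem_comap, map_pow, map_pow] at hy
        have hunit : IsUnit (algebraMap (A ⧸ Q) (Localization.Away (Ideal.Quotient.mk Q x))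
            (Ideal.Quotient.mk Q x)) :=
          IsLocalization.map_units _ (⟨_, Submonoid.mem_powers _⟩ : Submonoid.powers (Ideal.Quotient.mk Q x))
        exact hm'.ne_top (Ideal.eq_top_of_isUnit_mem _ hy (hunit.pow n))
      · intro a ha
        rw [Ideal.mem_comap, Ideal.mem_comap, Ideal.Quotient.eq_zero_iff_mem.mpr ha, map_zero]
        exact Ideal.zero_mem _
    have hq : m'.comap (algebraMap (A ⧸ Q) (Localization.Away (Ideal.Quotient.mk Q x))) = ⊥ := by
      rw [← Ideal.map_comap_of_surjective (Ideal.Quotient.mk Q) Ideal.Quotient.mk_surjective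
        (m'.comap (algebraMap (A ⧸ Q) (Localization.Away (Ideal.Quotient.mk Q x)))), hcomap,
        Ideal.map_quotient_self]
    have hm'bot : m' = ⊥ := by
      rw [← IsLocalization.map_under (Submonoid.powers (Ideal.Quotient.mk Q x))
        (Localization.Away (Ideal.Quotient.mk Q x)) m']
      show Ideal.map _ (Ideal.comap _ m') = ⊥
      rw [hq, Ideal.map_bot]
    rw [← hm'bot]
    exact hm'
  tfae_finish

end Groth.Agent.S4862
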