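import Groth.Statements.S4872
import Mathlib.AlgebraicGeometry.AffineSpace
-- import your own Groth.Agent.* helpers here

set_option autoImplicit false
universe u
open CategoryTheory AlgebraicGeometry
open EGA43

namespace Groth.Agent.S4872

section
open CategoryTheory AlgebraicGeometry TopologicalSpace Limits

theorem b_to_c {X : Scheme.{u}} {ι : Type u} (Z : ι → Scheme.{u}) (f : ∀ i, Z i ⟶ X)
    (hb : ∀ (V : X.Opens) (t : Γ(X, V)), (∀ i, (f i).app V t = 0) → t = 0)
    (U : X.Opens) (Y : Scheme.{u}) (j : Y ⟶ (U : Scheme.{u})) (hj : IsClosedImmersion j)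
    (hg : ∀ i, ∃ g : ((f i) ⁻¹ᵁ U : Scheme.{u}) ⟶ Y, g ≫ j = (f i) ∣_ U) : IsIso j := by
  rw [IsClosedImmersion.isIso_iff_ker_eq_bot]
  ext V : 2
  rw [j.ker_apply, Scheme.IdealSheafData.ideal_bot, Pi.bot_apply, eq_bot_iff]
  intro t ht
  rw [RingHom.mem_ker] at ht
  rw [Ideal.mem_bot]
  have key : ∀ i, (f i).app (U.ι ''ᵁ V.1) t = 0 := by
    intro i
    obtain ⟨g, hg⟩ := hg i
    have ht' : (j.app V.1) t = 0 := ht
    have e1 := Scheme.Hom.congr_app hg.symm V.1
    have h1 : ((f i) ∣_ U).app V.1 t = 0 := by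
      have e2 := ConcreteCategory.congr_hom e1 t
      rw [e2]
      change (((f i ⁻¹ᵁ U : Scheme.{u})).presheaf.map _) ((g.app (j ⁻¹ᵁ V.1)) ((j.app V.1) t)) = 0
      rw [ht', map_zero, map_zero]
    rw [morphismRestrict_app] at h1
    have h2 : ((Z i).presheaf.map
        (eqToHom (image_morphismRestrict_preimage (f i) U V.1)).op)
          ((f i).app (U.ι ''ᵁ V.1) t) = 0 := h1
    have hinj : Function.Injective ((Z i).presheaf.map
        (eqToHom (image_morphismRestrict_preimage (f i) U V.1)).op) :=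
      (ConcreteCategory.bijective_of_isIso _).1
    apply hinj
    rw [map_zero]
    exact h2
  exact hb _ t key

theorem c_to_d {X S : Scheme.{u}} (p : X ⟶ S) {ι : Type u} (Z : ι → Scheme.{u})
    (f : ∀ i, Z i ⟶ X)
    (hc : ∀ (U : X.Opens) (Y : Scheme.{u}) (j : Y ⟶ (U : Scheme.{u})), IsClosedImmersion j →
        (∀ i, ∃ g : ((f i) ⁻¹ᵁ U : Scheme.{u}) ⟶ Y, g ≫ j = (f i) ∣_ U) → IsIso j)
    (X' : Scheme.{u}) (q : X' ⟶ S) (hq : IsSeparated q) (U : X.Opens)
    (u v : (U : Scheme.{u}) ⟶ X')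
    (hu : u ≫ q = U.ι ≫ p) (hv : v ≫ q = U.ι ≫ p)
    (huv : ∀ i, ((f i) ∣_ U) ≫ u = ((f i) ∣_ U) ≫ v) : u = v := by
  let A : Over S := Over.mk (U.ι ≫ p)
  let B : Over S := Over.mk q
  let u' : A ⟶ B := Over.homMk u hu
  let v' : A ⟶ B := Over.homMk v hv
  haveI : IsSeparated B.hom := hq
  have hcl : IsClosedImmersion (equalizer.ι u' v').left := inferInstance
  have hiso : IsIso (equalizer.ι u' v').left := by
    apply hc U _ _ hcl
    intro i
    let C : Over S := Over.mk (((f i) ∣_ U) ≫ U.ι ≫ p)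
    let w : C ⟶ A := Over.homMk ((f i) ∣_ U) rfl
    have hw : w ≫ u' = w ≫ v' := by
      ext
      exact huv i
    refine ⟨(equalizer.lift w hw).left, ?_⟩
    rw [← Over.comp_left, equalizer.lift_ι]
    rfl
  haveI : IsIso (equalizer.ι u' v') := by
    haveI : IsIso ((Over.forget S).map (equalizer.ι u' v')) := hiso
    exact isIso_of_reflects_iso _ (Over.forget S)
  have := Limits.eq_of_epi_equalizer (f := u') (g := v')
  exact congrArg CommaMorphism.left this

theorem d_to_b {X S : Scheme.{u}} (p : X ⟶ S) {ι : Type u} (Z : ι → Scheme.{u})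
    (f : ∀ i, Z i ⟶ X)
    (hd : ∀ (X' : Scheme.{u}) (q : X' ⟶ S), IsSeparated q → ∀ (U : X.Opens)
      (u v : (U : Scheme.{u}) ⟶ X'),
      u ≫ q = U.ι ≫ p → v ≫ q = U.ι ≫ p → (∀ i, ((f i) ∣_ U) ≫ u = ((f i) ∣_ U) ≫ v) → u = v)
    (V : X.Opens) (t : Γ(X, V)) (ht : ∀ i, (f i).app V t = 0) : t = 0 := by
  let t' : Γ((V : Scheme.{u}), ⊤) := V.topIso.inv t
  let u : (V : Scheme.{u}) ⟶ 𝔸(PUnit.{u+1}; S) := AffineSpace.homOfVector (V.ι ≫ p) (fun _ => t')
  let v : (V : Scheme.{u}) ⟶ 𝔸(PUnit.{u+1}; S) := AffineSpace.homOfVector (V.ι ≫ p) (fun _ => 0)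
  have key : ∀ i, ((f i) ∣_ V).appTop t' = 0 := by
    intro i
    rw [morphismRestrict_appTop]
    have h1 : (f i).app (V.ι ''ᵁ ⊤) (V.topIso.inv t) =
        (Z i).presheaf.map (eqToHom (by rw [V.ι_image_top])).op ((f i).app V t) := by
      rw [Scheme.Opens.topIso_inv]
      have := (f i).naturality (eqToIso V.ι_image_top.symm).op.inv
      exact ConcreteCategory.congr_hom this t
    change ((Z i).presheaf.map _) ((f i).app (V.ι ''ᵁ ⊤) (V.topIso.inv t)) = 0
    rw [h1, ht i, map_zero, map_zero]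
  have huv : u = v := by
    apply hd _ (𝔸(PUnit.{u+1}; S) ↘ S) inferInstance V u v
    · exact AffineSpace.homOfVector_over _ _
    · exact AffineSpace.homOfVector_over _ _
    · intro i
      rw [AffineSpace.comp_homOfVector, AffineSpace.comp_homOfVector]
      congr 1
      funext j
      simp only [Function.comp]
      rw [key i, map_zero]
  have h1 : u.appTop (AffineSpace.coord S PUnit.unit) = t' :=
    AffineSpace.homOfVector_appTop_coord _ _ _
  have h2 : v.appTop (AffineSpace.coord S PUnit.unit) = 0 :=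
    AffineSpace.homOfVector_appTop_coord _ _ _
  have h3 : t' = 0 := by rw [← h1, huv, h2]
  have hinj : Function.Injective V.topIso.inv := (ConcreteCategory.bijective_of_isIso _).1
  apply hinj
  rw [map_zero]
  exact h3

theorem main {X S : Scheme.{u}} (p : X ⟶ S) {ι : Type u} (Z : ι → Scheme.{u})
    (f : ∀ i, Z i ⟶ X) :
    [(∀ (V : (X).Opens) (t : Γ(X, V)), (∀ i, (f i).app V t = 0) → t = 0),
      ∀ (U : X.Opens) (Y : Scheme.{u}) (j : Y ⟶ (U : Scheme.{u})), IsClosedImmersion j →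
        (∀ i, ∃ g : ((f i) ⁻¹ᵁ U : Scheme.{u}) ⟶ Y, g ≫ j = (f i) ∣_ U) → IsIso j,
      ∀ (X' : Scheme.{u}) (q : X' ⟶ S), IsSeparated q → ∀ (U : X.Opens) (u v : (U : Scheme.{u}) ⟶ X'),
        u ≫ q = U.ι ≫ p → v ≫ q = U.ι ≫ p → (∀ i, ((f i) ∣_ U) ≫ u = ((f i) ∣_ U) ≫ v) → u = v].TFAE := by
  tfae_have 1 → 2 := fun hb U Y j hj hg => b_to_c Z f hb U Y j hj hg
  tfae_have 2 → 3 := fun hc X' q hq U u v hu hv huv => c_to_d p Z f hc X' q hq U u v hu hv huv
  tfae_have 3 → 1 := fun hd V t ht => d_to_b p Z f hd V t ht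
  tfae_finish

end

/-- Conditions b), c), d) (schematically dominant families): let p : X ⟶ S be a morphism and (f_i : Z_i
⟶ X) a family of morphisms. The following are equivalent: b) for every open V of X, a section of O_X
over V whose images in all the Γ(f_i⁻¹(V), O_{Z_i}) are zero is zero; c) for every open U of X, a
closed immersion j : Y ⟶ U through which each restriction f_i⁻¹(U) ⟶ U factors is an isomorphism; d)
for every separated S-scheme X', every open U of X and every pair of S-morphisms u, v : U ⟶ X'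
having the same composite with each f_i⁻¹(U) ⟶ U, one has u = v. -/
theorem result {X S : Scheme.{u}} (p : X ⟶ S) {ι : Type u} (Z : ι → Scheme.{u})
    (f : ∀ i, Z i ⟶ X) :
    [(∀ (V : (X).Opens) (t : Γ(X, V)), (∀ i, (f i).app V t = 0) → t = 0),
      ∀ (U : X.Opens) (Y : Scheme.{u}) (j : Y ⟶ (U : Scheme.{u})), IsClosedImmersion j →
        (∀ i, ∃ g : ((f i) ⁻¹ᵁ U : Scheme.{u}) ⟶ Y, g ≫ j = (f i) ∣_ U) → IsIso j,
      ∀ (X' : Scheme.{u}) (q : X' ⟶ S), IsSeparated q → ∀ (U : X.Opens) (u v : (U : Scheme.{u}) ⟶ X'),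
        u ≫ q = U.ι ≫ p → v ≫ q = U.ι ≫ p → (∀ i, ((f i) ∣_ U) ≫ u = ((f i) ∣_ U) ≫ v) → u = v].TFAE := by
  exact Groth.Agent.S4872.main p Z f

end Groth.Agent.S4872
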