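import Groth.Statements.S4880
import Groth.Agent.Lib.Helper2.OpenGeneric
-- import your own Groth.Agent.* helpers here

set_option autoImplicit false
universe u
open CategoryTheory AlgebraicGeometry
open EGA43

namespace Groth.Agent.S4880

section
open CategoryTheory AlgebraicGeometry TopologicalSpace Limits

theorem generic_spec (X : Scheme.{u}) [IrreducibleSpace X] (x : X) : genericPoint X ⤳ x :=
  (genericPoint_spec X).specializes trivial

theorem eq_generic_of_spec (X : Scheme.{u}) [IrreducibleSpace X] (x : X)
    (h : x ⤳ genericPoint X) : x = genericPoint X :=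
  (h.antisymm (generic_spec X x)).eq

/-- Every point of a scheme lies in an affine open; in a Noetherian scheme its ring is
Noetherian. -/
theorem key (X : Scheme.{u}) [IsNoetherian X] [IrreducibleSpace X]
    (ha : IsOpen ({genericPoint X} : Set X)) :
    Finite X ∧ ∀ y' y : X, y' ⤳ y → y' = genericPoint X ∨ y' = y := by
  have hO : ∀ y ∈ ({genericPoint X} : Set X), genericPoint X ⤳ y → y = genericPoint X :=
    fun y hy _ => hy
  have hloc : ∀ x : X, ∃ U : X.Opens, x ∈ U ∧ (U : Set X).Finite ∧
      ∀ y' y : X, y ∈ U → y' ⤳ y → y' = genericPoint X ∨ y' = y := by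
    intro x
    obtain ⟨_, ⟨U, hU, rfl⟩, hxU, -⟩ :=
      X.isBasis_affineOpens.exists_subset_of_mem_open (Set.mem_univ x) isOpen_univ
    have hU : IsAffineOpen U := hU
    haveI : IsNoetherianRing Γ(X, U) := IsLocallyNoetherian.component_noetherian ⟨U, hU⟩
    have hηU : genericPoint X ∈ U := (generic_spec X x).mem_open U.isOpen hxU
    obtain ⟨h1, h2⟩ := Groth.Agent.Helper2.OpenGeneric.finite_specializations hU
      (genericPoint X) hηU {genericPoint X} ha rfl hO
    refine ⟨U, hxU, ?_, ?_⟩
    · refine h1.subset ?_
      intro y hy
      exact ⟨hy, generic_spec X y⟩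
    · intro y' y hy hy'y
      exact h2 y' y hy (generic_spec X y') hy'y
  constructor
  · choose U hxU hfin _ using hloc
    obtain ⟨t, ht⟩ := isCompact_univ.elim_finite_subcover (fun x : X => (U x : Set X))
      (fun x => (U x).isOpen) (fun x _ => Set.mem_iUnion.mpr ⟨x, hxU x⟩)
    have : (Set.univ : Set X).Finite :=
      (t.finite_toSet.biUnion (fun x _ => hfin x)).subset ht
    exact Set.finite_univ_iff.mp this
  · intro y' y hy'y
    obtain ⟨U, hyU, -, h2⟩ := hloc y
    exact h2 y' y hyU hy'y

theorem isMin_or_isMax (X : Scheme.{u}) [IrreducibleSpace X]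
    (h : ∀ y' y : X, y' ⤳ y → y' = genericPoint X ∨ y' = y) (Z : IrreducibleCloseds X) :
    IsMin Z ∨ IsMax Z := by
  obtain ⟨z, hz⟩ := QuasiSober.sober Z.isIrreducible Z.isClosed
  by_cases hzη : z = genericPoint X
  · right
    intro W _
    intro w _
    change w ∈ (Z : Set X)
    rw [← hz.def, hzη, (genericPoint_spec X).def]
    trivial
  · left
    intro W hWZ
    obtain ⟨w, hw⟩ := QuasiSober.sober W.isIrreducible W.isClosed
    have hzw : z ⤳ w := by
      rw [specializes_iff_mem_closure, hz.def]
      apply hWZ
      change w ∈ (W : Set X)
      rw [← hw.def]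
      exact subset_closure rfl
    rcases h z w hzw with h1 | h1
    · exact (hzη h1).elim
    · intro a ha
      change a ∈ (W : Set X)
      rw [← hw.def, ← h1, hz.def]
      exact ha

theorem main (X : Scheme.{u}) [IsNoetherian X]
    [IrreducibleSpace X] :
    [IsOpen ({genericPoint X} : Set X),
      Finite X,
      topologicalKrullDim X ≤ 1 ∧ {x : X | IsClosed ({x} : Set X)}.Finite].TFAE := by
  tfae_have 1 → 2 := fun ha => (key X ha).1
  tfae_have 2 → 1 := by
    intro hfin
    have : ({genericPoint X} : Set X) = ⋂ x ∈ {x : X | x ≠ genericPoint X}, (closure {x})ᶜ := by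
      ext y
      simp only [Set.mem_singleton_iff, ne_eq, Set.mem_iInter, Set.mem_compl_iff]
      constructor
      · rintro rfl x hx hmem
        exact hx (eq_generic_of_spec X x (specializes_iff_mem_closure.mpr hmem))
      · intro hy
        by_contra hne
        exact hy y hne (subset_closure rfl)
    rw [this]
    exact Set.Finite.isOpen_biInter (Set.toFinite _) (fun x _ => isClosed_closure.isOpen_compl)
  tfae_have 1 → 3 := by
    intro ha
    obtain ⟨hfin, hchain⟩ := key X ha
    refine ⟨?_, Set.toFinite _⟩
    rw [topologicalKrullDim, Order.krullDim_le_one_iff]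
    exact isMin_or_isMax X hchain
  tfae_have 3 → 1 := by
    rintro ⟨hdim, hfin⟩
    rw [topologicalKrullDim, Order.krullDim_le_one_iff] at hdim
    -- every non-generic point is closed
    have hcl : ∀ x : X, x ≠ genericPoint X → IsClosed ({x} : Set X) := by
      intro x hx
      let Z : IrreducibleCloseds X :=
        ⟨closure {x}, isIrreducible_singleton.closure, isClosed_closure⟩
      rcases hdim Z with hmin | hmax
      · -- minimal: closure {x} = {x}
        have : closure ({x} : Set X) = {x} := by
          apply Set.Subset.antisymm _ subset_closure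
          intro y hy
          let W : IrreducibleCloseds X :=
            ⟨closure {y}, isIrreducible_singleton.closure, isClosed_closure⟩
          have hWZ : W ≤ Z := by
            intro a ha
            exact (isClosed_closure.closure_subset_iff.mpr
              (Set.singleton_subset_iff.mpr hy)) ha
          have hZW : Z ≤ W := hmin hWZ
          have hxy : x ∈ closure ({y} : Set X) := hZW (subset_closure rfl : x ∈ closure {x})
          have h1 : y ⤳ x := specializes_iff_mem_closure.mpr hxy
          have h2 : x ⤳ y := specializes_iff_mem_closure.mpr hy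
          exact (h1.antisymm h2).eq
        rw [← this]
        exact isClosed_closure
      · exfalso
        apply hx
        let T : IrreducibleCloseds X :=
          ⟨Set.univ, (IrreducibleSpace.isIrreducible_univ X), isClosed_univ⟩
        have hZT : Z ≤ T := fun a _ => trivial
        have hTZ : T ≤ Z := hmax hZT
        have : genericPoint X ∈ closure ({x} : Set X) := hTZ trivial
        exact eq_generic_of_spec X x (specializes_iff_mem_closure.mpr this)
    have : ({genericPoint X} : Set X)ᶜ = ⋃ x ∈ {x : X | IsClosed ({x} : Set X) ∧ x ≠ genericPoint X},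
        {x} := by
      ext y
      simp only [Set.mem_compl_iff, Set.mem_singleton_iff, ne_eq, Set.mem_iUnion, exists_prop]
      constructor
      · intro hy
        exact ⟨y, ⟨hcl y hy, hy⟩, rfl⟩
      · rintro ⟨x, ⟨-, hx⟩, rfl⟩
        exact hx
    rw [← isClosed_compl_iff, this]
    exact Set.Finite.isClosed_biUnion (hfin.subset (fun x hx => hx.1)) (fun x hx => hx.1)
  tfae_finish

end

/-- For a Noetherian irreducible scheme X the following are equivalent: a) the generic point of X is an
isolated point; b) the underlying set of X is finite; c) X has dimension at most 1 and finitely many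
closed points. -/
theorem result (X : Scheme.{u}) [IsNoetherian X]
    [IrreducibleSpace X] :
    [IsOpen ({genericPoint X} : Set X),
      Finite X,
      topologicalKrullDim X ≤ 1 ∧ {x : X | IsClosed ({x} : Set X)}.Finite].TFAE := by
  exact Groth.Agent.S4880.main X

end Groth.Agent.S4880
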