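import Groth.Statements.S4882
-- import your own Groth.Agent.* helpers here

set_option autoImplicit false
universe u
open EGA43

namespace Groth.Agent.S4882

/-- Let X be a Jacobson space and Z a locally quasi-constructible subset of X, i.e. every point of X has
an open neighbourhood U such that U ∩ Z is a finite union of locally closed subsets of X. Then the
subspace Z is a Jacobson space, and a point of Z is closed in Z if and only if it is closed in X. -/
theorem result {X : Type u} [TopologicalSpace X] [JacobsonSpace X]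
    (Z : Set X)
    (hZ : ∀ x : X, ∃ U : Set X, IsOpen U ∧ x ∈ U ∧
      ∃ T : Set (Set X), T.Finite ∧ (∀ t ∈ T, IsLocallyClosed t) ∧ U ∩ Z = ⋃₀ T) :
    JacobsonSpace ↥Z ∧ ∀ z : ↥Z, IsClosed ({z} : Set ↥Z) ↔ IsClosed ({(z : X)} : Set X) := by
  have conv : ∀ z : ↥Z, IsClosed ({(z : X)} : Set X) → IsClosed ({z} : Set ↥Z) := by
    intro z hz
    have : ({z} : Set ↥Z) = Subtype.val ⁻¹' ({(z : X)} : Set X) := by
      ext w
      simp [Subtype.ext_iff]
    rw [this]
    exact hz.preimage continuous_subtype_val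
  have main : ∀ z : ↥Z, IsClosed ({z} : Set ↥Z) → IsClosed ({(z : X)} : Set X) := by
    intro z hz
    obtain ⟨U, hU, hzU, T, hT, hTlc, hUZ⟩ := hZ z
    have hzUZ : (z : X) ∈ U ∩ Z := ⟨hzU, z.2⟩
    rw [hUZ] at hzUZ
    obtain ⟨t, htT, hzt⟩ := hzUZ
    have htZ : t ⊆ Z := fun x hx => by
      have : x ∈ U ∩ Z := by rw [hUZ]; exact ⟨t, htT, hx⟩
      exact this.2
    apply isClosed_singleton_of_isLocallyClosed_singleton
    have : ({(z : X)} : Set X) = closure {(z : X)} ∩ t := by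
      apply subset_antisymm
      · rintro x rfl
        exact ⟨subset_closure rfl, hzt⟩
      · rintro x ⟨hxc, hxt⟩
        have hxZ : x ∈ Z := htZ hxt
        have h1 : (⟨x, hxZ⟩ : ↥Z) ∈ closure ({z} : Set ↥Z) := by
          rw [closure_subtype]
          simpa using hxc
        rw [hz.closure_eq] at h1
        have := congrArg Subtype.val (Set.mem_singleton_iff.mp h1)
        exact this
    rw [this]
    exact isClosed_closure.isLocallyClosed.inter (hTlc t htT)
  refine ⟨?_, fun z => ⟨main z, conv z⟩⟩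
  rw [jacobsonSpace_iff_locallyClosed]
  intro W hWne hW
  obtain ⟨w, hw⟩ := hWne
  obtain ⟨U, hU, hwU, T, hT, hTlc, hUZ⟩ := hZ w
  have hwUZ : (w : X) ∈ U ∩ Z := ⟨hwU, w.2⟩
  rw [hUZ] at hwUZ
  obtain ⟨t, htT, hwt⟩ := hwUZ
  have htZ : t ⊆ Z := fun x hx => by
    have : x ∈ U ∩ Z := by rw [hUZ]; exact ⟨t, htT, hx⟩
    exact this.2
  obtain ⟨W', hW', rfl⟩ := (Topology.IsInducing.subtypeVal.isLocallyClosed_iff).mp hW
  obtain ⟨x, ⟨hxW', hxt⟩, hxcl⟩ := nonempty_inter_closedPoints (Z := W' ∩ t) ⟨w, hw, hwt⟩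
    (hW'.inter (hTlc t htT))
  exact ⟨⟨x, htZ hxt⟩, hxW', conv ⟨x, htZ hxt⟩ hxcl⟩

end Groth.Agent.S4882
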