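import Groth.Statements.S4883
import Groth.Agent.Lib.Helper2.OpenGeneric
-- import your own Groth.Agent.* helpers here

set_option autoImplicit false
universe u
open CategoryTheory AlgebraicGeometry
open EGA43

namespace Groth.Agent.S4883

section
open CategoryTheory AlgebraicGeometry TopologicalSpace Limits

theorem main (X : Scheme.{u}) [IsNoetherian X]
    (Z : Set X) (hZ : IsLocallyClosed Z) (hne : Z.Nonempty) :
    ∃ x ∈ Z, (closure ({x} : Set X)).Finite := by
  haveI : NoetherianSpace X := inferInstance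
  haveI : Nonempty Z := hne.to_subtype
  obtain ⟨z, -, hz⟩ := IsClosed.exists_closed_singleton (X := Z) isClosed_univ Set.univ_nonempty
  obtain ⟨O, C, hO, hC, rfl⟩ := hZ
  -- closure {z} ∩ O = {z}
  obtain ⟨C', hC', hC'z⟩ := isClosed_induced_iff.mp hz
  have hzC' : z.1 ∈ C' := by
    have : z ∈ Subtype.val ⁻¹' C' := by rw [hC'z]; rfl
    exact this
  have hOz : ∀ y ∈ O, z.1 ⤳ y → y = z.1 := by
    intro y hyO hzy
    have hy1 : y ∈ closure ({z.1} : Set X) := specializes_iff_mem_closure.mp hzy
    have hyC : y ∈ C := (hC.closure_subset_iff.mpr (Set.singleton_subset_iff.mpr z.2.2)) hy1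
    have hyC' : y ∈ C' := (hC'.closure_subset_iff.mpr (Set.singleton_subset_iff.mpr hzC')) hy1
    have : (⟨y, hyO, hyC⟩ : ↥(O ∩ C)) ∈ Subtype.val ⁻¹' C' := hyC'
    rw [hC'z] at this
    exact congrArg Subtype.val this
  refine ⟨z.1, z.2, ?_⟩
  -- local finiteness
  have hloc : ∀ x : X, ∃ U : X.Opens, x ∈ U ∧ ((U : Set X) ∩ closure ({z.1} : Set X)).Finite := by
    intro x
    obtain ⟨_, ⟨U, hU, rfl⟩, hxU, -⟩ :=
      X.isBasis_affineOpens.exists_subset_of_mem_open (Set.mem_univ x) isOpen_univ
    have hU : IsAffineOpen U := hU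
    haveI : IsNoetherianRing Γ(X, U) := IsLocallyNoetherian.component_noetherian ⟨U, hU⟩
    refine ⟨U, hxU, ?_⟩
    by_cases hzU : z.1 ∈ U
    · obtain ⟨h1, -⟩ := Groth.Agent.Helper2.OpenGeneric.finite_specializations hU
        z.1 hzU O hO z.2.1 hOz
      refine h1.subset ?_
      rintro y ⟨hyU, hy⟩
      exact ⟨hyU, specializes_iff_mem_closure.mpr hy⟩
    · convert Set.finite_empty
      rw [Set.eq_empty_iff_forall_notMem]
      rintro y ⟨hyU, hy⟩
      exact hzU ((specializes_iff_mem_closure.mpr hy).mem_open U.isOpen hyU)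
  choose U hxU hfin using hloc
  obtain ⟨t, ht⟩ := isCompact_univ.elim_finite_subcover (fun x : X => (U x : Set X))
    (fun x => (U x).isOpen) (fun x _ => Set.mem_iUnion.mpr ⟨x, hxU x⟩)
  refine (t.finite_toSet.biUnion (fun x _ => hfin x)).subset ?_
  intro y hy
  obtain ⟨x, hx, hyx⟩ := Set.mem_iUnion₂.mp (ht (Set.mem_univ y))
  exact Set.mem_iUnion₂.mpr ⟨x, hx, hyx, hy⟩

end

/-- Let X be a Noetherian scheme. Then the set of points x of X whose closure is finite is very dense in
X: every nonempty locally closed subset of X contains a point with finite closure. -/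
theorem result (X : Scheme.{u}) [IsNoetherian X]
    (Z : Set X) (hZ : IsLocallyClosed Z) (hne : Z.Nonempty) :
    ∃ x ∈ Z, (closure ({x} : Set X)).Finite := by
  exact Groth.Agent.S4883.main X Z hZ hne

end Groth.Agent.S4883
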