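import Groth.Statements.S4885
import Mathlib.RingTheory.Finiteness.ModuleFinitePresentation
-- import your own Groth.Agent.* helpers here

set_option autoImplicit false
universe u
open EGA43

namespace Groth.Agent.S4885

section

theorem main (A A' : Type u) [CommRing A] [CommRing A']
    [Algebra A A'] [Module.Finite A A'] :
    ∃ (ι : Type u) (_ : Preorder ι) (G : ι → Type u) (_ : ∀ i, CommRing (G i)) (_ : ∀ i, Algebra A (G i))
      (g : ∀ i j, i ≤ j → G i →ₐ[A] G j) (_ : ∀ i, Algebra (G i) A') (_ : ∀ i, IsScalarTower A (G i) A'),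
      FlatCA.IsDirectedColimitRing G (fun i j h => (g i j h).toRingHom) A' ∧
        ∀ i, Module.Finite A (G i) ∧ Algebra.FinitePresentation A (G i) := by
  obtain ⟨B, _, _, _, _, _, f, hf⟩ := Module.Finite.exists_free_surjective A A'
  let ι : Type u := {J : Ideal B // J.FG ∧ J ≤ RingHom.ker f.toRingHom}
  let G : ι → Type u := fun J => B ⧸ J.1
  let g : ∀ i j : ι, i ≤ j → G i →ₐ[A] G j := fun i j h => Ideal.Quotient.factorₐ A h
  let alg : ∀ i : ι, Algebra (G i) A' := fun i =>
    (Ideal.Quotient.liftₐ i.1 f (fun a ha => i.2.2 ha)).toRingHom.toAlgebra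
  have halg : ∀ (i : ι) (b : B), @algebraMap (G i) A' _ _ (alg i) (Ideal.Quotient.mk i.1 b) = f b := by
    intro i b
    rfl
  refine ⟨ι, inferInstance, G, fun i => inferInstance, fun i => inferInstance, g, alg, ?_, ?_, ?_⟩
  · intro i
    letI := alg i
    refine IsScalarTower.of_algebraMap_eq' ?_
    ext a
    have : algebraMap A (G i) a = Ideal.Quotient.mk i.1 (algebraMap A B a) := rfl
    rw [RingHom.comp_apply, this, halg, AlgHom.commutes]
  · refine ⟨?_, ?_, ?_, ?_, ?_, ?_, ?_⟩
    · refine ⟨fun i j => ⟨⟨i.1 ⊔ j.1, Submodule.FG.sup i.2.1 j.2.1, sup_le i.2.2 j.2.2⟩, ?_, ?_⟩⟩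
      · exact (le_sup_left : i.1 ≤ i.1 ⊔ j.1)
      · exact (le_sup_right : j.1 ≤ i.1 ⊔ j.1)
    · exact ⟨⟨⊥, Submodule.fg_bot, bot_le⟩⟩
    · intro i
      ext x
      rfl
    · intro i j k hij hjk
      ext x
      rfl
    · intro i j h
      ext x
      rfl
    · intro a
      obtain ⟨b, rfl⟩ := hf a
      exact ⟨⟨⊥, Submodule.fg_bot, bot_le⟩, Ideal.Quotient.mk _ b, rfl⟩
    · intro i x hx
      obtain ⟨b, rfl⟩ := Ideal.Quotient.mk_surjective x
      rw [halg] at hx
      have hb : b ∈ RingHom.ker f.toRingHom := hx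
      refine ⟨⟨i.1 ⊔ Ideal.span {b}, Submodule.FG.sup i.2.1 (Submodule.fg_span_singleton b),
        sup_le i.2.2 ((Ideal.span_singleton_le_iff_mem _).mpr hb)⟩, (le_sup_left : i.1 ≤ _), ?_⟩
      change Ideal.Quotient.mk _ b = 0
      rw [Ideal.Quotient.eq_zero_iff_mem]
      exact Ideal.mem_sup_right (Ideal.mem_span_singleton_self b)
  · intro i
    refine ⟨inferInstance, ?_⟩
    exact Algebra.FinitePresentation.quotient i.2.1

end

/-- Every finite algebra A' over a commutative ring A is a directed colimit (filtered inductive limit)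
of A-algebras which are finite and of finite presentation over A. -/
theorem result (A A' : Type u) [CommRing A] [CommRing A']
    [Algebra A A'] [Module.Finite A A'] :
    ∃ (ι : Type u) (_ : Preorder ι) (G : ι → Type u) (_ : ∀ i, CommRing (G i)) (_ : ∀ i, Algebra A (G i))
      (g : ∀ i j, i ≤ j → G i →ₐ[A] G j) (_ : ∀ i, Algebra (G i) A') (_ : ∀ i, IsScalarTower A (G i) A'),
      FlatCA.IsDirectedColimitRing G (fun i j h => (g i j h).toRingHom) A' ∧
        ∀ i, Module.Finite A (G i) ∧ Algebra.FinitePresentation A (G i) := by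
  exact Groth.Agent.S4885.main A A'

end Groth.Agent.S4885
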