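import Groth.Statements.S4886
import Mathlib.AlgebraicGeometry.Morphisms.Finite
import Mathlib.GroupTheory.FiniteAbelian.Basic
import Mathlib.RingTheory.Finiteness.Nakayama
import Mathlib.Data.Nat.Prime.Int
import Mathlib.RingTheory.PrincipalIdealDomain

set_option autoImplicit false
universe u
open CategoryTheory AlgebraicGeometry
open EGA43

namespace Groth.Agent.S4886

universe v

theorem jacobson_int : IsJacobsonRing ℤ := by
  rw [isJacobsonRing_iff_prime_eq]
  intro P hP
  by_cases hbot : P = ⊥
  · subst hbot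
    rw [eq_bot_iff]
    intro n hn
    by_contra hn0
    have hn0' : n ≠ 0 := fun h => hn0 (by simp [h])
    obtain ⟨p, hp1, hp⟩ := Nat.exists_infinite_primes (n.natAbs + 1)
    have hmax : (Ideal.span {(p : ℤ)}).IsMaximal :=
      PrincipalIdealRing.isMaximal_of_irreducible (Nat.prime_iff_prime_int.mp hp).irreducible
    have h1 := Ideal.mem_sInf.mp hn ⟨bot_le, hmax⟩
    rw [Ideal.mem_span_singleton] at h1
    have h2 := Int.natAbs_dvd_natAbs.mpr h1
    have h3 := Nat.le_of_dvd (Int.natAbs_pos.mpr hn0') h2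
    simp at h3
    omega
  · have := hP.isMaximal hbot
    exact Ideal.jacobson_eq_self_of_isMaximal

instance jacobson_ulift_int : IsJacobsonRing (ULift.{u} ℤ) :=
  (isJacobsonRing_iso (ULift.ringEquiv : ULift.{u} ℤ ≃+* ℤ)).mpr jacobson_int

/-- a field which is a finitely generated abelian group is finite -/
theorem finite_of_field_of_finite_int (K : Type u) [Field K] [Module.Finite ℤ K] : Finite K := by
  apply Module.finite_of_fg_torsion
  -- a nonzero integer killing `K`
  have key : ∃ r : ℤ, r ≠ 0 ∧ ∀ x : K, r • x = 0 := by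
    by_cases h2 : (2 : K) = 0
    · refine ⟨2, by norm_num, fun x => ?_⟩
      rw [zsmul_eq_mul]
      push_cast
      rw [h2, zero_mul]
    · have htop : (⊤ : Submodule ℤ K) ≤ (Ideal.span {(2 : ℤ)}) • (⊤ : Submodule ℤ K) := by
        intro x _
        have : x = (2 : ℤ) • ((2 : K)⁻¹ * x) := by
          rw [zsmul_eq_mul]; push_cast; rw [← mul_assoc, mul_inv_cancel₀ h2, one_mul]
        rw [this]
        exact Submodule.smul_mem_smul (Ideal.subset_span rfl) trivial
      obtain ⟨r, hr1, hr⟩ := Submodule.exists_sub_one_mem_and_smul_eq_zero_of_fg_of_le_smul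
        (Ideal.span {(2 : ℤ)}) (⊤ : Submodule ℤ K) Module.Finite.fg_top htop
      refine ⟨r, ?_, fun x => hr x trivial⟩
      rintro rfl
      rw [Ideal.mem_span_singleton] at hr1
      omega
  obtain ⟨r, hr0, hr⟩ := key
  intro x
  exact ⟨⟨r, mem_nonZeroDivisors_of_ne_zero hr0⟩, hr x⟩

theorem finite_int_of_ringHom_finite {B : Type u} [CommRing B] (f : ULift.{u} ℤ →+* B)
    (hf : f.Finite) : Module.Finite ℤ B := by
  let _ : Algebra (ULift.{u} ℤ) B := f.toAlgebra
  have hf' : @Module.Finite (ULift.{u} ℤ) B _ _ f.toAlgebra.toModule := hf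
  obtain ⟨s, hs⟩ := hf'.fg_top
  refine ⟨⟨s, ?_⟩⟩
  have key : ∀ b : B, b ∈ @Submodule.span (ULift.{u} ℤ) B _ _ f.toAlgebra.toModule (s : Set B) →
      b ∈ Submodule.span ℤ (s : Set B) := by
    intro b hb
    induction hb using Submodule.span_induction with
    | mem x hx => exact Submodule.subset_span hx
    | zero => exact Submodule.zero_mem _
    | add x y _ _ hx hy => exact Submodule.add_mem _ hx hy
    | smul a x _ hx =>
      change f a * x ∈ _
      have h1 : a = ((a.down : ℤ) : ULift.{u} ℤ) := rfl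
      have h2 : f a * x = (a.down : ℤ) • x := by
        rw [zsmul_eq_mul]
        congr 1
        rw [h1, map_intCast]
        rfl
      rw [h2]
      exact Submodule.smul_mem _ _ hx
  rw [eq_top_iff]
  intro b _
  exact key b (by rw [hs]; trivial)

theorem ringHom_finite_of_finite {A B : Type u} [CommRing A] [CommRing B] [Finite B] (f : A →+* B) :
    f.Finite := by
  let _ : Algebra A B := f.toAlgebra
  exact (Module.Finite.of_finite : @Module.Finite A B _ _ f.toAlgebra.toModule)

theorem part1 (Y : Scheme.{u})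
    [LocallyOfFiniteType (Limits.IsTerminal.from specULiftZIsTerminal Y)] (y : Y) :
    IsClosed ({y} : Set Y) ↔ Finite ↑(Y.residueField y) := by
  let s := Limits.IsTerminal.from specULiftZIsTerminal Y
  have : JacobsonSpace Y := LocallyOfFiniteType.jacobsonSpace s
  let g := Y.fromSpecResidueField y
  obtain ⟨φ, hφ⟩ := Spec.map_surjective (g ≫ s)
  constructor
  · intro hy
    have h1 : LocallyOfFiniteType g := isClosed_singleton_iff_locallyOfFiniteType.mp hy
    have h2 : LocallyOfFiniteType (g ≫ s) := inferInstance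
    have h3 : IsFinite (g ≫ s) := isFinite_iff_locallyOfFiniteType_of_jacobsonSpace.mpr h2
    rw [← hφ, IsFinite.SpecMap_iff] at h3
    have h6 : Module.Finite ℤ (Y.residueField y) := finite_int_of_ringHom_finite φ.hom h3
    exact finite_of_field_of_finite_int _
  · intro hfin
    have h3 : IsFinite (g ≫ s) := by
      rw [← hφ, IsFinite.SpecMap_iff]
      exact ringHom_finite_of_finite φ.hom
    have h2 : LocallyOfFiniteType (g ≫ s) := inferInstance
    have h1 : LocallyOfFiniteType g := locallyOfFiniteType_of_comp g s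
    exact isClosed_singleton_iff_locallyOfFiniteType.mpr h1

theorem finite_ringHom_of_finiteType {R A : Type u} {F : Type v} [CommRing R] [CommRing A] [CommRing F]
    [Finite F] (g : R →+* A) (hg : g.FiniteType) (hR : ∀ φ ψ : R →+* F, φ = ψ) :
    Finite (A →+* F) := by
  classical
  let _ : Algebra R A := g.toAlgebra
  have hg' : Algebra.FiniteType R A := hg
  obtain ⟨s, hs⟩ := hg'.out
  let m : (A →+* F) → (s → F) := fun φ i => φ i
  have hm : Function.Injective m := by
    intro φ ψ h
    have hs' : ∀ a ∈ s, φ a = ψ a := fun a ha => congrFun h ⟨a, ha⟩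
    have hg2 : φ.comp g = ψ.comp g := hR _ _
    ext a
    have ha : a ∈ Algebra.adjoin R (s : Set A) := by rw [hs]; trivial
    induction ha using Algebra.adjoin_induction with
    | mem x hx => exact hs' x hx
    | algebraMap r => exact congrArg (fun f => f r) hg2
    | add x y _ _ hx hy => rw [map_add, map_add, hx, hy]
    | mul x y _ _ hx hy => rw [map_mul, map_mul, hx, hy]
  exact Finite.of_injective m hm

theorem ringHom_ulift_int_ext {F : Type v} [CommRing F] (φ ψ : ULift.{u} ℤ →+* F) : φ = ψ := by
  ext a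
  have h1 : a = ((a.down : ℤ) : ULift.{u} ℤ) := rfl
  rw [h1, map_intCast, map_intCast]

theorem eq_of_mem_basicOpen_iff {Y : Scheme.{u}} {W : Y.Opens} (hW : IsAffineOpen W) {y y' : Y}
    (hy : y ∈ W) (hy' : y' ∈ W) (h : ∀ f : Γ(Y, W), y ∈ Y.basicOpen f ↔ y' ∈ Y.basicOpen f) :
    y = y' := by
  apply Inseparable.eq
  rw [inseparable_iff_forall_isOpen]
  intro V hV
  constructor
  · intro hyV
    obtain ⟨f, hf, hyf⟩ := hW.exists_basicOpen_le (V := ⟨V, hV⟩) ⟨y, hyV⟩ hy
    exact hf ((h f).mp hyf)
  · intro hyV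
    obtain ⟨f, hf, hyf⟩ := hW.exists_basicOpen_le (V := ⟨V, hV⟩) ⟨y', hyV⟩ hy'
    exact hf ((h f).mpr hyf)

theorem finite_inter_affine (Y : Scheme.{u})
    [LocallyOfFiniteType (Limits.IsTerminal.from specULiftZIsTerminal Y)]
    (F : Type v) [Field F] [Finite F] (W : Y.Opens) (hW : IsAffineOpen W) :
    ({y : Y | Nonempty (↑(Y.residueField y) →+* F)} ∩ (W : Set Y)).Finite := by
  classical
  let s := Limits.IsTerminal.from specULiftZIsTerminal Y
  have hft : (s.appLE ⊤ W le_top).hom.FiniteType :=
    HasRingHomProperty.appLE (P := @LocallyOfFiniteType) s inferInstance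
      ⟨⊤, isAffineOpen_top _⟩ ⟨W, hW⟩ _
  let e : Γ(Spec (.of (ULift.{u} ℤ)), ⊤) ≃+* ULift.{u} ℤ :=
    (Scheme.ΓSpecIso (.of (ULift.{u} ℤ))).commRingCatIsoToRingEquiv
  have hfin : Finite (Γ(Y, W) →+* F) := by
    refine finite_ringHom_of_finiteType _ hft (fun φ ψ => ?_)
    have h1 : φ.comp e.symm.toRingHom = ψ.comp e.symm.toRingHom := ringHom_ulift_int_ext _ _
    ext a
    have h2 := congrArg (fun f => f (e a)) h1
    simpa using h2
  rw [← Set.finite_coe_iff]
  let m : ↥({y : Y | Nonempty (↑(Y.residueField y) →+* F)} ∩ (W : Set Y)) → (Γ(Y, W) →+* F) :=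
    fun y => (Classical.choice y.2.1).comp (Y.evaluation W y.1 y.2.2).hom
  have hm : Function.Injective m := by
    intro y y' h
    apply Subtype.ext
    apply eq_of_mem_basicOpen_iff hW y.2.2 y'.2.2
    intro f
    rw [← Scheme.evaluation_ne_zero_iff_mem_basicOpen Y y.1 y.2.2 f,
      ← Scheme.evaluation_ne_zero_iff_mem_basicOpen Y y'.1 y'.2.2 f]
    have h2 : (Classical.choice y.2.1) ((Y.evaluation W y.1 y.2.2).hom f) =
        (Classical.choice y'.2.1) ((Y.evaluation W y'.1 y'.2.2).hom f) := congrArg (fun g => g f) h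
    rw [← (map_ne_zero_iff _ (Classical.choice y.2.1).injective),
      ← (map_ne_zero_iff _ (Classical.choice y'.2.1).injective)]
    rw [h2]
  exact Finite.of_injective m hm

theorem part2 (Y : Scheme.{u}) [CompactSpace Y]
    [LocallyOfFiniteType (Limits.IsTerminal.from specULiftZIsTerminal Y)]
    (F : Type v) [Field F] [Finite F] :
    {y : Y | Nonempty (↑(Y.residueField y) →+* F)}.Finite := by
  obtain ⟨t, ht, htU⟩ := (isCompact_iff_finite_and_eq_biUnion_affineOpens (X := Y)
    (U := ⊤)).mp (by simpa using isCompact_univ)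
  have : {y : Y | Nonempty (↑(Y.residueField y) →+* F)} ⊆
      ⋃ W ∈ t, ({y : Y | Nonempty (↑(Y.residueField y) →+* F)} ∩ ((W : Y.Opens) : Set Y)) := by
    intro y hy
    have hyU : y ∈ (⊤ : Y.Opens) := trivial
    rw [htU] at hyU
    simp only [TopologicalSpace.Opens.mem_iSup] at hyU
    simp only [Set.mem_iUnion]
    obtain ⟨W, hWt, hyW⟩ := hyU
    exact ⟨W, hWt, hy, hyW⟩
  exact (Set.Finite.biUnion ht (fun W _ => finite_inter_affine Y F W.1 W.2)).subset this


/-- Let Y be a scheme of finite type over ℤ. (i) A point y of Y is closed if and only if the residue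
field k(y) is finite. (ii) For every prime number p and every integer d ≥ 1, the set of points y of
Y such that k(y) is an extension of 𝔽_p of degree dividing d, i.e. admits a ring homomorphism into
the field with p^d elements, is finite. -/
theorem result (Y : Scheme.{u}) [CompactSpace Y]
    [LocallyOfFiniteType (Limits.IsTerminal.from specULiftZIsTerminal Y)] :
    (∀ y : Y, IsClosed ({y} : Set Y) ↔ Finite ↑(Y.residueField y)) ∧
    ∀ (p d : ℕ) [Fact p.Prime], 0 < d →
      {y : Y | Nonempty (↑(Y.residueField y) →+* GaloisField p d)}.Finite := by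
  refine ⟨fun y => part1 Y y, fun p d _ _ => part2 Y (GaloisField p d)⟩

end Groth.Agent.S4886
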