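import Groth.Statements.S4888
import Groth.Agent.Lib.Helper8.JD3

set_option autoImplicit false
universe u
open CategoryTheory AlgebraicGeometry
open EGA43

namespace Groth.Agent.S4888

/-- Let X be a locally Noetherian Jacobson scheme whose local rings are universally catenary and whose
irreducible components are equidimensional (for every irreducible component X' and closed point x of
X', dim X' equals the dimension of the space of generizations of x in X'); let Y be a closed subset
of X and x a point of Y. Then dim_x(Y) = dim(U ∩ Y) = dim cl{x} + codim(cl{x}, Y) = sup_i dim(Y_i);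
that is, the local dimension of Y at x equals the dimension of the closure of x plus the codimension
of that closure in Y (the Krull dimension of the space of generizations of x in Y), equals the
supremum of the dimensions of the irreducible components Y_i of Y through x, and equals dim(U ∩ Y)
for every open neighbourhood U of x meeting no irreducible component of Y that avoids x. (The
published statement assumes only the Jacobson and universally-catenary conditions; its proof applies
the dimension formula for dense opens to the irreducible components, which needs their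
equidimensionality, and for an irreducible Noetherian Jacobson scheme with universally catenary
local rings having two closed points with local rings of different dimensions n − 1 and n — such
schemes exist — the two sides differ at the first of these points; so equidimensionality of the
components is assumed here.) -/
theorem result (X : Scheme.{u}) [IsLocallyNoetherian X] [JacobsonSpace X]
    (h2 : ∀ x : X, CAlg.IsUniversallyCatenary (X.presheaf.stalk x))
    (h3 : ∀ X' ∈ irreducibleComponents (X : Type u), ∀ x ∈ X', IsClosed ({x} : Set X) →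
      topologicalKrullDim (↥X' : Type u) = topologicalKrullDim ↥{t : X | t ∈ X' ∧ t ⤳ x})
    (Y : Set X) (hY : IsClosed Y) (x : X) (hx : x ∈ Y) :
    FlatMor.localDim ↥Y ⟨x, hx⟩ =
        topologicalKrullDim ↥(closure ({x} : Set X)) + topologicalKrullDim ↥{t : X | t ∈ Y ∧ t ⤳ x} ∧
      FlatMor.localDim ↥Y ⟨x, hx⟩ =
        ⨆ C ∈ {C : Set ↥Y | C ∈ irreducibleComponents ↥Y ∧ (⟨x, hx⟩ : ↥Y) ∈ C}, topologicalKrullDim ↥C ∧
      ∀ U : Set X, IsOpen U → x ∈ U →
        (∀ C ∈ irreducibleComponents ↥Y, (⟨x, hx⟩ : ↥Y) ∉ C → Disjoint (Subtype.val ⁻¹' U) C) →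
        topologicalKrullDim ↥(U ∩ Y) = FlatMor.localDim ↥Y ⟨x, hx⟩ := by
  have h2' : ∀ s : X, CAlg.IsCatenary (X.presheaf.stalk s) := fun s =>
    (h2 s).2 _ inferInstance
  have hδ := Groth.Agent.Helper14.EquidimDimFun.isDimFun_deltaN h2' h3
  have h0 : ∀ s : X, IsClosed ({s} : Set X) →
      ((Groth.Agent.Helper14.EquidimDimFun.deltaN s : ℕ) : ℤ) = 0 := by
    intro s hs
    rw [Groth.Agent.Helper14.EquidimDimFun.deltaN_closed h2' h3 s hs]
    rfl
  obtain ⟨η₀, hη₀, hη₀x, hmax⟩ := Groth.Agent.Helper8.JD.exists_max
    (fun t => (Groth.Agent.Helper14.EquidimDimFun.deltaN t : ℤ)) hδ Y x hx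
  have e1 := Groth.Agent.Helper8.JD.localDim_eq _ hδ Y hY x hx h0 η₀ hη₀ hη₀x hmax
  refine ⟨?_, ?_, ?_⟩
  · rw [e1]
    exact (Groth.Agent.Helper8.JD.dim_closure_add_topDim_gen _ hδ Y hY x h0 η₀ hη₀ hη₀x hmax).symm
  · rw [e1]
    exact (Groth.Agent.Helper8.JD.iSup_components_eq _ hδ Y hY x hx h0 η₀ hη₀ hη₀x hmax).symm
  · intro U hU hxU hdis
    rw [e1]
    exact Groth.Agent.Helper8.JD.topDim_inter_eq _ hδ Y hY x hx h0 η₀ hη₀ hη₀x hmax U hU hxU hdis

end Groth.Agent.S4888
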