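import Groth.Statements.S4889
import Groth.Agent.Lib.Helper8.JD4

set_option autoImplicit false
universe u
open CategoryTheory AlgebraicGeometry
open EGA43

namespace Groth.Agent.S4889

/-- Stated as the dimension equality to which its two-line proof reduces it: let S be a locally
Noetherian Jacobson scheme whose local rings are universally catenary and whose irreducible
components are equidimensional (for every irreducible component S' and every closed point s of S',
dim S' equals the dimension of the space of generizations of s in S'); let g : X ⟶ S be a morphism
locally of finite type, F a coherent O_X-module, Y its support and x a point of Y. Then dim(cl{x}) +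
dim(F_x) = dim_x(Y), where dim(F_x) is the Krull dimension of the O_{X,x}-module F_x (the Krull
dimension of its support in Spec O_{X,x}) and dim_x(Y) is the local dimension of Y at x. (The
published statement reads prof*_x(F) = dim_x(Y) − coprof(F_x), with the rectified depth prof*_x(F) =
prof(F_x) + dim cl{x} and the codepth coprof(F_x) = dim(F_x) − prof(F_x); for the nonzero finitely
generated module F_x this is the equality stated here. The published form of the special case in
which the base is X itself assumes only the Jacobson and universally-catenary conditions; this row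
keeps the equidimensionality of the irreducible components of the base, which the proof uses and
without which the formula fails.) -/
theorem result {X S : Scheme.{u}} [IsLocallyNoetherian S]
    [JacobsonSpace S] (h2 : ∀ s : S, CAlg.IsUniversallyCatenary (S.presheaf.stalk s))
    (h3 : ∀ S' ∈ irreducibleComponents (S : Type u), ∀ s ∈ S', IsClosed ({s} : Set S) →
      topologicalKrullDim (↥S' : Type u) = topologicalKrullDim ↥{t : S | t ∈ S' ∧ t ⤳ s})
    (g : X ⟶ S) [LocallyOfFiniteType g] (F : X.Modules) (hF : Coh.IsCoh F) (x : X) (hx : x ∈ CohB1.support F) :
    topologicalKrullDim ↥(closure ({x} : Set X)) + Module.supportDim ↑(X.presheaf.stalk x) ↑(F.presheaf.stalk x) =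
      FlatMor.localDim ↥(CohB1.support F) ⟨x, hx⟩ := by
  haveI : IsLocallyNoetherian X := LocallyOfFiniteType.isLocallyNoetherian g
  haveI : JacobsonSpace X := LocallyOfFiniteType.jacobsonSpace g
  have hδ := Groth.Agent.Helper8.JD.isDimFun_deltaX h2 h3 g
  have h0 := Groth.Agent.Helper8.JD.deltaX_closed h2 h3 g
  have hY := Groth.Agent.Helper26.DevD.isClosed_support F hF
  obtain ⟨η₀, hη₀, hη₀x, hmax⟩ := Groth.Agent.Helper8.JD.exists_max
    (Groth.Agent.Helper8.JD.deltaX g) hδ (CohB1.support F) x hx
  have e1 := Groth.Agent.Helper8.JD.localDim_eq _ hδ (CohB1.support F) hY x hx h0 η₀ hη₀ hη₀x hmax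
  have e2 := Groth.Agent.Helper8.JD.dim_closure _ hδ h0 x
  have e3 := Groth.Agent.Helper8.JD.supportDim_stalk _ hδ
    (Groth.Agent.Helper8.JD.delta_nonneg _ hδ h0) F hF x hx η₀ hη₀ hη₀x hmax
  rw [e1, e2, add_comm, e3]

end Groth.Agent.S4889
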