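import Groth.Statements.S4891
import Groth.Agent.S0400

set_option autoImplicit false
universe u
open TensorProduct
open EGA43

namespace Groth.Agent.S4891


/-- Let A be a commutative ring, J a nilpotent ideal of A, B a commutative A-algebra and M a B-module.
If M is flat over A, M/JM is flat over B/JB, B/JB is flat over A/J and mM ≠ M for every maximal
ideal m of B containing JB, then B is flat over A. (Under the first two hypotheses M is also flat
over B; that implication is stated elsewhere and not repeated here.) -/
theorem result {A B : Type u} [CommRing A] [CommRing B] [Algebra A B]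
    (J : Ideal A) (hJ : IsNilpotent J) (M : Type u) [AddCommGroup M] [Module B M] [Module A M] [IsScalarTower A B M]
    (hc1 : Module.Flat A M)
    (hc2 : Module.Flat (B ⧸ J.map (algebraMap A B)) ((B ⧸ J.map (algebraMap A B)) ⊗[B] M))
    (hd1 : Module.Flat (A ⧸ J) ((A ⧸ J) ⊗[A] B))
    (hd2 : ∀ m : Ideal B, m.IsMaximal → J.map (algebraMap A B) ≤ m → (m • (⊤ : Submodule B M)) ≠ ⊤) :
    Module.Flat A B := by
  have hflatBM : Module.Flat B M := Groth.Agent.S0400.result J hJ hc2
  have hnil : IsNilpotent (J.map (algebraMap A B)) := by
    obtain ⟨n, hn⟩ := hJ
    refine ⟨n, ?_⟩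
    rw [← Ideal.map_pow, hn]
    exact Ideal.map_bot
  have hff : Module.FaithfullyFlat B M := by
    refine ⟨fun m hm => hd2 m hm ?_⟩
    obtain ⟨n, hn⟩ := hnil
    have h1 : (J.map (algebraMap A B)) ^ n ≤ m := by
      rw [hn]; exact bot_le
    exact hm.isPrime.le_of_pow_le h1
  rw [Module.Flat.iff_lTensor_preserves_injective_linearMap]
  intro N N' _ _ _ _ f hf
  have h1 : Function.Injective (f.baseChange B) := by
    rw [← Module.FaithfullyFlat.lTensor_injective_iff_injective B M (f.baseChange B)]
    let e := TensorProduct.AlgebraTensorModule.cancelBaseChange A B B M N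
    let e' := TensorProduct.AlgebraTensorModule.cancelBaseChange A B B M N'
    have hcomm : ∀ x, e' ((f.baseChange B).lTensor M x) = (f.lTensor M) (e x) := by
      intro x
      induction x using TensorProduct.induction_on with
      | zero => simp
      | add x y hx hy => rw [map_add, map_add, map_add, map_add, hx, hy]
      | tmul m y =>
        induction y using TensorProduct.induction_on with
        | zero => simp
        | add y z hy hz =>
          rw [TensorProduct.tmul_add, map_add, map_add, map_add, map_add, hy, hz]
        | tmul b n =>
          rw [LinearMap.lTensor_tmul, LinearMap.baseChange_tmul]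
          change TensorProduct.AlgebraTensorModule.cancelBaseChange A B B M N' (m ⊗ₜ (b ⊗ₜ f n)) =
            (f.lTensor M) (TensorProduct.AlgebraTensorModule.cancelBaseChange A B B M N
              (m ⊗ₜ (b ⊗ₜ n)))
          rw [TensorProduct.AlgebraTensorModule.cancelBaseChange_tmul,
            TensorProduct.AlgebraTensorModule.cancelBaseChange_tmul, LinearMap.lTensor_tmul]
    intro x y hxy
    apply e.injective
    apply Module.Flat.lTensor_preserves_injective_linearMap (M := M) f hf
    rw [← hcomm, ← hcomm, hxy]
  intro x y hxy
  exact h1 hxy

end Groth.Agent.S4891
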