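import Groth.Statements.S4897
import Groth.Agent.Lib.Helper8.QuasiHomeo2

set_option autoImplicit false
universe u
open EGA43

namespace Groth.Agent.S4897

/-- Let f : X → Y be a quasi-homeomorphism, i.e. a continuous map such that U ↦ f⁻¹(U) is a bijection
from the open subsets of Y onto the open subsets of X. Then Z ↦ f⁻¹(Z) induces bijections from the
locally closed (resp. constructible, resp. locally constructible) subsets of Y onto those of X. -/
theorem result {X Y : Type u}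
    [TopologicalSpace X] [TopologicalSpace Y] (f : X → Y) (hf : Continuous f)
    (hq : Function.Bijective (fun U : TopologicalSpace.Opens Y =>
      (⟨f ⁻¹' (U : Set Y), U.isOpen.preimage hf⟩ : TopologicalSpace.Opens X))) :
    Function.Bijective (fun Z : {Z : Set Y // IsLocallyClosed Z} =>
        (⟨f ⁻¹' Z.1, Z.2.preimage hf⟩ : {Z : Set X // IsLocallyClosed Z})) ∧
      Set.BijOn (fun Z : Set Y => f ⁻¹' Z) {Z | Topology.IsConstructible Z} {Z | Topology.IsConstructible Z} ∧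
      Set.BijOn (fun Z : Set Y => f ⁻¹' Z) {Z | Topology.IsLocallyConstructible Z}
        {Z | Topology.IsLocallyConstructible Z} := by
  have hq' := Groth.Agent.Helper8.qh_of_bijective f hf hq
  refine ⟨⟨?_, ?_⟩, ⟨?_, ?_, ?_⟩, ⟨?_, ?_, ?_⟩⟩
  · rintro ⟨Z₁, h₁⟩ ⟨Z₂, h₂⟩ h
    have h' : f ⁻¹' Z₁ = f ⁻¹' Z₂ := congrArg Subtype.val h
    exact Subtype.ext (hq'.preimage_injOn_lqc (Groth.Agent.Helper8.IsLocallyClosed.lqc h₁)
      (Groth.Agent.Helper8.IsLocallyClosed.lqc h₂) h')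
  · rintro ⟨_, V, D, hV, hD, rfl⟩
    obtain ⟨U, hU, rfl⟩ := hq'.2 V hV
    obtain ⟨E, hE, hED⟩ := hq'.2 Dᶜ hD.isOpen_compl
    refine ⟨⟨U ∩ Eᶜ, U, Eᶜ, hU, hE.isClosed_compl, rfl⟩, Subtype.ext ?_⟩
    simp only [Set.preimage_inter, Set.preimage_compl, hED, compl_compl]
  · intro Z hZ
    exact hq'.isConstructible_preimage hf hZ
  · intro Z₁ h₁ Z₂ h₂ h
    exact hq'.preimage_injOn_lqc (Groth.Agent.Helper8.IsConstructible.qc h₁).lqc
      (Groth.Agent.Helper8.IsConstructible.qc h₂).lqc h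
  · intro Z' hZ'
    obtain ⟨Z, hZ, rfl⟩ := hq'.exists_isConstructible_preimage_eq hf hZ'
    exact ⟨Z, hZ, rfl⟩
  · intro Z hZ
    exact hq'.isLocallyConstructible_preimage hf hZ
  · intro Z₁ h₁ Z₂ h₂ h
    exact hq'.preimage_injOn_lqc (Groth.Agent.Helper8.IsLocallyConstructible.lqc h₁)
      (Groth.Agent.Helper8.IsLocallyConstructible.lqc h₂) h
  · intro Z' hZ'
    obtain ⟨Z, hZ, rfl⟩ := hq'.exists_isLocallyConstructible_preimage_eq hf hZ'
    exact ⟨Z, hZ, rfl⟩

end Groth.Agent.S4897
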