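import Groth.Statements.S4903
import Groth.Agent.Lib.Helper8.QuasiHomeo3

set_option autoImplicit false
universe u
open EGA43

namespace Groth.Agent.S4903

/-- Conditions a), b), b′), c″), c‴) and its last assertion: given a topological space X and a subset X₀
⊆ X, the statements below are equivalent. Every locally closed subset of X that is nonempty
intersects X₀. Every nonempty locally quasi-constructible subset of X intersects X₀; here a subset
is locally quasi-constructible when each point of X has an open neighbourhood on which the subset's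
trace can be written as a union of finitely many locally closed sets. Each locally
quasi-constructible Z ⊆ X is contained in the closure of Z ∩ X₀. Any two quasi-constructible subsets
of X (unions of finitely many locally closed sets) having equal traces on X₀ coincide. Any two
locally quasi-constructible subsets of X having equal traces on X₀ coincide. Assuming these
conditions, each locally quasi-constructible subset of the subspace X₀ arises as the trace on X₀ of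
some locally quasi-constructible subset of X. -/
theorem result {X : Type u} [TopologicalSpace X] (X₀ : Set X) :
    [∀ Z : Set X, IsLocallyClosed Z → Z.Nonempty → (Z ∩ X₀).Nonempty,
      ∀ Z : Set X, (∀ x : X, ∃ U : Set X, IsOpen U ∧ x ∈ U ∧ ∃ T : Set (Set X), T.Finite ∧ (∀ t ∈ T, IsLocallyClosed t) ∧ U ∩ Z = ⋃₀ T) → Z.Nonempty → (Z ∩ X₀).Nonempty,
      ∀ Z : Set X, (∀ x : X, ∃ U : Set X, IsOpen U ∧ x ∈ U ∧ ∃ T : Set (Set X), T.Finite ∧ (∀ t ∈ T, IsLocallyClosed t) ∧ U ∩ Z = ⋃₀ T) → Z ⊆ closure (Z ∩ X₀),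
      ∀ Z Z' : Set X, (∃ T : Set (Set X), T.Finite ∧ (∀ t ∈ T, IsLocallyClosed t) ∧ Z = ⋃₀ T) → (∃ T : Set (Set X), T.Finite ∧ (∀ t ∈ T, IsLocallyClosed t) ∧ Z' = ⋃₀ T) → Z ∩ X₀ = Z' ∩ X₀ → Z = Z',
      ∀ Z Z' : Set X, (∀ x : X, ∃ U : Set X, IsOpen U ∧ x ∈ U ∧ ∃ T : Set (Set X), T.Finite ∧ (∀ t ∈ T, IsLocallyClosed t) ∧ U ∩ Z = ⋃₀ T) → (∀ x : X, ∃ U : Set X, IsOpen U ∧ x ∈ U ∧ ∃ T : Set (Set X), T.Finite ∧ (∀ t ∈ T, IsLocallyClosed t) ∧ U ∩ Z' = ⋃₀ T) → Z ∩ X₀ = Z' ∩ X₀ → Z = Z'].TFAE ∧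
    ((∀ Z : Set X, IsLocallyClosed Z → Z.Nonempty → (Z ∩ X₀).Nonempty) →
      ∀ Z₀ : Set ↥X₀, (∀ x : ↥X₀, ∃ U : Set ↥X₀, IsOpen U ∧ x ∈ U ∧ ∃ T : Set (Set ↥X₀), T.Finite ∧ (∀ t ∈ T, IsLocallyClosed t) ∧ U ∩ Z₀ = ⋃₀ T) →
        ∃ Z : Set X, (∀ x : X, ∃ U : Set X, IsOpen U ∧ x ∈ U ∧ ∃ T : Set (Set X), T.Finite ∧ (∀ t ∈ T, IsLocallyClosed t) ∧ U ∩ Z = ⋃₀ T) ∧ Subtype.val ⁻¹' Z = Z₀) := by
  refine ⟨?_, ?_⟩
  · tfae_have 1 → 2 := by
      intro h Z hZ hne
      obtain ⟨z, hz⟩ := hne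
      have hZ' : Groth.Agent.Helper8.LQC Z := hZ
      obtain ⟨t, htlc, hzt, htZ⟩ := hZ'.exists_locallyClosed_subset hz
      obtain ⟨y, hyt, hy0⟩ := h t htlc ⟨z, hzt⟩
      exact ⟨y, htZ hyt, hy0⟩
    tfae_have 2 → 1 := by
      intro h Z hZ hne
      exact h Z (Groth.Agent.Helper8.IsLocallyClosed.lqc hZ) hne
    tfae_have 2 → 3 := by
      intro h Z hZ z hz
      rw [mem_closure_iff]
      intro V hV hzV
      have hZ' : Groth.Agent.Helper8.LQC Z := hZ
      obtain ⟨y, ⟨hyV, hyZ⟩, hy0⟩ := h (V ∩ Z) (hZ'.inter_isOpen hV) ⟨z, hzV, hz⟩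
      exact ⟨y, hyV, hyZ, hy0⟩
    tfae_have 3 → 1 := by
      intro h Z hZ hne
      obtain ⟨z, hz⟩ := hne
      have h1 := h Z (Groth.Agent.Helper8.IsLocallyClosed.lqc hZ) hz
      obtain ⟨U, C, hU, hC, rfl⟩ := hZ
      obtain ⟨y, _, hy⟩ := mem_closure_iff.mp h1 U hU hz.1
      exact ⟨y, hy⟩
    tfae_have 1 → 5 := by
      intro h Z Z' hZ hZ' he
      have hq := Groth.Agent.Helper8.qh_subtype_val_of_veryDense X₀ h
      apply hq.preimage_injOn_lqc hZ hZ'
      ext ⟨x, hx⟩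
      have := Set.ext_iff.mp he x
      simp only [Set.mem_inter_iff, hx, and_true] at this
      exact this
    tfae_have 5 → 4 := by
      intro h Z Z' hZ hZ' he
      exact h Z Z' (Groth.Agent.Helper8.QC.lqc hZ) (Groth.Agent.Helper8.QC.lqc hZ') he
    tfae_have 4 → 1 := by
      intro h Z hZ hne
      by_contra hem
      rw [Set.not_nonempty_iff_eq_empty] at hem
      have := h Z ∅ (Groth.Agent.Helper8.IsLocallyClosed.qc hZ) Groth.Agent.Helper8.QC.empty
        (by rw [hem, Set.empty_inter])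
      rw [this] at hne
      exact Set.not_nonempty_empty hne
    tfae_finish
  · intro h Z₀ hZ₀
    have hq := Groth.Agent.Helper8.qh_subtype_val_of_veryDense X₀ h
    obtain ⟨Z, hZ, hZe⟩ := hq.exists_lqc_preimage_eq hZ₀
    exact ⟨Z, hZ, hZe⟩

end Groth.Agent.S4903
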