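import Groth.Statements.S4907
import Groth.Agent.S4906
import Groth.Agent.Lib.Helper8.RDep4
import Groth.Agent.Lib.Helper8.RDep5
import Groth.Agent.Lib.Helper26.DevD
import Groth.Agent.Lib.Helper3.LocalDim
import Groth.Agent.Lib.Lead.Depth5

set_option autoImplicit false
universe u
open CategoryTheory AlgebraicGeometry
open EGA43

namespace Groth.Agent.S4907

/-- Let X be a regular biequidimensional scheme (Noetherian, regular local rings, finite dimension, all
irreducible components of dimension dim X, and dim T = dim cl{y} + codim(cl{y}, T) for every closed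
irreducible T and point y of T) and F a coherent O_X-module. Then the rectified depth x ↦ prof(F_x)
+ dim cl{x} is lower semicontinuous: for every integer n the set of x with prof(F_x) + dim cl{x} ≥ n
is open. -/
theorem result (X : Scheme.{u}) [IsNoetherian X]
    (hreg : ∀ x : X, IsRegularLocalRing ↑(X.presheaf.stalk x))
    (hfin : topologicalKrullDim X < ⊤)
    (hcomp : ∀ C ∈ irreducibleComponents (X : Type u), topologicalKrullDim ↥C = topologicalKrullDim X)
    (hchain : ∀ (y : X) (T : Set X), IsClosed T → IsIrreducible T → y ∈ T →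
      topologicalKrullDim ↥T = topologicalKrullDim ↥(closure ({y} : Set X)) + topologicalKrullDim ↥{t : X | t ∈ T ∧ t ⤳ y})
    (F : X.Modules) (hF : Coh.IsCoh F) (n : ℕ) :
    IsOpen {x : X | (n : WithBot ℕ∞) ≤
      ((LocCoh.depth ↑(X.presheaf.stalk x) ↑(F.presheaf.stalk x) : ℕ∞) : WithBot ℕ∞) +
        topologicalKrullDim ↥(closure ({x} : Set X))} := by
  by_cases hne : Nonempty X
  swap
  · rw [not_nonempty_iff] at hne
    convert isOpen_empty
    exact Set.eq_empty_of_isEmpty _
  have h0 : (0 : WithBot ℕ∞) ≤ topologicalKrullDim X :=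
    Groth.Agent.Helper3.LocalDim.topologicalKrullDim_nonneg X
  obtain ⟨d, hd⟩ : ∃ d : ℕ, topologicalKrullDim X = (d : WithBot ℕ∞) := by
    generalize topologicalKrullDim X = r at h0 hfin
    induction r with
    | bot => simp at h0
    | coe r =>
      induction r with
      | top => exact absurd hfin (lt_irrefl _)
      | coe r => exact ⟨r, rfl⟩
  have hopenT : IsOpen {x : X | projectiveDimension
      (ModuleCat.of ↑(X.presheaf.stalk x) ↑(F.presheaf.stalk x)) + (n : WithBot ℕ∞) ≤
        (d : WithBot ℕ∞)} := by
    by_cases hnd : n ≤ d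
    · convert Groth.Agent.Helper8.RDep.isOpen_pd_le X F hF (d - n) using 1
      ext x
      exact Groth.Agent.Helper8.RDep.arith1 _ n d hnd
    · convert (Groth.Agent.Helper26.DevD.isClosed_support F hF).isOpen_compl using 1
      ext x
      rw [Set.mem_setOf_eq, Groth.Agent.Helper8.RDep.arith2 _ n d hnd,
        CategoryTheory.projectiveDimension_eq_bot_iff, ModuleCat.isZero_of_iff_subsingleton]
      change _ ↔ ¬ ¬ Subsingleton _
      rw [not_not]
  convert hopenT using 1
  ext x
  rw [Set.mem_setOf_eq, Set.mem_setOf_eq]
  by_cases hx : x ∈ CohB1.support F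
  · have h1 := Groth.Agent.S4906.result X hreg hfin hcomp hchain F hF x hx
    haveI := hreg x
    haveI : Module.Finite (X.presheaf.stalk x) (F.presheaf.stalk x) :=
      Groth.Agent.Helper4.QuasiFlat.finite_stalk F hF.2 x
    haveI : Nontrivial (F.presheaf.stalk x) := not_subsingleton_iff_nontrivial.mp hx
    obtain ⟨e, he, -⟩ := Groth.Agent.Helper8.RDep.exists_pd_add_depth
      (R := X.presheaf.stalk x) (F.presheaf.stalk x)
    rw [he, hd] at h1
    rw [he]
    exact Groth.Agent.Helper8.RDep.arith3 _ e n d h1
  · have hs : Subsingleton (F.presheaf.stalk x) := not_not.mp hx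
    have hP : projectiveDimension
        (ModuleCat.of ↑(X.presheaf.stalk x) ↑(F.presheaf.stalk x)) = ⊥ := by
      rw [CategoryTheory.projectiveDimension_eq_bot_iff, ModuleCat.isZero_of_iff_subsingleton]
      exact hs
    rw [hP, Groth.Agent.Lead.Depth.depth_eq_top_of_subsingleton]
    constructor
    · intro _
      simp
    · intro _
      have h2 : (0 : WithBot ℕ∞) ≤ topologicalKrullDim ↥(closure ({x} : Set X)) := by
        haveI : Nonempty ↥(closure ({x} : Set X)) := ⟨⟨x, subset_closure rfl⟩⟩
        exact Groth.Agent.Helper3.LocalDim.topologicalKrullDim_nonneg _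
      generalize topologicalKrullDim ↥(closure ({x} : Set X)) = c at h2
      induction c with
      | bot => simp at h2
      | coe c =>
        rw [← WithBot.coe_add, top_add]
        have : (n : WithBot ℕ∞) = ((n : ℕ∞) : WithBot ℕ∞) := rfl
        rw [this, WithBot.coe_le_coe]
        exact le_top

end Groth.Agent.S4907
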