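import Groth.Statements.S4917
import Mathlib
import Groth.Agent.Lib.Helper14.OpenGenericLift
import Groth.Agent.Lib.Helper14.EquidimAtMk
-- import your own Groth.Agent.* helpers here

set_option autoImplicit false
open CategoryTheory AlgebraicGeometry
universe u v w
open EGA43

namespace Groth.Agent.S4917

/-- Assume Y is a locally Noetherian scheme and X is an irreducible scheme, and consider a dominant
morphism f : X ⟶ Y that is locally of finite type. Fix a point x of X and write y = f x. If, for
every irreducible component of the fibre X_y that contains x, the morphism f is open at the generic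
point of that component, then f is equidimensional at x. -/
theorem result {X Y : Scheme.{u}} [IsLocallyNoetherian Y]
    [IrreducibleSpace X] (f : X ⟶ Y) [LocallyOfFiniteType f] [IsDominant f] (x : X)
    (h : ∀ z : ↥(f.fiber (f.base x)), f.asFiber x ∈ closure {z} →
      (∀ z' : ↥(f.fiber (f.base x)), z ∈ closure {z'} → z' = z) →
      EGA43.IsOpenAt f.base ((f.fiberι (f.base x)).base z)) :
    EGA43.IsEquidimAt f x := by
  open Groth.Agent.Helper14 in
  haveI : IsLocallyNoetherian X := LocallyOfFiniteType.isLocallyNoetherian f
  have hd : DenseRange f.base := f.denseRange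
  haveI : IrreducibleSpace Y := by
    have h1 : IsIrreducible (closure (Set.range f.base)) := by
      rw [← Set.image_univ]
      exact ((IrreducibleSpace.isIrreducible_univ X).image f.base
        f.continuous.continuousOn).closure
    rw [hd.closure_range] at h1
    exact (irreducibleSpace_def Y).mpr h1
  have hfξ : f.base (genericPoint X) = genericPoint Y := FibreGeneric.map_genericPoint f hd
  obtain ⟨e, he⟩ := ResFieldBridge.exists_nat_trdeg_residueField f (genericPoint X)
  have hX := EquidimAt.forall_maximal_of_fibre f x (fun z => EGA43.IsOpenAt f.base z) h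
  -- the local fibre dimension at `x` is `e`
  obtain ⟨z₀, n, hz₀x, hfz₀, hz₀max, hn, hfd⟩ := EquidimAt.exists_maximal_trdeg_eq_fibreDimAt f x
  have ho := hX z₀ hfz₀ hz₀x hz₀max
  obtain ⟨ξ', n', hξ'max, hξ'z₀, hfξ', hn', hn''⟩ :=
    OpenGenericLift.exists_generic_of_isOpenAt f z₀ hz₀max ho
  have hξ' : ξ' = genericPoint X := FibreClosure.eq_genericPoint_of_maximal ξ' hξ'max
  subst hξ'
  have e1 : n' = e := by
    have := hn'.symm.trans he
    exact_mod_cast this
  have e2 : n = n' := by
    have := hn.symm.trans hn''
    exact_mod_cast this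
  have hfdx : FlatMor.fibreDimAt f x = (e : WithBot ℕ∞) := by rw [hfd, e2, e1]
  let U : X.Opens := ⟨{x' : X | FlatMor.fibreDimAt f x' ≤ e}, Groth.Agent.S0402.result f e⟩
  have hxU : x ∈ U := hfdx.le
  apply EquidimAt.of_spec f x e U hxU
  · intro ξ _ hξmax
    have hξ : ξ = genericPoint X := FibreClosure.eq_genericPoint_of_maximal ξ hξmax
    subst hξ
    rw [hfξ]
    refine ⟨fun η' hη' => (hη'.antisymm (genericPoint_specializes _)).eq,
      genericPoint_specializes _⟩
  · intro z hzU hzmax
    obtain ⟨m, hm⟩ := ResFieldBridge.exists_nat_trdeg_residueField f z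
    have h1 : (m : WithBot ℕ∞) ≤ e := by
      rw [← FibreMax.fibreDimAt_eq_of_maximal f z hzmax m hm]
      exact hzU
    obtain ⟨x₁, -, hx₁z, hfx₁, n₁, hn₁, hle⟩ :=
      RestrictedChevalley.rc f z (genericPoint X) (genericPoint_specializes z) e he
    have hx₁ := hzmax x₁ hfx₁ hx₁z
    subst hx₁
    have e3 : n₁ = m := by
      have := hn₁.symm.trans hm
      exact_mod_cast this
    have e4 : m ≤ e := by exact_mod_cast h1
    have e5 : m = e := by omega
    rw [hm, e5]

end Groth.Agent.S4917
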