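import Groth.Statements.S4919
import Mathlib
import Groth.Agent.Lib.Helper14.OpenGenericLift
import Groth.Agent.Lib.Helper14.ClosedFibreDim
-- import your own Groth.Agent.* helpers here

set_option autoImplicit false
open CategoryTheory AlgebraicGeometry
universe u v w
open EGA43

namespace Groth.Agent.S4919

/-- Let Y be an irreducible locally Noetherian scheme with generic point η, f : X ⟶ Y a morphism locally
of finite type, y a point of Y and Z an irreducible component of the fibre f⁻¹(y) (a maximal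
irreducible subset of f⁻¹(y), with the topology induced from X) such that f is open at the generic
point ζ of Z. Then there is an irreducible component X' of X containing Z and dominating Y such that
the local dimension of X' ∩ f⁻¹(y) at ζ equals dim Z, and dim Z = dim (X' ∩ f⁻¹(η)). (The published
statement writes the middle term as the dimension of the whole of X' ∩ f⁻¹(y); its proof yields only
the local dimension at the generic point of Z, and the global equality can fail: for the
endomorphism (a, b) ↦ (ab, b² − b) of the affine plane over a field, the fibre over the origin is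
the line b = 0 together with the isolated point (0, 1), at which the map is étale, hence open; with
Z that point, X' is the whole plane, X' ∩ f⁻¹(y) has dimension 1 and dim Z = 0. So the local form is
stated here.) -/
theorem result {X Y : Scheme.{u}} [IrreducibleSpace Y]
    [IsLocallyNoetherian Y] (f : X ⟶ Y) [LocallyOfFiniteType f] (y : Y) (Z : Set X)
    (hZy : Z ⊆ f.base ⁻¹' {y}) (hZ : IsIrreducible Z)
    (hZmax : ∀ Z' : Set X, IsIrreducible Z' → Z' ⊆ f.base ⁻¹' {y} → Z ⊆ Z' → Z' = Z)
    (hopen : ∀ ζ ∈ Z, Z ⊆ closure {ζ} → EGA43.IsOpenAt f.base ζ) :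
    ∃ X' ∈ irreducibleComponents (X : Type u), Z ⊆ X' ∧ Dense (f.base '' X') ∧
      (∀ ζ ∈ Z, Z ⊆ closure {ζ} → ∀ hζ : ζ ∈ X' ∩ f.base ⁻¹' {y},
        FlatMor.localDim ↥(X' ∩ f.base ⁻¹' {y}) ⟨ζ, hζ⟩ = topologicalKrullDim ↥Z) ∧
      topologicalKrullDim ↥Z = topologicalKrullDim ↥(X' ∩ f.base ⁻¹' {genericPoint Y}) := by
  open Groth.Agent.Helper14 in
  haveI : IsLocallyNoetherian X := LocallyOfFiniteType.isLocallyNoetherian f
  obtain ⟨ζ, nζ, hζZ, hZζ, hfζ, hnζ, hdimZ, hfdζ⟩ :=
    SectionComp.exists_generic_of_fibre_component f y Z hZy hZ hZmax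
  subst hfζ
  have hζmax : ∀ x₁ : X, f.base x₁ = f.base ζ → x₁ ⤳ ζ → x₁ = ζ := by
    intro x₁ hfx₁ hx₁ζ
    have hirr := ClosedFibreDim.isIrreducible_closure_inter_fibre f x₁
    rw [hfx₁] at hirr
    have hsub : Z ⊆ closure {x₁} ∩ f.base ⁻¹' {f.base ζ} := fun z hz =>
      ⟨specializes_iff_closure_subset.mp hx₁ζ (hZζ hz), hZy hz⟩
    have hZ' := hZmax _ hirr Set.inter_subset_right hsub
    have hx₁Z : x₁ ∈ Z := by rw [← hZ']; exact ⟨subset_closure rfl, hfx₁⟩
    have : ζ ⤳ x₁ := specializes_iff_mem_closure.mpr (hZζ hx₁Z)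
    exact (hx₁ζ.antisymm this).eq
  have ho := hopen ζ hζZ hZζ
  obtain ⟨ξ, n, hξmax, hξζ, hfξ, hn, hn'⟩ :=
    OpenGenericLift.exists_generic_of_isOpenAt f ζ hζmax ho
  have hnn : nζ = n := by
    have := hnζ.symm.trans hn'
    exact_mod_cast this
  subst hnn
  refine ⟨closure {ξ}, FibreClosure.closure_mem_irreducibleComponents_of_maximal ξ hξmax,
    ?_, ?_, ?_, ?_⟩
  · exact hZζ.trans (specializes_iff_closure_subset.mp hξζ)
  · intro y'
    have h0 : genericPoint Y ∈ f.base '' closure {ξ} := ⟨ξ, subset_closure rfl, hfξ⟩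
    have h1 : closure {genericPoint Y} ⊆ closure (f.base '' closure {ξ}) :=
      closure_mono (Set.singleton_subset_iff.mpr h0)
    apply h1
    rw [(genericPoint_spec Y).def]
    trivial
  · intro ζ' hζ'Z hZζ' hζ'
    have e : ζ' = ζ := by
      have h1 : ζ ⤳ ζ' := specializes_iff_mem_closure.mpr (hZζ hζ'Z)
      have h2 : ζ' ⤳ ζ := specializes_iff_mem_closure.mpr (hZζ' hζZ)
      exact (h2.antisymm h1).eq
    subst e
    rw [hdimZ]
    obtain ⟨z, n', hzT, hzζ, hfz, -, hn'', hld⟩ :=
      ClosedFibreDim.exists_maximal_trdeg_eq_localDim f ⟨closure {ξ}, isClosed_closure⟩ ζ' hζ'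
    have hz : z = ζ' := hζmax z hfz hzζ
    subst hz
    have e2 : n' = nζ := by
      have := hn''.symm.trans hnζ
      exact_mod_cast this
    rw [e2] at hld
    exact hld
  · rw [hdimZ, ← hfξ, FibreClosure.topDim_closure_inter_fibre f ξ nζ hn]

end Groth.Agent.S4919
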