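import Groth.Statements.S4920
import Mathlib
import Groth.Agent.Lib.Helper14.FibreMax
import Groth.Agent.Lib.Helper14.OpenGenericLift
-- import your own Groth.Agent.* helpers here

set_option autoImplicit false
open CategoryTheory AlgebraicGeometry
universe u v w
open EGA43

namespace Groth.Agent.S4920

/-- Let Y be an irreducible locally Noetherian scheme with generic point η, f : X ⟶ Y a morphism locally
of finite type and y a point of Y such that f is open at every point of the fibre over y. For z in Y
write E(z) for the set of dimensions of the irreducible components of the fibre X_z. Then E(y) ⊆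
E(η), and consequently dim X_y ≤ dim X_η. -/
theorem result {X Y : Scheme.{u}} [IrreducibleSpace Y] [IsLocallyNoetherian Y]
    (f : X ⟶ Y) [LocallyOfFiniteType f] (y : Y) (h : ∀ x : X, f.base x = y → EGA43.IsOpenAt f.base x) :
    letI E : Y → Set (WithBot ℕ∞) := fun z =>
      (fun Z : Set ↥(f.fiber z) => topologicalKrullDim ↥Z) '' irreducibleComponents ↥(f.fiber z)
    E y ⊆ E (genericPoint Y) ∧
      topologicalKrullDim ↥(f.fiber y) ≤ topologicalKrullDim ↥(f.fiber (genericPoint Y)) := by
  open Groth.Agent.Helper14 in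
  set E : Y → Set (WithBot ℕ∞) := fun z =>
      (fun Z : Set ↥(f.fiber z) => topologicalKrullDim ↥Z) '' irreducibleComponents ↥(f.fiber z) with hE
  have hsub : E y ⊆ E (genericPoint Y) := by
    rintro d ⟨Z, hZ, rfl⟩
    obtain ⟨z, n, hfz, hmax, hn, hdim⟩ := FibreMax.exists_of_mem_irreducibleComponents f y Z hZ
    obtain ⟨ξ, m, hξmax, hξz, hfξ, hm, hm'⟩ :=
      OpenGenericLift.exists_generic_of_isOpenAt f z hmax (h z hfz)
    have hmn : m = n := by
      have := hm'.symm.trans hn
      exact_mod_cast this
    subst hmn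
    obtain ⟨Z', hZ', hdim'⟩ := FibreMax.exists_irreducibleComponent_of_maximal f (genericPoint Y) ξ hfξ
      (fun x₁ _ hx₁ => hξmax x₁ hx₁) m hm
    exact ⟨Z', hZ', by change topologicalKrullDim ↥Z' = topologicalKrullDim ↥Z; rw [hdim', hdim]⟩
  refine ⟨hsub, ?_⟩
  apply FibreMax.topDim_le_of_irreducibleComponents
  intro Z hZ
  obtain ⟨Z', hZ', hZZ'⟩ := hsub ⟨Z, hZ, rfl⟩
  have h1 : topologicalKrullDim ↥Z' = topologicalKrullDim ↥Z := hZZ'
  rw [← h1]
  exact topologicalKrullDim_subspace_le _ Z'

end Groth.Agent.S4920
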