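import Groth.Statements.S4921
import Mathlib
import Groth.Agent.Lib.Helper14.FibreConst
-- import your own Groth.Agent.* helpers here

set_option autoImplicit false
open CategoryTheory AlgebraicGeometry
universe u v w
open EGA43

namespace Groth.Agent.S4921

/-- Let Y be a locally Noetherian scheme, f : X ⟶ Y a proper morphism and y a point of Y such that f is
open at every point of the fibre over y. Then the function z ↦ dim X_z is constant on a
neighbourhood of y. -/
theorem result {X Y : Scheme.{u}} [IsLocallyNoetherian Y] (f : X ⟶ Y)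
    [IsProper f] (y : Y) (h : ∀ x : X, f.base x = y → EGA43.IsOpenAt f.base x) :
    ∃ V ∈ nhds y, ∀ z ∈ V, topologicalKrullDim ↥(f.fiber z) = topologicalKrullDim ↥(f.fiber y) := by
  open Groth.Agent.Helper14 in
  have hcl : IsClosedMap f.base := f.isClosedMap
  by_cases hne : ∃ x : X, f x = y
  · obtain ⟨ζ, N, hfζ, hg, hdim, hmaxN⟩ := FibreConst.exists_isGen_dim_eq f y hne
    have hV₂ := hg.eventually f (h ζ hfζ) ⊤ trivial
    rw [hfζ] at hV₂
    have hC : IsClosed (f '' {x' : X | ((N+1 : ℕ) : WithBot ℕ∞) ≤ FlatMor.fibreDimAt f x'}) :=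
      hcl _ (OpenGenericLift.isClosed_le_fibreDimAt f (N+1))
    have hy : y ∉ f '' {x' : X | ((N+1 : ℕ) : WithBot ℕ∞) ≤ FlatMor.fibreDimAt f x'} := by
      rintro ⟨x', hx', hfx'⟩
      obtain ⟨ζ', n, -, hfζ', hgζ', hfd⟩ := FibreConst.exists_isGen f x'
      have hle := hmaxN ζ' n (hfζ'.trans hfx') hgζ'
      rw [Set.mem_setOf_eq, hfd] at hx'
      have : N + 1 ≤ n := by exact_mod_cast hx'
      omega
    refine ⟨_ ∩ _, Filter.inter_mem (hC.isOpen_compl.mem_nhds hy) hV₂, ?_⟩
    rintro z ⟨hz1, ζ', -, hfζ', hg'⟩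
    rw [hdim]
    refine le_antisymm ?_ (FibreConst.le_dim_fiber f z ζ' N hfζ' hg')
    apply FibreConst.dim_fiber_le
    intro ζ'' n hfζ'' hg''
    by_contra hlt
    apply hz1
    refine ⟨ζ'', ?_, hfζ''⟩
    rw [Set.mem_setOf_eq, hg''.fibreDimAt_eq]
    have : ¬ n ≤ N := by exact_mod_cast hlt
    exact_mod_cast (by omega : N + 1 ≤ n)
  · push Not at hne
    have hbot := FibreConst.dim_fiber_eq_bot f y hne
    have hr : IsClosed (Set.range f) := hcl.isClosed_range
    refine ⟨(Set.range f)ᶜ, hr.isOpen_compl.mem_nhds (by rintro ⟨x, hx⟩; exact hne x hx),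
      fun z hz => ?_⟩
    rw [hbot]
    exact FibreConst.dim_fiber_eq_bot f z (fun x hx => hz ⟨x, hx⟩)

end Groth.Agent.S4921
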