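import Groth.Statements.S4922
import Mathlib
import Groth.Agent.Lib.Helper14.FibreConst
-- import your own Groth.Agent.* helpers here

set_option autoImplicit false
open CategoryTheory AlgebraicGeometry
universe u v w
open EGA43

namespace Groth.Agent.S4922

/-- Let Y be a locally Noetherian scheme, f : X ⟶ Y an open morphism of finite type and y a point of Y.
If dim X_y = dim X_{η} for the generic point η of every irreducible component of Y containing y,
then z ↦ dim X_z is constant on a neighbourhood of y. -/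
theorem result {X Y : Scheme.{u}} [IsLocallyNoetherian Y]
    (f : X ⟶ Y) [LocallyOfFiniteType f] [QuasiCompact f] (hf : IsOpenMap f.base) (y : Y)
    (h : ∀ η : Y, y ∈ closure {η} → closure {η} ∈ irreducibleComponents (Y : Type u) →
      topologicalKrullDim ↥(f.fiber y) = topologicalKrullDim ↥(f.fiber η)) :
    ∃ V ∈ nhds y, ∀ z ∈ V, topologicalKrullDim ↥(f.fiber z) = topologicalKrullDim ↥(f.fiber y) := by
  open Groth.Agent.Helper14 in
  have ho : ∀ x : X, EGA43.IsOpenAt f.base x := fun x U hU => hf.image_mem_nhds hU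
  obtain ⟨V₀, hyV₀, hV₀⟩ := EquidimAt.exists_nhd_maximal_specializes y
  have hup : ∀ z ∈ V₀, topologicalKrullDim ↥(f.fiber z) ≤ topologicalKrullDim ↥(f.fiber y) := by
    intro z hzV₀
    apply FibreConst.dim_fiber_le
    intro ζ n hfζ hg
    obtain ⟨η, hηmax, hηz⟩ := MaxPoints.exists_maximal_specializes z
    have hηV₀ : η ∈ V₀ := hηz.mem_open V₀.2 hzV₀
    have hηy : η ⤳ y := hV₀ η hηV₀ hηmax
    rw [h η (specializes_iff_mem_closure.mp hηy)
      (FibreClosure.closure_mem_irreducibleComponents_of_maximal η hηmax)]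
    obtain ⟨ξ, -, hfξ, hgξ⟩ := hg.exists_over_maximal f (ho ζ) η (hfζ ▸ hηz) hηmax
    exact FibreConst.le_dim_fiber f η ξ n hfξ hgξ
  by_cases hne : ∃ x : X, f x = y
  · obtain ⟨ζ, N, hfζ, hg, hdim, -⟩ := FibreConst.exists_isGen_dim_eq f y hne
    have hV₁ := hg.eventually f (ho ζ) ⊤ trivial
    rw [hfζ] at hV₁
    refine ⟨(V₀ : Set Y) ∩ _, Filter.inter_mem (V₀.2.mem_nhds hyV₀) hV₁, ?_⟩
    rintro z ⟨hzV₀, ζ', -, hfζ', hg'⟩
    refine le_antisymm (hup z hzV₀) ?_
    rw [hdim]
    exact FibreConst.le_dim_fiber f z ζ' N hfζ' hg'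
  · push Not at hne
    have hbot := FibreConst.dim_fiber_eq_bot f y hne
    refine ⟨V₀, V₀.2.mem_nhds hyV₀, fun z hz => ?_⟩
    have := hup z hz
    rw [hbot] at this ⊢
    exact le_bot_iff.mp this

end Groth.Agent.S4922
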