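import Groth.Statements.S4923
import Mathlib
import Groth.Agent.Lib.Helper14.FibreConst
-- import your own Groth.Agent.* helpers here

set_option autoImplicit false
open CategoryTheory AlgebraicGeometry
universe u v w
open EGA43

namespace Groth.Agent.S4923

/-- Let Y be a locally Noetherian scheme, f : X ⟶ Y an open morphism of finite type and y a point of Y;
for z in Y let E(z) be the set of dimensions of the irreducible components of the fibre X_z. If E(y)
= E(η) for the generic point η of every irreducible component of Y containing y, then E is constant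
on a neighbourhood of y. -/
theorem result {X Y : Scheme.{u}}
    [IsLocallyNoetherian Y] (f : X ⟶ Y) [LocallyOfFiniteType f] [QuasiCompact f] (hf : IsOpenMap f.base) (y : Y) :
    letI E : Y → Set (WithBot ℕ∞) := fun z =>
      (fun Z : Set ↥(f.fiber z) => topologicalKrullDim ↥Z) '' irreducibleComponents ↥(f.fiber z)
    (∀ η : Y, y ∈ closure {η} → closure {η} ∈ irreducibleComponents (Y : Type u) → E y = E η) →
      ∃ V ∈ nhds y, ∀ z ∈ V, E z = E y := by
  open Groth.Agent.Helper14 in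
  set E : Y → Set (WithBot ℕ∞) := fun z =>
      (fun Z : Set ↥(f.fiber z) => topologicalKrullDim ↥Z) '' irreducibleComponents ↥(f.fiber z) with hE
  intro h
  have ho : ∀ x : X, EGA43.IsOpenAt f.base x := fun x U hU => hf.image_mem_nhds hU
  have hmem : ∀ z d, d ∈ E z ↔ ∃ (ζ : X) (n : ℕ), f ζ = z ∧ FibreConst.IsGen f ζ n ∧
      d = (n : WithBot ℕ∞) := fun z d => FibreConst.mem_dims_iff f z d
  obtain ⟨V₀, hyV₀, hV₀⟩ := EquidimAt.exists_nhd_maximal_specializes y
  have hfin := FibreConst.finite_dims f y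
  have hlow : ∀ n ∈ {n : ℕ | ∃ ζ : X, f ζ = y ∧ FibreConst.IsGen f ζ n},
      {z : Y | (n : WithBot ℕ∞) ∈ E z} ∈ nhds y := by
    rintro n ⟨ζ, hfζ, hg⟩
    have := hg.eventually f (ho ζ) ⊤ trivial
    rw [hfζ] at this
    refine Filter.mem_of_superset this ?_
    rintro z ⟨ζ', -, hfζ', hg'⟩
    exact (hmem z _).mpr ⟨ζ', n, hfζ', hg', rfl⟩
  have hV₁ := (Filter.biInter_mem hfin).mpr hlow
  refine ⟨(V₀ : Set Y) ∩ _, Filter.inter_mem (V₀.2.mem_nhds hyV₀) hV₁, ?_⟩
  rintro z ⟨hzV₀, hzV₁⟩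
  apply Set.Subset.antisymm
  · intro d hd
    obtain ⟨ζ, n, hfζ, hg, rfl⟩ := (hmem z d).mp hd
    obtain ⟨η, hηmax, hηz⟩ := MaxPoints.exists_maximal_specializes z
    have hηV₀ : η ∈ V₀ := hηz.mem_open V₀.2 hzV₀
    have hηy : η ⤳ y := hV₀ η hηV₀ hηmax
    have hEη : E y = E η := h η (specializes_iff_mem_closure.mp hηy)
      (FibreClosure.closure_mem_irreducibleComponents_of_maximal η hηmax)
    obtain ⟨ξ, -, hfξ, hgξ⟩ := hg.exists_over_maximal f (ho ζ) η (hfζ ▸ hηz) hηmax
    rw [hEη]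
    exact (hmem η _).mpr ⟨ξ, n, hfξ, hgξ, rfl⟩
  · intro d hd
    obtain ⟨ζ, n, hfζ, hg, rfl⟩ := (hmem y d).mp hd
    exact Set.mem_iInter₂.mp hzV₁ n ⟨ζ, hfζ, hg⟩

end Groth.Agent.S4923
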