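import Groth.Statements.S4924
import Mathlib
import Groth.Agent.Lib.Helper14.FibreConst
-- import your own Groth.Agent.* helpers here

set_option autoImplicit false
open CategoryTheory AlgebraicGeometry
universe u v w
open EGA43

namespace Groth.Agent.S4924

/-- Let Y be a locally Noetherian scheme, f : X ⟶ Y an open morphism of finite type and y a point of Y.
Then there is an open neighbourhood U of the fibre f⁻¹(y) in X such that the function z ↦ dim (U ∩
f⁻¹(z)) is constant on a neighbourhood of y. -/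
theorem result {X Y : Scheme.{u}} [IsLocallyNoetherian Y]
    (f : X ⟶ Y) [LocallyOfFiniteType f] [QuasiCompact f] (hf : IsOpenMap f.base) (y : Y) :
    ∃ U : X.Opens, f.base ⁻¹' {y} ⊆ (U : Set X) ∧ ∃ V ∈ nhds y, ∀ z ∈ V,
      topologicalKrullDim ↥((U : Set X) ∩ f.base ⁻¹' {z}) = topologicalKrullDim ↥((U : Set X) ∩ f.base ⁻¹' {y}) := by
  open Groth.Agent.Helper14 in
  have ho : ∀ x : X, EGA43.IsOpenAt f.base x := fun x U hU => hf.image_mem_nhds hU
  by_cases hne : ∃ x : X, f x = y
  · obtain ⟨ζ, N, hfζ, hg, hdim, hmaxN⟩ := FibreConst.exists_isGen_dim_eq f y hne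
    let U : X.Opens := ⟨{x : X | FlatMor.fibreDimAt f x ≤ N}, Groth.Agent.S0402.result f N⟩
    have hζU : ζ ∈ U := hg.fibreDimAt_eq.le
    have hV := hg.eventually f (ho ζ) U hζU
    rw [hfζ] at hV
    refine ⟨U, ?_, _, hV, ?_⟩
    · intro x' hx'
      obtain ⟨ζ', n, -, hfζ', hgζ', hfd⟩ := FibreConst.exists_isGen f x'
      have hle := hmaxN ζ' n (hfζ'.trans hx') hgζ'
      change FlatMor.fibreDimAt f x' ≤ N
      rw [hfd]
      exact_mod_cast hle
    · have key : ∀ z ∈ {z : Y | ∃ ζ : X, ζ ∈ U ∧ f ζ = z ∧ FibreConst.IsGen f ζ N},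
          topologicalKrullDim ↥((U : Set X) ∩ f.base ⁻¹' {z}) = N := by
        rintro z ⟨ζ', hζ'U, hfζ', hg'⟩
        refine le_antisymm ?_ (FibreConst.le_dim_opens_inter_fibre f U z ζ' N hζ'U hfζ' hg')
        apply FibreConst.dim_opens_inter_fibre_le
        intro ζ'' n hζ''U _ hg''
        rw [← hg''.fibreDimAt_eq]
        exact hζ''U
      intro z hz
      rw [key z hz, key y (mem_of_mem_nhds hV)]
  · push Not at hne
    refine ⟨⊥, ?_, Set.univ, Filter.univ_mem, ?_⟩
    · intro x hx
      exact absurd hx (hne x)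
    · intro z _
      have e : ∀ w : Y, ((⊥ : X.Opens) : Set X) ∩ f.base ⁻¹' {w} = ∅ := by
        intro w
        simp
      rw [e z, e y]

end Groth.Agent.S4924
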