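import Groth.Statements.S4925
import Groth.Agent.Lib.Helper8.UnivOpenAt

set_option autoImplicit false
open CategoryTheory AlgebraicGeometry
universe u v w
open EGA43

namespace Groth.Agent.S4925

/-- Let f : X ⟶ Y and g : Y ⟶ Z be morphisms of schemes and x a point of X. If f is universally open at
x and g is universally open at f x, then f ≫ g is universally open at x. -/
theorem result {X Y Z : Scheme.{u}} (f : X ⟶ Y) (g : Y ⟶ Z) (x : X)
    (hf : EGA43.IsUnivOpenAt f x) (hg : EGA43.IsUnivOpenAt g (f.base x)) :
    EGA43.IsUnivOpenAt (f ≫ g) x := by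
  intro Z' k x' hx'
  -- `Y' = Y ×_Z Z'`, `X' = X ×_Y Y'`
  have hbig : IsPullback (Limits.pullback.fst f (Limits.pullback.fst g k))
      (Limits.pullback.snd f (Limits.pullback.fst g k) ≫ Limits.pullback.snd g k) (f ≫ g) k :=
    (IsPullback.of_hasPullback f (Limits.pullback.fst g k)).paste_vert
      (IsPullback.of_hasPullback g k)
  -- transport the point
  set e := hbig.isoPullback with he
  set x'' := e.inv.base x' with hx''
  have hcx : (Limits.pullback.fst f (Limits.pullback.fst g k)).base x'' = x := by
    rw [hx'', ← Scheme.Hom.comp_apply, hbig.isoPullback_inv_fst]; exact hx'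
  have h1 : EGA43.IsOpenAt (Limits.pullback.snd f (Limits.pullback.fst g k)).base x'' :=
    hf _ _ x'' hcx
  have hy : (Limits.pullback.fst g k).base
      ((Limits.pullback.snd f (Limits.pullback.fst g k)).base x'') = f.base x := by
    rw [← Scheme.Hom.comp_apply, ← Limits.pullback.condition, Scheme.Hom.comp_apply, hcx]
  have h2 : EGA43.IsOpenAt (Limits.pullback.snd g k).base
      ((Limits.pullback.snd f (Limits.pullback.fst g k)).base x'') := hg _ _ _ hy
  have h3 := Groth.Agent.Helper8.UOA.isOpenAt_comp h1 h2
  have h0 : EGA43.IsOpenAt e.inv.base x' :=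
    Groth.Agent.Helper8.UOA.isOpenAt_of_isOpenMap e.inv.homeomorph.isOpenMap x'
  have h4 := Groth.Agent.Helper8.UOA.isOpenAt_comp h0 h3
  refine Groth.Agent.Helper8.UOA.isOpenAt_congr ?_ h4
  funext a
  simp only [Function.comp_apply]
  rw [← Scheme.Hom.comp_apply, ← Scheme.Hom.comp_apply, he,
    hbig.isoPullback_inv_snd]

end Groth.Agent.S4925
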