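import Groth.Statements.S4926
import Groth.Agent.Lib.Helper8.UnivOpenAt

set_option autoImplicit false
open CategoryTheory AlgebraicGeometry
universe u v w
open EGA43

namespace Groth.Agent.S4926

/-- Let f : X ⟶ Y and g : Y ⟶ Z be morphisms of schemes and x a point of X. If f ≫ g is universally open
at x, then g is universally open at the point f x. -/
theorem result {X Y Z : Scheme.{u}} (f : X ⟶ Y) (g : Y ⟶ Z) (x : X)
    (h : EGA43.IsUnivOpenAt (f ≫ g) x) : EGA43.IsUnivOpenAt g (f.base x) := by
  intro Z' k y' hy'
  have hbig : IsPullback (Limits.pullback.fst f (Limits.pullback.fst g k))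
      (Limits.pullback.snd f (Limits.pullback.fst g k) ≫ Limits.pullback.snd g k) (f ≫ g) k :=
    (IsPullback.of_hasPullback f (Limits.pullback.fst g k)).paste_vert
      (IsPullback.of_hasPullback g k)
  obtain ⟨x'', hx1, hx2⟩ := Scheme.Pullback.exists_preimage_pullback
    (f := f) (g := Limits.pullback.fst g k) x y' hy'.symm
  have h1 := Groth.Agent.Helper8.UOA.of_isPullback h hbig x'' hx1
  have h2 : EGA43.IsOpenAt ((Limits.pullback.snd g k).base ∘
      (Limits.pullback.snd f (Limits.pullback.fst g k)).base) x'' := by
    refine Groth.Agent.Helper8.UOA.isOpenAt_congr ?_ h1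
    funext a
    simp
  have h3 := Groth.Agent.Helper8.UOA.isOpenAt_of_comp
    (Limits.pullback.snd f (Limits.pullback.fst g k)).continuous h2
  rwa [hx2] at h3

end Groth.Agent.S4926
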