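import Groth.Statements.S4929
import Groth.Agent.Lib.Helper8.UnivOpenAt

set_option autoImplicit false
open CategoryTheory AlgebraicGeometry
universe u v w
open EGA43

namespace Groth.Agent.S4929

open CategoryTheory.Limits in
/-- Let f : X ⟶ Y be a morphism of schemes, x a point of X, and (Y_i ⟶ Y) a finite family of closed
immersions whose images cover Y. If for every i the base change X ×_Y Y_i ⟶ Y_i is universally open
at every point lying over x, then f is universally open at x. -/
theorem result {X Y : Scheme.{u}} (f : X ⟶ Y) (x : X) {ι : Type w}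
    [Finite ι] (T : ι → Scheme.{u}) (g : ∀ i, T i ⟶ Y) [∀ i, IsClosedImmersion (g i)]
    (hcov : ⋃ i, Set.range (g i).base = Set.univ)
    (h : ∀ i, ∀ x' : ↥(pullback f (g i)), (pullback.fst f (g i)).base x' = x →
      EGA43.IsUnivOpenAt (pullback.snd f (g i)) x') :
    EGA43.IsUnivOpenAt f x := by
  intro Y' k x' hx'
  have hcov' : ⋃ i, Set.range (pullback.fst k (g i)).base = Set.univ := by
    apply Set.eq_univ_of_forall
    intro y'
    have hy : k.base y' ∈ ⋃ i, Set.range (g i).base := by rw [hcov]; exact Set.mem_univ _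
    obtain ⟨i, t, ht⟩ := Set.mem_iUnion.mp hy
    obtain ⟨z, hz1, -⟩ := Scheme.Pullback.exists_preimage_pullback (f := k) (g := g i) y' t ht.symm
    exact Set.mem_iUnion.mpr ⟨i, z, hz1⟩
  refine Groth.Agent.Helper8.UOA.isOpenAt_of_finite_closed_cover
    (fun i => pullback k (g i)) (fun i => pullback.fst k (g i)) hcov' (pullback.snd f k) x' ?_
  intro i p hp
  have hcomm := Groth.Agent.Helper8.UOA.cube_comm f k (g i)
  have hsq := Groth.Agent.Helper8.UOA.isPullback_cube f k (g i) hcomm
  have hpt : (pullback.fst f (g i)).base ((pullback.lift _ _ hcomm).base p) = x := by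
    rw [← Scheme.Hom.comp_apply, pullback.lift_fst, Scheme.Hom.comp_apply, hp, hx']
  exact Groth.Agent.Helper8.UOA.of_isPullback (h i _ hpt) hsq p rfl

end Groth.Agent.S4929
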