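import Groth.Statements.S4932
import Mathlib
import Groth.Agent.Lib.Helper14.ValRingFibre
import Groth.Agent.Lib.Helper14.FibreGeneric
-- import your own Groth.Agent.* helpers here

set_option autoImplicit false
open CategoryTheory AlgebraicGeometry
universe u v w
open EGA43

namespace Groth.Agent.S4932

/-- Let A be a valuation ring (not necessarily discrete), X an irreducible scheme and f : X ⟶ Spec A a
dominant morphism of finite type. If the fibre X_0 of f over the closed point is nonempty, then dim
X_0 = dim X_1, where X_1 is the fibre over the generic point. -/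
theorem result {A : Type u} [CommRing A] [IsDomain A]
    [ValuationRing A] {X : Scheme.{u}} [IrreducibleSpace X] (f : X ⟶ Spec (CommRingCat.of A))
    [LocallyOfFiniteType f] [QuasiCompact f] [IsDominant f]
    (h0 : Nonempty ↥(f.fiber (IsLocalRing.closedPoint A))) :
    topologicalKrullDim ↥(f.fiber (IsLocalRing.closedPoint A)) =
      topologicalKrullDim ↥(f.fiber (genericPoint (Spec (CommRingCat.of A)))) := by
  open Groth.Agent.Helper14 in
  haveI : IrreducibleSpace ↥(Spec (CommRingCat.of A)) :=
    inferInstanceAs (IrreducibleSpace (PrimeSpectrum A))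
  have hfξ : f (genericPoint X) = genericPoint (Spec (CommRingCat.of A)) :=
    FibreGeneric.map_genericPoint f f.denseRange
  obtain ⟨d, hd⟩ := ResFieldBridge.exists_nat_trdeg_residueField f (genericPoint X)
  have hgξ : FibreConst.IsGen f (genericPoint X) d :=
    ⟨fun x₁ _ hx₁ => (hx₁.antisymm (genericPoint_specializes x₁)).eq, hd⟩
  have hη : topologicalKrullDim ↥(f.fiber (genericPoint (Spec (CommRingCat.of A)))) = d := by
    apply le_antisymm
    · apply FibreConst.dim_fiber_le
      intro ζ n hfζ hg
      have h1 : genericPoint X = ζ :=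
        hg.1 (genericPoint X) (hfξ.trans hfζ.symm) (genericPoint_specializes ζ)
      rw [← h1] at hg
      rw [hg.unique f hgξ]
    · exact FibreConst.le_dim_fiber f _ (genericPoint X) d hfξ hgξ
  obtain ⟨x₀⟩ := h0
  have hne : ∃ x : X, f x = IsLocalRing.closedPoint A :=
    ⟨f.fiberι _ x₀, (f.fiberHomeo _ x₀).2⟩
  obtain ⟨ζ, N, hfζ, hg, hdim, -⟩ := FibreConst.exists_isGen_dim_eq f _ hne
  have h1 : N ≤ d := by
    have := ValRingFibre.trdeg_le_of_specializes_Spec f (genericPoint X) ζ
      (genericPoint_specializes ζ)
    rw [hg.2, hd] at this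
    exact_mod_cast this
  have h2 : d ≤ N := by
    have hopen := Groth.Agent.S0402.result f N
    have hζmem : ζ ∈ {x : X | FlatMor.fibreDimAt f x ≤ N} := hg.fibreDimAt_eq.le
    have hξmem := (genericPoint_specializes ζ).mem_open hopen hζmem
    rw [Set.mem_setOf_eq, hgξ.fibreDimAt_eq] at hξmem
    exact_mod_cast hξmem
  rw [hdim, hη, le_antisymm h1 h2]

end Groth.Agent.S4932
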