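import Groth.Statements.S4935
import Groth.Agent.Lib.Helper8.Unibranch

set_option autoImplicit false
universe u
open EGA43

namespace Groth.Agent.S4935

/-- Let A be a unibranch local domain, B a domain containing A and integral over A, and 𝔫 a prime ideal
of B lying over the maximal ideal of A. Then Spec B_𝔫 → Spec A is surjective: for every prime ideal
𝔭 of A there is a prime ideal 𝔮 ⊆ 𝔫 of B with 𝔮 ∩ A = 𝔭. -/
theorem result {A B : Type u} [CommRing A] [IsDomain A]
    [IsLocalRing A] (hA : CAlg2.IsUnibranch A) [CommRing B] [IsDomain B] [Algebra A B]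
    (hinj : Function.Injective (algebraMap A B)) [Algebra.IsIntegral A B] (n : Ideal B) [n.IsPrime]
    (hn : n.comap (algebraMap A B) = IsLocalRing.maximalIdeal A) (p : Ideal A) [p.IsPrime] :
    ∃ q : Ideal B, q.IsPrime ∧ q ≤ n ∧ q.comap (algebraMap A B) = p := by
  classical
  obtain ⟨hdom, hloc⟩ := hA
  have hnil : nilradical A = ⊥ := nilradical_eq_bot_iff.mpr inferInstance
  let R := CAlg2.red A
  let K := FractionRing R
  have hmk : Function.Injective (algebraMap A R) := by
    rw [RingHom.injective_iff_ker_eq_bot]
    change RingHom.ker (Ideal.Quotient.mk (nilradical A)) = ⊥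
    rw [Ideal.mk_ker, hnil]
  have hmks : Function.Surjective (algebraMap A R) := Ideal.Quotient.mk_surjective
  have hAK : Function.Injective (algebraMap A K) := by
    rw [IsScalarTower.algebraMap_eq A R K]
    exact (IsFractionRing.injective R K).comp hmk
  have : FaithfulSMul A K := (faithfulSMul_iff_algebraMap_injective A K).mpr hAK
  have hfr : IsFractionRing A K := by
    apply IsFractionRing.of_field
    intro z
    obtain ⟨x, y, -, rfl⟩ := IsFractionRing.div_surjective (A := R) z
    obtain ⟨x, rfl⟩ := hmks x
    obtain ⟨y, rfl⟩ := hmks y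
    exact ⟨x, y, by rw [IsScalarTower.algebraMap_apply A R K, IsScalarTower.algebraMap_apply A R K]⟩
  have hint : ∀ x : K, IsIntegral A x ↔ IsIntegral R x := by
    intro x
    constructor
    · intro h; exact h.tower_top
    · intro h
      have : Algebra.IsIntegral A R := Algebra.isIntegral_of_surjective hmks
      exact isIntegral_trans x h
  let e : integralClosure R K ≃+* integralClosure A K :=
    { toFun := fun x => ⟨x.1, (hint x.1).mpr x.2⟩
      invFun := fun x => ⟨x.1, (hint x.1).mp x.2⟩
      left_inv := fun _ => rfl
      right_inv := fun _ => rfl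
      map_mul' := fun _ _ => rfl
      map_add' := fun _ _ => rfl }
  have hloc' : IsLocalRing (integralClosure A K) := e.isLocalRing
  exact Groth.Agent.Helper8.Unibranch.exists_le_comap_eq (K := K) hloc' hinj n hn p

end Groth.Agent.S4935
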