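import Groth.Statements.S4936
import Mathlib
import Groth.Agent.Lib.Helper14.PolyGU
import Groth.Agent.Lib.Helper4.UOpen6
import Groth.Agent.Lib.Helper1.GU4
-- import your own Groth.Agent.* helpers here

set_option autoImplicit false
open CategoryTheory AlgebraicGeometry
universe u v w
open EGA43

namespace Groth.Agent.S4936

/-- Let Y be a scheme, Y' = Y[T_1, …, T_n] affine n-space over Y, y' a point of Y' and y its image in Y.
If Y is geometrically unibranch at y, then Y' is geometrically unibranch at y'. -/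
theorem result {Y : Scheme.{u}} (n : ℕ) (y' : ↥𝔸(ULift.{u} (Fin n); Y))
    (hy : CAlg2.IsGeomUnibranch (Y.presheaf.stalk ((𝔸(ULift.{u} (Fin n); Y) ↘ Y).base y'))) :
    CAlg2.IsGeomUnibranch ((𝔸(ULift.{u} (Fin n); Y)).presheaf.stalk y') := by
  obtain ⟨_, ⟨V, hV, rfl⟩, hyV, -⟩ :=
    Y.isBasis_affineOpens.exists_subset_of_mem_open (Set.mem_univ ((𝔸(ULift.{u} (Fin n); Y) ↘ Y).base y')) isOpen_univ
  have hV : IsAffineOpen V := hV
  let j : Spec (CommRingCat.of (MvPolynomial (ULift.{u} (Fin n)) Γ(Y, V))) ⟶ 𝔸((ULift.{u} (Fin n)); Y) :=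
    (AffineSpace.SpecIso (ULift.{u} (Fin n)) (CommRingCat.of Γ(Y, V))).inv ≫ AffineSpace.map (ULift.{u} (Fin n)) hV.fromSpec
  have hpb := AffineSpace.isPullback_map (n := ULift.{u} (Fin n)) hV.fromSpec
  haveI : IsOpenImmersion (AffineSpace.map (ULift.{u} (Fin n)) hV.fromSpec) :=
    MorphismProperty.of_isPullback (P := @IsOpenImmersion) hpb.flip inferInstance
  have hj : Groth.Agent.Helper4.UCAff.gσ Γ(Y, V) (ULift.{u} (Fin n)) ≫ hV.fromSpec = j ≫ (𝔸(ULift.{u} (Fin n); Y) ↘ Y) := by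
    rw [Category.assoc, AffineSpace.map_over, AffineSpace.SpecIso_inv_over_assoc]
    rfl
  -- `y'` lies in the range of `j`
  have hy'j : y' ∈ Set.range j.base := by
    have h1 : y' ∈ Set.range (AffineSpace.map (ULift.{u} (Fin n)) hV.fromSpec).base := by
      have h2 := hpb.flip
      let e := h2.isoPullback
      have h3 : AffineSpace.map (ULift.{u} (Fin n)) hV.fromSpec = e.hom ≫ Limits.pullback.snd hV.fromSpec (𝔸(ULift.{u} (Fin n); Y) ↘ Y) := by
        rw [IsPullback.isoPullback_hom_snd]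
      have hsurj : Set.range e.hom.base = Set.univ :=
        Set.range_eq_univ.mpr e.hom.homeomorph.surjective
      rw [h3, Scheme.Hom.comp_base, TopCat.coe_comp, Set.range_comp, hsurj, Set.image_univ,
        Scheme.Pullback.range_snd]
      change (𝔸(ULift.{u} (Fin n); Y) ↘ Y).base y' ∈ Set.range hV.fromSpec.base
      rw [hV.range_fromSpec]
      exact hyV
    obtain ⟨w, hw⟩ := h1
    refine ⟨(AffineSpace.SpecIso (ULift.{u} (Fin n)) (CommRingCat.of Γ(Y, V))).hom.base w, ?_⟩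
    rw [← hw]
    change ((AffineSpace.SpecIso (ULift.{u} (Fin n)) (CommRingCat.of Γ(Y, V))).hom ≫ j).base w = _
    rw [Iso.hom_inv_id_assoc]
  obtain ⟨Q, hQ⟩ := hy'j
  suffices key : ∀ (Q : Spec (CommRingCat.of (MvPolynomial (ULift.{u} (Fin n)) Γ(Y, V)))) (hyV : (𝔸(ULift.{u} (Fin n); Y) ↘ Y).base (j.base Q) ∈ V),
      CAlg2.IsGeomUnibranch (Y.presheaf.stalk ((𝔸(ULift.{u} (Fin n); Y) ↘ Y).base (j.base Q))) →
      CAlg2.IsGeomUnibranch ((𝔸((ULift.{u} (Fin n)); Y)).presheaf.stalk (j.base Q)) by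
    subst hQ
    exact key Q hyV hy
  clear hQ hy hyV Q y'
  intro Q hyV hy
  -- the local ring of `Y`
  letI := Y.presheaf.algebra_section_stalk ⟨(𝔸(ULift.{u} (Fin n); Y) ↘ Y).base (j.base Q), hyV⟩
  haveI := hV.isLocalization_stalk ⟨(𝔸(ULift.{u} (Fin n); Y) ↘ Y).base (j.base Q), hyV⟩
  have hgQ : (Groth.Agent.Helper4.UCAff.gσ Γ(Y, V) (ULift.{u} (Fin n))).base Q =
      hV.primeIdealOf ⟨(𝔸(ULift.{u} (Fin n); Y) ↘ Y).base (j.base Q), hyV⟩ := by
    apply hV.fromSpec.isOpenEmbedding.injective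
    rw [hV.fromSpec_primeIdealOf ⟨(𝔸(ULift.{u} (Fin n); Y) ↘ Y).base (j.base Q), hyV⟩, ← Scheme.Hom.comp_apply, hj,
      Scheme.Hom.comp_apply]
  have hcomap : (hV.primeIdealOf ⟨(𝔸(ULift.{u} (Fin n); Y) ↘ Y).base (j.base Q), hyV⟩).asIdeal =
      Q.asIdeal.comap (MvPolynomial.C (σ := ULift.{u} (Fin n))) := by
    rw [← hgQ]
    rfl
  haveI : IsLocalization.AtPrime (Y.presheaf.stalk ((𝔸(ULift.{u} (Fin n); Y) ↘ Y).base (j.base Q)))
      (Q.asIdeal.comap (MvPolynomial.C (σ := ULift.{u} (Fin n)))) :=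
    Groth.Agent.Helper14.PolyGU.isLocalizationAtPrime_congr _ hcomap
  letI : Algebra (MvPolynomial (ULift.{u} (Fin n)) Γ(Y, V))
      ((Spec (CommRingCat.of (MvPolynomial (ULift.{u} (Fin n)) Γ(Y, V)))).presheaf.stalk Q) :=
    StructureSheaf.stalkAlgebra (R := MvPolynomial (ULift.{u} (Fin n)) Γ(Y, V)) Q
  haveI : IsLocalization.AtPrime ((Spec (CommRingCat.of (MvPolynomial (ULift.{u} (Fin n)) Γ(Y, V)))).presheaf.stalk Q)
      Q.asIdeal :=
    StructureSheaf.IsLocalization.to_stalk (R := MvPolynomial (ULift.{u} (Fin n)) Γ(Y, V)) Q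
  have hE := Groth.Agent.Helper14.PolyGU.isGeomUnibranch_poly' Γ(Y, V) (ULift.{u} (Fin n)) Q.asIdeal
    (Y.presheaf.stalk ((𝔸(ULift.{u} (Fin n); Y) ↘ Y).base (j.base Q))) hy
    ((Spec (CommRingCat.of (MvPolynomial (ULift.{u} (Fin n)) Γ(Y, V)))).presheaf.stalk Q)
  haveI : IsIso (j.stalkMap Q) := inferInstance
  exact Groth.Agent.Helper1.GU.isGeomUnibranch_of_ringEquiv
    (asIso (j.stalkMap Q)).commRingCatIsoToRingEquiv.symm hE

end Groth.Agent.S4936
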