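import Groth.Statements.S4937
import Mathlib
import Groth.Agent.Lib.Helper14.UnibrOpen3
-- import your own Groth.Agent.* helpers here

set_option autoImplicit false
open CategoryTheory AlgebraicGeometry
universe u v w
open EGA43

namespace Groth.Agent.S4937

/-- Let X and Y be irreducible schemes and f : X ⟶ Y a dominant morphism which is locally of finite
presentation and locally quasi-finite. If x is a point of X whose image y = f x has unibranch local
ring O_{Y,y}, then f is open at x. (Stated for f locally of finite presentation, the class to which
the openness criterion by lifting of generizations used in the published argument applies; the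
published hypothesis is 'locally quasi-finite', which includes locally of finite type.) -/
theorem result {X Y : Scheme.{u}} [IrreducibleSpace X]
    [IrreducibleSpace Y] (f : X ⟶ Y) [LocallyOfFinitePresentation f] [LocallyQuasiFinite f] [IsDominant f]
    (x : X) (hy : CAlg2.IsUnibranch (Y.presheaf.stalk (f.base x))) : EGA43.IsOpenAt f.base x := by
  have hd : DenseRange f.base := IsDominant.denseRange
  have hcl : closure {f.base (genericPoint X)} = Set.univ := by
    rw [Set.eq_univ_iff_forall]
    intro y
    have h1 : Set.range f.base ⊆ closure {f.base (genericPoint X)} := by
      rintro _ ⟨x, rfl⟩
      exact specializes_iff_mem_closure.mp ((genericPoint_specializes x).map f.continuous)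
    have h2 : closure (Set.range f.base) ⊆ closure {f.base (genericPoint X)} :=
      closure_minimal h1 isClosed_closure
    exact h2 (hd y)
  have hx : nhdsWithin x (f.base ⁻¹' {f.base x}) = pure x :=
    isDiscrete_iff_nhdsWithin.mp (f.isDiscrete_preimage_singleton (f.base x)) x rfl
  refine Groth.Agent.Helper14.UnibrOpen.isOpenAt_of_isolated_of_unibranch f x (genericPoint X)
    (genericPoint_specializes x) ?_ hx hy
  rw [hcl]
  exact Filter.univ_mem

end Groth.Agent.S4937
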