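import Groth.Statements.S4938
import Mathlib
import Groth.Agent.Lib.Helper14.ChevOpen3
import Groth.Agent.Lib.Helper14.FibreMax
import Groth.Agent.S4933
import Groth.Agent.S4934
-- import your own Groth.Agent.* helpers here

set_option autoImplicit false
open CategoryTheory AlgebraicGeometry
universe u v w
open EGA43

namespace Groth.Agent.S4938

/-- Let Y be a locally Noetherian scheme, f : X ⟶ Y a morphism locally of finite type, and y a
geometrically unibranch point of Y, lying on the unique irreducible component Y₀ of Y with generic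
point η. The following are equivalent: a) f is universally open at every point of X_y; b) every
point x of X_y lies on an irreducible component Z of X dominating Y₀ with dim_x(Z ∩ X_y) = dim(Z ∩
X_η); b'') for every open subset U of X, dim(U ∩ X_η) ≥ dim(U ∩ X_y); c) f is open at every point of
X_y. (The published statement assumes Y locally Noetherian only for c) and also lists b′), the
pointwise form of b″) (for every x in X_y and every open U ∋ x, dim(U ∩ X_η) ≥ dim_x(U ∩ X_y)); over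
the spectrum of an infinite product of copies of a field, the inclusion of a non-open closed point
satisfies b) and b″) but not a), so this row takes Y locally Noetherian throughout, and b′) is not
listed.) -/
theorem result {X Y : Scheme.{u}} [IsLocallyNoetherian Y] (f : X ⟶ Y)
    [LocallyOfFiniteType f] (y : Y) (hy : CAlg2.IsGeomUnibranch (Y.presheaf.stalk y)) :
    List.TFAE [∀ x : X, f.base x = y → EGA43.IsUnivOpenAt f x,
      ∀ x : X, f.base x = y → ∀ Y₀ ∈ irreducibleComponents (Y : Type u), y ∈ Y₀ →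
        ∃ Z ∈ irreducibleComponents (X : Type u), ∃ hx : x ∈ Z, closure (f.base '' Z) = Y₀ ∧
          ∀ η : Y, closure ({η} : Set Y) = Y₀ →
            FlatMor.localDim ↥(Z ∩ f.base ⁻¹' {f.base x}) ⟨x, ⟨hx, rfl⟩⟩ = topologicalKrullDim ↥(Z ∩ f.base ⁻¹' {η}),
      ∀ U : X.Opens, ∀ Y₀ ∈ irreducibleComponents (Y : Type u), y ∈ Y₀ → ∀ η : Y, closure ({η} : Set Y) = Y₀ →
        topologicalKrullDim ↥((U : Set X) ∩ f.base ⁻¹' {y}) ≤ topologicalKrullDim ↥((U : Set X) ∩ f.base ⁻¹' {η}),
      ∀ x : X, f.base x = y → EGA43.IsOpenAt f.base x] := by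
  haveI : IsLocallyNoetherian X := LocallyOfFiniteType.isLocallyNoetherian f
  tfae_have 1 → 4 := fun h x hx => Groth.Agent.Helper14.ChevOpen.isOpenAt_of_isUnivOpenAt f x (h x hx)
  tfae_have 4 → 1 := by
    intro h x hx
    apply Groth.Agent.Helper14.ChevOpen.isUnivOpenAt_of_isOpenAt f x (hx ▸ hy)
    intro z _ hfz
    exact h z (hfz.trans hx)
  tfae_have 1 → 2 := by
    intro h x hx Y₀ hY₀ hyY₀
    obtain ⟨z, n, hzx, hfz, hzmax, hn, hfd⟩ :=
      Groth.Agent.Helper14.EquidimAt.exists_maximal_trdeg_eq_fibreDimAt f x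
    have hfzy : f.base z = y := hfz.trans hx
    have hzU := h z hfzy
    have hmaxz : ∀ x' : X, f.base x' = f.base z → z ∈ closure {x'} → x' = z :=
      fun x' h1 h2 => hzmax x' h1 (specializes_iff_mem_closure.mpr h2)
    have hyz : CAlg2.IsGeomUnibranch (Y.presheaf.stalk (f.base z)) := by rw [hfzy]; exact hy
    have hb0 := ((Groth.Agent.S4934.result f z hmaxz hyz).out 0 1 rfl rfl).mp hzU
    have hb := hb0 Y₀ hY₀ (by rw [hfzy]; exact hyY₀)
    obtain ⟨Z, hZ, hzZ, hcl, hdim⟩ := hb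
    have hZcl : IsClosed Z := isClosed_of_mem_irreducibleComponents _ hZ
    have hxZ : x ∈ Z := hzx.mem_closed hZcl hzZ
    refine ⟨Z, hZ, hxZ, hcl, fun η hη => ?_⟩
    rw [← hdim η hη,
      Groth.Agent.Helper14.ChevOpen.localDim_inter_of_maximal f Z hZcl z hzZ hzmax n hn,
      Groth.Agent.Helper14.ChevOpen.localDim_inter_of_specializes f Z hZcl x z hzZ hxZ hzx n hn hfd]
  tfae_have 2 → 1 := by
    intro h x hx
    obtain ⟨z, n, hzx, hfz, hzmax, hn, hfd⟩ :=
      Groth.Agent.Helper14.EquidimAt.exists_maximal_trdeg_eq_fibreDimAt f x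
    refine Groth.Agent.Helper14.ChevComp.isUnivOpenAt_of_specializes f x z hzx hfz ?_
    have hfzy : f.base z = y := hfz.trans hx
    obtain ⟨η, hηmax, hηy⟩ := Groth.Agent.Helper14.MaxPoints.exists_maximal_specializes y
    have hcomp := Groth.Agent.Helper14.FibreClosure.closure_mem_irreducibleComponents_of_maximal η hηmax
    obtain ⟨Z, hZ, hzZ, hcl, hdim⟩ := h z hfzy _ hcomp (specializes_iff_mem_closure.mp hηy)
    exact Groth.Agent.Helper14.ChevOpen.isUnivOpenAt_of_component f z hzmax (hfzy ▸ hy) Z hZ hzZ η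
      hηmax (hfzy ▸ hηy) hcl (hdim η rfl)
  tfae_have 1 → 3 := by
    intro h U Y₀ hY₀ hyY₀ η hη
    apply Groth.Agent.Helper14.UOpenAtDim.dim_open_le_of_forall_trdeg f U y
    intro z hzU hfz m hm
    obtain ⟨z', n, hz'z, hfz', hz'max, hn, hfd⟩ :=
      Groth.Agent.Helper14.EquidimAt.exists_maximal_trdeg_eq_fibreDimAt f z
    have h1 := Groth.Agent.Helper14.EquidimAt.trdeg_le_fibreDimAt f z z specializes_rfl m hm
    have hz'U : z' ∈ U := hz'z.mem_open U.isOpen hzU
    have hfz'y : f.base z' = y := hfz'.trans hfz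
    have h2 := Groth.Agent.Helper14.FibreMax.fibreDimAt_eq_of_maximal f z' hz'max n hn
    have hηy' : η ⤳ f.base z' := by
      rw [hfz'y, specializes_iff_mem_closure, hη]
      exact hyY₀
    have hmaxz' : ∀ x' : X, f.base x' = f.base z' → z' ∈ closure {x'} → x' = z' :=
      fun x' h1 h2 => hz'max x' h1 (specializes_iff_mem_closure.mpr h2)
    have h3 := (Groth.Agent.S4933.result f z' hmaxz').1 (h z' hfz'y) U hz'U η hηy'
    calc (m : WithBot ℕ∞) ≤ FlatMor.fibreDimAt f z := h1
      _ = n := hfd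
      _ = FlatMor.fibreDimAt f z' := h2.symm
      _ ≤ _ := h3
  tfae_have 3 → 1 := by
    intro h x hx
    obtain ⟨z, d, hzx, hfz, hzmax, hd, hfd⟩ :=
      Groth.Agent.Helper14.EquidimAt.exists_maximal_trdeg_eq_fibreDimAt f x
    refine Groth.Agent.Helper14.ChevComp.isUnivOpenAt_of_specializes f x z hzx hfz ?_
    have hfzy : f.base z = y := hfz.trans hx
    obtain ⟨η, hηmax, hηy⟩ := Groth.Agent.Helper14.MaxPoints.exists_maximal_specializes y
    have hcomp := Groth.Agent.Helper14.FibreClosure.closure_mem_irreducibleComponents_of_maximal η hηmax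
    obtain ⟨U₀, hzU₀, hU₀⟩ := Groth.Agent.Helper14.MaxPoints.exists_open_maximal_specializes z
    have h1 := Groth.Agent.Helper14.UOpenAtDim.le_dim_open_of_trdeg f U₀ z hzU₀ d hd
    rw [hfzy] at h1
    have h2 := h U₀ _ hcomp (specializes_iff_mem_closure.mp hηy) η rfl
    obtain ⟨ξ₀, m₀, hξ₀U, hfξ₀, hm₀, hdm₀⟩ :=
      Groth.Agent.Helper14.ChevOpen.exists_trdeg_ge_of_le_dim f U₀ η d (h1.trans h2)
    obtain ⟨ξ, n', hξξ₀, hfξ, hξmax, hn', hfd'⟩ :=
      Groth.Agent.Helper14.EquidimAt.exists_maximal_trdeg_eq_fibreDimAt f ξ₀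
    have hfξη : f.base ξ = η := hfξ.trans hfξ₀
    have hξU₀ : ξ ∈ U₀ := hξξ₀.mem_open U₀.isOpen hξ₀U
    have h3 := Groth.Agent.Helper14.EquidimAt.trdeg_le_fibreDimAt f ξ₀ ξ₀ specializes_rfl m₀ hm₀
    rw [hfd'] at h3
    have hm₀n' : m₀ ≤ n' := by exact_mod_cast h3
    have hξmaxX : ∀ ξ' : X, ξ' ⤳ ξ → ξ' = ξ := by
      intro ξ' hξ'
      apply hξmax ξ' _ hξ'
      have h4 : f.base ξ' ⤳ f.base ξ := hξ'.map f.continuous
      rw [hfξη] at h4 ⊢
      exact hηmax _ h4
    have hξz : ξ ⤳ z := hU₀ ξ hξU₀ hξmaxX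
    obtain ⟨x₁, -, hx₁z, hfx₁, n₁, hn₁, hle⟩ :=
      Groth.Agent.Helper14.RestrictedChevalley.rc f z ξ hξz n' hn'
    have hx₁ := hzmax x₁ hfx₁ hx₁z
    subst hx₁
    have e2 : n₁ = d := by
      have := hn₁.symm.trans hd
      exact_mod_cast this
    have e3 : n' = d := by omega
    have hnb : closure {f.base ξ} ∈ nhds (f.base x₁) := by
      rw [hfξη]
      exact Groth.Agent.Helper14.ChevNB.closure_mem_nhds_of_unique_component (f.base x₁) η
        (hfzy ▸ hy).1.1 hcomp (hfzy ▸ hηy)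
    refine Groth.Agent.Helper14.ChevMain.isUnivOpenAt_of_trdeg_eq f x₁ ξ hξz hnb
      (fun x' h1 h2 => hzmax x' h2 h1) ?_ (hfzy ▸ hy)
    rw [hn', hd, e3]
  tfae_finish

end Groth.Agent.S4938
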