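import Groth.Statements.S4942
import Groth.Agent.Lib.Helper8.UnivOpenAt

set_option autoImplicit false
open CategoryTheory AlgebraicGeometry
universe u v w
open EGA43

namespace Groth.Agent.S4942

open CategoryTheory.Limits in
/-- Let v : Y₁ ⟶ Y be a universally closed surjective morphism of schemes, f : X ⟶ Y a morphism and x a
point of X. If the base change f₁ : X ×_Y Y₁ ⟶ Y₁ is universally open at every point of X ×_Y Y₁
lying over x, then f is universally open at x. -/
theorem result {X Y Y₁ : Scheme.{u}} (v : Y₁ ⟶ Y)
    [UniversallyClosed v] [Surjective v] (f : X ⟶ Y) (x : X)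
    (h : ∀ x₁ : ↥(pullback f v), (pullback.fst f v).base x₁ = x → EGA43.IsUnivOpenAt (pullback.snd f v) x₁) :
    EGA43.IsUnivOpenAt f x := by
  intro Y' k x' hx'
  -- base change of `v` to `Y'`
  have hvcl : IsClosedMap (pullback.fst k v).base := (pullback.fst k v).isClosedMap
  refine Groth.Agent.Helper8.UOA.isOpenAt_of_baseChange_closed (pullback.fst k v) hvcl
    (pullback.fst k v).surjective (pullback.snd f k) x' ?_
  intro p hp
  -- the comparison map to `X ×_Y Y₁`
  have hcomm : (pullback.fst (pullback.snd f k) (pullback.fst k v) ≫ pullback.fst f k) ≫ f =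
      (pullback.snd (pullback.snd f k) (pullback.fst k v) ≫ pullback.snd k v) ≫ v := by
    rw [Category.assoc, pullback.condition, ← Category.assoc, pullback.condition, Category.assoc,
      pullback.condition, Category.assoc]
  have hbig : IsPullback
      (pullback.fst (pullback.snd f k) (pullback.fst k v) ≫ pullback.fst f k)
      (pullback.snd (pullback.snd f k) (pullback.fst k v)) f (pullback.fst k v ≫ k) :=
    (IsPullback.of_hasPullback (pullback.snd f k) (pullback.fst k v)).paste_horiz
      (IsPullback.of_hasPullback f k)
  have hbig' : IsPullback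
      (pullback.lift _ _ hcomm ≫ pullback.fst f v)
      (pullback.snd (pullback.snd f k) (pullback.fst k v)) f (pullback.snd k v ≫ v) := by
    rw [pullback.lift_fst, ← pullback.condition]
    exact hbig
  have hsq : IsPullback (pullback.lift _ _ hcomm)
      (pullback.snd (pullback.snd f k) (pullback.fst k v)) (pullback.snd f v) (pullback.snd k v) :=
    IsPullback.of_right hbig' (pullback.lift_snd _ _ _) (IsPullback.of_hasPullback f v)
  have hpt : (pullback.fst f v).base ((pullback.lift _ _ hcomm).base p) = x := by
    rw [← Scheme.Hom.comp_apply, pullback.lift_fst, Scheme.Hom.comp_apply, hp, hx']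
  exact Groth.Agent.Helper8.UOA.of_isPullback (h _ hpt) hsq p rfl

end Groth.Agent.S4942
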