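import Groth.Statements.S4943
import Mathlib
import Groth.Agent.Lib.Helper14.FibreChain
import Groth.Agent.Lib.Helper14.CompEquidim
-- import your own Groth.Agent.* helpers here

set_option autoImplicit false
open CategoryTheory AlgebraicGeometry
universe u v w
open EGA43

namespace Groth.Agent.S4943

/-- Let Y be an irreducible locally Noetherian scheme, f : X ⟶ Y a morphism locally of finite type which
is equidimensional at the point x, y = f x and e = dim_x(X_y). Let X' be an irreducible closed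
subset of X containing x, with generic point x', and n a natural number such that codim(X', X) ≤ n
(the codimension being dim O_{X,x'}) and dim_x(X' ∩ X_y) ≤ e − n. Then codim(X', X) = n, dim_x(X' ∩
X_y) = e − n, and the restriction of f to X' with its reduced subscheme structure is equidimensional
at x. -/
theorem result {X Y : Scheme.{u}} [IrreducibleSpace Y]
    [IsLocallyNoetherian Y] (f : X ⟶ Y) [LocallyOfFiniteType f] (x : X) (hf : EGA43.IsEquidimAt f x)
    (X' : TopologicalSpace.Closeds X) (x' : X) (hx' : closure ({x'} : Set X) = (X' : Set X)) (hx : x ∈ X') (n : ℕ)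
    (hcodim : ringKrullDim (X.presheaf.stalk x') ≤ n)
    (hdim : FlatMor.localDim ↥((X' : Set X) ∩ f.base ⁻¹' {f.base x}) ⟨x, ⟨hx, rfl⟩⟩ + n ≤ FlatMor.fibreDimAt f x) :
    ringKrullDim (X.presheaf.stalk x') = n ∧
      FlatMor.localDim ↥((X' : Set X) ∩ f.base ⁻¹' {f.base x}) ⟨x, ⟨hx, rfl⟩⟩ + n = FlatMor.fibreDimAt f x ∧
      ∀ w : ↥(Scheme.IdealSheafData.vanishingIdeal X').subscheme,
        (Scheme.IdealSheafData.vanishingIdeal X').subschemeι.base w = x →
        EGA43.IsEquidimAt ((Scheme.IdealSheafData.vanishingIdeal X').subschemeι ≫ f) w := by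
  open Groth.Agent.Helper14 in
  haveI : IsLocallyNoetherian X := LocallyOfFiniteType.isLocallyNoetherian f
  obtain ⟨e, U, hxU, hp1, hp2, hp3⟩ := EquidimAt.spec f hf
  have hx'x : x' ⤳ x := by rw [specializes_iff_mem_closure, hx']; exact hx
  have hx'U : x' ∈ U := hx'x.mem_open U.isOpen hxU
  obtain ⟨m, hm⟩ := ResFieldBridge.exists_nat_trdeg_residueField f x'
  -- the local dimension of `X' ∩ f⁻¹(y)` at `x`
  obtain ⟨z₁, n'', hz₁T, hz₁x, hfz₁, -, hn'', hld⟩ :=
    ClosedFibreDim.exists_maximal_trdeg_eq_localDim f X' x ⟨hx, rfl⟩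
  rw [hld, hp3 x hxU] at hdim ⊢
  have e0 : n'' + n ≤ e := by exact_mod_cast hdim
  -- Chevalley: `m ≤ n''`
  obtain ⟨x₁, hx'x₁, hx₁x, hfx₁, n₁, hn₁, hle⟩ := RestrictedChevalley.rc f x x' hx'x m hm
  have hx₁T : x₁ ∈ (X' : Set X) := by
    rw [← hx']; exact specializes_iff_mem_closure.mp hx'x₁
  have h2 := ClosedFibreDim.trdeg_le_localDim f X' x ⟨hx, rfl⟩ x₁ hx₁T hx₁x n₁ hn₁
  rw [hld] at h2
  have e1 : n₁ ≤ n'' := by exact_mod_cast h2
  -- a maximal point of the fibre through `x'`
  obtain ⟨z', E, hz'x', hfz', hz'max, hE, hfd⟩ := EquidimAt.exists_maximal_trdeg_eq_fibreDimAt f x'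
  rw [hp3 x' hx'U] at hfd
  have eE : e = E := by exact_mod_cast hfd
  subst eE
  have hFL := FibreChain.trdeg_eq_add_locQuot f x' z' hz'x' hfz' e m hE hm
  obtain ⟨d, hd, hdle⟩ := FibreDimIneq.exists_nat_dim_locQuot x' z' hz'x'
  obtain ⟨a, ha⟩ := FibreDimIneq.exists_nat_dim_stalk x'
  rw [hd] at hFL
  rw [ha] at hdle hcodim
  have e2 : d + m = e := by exact_mod_cast hFL
  have e3 : d ≤ a := by exact_mod_cast hdle
  have e4 : a ≤ n := by exact_mod_cast hcodim
  have e5 : a = n := by omega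
  have e6 : d = a := by omega
  have e7 : n'' = m := by omega
  have e8 : m + n = e := by omega
  -- `z'` is a maximal point of `X`, so `f x'` is the generic point
  have hz'maxX : ∀ ξ' : X, ξ' ⤳ z' → ξ' = z' := by
    apply FibreClosure.maximal_of_locQuot_eq x' z' hz'x'
    rw [hd, ha, e6]
  have hz'U : z' ∈ U := hz'x'.mem_open U.isOpen hx'U
  obtain ⟨hfz'max, -⟩ := hp1 z' hz'U hz'maxX
  have hfx'max : ∀ η' : Y, η' ⤳ f.base x' → η' = f.base x' := by
    rw [← hfz']; exact hfz'max
  refine ⟨by rw [ha, e5], by rw [e7]; exact_mod_cast e8, ?_⟩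
  intro w hw
  subst hw
  apply CompEquidim.isEquidimAt_component f X' x' hx' m hfx'max hm w
  rw [← ClosedFibreDim.localDim_inter_fibre_eq f X' w _ ⟨hx, rfl⟩, hld, e7]

end Groth.Agent.S4943
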