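import Groth.Statements.S4946
import Mathlib
import Groth.Agent.Lib.Helper14.EquidimDim1
import Groth.Agent.Lib.Helper14.QuasiSection
import Groth.Agent.S4944
-- import your own Groth.Agent.* helpers here

set_option autoImplicit false
open CategoryTheory AlgebraicGeometry
universe u v w
open EGA43

namespace Groth.Agent.S4946

/-- Let Y be an irreducible locally Noetherian scheme which is regular of dimension 1 (all local rings
regular of dimension at most 1), f : X ⟶ Y a morphism locally of finite type and y a point of Y.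
Then the following are equivalent: d) every irreducible component of X meeting the fibre X_y
dominates Y; e) for every point x closed in X_y and every irreducible component X_i of X containing
x, there are an irreducible reduced scheme T and an immersion T ⟶ X with image containing x and
contained in X_i, such that T ⟶ Y is quasi-finite and dominant. -/
theorem result {X Y : Scheme.{u}} [IrreducibleSpace Y]
    [IsLocallyNoetherian Y] (hY : ∀ y : Y, IsRegularLocalRing (Y.presheaf.stalk y) ∧ ringKrullDim (Y.presheaf.stalk y) ≤ 1)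
    (f : X ⟶ Y) [LocallyOfFiniteType f] (y : Y) :
    (∀ Z ∈ irreducibleComponents (X : Type u), (Z ∩ f.base ⁻¹' {y}).Nonempty → Dense (f.base '' Z)) ↔
      ∀ x : X, f.base x = y → (∀ x' : X, f.base x' = y → x ⤳ x' → x' = x) →
        ∀ Xi ∈ irreducibleComponents (X : Type u), x ∈ Xi →
          ∃ (T : Scheme.{u}) (i : T ⟶ X), IsImmersion i ∧ IrreducibleSpace ↥T ∧ IsReduced T ∧ x ∈ Set.range i.base ∧
            Set.range i.base ⊆ Xi ∧
            LocallyOfFiniteType (i ≫ f) ∧ LocallyQuasiFinite (i ≫ f) ∧ QuasiCompact (i ≫ f) ∧ IsDominant (i ≫ f) := by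
  open Groth.Agent.Helper14 in
  constructor
  · intro hd x hfx hcl Xi hXi hxXi
    have hXicl : IsClosed Xi := isClosed_of_mem_irreducibleComponents Xi hXi
    let C : TopologicalSpace.Closeds X := ⟨Xi, hXicl⟩
    have hrange : Set.range (Scheme.IdealSheafData.vanishingIdeal C).subschemeι = Xi :=
      ClosedFibreDim.range_subschemeι_vanishingIdeal C
    haveI : IrreducibleSpace ↥(Scheme.IdealSheafData.vanishingIdeal C).subscheme := by
      rw [irreducibleSpace_def]
      apply SectionComp.isIrreducible_of_image _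
        (Scheme.IdealSheafData.vanishingIdeal C).subschemeι.isEmbedding.isInducing
      rw [Set.top_eq_univ, Set.image_univ, hrange]
      exact hXi.1
    haveI : IsDominant ((Scheme.IdealSheafData.vanishingIdeal C).subschemeι ≫ f) := by
      refine ⟨?_⟩
      have h1 : Dense (f.base '' Xi) := hd Xi hXi ⟨x, hxXi, hfx⟩
      refine h1.mono ?_
      rintro _ ⟨a, haXi, rfl⟩
      rw [← hrange] at haXi
      obtain ⟨t, rfl⟩ := haXi
      exact ⟨t, rfl⟩
    obtain ⟨xi, hxi⟩ : x ∈ Set.range (Scheme.IdealSheafData.vanishingIdeal C).subschemeι := by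
      rw [hrange]
      exact hxXi
    have hY' : ∀ y : Y, ringKrullDim (Y.presheaf.stalk y) ≤ 1 := fun y => (hY y).2
    have hEq := EquidimDim1.isEquidimAt_of_dim_le_one hY'
      ((Scheme.IdealSheafData.vanishingIdeal C).subschemeι ≫ f) xi
    have hclxi : ∀ w' : ↥(Scheme.IdealSheafData.vanishingIdeal C).subscheme,
        ((Scheme.IdealSheafData.vanishingIdeal C).subschemeι ≫ f).base w' =
          ((Scheme.IdealSheafData.vanishingIdeal C).subschemeι ≫ f).base xi → xi ⤳ w' → w' = xi := by
      intro w' hfw' hw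
      have h1 : (Scheme.IdealSheafData.vanishingIdeal C).subschemeι xi ⤳
          (Scheme.IdealSheafData.vanishingIdeal C).subschemeι w' :=
        hw.map (Scheme.IdealSheafData.vanishingIdeal C).subschemeι.continuous
      rw [hxi] at h1
      have h2 : f ((Scheme.IdealSheafData.vanishingIdeal C).subschemeι w') = y := by
        have : f ((Scheme.IdealSheafData.vanishingIdeal C).subschemeι w') =
            f ((Scheme.IdealSheafData.vanishingIdeal C).subschemeι xi) := hfw'
        rw [this, hxi, hfx]
      have h3 := hcl _ h2 h1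
      apply (Scheme.IdealSheafData.vanishingIdeal C).subschemeι.isEmbedding.injective
      rw [h3, hxi]
    obtain ⟨T, i, hi, hirr, hred, hxT, h1, h2, h3, h4⟩ :=
      Groth.Agent.S4944.result ((Scheme.IdealSheafData.vanishingIdeal C).subschemeι ≫ f) xi hEq hclxi
    have hassoc : (i ≫ (Scheme.IdealSheafData.vanishingIdeal C).subschemeι) ≫ f =
        i ≫ ((Scheme.IdealSheafData.vanishingIdeal C).subschemeι ≫ f) := Category.assoc _ _ _
    refine ⟨T, i ≫ (Scheme.IdealSheafData.vanishingIdeal C).subschemeι, inferInstance, hirr, hred,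
      ?_, ?_, ?_, ?_, ?_, ?_⟩
    · obtain ⟨t, ht⟩ := hxT
      refine ⟨t, ?_⟩
      change (Scheme.IdealSheafData.vanishingIdeal C).subschemeι (i t) = x
      have ht' : i t = xi := ht
      rw [ht', hxi]
    · rintro _ ⟨t, rfl⟩
      rw [← hrange]
      exact ⟨i t, rfl⟩
    · rw [hassoc]; exact h1
    · rw [hassoc]; exact h2
    · rw [hassoc]; exact h3
    · rw [hassoc]; exact h4
  · intro he Z hZ hne
    have hZcl : IsClosed Z := isClosed_of_mem_irreducibleComponents Z hZ
    have hS : ((f.fiberι y) ⁻¹' Z).Nonempty := by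
      obtain ⟨a, haZ, hfa⟩ := hne
      have : a ∈ Set.range (f.fiberι y) := by
        rw [f.range_fiberι]
        exact hfa
      obtain ⟨ζ, rfl⟩ := this
      exact ⟨ζ, haZ⟩
    obtain ⟨ζ, hζZ, hζcl⟩ := nonempty_inter_closedPoints hS
      (hZcl.preimage (f.fiberι y).continuous).isLocallyClosed
    have hζcl' : IsClosed ({ζ} : Set ↥(f.fiber y)) := hζcl
    have hfx : f.base (f.fiberι y ζ) = y := (f.fiberHomeo y ζ).2
    have hcl : ∀ x' : X, f.base x' = y → (f.fiberι y ζ) ⤳ x' → x' = f.fiberι y ζ := by
      intro x' hfx' hsp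
      have : x' ∈ Set.range (f.fiberι y) := by
        rw [f.range_fiberι]
        exact hfx'
      obtain ⟨ζ', rfl⟩ := this
      have h1 : ζ ⤳ ζ' := (f.fiberι y).isEmbedding.isInducing.specializes_iff.mp hsp
      have h2 : ζ' ∈ closure ({ζ} : Set ↥(f.fiber y)) := specializes_iff_mem_closure.mp h1
      rw [hζcl'.closure_eq] at h2
      rw [Set.mem_singleton_iff.mp h2]
    obtain ⟨T, i, -, -, -, -, hsub, -, -, -, hdom⟩ := he (f.fiberι y ζ) hfx hcl Z hZ hζZ
    have hdr : DenseRange (i ≫ f).base := hdom.denseRange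
    refine hdr.mono ?_
    rintro _ ⟨t, rfl⟩
    exact ⟨i.base t, hsub ⟨t, rfl⟩, rfl⟩

end Groth.Agent.S4946
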