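import Groth.Statements.S4948
import Mathlib
import Groth.Agent.Lib.Helper16.Sch.FlatDVR
import Groth.Agent.Lib.Helper14.EquidimAtMk
import Groth.Agent.Lib.Helper14.MinPrimePts
import Groth.Agent.Lib.Helper14.OpenAtLift
-- import your own Groth.Agent.* helpers here

set_option autoImplicit false
open CategoryTheory AlgebraicGeometry
universe u v w
open EGA43

namespace Groth.Agent.S4948

/-- Consider a discrete valuation ring A and set Y = Spec A, whose closed point is y. Given a morphism f
: X ⟶ Y that is locally of finite type, and a point x lying in the fibre X_y, assume two things: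
first, f is open at each generic point of an irreducible component of X_y passing through x; second,
X_y is reduced at x (that is, the local ring of the fibre at x is reduced). Under these assumptions
f is flat at x. -/
theorem result {A : Type u} [CommRing A] [IsDomain A]
    [IsDiscreteValuationRing A] {X : Scheme.{u}} (f : X ⟶ Spec (CommRingCat.of A)) [LocallyOfFiniteType f] (x : X)
    (hx : f.base x = IsLocalRing.closedPoint A)
    (h : ∀ z : ↥(f.fiber (f.base x)), f.asFiber x ∈ closure {z} →
      (∀ z' : ↥(f.fiber (f.base x)), z ∈ closure {z'} → z' = z) → EGA43.IsOpenAt f.base ((f.fiberι (f.base x)).base z))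
    (hred : _root_.IsReduced ((f.fiber (f.base x)).presheaf.stalk (f.asFiber x))) :
    (f.stalkMap x).hom.Flat := by
  open Groth.Agent.Helper14 Groth.Agent.Helper16.FlatDVR Groth.Agent.Helper16.FibStalk IsLocalRing in
  haveI : IsLocallyNoetherian X := LocallyOfFiniteType.isLocallyNoetherian f
  obtain ⟨ϖ, hϖ⟩ := IsDiscreteValuationRing.exists_irreducible A
  have hfib := fibIdeal_eq_span f hϖ x hx
  have ht : stalkImg f x ϖ ∈ maximalIdeal (X.presheaf.stalk x) := by
    apply fibIdeal_le f x
    rw [hfib]
    exact Ideal.mem_span_singleton_self _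
  have hq : _root_.IsReduced (X.presheaf.stalk x ⧸ Ideal.span {stalkImg f x ϖ}) := by
    let e : (X.presheaf.stalk x ⧸ Ideal.span {stalkImg f x ϖ}) ≃+*
        (f.fiber (f x)).presheaf.stalk (f.asFiber x) :=
      (Ideal.quotEquivOfEq hfib.symm).trans
        (quotEquivStalkFiberOfEq f (f x) (f.asFiber x) x (f.fiberι_asFiber x))
    exact isReduced_of_injective e.toRingHom e.injective
  have hP := EquidimAt.forall_maximal_of_fibre f x (fun z => EGA43.IsOpenAt f.base z) h
  -- the closed point is not the generic point
  have hne : IsLocalRing.closedPoint A ≠ genericPoint (Spec (CommRingCat.of A)) := by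
    intro heq
    have h1 : (IsLocalRing.closedPoint A).asIdeal = ⊥ := by
      rw [heq, genericPoint_eq_bot_of_affine]
      rfl
    exact IsDiscreteValuationRing.not_a_field A h1
  have hmin : ∀ q ∈ minimalPrimes (X.presheaf.stalk x), stalkImg f x ϖ ∉ q := by
    intro q hq hmem
    obtain ⟨ξ, hξx, hker, hξmax⟩ := MinPrimePts.exists_maximal_of_mem_minimalPrimes x q hq
    rw [← hker, RingHom.mem_ker] at hmem
    have h1 : Cyc.specMap x ξ hξx (stalkImg f x ϖ) = (X.residue ξ).hom (stalkImg f ξ ϖ) := by
      rw [← germ_gsec, ← germ_gsec]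
      change (X.residue ξ).hom ((X.presheaf.stalkSpecializes hξx).hom _) = _
      rw [TopCat.Presheaf.germ_stalkSpecializes_apply]
    rw [h1] at hmem
    have h2 : ¬ IsUnit (stalkImg f ξ ϖ) := by
      intro hu
      have := hu.map (X.residue ξ).hom
      rw [hmem] at this
      exact not_isUnit_zero this
    rw [isUnit_stalkImg_iff, not_not] at h2
    have hfξ : f ξ = IsLocalRing.closedPoint A := by
      apply PrimeSpectrum.ext
      have hle : maximalIdeal A ≤ (f ξ).asIdeal := by
        rw [hϖ.maximalIdeal_eq]
        exact (Ideal.span_singleton_le_iff_mem _).mpr h2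
      exact ((maximalIdeal.isMaximal A).eq_of_le (f ξ).isPrime.ne_top hle).symm
    have ho := hP ξ (hfξ.trans hx.symm) hξx (fun x₁ _ hx₁ => hξmax x₁ hx₁)
    obtain ⟨z₁, hz₁, hfz₁⟩ := OpenAtLift.exists_specializes_of_isOpenAt_scheme f ξ ho
      (genericPoint (Spec (CommRingCat.of A))) (genericPoint_specializes _)
    rw [hξmax z₁ hz₁, hfξ] at hfz₁
    exact hne hfz₁
  have hnzd := mem_nonZeroDivisors_of_isReduced_quotient _ ht hq hmin
  letI aAB : Algebra (baseStalk f x) (X.presheaf.stalk x) := (f.stalkMap x).hom.toAlgebra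
  letI aRB : Algebra A (X.presheaf.stalk x) := (stalkHom f x).toAlgebra
  haveI : IsScalarTower A (baseStalk f x) (X.presheaf.stalk x) :=
    IsScalarTower.of_algebraMap_eq' rfl
  change Module.Flat (baseStalk f x) (X.presheaf.stalk x)
  rw [Module.flat_iff_of_isLocalization (baseStalk f x) (f x).asIdeal.primeCompl
    (X.presheaf.stalk x), Module.Flat.flat_iff_torsion_eq_bot_of_isBezout, Submodule.eq_bot_iff]
  intro b hb
  obtain ⟨a, ha⟩ := (Submodule.mem_torsion_iff b).mp hb
  have ha0 : (a : A) ≠ 0 := nonZeroDivisors.ne_zero a.2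
  obtain ⟨n, u, hu⟩ := IsDiscreteValuationRing.associated_pow_irreducible ha0 hϖ
  have h1 : stalkHom f x (a : A) * stalkHom f x u = (stalkImg f x ϖ) ^ n := by
    rw [← map_mul, hu, map_pow]; rfl
  have h2 : (stalkImg f x ϖ) ^ n * b = 0 := by
    rw [← h1, mul_comm (stalkHom f x (a : A)), mul_assoc]
    have : stalkHom f x (a : A) * b = 0 := by
      rw [← ha]; exact (Algebra.smul_def _ _).symm
    rw [this, mul_zero]
  have h3 := pow_mem hnzd n
  exact (mul_left_mem_nonZeroDivisors_eq_zero_iff h3).mp h2

end Groth.Agent.S4948
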