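import Groth.Statements.S4951
import Mathlib.Topology.NoetherianSpace
import Mathlib.Topology.Sober

set_option autoImplicit false
universe u
open EGA43

namespace Groth.Agent.S4951

/-- In a closed nonempty subset `W` of a quasi-sober T0 space there is a point with no proper
generization inside `W`. -/
theorem exists_maximal_point {X : Type u} [TopologicalSpace X] [QuasiSober X] [T0Space X]
    (W : Set X) (hW : IsClosed W) (hne : W.Nonempty) :
    ∃ x ∈ W, ∀ y ∈ W, y ⤳ x → y = x := by
  obtain ⟨x₀, hx₀⟩ := hne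
  set C' : Set ↥W := irreducibleComponent (⟨x₀, hx₀⟩ : ↥W) with hC'
  set C : Set X := Subtype.val '' C' with hC
  have hCirr : IsIrreducible C :=
    isIrreducible_irreducibleComponent.image _ continuous_subtype_val.continuousOn
  have hCcl : IsClosed C := hW.isClosedMap_subtype_val _ isClosed_irreducibleComponent
  obtain ⟨x, hx⟩ := QuasiSober.sober hCirr hCcl
  have hxC : x ∈ C := hx.mem
  have hCW : C ⊆ W := by
    rintro _ ⟨c, _, rfl⟩
    exact c.2
  refine ⟨x, hCW hxC, fun y hy hyx => ?_⟩
  -- closure {y} restricted to W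
  set D' : Set ↥W := closure {(⟨y, hy⟩ : ↥W)} with hD'
  have hD'irr : IsIrreducible D' := isIrreducible_singleton.closure
  have hD'mem : ∀ c : ↥W, c ∈ D' ↔ (c : X) ∈ closure ({y} : Set X) := by
    intro c
    rw [hD', closure_subtype, Set.image_singleton]
  have hsub : C' ⊆ D' := by
    intro c hc
    rw [hD'mem]
    have h1 : (c : X) ∈ C := ⟨c, hc, rfl⟩
    have h2 : C = closure {x} := hx.def.symm
    rw [h2] at h1
    have h3 : x ∈ closure ({y} : Set X) := specializes_iff_mem_closure.mp hyx
    exact (isClosed_closure.closure_subset_iff.mpr (Set.singleton_subset_iff.mpr h3)) h1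
  have hEq : D' = C' := eq_irreducibleComponent hD'irr.isPreirreducible hsub
  have hyC' : (⟨y, hy⟩ : ↥W) ∈ C' := by
    rw [← hEq]
    exact subset_closure rfl
  have hyC : y ∈ C := ⟨⟨y, hy⟩, hyC', rfl⟩
  have hxy : x ⤳ y := by
    rw [specializes_iff_mem_closure, hx.def]
    exact hyC
  exact (hyx.antisymm hxy).eq

/-- If `x ∈ closure U` with `U` open and `x` has a Noetherian neighbourhood, then some point of `U`
specializes to `x`. -/
theorem exists_generization_mem {X : Type u} [TopologicalSpace X] [QuasiSober X]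
    (x : X) (hloc : ∃ N ∈ nhds x, TopologicalSpace.NoetherianSpace ↥N) (U : Set X) (hU : IsOpen U)
    (hx : x ∈ closure U) : ∃ ξ ∈ U, ξ ⤳ x := by
  obtain ⟨N, hN, hNoeth⟩ := hloc
  set S : Set X := interior N ∩ U with hS
  have hSopen : IsOpen S := isOpen_interior.inter hU
  have hxS : x ∈ closure S :=
    isOpen_interior.inter_closure ⟨mem_interior_iff_mem_nhds.mpr hN, hx⟩
  have hSN : S ⊆ N := fun y hy => interior_subset hy.1
  have : TopologicalSpace.NoetherianSpace ↥S := TopologicalSpace.NoetherianSpace.of_subset hSN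
  obtain ⟨𝒮, hfin, -, hirr, hUn⟩ :=
    TopologicalSpace.NoetherianSpace.exists_finite_set_isClosed_irreducible (isClosed_univ (X := ↥S))
  have hSeq : S = ⋃ t ∈ 𝒮, Subtype.val '' t := by
    ext y
    constructor
    · intro hy
      have : (⟨y, hy⟩ : ↥S) ∈ ⋃₀ 𝒮 := hUn ▸ Set.mem_univ _
      obtain ⟨t, ht, hyt⟩ := this
      exact Set.mem_biUnion ht ⟨⟨y, hy⟩, hyt, rfl⟩
    · intro hy
      simp only [Set.mem_iUnion] at hy
      obtain ⟨t, _, c, _, rfl⟩ := hy
      exact c.2
  rw [hSeq, hfin.closure_biUnion] at hxS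
  simp only [Set.mem_iUnion] at hxS
  obtain ⟨t, ht, hxt⟩ := hxS
  have htirr : IsIrreducible (closure (Subtype.val '' t : Set X)) :=
    ((hirr t ht).image _ continuous_subtype_val.continuousOn).closure
  obtain ⟨ξ, hξ⟩ := QuasiSober.sober htirr isClosed_closure
  have hξS : ξ ∈ S := by
    rw [hξ.mem_open_set_iff hSopen]
    obtain ⟨c, hc⟩ := (hirr t ht).nonempty
    exact ⟨c, subset_closure ⟨c, hc, rfl⟩, c.2⟩
  refine ⟨ξ, hξS.2, ?_⟩
  rw [specializes_iff_mem_closure, hξ.def]
  exact hxt


/-- Let X be a locally Noetherian topological space in which every irreducible closed subset has a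
unique generic point (X quasi-sober and T₀), and Z a closed nowhere dense subset of X such that for
every point x of Z the set of generizations of x distinct from x is connected (possibly empty). If X
is connected, then X − Z is connected. (Uniqueness of generic points, automatic for the underlying
space of a scheme, is needed: in the four-point space {u, v, z₁, z₂} whose open sets are ∅, {u},
{v}, {u, v} and the whole space, the closed nowhere dense set Z = {z₁, z₂} satisfies the hypothesis,
since z₂ is a generization of z₁ and conversely, yet X − Z = {u, v} is not connected.) -/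
theorem result {X : Type u} [TopologicalSpace X]
    [QuasiSober X] [T0Space X] (hloc : ∀ x : X, ∃ U ∈ nhds x, TopologicalSpace.NoetherianSpace ↥U) [ConnectedSpace X]
    (Z : Set X) (hZ : IsClosed Z) (hZn : IsNowhereDense Z)
    (hgen : ∀ x ∈ Z, IsPreconnected ({x' : X | x' ⤳ x} \ {x})) :
    IsConnected Zᶜ := by
  have hdense : Dense Zᶜ := by
    rw [← interior_eq_empty_iff_dense_compl]
    have := hZn
    rw [IsNowhereDense, hZ.closure_eq] at this
    exact this
  refine ⟨hdense.nonempty, ?_⟩
  intro u v hu hv huv hnu hnv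
  by_contra hcon
  rw [Set.not_nonempty_iff_eq_empty] at hcon
  set U₁ : Set X := Zᶜ ∩ u with hU₁
  set U₂ : Set X := Zᶜ ∩ v with hU₂
  have hU₁o : IsOpen U₁ := hZ.isOpen_compl.inter hu
  have hU₂o : IsOpen U₂ := hZ.isOpen_compl.inter hv
  have hdisj : U₁ ∩ U₂ = ∅ := by
    rw [← hcon]
    ext y
    simp only [hU₁, hU₂, Set.mem_inter_iff]
    tauto
  have hcover : closure U₁ ∪ closure U₂ = Set.univ := by
    rw [← closure_union]
    have : U₁ ∪ U₂ = Zᶜ := by
      rw [hU₁, hU₂, ← Set.inter_union_distrib_left]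
      exact Set.inter_eq_left.mpr huv
    rw [this]
    exact hdense.closure_eq
  set W : Set X := closure U₁ ∩ closure U₂ with hW
  have hWcl : IsClosed W := isClosed_closure.inter isClosed_closure
  have hWne : W.Nonempty := by
    have h := isPreconnected_closed_iff.mp (isPreconnected_univ (α := X)) (closure U₁) (closure U₂)
      isClosed_closure isClosed_closure hcover.ge
      (by rw [Set.univ_inter]; exact hnu.closure) (by rw [Set.univ_inter]; exact hnv.closure)
    rwa [Set.univ_inter] at h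
  have hWZ : W ⊆ Z := by
    intro y hy
    by_contra hyZ
    have hyZ' : y ∈ Zᶜ := hyZ
    rcases huv hyZ' with hyu | hyv
    · have h1 : y ∈ U₁ := ⟨hyZ', hyu⟩
      obtain ⟨z, hz⟩ := mem_closure_iff.mp hy.2 U₁ hU₁o h1
      have : z ∈ U₁ ∩ U₂ := hz
      rw [hdisj] at this
      exact this
    · have h1 : y ∈ U₂ := ⟨hyZ', hyv⟩
      obtain ⟨z, hz⟩ := mem_closure_iff.mp hy.1 U₂ hU₂o h1
      have : z ∈ U₁ ∩ U₂ := ⟨hz.2, hz.1⟩
      rw [hdisj] at this
      exact this
  obtain ⟨x, hxW, hxmax⟩ := exists_maximal_point W hWcl hWne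
  have hxZ : x ∈ Z := hWZ hxW
  obtain ⟨ξ₁, hξ₁U, hξ₁x⟩ := exists_generization_mem x (hloc x) U₁ hU₁o hxW.1
  obtain ⟨ξ₂, hξ₂U, hξ₂x⟩ := exists_generization_mem x (hloc x) U₂ hU₂o hxW.2
  have hne₁ : ξ₁ ≠ x := fun h => hξ₁U.1 (h ▸ hxZ)
  have hne₂ : ξ₂ ≠ x := fun h => hξ₂U.1 (h ▸ hxZ)
  have h := isPreconnected_closed_iff.mp (hgen x hxZ) (closure U₁) (closure U₂)
    isClosed_closure isClosed_closure (by rw [hcover]; exact Set.subset_univ _)
    ⟨ξ₁, ⟨hξ₁x, hne₁⟩, subset_closure hξ₁U⟩ ⟨ξ₂, ⟨hξ₂x, hne₂⟩, subset_closure hξ₂U⟩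
  obtain ⟨y, ⟨hyx, hyne⟩, hyW⟩ := h
  exact hyne (hxmax y hyW hyx)

end Groth.Agent.S4951
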