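import Groth.Statements.S4954
import Mathlib
import Groth.Agent.Lib.Helper14.SectionComp
-- import your own Groth.Agent.* helpers here

set_option autoImplicit false
open CategoryTheory AlgebraicGeometry
universe u v w
open EGA43

namespace Groth.Agent.S4954

/-- Let f : X ⟶ Y be a morphism of finite presentation with a section g : Y ⟶ X, and for y in Y let
X_y^0 be the connected component of f⁻¹(y) containing g y. Suppose that every X_y^0 is geometrically
irreducible over κ(y) (its preimage in X_y ⊗ K is irreducible for every field extension K of κ(y)).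
Then the function y ↦ dim X_y^0 is upper semicontinuous on Y. -/
theorem result {X Y : Scheme.{u}} (f : X ⟶ Y)
    [LocallyOfFinitePresentation f] [QuasiCompact f] [QuasiSeparated f] (g : Y ⟶ X) (hg : g ≫ f = 𝟙 Y)
    (hirr : ∀ y : Y, (∀ (K : Type u) [Field K] [Algebra (IsLocalRing.ResidueField (Y.presheaf.stalk y)) K],
        IsIrreducible ((FBase.bcπ (f.fiberToSpecResidueField y) K ≫ f.fiberι y).base ⁻¹' connectedComponentIn (f.base ⁻¹' {y}) (g.base y)))) :
    UpperSemicontinuous (fun y : Y => topologicalKrullDim ↥(connectedComponentIn (f.base ⁻¹' {y}) (g.base y))) := by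
  open Groth.Agent.Helper14 in
  haveI : LocallyOfFiniteType f := inferInstance
  have hfg : ∀ y : Y, f.base (g.base y) = y := by
    intro y
    have := congrArg (fun h => h.base y) hg
    simpa using this
  -- irreducibility of the components
  have hC : ∀ y : Y, IsIrreducible (connectedComponentIn (f.base ⁻¹' {y}) (g.base y)) := by
    intro y
    have h := hirr y (IsLocalRing.ResidueField (Y.presheaf.stalk y))
    set C := connectedComponentIn (f.base ⁻¹' {y}) (g.base y) with hCdef
    haveI : Surjective (Spec.map (CommRingCat.ofHom (algebraMap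
        (IsLocalRing.ResidueField (Y.presheaf.stalk y))
        (IsLocalRing.ResidueField (Y.presheaf.stalk y))))) := by
      have : Spec.map (CommRingCat.ofHom (algebraMap
        (IsLocalRing.ResidueField (Y.presheaf.stalk y))
        (IsLocalRing.ResidueField (Y.presheaf.stalk y)))) = 𝟙 _ := by
        rw [Algebra.algebraMap_self]
        exact Spec.map_id _
      rw [this]
      infer_instance
    haveI : Surjective (FBase.bcπ (f.fiberToSpecResidueField y)
        (IsLocalRing.ResidueField (Y.presheaf.stalk y))) := by
      unfold FBase.bcπ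
      exact MorphismProperty.pullback_fst (P := @Surjective) _ _ this
    have hrange : Set.range (FBase.bcπ (f.fiberToSpecResidueField y)
        (IsLocalRing.ResidueField (Y.presheaf.stalk y)) ≫ f.fiberι y).base = f.base ⁻¹' {y} := by
      rw [Scheme.Hom.comp_base, TopCat.coe_comp, Set.range_comp,
        Set.range_eq_univ.mpr (Scheme.Hom.surjective _), Set.image_univ]
      exact f.range_fiberι y
    have himg := h.image (FBase.bcπ (f.fiberToSpecResidueField y)
        (IsLocalRing.ResidueField (Y.presheaf.stalk y)) ≫ f.fiberι y).base
      (Scheme.Hom.continuous (FBase.bcπ (f.fiberToSpecResidueField y)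
        (IsLocalRing.ResidueField (Y.presheaf.stalk y)) ≫ f.fiberι y)).continuousOn
    rw [Set.image_preimage_eq_inter_range, hrange,
      Set.inter_eq_left.mpr (connectedComponentIn_subset _ _)] at himg
    exact himg
  have hF : ∀ y : Y, topologicalKrullDim ↥(connectedComponentIn (f.base ⁻¹' {y}) (g.base y)) =
      FlatMor.fibreDimAt f (g.base y) := by
    intro y
    have h1 := hC y
    have e : connectedComponentIn (f.base ⁻¹' {y}) (g.base y) =
        connectedComponentIn (f.base ⁻¹' {f.base (g.base y)}) (g.base y) := by rw [hfg y]
    rw [e] at h1 ⊢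
    exact SectionComp.dim_connComp_eq f (g.base y) h1
  intro y a ha
  simp only [hF] at ha ⊢
  obtain ⟨n, hn⟩ : ∃ n : ℕ, FlatMor.fibreDimAt f (g.base y) ≤ n ∧ (n : WithBot ℕ∞) < a := by
    have h0 : (0 : WithBot ℕ∞) ≤ FlatMor.fibreDimAt f (g.base y) :=
      FibreGeneric.zero_le_localDim _
    generalize FlatMor.fibreDimAt f (g.base y) = b at ha h0
    induction b using WithBot.recBotCoe with
    | bot => exact absurd h0 (by simp)
    | coe b =>
      induction b using ENat.recTopCoe with
      | top => exact absurd ha (not_lt.mpr le_top)
      | coe n => exact ⟨n, le_rfl, ha⟩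
  have hopen : IsOpen (g.base ⁻¹' {x : X | FlatMor.fibreDimAt f x ≤ n}) :=
    (Groth.Agent.S0402.result f n).preimage g.continuous
  filter_upwards [hopen.mem_nhds hn.1] with y' hy'
  exact lt_of_le_of_lt hy' hn.2

end Groth.Agent.S4954
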