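import Groth.Statements.S4959


set_option autoImplicit false
open CategoryTheory AlgebraicGeometry
universe u v w
open EGA43

namespace Groth.Agent.S4959

open CategoryTheory.Limits in
/-- Let f : X ⟶ Y be a morphism of schemes and g : Y' ⟶ Y a surjective morphism which is either proper,
or flat and quasi-compact. If the base change f' : X ×_Y Y' ⟶ Y' is universally submersive (all of
its base changes are topological quotient maps), then f is universally submersive. -/
theorem result {X Y Y' : Scheme.{u}} (f : X ⟶ Y) (g : Y' ⟶ Y) [Surjective g]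
    (hg : IsProper g ∨ (Flat g ∧ QuasiCompact g))
    (h : MorphismProperty.universally (topologically @Topology.IsQuotientMap) (pullback.snd f g)) :
    MorphismProperty.universally (topologically @Topology.IsQuotientMap) f := by
  intro XT T i₁ i₂ fT hpb
  -- base change of `g` to `T`
  let p₁ : pullback i₂ g ⟶ T := pullback.fst i₂ g
  let p₂ : pullback i₂ g ⟶ Y' := pullback.snd i₂ g
  let q₁ : pullback fT p₁ ⟶ XT := pullback.fst fT p₁
  let q₂ : pullback fT p₁ ⟶ pullback i₂ g := pullback.snd fT p₁
  have hcomm : (q₁ ≫ i₁) ≫ f = (q₂ ≫ p₂) ≫ g := by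
    simp only [Category.assoc, q₁, q₂, p₂]
    rw [← hpb.w, ← pullback.condition, pullback.condition_assoc]
  let l : pullback fT p₁ ⟶ pullback f g := pullback.lift (q₁ ≫ i₁) (q₂ ≫ p₂) hcomm
  have hbig : IsPullback q₂ (q₁ ≫ i₁) (p₁ ≫ i₂) f :=
    (IsPullback.of_hasPullback fT p₁).flip.paste_vert hpb
  have hbig' : IsPullback q₂ (l ≫ pullback.fst f g) (p₂ ≫ g) f := by
    have e1 : l ≫ pullback.fst f g = q₁ ≫ i₁ := pullback.lift_fst _ _ _
    have e2 : p₂ ≫ g = p₁ ≫ i₂ := pullback.condition.symm
    rw [e1, e2]; exact hbig
  have hsq : IsPullback q₂ l p₂ (pullback.snd f g) :=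
    IsPullback.of_bot hbig' (pullback.lift_snd _ _ _).symm (IsPullback.of_hasPullback f g).flip
  have hq₂ : Topology.IsQuotientMap q₂.base := h _ _ _ hsq
  have hp₁ : Topology.IsQuotientMap p₁.base := by
    rcases hg with hg | ⟨hg1, hg2⟩
    · have : IsProper p₁ := by have := hg; exact inferInstanceAs (IsProper (pullback.fst i₂ g))
      exact (p₁.isClosedMap).isQuotientMap p₁.continuous p₁.surjective
    · have : Flat p₁ := by have := hg1; exact inferInstanceAs (Flat (pullback.fst i₂ g))
      have : QuasiCompact p₁ := by have := hg2; exact inferInstanceAs (QuasiCompact (pullback.fst i₂ g))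
      exact Flat.isQuotientMap_of_surjective p₁
  have hcomp : Topology.IsQuotientMap (fT.base ∘ q₁.base) := by
    have : (fT.base : XT → T) ∘ q₁.base = p₁.base ∘ q₂.base := by
      have := congrArg (fun φ => (φ.base : _ → _)) (pullback.condition (f := fT) (g := p₁))
      simpa using this
    rw [this]
    exact hp₁.comp hq₂
  exact Topology.IsQuotientMap.of_comp q₁.continuous fT.continuous hcomp

end Groth.Agent.S4959
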