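import Groth.Statements.S4968
import Groth.Agent.Lib.Helper16.Sch.FibMod7
import Groth.Agent.Lib.Lead.Depth5

set_option autoImplicit false
open CategoryTheory AlgebraicGeometry
universe u v w
open EGA43

namespace Groth.Agent.S4968

/-- Let f : X ⟶ Y be a proper morphism of finite presentation and F a finitely presented O_X-module
which is f-flat; for y in Y write F_y for the restriction of F to the fibre X_y. Then the set of
points y of Y such that F_y is a Cohen–Macaulay O_{X_y}-module (at every point of X_y its stalk is
zero or a Cohen–Macaulay module over the local ring) is open in Y. -/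
theorem result {X Y : Scheme.{u}} (f : X ⟶ Y) [IsProper f]
    [LocallyOfFinitePresentation f] (F : X.Modules) (hF : CohB1.IsFP F) (hflat : FlatMod.IsFlatOver f F) :
    IsOpen {y : Y | ∀ x : ↥(f.fiber y), Subsingleton (((Scheme.Modules.pullback (f.fiberι y)).obj F).presheaf.stalk x) ∨
      LocCoh.IsCohenMacaulayModule ((f.fiber y).presheaf.stalk x) (((Scheme.Modules.pullback (f.fiberι y)).obj F).presheaf.stalk x)} := by
  have hfin := fun x => Groth.Agent.Helper16.FibMod.finite_stalk_of_isFP F hF x
  haveI : SheafOfModules.IsFinitePresentation (R := X.ringCatSheaf) F := hF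
  have h := Groth.Agent.Helper16.FibMod.isOpen_forall_cdim_le f F f.isClosedMap hF hflat 0
  have hset : {y : Y | ∀ x : ↥(f.fiber y), Subsingleton (((Scheme.Modules.pullback (f.fiberι y)).obj F).presheaf.stalk x) ∨
      LocCoh.IsCohenMacaulayModule ((f.fiber y).presheaf.stalk x) (((Scheme.Modules.pullback (f.fiberι y)).obj F).presheaf.stalk x)} =
      {y : Y | ∀ x : ↥(f.fiber y),
      Module.supportDim ((f.fiber y).presheaf.stalk x)
        (((Scheme.Modules.pullback (f.fiberι y)).obj F).presheaf.stalk x) ≤
      ((LocCoh.depth ((f.fiber y).presheaf.stalk x)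
        (((Scheme.Modules.pullback (f.fiberι y)).obj F).presheaf.stalk x) : ℕ∞) : WithBot ℕ∞) +
          ((0 : ℕ) : WithBot ℕ∞)} := by
    ext y
    rw [Set.mem_ofPred_eq, Set.mem_ofPred_eq]
    refine forall_congr' fun x => ?_
    haveI : LocallyOfFiniteType f := inferInstance
    haveI := Groth.Agent.Helper16.FibMod.isNoetherianRing_fiber_stalk f y x
    haveI := Groth.Agent.Helper16.FibMod.finite_stalk_pullback (f.fiberι y) F hfin x
    rw [Nat.cast_zero, add_zero]
    constructor
    · rintro (hs | hcm)
      · haveI := hs
        rw [Module.supportDim_eq_bot_of_subsingleton]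
        exact bot_le
      · exact le_of_eq hcm
    · intro hle
      by_cases hs : Subsingleton (((Scheme.Modules.pullback (f.fiberι y)).obj F).presheaf.stalk x)
      · exact Or.inl hs
      · right
        rw [not_subsingleton_iff_nontrivial] at hs
        haveI := hs
        exact le_antisymm hle (Groth.Agent.Lead.Depth.depth_le_supportDim _)
  rw [hset]
  exact h

end Groth.Agent.S4968
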