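import Groth.Statements.S4971
import Mathlib.RingTheory.Nakayama

set_option autoImplicit false
universe u
open EGA43

namespace Groth.Agent.S4971

/-- Let B be a Noetherian local ring, M, N, P three B-modules with N finitely generated, u : M → N and v
: N → P linear maps with v ∘ u = 0, and t an element of the maximal ideal of B which is P-regular.
If the induced sequence M/tM → N/tN → P/tP is exact, then M → N → P is exact. -/
theorem result {B : Type u} [CommRing B] [IsNoetherianRing B] [IsLocalRing B]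
    {M N P : Type u} [AddCommGroup M] [Module B M] [AddCommGroup N] [Module B N] [Module.Finite B N]
    [AddCommGroup P] [Module B P] (u : M →ₗ[B] N) (v : N →ₗ[B] P) (huv : v ∘ₗ u = 0) (t : B)
    (ht : t ∈ IsLocalRing.maximalIdeal B) (hreg : IsSMulRegular P t)
    (hu : (Ideal.span {t} • ⊤ : Submodule B M) ≤ (Ideal.span {t} • ⊤ : Submodule B N).comap u)
    (hv : (Ideal.span {t} • ⊤ : Submodule B N) ≤ (Ideal.span {t} • ⊤ : Submodule B P).comap v)
    (hex : LinearMap.ker ((Ideal.span {t} • ⊤ : Submodule B N).mapQ (Ideal.span {t} • ⊤ : Submodule B P) v hv) ≤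
      LinearMap.range ((Ideal.span {t} • ⊤ : Submodule B M).mapQ (Ideal.span {t} • ⊤ : Submodule B N) u hu)) :
    LinearMap.ker v ≤ LinearMap.range u := by
  have hKfg : (LinearMap.ker v).FG := IsNoetherian.noetherian _
  have hjac : Ideal.span {t} ≤ Ideal.jacobson (⊥ : Ideal B) := by
    rw [Ideal.span_le, Set.singleton_subset_iff]
    exact (IsLocalRing.maximalIdeal_le_jacobson ⊥) ht
  refine Submodule.le_of_le_smul_of_le_jacobson_bot hKfg hjac ?_
  intro n hn
  -- the class of `n` is killed by `v̄`, hence in the range of `ū`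
  have h1 : (Submodule.mkQ _ n : N ⧸ (Ideal.span {t} • ⊤ : Submodule B N)) ∈
      LinearMap.ker ((Ideal.span {t} • ⊤ : Submodule B N).mapQ
        (Ideal.span {t} • ⊤ : Submodule B P) v hv) := by
    rw [LinearMap.mem_ker, Submodule.mkQ_apply, Submodule.mapQ_apply, LinearMap.mem_ker.mp hn,
      Submodule.Quotient.mk_zero]
  obtain ⟨mbar, hmbar⟩ := hex h1
  obtain ⟨m₀, rfl⟩ := Submodule.mkQ_surjective _ mbar
  rw [Submodule.mkQ_apply, Submodule.mapQ_apply, Submodule.mkQ_apply,
    Submodule.Quotient.eq] at hmbar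
  -- `u m₀ - n ∈ t N`
  obtain ⟨n₁, hn₁⟩ : ∃ n₁ : N, u m₀ - n = t • n₁ := by
    have := hmbar
    rw [Submodule.ideal_span_singleton_smul, Submodule.mem_smul_pointwise_iff_exists] at this
    obtain ⟨n₁, -, h⟩ := this
    exact ⟨n₁, h.symm⟩
  have hvn₁ : v n₁ = 0 := by
    apply hreg
    have : v (u m₀ - n) = t • v n₁ := by rw [hn₁, map_smul]
    rw [map_sub, LinearMap.mem_ker.mp hn, sub_zero] at this
    have huv' : v (u m₀) = 0 := by
      have := LinearMap.congr_fun huv m₀
      simpa using this
    rw [huv'] at this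
    simp only [smul_zero]
    exact this.symm
  have hdecomp : n = u m₀ + (-t) • n₁ := by
    rw [neg_smul, ← hn₁]; abel
  rw [hdecomp]
  refine Submodule.add_mem_sup ⟨m₀, rfl⟩ ?_
  refine Submodule.smul_mem_smul ?_ (LinearMap.mem_ker.mpr hvn₁)
  exact (Ideal.span {t}).neg_mem (Ideal.subset_span rfl)

end Groth.Agent.S4971
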