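import Groth.Statements.S4972
import Mathlib
import Groth.Agent.Lib.Helper14.UOpenFam
-- import your own Groth.Agent.* helpers here

set_option autoImplicit false
open CategoryTheory AlgebraicGeometry
universe u v w
open EGA43

namespace Groth.Agent.S4972

/-- Let f : X ⟶ S be a morphism of finite type, (g_i : Y_i ⟶ S) a family of universally open morphisms
and (u_i : Y_i ⟶ X) a family of S-morphisms. For s in S let Z(s) be the closure, in the fibre f⁻¹(s)
(with the topology induced from X), of the union of the sets u_i(Y_i) ∩ f⁻¹(s) (the images of the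
fibres of the Y_i over s), and let d(s) = dim Z(s). Then for every point s of S and every
generization s' of s one has d(s) ≤ d(s'). -/
theorem result {X S : Scheme.{u}} (f : X ⟶ S) [LocallyOfFiniteType f]
    [QuasiCompact f] {ι : Type u} (Y : ι → Scheme.{u}) (g : ∀ i, Y i ⟶ S) [∀ i, UniversallyOpen (g i)]
    (v : ∀ i, Y i ⟶ X) (hv : ∀ i, v i ≫ f = g i) (s s' : S) (hs : s' ⤳ s) :
    letI d : S → WithBot ℕ∞ := fun t =>
      topologicalKrullDim ↥(f.base ⁻¹' {t} ∩ closure ((⋃ i, Set.range (v i).base) ∩ f.base ⁻¹' {t}))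
    d s ≤ d s' := by
  show topologicalKrullDim ↥(f.base ⁻¹' {s} ∩ closure ((⋃ i, Set.range (v i).base) ∩ f.base ⁻¹' {s})) ≤
    topologicalKrullDim ↥(f.base ⁻¹' {s'} ∩ closure ((⋃ i, Set.range (v i).base) ∩ f.base ⁻¹' {s'}))
  obtain ⟨A, hAd, hAv, a, hac, hab⟩ :=
    Groth.Agent.Helper11.HTopV.exists_valuationRing_of_specializes hs
  set E : Set X := ⋃ i, Set.range (v i).base with hE
  let p : Limits.pullback f a ⟶ X := Limits.pullback.fst f a
  let f₁ : Limits.pullback f a ⟶ Spec A := Limits.pullback.snd f a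
  have hsq : IsPullback p f₁ f a := IsPullback.of_hasPullback f a
  haveI : LocallyOfFiniteType f₁ := MorphismProperty.pullback_snd _ _ inferInstance
  haveI : QuasiCompact f₁ := MorphismProperty.pullback_snd (P := @QuasiCompact) _ _ inferInstance
  have hc := Groth.Agent.Helper14.UOpenFam.dim_bc hsq E (IsLocalRing.closedPoint A)
  have hb := Groth.Agent.Helper14.UOpenFam.dim_bc hsq E (Groth.Agent.Helper11.HTopV.botPt A)
  rw [hac] at hc
  rw [hab] at hb
  show topologicalKrullDim _ ≤ topologicalKrullDim _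
  rw [← hc, ← hb]
  apply Groth.Agent.Helper14.UOpenFam.valStep (A := A) f₁ (p ⁻¹' E)
  intro x₁ hx₁
  obtain ⟨i, y, hy⟩ : ∃ i, ∃ y : Y i, (v i) y = p x₁ := by
    have : p x₁ ∈ ⋃ i, Set.range (v i).base := hx₁
    obtain ⟨i, y, hy⟩ := Set.mem_iUnion.1 this
    exact ⟨i, y, hy⟩
  let q₁ : Limits.pullback (v i) p ⟶ Y i := Limits.pullback.fst _ _
  let v₁ : Limits.pullback (v i) p ⟶ Limits.pullback f a := Limits.pullback.snd _ _
  have hsqY : IsPullback q₁ v₁ (v i) p := IsPullback.of_hasPullback _ _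
  have hbig : IsPullback q₁ (v₁ ≫ f₁) (g i) a := by
    have := hsqY.paste_vert hsq
    rw [hv i] at this
    exact this
  haveI : UniversallyOpen (v₁ ≫ f₁) := MorphismProperty.of_isPullback hbig inferInstance
  obtain ⟨y₁, hy₁q, hy₁v⟩ := AlgebraicGeometry.Scheme.exists_preimage_of_isPullback hsqY y x₁ hy
  rw [mem_closure_iff]
  intro U₁ hU₁ hxU₁
  have hO : IsOpen ((v₁ ≫ f₁) '' (v₁ ⁻¹' U₁)) :=
    (v₁ ≫ f₁).isOpenMap _ (hU₁.preimage v₁.continuous)
  have hmem : (v₁ ≫ f₁) y₁ ∈ (v₁ ≫ f₁) '' (v₁ ⁻¹' U₁) := by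
    refine ⟨y₁, ?_, rfl⟩
    show v₁ y₁ ∈ U₁
    rw [show v₁ y₁ = x₁ from hy₁v]
    exact hxU₁
  have hspec : Groth.Agent.Helper11.HTopV.botPt A ⤳ (v₁ ≫ f₁) y₁ := by
    rw [← PrimeSpectrum.le_iff_specializes]
    exact bot_le
  obtain ⟨y₂, hy₂U, hy₂f⟩ := hspec.mem_open hO hmem
  refine ⟨v₁ y₂, hy₂U, ⟨?_, ?_⟩⟩
  · show p (v₁ y₂) ∈ E
    have : p (v₁ y₂) = v i (q₁ y₂) := by
      rw [← Scheme.Hom.comp_apply, ← hsqY.w, Scheme.Hom.comp_apply]
    rw [this]
    exact Set.mem_iUnion.2 ⟨i, q₁ y₂, rfl⟩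
  · exact hy₂f

end Groth.Agent.S4972
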