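import Groth.Statements.S4974
import Mathlib
import Groth.Agent.Lib.Helper14.CompleteQF
import Groth.Agent.Lib.Helper14.FibreGeneric
import Groth.Agent.S4944
-- import your own Groth.Agent.* helpers here

set_option autoImplicit false
open CategoryTheory AlgebraicGeometry
universe u v w
open EGA43

namespace Groth.Agent.S4974

/-- Consider a complete Noetherian local domain A and put Y = Spec A. Suppose f : X ⟶ Y is locally of
finite type, and take a point x ∈ X mapping to the closed point of Y, where f is equidimensional at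
x and x is closed in the fibre containing it. Then one can find a local domain A' that contains A
and is finite as an A-algebra, together with a Y-morphism h : Spec A' ⟶ X that is an immersion and
has x in its image. -/
theorem result {A : Type u} [CommRing A] [IsDomain A]
    [IsNoetherianRing A] [IsLocalRing A] [IsAdicComplete (IsLocalRing.maximalIdeal A) A] {X : Scheme.{u}}
    (f : X ⟶ Spec (CommRingCat.of A)) [LocallyOfFiniteType f] (x : X) (hx : f.base x = IsLocalRing.closedPoint A)
    (hf : EGA43.IsEquidimAt f x) (hcl : ∀ x' : X, f.base x' = f.base x → x ⤳ x' → x' = x) :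
    ∃ (A' : Type u) (_ : CommRing A') (_ : IsDomain A') (_ : IsLocalRing A') (_ : Algebra A A') (_ : Module.Finite A A'),
      Function.Injective (algebraMap A A') ∧
      ∃ h : Spec (CommRingCat.of A') ⟶ X, h ≫ f = Spec.map (CommRingCat.ofHom (algebraMap A A')) ∧
        IsImmersion h ∧ x ∈ Set.range h.base := by
  open Groth.Agent.Helper14 in
  haveI : IrreducibleSpace ↥(Spec (CommRingCat.of A)) :=
    inferInstanceAs (IrreducibleSpace (PrimeSpectrum A))
  obtain ⟨T, i, hi, hirr, hred, ⟨t, ht⟩, hlft, hlqf, hqc, hdom⟩ :=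
    Groth.Agent.S4944.result f x hf hcl
  haveI : IsIntegral T := isIntegral_of_irreducibleSpace_of_isReduced T
  obtain ⟨W, hW, htW, -⟩ := exists_isAffineOpen_mem_and_subset (X := T) (x := t) (U := ⊤) trivial
  let g : Spec Γ(T, W) ⟶ Spec (CommRingCat.of A) := hW.fromSpec ≫ i ≫ f
  let φc : CommRingCat.of A ⟶ Γ(T, W) := Spec.preimage g
  have hφc : Spec.map φc = g := Spec.map_preimage g
  let φ : A →+* Γ(T, W) := φc.hom
  letI alg : Algebra A Γ(T, W) := φ.toAlgebra
  have hg1 : LocallyOfFiniteType g := inferInstance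
  have hg2 : LocallyQuasiFinite g := inferInstance
  have hft : φ.FiniteType := by
    rw [← hφc] at hg1
    exact (HasRingHomProperty.Spec_iff (P := @LocallyOfFiniteType)).mp hg1
  have hqf : φ.QuasiFinite := by
    rw [← hφc] at hg2
    exact (HasRingHomProperty.Spec_iff (P := @LocallyQuasiFinite)).mp hg2
  haveI : Algebra.FiniteType A Γ(T, W) := hft
  haveI : Algebra.QuasiFinite A Γ(T, W) := hqf
  haveI : IsNoetherianRing Γ(T, W) := Algebra.FiniteType.isNoetherianRing A _
  haveI : Nonempty W := ⟨⟨t, htW⟩⟩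
  haveI : IsDomain Γ(T, W) := inferInstance
  have hmem : ∀ (p : Spec Γ(T, W)) (a : A), a ∈ (g p).asIdeal ↔ φ a ∈ p.asIdeal := by
    intro p a
    rw [← hφc]
    rfl
  have hq : Ideal.map (algebraMap A Γ(T, W)) (IsLocalRing.maximalIdeal A) ≤
      (hW.primeIdealOf ⟨t, htW⟩).asIdeal := by
    rw [Ideal.map_le_iff_le_comap]
    intro a ha
    have h1 : g (hW.primeIdealOf ⟨t, htW⟩) = IsLocalRing.closedPoint A := by
      change f (i (hW.fromSpec (hW.primeIdealOf ⟨t, htW⟩))) = _
      rw [hW.fromSpec_primeIdealOf ⟨t, htW⟩]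
      exact (congrArg f ht).trans hx
    have h2 : a ∈ (g (hW.primeIdealOf ⟨t, htW⟩)).asIdeal := by
      rw [h1]
      exact ha
    exact (hmem _ a).mp h2
  haveI : (hW.primeIdealOf ⟨t, htW⟩).asIdeal.IsPrime := (hW.primeIdealOf ⟨t, htW⟩).isPrime
  have hloc := CompleteQF.isLocalRing_of_quasiFinite (A := A) (hW.primeIdealOf ⟨t, htW⟩).asIdeal hq
  have hne : Ideal.map (algebraMap A Γ(T, W)) (IsLocalRing.maximalIdeal A) ≠ ⊤ := by
    intro htop
    rw [htop] at hq
    exact (hW.primeIdealOf ⟨t, htW⟩).isPrime.ne_top (top_le_iff.mp hq)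
  have hfin : Module.Finite A Γ(T, W) := CompleteQF.finite_of_quasiFinite hne
  have hinj : Function.Injective φ := by
    rw [injective_iff_map_eq_zero]
    intro a ha
    have hξW : genericPoint T ∈ W := (genericPoint_specializes t).mem_open W.isOpen htW
    have h1 : g (hW.primeIdealOf ⟨genericPoint T, hξW⟩) =
        genericPoint (Spec (CommRingCat.of A)) := by
      change (i ≫ f) (hW.fromSpec (hW.primeIdealOf ⟨genericPoint T, hξW⟩)) = _
      rw [hW.fromSpec_primeIdealOf ⟨genericPoint T, hξW⟩]
      exact FibreGeneric.map_genericPoint (i ≫ f) hdom.denseRange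
    have h2 : a ∈ (g (hW.primeIdealOf ⟨genericPoint T, hξW⟩)).asIdeal := by
      rw [hmem, ha]
      exact Ideal.zero_mem _
    rw [h1, genericPoint_eq_bot_of_affine] at h2
    exact h2
  refine ⟨Γ(T, W), inferInstance, inferInstance, hloc, alg, hfin, hinj, hW.fromSpec ≫ i, ?_,
    inferInstance, ?_⟩
  · rw [Category.assoc]
    exact hφc.symm
  · refine ⟨hW.primeIdealOf ⟨t, htW⟩, ?_⟩
    change i (hW.fromSpec (hW.primeIdealOf ⟨t, htW⟩)) = x
    rw [hW.fromSpec_primeIdealOf ⟨t, htW⟩]
    exact ht

end Groth.Agent.S4974
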