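import Groth.Statements.S4986
import Mathlib
import Groth.Agent.Lib.Helper14.DimFour
-- import your own Groth.Agent.* helpers here

set_option autoImplicit false
open CategoryTheory AlgebraicGeometry
universe u v w
open EGA43

namespace Groth.Agent.S4986

theorem cancel_nat (k k' : WithBot ℕ∞) (n : ℕ) (h : k' + (n : WithBot ℕ∞) = k + n) : k' = k := by
  have hn : (n : WithBot ℕ∞) = ((n : ℕ∞) : WithBot ℕ∞) := rfl
  induction k using WithBot.recBotCoe with
  | bot =>
    induction k' using WithBot.recBotCoe with
    | bot => rfl
    | coe k' =>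
      rw [WithBot.bot_add, hn, ← WithBot.coe_add] at h
      exact absurd h WithBot.coe_ne_bot
  | coe k =>
    induction k' using WithBot.recBotCoe with
    | bot =>
      rw [WithBot.bot_add, hn, ← WithBot.coe_add] at h
      exact absurd h.symm WithBot.coe_ne_bot
    | coe k' =>
      rw [hn, ← WithBot.coe_add, ← WithBot.coe_add, WithBot.coe_inj] at h
      congr 1
      induction k using ENat.recTopCoe with
      | top =>
        induction k' using ENat.recTopCoe with
        | top => rfl
        | coe k' =>
          rw [top_add] at h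
          exact absurd h (by exact_mod_cast ENat.coe_ne_top (k' + n))
      | coe k =>
        induction k' using ENat.recTopCoe with
        | top =>
          rw [top_add] at h
          exact absurd h.symm (by exact_mod_cast ENat.coe_ne_top (k + n))
        | coe k' =>
          have : k' + n = k + n := by exact_mod_cast h
          have : k' = k := by omega
          rw [this]

/-- Let Y be locally Noetherian, f : X ⟶ Y of finite type, x ∈ X, y = f x, X' an irreducible closed
subset containing x with its reduced structure, Y' the closure of f(X') with its reduced structure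
and generic point η', and A, B, A', B' the local rings of Y at y, of X at x, of Y' at y and of X' at
x. Suppose dim B = dim A + dim(B ⊗ κ(y)). Then X' satisfies the four conditions (i) dim A' = dim A,
(ii) dim_x(X' ∩ X_y) = dim_x(X_y), (iii) X' equidimensional over Y' at x, (iv) dim B' = dim A' +
dim(B' ⊗ κ(y)), if and only if dim B' = dim B. -/
theorem result {X Y : Scheme.{u}} [IsLocallyNoetherian Y] (f : X ⟶ Y)
    [LocallyOfFiniteType f] [QuasiCompact f] (x : X) (X' : TopologicalSpace.Closeds X) (hirr : IsIrreducible (X' : Set X))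
    (hx : x ∈ X') (w : ↥(Scheme.IdealSheafData.vanishingIdeal X').subscheme)
    (hw : (Scheme.IdealSheafData.vanishingIdeal X').subschemeι.base w = x)
    (v : ↥(Scheme.IdealSheafData.vanishingIdeal
      (⟨closure (f.base '' (X' : Set X)), isClosed_closure⟩ : TopologicalSpace.Closeds Y)).subscheme)
    (hv : (Scheme.IdealSheafData.vanishingIdeal
      (⟨closure (f.base '' (X' : Set X)), isClosed_closure⟩ : TopologicalSpace.Closeds Y)).subschemeι.base v = f.base x)
    (η' : Y) (hη' : closure ({η'} : Set Y) = closure (f.base '' (X' : Set X))) :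
    letI ιX := (Scheme.IdealSheafData.vanishingIdeal X').subschemeι
    letI dA := ringKrullDim (Y.presheaf.stalk (f.base x))
    letI dB := ringKrullDim (X.presheaf.stalk x)
    letI dA' := ringKrullDim ((Scheme.IdealSheafData.vanishingIdeal
      (⟨closure (f.base '' (X' : Set X)), isClosed_closure⟩ : TopologicalSpace.Closeds Y)).subscheme.presheaf.stalk v)
    letI dB' := ringKrullDim ((Scheme.IdealSheafData.vanishingIdeal X').subscheme.presheaf.stalk w)
    letI dBk := ringKrullDim ((f.fiber (f.base x)).presheaf.stalk (f.asFiber x))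
    letI dB'k := ringKrullDim (((ιX ≫ f).fiber ((ιX ≫ f).base w)).presheaf.stalk ((ιX ≫ f).asFiber w))
    letI e' := topologicalKrullDim ↥((X' : Set X) ∩ f.base ⁻¹' {η'})
    dB = dA + dBk →
      ((dA' = dA ∧ FlatMor.localDim ↥((X' : Set X) ∩ f.base ⁻¹' {f.base x}) ⟨x, ⟨hx, rfl⟩⟩ = FlatMor.fibreDimAt f x ∧
        FlatMor.fibreDimAt (ιX ≫ f) w = e' ∧ dB' = dA' + dB'k) ↔ dB' = dB) := by
  subst hw
  obtain ⟨n, E, a₀, ha₀, h1, h2, h3, h4, h5, h6, h7⟩ :=
    Groth.Agent.Helper14.DimFour.core f X' hirr w v hv η' hη'
  have hloc := Groth.Agent.Helper14.ClosedFibreDim.localDim_inter_fibre_eq f X' w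
    (f.base ((Scheme.IdealSheafData.vanishingIdeal X').subschemeι.base w)) ⟨hx, rfl⟩
  intro hB
  constructor
  · rintro ⟨e1, e2, -, e4⟩
    rw [e4, e1, hB]
    congr 1
    apply cancel_nat _ _ n
    rw [← h2, ← h3, ← e2]
    exact hloc.symm
  · intro hb
    rw [hB] at hb
    have key := Groth.Agent.Helper14.DimFour.arith _ _ _ _ _
      _ n E a₀ ha₀ h1 h2 (h4.trans (le_of_eq h3)) h5 h6 hb
    refine ⟨key.1, ?_, ?_, key.2.2.2⟩
    · refine hloc.trans ?_
      rw [h2, h3, key.2.1]
    · rw [key.2.2.1]
      exact h7.symm

end Groth.Agent.S4986
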