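import Groth.Statements.S4992
import Mathlib
import Groth.Agent.Lib.Helper14.FibreSmooth
-- import your own Groth.Agent.* helpers here

set_option autoImplicit false
universe u
open CategoryTheory CategoryTheory.Limits AlgebraicGeometry TopologicalSpace
open Unram17

namespace Groth.Agent.S4992

open AlgebraicGeometry in
theorem exists_chart {X Y : Scheme.{u}} (f : X ⟶ Y) [Smooth f] (x : X) :
    ∃ (n : ℕ) (U : Y.Opens) (_ : IsAffineOpen U) (V : X.Opens) (_ : IsAffineOpen V) (_ : x ∈ V)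
      (e : V ≤ f ⁻¹ᵁ U), (f.appLE U V e).hom.IsStandardSmoothOfRelativeDimension n := by
  obtain ⟨U, hU, V, hV, hx, e, hf⟩ := Smooth.exists_isStandardSmooth f x
  obtain ⟨_, _, _, _, ⟨P⟩⟩ := hf
  letI := (f.appLE U V e).hom.toAlgebra
  exact ⟨_, U, hU, V, hV, hx, e, ⟨_, _, _, ‹_›, P, rfl⟩⟩

/-- Let f : X ⟶ Y and g : Y ⟶ Z be smooth. For every point x of X, the local dimension at x of the fibre
of f ≫ g through x equals the local dimension at x of the fibre of f through x plus the local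
dimension at f(x) of the fibre of g through f(x). -/
theorem result {X Y Z : Scheme.{u}} (f : X ⟶ Y) (g : Y ⟶ Z) [Smooth f] [Smooth g]
    (x : ↥X) :
    FlatMor.fibreDimAt (f ≫ g) x = FlatMor.fibreDimAt f x + FlatMor.fibreDimAt g (f.base x) := by
  obtain ⟨m, U₂, hU₂, V₂, hV₂, hfx₂, e₂, hf₂⟩ := exists_chart g (f.base x)
  obtain ⟨n, U₁', hU₁', V₁', hV₁', hx₁', e₁', hf₁'⟩ := exists_chart f x
  obtain ⟨r, s, hx₁, e₁, hf₁⟩ := exists_basicOpen_le_appLE_of_appLE_of_isAffine
    (RingHom.isStandardSmoothOfRelativeDimension_stableUnderCompositionWithLocalizationAway n).right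
    (RingHom.isStandardSmoothOfRelativeDimension_localizationPreserves n).away
    x ⟨V₂, hV₂⟩ ⟨U₁', hU₁'⟩ ⟨V₁', hV₁'⟩ ⟨V₁', hV₁'⟩ hx₁' hx₁' e₁' hf₁' hfx₂
  have e : X.basicOpen s ≤ (f ≫ g) ⁻¹ᵁ U₂ :=
    le_trans e₁ <| f.preimage_mono <| le_trans (Y.basicOpen_le r) e₂
  have heq : (f ≫ g).appLE U₂ (X.basicOpen s) e = g.appLE U₂ V₂ e₂ ≫
      CommRingCat.ofHom (algebraMap Γ(Y, V₂) Γ(Y, Y.basicOpen r)) ≫
        f.appLE (Y.basicOpen r) (X.basicOpen s) e₁ := by
    rw [RingHom.algebraMap_toAlgebra, CommRingCat.ofHom_hom,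
      g.appLE_map_assoc, Scheme.Hom.appLE_comp_appLE]
  have hcomp : ((f ≫ g).appLE U₂ (X.basicOpen s) e).hom.IsStandardSmoothOfRelativeDimension
      (n + m) := by
    rw [heq]
    apply RingHom.IsStandardSmoothOfRelativeDimension.comp ?_ hf₂
    have : IsLocalization.Away r Γ(Y, Y.basicOpen r) := hV₂.isLocalization_basicOpen r
    exact (RingHom.isStandardSmoothOfRelativeDimension_stableUnderCompositionWithLocalizationAway
      n).left _ r _ hf₁
  rw [Groth.Agent.Helper14.FibreSmooth.fibreDimAt_of_isStandardSmoothOfRelativeDimension (f ≫ g)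
      hU₂ (hV₁'.basicOpen s) e (n + m) hcomp x hx₁,
    Groth.Agent.Helper14.FibreSmooth.fibreDimAt_of_isStandardSmoothOfRelativeDimension f
      (hV₂.basicOpen r) (hV₁'.basicOpen s) e₁ n hf₁ x hx₁,
    Groth.Agent.Helper14.FibreSmooth.fibreDimAt_of_isStandardSmoothOfRelativeDimension g
      hU₂ hV₂ e₂ m hf₂ (f.base x) hfx₂]
  push_cast
  rfl

end Groth.Agent.S4992
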