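import Groth.Statements.S4993
import Mathlib
import Groth.Agent.Lib.Helper14.FibreSmooth
import Groth.Agent.Lib.Helper7.FinPres
import Groth.Agent.Lib.Helper4.SmEt
import Groth.Agent.S4992
import Groth.Agent.S2768
-- import your own Groth.Agent.* helpers here

set_option autoImplicit false
universe u
open CategoryTheory CategoryTheory.Limits AlgebraicGeometry TopologicalSpace
open Unram17

namespace Groth.Agent.S4993

theorem flat_of_mono {X Y S : Scheme.{u}} (f : Y ⟶ S) (h : X ⟶ S)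
    [Smooth f] [Smooth h] (g : X ⟶ Y) (w : g ≫ f = h) [Mono g]
    (hdim : ∀ x : ↥X, FlatMor.fibreDimAt f (g.base x) = FlatMor.fibreDimAt h x) : Flat g := by
  haveI : FormallyUnramified g := inferInstance
  rw [HasRingHomProperty.iff_exists_appLE (P := @Flat)
    (RingHom.Flat.stableUnderComposition.stableUnderCompositionWithLocalizationAway
      RingHom.Flat.holdsForLocalizationAway).left]
  intro x
  obtain ⟨n, U₂, hU₂, V₂, hV₂, hgx, e₂, hf₂⟩ := Groth.Agent.S4992.exists_chart f (g.base x)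
  obtain ⟨m, U₁', hU₁', W₁', hW₁', hx₁', e₁', hh₁'⟩ := Groth.Agent.S4992.exists_chart h x
  have hn : FlatMor.fibreDimAt f (g.base x) = n :=
    Groth.Agent.Helper14.FibreSmooth.fibreDimAt_of_isStandardSmoothOfRelativeDimension
      f hU₂ hV₂ e₂ n hf₂ _ hgx
  have hm : FlatMor.fibreDimAt h x = m :=
    Groth.Agent.Helper14.FibreSmooth.fibreDimAt_of_isStandardSmoothOfRelativeDimension
      h hU₁' hW₁' e₁' m hh₁' _ hx₁'
  have hnm : n = m := by
    have := hdim x
    rw [hn, hm] at this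
    exact_mod_cast this
  subst hnm
  obtain ⟨W₀, hW₀, hxW₀, hW₀le⟩ := Opens.isBasis_iff_nbhd.mp X.isBasis_affineOpens
    (show x ∈ g ⁻¹ᵁ V₂ from hgx)
  have hhx : h.base x ∈ U₂ := by
    rw [← w]
    exact e₂ hgx
  obtain ⟨r, s, hxs, e, hh⟩ := exists_basicOpen_le_appLE_of_appLE_of_isAffine
    (RingHom.isStandardSmoothOfRelativeDimension_stableUnderCompositionWithLocalizationAway n).right
    (RingHom.isStandardSmoothOfRelativeDimension_localizationPreserves n).away
    x ⟨U₂, hU₂⟩ ⟨U₁', hU₁'⟩ ⟨W₀, hW₀⟩ ⟨W₁', hW₁'⟩ hxW₀ hx₁' e₁' hh₁' hhx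
  have eV : Y.basicOpen (f.appLE U₂ V₂ e₂ r) ≤ f ⁻¹ᵁ S.basicOpen r := by
    simp [Scheme.Hom.appLE]
  have hfV : (f.appLE (S.basicOpen r) (Y.basicOpen (f.appLE U₂ V₂ e₂ r)) eV).hom.IsStandardSmoothOfRelativeDimension n := by
    have := hV₂.isLocalization_basicOpen (f.appLE U₂ V₂ e₂ r)
    have := hU₂.isLocalization_basicOpen r
    rw [hU₂.appLE_eq_away_map f hV₂]
    exact (RingHom.isStandardSmoothOfRelativeDimension_localizationPreserves n).away _ _ _ _ hf₂
  have eW : X.basicOpen s ≤ g ⁻¹ᵁ Y.basicOpen (f.appLE U₂ V₂ e₂ r) := by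
    intro z hz
    have hz1 : g.base z ∈ V₂ := hW₀le (X.basicOpen_le s hz)
    have hz2 : h.base z ∈ S.basicOpen r := e hz
    have key : Y.basicOpen (f.appLE U₂ V₂ e₂ r) = V₂ ⊓ f ⁻¹ᵁ S.basicOpen r := by
      simp [Scheme.Hom.appLE, Scheme.preimage_basicOpen]
    show g.base z ∈ Y.basicOpen (f.appLE U₂ V₂ e₂ r)
    rw [key]
    refine ⟨hz1, ?_⟩
    rw [← w] at hz2
    exact hz2
  refine ⟨⟨Y.basicOpen (f.appLE U₂ V₂ e₂ r), hV₂.basicOpen _⟩, ⟨X.basicOpen s, hW₀.basicOpen _⟩,
    hxs, eW, ?_⟩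
  apply Groth.Agent.Helper4.SmEt.flat_of_ringHom
    (f.appLE (S.basicOpen r) (Y.basicOpen (f.appLE U₂ V₂ e₂ r)) eV).hom
    (g.appLE _ _ eW).hom n hfV ?_ ?_
  · have : (g.appLE _ _ eW).hom.comp (f.appLE _ _ eV).hom =
        (h.appLE (S.basicOpen r) (X.basicOpen s) e).hom := by
      subst w
      rw [← CommRingCat.hom_comp, Scheme.Hom.appLE_comp_appLE]
    rw [this]
    exact hh
  · exact HasRingHomProperty.appLE (P := @FormallyUnramified) g inferInstance
      ⟨_, hV₂.basicOpen _⟩ ⟨_, hW₀.basicOpen _⟩ eW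

/-- Let f : Y ⟶ S and h : X ⟶ S be smooth and let g : X ⟶ Y satisfy g ≫ f = h. Then g is an open
immersion if and only if g is a monomorphism and, for every point x of X, the local dimension at
g(x) of the fibre of f through g(x) equals the local dimension at x of the fibre of h through x. -/
theorem result {X Y S : Scheme.{u}} (f : Y ⟶ S) (h : X ⟶ S)
    [Smooth f] [Smooth h] (g : X ⟶ Y) (w : g ≫ f = h) :
    IsOpenImmersion g ↔ Mono g ∧ ∀ x : ↥X, FlatMor.fibreDimAt f (g.base x) = FlatMor.fibreDimAt h x := by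
  constructor
  · intro hg
    refine ⟨inferInstance, fun x => ?_⟩
    subst w
    have h1 := Groth.Agent.S4992.result g f x
    have h2 : FlatMor.fibreDimAt g x = ((0 : ℕ) : WithBot ℕ∞) := Groth.Agent.S2768.result 0 g x
    rw [h1, h2]
    simp
  · rintro ⟨hmono, hdim⟩
    have : Flat g := flat_of_mono f h g w hdim
    have : LocallyOfFinitePresentation g := by
      subst w
      exact Groth.Agent.Helper7.locallyOfFinitePresentation_of_comp g f inferInstance inferInstance
    exact IsOpenImmersion.of_flat_of_mono g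

end Groth.Agent.S4993
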