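import Groth.Statements.S4998
import Mathlib.RingTheory.Etale.Field

set_option autoImplicit false
universe u
open Unram17

namespace Groth.Agent.S4998

open Polynomial in
theorem isSeparable_pi {k : Type u} [Field k] {I : Type u} [Finite I] (Ai : I → Type u)
    [∀ i, Field (Ai i)] [∀ i, Algebra k (Ai i)] (hsep : ∀ i, Algebra.IsSeparable k (Ai i))
    (y : ∀ i, Ai i) : IsSeparable k y := by
  classical
  have := Fintype.ofFinite I
  set S : Finset k[X] := Finset.univ.image (fun i => minpoly k (y i)) with hS
  set P : k[X] := ∏ p ∈ S, p with hP
  have hint : ∀ i, IsIntegral k (y i) := fun i => IsSeparable.isIntegral ((hsep i).isSeparable' (y i))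
  have hPsep : P.Separable := by
    refine separable_prod' ?_ ?_
    · intro p hp q hq hpq
      simp only [hS, Finset.mem_image, Finset.mem_univ, true_and] at hp hq
      obtain ⟨i, rfl⟩ := hp
      obtain ⟨j, rfl⟩ := hq
      have hirr : Irreducible (minpoly k (y i)) := minpoly.irreducible (hint i)
      rw [hirr.coprime_iff_not_dvd]
      intro hdvd
      apply hpq
      have hirr' : Irreducible (minpoly k (y j)) := minpoly.irreducible (hint j)
      exact eq_of_monic_of_associated (minpoly.monic (hint i)) (minpoly.monic (hint j))
        (hirr.associated_of_dvd hirr' hdvd)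
    · intro p hp
      simp only [hS, Finset.mem_image, Finset.mem_univ, true_and] at hp
      obtain ⟨i, rfl⟩ := hp
      exact (hsep i).isSeparable' (y i)
  have hPy : aeval y P = 0 := by
    funext i
    have h1 : (aeval y P) i = aeval (y i) P := by
      have := Polynomial.aeval_algHom_apply (Pi.evalAlgHom k Ai i) y P
      simpa using this.symm
    rw [h1, Pi.zero_apply]
    have hmem : minpoly k (y i) ∈ S := Finset.mem_image.mpr ⟨i, Finset.mem_univ _, rfl⟩
    obtain ⟨Q, hQ⟩ := Finset.dvd_prod_of_mem (fun p => p) hmem
    rw [hP, hQ, map_mul, minpoly.aeval, zero_mul]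
  exact hPsep.of_dvd (minpoly.dvd k y hPy)


/-- Let A be an algebra of finite type over a field k. Then A is formally unramified over k if and only
if A is finite over k and every element of A has separable minimal polynomial over k (equivalently,
A is a finite product of finite separable extensions of k). -/
theorem result (k A : Type u) [Field k] [CommRing A]
    [Algebra k A] [Algebra.FiniteType k A] :
    Algebra.FormallyUnramified k A ↔ Module.Finite k A ∧ Algebra.IsSeparable k A := by
  constructor
  · intro h
    have hfin : Module.Finite k A := Algebra.FormallyUnramified.finite_of_free k A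
    have hEt : Algebra.FormallyEtale k A := Algebra.FormallyEtale.of_formallyUnramified_of_field k A
    obtain ⟨I, hI, Ai, hF, hAlg, e, hsep⟩ :=
      (Algebra.FormallyEtale.iff_exists_algEquiv_prod (K := k) (A := A)).mp hEt
    refine ⟨hfin, ⟨fun x => ?_⟩⟩
    have h1 : IsSeparable k (e x) := isSeparable_pi Ai hsep (e x)
    unfold IsSeparable at h1 ⊢
    rwa [minpoly.algEquiv_eq] at h1
  · rintro ⟨hfin, hsep⟩
    have hred : IsReduced A := by
      refine ⟨fun x hx => ?_⟩
      obtain ⟨n, hn⟩ := hx
      have hxsep : IsSeparable k x := hsep.isSeparable' x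
      have hdvd : minpoly k x ∣ Polynomial.X ^ n := minpoly.dvd k x (by simp [hn])
      have hsq : Squarefree (minpoly k x) := Polynomial.Separable.squarefree hxsep
      obtain ⟨m, hm, hassoc⟩ := (dvd_prime_pow Polynomial.prime_X n).mp hdvd
      have hint : IsIntegral k x := IsSeparable.isIntegral hxsep
      have heq : minpoly k x = Polynomial.X ^ m :=
        Polynomial.eq_of_monic_of_associated (minpoly.monic hint) (Polynomial.monic_X_pow m) hassoc
      have hm1 : m ≤ 1 := by
        by_contra hcon
        have h2 : 2 ≤ m := by omega
        have hXX : (Polynomial.X : Polynomial k) * Polynomial.X ∣ minpoly k x := by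
          rw [heq, ← pow_two]
          exact pow_dvd_pow _ h2
        exact Polynomial.not_isUnit_X (hsq _ hXX)
      have h0 : Polynomial.aeval x (minpoly k x) = 0 := minpoly.aeval k x
      rw [heq, map_pow, Polynomial.aeval_X] at h0
      interval_cases m
      · rw [pow_zero] at h0
        have : Subsingleton A := subsingleton_of_zero_eq_one h0.symm
        exact Subsingleton.elim _ _
      · simpa using h0
    have hart : IsArtinianRing A := .of_finite k A
    have hEt : Algebra.FormallyEtale k A := by
      rw [Algebra.FormallyEtale.iff_exists_algEquiv_prod]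
      let _ : ∀ I : MaximalSpectrum A, Field (A ⧸ I.asIdeal) := fun I => Ideal.Quotient.field _
      refine ⟨MaximalSpectrum A, inferInstance, fun I => A ⧸ I.asIdeal, inferInstance, inferInstance,
        (IsArtinianRing.equivPi A).restrictScalars k, fun I => ⟨fun z => ?_⟩⟩
      obtain ⟨x, rfl⟩ := Ideal.Quotient.mk_surjective z
      have hxsep : IsSeparable k x := hsep.isSeparable' x
      refine Polynomial.Separable.of_dvd hxsep (minpoly.dvd k _ ?_)
      have := Polynomial.aeval_algHom_apply (Ideal.Quotient.mkₐ k I.asIdeal) x (minpoly k x)
      rw [minpoly.aeval, map_zero] at this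
      exact this
    infer_instance

end Groth.Agent.S4998
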