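import Groth.Statements.S5002
import Mathlib.RingTheory.Finiteness.NilpotentKer

set_option autoImplicit false
universe u
open PP16

namespace Groth.Agent.S5002

/-- Suppose A is a commutative ring and B is a finite-type A-algebra. For each n, the ring of principal
parts of order n of B over A is then finitely generated as a B-module, where B acts via the first
factor. -/
theorem result (n : ℕ) (A B : Type u) [CommRing A] [CommRing B] [Algebra A B]
    [Algebra.FiniteType A B] : Module.Finite B (PP16.P n A B) := by
  classical
  set I := KaehlerDifferential.ideal A B with hI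
  -- the augmentation `P^n → B`, a `B`-algebra map for the first-factor structure
  have hle : ∀ x : TensorProduct A B B, x ∈ I ^ (n + 1) → Algebra.TensorProduct.lmul'' A x = 0 := by
    intro x hx
    have h1 : x ∈ I := Ideal.pow_le_self (Nat.succ_ne_zero n) hx
    exact h1
  let f : PP16.P n A B →ₐ[B] B := Ideal.Quotient.liftₐ (I ^ (n + 1)) (Algebra.TensorProduct.lmul'' A) hle
  have hf : Function.Surjective f := by
    intro b
    refine ⟨algebraMap B _ b, ?_⟩
    rw [AlgHom.commutes]
    rfl
  have hker : RingHom.ker f = I.map (Ideal.Quotient.mk (I ^ (n + 1))) := by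
    ext x
    obtain ⟨y, rfl⟩ := Ideal.Quotient.mk_surjective x
    rw [RingHom.mem_ker, Ideal.mem_map_iff_of_surjective _ Ideal.Quotient.mk_surjective]
    constructor
    · intro h
      exact ⟨y, h, rfl⟩
    · rintro ⟨z, hz, hzy⟩
      have h2 : y - z ∈ I ^ (n + 1) := by
        rw [← Ideal.Quotient.eq_zero_iff_mem, map_sub, hzy, sub_self]
      have h3 : y ∈ I := by
        have := I.add_mem (Ideal.pow_le_self (Nat.succ_ne_zero n) h2) hz
        rwa [sub_add_cancel] at this
      exact h3
  have hfg : (RingHom.ker f).FG := by
    rw [hker]
    exact (KaehlerDifferential.ideal_fg A B).map _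
  have hnil : RingHom.ker f ≤ nilradical (PP16.P n A B) := by
    intro x hx
    rw [mem_nilradical]
    refine ⟨n + 1, ?_⟩
    have h4 : x ^ (n + 1) ∈ (RingHom.ker f) ^ (n + 1) := Ideal.pow_mem_pow hx _
    rw [hker, ← Ideal.map_pow, Ideal.map_quotient_self] at h4
    exact h4
  exact Module.finite_of_surjective_of_ker_le_nilradical f hf hnil hfg

end Groth.Agent.S5002
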