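import Groth.Statements.S5006
import Mathlib.RingTheory.Noetherian.Nilpotent
import Mathlib.RingTheory.Nakayama
import Mathlib.RingTheory.Finiteness.Ideal
import Mathlib.RingTheory.Localization.AtPrime.Basic

set_option autoImplicit false
universe u
open Nrm16

namespace Groth.Agent.S5006

/-- Let A be a commutative ring, I a finitely generated ideal and p a prime ideal containing I. Then
some basic open neighbourhood of p in Spec A is contained in the closed set V(I) (so that V(I) ⟶
Spec A is a local homeomorphism onto an open set near p) if and only if there is an integer n > 0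
with I^n A_p = I^(n+1) A_p in the local ring at p. Affine form. -/
theorem result (A : Type u) [CommRing A] (I : Ideal A) (hI : I.FG)
    (p : Ideal A) [p.IsPrime] (hp : I ≤ p) :
    (∃ f : A, f ∉ p ∧ ∀ q : Ideal A, q.IsPrime → f ∉ q → I ≤ q) ↔
      ∃ n : ℕ, 0 < n ∧
        (I ^ n).map (algebraMap A (Localization.AtPrime p)) =
          (I ^ (n + 1)).map (algebraMap A (Localization.AtPrime p)) := by
  classical
  -- a finitely generated ideal whose image in `A_p` vanishes is killed by some `f ∉ p`
  have kill : ∀ J : Ideal A, J.FG → J.map (algebraMap A (Localization.AtPrime p)) = ⊥ →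
      ∃ f : A, f ∉ p ∧ ∀ b ∈ J, f * b = 0 := by
    intro J hJ hmap
    obtain ⟨s, rfl⟩ := hJ
    have h1 : ∀ b : A, ∃ t : A, b ∈ s → (t ∉ p ∧ t * b = 0) := by
      intro b
      by_cases hb : b ∈ s
      swap
      · exact ⟨0, fun h => absurd h hb⟩
      have h2 : algebraMap A (Localization.AtPrime p) b = 0 := by
        have : algebraMap A (Localization.AtPrime p) b ∈
            (Ideal.span (s : Set A)).map (algebraMap A (Localization.AtPrime p)) :=
          Ideal.mem_map_of_mem _ (Ideal.subset_span hb)
        rwa [hmap, Ideal.mem_bot] at this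
      rw [IsLocalization.map_eq_zero_iff p.primeCompl] at h2
      obtain ⟨⟨t, ht⟩, htb⟩ := h2
      exact ⟨t, fun _ => ⟨ht, htb⟩⟩
    choose t ht using h1
    refine ⟨∏ b ∈ s, t b, ?_, ?_⟩
    · intro hmem
      rw [Ideal.IsPrime.prod_mem_iff] at hmem
      obtain ⟨b, hb, hbp⟩ := hmem
      exact (ht b hb).1 hbp
    · intro b hb
      refine Submodule.span_induction ?_ ?_ ?_ ?_ hb
      · intro x hx
        rw [← Finset.mul_prod_erase s t hx, mul_comm (t x), mul_assoc, (ht x hx).2, mul_zero]
      · rw [mul_zero]
      · intro x y _ _ hx hy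
        rw [mul_add, hx, hy, add_zero]
      · intro a x _ hx
        rw [smul_eq_mul, mul_left_comm, hx, mul_zero]
  constructor
  · rintro ⟨f, hfp, hf⟩
    -- `span {f} * I` is finitely generated and contained in the nilradical
    have hle : Ideal.span {f} * I ≤ nilradical A := by
      rw [Ideal.mul_le]
      intro r hr a ha
      rw [Ideal.mem_span_singleton'] at hr
      obtain ⟨c, rfl⟩ := hr
      rw [mem_nilradical, nilpotent_iff_mem_prime]
      intro q hq
      by_cases hfq : f ∈ q
      · exact q.mul_mem_right _ (q.mul_mem_left _ hfq)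
      · exact q.mul_mem_left _ (hf q hq hfq ha)
    have hfg : (Ideal.span {f} * I).FG := Ideal.FG.mul (Submodule.fg_span_singleton f) hI
    obtain ⟨n, hn⟩ := hfg.isNilpotent_iff_le_nilradical.mpr hle
    have hzero : ∀ m : ℕ, n ≤ m → (I ^ m).map (algebraMap A (Localization.AtPrime p)) = ⊥ := by
      intro m hm
      rw [eq_bot_iff, Ideal.map_le_iff_le_comap]
      intro b hb
      rw [Ideal.mem_comap, Ideal.mem_bot, IsLocalization.map_eq_zero_iff p.primeCompl]
      refine ⟨⟨f ^ m, fun h => hfp (Ideal.IsPrime.mem_of_pow_mem inferInstance m h)⟩, ?_⟩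
      show f ^ m * b = 0
      have h1 : f ^ m * b ∈ (Ideal.span {f} * I) ^ m := by
        rw [mul_pow, Ideal.span_singleton_pow]
        exact Ideal.mul_mem_mul (Ideal.mem_span_singleton_self _) hb
      have h2 : (Ideal.span {f} * I) ^ m = ⊥ := by
        have : (Ideal.span {f} * I) ^ m = (Ideal.span {f} * I) ^ n * (Ideal.span {f} * I) ^ (m - n) := by
          rw [← pow_add, Nat.add_sub_cancel' hm]
        rw [this, hn, Ideal.zero_eq_bot, Ideal.bot_mul]
      rwa [h2, Ideal.mem_bot] at h1
    exact ⟨n + 1, Nat.succ_pos _, by rw [hzero (n + 1) (Nat.le_succ _), hzero (n + 1 + 1) (by omega)]⟩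
  · rintro ⟨n, -, hn⟩
    have hbot : (I ^ n).map (algebraMap A (Localization.AtPrime p)) = ⊥ := by
      apply Submodule.eq_bot_of_le_smul_of_le_jacobson_bot
        (I.map (algebraMap A (Localization.AtPrime p)))
      · exact (hI.pow).map _
      · rw [smul_eq_mul, ← Ideal.map_mul, ← pow_succ', ← hn]
      · rw [IsLocalRing.jacobson_eq_maximalIdeal _ bot_ne_top]
        rw [← Localization.AtPrime.map_eq_maximalIdeal]
        exact Ideal.map_mono hp
    obtain ⟨f, hfp, hf⟩ := kill (I ^ n) hI.pow hbot
    refine ⟨f, hfp, fun q hq hfq a ha => ?_⟩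
    have h1 : f * a ^ n = 0 := hf _ (Ideal.pow_mem_pow ha n)
    have h2 : f * a ^ n ∈ q := by rw [h1]; exact q.zero_mem
    exact hq.mem_of_pow_mem n ((hq.mem_or_mem h2).resolve_left hfq)

end Groth.Agent.S5006
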