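import Groth.Statements.S5014
-- import your own Groth.Agent.* helpers here
import Groth.Agent.Lib.Helper3.JZSmooth

set_option autoImplicit false
universe u
open Unram17

namespace Groth.Agent.S5014

open TensorProduct KaehlerDifferential

lemma bijective_iff_basis {ι R M N : Type*} [CommRing R] [AddCommGroup M] [Module R M]
    [AddCommGroup N] [Module R N] (b : Module.Basis ι R M) (f : M →ₗ[R] N) :
    Function.Bijective f ↔
      LinearIndependent R (fun i => f (b i)) ∧ Submodule.span R (Set.range fun i => f (b i)) = ⊤ := by
  have hspan : Submodule.span R (Set.range fun i => f (b i)) = LinearMap.range f := by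
    have : (Set.range fun i => f (b i)) = f '' Set.range b := by
      rw [← Set.range_comp]; rfl
    rw [this, ← Submodule.map_span, b.span_eq, Submodule.map_top]
  constructor
  · intro h
    refine ⟨b.linearIndependent.map' f (LinearMap.ker_eq_bot.mpr h.injective), ?_⟩
    rw [hspan, LinearMap.range_eq_top.mpr h.surjective]
  · rintro ⟨hli, hsp⟩
    let b' : Module.Basis ι R N := Module.Basis.mk hli (by rw [hsp])
    have hf : f = (b.equiv b' (Equiv.refl ι)).toLinearMap := by
      apply b.ext
      intro i
      rw [LinearEquiv.coe_coe, Module.Basis.equiv_apply, Equiv.refl_apply, Module.Basis.mk_apply]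
    rw [hf]
    exact (b.equiv b' (Equiv.refl ι)).bijective

/-- Let C be a smooth algebra over a commutative ring A, equipped with an A-algebra map from the
polynomial ring in r variables (images s_i of the variables), and let q be a prime of C. Then C is
etale at q over the polynomial ring if and only if the differentials of the s_i are linearly
independent and generate the module of differentials of the local ring C_q over A, i.e. form a basis
of it. -/
theorem result (A C : Type u) [CommRing A] [CommRing C]
    [Algebra A C] [Algebra.Smooth A C] (r : ℕ) [Algebra (MvPolynomial (Fin r) A) C]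
    [IsScalarTower A (MvPolynomial (Fin r) A) C] (q : Ideal C) [q.IsPrime] :
    Algebra.IsEtaleAt (MvPolynomial (Fin r) A) q ↔
      LinearIndependent (Localization.AtPrime q)
          (fun i : Fin r => KaehlerDifferential.D A (Localization.AtPrime q)
            (algebraMap C (Localization.AtPrime q) (algebraMap (MvPolynomial (Fin r) A) C (MvPolynomial.X i)))) ∧
        Submodule.span (Localization.AtPrime q)
          (Set.range fun i : Fin r => KaehlerDifferential.D A (Localization.AtPrime q)
            (algebraMap C (Localization.AtPrime q) (algebraMap (MvPolynomial (Fin r) A) C (MvPolynomial.X i)))) = ⊤ := by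
  haveI : IsScalarTower A (MvPolynomial (Fin r) A) (Localization.AtPrime q) := by
    refine IsScalarTower.of_algebraMap_eq fun a => ?_
    rw [IsScalarTower.algebraMap_apply A C (Localization.AtPrime q),
      IsScalarTower.algebraMap_apply (MvPolynomial (Fin r) A) C (Localization.AtPrime q),
      ← IsScalarTower.algebraMap_apply A (MvPolynomial (Fin r) A) C]
  haveI : Algebra.FormallySmooth C (Localization.AtPrime q) :=
    Algebra.FormallySmooth.of_isLocalization q.primeCompl
  haveI : Algebra.FormallySmooth A (Localization.AtPrime q) :=
    Algebra.FormallySmooth.comp A C (Localization.AtPrime q)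
  change Algebra.FormallyEtale (MvPolynomial (Fin r) A) (Localization.AtPrime q) ↔ _
  rw [Groth.Agent.Helper3.JZSmooth.formallyEtale_iff_bijective A (MvPolynomial (Fin r) A)
    (Localization.AtPrime q),
    bijective_iff_basis ((mvPolynomialBasis A (Fin r)).baseChange (Localization.AtPrime q))]
  have key : ∀ i : Fin r, mapBaseChange A (MvPolynomial (Fin r) A) (Localization.AtPrime q)
      (((mvPolynomialBasis A (Fin r)).baseChange (Localization.AtPrime q)) i) =
      KaehlerDifferential.D A (Localization.AtPrime q)
        (algebraMap C (Localization.AtPrime q)
          (algebraMap (MvPolynomial (Fin r) A) C (MvPolynomial.X i))) := by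
    intro i
    rw [Module.Basis.baseChange_apply, mvPolynomialBasis_apply, mapBaseChange_tmul, one_smul,
      KaehlerDifferential.map_D,
      IsScalarTower.algebraMap_apply (MvPolynomial (Fin r) A) C (Localization.AtPrime q)]
  simp only [key]

end Groth.Agent.S5014
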