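import Groth.Statements.S5025
import Groth.Agent.Lib.Helper12.SmoothNhd
import Groth.Agent.Lib.Helper14.RegHomTFAE
import Groth.Agent.Lib.Lead.Fib1
import Groth.Agent.Lib.Lead.Depth12

set_option autoImplicit false
universe u
open CategoryTheory CategoryTheory.Limits AlgebraicGeometry TopologicalSpace
open Unram17

namespace Groth.Agent.S5025

/-- Let Y be locally Noetherian and f : X ⟶ Y locally of finite type, smooth on an open neighbourhood of
a point x with image y. Then the local rings of X at x and of Y at y have the same codepth (Krull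
dimension minus depth); written without subtraction: dim O_{X,x} + depth O_{Y,y} = dim O_{Y,y} +
depth O_{X,x}. -/
theorem result {X Y : Scheme.{u}} (f : X ⟶ Y)
    [IsLocallyNoetherian Y] [LocallyOfFiniteType f] (x : ↥X)
    (hx : ∃ U : X.Opens, x ∈ U ∧ Smooth (U.ι ≫ f)) :
    ringKrullDim ↑(X.presheaf.stalk x) +
        ((LocCoh.depth ↑(Y.presheaf.stalk (f.base x)) ↑(Y.presheaf.stalk (f.base x)) : ℕ∞) : WithBot ℕ∞) =
      ringKrullDim ↑(Y.presheaf.stalk (f.base x)) +
        ((LocCoh.depth ↑(X.presheaf.stalk x) ↑(X.presheaf.stalk x) : ℕ∞) : WithBot ℕ∞) := by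
  obtain ⟨U, hxU, hsm⟩ := hx
  haveI := hsm
  haveI : IsLocallyNoetherian X := LocallyOfFiniteType.isLocallyNoetherian f
  letI : Algebra (Y.presheaf.stalk (f.base x)) (X.presheaf.stalk x) := (f.stalkMap x).hom.toAlgebra
  haveI : Module.Flat (Y.presheaf.stalk (f.base x)) (X.presheaf.stalk x) :=
    Groth.Agent.Helper12.SmoothNhd.flat_stalkMap_of_nhd f x U hxU
  haveI : IsLocalHom (algebraMap (Y.presheaf.stalk (f.base x)) (X.presheaf.stalk x)) :=
    inferInstanceAs (IsLocalHom (f.stalkMap x).hom)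
  have hreg : IsRegularLocalRing (↑(X.presheaf.stalk x) ⧸
      (IsLocalRing.maximalIdeal ↑(Y.presheaf.stalk (f.base x))).map
        (algebraMap (Y.presheaf.stalk (f.base x)) (X.presheaf.stalk x))) :=
    Groth.Agent.Helper12.SmoothNhd.isRegularLocalRing_fibre_of_nhd f x U hxU
  haveI : IsLocalRing (↑(X.presheaf.stalk x) ⧸
      (IsLocalRing.maximalIdeal ↑(Y.presheaf.stalk (f.base x))).map
        (algebraMap (Y.presheaf.stalk (f.base x)) (X.presheaf.stalk x))) := hreg.toIsLocalRing
  have hdim := Groth.Agent.Helper14.RegHomTFAE.dim_eq_of_flat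
    (A := Y.presheaf.stalk (f.base x)) (B := X.presheaf.stalk x)
  have hdepth := Groth.Agent.Lead.Fib.depth_eq_add_fibre
    (R := Y.presheaf.stalk (f.base x)) (S := X.presheaf.stalk x) _ rfl
  obtain ⟨n, hn⟩ : ∃ n : ℕ, ringKrullDim (↑(X.presheaf.stalk x) ⧸
      (IsLocalRing.maximalIdeal ↑(Y.presheaf.stalk (f.base x))).map
        (algebraMap (Y.presheaf.stalk (f.base x)) (X.presheaf.stalk x))) = n := by
    haveI := hreg
    exact ⟨_, (IsRegularLocalRing.spanFinrank_maximalIdeal (R := _)).symm⟩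
  have hF := @Groth.Agent.Lead.Depth.depth_eq_of_isRegularLocalRing _ _ hreg n hn
  rw [hdim, hdepth, hF, hn]
  push_cast
  abel

end Groth.Agent.S5025
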