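import Groth.Statements.S5029
import Groth.Agent.Lib.Helper12.VecBun1
import Groth.Agent.Lib.Helper12.SymSmooth
import Groth.Agent.Lib.Helper18.SymAlg4
import Groth.Agent.Lib.Helper13.LocFree3

set_option autoImplicit false
universe u
open CategoryTheory CategoryTheory.Limits AlgebraicGeometry TopologicalSpace
open Unram17

namespace Groth.Agent.S5029

/-- Let S be a scheme and E a quasi-coherent O_S-module that is finite locally free. If A is a
quasi-coherent O_S-algebra which is the symmetric algebra of E (through j : E ⟶ A), then the
structure morphism of the relative spectrum of A, i.e. of the vector bundle V(E), is smooth. -/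
theorem result {S : Scheme.{u}} (E : S.Modules) (hE : Coh.IsQCoh E)
    (hlf : FlatMod.IsFinLocFree E) (A : RelSpec.QCAlg S) (j : E ⟶ A.toModule) (hA : RelSpec.IsSymAlg E A j) :
    Smooth A.π := by
  open Groth.Agent.Helper18.SymAlg Groth.Agent.Helper12.VecBun Opposite in
  classical
  have : E.IsQuasicoherent := hE
  apply π_of_chartwise (P := @Smooth) A
  intro U hU
  have h1 : Smooth (Spec.map (A.str.app (op U))) := by
    rw [HasRingHomProperty.Spec_iff (P := @Smooth)]
    obtain ⟨hfin, hproj⟩ :=
      Groth.Agent.Helper13.LocFree.projective_sections_of_isFinLocFree E hlf hU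
    haveI := hfin
    haveI := hproj
    have hsm := Groth.Agent.Helper12.SymSmooth.smooth_symmetricAlgebra (R := Γ(S, U)) Γ(E, U)
    have hbij := symToA_bijective E A j hA U hU
    have hcomp : (A.str.app (op U)).hom =
        (symToA E A j U).comp (algebraMap Γ(S, U) (SymmetricAlgebra Γ(S, U) Γ(E, U))) := by
      ext r
      exact (symToA_algebraMap E A j U r).symm
    rw [hcomp]
    exact RingHom.Smooth.comp (RingHom.smooth_algebraMap.mpr hsm)
      (RingHom.Smooth.of_bijective hbij)
  infer_instance

end Groth.Agent.S5029
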