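import Groth.Statements.S5048
import Mathlib

set_option autoImplicit false
open CategoryTheory AlgebraicGeometry
universe u
open Unram

namespace Groth.Agent.S5048

/-- Let Y be an irreducible scheme with generic point η and f : X ⟶ Y flat, locally of finite type and
locally quasi-finite. Then a point x of X maps to η if and only if its closure is an irreducible
component of X; thus the irreducible components of X are in canonical bijection with the fibre over
η. -/
theorem result {X Y : Scheme.{u}} [IrreducibleSpace ↥Y] (f : X ⟶ Y)
    [Flat f] [LocallyOfFiniteType f] [LocallyQuasiFinite f] (x : X) :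
    f.base x = genericPoint Y ↔ closure ({x} : Set ↥X) ∈ irreducibleComponents ↥X := by
  have hη : ∀ y : Y, genericPoint Y ⤳ y := fun y =>
    (genericPoint_spec Y).specializes (Set.mem_univ y)
  constructor
  · intro hx
    refine ⟨isIrreducible_singleton.closure, ?_⟩
    intro Z hZ hxZ
    -- generic point of closure Z
    have hZc : IsIrreducible (closure Z) := hZ.closure
    obtain ⟨z, hz⟩ := QuasiSober.sober hZc isClosed_closure
    have hzx : z ⤳ x := by
      rw [specializes_iff_mem_closure, hz.def]
      exact subset_closure (hxZ (subset_closure (Set.mem_singleton x)))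
    have hfz : f.base z = genericPoint Y := by
      have h1 : f.base z ⤳ f.base x := hzx.map f.continuous
      rw [hx] at h1
      exact (h1.antisymm (hη _)).eq
    -- discreteness of the fibre
    have hdisc := f.isDiscrete_preimage_singleton (genericPoint Y)
    rw [isDiscrete_iff_forall_mem_exists_isOpen] at hdisc
    obtain ⟨u, hu, hus⟩ := hdisc x hx
    have hxu : x ∈ u := by
      have : x ∈ u ∩ f.base ⁻¹' {genericPoint Y} := by rw [hus]; rfl
      exact this.1
    have hzu : z ∈ u := hzx.mem_open hu hxu
    have hzmem : z ∈ u ∩ f.base ⁻¹' {genericPoint Y} := ⟨hzu, hfz⟩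
    rw [hus] at hzmem
    have hzeq : z = x := hzmem
    subst hzeq
    have := hz.def
    rw [this]
    exact subset_closure
  · intro hx
    obtain ⟨x', hx'x, hfx'⟩ := (Flat.generalizingMap f) (hη (f.base x))
    have h1 : closure ({x} : Set X) ≤ closure {x'} := by
      apply closure_minimal _ isClosed_closure
      rw [Set.singleton_subset_iff]
      exact specializes_iff_mem_closure.mp hx'x
    have h2 : closure ({x'} : Set X) ≤ closure {x} :=
      hx.2 isIrreducible_singleton.closure h1
    have hxx' : x ⤳ x' := by
      rw [specializes_iff_mem_closure]
      exact h2 (subset_closure (Set.mem_singleton x'))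
    have : x = x' := (hxx'.antisymm hx'x).eq
    rw [this, hfx']

end Groth.Agent.S5048
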