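import Groth.Statements.S5049
import Mathlib

set_option autoImplicit false
open CategoryTheory AlgebraicGeometry
universe u
open Unram

namespace Groth.Agent.S5049

/-- Let f : X ⟶ Y be flat, locally of finite type and locally quasi-finite. If the irreducible
components of Y form a locally finite family of subsets, then so do the irreducible components of X. -/
theorem result {X Y : Scheme.{u}} (f : X ⟶ Y)
    [Flat f] [LocallyOfFiniteType f] [LocallyQuasiFinite f]
    (hY : LocallyFinite (fun Z : ↥(irreducibleComponents ↥Y) => (Z : Set ↥Y))) :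
    LocallyFinite (fun Z : ↥(irreducibleComponents ↥X) => (Z : Set ↥X)) := by
  intro x
  obtain ⟨t, ht, hfin⟩ := hY (f x)
  obtain ⟨O, hOt, hO, hxO⟩ := mem_nhds_iff.mp ht
  obtain ⟨_, ⟨(V : Y.Opens), hV, rfl⟩, hxV, hVO⟩ :=
    Y.isBasis_affineOpens.exists_subset_of_mem_open hxO hO
  obtain ⟨_, ⟨(U : X.Opens), hU, rfl⟩, hxU, hUV : U ≤ f ⁻¹ᵁ V⟩ :=
    X.isBasis_affineOpens.exists_subset_of_mem_open hxV (f ⁻¹ᵁ V).isOpen
  refine ⟨U, U.isOpen.mem_nhds hxU, ?_⟩
  have : IsAffine U.toScheme := hU
  have : IsAffine V.toScheme := hV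
  let g : U.toScheme ⟶ V.toScheme := f.resLE V U hUV
  have hg : ∀ p : U.toScheme, (g p).1 = f p.1 := by
    intro p
    have : g ≫ V.ι = U.ι ≫ f := Scheme.Hom.resLE_comp_ι _ _
    exact congr($(this) p)
  -- finite fibres of `U → Y`
  have hfib : ∀ y : Y, {p : X | p ∈ U ∧ f p = y}.Finite := by
    intro y
    by_cases hy : y ∈ V
    · have h1 := g.finite_preimage_singleton ⟨y, hy⟩
      refine (h1.image (fun p => p.1)).subset ?_
      rintro p ⟨hpU, hpy⟩
      refine ⟨⟨p, hpU⟩, ?_, rfl⟩
      show g ⟨p, hpU⟩ = ⟨y, hy⟩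
      apply Subtype.ext
      rw [hg]
      exact hpy
    · convert! Set.finite_empty
      ext p
      simp only [Set.mem_setOf_eq, Set.mem_empty_iff_false, iff_false, not_and]
      intro hpU hpy
      exact hy (hpy ▸ hUV hpU)
  -- generic points
  have hgen : ∀ Z : irreducibleComponents X, ∃ ζ : X, IsGenericPoint ζ (Z : Set X) := fun Z =>
    QuasiSober.sober Z.2.1 (isClosed_of_mem_irreducibleComponents _ Z.2)
  choose ζ hζ using hgen
  -- images of maximal points are maximal
  have hmax : ∀ Z : irreducibleComponents X, closure {f (ζ Z)} ∈ irreducibleComponents Y := by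
    intro Z
    refine ⟨isIrreducible_singleton.closure, ?_⟩
    intro W' hW' hle
    have hWc : IsIrreducible (closure W') := hW'.closure
    obtain ⟨w, hw⟩ := QuasiSober.sober hWc isClosed_closure
    have hwf : w ⤳ f (ζ Z) := by
      rw [specializes_iff_mem_closure, hw.def]
      exact subset_closure (hle (subset_closure (Set.mem_singleton _)))
    obtain ⟨ζ', hζ'ζ, hfζ'⟩ := (Flat.generalizingMap f) hwf
    have h1 : (Z : Set X) ≤ closure {ζ'} := by
      rw [← (hζ Z).def]
      apply closure_minimal _ isClosed_closure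
      rw [Set.singleton_subset_iff]
      exact specializes_iff_mem_closure.mp hζ'ζ
    have h2 : closure ({ζ'} : Set X) ≤ Z := Z.2.2 isIrreducible_singleton.closure h1
    have h3 : ζ Z ⤳ ζ' := by
      rw [specializes_iff_mem_closure, (hζ Z).def]
      exact h2 (subset_closure (Set.mem_singleton ζ'))
    have h4 : ζ Z = ζ' := (h3.antisymm hζ'ζ).eq
    rw [h4, hfζ', hw.def]
    exact subset_closure
  -- the finite set of generic points
  let F : Set (irreducibleComponents Y) := {W | ((W : Set Y) ∩ t).Nonempty}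
  have hF : F.Finite := hfin
  let S : Set X := ⋃ W ∈ F, {p : X | p ∈ U ∧ closure {f p} = (W : Set Y)}
  have hS : S.Finite := by
    refine hF.biUnion fun W _ => ?_
    by_cases hne : ∃ p : X, p ∈ U ∧ closure {f p} = (W : Set Y)
    · obtain ⟨p₀, hp₀U, hp₀⟩ := hne
      refine (hfib (f p₀)).subset ?_
      rintro p ⟨hpU, hp⟩
      refine ⟨hpU, ?_⟩
      have h1 : f p ⤳ f p₀ := by
        rw [specializes_iff_mem_closure, hp, ← hp₀]
        exact subset_closure (Set.mem_singleton _)
      have h2 : f p₀ ⤳ f p := by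
        rw [specializes_iff_mem_closure, hp₀, ← hp]
        exact subset_closure (Set.mem_singleton _)
      exact (h1.antisymm h2).eq
    · convert! Set.finite_empty
      ext p
      simp only [Set.mem_setOf_eq, Set.mem_empty_iff_false, iff_false, not_and]
      intro hpU hp
      exact hne ⟨p, hpU, hp⟩
  refine Set.Finite.of_finite_image (f := ζ) (hS.subset ?_) ?_
  · rintro _ ⟨Z, ⟨p, hpZ, hpU⟩, rfl⟩
    have hζp : ζ Z ⤳ p := by
      rw [specializes_iff_mem_closure, (hζ Z).def]
      exact hpZ
    have hζU : ζ Z ∈ U := hζp.mem_open U.isOpen hpU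
    simp only [S, Set.mem_iUnion, Set.mem_setOf_eq]
    refine ⟨⟨closure {f (ζ Z)}, hmax Z⟩, ?_, hζU, rfl⟩
    exact ⟨f (ζ Z), subset_closure (Set.mem_singleton _), hOt (hVO (hUV hζU))⟩
  · intro Z _ Z' _ h
    apply Subtype.ext
    rw [← (hζ Z).def, ← (hζ Z').def]
    show closure {ζ Z} = closure {ζ Z'}
    rw [h]

end Groth.Agent.S5049
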