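import Groth.Statements.S5053
import Groth.Agent.Lib.Helper15.EtW2

set_option autoImplicit false
open CategoryTheory AlgebraicGeometry
universe u
open Unram

namespace Groth.Agent.S5053

/-- Let Y be a connected scheme and f : X ⟶ Y étale, separated and of finite type. Then f is finite if
and only if all geometric fibres of f have the same number of points. -/
theorem result {X Y : Scheme.{u}} [ConnectedSpace ↥Y] (f : X ⟶ Y)
    [Etale f] [IsSeparated f] [LocallyOfFiniteType f] [QuasiCompact f] :
    IsFinite f ↔ ∃ n : ℕ∞, ∀ y : Y, ENat.card ↥(MoreMor.geomFiber f y) = n := by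
  haveI := Groth.Agent.Helper15.EtW.lqf_of_etale f
  constructor
  · intro hf
    haveI := hf
    have hlc := Groth.Agent.Helper15.EtW.isLocallyConstant_fibreIntegral_one f
    obtain ⟨y₀⟩ : Nonempty ↥Y := inferInstance
    refine ⟨ENat.card ↥(MoreMor.geomFiber f y₀), fun y => ?_⟩
    rw [Groth.Agent.Helper15.EtW.card_geomFiber_eq_iff]
    exact hlc.apply_eq_of_isPreconnected isPreconnected_univ (Set.mem_univ _) (Set.mem_univ _)
  · rintro ⟨n, hn⟩
    refine IsZariskiLocalAtTarget.of_forall_exists_morphismRestrict (P := @IsFinite) ?_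
    intro y
    exact Groth.Agent.Helper15.EtW.exists_finite_nhd f y ⊤ trivial
      (fun y' _ => by rw [hn y', hn y])

end Groth.Agent.S5053
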