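import Groth.Statements.S5057


set_option autoImplicit false
open CategoryTheory CategoryTheory.Limits AlgebraicGeometry
universe u
open Hensel

namespace Groth.Agent.S5057

/-- Let i : S₀ ⟶ S be a closed immersion such that for every finite morphism g : S' ⟶ S every
open-closed subset of S' ×_S S₀ is the inverse image under the first projection of exactly one
open-closed subset of S'. Then for every finite morphism g : S' ⟶ S, every open subset of S'
containing the image of S' ×_S S₀ is all of S'. -/
theorem result {S S₀ : Scheme.{u}} (i : S₀ ⟶ S) [IsClosedImmersion i]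
    (ha : ∀ (S' : Scheme.{u}) (g : S' ⟶ S), IsFinite g →
      ∀ V : Set ↥(pullback g i), IsClopen V → ∃! U : Set ↥S', IsClopen U ∧ (pullback.fst g i).base ⁻¹' U = V)
    {S' : Scheme.{u}} (g : S' ⟶ S) [IsFinite g] (U : Set ↥S') (hU : IsOpen U)
    (hU₀ : Set.range (pullback.fst g i).base ⊆ U) : U = Set.univ := by
  by_contra hne
  obtain ⟨x₀, hx₀⟩ : ∃ x, x ∉ U := by
    by_contra hcon
    push Not at hcon
    exact hne (Set.eq_univ_of_forall hcon)
  let Zc : TopologicalSpace.Closeds S' := ⟨Uᶜ, hU.isClosed_compl⟩
  let I := Scheme.IdealSheafData.vanishingIdeal Zc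
  let j : I.subscheme ⟶ S' := I.subschemeι
  have hj : Set.range j.base = Uᶜ := by
    rw [I.range_subschemeι, Scheme.IdealSheafData.coe_support_vanishingIdeal]
    rfl
  have hfin : IsFinite (j ≫ g) := inferInstance
  have hemp : IsEmpty ↥(pullback (j ≫ g) i) := by
    constructor
    intro z
    let t : pullback (j ≫ g) i ⟶ pullback g i :=
      pullback.lift (pullback.fst _ _ ≫ j) (pullback.snd _ _)
        (by rw [Category.assoc, pullback.condition])
    have h1 : (pullback.fst g i).base (t.base z) ∈ U := hU₀ ⟨_, rfl⟩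
    have h2 : (pullback.fst g i).base (t.base z) = j.base ((pullback.fst (j ≫ g) i).base z) := by
      have : t ≫ pullback.fst g i = pullback.fst (j ≫ g) i ≫ j := pullback.lift_fst _ _ _
      have := congrArg (fun φ => φ.base z) this
      simpa using this
    have h3 : j.base ((pullback.fst (j ≫ g) i).base z) ∈ Uᶜ := by
      rw [← hj]; exact ⟨_, rfl⟩
    exact h3 (h2 ▸ h1)
  obtain ⟨W, hW, huniq⟩ := ha I.subscheme (j ≫ g) hfin ∅ isClopen_empty
  have e1 := huniq ∅ ⟨isClopen_empty, by simp⟩
  have e2 := huniq Set.univ ⟨isClopen_univ, by ext z; exact (hemp.false z).elim⟩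
  have e3 : (Set.univ : Set ↥I.subscheme) = ∅ := e2.trans e1.symm
  have hx₀' : x₀ ∈ Set.range j.base := by rw [hj]; exact hx₀
  obtain ⟨y, -⟩ := hx₀'
  have : y ∈ (Set.univ : Set ↥I.subscheme) := Set.mem_univ y
  rw [e3] at this
  exact this

end Groth.Agent.S5057
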