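import Groth.Statements.S5067
import Mathlib.AlgebraicGeometry.PullbackCarrier
import Mathlib.AlgebraicGeometry.Morphisms.FlatMono
import Mathlib.AlgebraicGeometry.Morphisms.UniversallyOpen
import Mathlib.AlgebraicGeometry.Morphisms.FormallyUnramified
import Mathlib.AlgebraicGeometry.Morphisms.Separated
import Mathlib.AlgebraicGeometry.Morphisms.Etale

set_option autoImplicit false
open CategoryTheory AlgebraicGeometry
universe u
open Unram

namespace Groth.Agent.S5067

open CategoryTheory.Limits

open Scheme.Pullback in
/-- Two points of a fibre product with the same projections coincide as soon as the tensor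
product of residue fields has a one-point spectrum. -/
theorem eq_of_fst_eq_of_snd_eq {X Y S : Scheme.{u}} (f : X ⟶ S) (g : Y ⟶ S)
    (t₁ t₂ : ↑(pullback f g)) (h1 : pullback.fst f g t₁ = pullback.fst f g t₂)
    (h2 : pullback.snd f g t₁ = pullback.snd f g t₂)
    [Subsingleton (Spec (Triplet.ofPoint t₂).tensor)] : t₁ = t₂ := by
  apply (carrierEquiv (f := f) (g := g)).injective
  have hs : Subsingleton ↥(Spec (carrierEquiv t₂).fst.tensor) :=
    ‹Subsingleton (Spec (Triplet.ofPoint t₂).tensor)›
  exact carrierEquiv_eq_iff.mpr ⟨Triplet.ext h1 h2, Subsingleton.elim _ _⟩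

open Scheme.Pullback in
/-- If the residue field extension at `T.x` is an isomorphism, the spectrum of the tensor product
is a single point. -/
theorem subsingleton_Spec_tensor {X Y S : Scheme.{u}} (f : X ⟶ S) (g : Y ⟶ S)
    (T : Triplet f g) [IsIso (f.residueFieldMap T.x)] : Subsingleton (Spec T.tensor) := by
  have : IsIso ((S.residueFieldCongr T.hx).inv ≫ f.residueFieldMap T.x) := inferInstance
  have hinr : IsIso T.tensorInr := by
    unfold Triplet.tensorInr
    exact pushout_inr_iso_of_left_iso _ _
  let e : Y.residueField T.y ≅ T.tensor := asIso T.tensorInr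
  have : Subsingleton (PrimeSpectrum (Y.residueField T.y)) := inferInstance
  exact (PrimeSpectrum.comapEquiv e.commRingCatIsoToRingEquiv).symm.subsingleton


/-- Let f : X ⟶ Y be an étale separated morphism of integral schemes which maps the generic point of X
to the generic point of Y and induces a bijection between the residue fields of the generic points
(f is birational). Then f is an open immersion. -/
theorem result {X Y : Scheme.{u}} [IsIntegral X] [IsIntegral Y]
    (f : X ⟶ Y) [Etale f] [IsSeparated f] (hgen : f.base (genericPoint X) = genericPoint Y)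
    (hbir : Function.Bijective (f.residueFieldMap (genericPoint X)).hom) : IsOpenImmersion f := by
  have hiso : ∀ x : X, x = genericPoint X → IsIso (f.residueFieldMap x) := by
    rintro x rfl
    exact (ConcreteCategory.isIso_iff_bijective _).mpr hbir
  have hsurj : Function.Surjective (pullback.diagonal f).base := by
    intro z
    obtain ⟨C, hC, hzC⟩ : ∃ C ∈ irreducibleComponents ↥(pullback f f), z ∈ C :=
      ⟨irreducibleComponent z, irreducibleComponent_mem_irreducibleComponents z,
        mem_irreducibleComponent⟩
    have hCirr : IsIrreducible C := hC.1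
    have hCcl : IsClosed C := isClosed_of_mem_irreducibleComponents C hC
    obtain ⟨ξ, hξ⟩ := QuasiSober.sober hCirr hCcl
    have hmax : ∀ ξ' : ↥(pullback f f), ξ' ⤳ ξ → ξ' = ξ := by
      intro ξ' h
      have h1 : C ⊆ closure {ξ'} := by
        rw [← hξ.def]
        exact isClosed_closure.closure_subset_iff.mpr
          (Set.singleton_subset_iff.mpr (specializes_iff_mem_closure.mp h))
      have h2 : closure {ξ'} ⊆ C := hC.2 isIrreducible_singleton.closure h1
      have h3 : ξ ⤳ ξ' := by
        rw [specializes_iff_mem_closure, hξ.def]
        exact h2 (subset_closure rfl)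
      exact (h.antisymm h3).eq
    have hg1 : pullback.fst f f ξ = genericPoint X := by
      obtain ⟨ξ', hξ', h⟩ := (Flat.generalizingMap (pullback.fst f f))
        (genericPoint_specializes (pullback.fst f f ξ))
      rw [hmax ξ' hξ'] at h
      exact h
    have hg2 : pullback.snd f f ξ = genericPoint X := by
      obtain ⟨ξ', hξ', h⟩ := (Flat.generalizingMap (pullback.snd f f))
        (genericPoint_specializes (pullback.snd f f ξ))
      rw [hmax ξ' hξ'] at h
      exact h
    have hd1 : pullback.fst f f (pullback.diagonal f (genericPoint X)) = genericPoint X := by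
      rw [← Scheme.Hom.comp_apply, pullback.diagonal_fst]
      rfl
    have hd2 : pullback.snd f f (pullback.diagonal f (genericPoint X)) = genericPoint X := by
      rw [← Scheme.Hom.comp_apply, pullback.diagonal_snd]
      rfl
    have : IsIso (f.residueFieldMap (Scheme.Pullback.Triplet.ofPoint ξ).x) := hiso _ hg1
    have := subsingleton_Spec_tensor f f (Scheme.Pullback.Triplet.ofPoint ξ)
    have hξeq : pullback.diagonal f (genericPoint X) = ξ :=
      eq_of_fst_eq_of_snd_eq f f _ _ (hd1.trans hg1.symm) (hd2.trans hg2.symm)
    have hrange : IsClosed (Set.range (pullback.diagonal f).base) :=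
      (pullback.diagonal f).isClosedEmbedding.isClosed_range
    have hCsub : C ⊆ Set.range (pullback.diagonal f).base := by
      rw [← hξ.def]
      exact hrange.closure_subset_iff.mpr (Set.singleton_subset_iff.mpr ⟨genericPoint X, hξeq⟩)
    exact hCsub hzC
  have hepi : Epi (pullback.diagonal f).base := (TopCat.epi_iff_surjective _).mpr hsurj
  have hisoΔ : IsIso (pullback.diagonal f) :=
    (isIso_iff_isOpenImmersion_and_epi_base _).mpr ⟨inferInstance, hepi⟩
  have hfs : pullback.fst f f = pullback.snd f f := by
    rw [← cancel_epi (pullback.diagonal f), pullback.diagonal_fst, pullback.diagonal_snd]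
  have hmono : Mono f := ⟨fun {Z} g h e => by
    have h1 := pullback.lift_fst (f := f) (g := f) g h e
    have h2 := pullback.lift_snd (f := f) (g := f) g h e
    rw [← h1, hfs, h2]⟩
  exact IsOpenImmersion.of_flat_of_mono f

end Groth.Agent.S5067
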