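import Groth.Statements.S5073
import Mathlib.RingTheory.Ideal.MinimalPrime.Localization
import Mathlib.RingTheory.Ideal.MinimalPrime.Noetherian
import Mathlib.RingTheory.Ideal.BigOperators

set_option autoImplicit false
universe u
open EGA418

namespace Groth.Agent.S5073

/-- Let A be a Noetherian local ring, p a prime ideal and x an element of A. Then there is an element x'
of A whose image in A_p equals that of x and which belongs to no minimal prime ideal of A not
contained in p. -/
theorem result (A : Type u) [CommRing A] [IsNoetherianRing A] [IsLocalRing A]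
    (p : Ideal A) [p.IsPrime] (x : A) :
    ∃ x' : A, algebraMap A (Localization.AtPrime p) x' = algebraMap A (Localization.AtPrime p) x ∧
      ∀ q ∈ minimalPrimes A, ¬ q ≤ p → x' ∉ q := by
  classical
  set T : Set (Ideal A) := {q | q ∈ minimalPrimes A ∧ ¬ q ≤ p} with hT
  have hTfin : T.Finite := (minimalPrimes.finite_of_isNoetherianRing A).subset (fun q hq => hq.1)
  -- the key elements
  have key : ∀ q : Ideal A, ∃ c : A, q ∈ T →
      (algebraMap A (Localization.AtPrime p) c = 0 ∧ c ∉ q ∧ ∀ q' ∈ T, q' ≠ q → c ∈ q') := by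
    intro q
    by_cases hq : q ∈ T
    swap
    · exact ⟨0, fun h => absurd h hq⟩
    obtain ⟨hqmin, hqp⟩ := hq
    have hqprime : q.IsPrime := hqmin.1.1
    obtain ⟨a, haq, hap⟩ := Set.not_subset.mp hqp
    -- `a` is nilpotent in the localization at `q`
    have hrad := IsLocalization.AtPrime.radical_map_of_mem_minimalPrimes
      (A := Localization.AtPrime q) q (⊥ : Ideal A) hqmin
    have ha1 : algebraMap A (Localization.AtPrime q) a ∈
        ((⊥ : Ideal A).map (algebraMap A (Localization.AtPrime q))).radical := by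
      rw [hrad]
      exact Ideal.mem_map_of_mem _ haq
    rw [Ideal.map_bot] at ha1
    obtain ⟨n, hn⟩ := ha1
    rw [Ideal.mem_bot, ← map_pow, IsLocalization.map_eq_zero_iff q.primeCompl] at hn
    obtain ⟨⟨s, hs⟩, hsa⟩ := hn
    -- elements of the other primes outside `q`
    have hb : ∀ q' : Ideal A, ∃ b : A, q' ∈ T → q' ≠ q → (b ∈ q' ∧ b ∉ q) := by
      intro q'
      by_cases hq' : q' ∈ T ∧ q' ≠ q
      swap
      · exact ⟨0, fun h1 h2 => absurd ⟨h1, h2⟩ hq'⟩
      have hnle : ¬ q' ≤ q := by
        intro hle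
        have hq'prime : q'.IsPrime := hq'.1.1.1.1
        exact hq'.2 (le_antisymm hle (hqmin.2 ⟨hq'prime, bot_le⟩ hle))
      obtain ⟨b, hb1, hb2⟩ := Set.not_subset.mp hnle
      exact ⟨b, fun _ _ => ⟨hb1, hb2⟩⟩
    choose b hb using hb
    refine ⟨s * ∏ q' ∈ hTfin.toFinset.erase q, b q', fun _ => ⟨?_, ?_, ?_⟩⟩
    · rw [IsLocalization.map_eq_zero_iff p.primeCompl]
      refine ⟨⟨a ^ n, ?_⟩, ?_⟩
      · exact fun h => hap (Ideal.IsPrime.mem_of_pow_mem inferInstance n h)
      · show a ^ n * (s * ∏ q' ∈ hTfin.toFinset.erase q, b q') = 0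
        rw [← mul_assoc, mul_comm (a ^ n) s]
        change s * a ^ n = 0 at hsa
        rw [hsa, zero_mul]
    · intro hmem
      rcases hqprime.mem_or_mem hmem with h | h
      · exact hs h
      · rw [Ideal.IsPrime.prod_mem_iff] at h
        obtain ⟨q', hq', hbq⟩ := h
        rw [Finset.mem_erase, Set.Finite.mem_toFinset] at hq'
        exact (hb q' hq'.2 hq'.1).2 hbq
    · intro q' hq' hne
      apply Ideal.mul_mem_left
      refine Ideal.prod_mem (i := q') _ ?_ ?_
      · rw [Finset.mem_erase, Set.Finite.mem_toFinset]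
        exact ⟨hne, hq'⟩
      · exact (hb q' hq' hne).1
  choose c hc using key
  refine ⟨x + ∑ q ∈ hTfin.toFinset.filter (fun q => x ∈ q), c q, ?_, ?_⟩
  · rw [map_add, map_sum]
    rw [Finset.sum_eq_zero, add_zero]
    intro q hq
    rw [Finset.mem_filter, Set.Finite.mem_toFinset] at hq
    exact (hc q hq.1).1
  · intro q₀ hq₀min hq₀p
    have hq₀ : q₀ ∈ T := ⟨hq₀min, hq₀p⟩
    by_cases hx : x ∈ q₀
    · intro hmem
      have hmemF : q₀ ∈ hTfin.toFinset.filter (fun q => x ∈ q) := by
        rw [Finset.mem_filter, Set.Finite.mem_toFinset]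
        exact ⟨hq₀, hx⟩
      rw [← Finset.add_sum_erase _ _ hmemF] at hmem
      have h1 : ∑ q ∈ (hTfin.toFinset.filter (fun q => x ∈ q)).erase q₀, c q ∈ q₀ := by
        apply Submodule.sum_mem
        intro q hq
        rw [Finset.mem_erase, Finset.mem_filter, Set.Finite.mem_toFinset] at hq
        exact (hc q hq.2.1).2.2 q₀ hq₀ (Ne.symm hq.1)
      have h2 : c q₀ ∈ q₀ := by
        have h3 := q₀.sub_mem (q₀.sub_mem hmem hx) h1
        have h4 : x + (c q₀ + ∑ q ∈ (hTfin.toFinset.filter (fun q => x ∈ q)).erase q₀, c q) - x -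
            ∑ q ∈ (hTfin.toFinset.filter (fun q => x ∈ q)).erase q₀, c q = c q₀ := by ring
        rwa [h4] at h3
      exact (hc q₀ hq₀).2.1 h2
    · intro hmem
      apply hx
      have h1 : ∑ q ∈ hTfin.toFinset.filter (fun q => x ∈ q), c q ∈ q₀ := by
        apply Submodule.sum_mem
        intro q hq
        rw [Finset.mem_filter, Set.Finite.mem_toFinset] at hq
        have hne : q₀ ≠ q := fun h => hx (h ▸ hq.2)
        exact (hc q hq.1).2.2 q₀ hq₀ hne
      have := q₀.sub_mem hmem h1
      rwa [add_sub_cancel_right] at this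

end Groth.Agent.S5073
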