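import Groth.Statements.S5077
import Mathlib
import Groth.Agent.Lib.Helper26.UnramMono1

set_option autoImplicit false
universe u
open Unram

namespace Groth.Agent.S5077

/-- Let A be a local ring and B a finite A-algebra generated by a single element u. Then there is a
monic polynomial F with coefficients in A such that F(u) = 0 and F'(u) does not belong to any
maximal ideal n of B at which B is unramified over A. -/
theorem result (A B : Type u) [CommRing A] [IsLocalRing A]
    [CommRing B] [Algebra A B] [Module.Finite A B] (u : B) (hu : Algebra.adjoin A ({u} : Set B) = ⊤) :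
    ∃ F : Polynomial A, F.Monic ∧ Polynomial.aeval u F = 0 ∧
      ∀ (n : Ideal B) [n.IsMaximal], Algebra.IsUnramifiedAt A n → Polynomial.aeval u (Polynomial.derivative F) ∉ n := by
  rcases subsingleton_or_nontrivial B with hB | hB
  · refine ⟨1, Polynomial.monic_one, Subsingleton.elim _ _, ?_⟩
    intro n hn
    exact absurd (Subsingleton.elim n ⊤) hn.ne_top
  · obtain ⟨q, hq, hq0, hq'⟩ := Groth.Agent.Helper26.UnramMono.exists_monic (R := A) (S := B) u hu
      (IsLocalRing.maximalIdeal A)
    refine ⟨q, hq, hq0, ?_⟩
    intro n hn hunr
    have hmax : (n.under A).IsMaximal := Ideal.isMaximal_comap_of_isIntegral_of_isMaximal n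
    have hover : n.LiesOver (IsLocalRing.maximalIdeal A) :=
      ⟨(IsLocalRing.eq_maximalIdeal hmax).symm⟩
    exact hq' n hover hunr

end Groth.Agent.S5077
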