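import Groth.Statements.S5078
import Mathlib.RingTheory.Finiteness.Cardinality
import Mathlib.RingTheory.Ideal.Operations
import Groth.Agent.Lib.Helper8.Adic

set_option autoImplicit false
universe u v
open Hensel

namespace Groth.Agent.S5078

/-- Let A be a ring, I an ideal such that A is I-adically separated and complete, and M a finitely
generated projective A-module. Then M is I-adically separated and complete. -/
theorem result {A : Type u} [CommRing A] (I : Ideal A) [IsAdicComplete I A]
    (M : Type v) [AddCommGroup M] [Module A M] [Module.Finite A M] [Module.Projective A M] :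
    IsAdicComplete I M := by
  classical
  obtain ⟨n, π, hπ⟩ := Module.Finite.exists_fin' A M
  obtain ⟨i, hi⟩ := Module.projective_lifting_property π LinearMap.id hπ
  have hπi : ∀ x : M, π (i x) = x := fun x => LinearMap.congr_fun hi x
  -- a vector with coordinates in `I ^ k` lies in `I ^ k • ⊤`
  have hvec : ∀ (k : ℕ) (v : Fin n → A), (∀ j, v j ∈ I ^ k) →
      v ∈ I ^ k • (⊤ : Submodule A (Fin n → A)) := by
    intro k v hv
    have h2 : v = ∑ j, v j • (Pi.single j (1 : A) : Fin n → A) := by
      ext l
      simp [Finset.sum_apply, Pi.single_apply]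
    rw [h2]
    exact Submodule.sum_mem _ (fun j _ => Submodule.smul_mem_smul (hv j) Submodule.mem_top)
  have hcoord : ∀ (k : ℕ) (v : Fin n → A), v ∈ I ^ k • (⊤ : Submodule A (Fin n → A)) →
      ∀ j, v j ∈ I ^ k := by
    intro k v hv j
    have := Groth.Agent.Helper8.Adic.map_mem_smul_top (I ^ k) (LinearMap.proj j : (Fin n → A) →ₗ[A] A) hv
    rw [smul_eq_mul, Ideal.mul_top] at this
    exact this
  refine { toIsHausdorff := ⟨?_⟩, toIsPrecomplete := ⟨?_⟩ }
  · intro x hx
    have h0 : i x = 0 := by
      ext j
      apply IsHausdorff.haus (inferInstance : IsHausdorff I A)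
      intro k
      rw [SModEq.sub_mem, sub_zero, smul_eq_mul, Ideal.mul_top]
      have hxk := hx k
      rw [SModEq.sub_mem, sub_zero] at hxk
      exact hcoord k (i x) (Groth.Agent.Helper8.Adic.map_mem_smul_top (I ^ k) i hxk) j
    rw [← hπi x, h0, map_zero]
  · intro f hf
    -- coordinatewise limits
    have hL : ∀ j : Fin n, ∃ L : A, ∀ k, (i (f k)) j ≡ L [SMOD (I ^ k • ⊤ : Submodule A A)] := by
      intro j
      apply IsPrecomplete.prec (inferInstance : IsPrecomplete I A)
      intro m k hmk
      rw [SModEq.sub_mem, smul_eq_mul, Ideal.mul_top]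
      have h3 := hf hmk
      rw [SModEq.sub_mem] at h3
      have h4 := hcoord m _ (Groth.Agent.Helper8.Adic.map_mem_smul_top (I ^ m) i h3) j
      rwa [map_sub] at h4
    choose L hL using hL
    refine ⟨π L, fun k => ?_⟩
    rw [SModEq.sub_mem]
    have h5 : f k - π L = π (i (f k) - L) := by rw [map_sub, hπi]
    rw [h5]
    apply Groth.Agent.Helper8.Adic.map_mem_smul_top (I ^ k) π
    apply hvec k
    intro j
    have h6 := hL j k
    rw [SModEq.sub_mem, smul_eq_mul, Ideal.mul_top] at h6
    exact h6

end Groth.Agent.S5078
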