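import Groth.Statements.S5081
import Mathlib.Algebra.Polynomial.Derivation

set_option autoImplicit false
universe u
open Unram

namespace Groth.Agent.S5081

open Polynomial

section
variable {A B : Type u} [CommRing A] [CommRing B] [Algebra A B] (u : B) (F : A[X])

/-- The derivation `B → B/(F'(u))`, `g(u) ↦ g'(u)`, when `B = A[X]/(F)`. -/
noncomputable def monoDer (hs : Function.Surjective (aeval u : A[X] →ₐ[A] B))
    (hk : ∀ g : A[X], aeval u g = 0 →
      Ideal.Quotient.mk (Ideal.span {aeval u (derivative F)}) (aeval u (derivative g)) = 0) :
    Derivation A B (B ⧸ Ideal.span {aeval u (derivative F)}) where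
  toFun b := Ideal.Quotient.mk _ (aeval u (derivative (Function.surjInv hs b)))
  map_add' x y := by
    have := hk (Function.surjInv hs (x + y) - (Function.surjInv hs x + Function.surjInv hs y))
      (by simp [Function.surjInv_eq hs])
    simpa [sub_eq_zero] using this
  map_smul' a x := by
    have := hk (Function.surjInv hs (a • x) - a • Function.surjInv hs x)
      (by simp [Function.surjInv_eq hs])
    simp only [map_sub, map_smul, sub_eq_zero] at this
    simp only [RingHom.id_apply]
    rw [this]
    rfl
  map_one_eq_zero' := by
    have := hk (Function.surjInv hs 1 - 1) (by simp [Function.surjInv_eq hs])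
    simpa [sub_eq_zero] using this
  leibniz' x y := by
    have := hk (Function.surjInv hs (x * y) - Function.surjInv hs x * Function.surjInv hs y)
      (by simp [Function.surjInv_eq hs])
    simp only [derivative_mul, map_sub, map_add, map_mul, Function.surjInv_eq hs,
      sub_eq_zero] at this
    simp only [LinearMap.coe_mk, AddHom.coe_mk]
    rw [this]
    simp only [Algebra.smul_def, Ideal.Quotient.algebraMap_eq]
    ring
end

/-- Let B be a finite A-algebra generated by a single element u and F a polynomial with coefficients in
A such that F(u) = 0. Then the ideal generated by F'(u) is contained in the annihilator of the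
module of differentials of B over A, and equals it when the kernel of the surjection A[T] → B
sending T to u is generated by F. -/
theorem result (A B : Type u) [CommRing A] [CommRing B] [Algebra A B]
    [Module.Finite A B] (u : B) (hu : Algebra.adjoin A ({u} : Set B) = ⊤) (F : Polynomial A) (hF : Polynomial.aeval u F = 0) :
    Ideal.span {Polynomial.aeval u (Polynomial.derivative F)} ≤ Module.annihilator B (KaehlerDifferential A B) ∧
      (RingHom.ker (Polynomial.aeval u : Polynomial A →ₐ[A] B) = Ideal.span {F} →
        Module.annihilator B (KaehlerDifferential A B) = Ideal.span {Polynomial.aeval u (Polynomial.derivative F)}) := by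
  classical
  have hs : Function.Surjective (aeval u : A[X] →ₐ[A] B) := by
    rw [← AlgHom.range_eq_top, ← Algebra.adjoin_singleton_eq_range_aeval, hu]
  have h1 : Ideal.span {Polynomial.aeval u (Polynomial.derivative F)} ≤
      Module.annihilator B (KaehlerDifferential A B) := by
    rw [Ideal.span_le, Set.singleton_subset_iff]
    change _ ∈ Module.annihilator B (KaehlerDifferential A B)
    rw [Module.mem_annihilator]
    have hFu : aeval u (derivative F) • KaehlerDifferential.D A B u = 0 := by
      rw [← Derivation.comp_aeval_eq, hF, map_zero]
    intro m
    have hm : m ∈ Submodule.span B (Set.range (KaehlerDifferential.D A B)) := by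
      rw [KaehlerDifferential.span_range_derivation]; trivial
    induction hm using Submodule.span_induction with
    | mem x hx =>
      obtain ⟨b, rfl⟩ := hx
      obtain ⟨g, rfl⟩ := hs b
      rw [Derivation.comp_aeval_eq, smul_comm, hFu, smul_zero]
    | zero => simp
    | add x y _ _ hx hy => rw [smul_add, hx, hy, add_zero]
    | smul c x _ hx => rw [smul_comm, hx, smul_zero]
  refine ⟨h1, fun hker => le_antisymm ?_ h1⟩
  have hk : ∀ g : A[X], aeval u g = 0 →
      Ideal.Quotient.mk (Ideal.span {aeval u (derivative F)}) (aeval u (derivative g)) = 0 := by
    intro g hg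
    have : g ∈ Ideal.span {F} := by rw [← hker]; exact hg
    obtain ⟨h, rfl⟩ := Ideal.mem_span_singleton.mp this
    rw [Ideal.Quotient.eq_zero_iff_mem, derivative_mul, map_add, map_mul, map_mul, hF, zero_mul,
      add_zero]
    exact Ideal.mul_mem_right _ _ (Ideal.subset_span rfl)
  let D := monoDer u F hs hk
  have hDu : D u = 1 := by
    change Ideal.Quotient.mk _ (aeval u (derivative (Function.surjInv hs u))) = 1
    have := hk (Function.surjInv hs u - X) (by simp [Function.surjInv_eq hs])
    simpa [sub_eq_zero] using this
  intro b hb
  rw [Module.mem_annihilator] at hb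
  have h2 := congrArg D.liftKaehlerDifferential (hb (KaehlerDifferential.D A B u))
  rw [map_smul, map_zero, Derivation.liftKaehlerDifferential_comp_D, hDu] at h2
  rw [← Ideal.Quotient.eq_zero_iff_mem]
  rw [Algebra.smul_def, mul_one] at h2
  exact h2

end Groth.Agent.S5081
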