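import Groth.Statements.S5082
import Groth.Agent.Lib.Helper23.MeroD7

set_option autoImplicit false
universe u
open CategoryTheory CategoryTheory.Limits AlgebraicGeometry TopologicalSpace
open Mero

namespace Groth.Agent.S5082

/-- Let A be a Noetherian local ring. Then the group of divisors of Spec A is trivial (every divisor
equals the unit divisor, divisors being written multiplicatively) if and only if A has depth 0, that
is, if and only if every element of the maximal ideal of A is a zero-divisor. -/
theorem result (A : Type u) [CommRing A] [IsNoetherianRing A] [IsLocalRing A] :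
    (∀ D : Mero.Divisor (Spec (CommRingCat.of A)), D = 1) ↔ LocCoh.depth A A = 0 := by
  classical
  open Groth.Agent.Helper23.CDivDepth Groth.Agent.Helper23.DepthExt in
  constructor
  · intro H
    by_contra hne
    have h1 : (1 : ℕ∞) ≤ LocCoh.depth A A := Order.one_le_iff_pos.2 (pos_iff_ne_zero.2 hne)
    obtain ⟨t, htu, htreg⟩ := (hasReg1_iff_depth A).2 h1
    have hsreg := regular_ΓSpecIso_inv A t htreg
    have hD := H (Mero.div (unitOfReg _ hsreg))
    have hx0 : (Mero.div (unitOfReg _ hsreg)).1 (IsLocalRing.closedPoint A) = 1 := by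
      rw [hD]; rfl
    rw [div_unitOfReg_eq_one_iff, isUnit_germ_closedPoint_iff] at hx0
    exact htu hx0
  · intro hd D
    have hnr : ¬ HasReg1 A := by
      rw [hasReg1_iff_depth, hd]
      exact by decide
    have hnr' := not_hasReg1_stalk_closedPoint A hnr
    obtain ⟨W, a, b, ha, hb, hxW, hrep⟩ := exists_local_rep D (IsLocalRing.closedPoint A)
    have hone := germ_eq_one_iff D W a b ha hb hrep
    have hunit : ∀ c : Γ(Spec (CommRingCat.of A), W), c ∈ Mero.regSub (Spec (CommRingCat.of A)) W →
        IsUnit ((Spec (CommRingCat.of A)).presheaf.germ W (IsLocalRing.closedPoint A) hxW c) := by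
      intro c hc
      by_contra hu
      exact hnr' ⟨_, hu, mem_nonZeroDivisors_iff_left.1 (hc ⟨IsLocalRing.closedPoint A, hxW⟩)⟩
    apply Subtype.ext
    funext y
    change D.1 y = 1
    have hspec : y ⤳ (IsLocalRing.closedPoint A : Spec (CommRingCat.of A)) :=
      IsLocalRing.specializes_closedPoint (R := A) y
    have hyW : y ∈ W := hspec.mem_open W.2 hxW
    have hunit' : ∀ c : Γ(Spec (CommRingCat.of A), W), c ∈ Mero.regSub (Spec (CommRingCat.of A)) W →
        IsUnit ((Spec (CommRingCat.of A)).presheaf.germ W y hyW c) := by
      intro c hc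
      have h1 := (hunit c hc).map ((Spec (CommRingCat.of A)).presheaf.stalkSpecializes hspec).hom
      have h2 : ((Spec (CommRingCat.of A)).presheaf.stalkSpecializes hspec).hom
          ((Spec (CommRingCat.of A)).presheaf.germ W (IsLocalRing.closedPoint A) hxW c) =
          (Spec (CommRingCat.of A)).presheaf.germ W y hyW c := by
        rw [← CommRingCat.comp_apply, TopCat.Presheaf.germ_stalkSpecializes]
      rwa [h2] at h1
    rw [hone y hyW]
    exact ⟨(hunit' b hb).dvd, (hunit' a ha).dvd⟩

end Groth.Agent.S5082
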