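import Groth.Statements.S5083
-- import your own Groth.Agent.* helpers here

set_option autoImplicit false
universe u
open CategoryTheory CategoryTheory.Limits AlgebraicGeometry TopologicalSpace
open Mero

namespace Groth.Agent.S5083

section helpers
variable {X : Scheme.{u}}

/-- multiplication by a global meromorphic function, on sections of `O_X(D)` -/
noncomputable def mulFun (D D' : Mero.Divisor X) (h : Γ(Mero.kmod X, ⊤))
    (u : ∀ x : X, (Mero.KStalk X x)ˣ) (hu : ∀ x : X, h.1 ⟨x, Opens.mem_top x⟩ = (u x : Mero.KStalk X x))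
    (hD : ∀ x : X, D.1 x = D'.1 x * QuotientGroup.mk (u x)) (U : X.Opens)
    (t : Γ(Mero.divMod D, U)) : Γ(Mero.divMod D', U) :=
  ⟨fun x => t.1 x * h.1 ⟨x.1, Opens.mem_top x.1⟩,
    ⟨Mero.kLoc_mul X U _ _ t.2.1 ((Mero.kLoc X).res (homOfLE le_top) h.1 h.2), fun x g' hg' => by
      have h1 := t.2.2 x (g' * u x.1) (by rw [hD, hg', QuotientGroup.mk_mul])
      change t.1 x * h.1 ⟨x.1, Opens.mem_top x.1⟩ * (g' : Mero.KStalk X x.1) ∈ _
      rw [hu x.1]
      have : t.1 x * (u x.1 : Mero.KStalk X x.1) * g' = t.1 x * ((g' * u x.1 : (Mero.KStalk X x.1)ˣ) :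
          Mero.KStalk X x.1) := by
        rw [Units.val_mul]; ring
      rw [this]
      exact h1⟩⟩

theorem mulFun_apply (D D' : Mero.Divisor X) (h : Γ(Mero.kmod X, ⊤))
    (u : ∀ x : X, (Mero.KStalk X x)ˣ) (hu : ∀ x : X, h.1 ⟨x, Opens.mem_top x⟩ = (u x : Mero.KStalk X x))
    (hD : ∀ x : X, D.1 x = D'.1 x * QuotientGroup.mk (u x)) (U : X.Opens)
    (t : Γ(Mero.divMod D, U)) (x : U) :
    (mulFun D D' h u hu hD U t).1 x = t.1 x * h.1 ⟨x.1, Opens.mem_top x.1⟩ := rfl

noncomputable def mulHom (D D' : Mero.Divisor X) (h : Γ(Mero.kmod X, ⊤))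
    (u : ∀ x : X, (Mero.KStalk X x)ˣ) (hu : ∀ x : X, h.1 ⟨x, Opens.mem_top x⟩ = (u x : Mero.KStalk X x))
    (hD : ∀ x : X, D.1 x = D'.1 x * QuotientGroup.mk (u x)) : Mero.divMod D ⟶ Mero.divMod D' :=
  ⟨PresheafOfModules.homMk (M₁ := (Mero.divMod D).val) (M₂ := (Mero.divMod D').val)
    { app := fun U => AddCommGrpCat.ofHom
        { toFun := fun (t : Γ(Mero.divMod D, U.unop)) => mulFun D D' h u hu hD U.unop t
          map_zero' := Subtype.ext (funext fun x => zero_mul _)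
          map_add' := fun a b => Subtype.ext (funext fun x => add_mul _ _ _) }
      naturality := by intros; rfl }
    (fun U r t => Subtype.ext (funext fun x => smul_mul_assoc _ _ _))⟩

theorem mulHom_app_apply (D D' : Mero.Divisor X) (h : Γ(Mero.kmod X, ⊤))
    (u : ∀ x : X, (Mero.KStalk X x)ˣ) (hu : ∀ x : X, h.1 ⟨x, Opens.mem_top x⟩ = (u x : Mero.KStalk X x))
    (hD : ∀ x : X, D.1 x = D'.1 x * QuotientGroup.mk (u x)) (U : X.Opens)
    (t : Γ(Mero.divMod D, U)) :
    (mulHom D D' h u hu hD).app U t = mulFun D D' h u hu hD U t := rfl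

theorem mulHom_comp (D D' : Mero.Divisor X) (h h' : Γ(Mero.kmod X, ⊤))
    (u u' : ∀ x : X, (Mero.KStalk X x)ˣ)
    (hu : ∀ x : X, h.1 ⟨x, Opens.mem_top x⟩ = (u x : Mero.KStalk X x))
    (hu' : ∀ x : X, h'.1 ⟨x, Opens.mem_top x⟩ = (u' x : Mero.KStalk X x))
    (hD : ∀ x : X, D.1 x = D'.1 x * QuotientGroup.mk (u x))
    (hD' : ∀ x : X, D'.1 x = D.1 x * QuotientGroup.mk (u' x))
    (huu' : ∀ x, u x * u' x = 1) :
    mulHom D D' h u hu hD ≫ mulHom D' D h' u' hu' hD' = 𝟙 _ := by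
  ext U t
  apply Subtype.ext
  funext x
  change t.1 x * h.1 ⟨x.1, Opens.mem_top x.1⟩ * h'.1 ⟨x.1, Opens.mem_top x.1⟩ = t.1 x
  rw [hu, hu', mul_assoc, ← Units.val_mul, huu', Units.val_one, mul_one]

end helpers

/-- Let X be a scheme and D, D' divisors on X (global sections of the sheaf of units of K_X modulo units
of O_X, written multiplicatively). If D and D' are linearly equivalent, i.e. D · D'⁻¹ is the divisor
of a unit of the ring of global sections of K_X, then the O_X-modules O_X(D) and O_X(D') are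
isomorphic. (The published statement is an equivalence: O_X(D) and O_X(D') are isomorphic if and
only if D and D' are linearly equivalent; this row states only that linearly equivalent divisors
have isomorphic modules.) -/
theorem result (X : Scheme.{u}) (D D' : Mero.Divisor X) (h : Mero.LinEquiv D D') :
    Nonempty (Mero.divMod D ≅ Mero.divMod D') := by
  obtain ⟨f, hf⟩ := h
  let u : ∀ x : X, (Mero.KStalk X x)ˣ := fun x =>
    Units.map (Mero.evalK X ⊤ ⟨x, Opens.mem_top x⟩).toMonoidHom f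
  have hu : ∀ x : X, (f : Γ(Mero.kmod X, ⊤)).1 ⟨x, Opens.mem_top x⟩ = (u x : Mero.KStalk X x) :=
    fun x => rfl
  have hu' : ∀ x : X, ((f⁻¹ : (Γ(Mero.kmod X, ⊤))ˣ) : Γ(Mero.kmod X, ⊤)).1 ⟨x, Opens.mem_top x⟩ =
      (((u x)⁻¹ : (Mero.KStalk X x)ˣ) : Mero.KStalk X x) := by
    intro x
    have : (u x)⁻¹ = Units.map (Mero.evalK X ⊤ ⟨x, Opens.mem_top x⟩).toMonoidHom f⁻¹ :=
      (map_inv _ f).symm
    rw [this]
    rfl
  have hD : ∀ x : X, D.1 x = D'.1 x * QuotientGroup.mk (u x) := by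
    intro x
    have h1 : (D * D'⁻¹).1 x = (Mero.div f).1 x := by rw [hf]
    have h2 : (D * D'⁻¹).1 x = D.1 x * (D'.1 x)⁻¹ := rfl
    have h3 : (Mero.div f).1 x = QuotientGroup.mk (u x) := rfl
    rw [h2, h3] at h1
    rw [← h1, mul_comm (D.1 x) _, mul_inv_cancel_left]
  have hD' : ∀ x : X, D'.1 x = D.1 x * QuotientGroup.mk (u x)⁻¹ := by
    intro x
    rw [hD x, QuotientGroup.mk_inv, mul_inv_cancel_right]
  exact ⟨{ hom := mulHom D D' f (fun x => u x) hu hD
           inv := mulHom D' D (f⁻¹ : (Γ(Mero.kmod X, ⊤))ˣ) (fun x => (u x)⁻¹) hu' hD'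
           hom_inv_id := mulHom_comp D D' _ _ _ _ hu hu' hD hD' (fun x => mul_inv_cancel _)
           inv_hom_id := mulHom_comp D' D _ _ _ _ hu' hu hD' hD (fun x => inv_mul_cancel _) }⟩

end Groth.Agent.S5083
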