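import Groth.Statements.S5085
-- import your own Groth.Agent.* helpers here

set_option autoImplicit false
universe u
open CategoryTheory CategoryTheory.Limits AlgebraicGeometry TopologicalSpace
open Mero

namespace Groth.Agent.S5085

theorem kmk_eq_mk'' {X : Scheme.{u}} {x : X} (a : X.presheaf.stalk x) (s : Mero.regStalk X x) :
    (LocalizedModule.mk a s : Mero.KStalk X x) = IsLocalization.mk' (Mero.KStalk X x) a s :=
  Localization.mk_eq_mk'_apply a s

theorem kmk_eq_zero_iff' {X : Scheme.{u}} {x : X} (a : X.presheaf.stalk x) (s : Mero.regStalk X x) :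
    (LocalizedModule.mk a s : Mero.KStalk X x) = 0 ↔ a = 0 := by
  rw [kmk_eq_mk'', IsLocalization.mk'_eq_zero_iff]
  constructor
  · rintro ⟨m, hm⟩
    have := Mero.regStalk_le_nonZeroDivisors x m.2
    exact (mem_nonZeroDivisors_iff.1 this).1 _ hm
  · rintro rfl
    exact ⟨1, mul_zero _⟩

/-- Let X be a scheme, U an open subset and V an open subset of U which is schematically dense in U (for
every open W ⊆ U, restriction of functions from W to W ∩ V is injective). Then restriction of
sections of the sheaf of meromorphic functions K_X from U to V is injective: the canonical map from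
meromorphic functions to pseudo-functions is injective. -/
theorem result (X : Scheme.{u}) (U V : X.Opens) (hVU : V ≤ U)
    (hV : ∀ W : X.Opens, W ≤ U →
      Function.Injective ⇑(X.presheaf.map (homOfLE (inf_le_left : W ⊓ V ≤ W)).op)) :
    Function.Injective ⇑((Mero.kmod X).presheaf.map (homOfLE hVU).op) := by
  rw [injective_iff_map_eq_zero]
  intro f hf
  apply Subtype.ext
  funext x
  change f.1 x = 0
  obtain ⟨W, hxW, i, a, b, hab⟩ := f.2 x
  have hWU : W ≤ U := i.le
  -- `a` vanishes on `W ⊓ V`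
  have ha : X.presheaf.map (homOfLE (inf_le_left : W ⊓ V ≤ W)).op a = 0 := by
    apply TopCat.Presheaf.section_ext X.sheaf (W ⊓ V)
    intro y hy
    change X.presheaf.germ (W ⊓ V) y hy _ = X.presheaf.germ (W ⊓ V) y hy 0
    rw [map_zero]
    have hyW : y ∈ W := hy.1
    have hyV : y ∈ V := hy.2
    have h1 := hab ⟨y, hyW⟩
    have h2 : ((Mero.kmod X).presheaf.map (homOfLE hVU).op f).1 ⟨y, hyV⟩ = 0 := by
      rw [hf]; rfl
    have h3 : ((Mero.kmod X).presheaf.map (homOfLE hVU).op f).1 ⟨y, hyV⟩ = f.1 ⟨y, hVU hyV⟩ := rfl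
    have h4 : f.1 ⟨y, hVU hyV⟩ = 0 := by rw [← h3, h2]
    have h5 : (LocalizedModule.mk (X.presheaf.germ W y hyW a) (Mero.regGerm ⟨y, hyW⟩ b) :
        Mero.KStalk X y) = 0 := by
      rw [← h4]; exact h1.symm
    rw [kmk_eq_zero_iff'] at h5
    rw [TopCat.Presheaf.germ_res_apply]
    exact h5
  have ha0 : a = 0 := hV W hWU (by rw [ha, map_zero])
  have h1 := hab ⟨x.1, hxW⟩
  have h6 : f.1 x = LocalizedModule.mk (X.presheaf.germ W x.1 hxW a) (Mero.regGerm ⟨x.1, hxW⟩ b) := h1
  rw [h6, ha0, map_zero, LocalizedModule.zero_mk]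

end Groth.Agent.S5085
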