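import Groth.Statements.S5092
import Groth.Agent.Lib.Helper23.RegPull2

set_option autoImplicit false
universe u
open CategoryTheory CategoryTheory.Limits AlgebraicGeometry TopologicalSpace
open Mero

namespace Groth.Agent.S5092

/-- Suppose X and Y are schemes, both locally Noetherian, and f : X → Y is a morphism carrying each
associated point of O_X (that is, a point whose local ring has its maximal ideal among its
associated primes) to an associated point of O_Y. Then, given any open subset U of Y and any regular
function s on U (one whose germ at each point of U is a non-zero-divisor), the function on f⁻¹(U)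
obtained by pulling s back along f is again regular; as a result, every meromorphic function and
every divisor on Y admits a well-defined pullback along f. -/
theorem result {X Y : Scheme.{u}} [IsLocallyNoetherian X] [IsLocallyNoetherian Y]
    (f : X ⟶ Y)
    (hf : ∀ x : ↥X, IsAssociatedPrime (IsLocalRing.maximalIdeal ↑(X.presheaf.stalk x)) ↑(X.presheaf.stalk x) →
      IsAssociatedPrime (IsLocalRing.maximalIdeal ↑(Y.presheaf.stalk (f x))) ↑(Y.presheaf.stalk (f x))) :
    ∀ (U : Y.Opens) (s : Γ(Y, U)), s ∈ Mero.regSub Y U → f.app U s ∈ Mero.regSub X (f ⁻¹ᵁ U) := by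
  open Groth.Agent.Helper23.RegPull in
  intro U s hs
  rintro ⟨x, hx⟩
  change X.presheaf.germ (f ⁻¹ᵁ U) x hx (f.app U s) ∈ nonZeroDivisors _
  by_contra hcon
  obtain ⟨q, hq, hmem⟩ := exists_mem_associatedPrimes_of_notMem_nonZeroDivisors _ hcon
  haveI : q.IsPrime := hq.isPrime
  obtain ⟨ξ, h, rfl⟩ := exists_generization_of_isPrime X x q
  have hass := maximalIdeal_mem_associatedPrimes_of_comap X h hq
  have hassY := hf ξ hass
  rw [Ideal.mem_comap] at hmem
  have hξU : ξ ∈ f ⁻¹ᵁ U := h.mem_open (f ⁻¹ᵁ U).2 hx
  have h1 : (X.presheaf.stalkSpecializes h).hom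
      (X.presheaf.germ (f ⁻¹ᵁ U) x hx (f.app U s)) =
      X.presheaf.germ (f ⁻¹ᵁ U) ξ hξU (f.app U s) := by
    rw [← CommRingCat.comp_apply, TopCat.Presheaf.germ_stalkSpecializes]
  rw [h1] at hmem
  have h2 : X.presheaf.germ (f ⁻¹ᵁ U) ξ hξU (f.app U s) =
      (f.stalkMap ξ).hom (Y.presheaf.germ U (f.base ξ) hξU s) := by
    rw [← CommRingCat.comp_apply, ← CommRingCat.comp_apply, Scheme.Hom.germ_stalkMap]
  have h3 : IsUnit (Y.presheaf.germ U (f.base ξ) hξU s) := by
    by_contra hu
    exact notMem_nonZeroDivisors_of_mem_associatedPrimes _ hassY _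
      ((IsLocalRing.mem_maximalIdeal _).2 hu) (hs ⟨f.base ξ, hξU⟩)
  have h4 := h3.map (f.stalkMap ξ).hom
  rw [← h2] at h4
  exact (IsLocalRing.mem_maximalIdeal _).1 hmem h4

end Groth.Agent.S5092
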