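import Groth.Statements.S5093
import Groth.Agent.Lib.Helper23.RegPull

set_option autoImplicit false
universe u
open CategoryTheory CategoryTheory.Limits AlgebraicGeometry TopologicalSpace
open Mero

namespace Groth.Agent.S5093

/-- Let f : X → Y be a morphism of schemes such that the set of irreducible components of Y is locally
finite, X is reduced, and every irreducible component of X dominates an irreducible component of Y
(f sends every maximal point of X, i.e. every point with no proper generization, to a maximal point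
of Y). Then for every open subset U of Y and every regular function s on U (germ a non-zero-divisor
at every point of U), the pulled-back function on f⁻¹(U) is regular; consequently the pullback along
f of every meromorphic function and of every divisor on Y is defined. -/
theorem result {X Y : Scheme.{u}} [IsReduced X] (f : X ⟶ Y)
    (hY : ∀ y : ↥Y, ∃ W : Y.Opens, y ∈ W ∧
      {Z : Set ↥Y | Z ∈ irreducibleComponents ↥Y ∧ (Z ∩ (W : Set ↥Y)).Nonempty}.Finite)
    (hf : ∀ ξ : ↥X, (∀ z : ↥X, z ⤳ ξ → z = ξ) → ∀ z : ↥Y, z ⤳ f ξ → z = f ξ) :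
    ∀ (U : Y.Opens) (s : Γ(Y, U)), s ∈ Mero.regSub Y U → f.app U s ∈ Mero.regSub X (f ⁻¹ᵁ U) := by
  open Groth.Agent.Helper23.RegPull in
  intro U s hs
  rintro ⟨x, hx⟩
  change X.presheaf.germ (f ⁻¹ᵁ U) x hx (f.app U s) ∈ nonZeroDivisors _
  apply mem_nonZeroDivisors_of_forall_notMem_minimalPrimes
  intro q hq hmem
  obtain ⟨ξ, h, hmax, rfl⟩ := exists_maximalPoint_of_mem_minimalPrimes X x q hq
  rw [Ideal.mem_comap] at hmem
  have hξU : ξ ∈ f ⁻¹ᵁ U := h.mem_open (f ⁻¹ᵁ U).2 hx
  have h1 : (X.presheaf.stalkSpecializes h).hom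
      (X.presheaf.germ (f ⁻¹ᵁ U) x hx (f.app U s)) =
      X.presheaf.germ (f ⁻¹ᵁ U) ξ hξU (f.app U s) := by
    rw [← CommRingCat.comp_apply, TopCat.Presheaf.germ_stalkSpecializes]
  rw [h1] at hmem
  have h2 : X.presheaf.germ (f ⁻¹ᵁ U) ξ hξU (f.app U s) =
      (f.stalkMap ξ).hom (Y.presheaf.germ U (f.base ξ) hξU s) := by
    rw [← CommRingCat.comp_apply, ← CommRingCat.comp_apply, Scheme.Hom.germ_stalkMap]
  have h3 : IsUnit (Y.presheaf.germ U (f.base ξ) hξU s) :=
    isUnit_of_mem_nonZeroDivisors_of_maximalPoint Y _ (hf ξ hmax) _ (hs ⟨f.base ξ, hξU⟩)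
  have h4 := h3.map (f.stalkMap ξ).hom
  rw [← h2] at h4
  exact (IsLocalRing.mem_maximalIdeal _).1 hmem h4

end Groth.Agent.S5093
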