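import Groth.Statements.S5097
-- import your own Groth.Agent.* helpers here

set_option autoImplicit false
universe u
open CategoryTheory CategoryTheory.Limits AlgebraicGeometry TopologicalSpace
open Mero

namespace Groth.Agent.S5097

section helpers
variable {X : Scheme.{u}}

/-- an element of `K_{X,x}ˣ` which, with its inverse, comes from `O_{X,x}` is in `stalkUnits`. -/
theorem mem_stalkUnits_of_range {x : X} (a : (Mero.KStalk X x)ˣ)
    (h1 : (a : Mero.KStalk X x) ∈ (algebraMap (X.presheaf.stalk x) (Mero.KStalk X x)).range)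
    (h2 : ((a⁻¹ : (Mero.KStalk X x)ˣ) : Mero.KStalk X x) ∈
      (algebraMap (X.presheaf.stalk x) (Mero.KStalk X x)).range) :
    a ∈ Mero.stalkUnits X x := by
  obtain ⟨r, hr⟩ := h1
  obtain ⟨s, hs⟩ := h2
  have hrs : r * s = 1 := by
    apply Mero.algebraMap_KStalk_injective x
    rw [map_mul, hr, hs, map_one, ← Units.val_mul, mul_inv_cancel, Units.val_one]
  have hsr : s * r = 1 := by rw [mul_comm, hrs]
  refine ⟨⟨r, s, hrs, hsr⟩, ?_⟩
  apply Units.ext
  exact hr

/-- `f⁻¹` satisfies the divisor condition for `D` where `D` is the divisor of `f`. -/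
theorem divCond_inv {D : Mero.Divisor X} {x : X} (a : (Mero.KStalk X x)ˣ)
    (hD : D.1 x = QuotientGroup.mk a) :
    Mero.DivCond D x ((a⁻¹ : (Mero.KStalk X x)ˣ) : Mero.KStalk X x) := by
  intro g hg
  rw [hD, QuotientGroup.eq] at hg
  obtain ⟨o, ho⟩ := hg
  refine ⟨(o : X.presheaf.stalk x), ?_⟩
  rw [← Units.val_mul, ← ho]
  rfl

/-- key local step: if `O(D) ⊆ O(D')` then `f⁻¹ f' ∈ O_{X,x}` -/
theorem key (D D' : Mero.Divisor X)
    (h : ∀ (U : X.Opens) (t : Γ(Mero.kmod X, U)),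
      (∀ x : ↥U, Mero.DivCond D x.1 (t.1 x)) → (∀ x : ↥U, Mero.DivCond D' x.1 (t.1 x)))
    (x : X) (U : X.Opens) (hx : x ∈ U) (f : (Γ(Mero.kmod X, U))ˣ)
    (hU : ∀ y : U, D.1 y.1 = Mero.germOf f y)
    (a' : (Mero.KStalk X x)ˣ) (ha' : D'.1 x = QuotientGroup.mk a') :
    (((Units.map (Mero.evalK X U ⟨x, hx⟩).toMonoidHom f)⁻¹ * a' : (Mero.KStalk X x)ˣ) :
      Mero.KStalk X x) ∈ (algebraMap (X.presheaf.stalk x) (Mero.KStalk X x)).range := by
  have h1 := h U ((f⁻¹ : (Γ(Mero.kmod X, U))ˣ) : Γ(Mero.kmod X, U)) (fun y => by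
    have := divCond_inv (D := D) (Units.map (Mero.evalK X U y).toMonoidHom f) (hU y)
    have e : (Units.map (Mero.evalK X U y).toMonoidHom f)⁻¹ =
        Units.map (Mero.evalK X U y).toMonoidHom f⁻¹ := (map_inv _ f).symm
    rw [e] at this
    exact this) ⟨x, hx⟩ a' ha'
  have e : (Units.map (Mero.evalK X U ⟨x, hx⟩).toMonoidHom f)⁻¹ =
      Units.map (Mero.evalK X U ⟨x, hx⟩).toMonoidHom f⁻¹ := (map_inv _ f).symm
  rw [e, Units.val_mul]
  exact h1

end helpers

/-- Injectivity of the canonical homomorphism from divisors to invertible fractional ideals: let X be a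
scheme and D, D' two divisors on X such that, over every open subset U, a section t of the sheaf of
meromorphic functions lies in O_X(D) (t_x · g ∈ O_{X,x} for a representative g of the germ of D at
x, for all x in U) if and only if it lies in O_X(D'). Then D = D'. -/
theorem result (X : Scheme.{u}) (D D' : Mero.Divisor X)
    (h : ∀ (U : X.Opens) (t : Γ(Mero.kmod X, U)),
      (∀ x : ↥U, Mero.DivCond D x.1 (t.1 x)) ↔ (∀ x : ↥U, Mero.DivCond D' x.1 (t.1 x))) :
    D = D' := by
  apply Subtype.ext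
  funext x
  obtain ⟨U, hx, f, hU⟩ := D.2 x
  obtain ⟨V, hx', f', hV⟩ := D'.2 x
  have hDx := hU ⟨x, hx⟩
  have hD'x := hV ⟨x, hx'⟩
  have k1 := key D D' (fun U t => (h U t).mp) x U hx f hU _ hD'x
  have k2 := key D' D (fun U t => (h U t).mpr) x V hx' f' hV _ hDx
  rw [hDx, hD'x]
  rw [Mero.germOf, Mero.germOf, QuotientGroup.eq]
  apply mem_stalkUnits_of_range _ k1
  rw [mul_inv_rev, inv_inv]
  exact k2

end Groth.Agent.S5097
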