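import Groth.Statements.S5098
import Groth.Agent.Lib.Helper23.MeroD5

set_option autoImplicit false
universe u
open CategoryTheory CategoryTheory.Limits AlgebraicGeometry TopologicalSpace
open Mero

namespace Groth.Agent.S5098

/-- General form, for divisors on a scheme that need not be integral: let X be a locally Noetherian
scheme and D a divisor on X. If the germ of D is effective (resp. trivial) at every point x whose
local ring O_{X,x} has depth 1, then D is effective (resp. D is the unit divisor, in the
multiplicative notation used here). -/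
theorem result (X : Scheme.{u}) [IsLocallyNoetherian X] (D : Mero.Divisor X) :
    ((∀ x : ↥X, LocCoh.depth ↑(X.presheaf.stalk x) ↑(X.presheaf.stalk x) = 1 → Mero.IsEffectiveAt D x) →
        Mero.IsEffective D) ∧
      ((∀ x : ↥X, LocCoh.depth ↑(X.presheaf.stalk x) ↑(X.presheaf.stalk x) = 1 → D.1 x = 1) → D = 1) := by
  classical
  open Groth.Agent.Helper23.CDivDepth Groth.Agent.Helper23.DepthExt in
  refine ⟨fun H x => ?_, fun H => ?_⟩
  · obtain ⟨W, a, b, ha, hb, hxW, hrep⟩ := exists_local_rep D x
    rw [isEffectiveAt_iff D W a b ha hb hrep x hxW]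
    refine germ_dvd_of_depth_one W a b
      (fun z hz => mem_nonZeroDivisors_iff_left.1 (hb ⟨z, hz⟩)) x hxW fun z hz hd => ?_
    rw [← isEffectiveAt_iff D W a b ha hb hrep z (hz.mem_open W.2 hxW)]
    exact H z hd
  · apply Subtype.ext
    funext x
    obtain ⟨W, a, b, ha, hb, hxW, hrep⟩ := exists_local_rep D x
    have hone := germ_eq_one_iff D W a b ha hb hrep
    change D.1 x = 1
    rw [hone x hxW]
    refine ⟨germ_dvd_of_depth_one W a b
        (fun z hz => mem_nonZeroDivisors_iff_left.1 (hb ⟨z, hz⟩)) x hxW fun z hz hd => ?_,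
      germ_dvd_of_depth_one W b a
        (fun z hz => mem_nonZeroDivisors_iff_left.1 (ha ⟨z, hz⟩)) x hxW fun z hz hd => ?_⟩
    · exact ((hone z (hz.mem_open W.2 hxW)).1 (H z hd)).1
    · exact ((hone z (hz.mem_open W.2 hxW)).1 (H z hd)).2

end Groth.Agent.S5098
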