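import Groth.Statements.S5099
import Groth.Agent.Lib.Helper23.MeroD5

set_option autoImplicit false
universe u
open CategoryTheory CategoryTheory.Limits AlgebraicGeometry TopologicalSpace
open Mero

namespace Groth.Agent.S5099

/-- General form, for divisors on a scheme that need not be integral: let X be a locally Noetherian
scheme, D a divisor on X and x a maximal point of the support of D (a point at which the germ of D
is not trivial and none of whose proper generizations has that property). Then the local ring of X
at x has depth 1. -/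
theorem result (X : Scheme.{u}) [IsLocallyNoetherian X] (D : Mero.Divisor X)
    (x : ↥X) (hx : x ∈ Mero.supp D) (hmax : ∀ z : ↥X, z ∈ Mero.supp D → z ⤳ x → z = x) :
    LocCoh.depth ↑(X.presheaf.stalk x) ↑(X.presheaf.stalk x) = 1 := by
  classical
  open Groth.Agent.Helper23.CDivDepth Groth.Agent.Helper23.DepthExt in
  obtain ⟨W, a, b, ha, hb, hxW, hrep⟩ := exists_local_rep D x
  have hx' : D.1 x ≠ 1 := hx
  have hone := germ_eq_one_iff D W a b ha hb hrep
  have hax : ∀ t, X.presheaf.germ W x hxW a * t = 0 → t = 0 :=
    mem_nonZeroDivisors_iff_left.1 (ha ⟨x, hxW⟩)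
  have hbx : ∀ t, X.presheaf.germ W x hxW b * t = 0 → t = 0 :=
    mem_nonZeroDivisors_iff_left.1 (hb ⟨x, hxW⟩)
  rcases depth_cases (X.presheaf.stalk x) with h0 | h1 | h2
  · exfalso
    apply hx'
    rw [hone x hxW]
    have hua : IsUnit (X.presheaf.germ W x hxW a) := by
      by_contra hu
      exact h0 ⟨_, hu, hax⟩
    have hub : IsUnit (X.presheaf.germ W x hxW b) := by
      by_contra hu
      exact h0 ⟨_, hu, hbx⟩
    exact ⟨hub.dvd, hua.dvd⟩
  · exact h1
  · exfalso
    apply hx'
    have hW : ∀ (z : X) (hz : z ⤳ x), z ≠ x → D.1 z = 1 := by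
      intro z hz hne
      by_contra hcon
      exact hne (hmax z hcon hz)
    rw [hone x hxW]
    refine ⟨germ_dvd_of_generizations W a b x hxW h2 hbx fun z hz hne => ?_,
      germ_dvd_of_generizations W b a x hxW h2 hax fun z hz hne => ?_⟩
    · exact ((hone z (hz.mem_open W.2 hxW)).1 (hW z hz hne)).1
    · exact ((hone z (hz.mem_open W.2 hxW)).1 (hW z hz hne)).2

end Groth.Agent.S5099
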