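import Groth.Statements.S5107
import Mathlib
import Groth.Agent.Lib.Helper14.SDLimC
-- import your own Groth.Agent.* helpers here

set_option autoImplicit false
universe u
open CategoryTheory CategoryTheory.Limits AlgebraicGeometry TopologicalSpace
open Lim8

namespace Groth.Agent.S5107

open Groth.Agent.Helper6 Groth.Agent.Helper14.LimMod Groth.Agent.Helper14.HomLim Groth.Agent.Helper14.SDLim

/-- Let (X_i) be a cofiltered system of Noetherian schemes with affine and flat transition morphisms, X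
its limit, assumed Noetherian as well, and U₀ an open subset of X_{i₀}, with inverse images U_i in
X_i (for i over i₀) and U in X. Then U is schematically dense in X if and only if there is an index
i over i₀ such that U_i is schematically dense in X_i (and then, the transition morphisms being
flat, U_j is schematically dense in X_j for every j over i). -/
theorem result {I : Type u} [SmallCategory I]
    [IsCofiltered I] (D : I ⥤ Scheme.{u}) (c : Limits.Cone D) (hc : Limits.IsLimit c)
    [∀ (i j : I) (g : i ⟶ j), IsAffineHom (D.map g)] [∀ (i j : I) (g : i ⟶ j), Flat (D.map g)]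
    [∀ i : I, IsNoetherian (D.obj i)] [IsNoetherian c.pt] (i₀ : I) (U₀ : (D.obj i₀).Opens) :
    CInt.IsSchematicallyDense ((c.π.app i₀) ⁻¹ᵁ U₀) ↔
      ∃ (i : I) (g : i ⟶ i₀), CInt.IsSchematicallyDense ((D.map g) ⁻¹ᵁ U₀) := by
  classical
  haveI : ∀ {i j : I} (f : i ⟶ j), IsAffineHom (D.map f) := fun f => inferInstance
  have hfl : ∀ {i j : I} (f : i ⟶ j), Flat (D.map f) := fun f => inferInstance
  constructor
  · intro hdense
    -- for every affine open of `D i₀`, a stage from which on density holds over its preimage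
    have key : ∀ W : (D.obj i₀).affineOpens, ∃ l : Over i₀, ∀ (l' : Over i₀) (_ : l' ⟶ l)
        (V : (D.obj l'.left).Opens), V ≤ D.map l'.hom ⁻¹ᵁ W.1 →
          ResInj (D.map l'.hom ⁻¹ᵁ U₀) V := by
      intro W
      haveI : IsNoetherianRing Γ(D.obj i₀, W.1) := IsLocallyNoetherian.component_noetherian W
      have hT : IsCompact ((W.1 ⊓ U₀ : (D.obj i₀).Opens) : Set (D.obj i₀)) :=
        TopologicalSpace.NoetherianSpace.isCompact _
      obtain ⟨s, hs1, hs2⟩ := exists_finset_basicOpen W.2 (W.1 ⊓ U₀) hT inf_le_left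
      have hR := relCond_of_resInj (c.π.app i₀) s U₀ hs2 (hdense (c.π.app i₀ ⁻¹ᵁ W.1))
      obtain ⟨l, hl⟩ := exists_stage_relCond_limit D c hc hfl i₀ W.2 s hR
      refine ⟨l, fun l' u V hV => ?_⟩
      exact resInj_of_relCond (D.map l'.hom) (isAffineOpen_preU D i₀ W.2 l') s U₀
        (fun f hf => (hs1 f hf).trans inf_le_right) (hl l' u) V hV
    choose l hl using key
    obtain ⟨S, hSfin, hS⟩ := (isCompact_iff_finite_and_eq_biUnion_affineOpens
      (U := (⊤ : (D.obj i₀).Opens))).mp (by
        rw [Opens.coe_top]; exact CompactSpace.isCompact_univ)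
    obtain ⟨k, hk⟩ := IsCofiltered.inf_objs_exists (hSfin.toFinset.image l)
    refine ⟨k.left, k.hom, ?_⟩
    apply isSchematicallyDense_of_local
    intro x
    have hx : (D.map k.hom) x ∈ (⊤ : (D.obj i₀).Opens) := trivial
    rw [hS] at hx
    obtain ⟨W, hx⟩ := Opens.mem_iSup.mp hx
    obtain ⟨hWS, hxW⟩ := Opens.mem_iSup.mp hx
    obtain ⟨u⟩ := hk (Finset.mem_image_of_mem l (hSfin.mem_toFinset.mpr hWS))
    exact ⟨D.map k.hom ⁻¹ᵁ W.1, hxW, fun V hV => hl W k u V hV⟩
  · rintro ⟨i, g, hdense⟩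
    have hU : c.π.app i₀ ⁻¹ᵁ U₀ = c.π.app i ⁻¹ᵁ (D.map g ⁻¹ᵁ U₀) := by
      rw [← Scheme.Hom.comp_preimage, c.w]
    rw [hU]
    apply isSchematicallyDense_of_local
    intro x
    obtain ⟨_, ⟨W, hW, rfl⟩, hxW, -⟩ :=
      (D.obj i).isBasis_affineOpens.exists_subset_of_mem_open
        (Set.mem_univ (c.π.app i x)) isOpen_univ
    have hT : IsCompact ((W ⊓ D.map g ⁻¹ᵁ U₀ : (D.obj i).Opens) : Set (D.obj i)) :=
      TopologicalSpace.NoetherianSpace.isCompact _
    obtain ⟨s, hs1, hs2⟩ := exists_finset_basicOpen hW (W ⊓ D.map g ⁻¹ᵁ U₀) hT inf_le_left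
    have hR0 := relCond_of_resInj (𝟙 (D.obj i)) s (D.map g ⁻¹ᵁ U₀) hs2 (hdense W)
    have hR : RingCond s := by
      intro b hb
      apply hR0 b
      intro f hf
      obtain ⟨n, hn⟩ := hb f hf
      exact ⟨n, hn⟩
    have hR' := relCond_limit D c hc hfl i hW s hR
    exact ⟨c.π.app i ⁻¹ᵁ W, hxW, fun V hV => resInj_of_relCond (c.π.app i)
      (isAffineOpen_preUpt D c hc i hW) s (D.map g ⁻¹ᵁ U₀)
      (fun f hf => (hs1 f hf).trans inf_le_right) hR' V hV⟩

end Groth.Agent.S5107
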