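import Groth.Statements.S5108
import Mathlib
import Groth.Agent.Lib.Helper14.CondWD
import Groth.Agent.Lib.Helper14.CondWE
-- import your own Groth.Agent.* helpers here

set_option autoImplicit false
universe u
open CategoryTheory CategoryTheory.Limits AlgebraicGeometry TopologicalSpace
open Pur21

namespace Groth.Agent.S5108

/-- Let X and Y be locally Noetherian schemes, g : X → Y a morphism, y a closed point of Y and Y' = Y −
{y}; suppose that the restriction g⁻¹(Y') → Y' of g is an open immersion and that the local ring
O_{Y,y} satisfies condition (W): every open subset U of the punctured spectrum of O_{Y,y} which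
contains no irreducible component of the punctured spectrum and whose inclusion into the punctured
spectrum is an affine morphism is itself affine. Then for every irreducible component Z of the fibre
g⁻¹(y), with generic point z (a point over y with no proper generization over y), either Z has
codimension ≤ 1 in X (dim O_{X,z} ≤ 1) or z is isolated in Z (some open neighbourhood of z contains
no other point of Z). The morphism g is not assumed locally of finite type. (The published statement
adds that, when the component is locally of finite type over the residue field of y, the second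
alternative forces it to be a single point; this row omits that clause.) -/
theorem result {X Y : Scheme.{u}}
    [IsLocallyNoetherian X] [IsLocallyNoetherian Y] (g : X ⟶ Y) (y : ↥Y) (Y' : Y.Opens)
    (hY' : (Y' : Set ↥Y) = {y}ᶜ) [IsOpenImmersion (g ∣_ Y')]
    (hW : (∀ U : (Spec (Y.presheaf.stalk y)).Opens, ∀ hU : U ≤ FEt.puncturedSpec ↑(Y.presheaf.stalk y),
        (∀ T ∈ irreducibleComponents ↥(FEt.puncturedSpec ↑(Y.presheaf.stalk y)), ¬ Subtype.val '' T ⊆ (U : Set _)) →
        IsAffineHom ((Spec (Y.presheaf.stalk y)).homOfLE hU) → IsAffineOpen U))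
    (z : ↥X) (hz : g z = y) (hmax : ∀ z' : ↥X, g z' = y → z' ⤳ z → z' = z) :
    ringKrullDim ↑(X.presheaf.stalk z) ≤ 1 ∨
      ∃ O : X.Opens, z ∈ O ∧ ∀ z' : ↥X, z' ∈ O → g z' = y → z ⤳ z' → z' = z := by
  classical
  subst hz
  by_contra hcon
  push Not at hcon
  obtain ⟨hdim, hniso⟩ := hcon
  obtain ⟨z', -, hgz', hzz', hne⟩ := hniso ⊤ trivial
  obtain ⟨T, hT, hsecT⟩ :=
    Groth.Agent.Helper14.CondW.exists_component_section g z Y' hY' hW hmax (not_le_of_gt hdim)
  haveI : QuasiSober ↥(FEt.puncturedSpec ↑(Y.presheaf.stalk (g z))) :=
    ((FEt.puncturedSpec ↑(Y.presheaf.stalk (g z))).isOpen.isOpenEmbedding_subtypeVal).quasiSober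
  obtain ⟨p₀, hp₀⟩ := QuasiSober.sober hT.1 (isClosed_of_mem_irreducibleComponents T hT)
  refine Groth.Agent.Helper14.CondW.false_of_section' g (g z) z' hgz' Y' hY' z hzz' hne.symm rfl
    p₀.1 p₀.2 ?_
  intro t hpt ht
  have hmem : (⟨t, ht⟩ : ↥(FEt.puncturedSpec ↑(Y.presheaf.stalk (g z)))) ∈ T := by
    rw [← hp₀.def, ← specializes_iff_mem_closure]
    exact (subtype_specializes_iff _ _).mpr ((PrimeSpectrum.le_iff_specializes _ _).mp hpt)
  exact hsecT ⟨t, ht⟩ hmem

end Groth.Agent.S5108
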