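import Groth.Statements.S5111
import Groth.Agent.Lib.Helper4.PrescRed2

set_option autoImplicit false
universe u
open CategoryTheory CategoryTheory.Limits AlgebraicGeometry TopologicalSpace
open Rat20

namespace Groth.Agent.S5111

/-- Let S and X be locally Noetherian schemes, f : X → S a flat morphism, g : Y → S a morphism locally
of finite type, U a dense open subset of S, h : f⁻¹(U) → Y an S-morphism, Z the reduced closed
subscheme of X with underlying space f⁻¹(S − U), and h₀ : Z → Y an S-morphism; suppose X is normal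
at every point of Z. Then there is an S-morphism h' : X → Y extending h and inducing h₀ on Z if and
only if: for every spectrum S₁ of a discrete valuation ring and every morphism u : S₁ → S sending
the closed point outside U and the generic point into U, there is an S₁-morphism h'₁ : X ×_S S₁ → Y
×_S S₁ which extends the base change of h on the inverse image of U and which, at every point z₁ of
Z ×_S S₁, agrees on Spec k(z₁) with the base change of h₀. (Morphisms into Y ×_S S₁ over S₁ are
compared through their components in Y.) -/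
theorem result {X Y S : Scheme.{u}} [IsLocallyNoetherian S]
    [IsLocallyNoetherian X] (f : X ⟶ S) [Flat f] (g : Y ⟶ S) [LocallyOfFiniteType g]
    (U : S.Opens) (hU : Dense (U : Set ↥S)) (h : ↑(f ⁻¹ᵁ U) ⟶ Y) (hh : h ≫ g = (f ⁻¹ᵁ U).ι ≫ f)
    (Z : Scheme.{u}) (iZ : Z ⟶ X) [IsClosedImmersion iZ] [IsReduced Z]
    (hZ : Set.range ⇑iZ = ((f ⁻¹ᵁ U : X.Opens) : Set ↥X)ᶜ) (h₀ : Z ⟶ Y) (hh₀ : h₀ ≫ g = iZ ≫ f)
    (hnorm : ∀ z : ↥Z, IsDomain ↑(X.presheaf.stalk (iZ z)) ∧ IsIntegrallyClosed ↑(X.presheaf.stalk (iZ z))) :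
    (∃ h' : X ⟶ Y, h' ≫ g = f ∧ (f ⁻¹ᵁ U).ι ≫ h' = h ∧ iZ ≫ h' = h₀) ↔
      ∀ (R : Type u) [CommRing R] [IsDomain R] [IsDiscreteValuationRing R]
        (u : Spec (CommRingCat.of R) ⟶ S),
        u (IsLocalRing.closedPoint R) ∉ U → u (genericPoint ↥(Spec (CommRingCat.of R))) ∈ U →
        ∃ h₁ : pullback f u ⟶ pullback g u,
          h₁ ≫ pullback.snd g u = pullback.snd f u ∧
          ((pullback.fst f u) ⁻¹ᵁ (f ⁻¹ᵁ U)).ι ≫ h₁ ≫ pullback.fst g u = (pullback.fst f u ∣_ (f ⁻¹ᵁ U)) ≫ h ∧
          ∀ z₁ : ↥(pullback (iZ ≫ f) u),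
            (pullback (iZ ≫ f) u).fromSpecResidueField z₁ ≫
                pullback.lift (pullback.fst (iZ ≫ f) u ≫ iZ) (pullback.snd (iZ ≫ f) u)
                  ((Category.assoc _ _ _).trans pullback.condition) ≫ h₁ ≫ pullback.fst g u =
              (pullback (iZ ≫ f) u).fromSpecResidueField z₁ ≫ pullback.fst (iZ ≫ f) u ≫ h₀ := by
  constructor
  · rintro ⟨h', h'g, h'U, h'Z⟩ R _ _ _ u hucl hugen
    refine ⟨pullback.map f u g u h' (𝟙 _) (𝟙 _) (by rw [Category.comp_id, h'g])
      (by rw [Category.comp_id, Category.id_comp]), ?_, ?_, ?_⟩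
    · rw [pullback.lift_snd, Category.comp_id]
    · rw [pullback.lift_fst, ← Category.assoc, ← morphismRestrict_ι, Category.assoc, h'U]
    · intro z₁
      rw [pullback.lift_fst, pullback.lift_fst_assoc, Category.assoc, h'Z]
  · intro HD
    have hdense : Dense ((f ⁻¹ᵁ U : X.Opens) : Set X) := by
      intro x
      obtain ⟨t, htU, -, htx⟩ :=
        Groth.Agent.Helper4.SecDVR.exists_specializes_of_mem_closure_inter U Set.univ
          isClosed_univ (f x) (by rw [Set.inter_univ]; exact hU (f x))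
      obtain ⟨x', hx', hfx'⟩ := (Flat.generalizingMap f) htx
      have hmem : x' ∈ ((f ⁻¹ᵁ U : X.Opens) : Set X) := by
        change f x' ∈ U
        rw [hfx']
        exact htU
      exact closure_mono (Set.singleton_subset_iff.mpr hmem) (specializes_iff_mem_closure.mp hx')
    have H : ∀ (z : Z) {L : Type u} [Field L] (A : ValuationSubring L)
        [IsDiscreteValuationRing A] (a : Spec (CommRingCat.of A) ⟶ X),
        a (IsLocalRing.closedPoint A) = iZ z →
        ∀ ubL : Spec (CommRingCat.of L) ⟶ ((f ⁻¹ᵁ U : X.Opens) : Scheme.{u}),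
          ubL ≫ (f ⁻¹ᵁ U).ι = Spec.map (CommRingCat.ofHom A.subtype) ≫ a →
          ∃ h₁ : Spec (CommRingCat.of A) ⟶ pullback f g, h₁ ≫ pullback.fst f g = a ∧
            h₁ (IsLocalRing.closedPoint A) = (pullback.lift iZ h₀ hh₀.symm) z ∧
            Spec.map (CommRingCat.ofHom A.subtype) ≫ h₁ =
              ubL ≫ pullback.lift (f ⁻¹ᵁ U).ι h hh.symm := by
      intro z L _ A _ a haC ubL hub
      have hucl : (a ≫ f) (IsLocalRing.closedPoint A) ∉ U := by
        rw [Scheme.Hom.comp_apply, haC]
        have : iZ z ∈ Set.range iZ := ⟨z, rfl⟩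
        rw [hZ] at this
        exact this
      have hugen : (a ≫ f) (genericPoint ↥(Spec (CommRingCat.of A))) ∈ U := by
        let pt : Spec (CommRingCat.of L) := IsLocalRing.closedPoint L
        have hsp : genericPoint ↥(Spec (CommRingCat.of A)) ⤳
            (Spec.map (CommRingCat.ofHom A.subtype)) pt :=
          (genericPoint_spec _).specializes trivial
        refine (hsp.map (a ≫ f).continuous).mem_open U.isOpen ?_
        rw [← Scheme.Hom.comp_apply, ← Category.assoc, ← hub, Category.assoc,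
          Scheme.Hom.comp_apply]
        exact (ubL pt).2
      obtain ⟨h₁, H1, H2, H3⟩ := HD A (a ≫ f) hucl hugen
      exact Groth.Agent.Helper4.PrescRed.lift_of_baseChange f g U h hh iZ h₀ hh₀ A a z haC ubL hub
        (a ≫ f) rfl h₁ H1 H2 H3
    obtain ⟨s, hs1, hs2, hs3⟩ := Groth.Agent.Helper4.PrescRed.exists_section_of_forall_dvr
      (pullback.fst f g) (f ⁻¹ᵁ U) hdense (pullback.lift (f ⁻¹ᵁ U).ι h hh.symm)
      (pullback.lift_fst _ _ _) iZ hZ (pullback.lift iZ h₀ hh₀.symm) (pullback.lift_fst _ _ _)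
      hnorm H
    refine ⟨s ≫ pullback.snd f g, ?_, ?_, ?_⟩
    · rw [Category.assoc, ← pullback.condition, ← Category.assoc, hs1, Category.id_comp]
    · rw [← Category.assoc, hs2, pullback.lift_snd]
    · rw [← Category.assoc, hs3, pullback.lift_snd]

end Groth.Agent.S5111
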