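import Groth.Statements.S5114
import Groth.Agent.Lib.Helper22.SubmFam

set_option autoImplicit false
universe u
open SGA1

namespace Groth.Agent.S5114

open AlgebraicGeometry CategoryTheory CategoryTheory.Limits in
/-- Let A be a complete Noetherian local ring, S = Spec A, and g : S' ⟶ S a surjective morphism of
finite type whose fibre over the closed point s is finite. If every point of S' specialises to some
point of the fibre over s (equivalently: the disjoint union of the spectra of the local rings of S'
at the points over s maps onto S'), then g is universally submersive. (The published statement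
asserts an equivalence and does not mention surjectivity of g; the converse fails: for A a complete
discrete valuation ring with fraction field K, S' = S ⊔ Spec K ⟶ S has a section, hence is
universally submersive, while the isolated point Spec K specialises to no point over s. This row
states the implication the published proof establishes, with the surjectivity it uses.) -/
theorem result (A : Type u) [CommRing A]
    [IsNoetherianRing A] [IsLocalRing A] [IsAdicComplete (IsLocalRing.maximalIdeal A) A]
    {S' : Scheme.{u}} (g : S' ⟶ Spec (CommRingCat.of A)) [LocallyOfFiniteType g] [QuasiCompact g]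
    [Surjective g]
    (hfin : (g.base ⁻¹' {IsLocalRing.closedPoint A}).Finite)
    (hsp : ∀ t : S', ∃ s' : S', g.base s' = IsLocalRing.closedPoint A ∧ t ⤳ s') :
    SGA1.UnivSubmersive g := by
  haveI : Finite ↑(g.base ⁻¹' {IsLocalRing.closedPoint A}) := hfin.to_subtype
  refine Groth.Agent.Helper22.SubmFam.univSubmersive_of_family g
    (ι := ↑(g.base ⁻¹' {IsLocalRing.closedPoint A}))
    (fun x => Spec (S'.presheaf.stalk x.1)) (fun x => S'.fromSpecStalk x.1) (fun x => ?_)
    (fun s => ?_)
  · have hx : g x.1 = IsLocalRing.closedPoint A := x.2
    have hq : g.QuasiFiniteAt x.1 :=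
      Groth.Agent.Helper22.SubmFam.quasiFiniteAt_of_finite_fiber g x.1 (by
        rw [hx]; exact hfin)
    haveI : IsFinite (S'.fromSpecStalk x.1 ≫ g) :=
      Groth.Agent.Helper22.SubmFam.isFinite_fromSpecStalk_comp A S' g x.1 hx hq
    infer_instance
  · obtain ⟨t, rfl⟩ := g.surjective s
    obtain ⟨s', hs', hts⟩ := hsp t
    have hmem : t ∈ Set.range (S'.fromSpecStalk s') := by
      rw [Scheme.range_fromSpecStalk]; exact hts
    obtain ⟨τ, hτ⟩ := hmem
    exact ⟨⟨s', hs'⟩, τ, by rw [hτ]⟩

end Groth.Agent.S5114
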