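import Groth.Statements.S5119


set_option autoImplicit false
universe u
open scoped LaurentPolynomial
open SGA1t

namespace Groth.Agent.S5119

/-- The computation behind the exactness of the Kummer sequence 0 → μ_n → G_m → G_m → 0, i.e. faithful
flatness of the n-th power map u_n of G_m: Let A be a commutative ring and n ≥ 1, and let u_n be the
ring endomorphism of A[t, t⁻¹] with u_n(t) = t^n (on monomials, t^k ↦ t^{nk}). Then A[t, t⁻¹] is
free of rank n over itself via u_n, with basis 1, t, …, t^{n−1}: every Laurent polynomial q can be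
written in exactly one way as Σ_{i<n} u_n(c_i) t^i. -/
theorem result (A : Type u) [CommRing A] (n : ℕ) (hn : 1 ≤ n) (q : A[T;T⁻¹]) :
    ∃! c : Fin n → A[T;T⁻¹],
      q = ∑ i : Fin n, (AddMonoidAlgebra.mapDomainRingHom A (AddMonoidHom.mulLeft (n : ℤ)) : A[T;T⁻¹] →+* A[T;T⁻¹]) (c i) *
        LaurentPolynomial.T (i : ℤ) := by
  classical
  have hn0 : (n : ℤ) ≠ 0 := by exact_mod_cast (Nat.pos_of_ne_zero (by omega)).ne'
  have hnpos : (0 : ℤ) < n := by exact_mod_cast (show 0 < n by omega)
  set u : A[T;T⁻¹] →+* A[T;T⁻¹] :=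
    AddMonoidAlgebra.mapDomainRingHom A (AddMonoidHom.mulLeft (n : ℤ)) with hu
  set e : ℤ → ℤ → ℤ := fun i k => (n : ℤ) * k + i with he
  have hinj : ∀ i : ℤ, Function.Injective (e i) := by
    intro i k k' h
    simp only [he, add_left_inj] at h
    exact mul_left_cancel₀ hn0 h
  -- the coefficients of `u c * T i`
  have hcoeff : ∀ (c : A[T;T⁻¹]) (i : ℤ),
      (u c * LaurentPolynomial.T i).coeff = Finsupp.mapDomain (e i) c.coeff := by
    intro c i
    induction c using AddMonoidAlgebra.induction_linear with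
    | zero => simp
    | add x y hx hy =>
      rw [map_add, add_mul, AddMonoidAlgebra.coeff_add, hx, hy, AddMonoidAlgebra.coeff_add,
        Finsupp.mapDomain_add]
    | single k a =>
      have h1 : u (AddMonoidAlgebra.single k a) = AddMonoidAlgebra.single ((n : ℤ) * k) a := by
        rw [hu]
        show AddMonoidAlgebra.mapDomain _ _ = _
        rw [AddMonoidAlgebra.mapDomain_single]
        rfl
      rw [h1, LaurentPolynomial.T, AddMonoidAlgebra.single_mul_single, mul_one,
        AddMonoidAlgebra.coeff_single, AddMonoidAlgebra.coeff_single, Finsupp.mapDomain_single]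
  -- residues
  have hres : ∀ (i j : Fin n) (k k' : ℤ), e i k = e j k' → i = j := by
    intro i j k k' h
    simp only [he] at h
    have h1 := congrArg (· % (n : ℤ)) h
    simp only [Int.mul_add_emod_self_left] at h1
    have hi : ((i : ℕ) : ℤ) % n = i := Int.emod_eq_of_lt (by positivity) (by exact_mod_cast i.2)
    have hj : ((j : ℕ) : ℤ) % n = j := Int.emod_eq_of_lt (by positivity) (by exact_mod_cast j.2)
    rw [hi, hj] at h1
    exact Fin.ext (by exact_mod_cast h1)
  have hdecomp : ∀ m : ℤ, ∃ (i : Fin n) (k : ℤ), m = e i k := by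
    intro m
    have h0 : 0 ≤ m % n := Int.emod_nonneg m hn0
    have h1 : m % n < n := Int.emod_lt_of_pos m hnpos
    refine ⟨⟨(m % n).toNat, by omega⟩, m / n, ?_⟩
    simp only [he]
    rw [Int.toNat_of_nonneg h0]
    have := Int.emod_add_mul_ediv m n
    omega
  have key : ∀ (c : Fin n → A[T;T⁻¹]) (i : Fin n) (k : ℤ),
      (∑ j : Fin n, u (c j) * LaurentPolynomial.T (j : ℤ)).coeff (e i k) = (c i).coeff k := by
    intro c i k
    rw [AddMonoidAlgebra.coeff_sum, Finsupp.finset_sum_apply, Finset.sum_eq_single i]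
    · rw [hcoeff, Finsupp.mapDomain_apply (hinj _)]
    · intro j _ hji
      rw [hcoeff]
      apply Finsupp.mapDomain_notin_range
      rintro ⟨k', hk'⟩
      exact hji (hres j i k' k hk')
    · intro h
      exact absurd (Finset.mem_univ i) h
  refine ⟨fun i => AddMonoidAlgebra.ofCoeff
    (Finsupp.comapDomain (e i) q.coeff (hinj _).injOn), ?_, ?_⟩
  · apply AddMonoidAlgebra.coeff_injective
    ext m
    obtain ⟨i, k, rfl⟩ := hdecomp m
    rw [key, AddMonoidAlgebra.coeff_ofCoeff, Finsupp.comapDomain_apply]
  · intro c hc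
    funext i
    apply AddMonoidAlgebra.coeff_injective
    ext k
    rw [AddMonoidAlgebra.coeff_ofCoeff, Finsupp.comapDomain_apply, hc, key]

end Groth.Agent.S5119
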