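import Groth.Statements.S5128
import Mathlib.AlgebraicGeometry.Morphisms.FlatMono
import Mathlib.AlgebraicGeometry.Morphisms.Etale
import Mathlib.AlgebraicGeometry.Morphisms.UniversallyInjective
import Mathlib.AlgebraicGeometry.Morphisms.IsIso

set_option autoImplicit false
universe u
open SGA1

namespace Groth.Agent.S5128

open AlgebraicGeometry CategoryTheory CategoryTheory.Limits in
theorem isOpenImmersion_of_etale_of_universallyInjective {X Y : Scheme.{u}} (f : X ⟶ Y) [Etale f]
    [UniversallyInjective f] : IsOpenImmersion f := by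
  have h1 : Surjective (pullback.diagonal f) := (UniversallyInjective.iff_diagonal f).mp ‹_›
  have h2 : IsOpenImmersion (pullback.diagonal f) := inferInstance
  have h3 : IsIso (pullback.diagonal f) :=
    (isIso_iff_isOpenImmersion_and_surjective _).mpr ⟨h2, h1⟩
  have h4 : Mono f := (pullback.isIso_diagonal_iff f).mp h3
  exact IsOpenImmersion.of_flat_of_mono f


open AlgebraicGeometry CategoryTheory CategoryTheory.Limits in
/-- Let X and Y be S-schemes with Y etale over S. The map f ↦ Γ_f sending an S-morphism f : X ⟶ Y to the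
subset of X ×_S Y underlying its graph is a bijection from Hom_S(X, Y) onto the set of open subsets
Γ of X ×_S Y for which the restriction Γ → X of the first projection is radicial (universally
injective) and surjective. Stated as: the graph of every S-morphism is an open immersion, and every
such open Γ is the image of the graph of exactly one S-morphism. -/
theorem result {S X Y : Scheme.{u}} (p : X ⟶ S)
    (q : Y ⟶ S) [Etale q] :
    (∀ f : {f : X ⟶ Y // f ≫ q = p},
      IsOpenImmersion (pullback.lift (𝟙 X) f.1 ((Category.id_comp p).trans f.2.symm) : X ⟶ pullback p q)) ∧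
    ∀ Γ : (pullback p q).Opens, UniversallyInjective (Γ.ι ≫ pullback.fst p q) → Surjective (Γ.ι ≫ pullback.fst p q) →
      ∃! f : {f : X ⟶ Y // f ≫ q = p},
        Set.range (pullback.lift (𝟙 X) f.1 ((Category.id_comp p).trans f.2.symm) : X ⟶ pullback p q).base =
          (Γ : Set ↥(pullback p q)) := by
  constructor
  · rintro ⟨f, hf⟩
    set g : X ⟶ pullback p q := pullback.lift (𝟙 X) f ((Category.id_comp p).trans hf.symm) with hg
    have hg1 : g ≫ pullback.fst p q = 𝟙 X := pullback.lift_fst _ _ _
    have : Etale (g ≫ pullback.fst p q) := by rw [hg1]; infer_instance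
    have : Etale g := Etale.of_comp (f := g) (pullback.fst p q)
    have : Mono g := mono_of_mono_fac hg1
    exact IsOpenImmersion.of_flat_of_mono g
  · intro Γ hui hs
    have : Etale (Γ.ι ≫ pullback.fst p q) := inferInstance
    have hoi : IsOpenImmersion (Γ.ι ≫ pullback.fst p q) :=
      isOpenImmersion_of_etale_of_universallyInjective _
    have hiso : IsIso (Γ.ι ≫ pullback.fst p q) :=
      (isIso_iff_isOpenImmersion_and_surjective _).mpr ⟨hoi, hs⟩
    set e : X ⟶ Γ := inv (Γ.ι ≫ pullback.fst p q) with he
    have he1 : e ≫ Γ.ι ≫ pullback.fst p q = 𝟙 X := IsIso.inv_hom_id _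
    have hf : (e ≫ Γ.ι ≫ pullback.snd p q) ≫ q = p := by
      rw [Category.assoc, Category.assoc, ← pullback.condition, ← Category.assoc, ← Category.assoc,
        Category.assoc e, he1, Category.id_comp]
    have hgraph : ∀ (f : X ⟶ Y) (hf' : f ≫ q = p) (h : X ⟶ Γ),
        h ≫ Γ.ι = pullback.lift (𝟙 X) f ((Category.id_comp p).trans hf'.symm) → h = e := by
      intro f hf' h hh
      have h1 : h ≫ (Γ.ι ≫ pullback.fst p q) = 𝟙 X := by
        rw [← Category.assoc, hh, pullback.lift_fst]
      rw [he, ← Category.id_comp (inv _), ← h1, Category.assoc, IsIso.hom_inv_id, Category.comp_id]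
    refine ⟨⟨e ≫ Γ.ι ≫ pullback.snd p q, hf⟩, ?_, ?_⟩
    · have h1 : (pullback.lift (𝟙 X) (e ≫ Γ.ι ≫ pullback.snd p q)
          ((Category.id_comp p).trans hf.symm) : X ⟶ pullback p q) = e ≫ Γ.ι := by
        apply pullback.hom_ext
        · rw [pullback.lift_fst, Category.assoc, he1]
        · rw [pullback.lift_snd, Category.assoc]
      show Set.range (pullback.lift (𝟙 X) (e ≫ Γ.ι ≫ pullback.snd p q)
          ((Category.id_comp p).trans hf.symm) : X ⟶ pullback p q) = _
      rw [h1, Scheme.Hom.comp_base, TopCat.coe_comp, Set.range_comp]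
      have h2 : Set.range e = Set.univ := by
        have : IsIso e := by rw [he]; infer_instance
        exact Set.range_eq_univ.mpr e.homeomorph.surjective
      rw [h2, Set.image_univ, Scheme.Opens.range_ι]
    · rintro ⟨f', hf'⟩ hr
      have hr' : Set.range (pullback.lift (𝟙 X) f' ((Category.id_comp p).trans hf'.symm) :
          X ⟶ pullback p q) ⊆ Set.range Γ.ι := by
        rw [Scheme.Opens.range_ι]; exact hr.le
      let h : X ⟶ Γ := IsOpenImmersion.lift Γ.ι _ hr'
      have hh : h ≫ Γ.ι = pullback.lift (𝟙 X) f' ((Category.id_comp p).trans hf'.symm) :=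
        IsOpenImmersion.lift_fac _ _ _
      have hhe := hgraph f' hf' h hh
      apply Subtype.ext
      show f' = e ≫ Γ.ι ≫ pullback.snd p q
      rw [← hhe, reassoc_of% hh, pullback.lift_snd]

end Groth.Agent.S5128
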