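import Groth.Statements.S5129
import Groth.Agent.Lib.Helper23.HensTop2
import Groth.Agent.Lib.Helper23.FEtFull
import Groth.Agent.Lib.Helper23.FEtComp
import Groth.Agent.Lib.Helper23.PureConn

set_option autoImplicit false
universe u
open Pi1

namespace Groth.Agent.S5129

open AlgebraicGeometry CategoryTheory CategoryTheory.Limits Groth.Agent.Helper23.FEtFull
  Groth.Agent.Helper23.HensTop in
theorem aux_full (A : Type u) [CommRing A] [HenselianLocalRing A] {X : Scheme.{u}}
    (f : X ⟶ Spec (CommRingCat.of A)) [IsProper f]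
    {Ω : Type u} [Field Ω] [IsAlgClosed Ω] (ξ : Spec (CommRingCat.of Ω) ⟶ Spec (CommRingCat.of A))
    (hξ : IsLocalRing.closedPoint A ∈ Set.range ξ.base)
    [ConnectedSpace ↥(pullback f ξ)]
    (A' B' : FEt.Cat (Spec (CommRingCat.of A)))
    (φ : (FEt.restrict f).obj A' ⟶ (FEt.restrict f).obj B') :
    ∃ ψ : A' ⟶ B', (FEt.restrict f).map ψ = φ := by
  haveI : IsFinite A'.hom := A'.prop.1
  haveI : Etale A'.hom := A'.prop.2
  haveI : IsFinite B'.hom := B'.prop.1
  haveI : Etale B'.hom := B'.prop.2
  have hφ : φ.left ≫ pullback.snd B'.hom f = pullback.snd A'.hom f := Over.w φ.hom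
  have hC : ∀ Z : Set ↥(pullback (cc A'.hom B'.hom) f), IsClopen Z →
      ∃ W : Set ↥(pullback A'.hom B'.hom), IsClopen W ∧
        (pullback.fst (cc A'.hom B'.hom) f).base ⁻¹' W = Z := by
    intro Z hZ
    refine exists_isClopen_preimage _ (pullback.fst (cc A'.hom B'.hom) f).isClosedMap
      (hasLocalCover_of_isFinite A (cc A'.hom B'.hom)) (fun t ht => ?_) Z hZ
    refine (isConnected_fiber_of_closedPoint f (cc A'.hom B'.hom) ξ t ht ?_).isPreconnected
    rw [map_closed_eq_closedPoint A (cc A'.hom B'.hom) t ht]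
    exact hξ
  have hE : ∀ d : ↥A'.left → ℕ, IsLocallyConstant d →
      (∀ z : ↥(pullback A'.hom f), d ((pullback.fst A'.hom f).base z) = 1) → ∀ x, d x = 1 := by
    intro d hd hd1 x
    refine eq_of_isLocallyConstant (hasLocalCover_of_isFinite A A'.hom) d hd 1 (fun t ht => ?_) x
    have hne := (isConnected_fiber_of_closedPoint f A'.hom ξ t ht (by
      rw [map_closed_eq_closedPoint A A'.hom t ht]
      exact hξ)).nonempty
    obtain ⟨z, hz⟩ := hne
    rw [Set.mem_preimage, Set.mem_singleton_iff] at hz
    rw [← hz]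
    exact hd1 z
  obtain ⟨ψ, hψ1, hψ2⟩ := exists_descent_of_clopen f A'.hom B'.hom φ.left hφ hC hE
  refine ⟨MorphismProperty.Over.homMk ψ hψ1, ?_⟩
  ext
  simp only [FEt.restrict, MorphismProperty.Over.pullback, MorphismProperty.Over.homMk_hom,
    Over.homMk_left]
  apply pullback.hom_ext
  · rw [pullback.lift_fst]
    exact hψ2
  · rw [pullback.lift_snd]
    exact hφ.symm

open AlgebraicGeometry CategoryTheory CategoryTheory.Limits in
/-- Surjectivity of π₁(X) → π₁(Spec A), in terms of covers. Let A be a complete Noetherian local ring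
with residue field k, k̄ an algebraic closure of k, ξ : Spec k̄ ⟶ Spec A the resulting geometric
point, and X a proper A-scheme with X ×_A Spec k̄ connected. Then pulling back finite etale covers
along X ⟶ Spec A is fully faithful. -/
theorem result (A : Type u) [CommRing A]
    [IsNoetherianRing A] [IsLocalRing A] [IsAdicComplete (IsLocalRing.maximalIdeal A) A]
    {X : Scheme.{u}} (f : X ⟶ Spec (CommRingCat.of A)) [IsProper f]
    (ξ : Spec (CommRingCat.of (AlgebraicClosure (IsLocalRing.ResidueField A))) ⟶ Spec (CommRingCat.of A))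
    (hξ : ξ = Spec.map (CommRingCat.ofHom ((algebraMap (IsLocalRing.ResidueField A)
      (AlgebraicClosure (IsLocalRing.ResidueField A))).comp (IsLocalRing.residue A))))
    [ConnectedSpace ↥(pullback f ξ)] :
    (FEt.restrict f).Full ∧ (FEt.restrict f).Faithful := by
  haveI : HenselianLocalRing A :=
    Groth.Agent.Helper23.HensTop.henselianLocalRing_of_isAdicComplete A
  have hξ' : IsLocalRing.closedPoint A ∈ Set.range ξ.base := by
    rw [hξ]
    exact Groth.Agent.Helper23.HensTop.closedPoint_mem_range A _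
  refine ⟨⟨fun {A' B'} φ => aux_full A f ξ hξ' A' B' φ⟩, ⟨fun {A' B'} a b hab => ?_⟩⟩
  haveI : IsFinite A'.hom := A'.prop.1
  haveI : Etale A'.hom := A'.prop.2
  haveI : IsFinite B'.hom := B'.prop.1
  haveI : Etale B'.hom := B'.prop.2
  haveI hconn : ConnectedSpace ↥(Spec (CommRingCat.of A)) :=
    Groth.Agent.Helper23.PureConn.connectedSpace_spec_local A
  have hmeet : ∀ x : ↥(Spec (CommRingCat.of A)),
      (connectedComponent x ∩ Set.range f.base).Nonempty := by
    intro x
    obtain ⟨z⟩ := (inferInstance : Nonempty ↥(pullback f ξ))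
    refine ⟨f.base ((pullback.fst f ξ).base z), ?_, ⟨_, rfl⟩⟩
    rw [PreconnectedSpace.connectedComponent_eq_univ]
    trivial
  have key := Groth.Agent.Helper23.FEtComp.eq_of_pullback_fst_comp_eq f hmeet A'.toComma B'.toComma
    a.hom b.hom ?_
  · ext
    exact congrArg CommaMorphism.left key
  · have := congrArg (fun φ => φ.left ≫ CategoryTheory.Limits.pullback.fst B'.hom f) hab
    simp only [FEt.restrict, MorphismProperty.Over.pullback, MorphismProperty.Over.homMk_hom,
      Over.homMk_left] at this
    rw [CategoryTheory.Limits.pullback.lift_fst, CategoryTheory.Limits.pullback.lift_fst] at this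
    exact this

end Groth.Agent.S5129
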