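import Groth.Statements.S5132
-- import your own Groth.Agent.* helpers here

set_option autoImplicit false
open CategoryTheory AlgebraicGeometry
universe u
open SGA1

namespace Groth.Agent.S5132

/-- Quasi-compactness of a morphism descends along a surjective and quasi-compact base change; flatness
of the base change is not needed for this property. -/
theorem result :
    MorphismProperty.DescendsAlong @QuasiCompact (@Surjective ⊓ @QuasiCompact : MorphismProperty Scheme.{u}) := by
  apply IsZariskiLocalAtTarget.descendsAlong
  intro R X Y f g hf h
  have hf1 : Surjective f := hf.1
  have hf2 : QuasiCompact f := hf.2
  have h' : QuasiCompact (Limits.pullback.fst f g) := h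
  have hX : CompactSpace X := QuasiCompact.compactSpace_of_compactSpace f
  have hP : CompactSpace ↑(Limits.pullback f g) :=
    QuasiCompact.compactSpace_of_compactSpace (Limits.pullback.fst f g)
  have hsurj : Function.Surjective (Limits.pullback.snd f g).base :=
    (inferInstance : Surjective (Limits.pullback.snd f g)).surj
  have hY : CompactSpace Y := by
    constructor
    rw [← Set.range_eq_univ.mpr hsurj]
    exact isCompact_range (Limits.pullback.snd f g).continuous
  exact (HasAffineProperty.iff_of_isAffine (P := @QuasiCompact)).mpr hY

end Groth.Agent.S5132
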