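import Groth.Statements.S5133
-- import your own Groth.Agent.* helpers here

set_option autoImplicit false
open CategoryTheory CategoryTheory.Limits AlgebraicGeometry
universe u
open SGA1

namespace Groth.Agent.S5133

/-- affine case: points in the closure of the image of a closed set are specializations of
image points. -/
theorem affine_case {R S : Type u} [CommRing R] [CommRing S] (f : R →+* S)
    (Z : Set (PrimeSpectrum S)) (hZ : IsClosed Z) (x : PrimeSpectrum R)
    (hx : x ∈ closure (PrimeSpectrum.comap f '' Z)) :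
    ∃ z ∈ Z, PrimeSpectrum.comap f z ⤳ x := by
  obtain ⟨I, rfl⟩ : ∃ I : Ideal S, Z = PrimeSpectrum.zeroLocus I :=
    ⟨PrimeSpectrum.vanishingIdeal Z, by rw [PrimeSpectrum.zeroLocus_vanishingIdeal_eq_closure, hZ.closure_eq]⟩
  rw [PrimeSpectrum.closure_image_comap_zeroLocus] at hx
  have hx' : I.comap f ≤ x.asIdeal := hx
  obtain ⟨q, hq₁, hq₂⟩ := Ideal.exists_minimalPrimes_le hx'
  obtain ⟨p', hp', hp'', rfl⟩ := Ideal.exists_comap_eq_of_mem_minimalPrimes f _ hq₁
  exact ⟨⟨p', hp'⟩, hp'', (PrimeSpectrum.le_iff_specializes (PrimeSpectrum.comap f ⟨p', hp'⟩) x).mp hq₂⟩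

theorem local_case {X Y : Scheme.{u}} (f : X ⟶ Y) {U : X.Opens} {V : Y.Opens}
    (hU : IsAffineOpen U) (hV : IsAffineOpen V) (e : U ≤ f ⁻¹ᵁ V)
    (Z : Set X) (hZ : IsClosed Z) (y : Y) (hyV : y ∈ V)
    (hy : y ∈ closure (f.base '' (Z ∩ U))) : ∃ z ∈ Z, f.base z ⤳ y := by
  have hsq : Spec.map (f.appLE V U e) ≫ hV.fromSpec = hU.fromSpec ≫ f :=
    IsAffineOpen.SpecMap_appLE_fromSpec f hV hU e
  have hsq' : ∀ w, hV.fromSpec.base ((Spec.map (f.appLE V U e)).base w) =
      f.base (hU.fromSpec.base w) := fun w => by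
    rw [← Scheme.Hom.comp_apply, ← Scheme.Hom.comp_apply, hsq]
  obtain ⟨y₀, rfl⟩ : ∃ y₀, hV.fromSpec.base y₀ = y := by
    have : y ∈ Set.range hV.fromSpec.base := by rw [hV.range_fromSpec]; exact hyV
    exact this
  let Z' : Set (Spec Γ(X, U)) := hU.fromSpec.base ⁻¹' Z
  have hZ' : IsClosed Z' := hZ.preimage hU.fromSpec.continuous
  have himg : hV.fromSpec.base '' ((Spec.map (f.appLE V U e)).base '' Z') = f.base '' (Z ∩ U) := by
    ext t
    constructor
    · rintro ⟨_, ⟨w, hw, rfl⟩, rfl⟩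
      refine ⟨hU.fromSpec.base w, ⟨hw, ?_⟩, (hsq' w).symm⟩
      have : hU.fromSpec.base w ∈ Set.range hU.fromSpec.base := ⟨w, rfl⟩
      rw [hU.range_fromSpec] at this
      exact this
    · rintro ⟨x, ⟨hxZ, hxU⟩, rfl⟩
      have : x ∈ Set.range hU.fromSpec.base := by rw [hU.range_fromSpec]; exact hxU
      obtain ⟨w, rfl⟩ := this
      exact ⟨_, ⟨w, hxZ, rfl⟩, hsq' w⟩
  have hy₀ : y₀ ∈ closure ((Spec.map (f.appLE V U e)).base '' Z') := by
    rw [hV.fromSpec.isOpenEmbedding.isInducing.closure_eq_preimage_closure_image, himg]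
    exact hy
  obtain ⟨z₀, hz₀, hspec⟩ := affine_case (f.appLE V U e).hom Z' hZ' y₀ hy₀
  refine ⟨hU.fromSpec.base z₀, hz₀, ?_⟩
  rw [← hsq']
  exact hspec.map hV.fromSpec.continuous

theorem exists_specializes_of_mem_closure {X Y : Scheme.{u}} (f : X ⟶ Y) [QuasiCompact f]
    (Z : Set X) (hZ : IsClosed Z) (y : Y) (hy : y ∈ closure (f.base '' Z)) :
    ∃ z ∈ Z, f.base z ⤳ y := by
  obtain ⟨_, ⟨V, hV, rfl⟩, hyV, -⟩ :=
    Y.isBasis_affineOpens.exists_subset_of_mem_open (Set.mem_univ y) isOpen_univ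
  have h1 : y ∈ closure (f.base '' (Z ∩ f.base ⁻¹' (V : Set Y))) := by
    rw [Set.image_inter_preimage, Set.inter_comm]
    exact V.isOpen.inter_closure ⟨hyV, hy⟩
  have hc : IsCompact ((f ⁻¹ᵁ V : X.Opens) : Set X) :=
    QuasiCompact.isCompact_preimage (f := f) _ V.isOpen hV.isCompact
  obtain ⟨s, hs, hsU⟩ := isCompact_iff_finite_and_eq_biUnion_affineOpens.mp hc
  have hle : ∀ U ∈ s, (U : X.Opens) ≤ f ⁻¹ᵁ V := fun U hU => by
    rw [hsU]; exact le_iSup₂ (f := fun (i : X.affineOpens) (_ : i ∈ s) => (i : X.Opens)) U hU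
  have h2 : f.base '' (Z ∩ f.base ⁻¹' (V : Set Y)) =
      ⋃ U ∈ s, f.base '' (Z ∩ ((U : X.Opens) : Set X)) := by
    have h3 : (f.base ⁻¹' (V : Set Y)) = ⋃ U ∈ s, ((U : X.Opens) : Set X) := by
      have := congrArg (fun W : X.Opens => (W : Set X)) hsU
      simpa using this
    rw [h3, Set.inter_iUnion₂, Set.image_iUnion₂]
  rw [h2, hs.closure_biUnion] at h1
  obtain ⟨U, hUs, hyU⟩ := Set.mem_iUnion₂.mp h1
  exact local_case f U.2 hV (hle U hUs) Z hZ y hyV hyU


/-- For a quasi-compact morphism f : X ⟶ Y and a flat surjective base change g : Y' ⟶ Y, with no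
quasi-compactness asked of g, if the base change of f along g is a homeomorphism onto its image then
f is a homeomorphism onto its image. -/
theorem result {X Y Y' : Scheme.{u}} (f : X ⟶ Y)
    (g : Y' ⟶ Y) [QuasiCompact f] [Flat g] [Surjective g]
    (h : Topology.IsEmbedding (pullback.snd f g).base) : Topology.IsEmbedding f.base := by
  have hlift : ∀ (x : X) (y' : Y'), f.base x = g.base y' →
      ∃ w : ↑(pullback f g), (pullback.fst f g).base w = x ∧ (pullback.snd f g).base w = y' :=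
    fun x y' e => Scheme.Pullback.exists_preimage_pullback x y' e
  have hinj : Function.Injective f.base := by
    intro x1 x2 h12
    obtain ⟨y', hy'⟩ := g.surjective (f.base x1)
    obtain ⟨w1, h1, h1'⟩ := hlift x1 y' hy'.symm
    obtain ⟨w2, h2, h2'⟩ := hlift x2 y' (h12 ▸ hy'.symm)
    have : w1 = w2 := h.injective (h1'.trans h2'.symm)
    rw [← h1, ← h2, this]
  refine ⟨⟨?_⟩, hinj⟩
  rw [TopologicalSpace.ext_iff_isClosed]
  intro Z
  constructor
  · intro hZ
    rw [isClosed_induced_iff']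
    intro x hx
    obtain ⟨z, hzZ, hzx⟩ := exists_specializes_of_mem_closure f Z hZ (f.base x) hx
    obtain ⟨y', hy'⟩ := g.surjective (f.base x)
    obtain ⟨y'', hy''s, hy''⟩ := (Flat.generalizingMap g) (hy'.symm ▸ hzx)
    obtain ⟨w, hw1, hw2⟩ := hlift z y'' hy''.symm
    obtain ⟨w', hw'1, hw'2⟩ := hlift x y' hy'.symm
    have hww' : w ⤳ w' := by
      rw [← h.isInducing.specializes_iff, hw2, hw'2]
      exact hy''s
    have hzx' : z ⤳ x := by
      rw [← hw1, ← hw'1]
      exact hww'.map (pullback.fst f g).continuous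
    exact hzx'.mem_closed hZ hzZ
  · intro hZ
    rw [isClosed_induced_iff] at hZ
    obtain ⟨t, ht, rfl⟩ := hZ
    exact ht.preimage f.continuous

end Groth.Agent.S5133
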