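import Groth.Statements.S5135
-- import your own Groth.Agent.* helpers here

set_option autoImplicit false
universe u
open scoped TensorProduct
open SGA1

namespace Groth.Agent.S5135

section helpers
variable (A A' : Type u) [CommRing A] [CommRing A'] [Algebra A A'] (M : Type u) [AddCommGroup M]
  [Module A M]

/-- the associator `A' ⊗ (A' ⊗ M) ≃ (A' ⊗ A') ⊗ M` -/
noncomputable abbrev Φ : A' ⊗[A] (A' ⊗[A] M) ≃ₗ[A] (A' ⊗[A] A') ⊗[A] M :=
  (TensorProduct.assoc A A' A' M).symm

/-- `(a ⊗ b) • Φ z = Φ ((a · ) ⊗ (b • ·) z)` -/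
noncomputable def T (a b : A') : A' ⊗[A] (A' ⊗[A] M) →ₗ[A] A' ⊗[A] (A' ⊗[A] M) :=
  TensorProduct.map (LinearMap.mulLeft A a) ((LinearMap.lsmul A' (A' ⊗[A] M) b).restrictScalars A)

theorem smul_Φ (a b : A') (z : A' ⊗[A] (A' ⊗[A] M)) :
    (a ⊗ₜ[A] b : A' ⊗[A] A') • Φ A A' M z = Φ A A' M (T A A' M a b z) := by
  induction z using TensorProduct.induction_on with
  | zero => simp
  | add x y hx hy => simp only [map_add, smul_add, hx, hy]
  | tmul a' w =>
    induction w using TensorProduct.induction_on with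
    | zero => simp
    | add x y hx hy => simp only [TensorProduct.tmul_add, map_add, smul_add, hx, hy]
    | tmul b' m =>
      simp [T, TensorProduct.smul_tmul', TensorProduct.smul_tmul']

end helpers

/-- The affine case, in submodule form (descent of submodules, equivalently of quotient modules): for A
⟶ A' faithfully flat, M an A-module and N' an A'-submodule of A' ⊗ M whose two extensions to (A' ⊗
A') ⊗ M, along a ↦ a ⊗ 1 and a ↦ 1 ⊗ a, generate the same submodule, N' is the base change of the
submodule of M formed by the elements m with 1 ⊗ m in N'. -/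
theorem result (A A' : Type u) [CommRing A] [CommRing A'] [Algebra A A']
    [Module.FaithfullyFlat A A'] (M : Type u) [AddCommGroup M] [Module A M] (N' : Submodule A' (A' ⊗[A] M))
    (h : Submodule.span (A' ⊗[A] A')
          ((N'.restrictScalars A).map
            ((Algebra.TensorProduct.includeLeft : A' →ₐ[A] A' ⊗[A] A').toLinearMap.rTensor M) : Set ((A' ⊗[A] A') ⊗[A] M)) =
        Submodule.span (A' ⊗[A] A')
          ((N'.restrictScalars A).map
            ((Algebra.TensorProduct.includeRight : A' →ₐ[A] A' ⊗[A] A').toLinearMap.rTensor M) : Set ((A' ⊗[A] A') ⊗[A] M))) :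
    ((N'.restrictScalars A).comap (TensorProduct.mk A A' M 1)).baseChange A' = N' := by
  classical
  set N : Submodule A M := (N'.restrictScalars A).comap (TensorProduct.mk A A' M 1) with hN
  apply le_antisymm
  · -- easy inclusion
    rw [Submodule.baseChange_eq_span, Submodule.span_le]
    rintro _ ⟨m, hm, rfl⟩
    exact hm
  · intro y hy
    -- notation
    let π : A' ⊗[A] M →ₗ[A] (A' ⊗[A] M) ⧸ N' := (N'.mkQ).restrictScalars A
    let j : M →ₗ[A] A' ⊗[A] M := TensorProduct.mk A A' M 1
    let g : M →ₗ[A] (A' ⊗[A] M) ⧸ N' := π ∘ₗ j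
    let Ψ : A' ⊗[A] (A' ⊗[A] M) →ₗ[A] A' ⊗[A] ((A' ⊗[A] M) ⧸ N') := π.lTensor A'
    let p1 : A' ⊗[A] M →ₗ[A] (A' ⊗[A] A') ⊗[A] M :=
      (Algebra.TensorProduct.includeLeft : A' →ₐ[A] A' ⊗[A] A').toLinearMap.rTensor M
    let p2 : A' ⊗[A] M →ₗ[A] (A' ⊗[A] A') ⊗[A] M :=
      (Algebra.TensorProduct.includeRight : A' →ₐ[A] A' ⊗[A] A').toLinearMap.rTensor M
    have hp1 : ∀ z, p1 z = Φ A A' M (j.lTensor A' z) := by
      intro z
      induction z using TensorProduct.induction_on with
      | zero => simp
      | add x y hx hy => simp only [map_add, hx, hy]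
      | tmul a m => simp [p1, j]
    have hp2 : ∀ z, p2 z = Φ A A' M ((1 : A') ⊗ₜ[A] z) := by
      intro z
      induction z using TensorProduct.induction_on with
      | zero => simp
      | add x y hx hy => simp only [map_add, TensorProduct.tmul_add, hx, hy]
      | tmul a m => simp [p2]
    -- the set `S = Φ (ker Ψ)` is stable under `A' ⊗ A'`
    have hΨT : ∀ (a b : A') (z : A' ⊗[A] (A' ⊗[A] M)), Ψ z = 0 → Ψ (T A A' M a b z) = 0 := by
      intro a b z hz
      have : Ψ ∘ₗ T A A' M a b =
          TensorProduct.map (LinearMap.mulLeft A a)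
            ((LinearMap.lsmul A' ((A' ⊗[A] M) ⧸ N') b).restrictScalars A) ∘ₗ Ψ := by
        apply TensorProduct.ext'
        intro a' w
        simp [Ψ, T, π]
      have h2 := congrArg (fun F => F z) this
      simp only [LinearMap.comp_apply] at h2
      rw [h2, hz, map_zero]
    have hS : ∀ x ∈ Submodule.span (A' ⊗[A] A')
          ((N'.restrictScalars A).map p2 : Set ((A' ⊗[A] A') ⊗[A] M)),
        ∃ z, Ψ z = 0 ∧ Φ A A' M z = x := by
      intro x hx
      induction hx using Submodule.span_induction with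
      | mem x hx =>
        obtain ⟨n', hn', rfl⟩ := hx
        refine ⟨(1 : A') ⊗ₜ[A] n', ?_, (hp2 n').symm⟩
        change (π.lTensor A') ((1 : A') ⊗ₜ[A] n') = 0
        rw [LinearMap.lTensor_tmul]
        have : π n' = 0 := (Submodule.Quotient.mk_eq_zero N').mpr hn'
        rw [this, TensorProduct.tmul_zero]
      | zero => exact ⟨0, map_zero _, map_zero _⟩
      | add x y _ _ hx hy =>
        obtain ⟨z1, h1, rfl⟩ := hx
        obtain ⟨z2, h2, rfl⟩ := hy
        exact ⟨z1 + z2, by rw [map_add, h1, h2, add_zero], map_add _ _ _⟩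
      | smul c x _ hx =>
        obtain ⟨z, hz, rfl⟩ := hx
        induction c using TensorProduct.induction_on with
        | zero => exact ⟨0, map_zero _, by rw [zero_smul, map_zero]⟩
        | tmul a b => exact ⟨T A A' M a b z, hΨT a b z hz, (smul_Φ A A' M a b z).symm⟩
        | add c1 c2 h1 h2 =>
          obtain ⟨z1, hz1, e1⟩ := h1
          obtain ⟨z2, hz2, e2⟩ := h2
          exact ⟨z1 + z2, by rw [map_add, hz1, hz2, add_zero], by rw [map_add, e1, e2, add_smul]⟩
    -- apply to `p1 y`
    have hy1 : p1 y ∈ Submodule.span (A' ⊗[A] A')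
          ((N'.restrictScalars A).map p2 : Set ((A' ⊗[A] A') ⊗[A] M)) := by
      rw [← h]
      exact Submodule.subset_span ⟨y, hy, rfl⟩
    obtain ⟨z, hz, hzy⟩ := hS _ hy1
    rw [hp1 y] at hzy
    have hzy' : z = j.lTensor A' y := (Φ A A' M).injective hzy
    have hgy : g.lTensor A' y = 0 := by
      have : g.lTensor A' = Ψ ∘ₗ j.lTensor A' := LinearMap.lTensor_comp A' π j
      rw [this, LinearMap.comp_apply, ← hzy', hz]
    -- flatness
    have hex : Function.Exact N.subtype g := by
      intro m
      constructor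
      · intro hm
        exact ⟨⟨m, (Submodule.Quotient.mk_eq_zero N').mp hm⟩, rfl⟩
      · rintro ⟨n, rfl⟩
        exact (Submodule.Quotient.mk_eq_zero N').mpr n.2
    have hex' := Module.Flat.lTensor_exact A' hex
    obtain ⟨w, hw⟩ := (hex' y).mp hgy
    exact ⟨w, hw⟩

end Groth.Agent.S5135
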