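import Groth.Statements.S5139
import Groth.Agent.Lib.Helper19.FibLib

set_option autoImplicit false
open CategoryTheory
universe u v u₂ v₂
open FibCat

namespace Groth.Agent.S5139


/-- A functor F : 𝒳 ⟶ 𝒴 over C is an equivalence over C exactly when its underlying functor is fully
faithful and every object η of 𝒴 admits an object ξ of 𝒳 and an isomorphism F ξ ≅ η lying over the
identity of the object of C under η. -/
theorem result {C : Type u} [Category.{v} C]
    {𝒳 𝒴 : BasedCategory.{v₂, u₂} C} (F : 𝒳 ⥤ᵇ 𝒴) :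
    FibCat.IsEquivOver F ↔
      (F.toFunctor.Full ∧ F.toFunctor.Faithful) ∧
        ∀ η : 𝒴.obj, ∃ (ξ : 𝒳.obj) (e : F.toFunctor.obj ξ ≅ η), 𝒴.p.IsHomLift (𝟙 (𝒴.p.obj η)) e.hom := by
  constructor
  · intro hF
    have hE : F.toFunctor.IsEquivalence := Groth.Agent.Helper19.FibLib.IsEquivOver.isEquivalence hF
    refine ⟨⟨inferInstance, inferInstance⟩, ?_⟩
    obtain ⟨G, ⟨η'⟩, ⟨ε⟩⟩ := hF
    intro η
    refine ⟨G.obj η, (Groth.Agent.Helper19.FibLib.toNatIso ε).app η, ?_⟩
    exact BasedNatTrans.app_isHomLift ε.hom η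
  · rintro ⟨⟨hfull, hfaith⟩, h⟩
    exact Groth.Agent.Helper19.FibLib.isEquivOver_of_fullyFaithful F h

end Groth.Agent.S5139
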