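import Groth.Statements.S5141
import Groth.Agent.Lib.Helper19.FibLib

set_option autoImplicit false
open CategoryTheory
universe u v u₂ v₂
open FibCat

namespace Groth.Agent.S5141

open Groth.Agent.Helper19.FibLib in
theorem isCartesian_map_iff {C : Type u} [Category.{v} C]
    {𝒳 𝒴 : BasedCategory.{v₂, u₂} C} (F : 𝒳 ⥤ᵇ 𝒴) (hF : FibCat.IsEquivOver F)
    {R S : C} (f : R ⟶ S) {a b : 𝒳.obj} (φ : a ⟶ b) :
    𝒴.p.IsCartesian f (F.toFunctor.map φ) ↔ 𝒳.p.IsCartesian f φ := by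
  have hE : F.toFunctor.IsEquivalence := IsEquivOver.isEquivalence hF
  constructor
  · intro hc
    have hl : 𝒳.p.IsHomLift f φ := by
      rw [← BasedFunctor.isHomLift_iff F]; infer_instance
    refine ⟨?_⟩
    intro a' φ' hφ'
    let χ : F.obj a' ⟶ F.obj a := Functor.IsCartesian.map 𝒴.p f (F.map φ) (F.map φ')
    have hχ : 𝒴.p.IsHomLift (𝟙 R) χ := inferInstance
    have hχ2 : χ ≫ F.map φ = F.map φ' := Functor.IsCartesian.fac 𝒴.p f (F.map φ) (F.map φ')
    refine ⟨F.toFunctor.preimage χ, ⟨?_, ?_⟩, ?_⟩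
    · rw [← BasedFunctor.isHomLift_iff F, F.toFunctor.map_preimage]; exact hχ
    · apply F.toFunctor.map_injective
      rw [F.toFunctor.map_comp, F.toFunctor.map_preimage]; exact hχ2
    · rintro ψ ⟨hψ1, hψ2⟩
      apply F.toFunctor.map_injective
      rw [F.toFunctor.map_preimage]
      have : 𝒴.p.IsHomLift (𝟙 R) (F.map ψ) := inferInstance
      apply Functor.IsCartesian.map_uniq 𝒴.p f (F.map φ) (F.map φ') (F.map ψ)
      rw [← hψ2]; exact (F.toFunctor.map_comp ψ φ).symm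
  · intro hc
    obtain ⟨G, ⟨η'⟩, ⟨ε⟩⟩ := hF
    have hl : 𝒴.p.IsHomLift f (F.map φ) := inferInstance
    refine ⟨?_⟩
    intro a' φ' hφ'
    obtain rfl : 𝒴.p.obj a' = R := IsHomLift.domain_eq 𝒴.p f φ'
    let e : F.obj (G.obj a') ≅ a' := (toNatIso ε).app a'
    have he : 𝒴.p.IsHomLift (𝟙 (𝒴.p.obj a')) e.hom := BasedNatTrans.app_isHomLift ε.hom a'
    have he' : 𝒴.p.IsHomLift (𝟙 (𝒴.p.obj a')) e.inv := inferInstance
    let ψ : G.obj a' ⟶ b := F.toFunctor.preimage (e.hom ≫ φ')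
    have hψ : F.map ψ = e.hom ≫ φ' := F.toFunctor.map_preimage _
    have hψl : 𝒳.p.IsHomLift f ψ := by
      rw [← BasedFunctor.isHomLift_iff F, hψ]; infer_instance
    let χ : G.obj a' ⟶ a := Functor.IsCartesian.map 𝒳.p f φ ψ
    have hχ : 𝒳.p.IsHomLift (𝟙 (𝒴.p.obj a')) χ := inferInstance
    have hχ2 : χ ≫ φ = ψ := Functor.IsCartesian.fac 𝒳.p f φ ψ
    refine ⟨e.inv ≫ F.map χ, ⟨?_, ?_⟩, ?_⟩
    · have : 𝒴.p.IsHomLift (𝟙 (𝒴.p.obj a')) (F.map χ) := inferInstance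
      infer_instance
    · rw [Category.assoc, ← F.toFunctor.map_comp, hχ2, hψ]; simp
    · rintro θ ⟨hθ1, hθ2⟩
      rw [Iso.eq_inv_comp]
      let θ' : G.obj a' ⟶ a := F.toFunctor.preimage (e.hom ≫ θ)
      have hθ' : F.map θ' = e.hom ≫ θ := F.toFunctor.map_preimage _
      have hθ'l : 𝒳.p.IsHomLift (𝟙 (𝒴.p.obj a')) θ' := by
        rw [← BasedFunctor.isHomLift_iff F, hθ']; infer_instance
      have : θ' = χ := by
        apply Functor.IsCartesian.map_uniq 𝒳.p f φ ψ θ'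
        apply F.toFunctor.map_injective
        rw [F.toFunctor.map_comp, hθ', hψ, Category.assoc, hθ2]
      rw [← hθ', this]


/-- In the sharper form given by its proof: for an equivalence F : 𝒳 ⟶ 𝒴 over C, a morphism φ of 𝒳 is
cartesian (over its image in C) if and only if F φ is; in particular an equivalence over C is a
cartesian functor. -/
theorem result {C : Type u} [Category.{v} C]
    {𝒳 𝒴 : BasedCategory.{v₂, u₂} C} (F : 𝒳 ⥤ᵇ 𝒴) (hF : FibCat.IsEquivOver F) {a b : 𝒳.obj} (φ : a ⟶ b) :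
    𝒴.p.IsCartesian (𝒳.p.map φ) (F.toFunctor.map φ) ↔ 𝒳.p.IsCartesian (𝒳.p.map φ) φ := by
  exact isCartesian_map_iff F hF _ φ

end Groth.Agent.S5141
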