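import Groth.Statements.S5142
import Groth.Agent.Lib.Helper19.FibLib2

set_option autoImplicit false
open CategoryTheory
universe u v u₂ v₂
open FibCat

namespace Groth.Agent.S5142
set_option backward.isDefEq.respectTransparency false

open Groth.Agent.Helper19.FibLib

/-- Changing the base morphism of a cartesian morphism. -/
theorem isCartesian_of_isHomLift {C : Type u} [Category.{v} C] {𝒳 : Type u₂} [Category.{v₂} 𝒳]
    (p : 𝒳 ⥤ C) {R S R' S' : C} (f : R ⟶ S) (f' : R' ⟶ S') {a b : 𝒳} (φ : a ⟶ b)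
    [p.IsCartesian f φ] [p.IsHomLift f' φ] : p.IsCartesian f' φ := by
  have hR : R = R' := (IsHomLift.domain_eq p f φ).symm.trans (IsHomLift.domain_eq p f' φ)
  have hS : S = S' := (IsHomLift.codomain_eq p f φ).symm.trans (IsHomLift.codomain_eq p f' φ)
  subst hR hS
  have : f = f' := by rw [IsHomLift.fac p f φ, IsHomLift.fac p f' φ]
  subst this
  infer_instance

section
variable {C : Type u} [Category.{v} C] {𝒳 𝒴 : BasedCategory.{v₂, u₂} C}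

theorem self_hom_eq {R S : C} (f : R ⟶ S) {a b : C} (g : a ⟶ b)
    [h : (selfOver C).p.IsHomLift f g] :
    g = eqToHom (IsHomLift.domain_eq (selfOver C).p f g) ≫ f ≫
      eqToHom (IsHomLift.codomain_eq (selfOver C).p f g).symm :=
  IsHomLift.fac' (selfOver C).p f g

theorem w_of_lifts {x y : (fp (toSelf 𝒳) (toSelf 𝒴)).obj} {R S : C} (f : R ⟶ S)
    (φ : x.obj.fst ⟶ y.obj.fst) (ψ : x.obj.snd ⟶ y.obj.snd)
    [𝒳.p.IsHomLift f φ] [𝒴.p.IsHomLift f ψ] :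
    (toSelf 𝒳).map φ ≫ y.obj.iso.hom = x.obj.iso.hom ≫ (toSelf 𝒴).map ψ := by
  have hx := fp_iso_isHomLift x
  have hy := fp_iso_isHomLift y
  have e1 : (toSelf 𝒳).map φ = 𝒳.p.map φ := rfl
  have e2 : (toSelf 𝒴).map ψ = 𝒴.p.map ψ := rfl
  rw [e1, e2, IsHomLift.fac' 𝒳.p f φ, IsHomLift.fac' 𝒴.p f ψ,
    self_hom_eq (𝟙 (𝒳.p.obj x.obj.fst)) x.obj.iso.hom,
    self_hom_eq (𝟙 (𝒳.p.obj y.obj.fst)) y.obj.iso.hom]
  simp

end


/-- A morphism of the fibre product 𝒳 ×_C 𝒴 of two categories over C is cartesian if and only if its two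
components are cartesian (each over its image in C). The fibre product is taken as the 2-fibre
product over C of the two structure functors, whose objects are pairs over one object of C together
with an isomorphism of C lying over an identity. -/
theorem result {C : Type u} [Category.{v} C] {𝒳 𝒴 : BasedCategory.{v₂, u₂} C}
    {x y : (FibCat.fp (FibCat.toSelf 𝒳) (FibCat.toSelf 𝒴)).obj} (φ : x ⟶ y) :
    (FibCat.fp (FibCat.toSelf 𝒳) (FibCat.toSelf 𝒴)).p.IsCartesian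
        ((FibCat.fp (FibCat.toSelf 𝒳) (FibCat.toSelf 𝒴)).p.map φ) φ ↔
      𝒳.p.IsCartesian (𝒳.p.map φ.hom.fst) φ.hom.fst ∧ 𝒴.p.IsCartesian (𝒴.p.map φ.hom.snd) φ.hom.snd := by
  constructor
  · intro hc
    have hfst : 𝒳.p.IsCartesian (𝒳.p.map φ.hom.fst) φ.hom.fst := by
      refine ⟨?_⟩
      intro a' φ' hφ'
      have ha' : 𝒳.p.obj a' = 𝒳.p.obj x.obj.fst := IsHomLift.domain_eq 𝒳.p (𝒳.p.map φ.hom.fst) φ'
      have hiso : 𝒳.p.obj a' = 𝒴.p.obj x.obj.snd := ha'.trans (fp_snd_obj x).symm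
      let z : (fp (toSelf 𝒳) (toSelf 𝒴)).obj := fpMk (toSelf 𝒳) (toSelf 𝒴) a' x.obj.snd (eqToIso hiso)
        (IsHomLift.of_fac' (selfOver C).p _ _ rfl hiso.symm (by simp only [eqToIso.hom, Category.id_comp, eqToHom_trans]; rfl))
      have hsnd : 𝒴.p.IsHomLift (𝒳.p.map φ.hom.fst) φ.hom.snd := fp_isHomLift_snd _ _ φ
      let ψ : z ⟶ y := fpHomMk φ' φ.hom.snd (w_of_lifts (x := z) (𝒳.p.map φ.hom.fst) φ' φ.hom.snd)
      have hψ : (fp (toSelf 𝒳) (toSelf 𝒴)).p.IsHomLift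
          ((fp (toSelf 𝒳) (toSelf 𝒴)).p.map φ) ψ := (fp_isHomLift_iff _ ψ).2 hφ'
      let χ : z ⟶ x := Functor.IsCartesian.map (fp (toSelf 𝒳) (toSelf 𝒴)).p
        ((fp (toSelf 𝒳) (toSelf 𝒴)).p.map φ) φ ψ
      have hχ1 : (fp (toSelf 𝒳) (toSelf 𝒴)).p.IsHomLift (𝟙 (𝒳.p.obj x.obj.fst)) χ :=
        Functor.IsCartesian.map_isHomLift _ _ φ ψ
      have hχ2 : χ ≫ φ = ψ := Functor.IsCartesian.fac _ _ φ ψ
      refine ⟨χ.hom.fst, ⟨(fp_isHomLift_iff _ χ).1 hχ1, ?_⟩, ?_⟩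
      · have := congrArg (fun m => m.hom.fst) hχ2
        exact this
      · rintro θ ⟨hθ1, hθ2⟩
        have h1s : 𝒴.p.IsHomLift (𝟙 (𝒳.p.obj x.obj.fst)) (𝟙 x.obj.snd) :=
          IsHomLift.id (fp_snd_obj x)
        let Θ : z ⟶ x := fpHomMk θ (𝟙 x.obj.snd)
          (w_of_lifts (x := z) (𝟙 (𝒳.p.obj x.obj.fst)) θ (𝟙 x.obj.snd))
        have hΘ : (fp (toSelf 𝒳) (toSelf 𝒴)).p.IsHomLift (𝟙 ((fp (toSelf 𝒳) (toSelf 𝒴)).p.obj x)) Θ :=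
          (fp_isHomLift_iff _ Θ).2 hθ1
        have hΘ2 : Θ ≫ φ = ψ := fp_hom_ext hθ2 (Category.id_comp _)
        have : Θ = χ := Functor.IsCartesian.map_uniq _ _ φ ψ Θ hΘ2
        rw [← this]; rfl
    have hsnd' : 𝒴.p.IsCartesian (𝒳.p.map φ.hom.fst) φ.hom.snd := by
      have hl : 𝒴.p.IsHomLift (𝒳.p.map φ.hom.fst) φ.hom.snd := fp_isHomLift_snd _ _ φ
      refine ⟨?_⟩
      intro b' φ' hφ'
      have hb' : 𝒴.p.obj b' = 𝒳.p.obj x.obj.fst := IsHomLift.domain_eq 𝒴.p (𝒳.p.map φ.hom.fst) φ'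
      let z : (fp (toSelf 𝒳) (toSelf 𝒴)).obj := fpMk (toSelf 𝒳) (toSelf 𝒴) x.obj.fst b' (eqToIso hb'.symm)
        (IsHomLift.of_fac' (selfOver C).p _ _ rfl hb' (by simp only [eqToIso.hom, Category.id_comp, eqToHom_trans]; rfl))
      have hfst : 𝒳.p.IsHomLift (𝒳.p.map φ.hom.fst) φ.hom.fst := inferInstance
      let ψ : z ⟶ y := fpHomMk φ.hom.fst φ' (w_of_lifts (x := z) (𝒳.p.map φ.hom.fst) φ.hom.fst φ')
      have hψ : (fp (toSelf 𝒳) (toSelf 𝒴)).p.IsHomLift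
          ((fp (toSelf 𝒳) (toSelf 𝒴)).p.map φ) ψ := (fp_isHomLift_iff _ ψ).2 hfst
      let χ : z ⟶ x := Functor.IsCartesian.map (fp (toSelf 𝒳) (toSelf 𝒴)).p
        ((fp (toSelf 𝒳) (toSelf 𝒴)).p.map φ) φ ψ
      have hχ1 : (fp (toSelf 𝒳) (toSelf 𝒴)).p.IsHomLift (𝟙 (𝒳.p.obj x.obj.fst)) χ :=
        Functor.IsCartesian.map_isHomLift _ _ φ ψ
      have hχ2 : χ ≫ φ = ψ := Functor.IsCartesian.fac _ _ φ ψ
      refine ⟨χ.hom.snd, ⟨fp_isHomLift_snd' _ χ, ?_⟩, ?_⟩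
      · have := congrArg (fun m => m.hom.snd) hχ2
        exact this
      · rintro θ ⟨hθ1, hθ2⟩
        have h1s : 𝒳.p.IsHomLift (𝟙 (𝒳.p.obj x.obj.fst)) (𝟙 x.obj.fst) := inferInstance
        let Θ : z ⟶ x := fpHomMk (𝟙 x.obj.fst) θ
          (w_of_lifts (x := z) (𝟙 (𝒳.p.obj x.obj.fst)) (𝟙 x.obj.fst) θ)
        have hΘ : (fp (toSelf 𝒳) (toSelf 𝒴)).p.IsHomLift (𝟙 ((fp (toSelf 𝒳) (toSelf 𝒴)).p.obj x)) Θ :=
          (fp_isHomLift_iff _ Θ).2 h1s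
        have hΘ2 : Θ ≫ φ = ψ := fp_hom_ext (Category.id_comp _) hθ2
        have : Θ = χ := Functor.IsCartesian.map_uniq _ _ φ ψ Θ hΘ2
        rw [← this]; rfl
    exact ⟨hfst, isCartesian_of_isHomLift 𝒴.p (𝒳.p.map φ.hom.fst) _ φ.hom.snd⟩
  · rintro ⟨h1, h2⟩
    have hl2 : 𝒴.p.IsHomLift (𝒳.p.map φ.hom.fst) φ.hom.snd := fp_isHomLift_snd _ _ φ
    have h2' : 𝒴.p.IsCartesian (𝒳.p.map φ.hom.fst) φ.hom.snd :=
      isCartesian_of_isHomLift 𝒴.p (𝒴.p.map φ.hom.snd) _ φ.hom.snd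
    refine ⟨?_⟩
    intro z φ' hφ'
    have hf1 : 𝒳.p.IsHomLift (𝒳.p.map φ.hom.fst) φ'.hom.fst := (fp_isHomLift_iff _ φ').1 hφ'
    have hf2 : 𝒴.p.IsHomLift (𝒳.p.map φ.hom.fst) φ'.hom.snd := fp_isHomLift_snd' (h := hφ') _ φ'
    let χ₁ : z.obj.fst ⟶ x.obj.fst := Functor.IsCartesian.map 𝒳.p (𝒳.p.map φ.hom.fst) φ.hom.fst φ'.hom.fst
    let χ₂ : z.obj.snd ⟶ x.obj.snd := Functor.IsCartesian.map 𝒴.p (𝒳.p.map φ.hom.fst) φ.hom.snd φ'.hom.snd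
    have hχ₁ : 𝒳.p.IsHomLift (𝟙 (𝒳.p.obj x.obj.fst)) χ₁ := Functor.IsCartesian.map_isHomLift _ _ _ _
    have hχ₂ : 𝒴.p.IsHomLift (𝟙 (𝒳.p.obj x.obj.fst)) χ₂ := Functor.IsCartesian.map_isHomLift _ _ _ _
    let χ : z ⟶ x := fpHomMk χ₁ χ₂ (w_of_lifts (𝟙 (𝒳.p.obj x.obj.fst)) χ₁ χ₂)
    refine ⟨χ, ⟨(fp_isHomLift_iff _ χ).2 hχ₁, ?_⟩, ?_⟩
    · exact fp_hom_ext (Functor.IsCartesian.fac 𝒳.p (𝒳.p.map φ.hom.fst) φ.hom.fst φ'.hom.fst)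
        (Functor.IsCartesian.fac 𝒴.p (𝒳.p.map φ.hom.fst) φ.hom.snd φ'.hom.snd)
    · rintro θ ⟨hθ1, hθ2⟩
      have hθf : 𝒳.p.IsHomLift (𝟙 (𝒳.p.obj x.obj.fst)) θ.hom.fst := (fp_isHomLift_iff _ θ).1 hθ1
      have hθs : 𝒴.p.IsHomLift (𝟙 (𝒳.p.obj x.obj.fst)) θ.hom.snd := fp_isHomLift_snd' (h := hθ1) _ θ
      apply fp_hom_ext
      · exact Functor.IsCartesian.map_uniq 𝒳.p (𝒳.p.map φ.hom.fst) φ.hom.fst φ'.hom.fst θ.hom.fst
          (congrArg (fun m => m.hom.fst) hθ2)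
      · exact Functor.IsCartesian.map_uniq 𝒴.p (𝒳.p.map φ.hom.fst) φ.hom.snd φ'.hom.snd θ.hom.snd
          (congrArg (fun m => m.hom.snd) hθ2)

end Groth.Agent.S5142
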