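import Groth.Statements.S5143
import Groth.Agent.S5142

set_option autoImplicit false
open CategoryTheory
universe u v u₂ v₂
open FibCat

namespace Groth.Agent.S5143
set_option backward.isDefEq.respectTransparency false

open Groth.Agent.Helper19.FibLib Groth.Agent.S5142

theorem isCartesian_fp_iff' {C : Type u} [Category.{v} C] {𝒳 𝒴 : BasedCategory.{v₂, u₂} C}
    {x y : (FibCat.fp (FibCat.toSelf 𝒳) (FibCat.toSelf 𝒴)).obj} {R S : C} (f : R ⟶ S) (φ : x ⟶ y) :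
    (FibCat.fp (FibCat.toSelf 𝒳) (FibCat.toSelf 𝒴)).p.IsCartesian f φ ↔
      𝒳.p.IsCartesian f φ.hom.fst ∧ 𝒴.p.IsCartesian f φ.hom.snd := by
  constructor
  · intro h
    have h1 : (FibCat.fp (FibCat.toSelf 𝒳) (FibCat.toSelf 𝒴)).p.IsCartesian
        ((FibCat.fp (FibCat.toSelf 𝒳) (FibCat.toSelf 𝒴)).p.map φ) φ :=
      isCartesian_of_isHomLift _ f _ φ
    obtain ⟨h2, h3⟩ := (Groth.Agent.S5142.result φ).1 h1
    have hl1 : 𝒳.p.IsHomLift f φ.hom.fst := fp_isHomLift_fst' f φ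
    have hl2 : 𝒴.p.IsHomLift f φ.hom.snd := fp_isHomLift_snd' f φ
    exact ⟨isCartesian_of_isHomLift 𝒳.p (𝒳.p.map φ.hom.fst) f φ.hom.fst,
      isCartesian_of_isHomLift 𝒴.p (𝒴.p.map φ.hom.snd) f φ.hom.snd⟩
  · rintro ⟨h1, h2⟩
    have h3 : 𝒳.p.IsCartesian (𝒳.p.map φ.hom.fst) φ.hom.fst :=
      isCartesian_of_isHomLift 𝒳.p f _ φ.hom.fst
    have h4 : 𝒴.p.IsCartesian (𝒴.p.map φ.hom.snd) φ.hom.snd :=
      isCartesian_of_isHomLift 𝒴.p f _ φ.hom.snd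
    have h5 := (Groth.Agent.S5142.result φ).2 ⟨h3, h4⟩
    have hl : (FibCat.fp (FibCat.toSelf 𝒳) (FibCat.toSelf 𝒴)).p.IsHomLift f φ :=
      (fp_isHomLift_iff f φ).2 inferInstance
    exact isCartesian_of_isHomLift _ ((FibCat.fp (FibCat.toSelf 𝒳) (FibCat.toSelf 𝒴)).p.map φ) f φ

theorem isPreFibered_fp {C : Type u} [Category.{v} C] {𝒳 𝒴 : BasedCategory.{v₂, u₂} C}
    (h1 : 𝒳.p.IsPreFibered) (h2 : 𝒴.p.IsPreFibered) :
    (FibCat.fp (FibCat.toSelf 𝒳) (FibCat.toSelf 𝒴)).p.IsPreFibered := by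
  refine ⟨?_⟩
  intro y R f
  obtain ⟨b₁, φ₁, hφ₁⟩ := CategoryTheory.IsPreFibered.exists_isCartesian 𝒳.p (a := y.obj.fst) rfl f
  obtain ⟨b₂, φ₂, hφ₂⟩ := CategoryTheory.IsPreFibered.exists_isCartesian 𝒴.p (a := y.obj.snd) (fp_snd_obj y) f
  have hb₁ : 𝒳.p.obj b₁ = R := IsHomLift.domain_eq 𝒳.p f φ₁
  have hb₂ : 𝒴.p.obj b₂ = R := IsHomLift.domain_eq 𝒴.p f φ₂
  let x : (fp (toSelf 𝒳) (toSelf 𝒴)).obj := fpMk (toSelf 𝒳) (toSelf 𝒴) b₁ b₂ (eqToIso (hb₁.trans hb₂.symm))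
    (IsHomLift.of_fac' (selfOver C).p _ _ rfl (hb₂.trans hb₁.symm)
      (by simp only [eqToIso.hom, Category.id_comp, eqToHom_trans]; rfl))
  let φ : x ⟶ y := fpHomMk φ₁ φ₂ (w_of_lifts (x := x) f φ₁ φ₂)
  exact ⟨x, φ, (isCartesian_fp_iff' f φ).2 ⟨hφ₁, hφ₂⟩⟩


/-- The fibre product over C of two fibred (resp. prefibred) categories over C is fibred (resp.
prefibred); fibred and prefibred are Mathlib's notions for the structure functors, and the fibre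
product is the 2-fibre product over C of the two structure functors. -/
theorem result {C : Type u} [Category.{v} C] {𝒳 𝒴 : BasedCategory.{v₂, u₂} C} :
    (𝒳.p.IsFibered → 𝒴.p.IsFibered → (FibCat.fp (FibCat.toSelf 𝒳) (FibCat.toSelf 𝒴)).p.IsFibered) ∧
      (𝒳.p.IsPreFibered → 𝒴.p.IsPreFibered → (FibCat.fp (FibCat.toSelf 𝒳) (FibCat.toSelf 𝒴)).p.IsPreFibered) := by
  refine ⟨fun h1 h2 => ?_, isPreFibered_fp⟩
  have hpre := isPreFibered_fp h1.toIsPreFibered h2.toIsPreFibered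
  refine { toIsPreFibered := hpre, comp := ?_ }
  intro R S T f g a b c φ ψ hφ hψ
  obtain ⟨hφ1, hφ2⟩ := (isCartesian_fp_iff' f φ).1 hφ
  obtain ⟨hψ1, hψ2⟩ := (isCartesian_fp_iff' g ψ).1 hψ
  refine (isCartesian_fp_iff' (f ≫ g) (φ ≫ ψ)).2 ⟨?_, ?_⟩
  · exact Functor.IsFibered.comp f g φ.hom.fst ψ.hom.fst
  · exact Functor.IsFibered.comp f g φ.hom.snd ψ.hom.snd

end Groth.Agent.S5143
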