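import Groth.Statements.S5144

set_option autoImplicit false
open CategoryTheory
universe u v u₂ v₂
open FibCat

namespace Groth.Agent.S5144

open Opposite

section
variable {C : Type u} [Category.{v} C] {𝒳 : Type u₂} [Category.{v₂} 𝒳] (p : 𝒳 ⥤ C)

/-- explicit cocartesian morphisms. -/
def IsCoCart {R S : C} (f : R ⟶ S) {a b : 𝒳} (φ : a ⟶ b) : Prop :=
  p.IsHomLift f φ ∧ ∀ {b' : 𝒳} (φ' : a ⟶ b'), p.IsHomLift f φ' →
    ∃! χ : b ⟶ b', p.IsHomLift (𝟙 S) χ ∧ φ ≫ χ = φ'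

theorem isHomLift_op_iff {R S : C} (f : R ⟶ S) {a b : 𝒳} (φ : a ⟶ b) :
    p.op.IsHomLift f.op φ.op ↔ p.IsHomLift f φ := by
  constructor
  · intro h
    have h1 : p.obj b = S := Opposite.op_injective (IsHomLift.domain_eq p.op f.op φ.op)
    have h2 : p.obj a = R := Opposite.op_injective (IsHomLift.codomain_eq p.op f.op φ.op)
    subst h1 h2
    have h3 := IsHomLift.fac p.op f.op φ.op
    simp only [eqToHom_refl, Category.id_comp, Category.comp_id] at h3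
    have h4 : f = p.map φ := Quiver.Hom.op_inj h3
    subst h4
    infer_instance
  · intro h
    cases h
    exact IsHomLift.map p.op φ.op

/-- the same for morphisms of the opposite categories. -/
theorem isHomLift_op_iff' {R S : Cᵒᵖ} (f : R ⟶ S) {a b : 𝒳ᵒᵖ} (φ : a ⟶ b) :
    p.op.IsHomLift f φ ↔ p.IsHomLift f.unop φ.unop :=
  isHomLift_op_iff p f.unop φ.unop

theorem isCartesian_op_iff {R S : C} (f : R ⟶ S) {a b : 𝒳} (φ : a ⟶ b) :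
    p.op.IsCartesian f.op φ.op ↔ IsCoCart p f φ := by
  constructor
  · intro h
    refine ⟨(isHomLift_op_iff p f φ).1 inferInstance, ?_⟩
    intro b' φ' hφ'
    have hφ'op : p.op.IsHomLift f.op φ'.op := (isHomLift_op_iff p f φ').2 hφ'
    obtain ⟨χ, ⟨hχ1, hχ2⟩, hχ3⟩ := h.universal_property φ'.op
    refine ⟨χ.unop, ⟨?_, ?_⟩, ?_⟩
    · exact (isHomLift_op_iff' p (𝟙 (op S)) χ).1 hχ1
    · exact Quiver.Hom.op_inj hχ2
    · rintro θ ⟨hθ1, hθ2⟩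
      have : θ.op = χ := hχ3 θ.op ⟨(isHomLift_op_iff p (𝟙 S) θ).2 hθ1, by rw [← hθ2]; rfl⟩
      rw [← this]; rfl
  · rintro ⟨h1, h2⟩
    have hl : p.op.IsHomLift f.op φ.op := (isHomLift_op_iff p f φ).2 h1
    refine ⟨?_⟩
    intro a' φ' hφ'
    have hφ'2 : p.IsHomLift f φ'.unop := (isHomLift_op_iff' p f.op φ').1 hφ'
    obtain ⟨χ, ⟨hχ1, hχ2⟩, hχ3⟩ := h2 φ'.unop hφ'2
    refine ⟨χ.op, ⟨?_, ?_⟩, ?_⟩
    · exact (isHomLift_op_iff p (𝟙 S) χ).2 hχ1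
    · exact Quiver.Hom.unop_inj hχ2
    · rintro θ ⟨hθ1, hθ2⟩
      have : θ.unop = χ := hχ3 θ.unop ⟨(isHomLift_op_iff' p (𝟙 (op S)) θ).1 hθ1, by rw [← hθ2]; rfl⟩
      rw [← this]; rfl

theorem isCoCart_op_iff {R S : C} (f : R ⟶ S) {a b : 𝒳} (φ : a ⟶ b) :
    IsCoCart p.op f.op φ.op ↔ p.IsCartesian f φ := by
  constructor
  · rintro ⟨h1, h2⟩
    have hl : p.IsHomLift f φ := (isHomLift_op_iff p f φ).1 h1
    refine ⟨?_⟩
    intro a' φ' hφ'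
    obtain ⟨χ, ⟨hχ1, hχ2⟩, hχ3⟩ := h2 φ'.op ((isHomLift_op_iff p f φ').2 hφ')
    refine ⟨χ.unop, ⟨?_, ?_⟩, ?_⟩
    · exact (isHomLift_op_iff' p (𝟙 (op R)) χ).1 hχ1
    · exact Quiver.Hom.op_inj hχ2
    · rintro θ ⟨hθ1, hθ2⟩
      have : θ.op = χ := hχ3 θ.op ⟨(isHomLift_op_iff p (𝟙 R) θ).2 hθ1, by rw [← hθ2]; rfl⟩
      rw [← this]; rfl
  · intro h
    refine ⟨(isHomLift_op_iff p f φ).2 inferInstance, ?_⟩
    intro b' φ' hφ'
    have hφ'2 : p.IsHomLift f φ'.unop := (isHomLift_op_iff' p f.op φ').1 hφ'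
    obtain ⟨χ, ⟨hχ1, hχ2⟩, hχ3⟩ := h.universal_property φ'.unop
    refine ⟨χ.op, ⟨?_, ?_⟩, ?_⟩
    · exact (isHomLift_op_iff p (𝟙 R) χ).2 hχ1
    · exact Quiver.Hom.unop_inj hχ2
    · rintro θ ⟨hθ1, hθ2⟩
      have : θ.unop = χ := hχ3 θ.unop ⟨(isHomLift_op_iff' p (𝟙 (op R)) θ).1 hθ1, by rw [← hθ2]; rfl⟩
      rw [← this]; rfl

/-- In a fibred category, cocartesian morphisms compose. -/
theorem isCoCart_comp [p.IsFibered] {R S T : C} (f : R ⟶ S) (g : S ⟶ T) {a b c : 𝒳}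
    (φ : a ⟶ b) (ψ : b ⟶ c) (hφ : IsCoCart p f φ) (hψ : IsCoCart p g ψ) :
    IsCoCart p (f ≫ g) (φ ≫ ψ) := by
  obtain ⟨hφ1, hφ2⟩ := hφ
  obtain ⟨hψ1, hψ2⟩ := hψ
  refine ⟨inferInstance, ?_⟩
  intro d χ hχ
  have hd : p.obj d = T := IsHomLift.codomain_eq p (f ≫ g) χ
  let κ := Functor.IsPreFibered.pullbackMap (p := p) hd g
  let χ' : a ⟶ Functor.IsPreFibered.pullbackObj hd g :=
    Functor.IsStronglyCartesian.map p g κ (rfl : f ≫ g = f ≫ g) χ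
  have hχ'1 : p.IsHomLift f χ' := Functor.IsStronglyCartesian.map_isHomLift p g κ rfl χ
  have hχ'2 : χ' ≫ κ = χ := Functor.IsStronglyCartesian.fac p g κ rfl χ
  obtain ⟨θ', ⟨hθ'1, hθ'2⟩, hθ'3⟩ := hφ2 χ' hχ'1
  have hθκ : p.IsHomLift g (θ' ≫ κ) := inferInstance
  obtain ⟨θ, ⟨hθ1, hθ2⟩, hθ3⟩ := hψ2 (θ' ≫ κ) hθκ
  refine ⟨θ, ⟨hθ1, ?_⟩, ?_⟩
  · rw [Category.assoc, hθ2, ← Category.assoc, hθ'2, hχ'2]
  · rintro θ₂ ⟨hθ₂1, hθ₂2⟩
    have h1 : p.IsHomLift g (ψ ≫ θ₂) := inferInstance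
    let θ₂' := Functor.IsCartesian.map p g κ (ψ ≫ θ₂)
    have hθ₂'1 : p.IsHomLift (𝟙 S) θ₂' := Functor.IsCartesian.map_isHomLift p g κ (ψ ≫ θ₂)
    have hθ₂'2 : θ₂' ≫ κ = ψ ≫ θ₂ := Functor.IsCartesian.fac p g κ (ψ ≫ θ₂)
    have h2 : p.IsHomLift f (φ ≫ θ₂') := inferInstance
    have h3 : φ ≫ θ₂' = χ' := by
      apply Functor.IsStronglyCartesian.map_uniq p g κ rfl χ (φ ≫ θ₂')
      rw [Category.assoc, hθ₂'2, ← Category.assoc, hθ₂2]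
    have h4 : θ₂' = θ' := hθ'3 θ₂' ⟨hθ₂'1, h3⟩
    exact hθ3 θ₂ ⟨hθ₂1, by rw [← hθ₂'2, h4]⟩

end


/-- If p : 𝒳 ⥤ C is both prefibred and co-prefibred (its opposite functor is prefibred), then p is
fibred if and only if it is co-fibred (its opposite functor is fibred). Prefibred and fibred are
Mathlib's notions, which are the source's. -/
theorem result {C : Type u} [Category.{v} C] {𝒳 : Type u₂} [Category.{v₂} 𝒳]
    (p : 𝒳 ⥤ C) [p.IsPreFibered] [p.op.IsPreFibered] : p.IsFibered ↔ p.op.IsFibered := by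
  constructor
  · intro h
    refine { comp := ?_ }
    intro R S T f g a b c φ ψ hφ hψ
    have h1 : IsCoCart p g.unop ψ.unop := (isCartesian_op_iff p g.unop ψ.unop).1 hψ
    have h2 : IsCoCart p f.unop φ.unop := (isCartesian_op_iff p f.unop φ.unop).1 hφ
    exact (isCartesian_op_iff p (g.unop ≫ f.unop) (ψ.unop ≫ φ.unop)).2
      (isCoCart_comp p g.unop f.unop ψ.unop φ.unop h1 h2)
  · intro h
    refine { comp := ?_ }
    intro R S T f g a b c φ ψ hφ hψ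
    have h1 : IsCoCart p.op f.op φ.op := (isCoCart_op_iff p f φ).2 hφ
    have h2 : IsCoCart p.op g.op ψ.op := (isCoCart_op_iff p g ψ).2 hψ
    exact (isCoCart_op_iff p (f ≫ g) (φ ≫ ψ)).1
      (isCoCart_comp p.op g.op f.op ψ.op φ.op h2 h1)

end Groth.Agent.S5144
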