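import Groth.Statements.S5147
import Groth.Agent.Lib.Helper8.GaloisCat

set_option autoImplicit false
universe u v w
open CategoryTheory PreGaloisCategory
open Pi1

namespace Groth.Agent.S5147

open CategoryTheory.Limits in
/-- In the situation of the first assertion, the stabilizer U of a contains the normal subgroup
generated by the image of u (hence also its closure, U being open) if and only if H(X) is isomorphic
to a finite coproduct of copies of the final object of C'. -/
theorem result {C C' : Type u} [Category.{v} C] [Category.{v} C']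
    [GaloisCategory C] [GaloisCategory C'] (H : C ⥤ C') [PreservesFiniteLimits H] [PreservesFiniteColimits H]
    (F' : C' ⥤ FintypeCat.{w}) [FiberFunctor F'] [FiberFunctor (H ⋙ F')] (X : C) [IsConnected X]
    (a : (H ⋙ F').obj X) :
    Subgroup.normalClosure ((Pi1X.autWhisker H F').range : Set (Aut (H ⋙ F'))) ≤ MulAction.stabilizer (Aut (H ⋙ F')) a ↔
      ∃ n : ℕ, Nonempty (H.obj X ≅ ∐ fun _ : Fin n => ⊤_ C') := by
  constructor
  · intro h
    apply Groth.Agent.Helper8.GaloisCat.exists_iso_sigma_terminal_of_fixed F' (H.obj X)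
    intro b σ
    obtain ⟨g, hg⟩ := MulAction.exists_smul_eq (Aut (H ⋙ F')) a b
    have hmem : Pi1X.autWhisker H F' σ ∈
        Subgroup.normalClosure ((Pi1X.autWhisker H F').range : Set (Aut (H ⋙ F'))) :=
      Subgroup.subset_normalClosure ⟨σ, rfl⟩
    have hconj : g⁻¹ * Pi1X.autWhisker H F' σ * g⁻¹⁻¹ ∈
        Subgroup.normalClosure ((Pi1X.autWhisker H F').range : Set (Aut (H ⋙ F'))) :=
      Subgroup.normalClosure_normal.conj_mem _ hmem g⁻¹
    have hst := h hconj
    rw [MulAction.mem_stabilizer_iff, inv_inv, mul_smul, mul_smul, hg, inv_smul_eq_iff, hg] at hst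
    exact hst
  · rintro ⟨n, ⟨e⟩⟩
    have hfix : ∀ (b : F'.obj (H.obj X)) (σ : Aut F'), σ.hom.app (H.obj X) b = b :=
      fun b σ => Groth.Agent.Helper8.GaloisCat.fixed_of_iso_sigma_terminal F' (H.obj X) n e b σ
    have hker : (Pi1X.autWhisker H F').range ≤
        (MulAction.toPermHom (Aut (H ⋙ F')) ((H ⋙ F').obj X)).ker := by
      rintro _ ⟨σ, rfl⟩
      rw [MonoidHom.mem_ker]
      ext b
      exact hfix b σ
    have hnc : Subgroup.normalClosure ((Pi1X.autWhisker H F').range : Set (Aut (H ⋙ F'))) ≤
        (MulAction.toPermHom (Aut (H ⋙ F')) ((H ⋙ F').obj X)).ker :=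
      Subgroup.normalClosure_le_normal hker
    intro g hg
    have := hnc hg
    rw [MonoidHom.mem_ker] at this
    rw [MulAction.mem_stabilizer_iff]
    have h2 := congrArg (fun p : Equiv.Perm ((H ⋙ F').obj X) => p a) this
    exact h2

end Groth.Agent.S5147
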