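import Groth.Statements.S5148
import Groth.Agent.Lib.Helper8.GaloisCat3

set_option autoImplicit false
universe u v w
open CategoryTheory PreGaloisCategory
open Pi1

namespace Groth.Agent.S5148

open CategoryTheory.Limits in
/-- For an exact functor H : C ⥤ C' of Galois categories with compatible fibre functors, the induced
homomorphism u of fundamental groups and a connected object X' of C' with a point a' of its fibre
and stabilizer U': the kernel of u lies in U' if and only if some connected subobject of some H(X)
maps to X'. -/
theorem result {C C' : Type u} [Category.{v} C] [Category.{v} C']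
    [GaloisCategory C] [GaloisCategory C'] (H : C ⥤ C') [PreservesFiniteLimits H] [PreservesFiniteColimits H]
    (F' : C' ⥤ FintypeCat.{w}) [FiberFunctor F'] [FiberFunctor (H ⋙ F')] (X' : C') [IsConnected X']
    (a' : F'.obj X') :
    (Pi1X.autWhisker H F').ker ≤ MulAction.stabilizer (Aut F') a' ↔
      ∃ (X : C) (Y' : C') (i : Y' ⟶ H.obj X) (q : Y' ⟶ X'), Mono i ∧ IsConnected Y' := by
  constructor
  · intro hk
    -- compactness: a single stabilizer inside the stabilizer of a'
    obtain ⟨X, b, hXb⟩ := Groth.Agent.Helper8.GaloisCat.exists_stabilizer_subset H F'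
      {σ : Aut F' | σ.hom.app X' a' = a'}
      (Groth.Agent.Helper8.GaloisCat.isOpen_stabilizer F' X' a')
      (fun σ hσ => by
        have hmem : σ ∈ (Pi1X.autWhisker H F').ker := by
          rw [MonoidHom.mem_ker]
          apply Iso.ext
          ext X b
          exact hσ X b
        exact hk hmem)
    obtain ⟨Y', i, y, hy, hYc, hmono⟩ := fiber_in_connected_component F' (H.obj X) b
    have hinj : Function.Injective (F'.map i) :=
      ConcreteCategory.injective_of_mono_of_preservesPullback (F'.map i)
    have hst : MulAction.stabilizer (Aut F') y ≤ MulAction.stabilizer (Aut F') a' := by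
      intro σ hσ
      rw [MulAction.mem_stabilizer_iff] at hσ
      apply hXb σ
      have h := mulAction_naturality F' σ i y
      rw [hσ, hy] at h
      exact h
    obtain ⟨q, -⟩ := Groth.Agent.Helper8.GaloisCat.exists_hom_of_stabilizer_le F' Y' X' y a' hst
    exact ⟨X, Y', i, q, hmono, hYc⟩
  · rintro ⟨X, Y', i, q, hmono, hYc⟩ σ hσ
    rw [MonoidHom.mem_ker] at hσ
    rw [MulAction.mem_stabilizer_iff]
    have htriv : ∀ b : F'.obj (H.obj X), σ.hom.app (H.obj X) b = b := by
      intro b
      have h1 := congrArg (fun τ : Aut (H ⋙ F') => τ.hom.app X b) hσ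
      exact h1
    have hinj : Function.Injective (F'.map i) :=
      ConcreteCategory.injective_of_mono_of_preservesPullback (F'.map i)
    have hY : ∀ y : F'.obj Y', σ • y = y := by
      intro y
      apply hinj
      rw [← mulAction_naturality, mulAction_def, htriv]
    have : Nonempty (F'.obj Y') := nonempty_fiber_of_isConnected F' Y'
    obtain ⟨y, hy⟩ := surjective_of_nonempty_fiber_of_isConnected F' q a'
    rw [← hy, mulAction_naturality, hY]

end Groth.Agent.S5148
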