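import Groth.Statements.S5151
import Groth.Agent.Lib.Lead.Depth3

set_option autoImplicit false
universe u
open LocCoh

namespace Groth.Agent.S5151

open RingTheory.Sequence Groth.Agent.Lead.Depth Pointwise

/-- if no element of `I` is `M`-regular then the `I`-depth is zero. -/
theorem idealDepth_eq_zero_of_forall_not_regular {A : Type u} [CommRing A] (I : Ideal A)
    (M : Type u) [AddCommGroup M] [Module A M] (hIM : I • (⊤ : Submodule A M) ≠ ⊤)
    (h : ∀ r ∈ I, ¬ IsSMulRegular M r) : LocCoh.idealDepth I M = 0 := by
  rw [idealDepth_of_ne_top I M hIM]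
  apply le_antisymm _ bot_le
  apply iSup₂_le
  rintro rs ⟨hrs, hI⟩
  cases rs with
  | nil => simp
  | cons x rs' =>
    exfalso
    exact h x (hI x (List.mem_cons_self)) ((isWeaklyRegular_cons_iff M x rs').1 hrs).1

/-- a maximal weakly regular sequence in `I` has length the `I`-depth. -/
theorem length_eq_idealDepth {A : Type u} [CommRing A] [IsNoetherianRing A] (I : Ideal A) :
    ∀ (rs : List A) (M : Type u) [AddCommGroup M] [Module A M] [Module.Finite A M],
      I • (⊤ : Submodule A M) ≠ ⊤ → IsWeaklyRegular M rs → (∀ r ∈ rs, r ∈ I) →
      (∀ r ∈ I, ¬ IsWeaklyRegular M (rs ++ [r])) →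
      (rs.length : ℕ∞) = LocCoh.idealDepth I M := by
  intro rs
  induction rs with
  | nil =>
    intro M _ _ _ hIM _ _ hmax
    rw [idealDepth_eq_zero_of_forall_not_regular I M hIM]
    · simp
    · intro r hr hreg
      apply hmax r hr
      rw [List.nil_append, isWeaklyRegular_singleton_iff]
      exact hreg
  | cons x rs' ih =>
    intro M _ _ _ hIM hrs hI hmax
    obtain ⟨hx, hrs'⟩ := (isWeaklyRegular_cons_iff M x rs').1 hrs
    have hxI : x ∈ I := hI x List.mem_cons_self
    have hIQ := smul_top_quotSMulTop_ne_top hxI hIM
    have h1 := ih (QuotSMulTop x M) hIQ hrs' (fun r hr => hI r (List.mem_cons_of_mem _ hr))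
      (fun r hr hcon => hmax r hr (by
        rw [List.cons_append, isWeaklyRegular_cons_iff]
        exact ⟨hx, hcon⟩))
    rw [← idealDepth_quotSMulTop_add_one I M hIM x hxI hx, ← h1]
    simp


/-- Let A be a Noetherian ring, I an ideal and M a finite A-module with IM ≠ M. Every weakly M-regular
sequence of elements of I can be extended to a maximal one (one after which no element of I is
M-regular on the quotient), and any maximal weakly M-regular sequence of elements of I has length
equal to the I-depth of M. (The published statement does not assume IM ≠ M; without it the first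
assertion fails: over ℤ with I = (2) and M = ℤ/3 the element 2 is M-regular with M/2M = 0, after
which every element of I is regular on the zero module, so no weakly M-regular sequence of elements
of I is maximal, while the I-depth is infinite. With IM ≠ M every weakly M-regular sequence in I is
M-regular and the I-depth is finite.) -/
theorem result (A : Type u) [CommRing A] [IsNoetherianRing A] (I : Ideal A) (M : Type u) [AddCommGroup M] [Module A M] [Module.Finite A M] (hIM : I • (⊤ : Submodule A M) ≠ ⊤) : (∀ rs : List A, RingTheory.Sequence.IsWeaklyRegular M rs → (∀ r ∈ rs, r ∈ I) → ∃ rs' : List A, rs <+: rs' ∧ RingTheory.Sequence.IsWeaklyRegular M rs' ∧ (∀ r ∈ rs', r ∈ I) ∧ ∀ r ∈ I, ¬ RingTheory.Sequence.IsWeaklyRegular M (rs' ++ [r])) ∧ (∀ rs : List A, RingTheory.Sequence.IsWeaklyRegular M rs → (∀ r ∈ rs, r ∈ I) → (∀ r ∈ I, ¬ RingTheory.Sequence.IsWeaklyRegular M (rs ++ [r])) → (rs.length : ℕ∞) = LocCoh.idealDepth I M) := by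
  constructor
  · -- well-founded induction on the submodule `(rs) M`
    have hwf : WellFoundedGT (Submodule A M) := inferInstance
    have key : ∀ (N : Submodule A M) (rs : List A), Ideal.ofList rs • (⊤ : Submodule A M) = N →
        IsWeaklyRegular M rs → (∀ r ∈ rs, r ∈ I) →
        ∃ rs' : List A, rs <+: rs' ∧ IsWeaklyRegular M rs' ∧ (∀ r ∈ rs', r ∈ I) ∧
          ∀ r ∈ I, ¬ IsWeaklyRegular M (rs' ++ [r]) := by
      intro N
      induction N using hwf.induction with
      | ind N ih =>
      intro rs hN hrs hI
      by_cases hmax : ∀ r ∈ I, ¬ IsWeaklyRegular M (rs ++ [r])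
      · exact ⟨rs, List.prefix_refl rs, hrs, hI, hmax⟩
      · push Not at hmax
        obtain ⟨r, hrI, hr⟩ := hmax
        have hI' : ∀ r' ∈ rs ++ [r], r' ∈ I := by
          intro r' hr'
          rcases List.mem_append.1 hr' with h | h
          · exact hI r' h
          · rw [List.mem_singleton] at h
            rw [h]; exact hrI
        have hle : Ideal.ofList rs • (⊤ : Submodule A M) ≤
            Ideal.ofList (rs ++ [r]) • (⊤ : Submodule A M) := by
          rw [Ideal.ofList_append]
          exact Submodule.smul_mono_left le_sup_left
        have hne : Ideal.ofList rs • (⊤ : Submodule A M) ≠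
            Ideal.ofList (rs ++ [r]) • (⊤ : Submodule A M) := by
          intro heq
          obtain ⟨-, hreg⟩ := (isWeaklyRegular_append_iff M rs [r]).1 hr
          rw [isWeaklyRegular_singleton_iff] at hreg
          -- `r` acts as zero on the quotient
          have hzero : ∀ y : M ⧸ (Ideal.ofList rs • (⊤ : Submodule A M)), r • y = 0 := by
            intro y
            obtain ⟨m, rfl⟩ := Submodule.Quotient.mk_surjective _ y
            rw [← Submodule.Quotient.mk_smul, Submodule.Quotient.mk_eq_zero, heq]
            apply Submodule.smul_mem_smul _ Submodule.mem_top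
            apply Ideal.subset_span
            exact List.mem_append_right _ (List.mem_singleton_self r)
          have hsub : ∀ y : M ⧸ (Ideal.ofList rs • (⊤ : Submodule A M)), y = 0 := by
            intro y
            apply hreg
            change r • y = r • 0
            rw [hzero y, smul_zero]
          apply hIM
          rw [eq_top_iff]
          intro m _
          have h1 : (Submodule.Quotient.mk m : M ⧸ (Ideal.ofList rs • (⊤ : Submodule A M))) = 0 :=
            hsub _
          rw [Submodule.Quotient.mk_eq_zero] at h1
          have hle' : Ideal.ofList rs ≤ I := by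
            rw [Ideal.ofList, Ideal.span_le]
            intro r' hr'
            exact hI r' hr'
          exact Submodule.smul_mono_left hle' h1
        have hlt : N < Ideal.ofList (rs ++ [r]) • (⊤ : Submodule A M) := by
          rw [← hN]
          exact lt_of_le_of_ne hle hne
        obtain ⟨rs', hpre, h1, h2, h3⟩ := ih _ hlt (rs ++ [r]) rfl hr hI'
        exact ⟨rs', (List.prefix_append rs [r]).trans hpre, h1, h2, h3⟩
    intro rs hrs hI
    exact key _ rs rfl hrs hI
  · intro rs hrs hI hmax
    exact length_eq_idealDepth I rs M hIM hrs hI hmax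

end Groth.Agent.S5151
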