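import Groth.Statements.S5158
import Mathlib.RingTheory.AdicCompletion.AsTensorProduct
import Mathlib.RingTheory.AdicCompletion.Completeness
import Mathlib.RingTheory.AdicCompletion.Algebra
import Mathlib.Algebra.Module.Torsion.Basic

set_option autoImplicit false
universe u
open scoped TensorProduct
open Matlis

namespace Groth.Agent.S5158

variable {A : Type u} [CommRing A] (m : Ideal A) {M : Type u} [AddCommGroup M] [Module A M]

/-- elements of `m^n Â` tensored with an element killed by `m^n` vanish. -/
theorem tmul_eq_zero_of_mem (n : ℕ) (x : M) (hx : ∀ a ∈ m ^ n, a • x = 0)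
    (c : AdicCompletion m A) (hc : c ∈ (m ^ n • ⊤ : Submodule A (AdicCompletion m A))) :
    c ⊗ₜ[A] x = 0 := by
  refine Submodule.smul_induction_on hc ?_ ?_
  · intro r hr a' _
    rw [TensorProduct.smul_tmul, hx r hr, TensorProduct.tmul_zero]
  · intro c₁ c₂ h₁ h₂
    rw [TensorProduct.add_tmul, h₁, h₂, add_zero]

theorem surj [IsNoetherianRing A] (hM : LocCoh.IsPowerTorsion m M) :
    Function.Surjective (TensorProduct.mk A (AdicCompletion m A) M 1) := by
  intro t
  induction t using TensorProduct.induction_on with
  | zero => exact ⟨0, map_zero _⟩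
  | tmul a x =>
    obtain ⟨n, hn⟩ := hM x
    obtain ⟨b, hb⟩ := Submodule.Quotient.mk_surjective _ (AdicCompletion.eval m A n a)
    have hc : a - AdicCompletion.of m A b ∈ (m ^ n • ⊤ : Submodule A (AdicCompletion m A)) := by
      rw [AdicCompletion.pow_smul_top_eq_ker_eval (IsNoetherian.noetherian m), LinearMap.mem_ker,
        map_sub, AdicCompletion.eval_of, ← hb]
      exact sub_self _
    have h0 := tmul_eq_zero_of_mem m n x hn _ hc
    refine ⟨b • x, ?_⟩
    have hof : AdicCompletion.of m A b = b • (1 : AdicCompletion m A) := by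
      have h' : AdicCompletion.of m A b = algebraMap A (AdicCompletion m A) b := rfl
      rw [h', Algebra.algebraMap_eq_smul_one]
    rw [TensorProduct.sub_tmul, sub_eq_zero] at h0
    rw [h0, hof, TensorProduct.smul_tmul]
    rfl
  | add t₁ t₂ h₁ h₂ =>
    obtain ⟨x₁, rfl⟩ := h₁
    obtain ⟨x₂, rfl⟩ := h₂
    exact ⟨x₁ + x₂, map_add _ _ _⟩

/-- the retraction on the `m^n`-torsion. -/
noncomputable def θ (n : ℕ) :
    AdicCompletion m A ⊗[A] (Submodule.torsionBySet A M ((m ^ n : Ideal A) : Set A)) →ₗ[A]
      (Submodule.torsionBySet A M ((m ^ n : Ideal A) : Set A)) :=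
  TensorProduct.lift
    (LinearMap.mk₂ A (fun (a : AdicCompletion m A)
        (y : Submodule.torsionBySet A M ((m ^ n : Ideal A) : Set A)) =>
        AdicCompletion.evalₐ m n a • y)
      (fun a a' y => by simp only [map_add, add_smul])
      (fun r a y => by simp only [map_smul, smul_assoc])
      (fun a y y' => by simp only [smul_add])
      (fun r a y => by
        obtain ⟨q, hq⟩ := Ideal.Quotient.mk_surjective (AdicCompletion.evalₐ m n a)
        simp only [← hq, Submodule.torsionBySet.mk_smul]
        exact smul_comm _ _ _))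

theorem θ_one_tmul (n : ℕ) (y : Submodule.torsionBySet A M ((m ^ n : Ideal A) : Set A)) :
    θ m n ((1 : AdicCompletion m A) ⊗ₜ[A] y) = y := by
  simp [θ]

theorem inj [IsNoetherianRing A] (hM : LocCoh.IsPowerTorsion m M) :
    Function.Injective (TensorProduct.mk A (AdicCompletion m A) M 1) := by
  rw [injective_iff_map_eq_zero]
  intro x hx
  obtain ⟨n, hn⟩ := hM x
  let N := Submodule.torsionBySet A M ((m ^ n : Ideal A) : Set A)
  have hxN : x ∈ N := by
    rw [Submodule.mem_torsionBySet_iff]
    rintro ⟨a, ha⟩
    exact hn a ha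
  have hinj : Function.Injective (N.subtype.lTensor (AdicCompletion m A)) :=
    Module.Flat.lTensor_preserves_injective_linearMap _ N.injective_subtype
  have h1 : (1 : AdicCompletion m A) ⊗ₜ[A] (⟨x, hxN⟩ : N) = 0 := by
    apply hinj
    rw [map_zero, LinearMap.lTensor_tmul]
    exact hx
  have h2 := θ_one_tmul m n (⟨x, hxN⟩ : N)
  rw [h1, map_zero] at h2
  exact (congrArg Subtype.val h2).symm


/-- Let A be a Noetherian local ring, Â its m-adic completion and I an m-power torsion A-module (a union
of submodules of finite length). Then x ↦ 1 ⊗ x is a bijection I → Â ⊗_A I. -/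
theorem result (A : Type u) [CommRing A] [IsLocalRing A] [IsNoetherianRing A] (I : Type u) [AddCommGroup I] [Module A I] (hI : LocCoh.IsPowerTorsion (IsLocalRing.maximalIdeal A) I) : Function.Bijective (TensorProduct.mk A (AdicCompletion (IsLocalRing.maximalIdeal A) A) I 1) := by
  exact ⟨inj _ hI, surj _ hI⟩

end Groth.Agent.S5158
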