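import Groth.Statements.S5159
import Groth.Agent.Lib.Helper8.Gor8

set_option autoImplicit false
universe u
open CategoryTheory Opposite
open Dual

namespace Groth.Agent.S5159
open Groth.Agent.Helper8 Groth.Agent.Helper8.LC Groth.Agent.Helper8.Gor

/-- Let A be a regular local ring of dimension n and M an A-module of finite length. Then Ext^i_A(M, A)
= 0 for i ≠ n and length Ext^n_A(M, A) = length M (the functor Ext^n_A(−, A) is dualizing). -/
theorem result (A : Type u) [CommRing A] [IsRegularLocalRing A] (n : ℕ) (hn : ringKrullDim A = n) (M : Type u) [AddCommGroup M] [Module A M] (hM : IsFiniteLength A M) : (∀ i : ℕ, i ≠ n → Subsingleton (((Ext A (ModuleCat.{u} A) i).obj (op (ModuleCat.of A M))).obj (ModuleCat.of A A))) ∧ Module.length A (((Ext A (ModuleCat.{u} A) n).obj (op (ModuleCat.of A M))).obj (ModuleCat.of A A)) = Module.length A M := by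
  haveI : LocCoh.IsGorensteinLocalRing A :=
    Groth.Agent.Lead.Depth.isGorensteinLocalRing_of_isRegularLocalRing A
  obtain ⟨h1, h2⟩ := gorenstein_ext_finiteLength (R := A) hn M hM
  refine ⟨fun i hi => ?_, ?_⟩
  · haveI := h1 i hi
    exact (extEquiv (ModuleCat.of A M) (ModuleCat.of A A) i).toEquiv.subsingleton
  · rw [(extEquiv (ModuleCat.of A M) (ModuleCat.of A A) n).length_eq]
    exact h2

end Groth.Agent.S5159
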