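import Groth.Statements.S5162
import Groth.Agent.Lib.Helper8.LCDepth
import Groth.Agent.Lib.Lead.Depth4
import Mathlib.RingTheory.Regular.LinearMap

set_option autoImplicit false
universe u
open CategoryTheory
open LocCoh

namespace Groth.Agent.S5162

open Groth.Agent.Helper8.LC Groth.Agent.Lead.Depth CategoryTheory Abelian

variable {A : Type u} [CommRing A] [IsNoetherianRing A] (J : Ideal A)

theorem isTors_of_support_subset (F : Type u) [AddCommGroup F] [Module A F] [Module.Finite A F]
    (h : Module.support A F ⊆ PrimeSpectrum.zeroLocus (J : Set A)) : IsTors J F := by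
  rw [Module.support_eq_zeroLocus, PrimeSpectrum.zeroLocus_subset_zeroLocus_iff] at h
  have h' : J ≤ (Module.annihilator A F).radical := by
    intro x hx
    have := h hx
    simpa using this
  obtain ⟨k, hk⟩ := Ideal.exists_pow_le_of_le_radical_of_fg h' (IsNoetherian.noetherian J)
  intro m
  exact ⟨k, fun a ha => Module.mem_annihilator.mp (hk ha) m⟩

omit [IsNoetherianRing A] in
theorem ext_zero_subsingleton_of_isTors (F E : Type u) [AddCommGroup F] [Module A F]
    [AddCommGroup E] [Module A E] (hF : IsTors J F) (hE : gam J E = ⊥) :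
    Subsingleton (Ext (ModuleCat.of A F) (ModuleCat.of A E) 0) := by
  have h0 : ∀ φ : ModuleCat.of A F ⟶ ModuleCat.of A E, φ = 0 := by
    intro φ
    apply ModuleCat.hom_ext
    apply LinearMap.ext
    intro x
    have hx : φ.hom x ∈ gam J E := by
      obtain ⟨n, hn⟩ := hF x
      exact ⟨n, fun a ha => by rw [← map_smul, hn a ha, map_zero]⟩
    rw [hE] at hx
    exact hx
  refine ⟨fun a b => ?_⟩
  have key : ∀ c : Ext (ModuleCat.of A F) (ModuleCat.of A E) 0, c = 0 := by
    intro c
    obtain ⟨φ, rfl⟩ : ∃ φ, Ext.mk₀ φ = c := ⟨_, Ext.mk₀_linearEquiv₀_apply (R := A) c⟩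
    rw [h0 φ, Ext.mk₀_zero]
  rw [key a, key b]

theorem ext_subsingleton_of_injective_of_gam (F E : Type u) [AddCommGroup F] [Module A F]
    [AddCommGroup E] [Module A E] [Module.Injective A E] (hF : IsTors J F) (hE : gam J E = ⊥)
    (i : ℕ) : Subsingleton (Ext (ModuleCat.of A F) (ModuleCat.of A E) i) := by
  rcases Nat.eq_zero_or_pos i with rfl | hi
  · exact ext_zero_subsingleton_of_isTors J F E hF hE
  · obtain ⟨j, rfl⟩ : ∃ j, i = j + 1 := ⟨i - 1, by omega⟩
    have := Module.injective_object_of_injective_module A E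
    exact Ext.subsingleton_of_injective _ _ _

omit [IsNoetherianRing A] in
theorem H_subsingleton_of_injective_of_gam (E : Type u) [AddCommGroup E] [Module A E]
    [Module.Injective A E] (hE : gam J E = ⊥) (i : ℕ) :
    Subsingleton (Groth.Agent.Helper8.LC.H J i E) := by
  rcases Nat.eq_zero_or_pos i with rfl | hi
  · exact H_zero_subsingleton_of_gam_eq_bot J E hE
  · exact H_subsingleton_of_injective J i E hi

/-- (a) ⇒ (b) -/
theorem ext_vanishing_of_H : ∀ (n : ℕ) (G : Type u) [AddCommGroup G] [Module A G],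
    (∀ i : ℕ, i < n → Subsingleton (Groth.Agent.Helper8.LC.H J i G)) →
    ∀ (F : Type u) [AddCommGroup F] [Module A F], IsTors J F →
      ∀ i : ℕ, i < n → Subsingleton (Ext (ModuleCat.of A F) (ModuleCat.of A G) i) := by
  intro n
  induction n with
  | zero => intro G _ _ _ F _ _ _ i hi; omega
  | succ n ih =>
    intro G _ _ hG F _ _ hF i hi
    have := hG 0 (by omega)
    obtain ⟨E, _, _, _, hE, f, hf⟩ :=
      exists_injective_embedding_of_gam_eq_bot J G (gam_eq_bot_of_H_zero_subsingleton J G)
    have hses := isSES_of_injective hf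
    have hQ : ∀ i : ℕ, i < n →
        Subsingleton (Groth.Agent.Helper8.LC.H J i (E ⧸ LinearMap.range f)) := by
      intro i hi
      have := H_subsingleton_of_injective_of_gam J E hE i
      have := hG (i + 1) (by omega)
      exact hses.subsingleton_right J i
    have hExtQ := ih (E ⧸ LinearMap.range f) hQ F hF
    have hS := hses.shortExact
    exact ext_subsingleton_X₁ hS (ModuleCat.of A F) i
      (ext_subsingleton_of_injective_of_gam J F E hF hE i)
      (fun j hj => hExtQ j (by omega))

theorem gam_eq_bot_of_hom_subsingleton (F₀ : Type u) [AddCommGroup F₀] [Module A F₀]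
    [Module.Finite A F₀] (hsupp : Module.support A F₀ = PrimeSpectrum.zeroLocus (J : Set A))
    (G : Type u) [AddCommGroup G] [Module A G]
    (h : Subsingleton (Ext (ModuleCat.of A F₀) (ModuleCat.of A G) 0)) : gam J G = ⊥ := by
  rw [eq_bot_iff]
  intro g hg
  rw [Submodule.mem_bot]
  -- `N = A g`
  let N : Submodule A G := Submodule.span A {g}
  have hsub : Subsingleton (F₀ →ₗ[A] N) := by
    refine ⟨fun φ ψ => ?_⟩
    have h1 : ∀ χ : F₀ →ₗ[A] N, χ = 0 := by
      intro χ
      have h2 : Ext.mk₀ (ModuleCat.ofHom (N.subtype ∘ₗ χ)) =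
          (0 : Ext (ModuleCat.of A F₀) (ModuleCat.of A G) 0) := Subsingleton.elim _ _
      have h3 : ModuleCat.ofHom (N.subtype ∘ₗ χ) = 0 := by
        have := congrArg (Ext.linearEquiv₀ (R := A)) h2
        simpa using this
      apply LinearMap.ext
      intro x
      apply Subtype.ext
      have := congrArg (fun t => t.hom x) h3
      exact this
    rw [h1 φ, h1 ψ]
  obtain ⟨r, hr, hreg⟩ := IsSMulRegular.subsingleton_linearMap_iff.mp hsub
  -- `r ∈ Ann F₀ ⊆ rad J`
  rw [Module.support_eq_zeroLocus, PrimeSpectrum.zeroLocus_eq_iff] at hsupp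
  have hr' : r ∈ J.radical := by
    have : r ∈ (Module.annihilator A F₀).radical := Ideal.le_radical hr
    have h4 : (Module.annihilator A F₀).radical = J.radical := by simpa using hsupp
    rwa [h4] at this
  obtain ⟨k, hk⟩ := hr'
  obtain ⟨m, hm⟩ := hg
  have h5 : (r ^ k) ^ m • g = 0 := hm _ (Ideal.pow_mem_pow hk m)
  have hgN : g ∈ N := Submodule.mem_span_singleton_self g
  have h6 : (r ^ k) ^ m • (⟨g, hgN⟩ : N) = 0 := Subtype.ext h5
  have h7 : IsSMulRegular N ((r ^ k) ^ m) := (hreg.pow k).pow m
  have h8 : (⟨g, hgN⟩ : N) = 0 :=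
    h7 (show (r ^ k) ^ m • (⟨g, hgN⟩ : N) = (r ^ k) ^ m • (0 : N) by rw [smul_zero]; exact h6)
  exact congrArg Subtype.val h8

/-- (c) ⇒ (a) -/
theorem H_vanishing_of_ext (F₀ : Type u) [AddCommGroup F₀] [Module A F₀] [Module.Finite A F₀]
    (hsupp : Module.support A F₀ = PrimeSpectrum.zeroLocus (J : Set A)) :
    ∀ (n : ℕ) (G : Type u) [AddCommGroup G] [Module A G],
      (∀ i : ℕ, i < n → Subsingleton (Ext (ModuleCat.of A F₀) (ModuleCat.of A G) i)) →
      ∀ i : ℕ, i < n → Subsingleton (Groth.Agent.Helper8.LC.H J i G) := by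
  have hF₀ : IsTors J F₀ := isTors_of_support_subset J F₀ hsupp.le
  intro n
  induction n with
  | zero => intro G _ _ _ i hi; omega
  | succ n ih =>
    intro G _ _ hG i hi
    have hgam : gam J G = ⊥ := gam_eq_bot_of_hom_subsingleton J F₀ hsupp G (hG 0 (by omega))
    obtain ⟨E, _, _, _, hE, f, hf⟩ := exists_injective_embedding_of_gam_eq_bot J G hgam
    have hses := isSES_of_injective hf
    have hS := hses.shortExact
    have hQ : ∀ i : ℕ, i < n →
        Subsingleton (Ext (ModuleCat.of A F₀) (ModuleCat.of A (E ⧸ LinearMap.range f)) i) := by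
      intro i hi
      exact ext_subsingleton_X₃ hS (ModuleCat.of A F₀) i
        (ext_subsingleton_of_injective_of_gam J F₀ E hF₀ hE i) (hG (i + 1) (by omega))
    have hHQ := ih (E ⧸ LinearMap.range f) hQ
    rcases Nat.eq_zero_or_pos i with rfl | hpos
    · exact H_zero_subsingleton_of_gam_eq_bot J G hgam
    · obtain ⟨j, rfl⟩ : ∃ j, i = j + 1 := ⟨i - 1, by omega⟩
      have := hHQ j (by omega)
      have := H_subsingleton_of_injective_of_gam J E hE (j + 1)
      exact hses.subsingleton_left_succ J j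


/-- The affine case. Let A be a Noetherian ring, J an ideal, G any A-module and n ≥ 0. Then: H^i_J(G) =
0 for all i < n iff Ext^i_A(F, G) = 0 for all i < n and all finite A-modules F with Supp F ⊆ V(J),
iff Ext^i_A(F, G) = 0 for all i < n for one finite F with Supp F = V(J). (G is not assumed finitely
generated.) -/
theorem result (A : Type u) [CommRing A] [IsNoetherianRing A] (J : Ideal A) (G : Type u) [AddCommGroup G] [Module A G] (n : ℕ) : ((∀ i : ℕ, i < n → Subsingleton (LocCoh.H J i G)) ↔ ∀ (F : Type u) [AddCommGroup F] [Module A F], Module.Finite A F → Module.support A F ⊆ PrimeSpectrum.zeroLocus (J : Set A) → ∀ i : ℕ, i < n → Subsingleton (Abelian.Ext (ModuleCat.of A F) (ModuleCat.of A G) i)) ∧ ((∀ i : ℕ, i < n → Subsingleton (LocCoh.H J i G)) ↔ ∃ (F : Type u) (_ : AddCommGroup F) (_ : Module A F), Module.Finite A F ∧ Module.support A F = PrimeSpectrum.zeroLocus (J : Set A) ∧ ∀ i : ℕ, i < n → Subsingleton (Abelian.Ext (ModuleCat.of A F) (ModuleCat.of A G) i)) := by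
  have hsuppQ : Module.support A (A ⧸ J) = PrimeSpectrum.zeroLocus (J : Set A) := by
    rw [Module.support_eq_zeroLocus, Ideal.annihilator_quotient]
  have hab : (∀ i : ℕ, i < n → Subsingleton (LocCoh.H J i G)) → ∀ (F : Type u) [AddCommGroup F]
      [Module A F], Module.Finite A F → Module.support A F ⊆ PrimeSpectrum.zeroLocus (J : Set A) →
      ∀ i : ℕ, i < n → Subsingleton (Abelian.Ext (ModuleCat.of A F) (ModuleCat.of A G) i) := by
    intro h F _ _ hfin hsupp i hi
    exact ext_vanishing_of_H J n G h F (isTors_of_support_subset J F hsupp) i hi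
  have hca : (∃ (F : Type u) (_ : AddCommGroup F) (_ : Module A F), Module.Finite A F ∧
      Module.support A F = PrimeSpectrum.zeroLocus (J : Set A) ∧ ∀ i : ℕ, i < n →
      Subsingleton (Abelian.Ext (ModuleCat.of A F) (ModuleCat.of A G) i)) →
      (∀ i : ℕ, i < n → Subsingleton (LocCoh.H J i G)) := by
    rintro ⟨F, _, _, hfin, hsupp, hext⟩ i hi
    exact H_vanishing_of_ext J F hsupp n G hext i hi
  have hbc : (∀ (F : Type u) [AddCommGroup F] [Module A F], Module.Finite A F →
      Module.support A F ⊆ PrimeSpectrum.zeroLocus (J : Set A) → ∀ i : ℕ, i < n →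
      Subsingleton (Abelian.Ext (ModuleCat.of A F) (ModuleCat.of A G) i)) →
      (∃ (F : Type u) (_ : AddCommGroup F) (_ : Module A F), Module.Finite A F ∧
      Module.support A F = PrimeSpectrum.zeroLocus (J : Set A) ∧ ∀ i : ℕ, i < n →
      Subsingleton (Abelian.Ext (ModuleCat.of A F) (ModuleCat.of A G) i)) := by
    intro h
    exact ⟨A ⧸ J, inferInstance, inferInstance, inferInstance, hsuppQ,
      h (A ⧸ J) inferInstance hsuppQ.le⟩
  exact ⟨⟨hab, fun h => hca (hbc h)⟩, ⟨fun h => hbc (hab h), hca⟩⟩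

end Groth.Agent.S5162
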