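import Groth.Statements.S5163
import Mathlib.RingTheory.Regular.LinearMap

set_option autoImplicit false
universe u
open LocCoh

namespace Groth.Agent.S5163

/-- For modules over a Noetherian ring. Let P be a finite A-module and H any A-module with Supp H ⊆ Supp
P. If Hom_A(P, H) = 0 then H = 0. (The published lemma is stated over an arbitrary prescheme; its
proof uses that a nonzero module has an associated prime, so the ring is taken Noetherian here.) -/
theorem result (A : Type u) [CommRing A] [IsNoetherianRing A] (P H : Type u) [AddCommGroup P] [Module A P] [Module.Finite A P] [AddCommGroup H] [Module A H] (hsupp : Module.support A H ⊆ Module.support A P) (hhom : Subsingleton (P →ₗ[A] H)) : Subsingleton H := by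
  classical
  by_contra hH
  rw [not_subsingleton_iff_nontrivial] at hH
  obtain ⟨p, hp⟩ := associatedPrimes.nonempty A H
  obtain ⟨hprime, ι, hι⟩ := (isAssociatedPrime_iff_exists_injective_linearMap p H).mp hp
  -- `p` lies in the support of `P`
  have hpH : (⟨p, hprime⟩ : PrimeSpectrum A) ∈ Module.support A H := by
    apply Module.support_subset_of_injective ι hι
    rw [Module.support_of_algebra, PrimeSpectrum.mem_zeroLocus, Ideal.Quotient.algebraMap_eq,
      Ideal.mk_ker]
  have hpP := hsupp hpH
  have hann : Module.annihilator A P ≤ p := Module.annihilator_le_of_mem_support hpP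
  -- `Hom(P, A/p) = 0`
  have hsub : Subsingleton (P →ₗ[A] A ⧸ p) := by
    refine ⟨fun g g' => ?_⟩
    have h1 : ι.comp g = ι.comp g' := Subsingleton.elim _ _
    ext x
    exact hι (LinearMap.congr_fun h1 x)
  obtain ⟨r, hrann, hreg⟩ := IsSMulRegular.subsingleton_linearMap_iff.mp hsub
  have hrp : r ∈ p := hann hrann
  have h2 : r • (1 : A ⧸ p) = r • (0 : A ⧸ p) := by
    rw [smul_zero, Algebra.smul_def, mul_one, Ideal.Quotient.algebraMap_eq,
      Ideal.Quotient.eq_zero_iff_mem]
    exact hrp
  have h3 : (1 : A ⧸ p) = 0 := hreg h2
  have : Nontrivial (A ⧸ p) := Ideal.Quotient.nontrivial_iff.mpr hprime.ne_top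
  exact one_ne_zero h3

end Groth.Agent.S5163
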