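import Groth.Statements.S5166
import Groth.Agent.Lib.Helper8.Goldman

set_option autoImplicit false
universe u
open LocCoh

namespace Groth.Agent.S5166

/-- In its local form at a point y ∈ Y (A = O_{X,y}). Let A be a Noetherian local ring and I ≠ A an
ideal contained in no minimal prime of A. Then some prime p ⊉ I has dim A/p = 1. -/
theorem result (A : Type u) [CommRing A] [IsLocalRing A] [IsNoetherianRing A] (I : Ideal A) (hI : I ≠ ⊤) (hdense : ∀ q ∈ minimalPrimes A, ¬ I ≤ q) : ∃ p : PrimeSpectrum A, ¬ I ≤ p.asIdeal ∧ ringKrullDim (A ⧸ p.asIdeal) = 1 := by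
  classical
  -- the primes not containing `I`
  set S : Set (Ideal A) := {p | p.IsPrime ∧ ¬ I ≤ p} with hS
  have hSne : S.Nonempty := by
    obtain ⟨q, hq⟩ := Ideal.nonempty_minimalPrimes (bot_ne_top (α := Ideal A))
    exact ⟨q, hq.1.1, hdense q hq⟩
  obtain ⟨p, hpS, hpmax⟩ := (wellFounded_gt (α := Ideal A)).has_min S hSne
  obtain ⟨hp, hIp⟩ := hpS
  obtain ⟨x, hxI, hxp⟩ := Set.not_subset.mp hIp
  have hf : (Ideal.Quotient.mk p x) ≠ 0 := by
    rwa [Ne, Ideal.Quotient.eq_zero_iff_mem]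
  have hq : ∀ q : Ideal (A ⧸ p), q.IsPrime → Ideal.Quotient.mk p x ∉ q → q = ⊥ := by
    intro q hq hxq
    have hq' : (q.comap (Ideal.Quotient.mk p)).IsPrime := Ideal.comap_isPrime _ _
    have hle : p ≤ q.comap (Ideal.Quotient.mk p) := by
      intro a ha
      rw [Ideal.mem_comap, Ideal.Quotient.eq_zero_iff_mem.mpr ha]
      exact q.zero_mem
    have hnI : ¬ I ≤ q.comap (Ideal.Quotient.mk p) := fun h => hxq (h hxI)
    have heq : q.comap (Ideal.Quotient.mk p) = p := by
      by_contra hne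
      exact hpmax _ ⟨hq', hnI⟩ (lt_of_le_of_ne hle (Ne.symm hne))
    rw [← Ideal.map_comap_of_surjective (Ideal.Quotient.mk p) Ideal.Quotient.mk_surjective q, heq,
      Ideal.map_quotient_self]
  refine ⟨⟨p, hp⟩, hIp, le_antisymm (Groth.Agent.Helper8.Goldman.ringKrullDim_le_one_of hf hq) ?_⟩
  -- the quotient is not a field
  have hpm : p < IsLocalRing.maximalIdeal A := by
    refine lt_of_le_of_ne (IsLocalRing.le_maximalIdeal hp.ne_top) ?_
    rintro rfl
    exact hIp (IsLocalRing.le_maximalIdeal hI)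
  have hm' : ((IsLocalRing.maximalIdeal A).map (Ideal.Quotient.mk p)).IsPrime :=
    Ideal.map_isPrime_of_surjective Ideal.Quotient.mk_surjective (by
      rw [Ideal.mk_ker]; exact hpm.le)
  have hbot : (⊥ : Ideal (A ⧸ p)) < (IsLocalRing.maximalIdeal A).map (Ideal.Quotient.mk p) := by
    rw [bot_lt_iff_ne_bot]
    intro h
    obtain ⟨y, hym, hyp⟩ := Set.not_subset.mp (not_le_of_gt hpm)
    have : Ideal.Quotient.mk p y ∈ (⊥ : Ideal (A ⧸ p)) := by
      rw [← h]; exact Ideal.mem_map_of_mem _ hym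
    rw [Ideal.mem_bot, Ideal.Quotient.eq_zero_iff_mem] at this
    exact hyp this
  have hbp : (⊥ : Ideal (A ⧸ p)).IsPrime := Ideal.isPrime_bot
  have h1 := Ideal.height_add_one_le_of_lt_of_isPrime hbot
  have h2 : (((IsLocalRing.maximalIdeal A).map (Ideal.Quotient.mk p)).height : WithBot ℕ∞) ≤
      ringKrullDim (A ⧸ p) := Ideal.height_le_ringKrullDim_of_isPrime
  have h3 : (1 : ℕ∞) ≤ ((IsLocalRing.maximalIdeal A).map (Ideal.Quotient.mk p)).height :=
    le_trans le_add_self h1
  exact le_trans (by exact_mod_cast h3) h2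

end Groth.Agent.S5166
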