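import Groth.Statements.S5168
import Mathlib.Algebra.Module.Injective
import Mathlib.RingTheory.Filtration
import Mathlib.LinearAlgebra.Isomorphisms

set_option autoImplicit false
universe u
open InjHull

namespace Groth.Agent.S5168

variable {A : Type u} [CommRing A] (J : Ideal A) {H : Type u} [AddCommGroup H] [Module A H]

theorem exists_common_pow (hH : LocCoh.IsPowerTorsion J H) (F : Finset H) :
    ∃ k : ℕ, ∀ h ∈ F, ∀ r ∈ J ^ k, r • h = 0 := by
  choose kf hkf using hH
  refine ⟨F.sup kf, fun h hh r hr => hkf h r (Ideal.pow_le_pow_right (Finset.le_sup hh) hr)⟩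

theorem exists_pow_kills_range [IsNoetherianRing A] (hH : LocCoh.IsPowerTorsion J H) (𝔞 : Ideal A)
    (g : 𝔞 →ₗ[A] H) : ∃ k : ℕ, ∀ x : 𝔞, ∀ r ∈ J ^ k, r • g x = 0 := by
  classical
  obtain ⟨S, hS⟩ := (Module.finite_def (R := A) (M := 𝔞)).1 inferInstance
  obtain ⟨k, hk⟩ := exists_common_pow J hH (S.image g)
  refine ⟨k, fun x r hr => ?_⟩
  have hx : x ∈ Submodule.span A (S : Set 𝔞) := by rw [hS]; trivial
  induction hx using Submodule.span_induction with
  | mem y hy => exact hk (g y) (Finset.mem_image_of_mem g hy) r hr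
  | zero => simp
  | add y z _ _ hy hz => rw [map_add, smul_add, hy, hz, add_zero]
  | smul c y _ hy => rw [map_smul, smul_comm, hy, smul_zero]

theorem baer [IsNoetherianRing A] (hH : LocCoh.IsPowerTorsion J H)
    (hext : ∀ (M : Type u) [AddCommGroup M] [Module A M], Module.Finite A M →
      (∃ k : ℕ, (J ^ k) • (⊤ : Submodule A M) = ⊥) → ∀ (N : Submodule A M) (g : N →ₗ[A] H),
        ∃ g' : M →ₗ[A] H, g'.comp N.subtype = g) : Module.Baer A H := by
  intro 𝔞 g
  obtain ⟨k, hk⟩ := exists_pow_kills_range J hH 𝔞 g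
  obtain ⟨c, hc⟩ := Ideal.exists_pow_inf_eq_pow_smul J (𝔞 : Submodule A A)
  set n := c + k with hn
  -- g vanishes on J^n ∩ 𝔞
  have hvan : ∀ (x : A) (hx : x ∈ 𝔞), x ∈ J ^ n → g ⟨x, hx⟩ = 0 := by
    intro x hx hxn
    have h1 : x ∈ (J ^ n • (⊤ : Submodule A A) ⊓ (𝔞 : Submodule A A)) := by
      refine ⟨?_, hx⟩
      rw [Ideal.smul_top_eq_map]
      simpa using hxn
    rw [hc n (by omega)] at h1
    have hnc : n - c = k := by omega
    rw [hnc] at h1
    have hle : J ^ k • (J ^ c • (⊤ : Submodule A A) ⊓ (𝔞 : Submodule A A)) ≤ (𝔞 : Submodule A A) :=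
      Submodule.smul_le.2 fun r _ y hy => 𝔞.smul_mem r hy.2
    have key : ∀ (y : A) (hy : y ∈ J ^ k • (J ^ c • (⊤ : Submodule A A) ⊓ (𝔞 : Submodule A A))),
        g ⟨y, hle hy⟩ = 0 := by
      intro y hy
      refine Submodule.smul_induction_on' (p := fun y hy => g ⟨y, hle hy⟩ = 0) hy ?_ ?_
      · intro r hr z hz
        have : (⟨r • z, hle (Submodule.smul_mem_smul hr hz)⟩ : 𝔞) = r • (⟨z, hz.2⟩ : 𝔞) := rfl
        rw [this, map_smul]
        exact hk _ r hr
      · intro y hy z hz h1 h2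
        have : (⟨y + z, hle (add_mem hy hz)⟩ : 𝔞) = ⟨y, hle hy⟩ + ⟨z, hle hz⟩ := rfl
        rw [this, map_add, h1, h2, add_zero]
    exact key x h1
  let π : A →ₗ[A] (A ⧸ J ^ n) := (J ^ n).mkQ
  let φ : 𝔞 →ₗ[A] (A ⧸ J ^ n) := π ∘ₗ 𝔞.subtype
  have hker : LinearMap.ker φ ≤ LinearMap.ker g := by
    intro x hx
    rw [LinearMap.mem_ker] at hx ⊢
    have : (x : A) ∈ J ^ n := by
      have := (Submodule.Quotient.mk_eq_zero (J ^ n)).1 hx
      exact this
    exact hvan x x.2 this
  let gbar : LinearMap.range φ →ₗ[A] H :=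
    ((LinearMap.ker φ).liftQ g hker) ∘ₗ (φ.quotKerEquivRange.symm : _ →ₗ[A] _)
  have hfin : Module.Finite A (A ⧸ J ^ n) := inferInstance
  have htors : ∃ k : ℕ, (J ^ k) • (⊤ : Submodule A (A ⧸ J ^ n)) = ⊥ := by
    refine ⟨n, ?_⟩
    rw [eq_bot_iff]
    refine Submodule.smul_le.2 fun r hr y _ => ?_
    obtain ⟨y, rfl⟩ := Submodule.Quotient.mk_surjective _ y
    rw [Submodule.mem_bot, ← Submodule.Quotient.mk_smul, Submodule.Quotient.mk_eq_zero]
    exact Ideal.mul_mem_right _ _ hr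
  obtain ⟨g', hg'⟩ := hext (A ⧸ J ^ n) hfin htors (LinearMap.range φ) gbar
  refine ⟨g' ∘ₗ π, fun x hx => ?_⟩
  have h1 : g' (π x) = gbar ⟨φ ⟨x, hx⟩, LinearMap.mem_range_self φ _⟩ := by
    rw [← hg']; rfl
  rw [LinearMap.comp_apply, h1]
  simp only [gbar, LinearMap.comp_apply, LinearEquiv.coe_coe]
  rw [LinearMap.quotKerEquivRange_symm_apply_image]
  rfl


/-- Let A be a Noetherian ring, J an ideal and H a J-power torsion A-module. Then H is injective if and
only if Hom_A(−, H) is exact on finite A-modules killed by a power of J, i.e. every linear map to H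
from a submodule of such a module M extends to M. -/
theorem result (A : Type u) [CommRing A] [IsNoetherianRing A] (J : Ideal A) (H : Type u) [AddCommGroup H] [Module A H] (hH : LocCoh.IsPowerTorsion J H) : Module.Injective A H ↔ ∀ (M : Type u) [AddCommGroup M] [Module A M], Module.Finite A M → (∃ k : ℕ, (J ^ k) • (⊤ : Submodule A M) = ⊥) → ∀ (N : Submodule A M) (g : N →ₗ[A] H), ∃ g' : M →ₗ[A] H, g'.comp N.subtype = g := by
  constructor
  · intro hinj M _ _ _ _ N g
    obtain ⟨h, hh⟩ := hinj.out N.subtype N.injective_subtype g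
    exact ⟨h, LinearMap.ext hh⟩
  · intro hext
    exact (baer J hH hext).injective

end Groth.Agent.S5168
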