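import Groth.Statements.S5171
import Groth.Agent.Lib.Helper8.LCDepth
import Groth.Agent.Lib.Lead.Depth16

set_option autoImplicit false
universe u
open LocCoh

namespace Groth.Agent.S5171

open Groth.Agent.Helper8.LC Groth.Agent.Lead.Depth in

/-- Let A be a Noetherian ring, J an ideal, n ≥ 0 and G a finite Cohen–Macaulay A-module (each
localization G_p is zero or Cohen–Macaulay). Then H^i_J(G) = 0 for i < n if and only if codim(V(J) ∩
Supp G, Supp G) ≥ n, i.e. dim Supp(G_p) ≥ n for every p ∈ V(J) ∩ Supp G. -/
theorem result (A : Type u) [CommRing A] [IsNoetherianRing A] (J : Ideal A) (G : Type u) [AddCommGroup G] [Module A G] [Module.Finite A G] (hCM : ∀ p : PrimeSpectrum A, Subsingleton (LocalizedModule p.asIdeal.primeCompl G) ∨ LocCoh.IsCohenMacaulayModule (Localization.AtPrime p.asIdeal) (LocalizedModule p.asIdeal.primeCompl G)) (n : ℕ) : (∀ i : ℕ, i < n → Subsingleton (LocCoh.H J i G)) ↔ ∀ p : PrimeSpectrum A, J ≤ p.asIdeal → p ∈ Module.support A G → (n : WithBot ℕ∞) ≤ Module.supportDim (Localization.AtPrime p.asIdeal) (LocalizedModule p.asIdeal.primeCompl G) := by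
  rw [← le_idealDepth_iff_H' J n G, idealDepth_eq_iInf_depth_localizedModule J G, le_iInf₂_iff]
  constructor
  · intro h p hJp hp
    have hnt : Nontrivial (LocalizedModule p.asIdeal.primeCompl G) := Module.mem_support_iff.mp hp
    rcases hCM p with hs | hcm
    · exact absurd hs (not_subsingleton _)
    · rw [hcm]
      exact_mod_cast h p hJp
  · intro h p hJp
    by_cases hp : p ∈ Module.support A G
    · have hnt : Nontrivial (LocalizedModule p.asIdeal.primeCompl G) :=
        Module.mem_support_iff.mp hp
      rcases hCM p with hs | hcm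
      · exact absurd hs (not_subsingleton _)
      · have := h p hJp hp
        rw [hcm] at this
        exact_mod_cast this
    · have hs : Subsingleton (LocalizedModule p.asIdeal.primeCompl G) :=
        Module.notMem_support_iff.mp hp
      rw [depth_eq_top_of_subsingleton]
      exact le_top

end Groth.Agent.S5171
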