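import Groth.Statements.S5174
import Groth.Agent.Lib.Helper8.ExtRep3

set_option autoImplicit false
universe u
open CategoryTheory Opposite
open LocCoh

namespace Groth.Agent.S5174
open Groth.Agent.Helper8 Groth.Agent.Helper8.LC Groth.Agent.Helper8.ExtRep

/-- Affine case with Z = X. Let A be a Noetherian ring, J an ideal, G any A-module and n ≥ 0 with
Ext^{n−1}_A(F', G) = 0 for all finite F' supported in V(J). Then for every finite A-module F with
Supp F ⊆ V(J) there is an A-linear isomorphism Ext^n_A(F, G) ≅ Hom_A(F, H^n_J(G)). (Existence of the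
isomorphism is asserted; in the source it is the canonical one expressing that Ext^n_A(−, G), left
exact on such F, is represented by H^n_J(G).) -/
theorem result (A : Type u) [CommRing A] [IsNoetherianRing A] (J : Ideal A) (G : Type u) [AddCommGroup G] [Module A G] (n : ℕ) (hvan : ∀ (F' : Type u) [AddCommGroup F'] [Module A F'], Module.Finite A F' → Module.support A F' ⊆ PrimeSpectrum.zeroLocus (J : Set A) → ∀ i : ℕ, i + 1 = n → Subsingleton (((Ext A (ModuleCat.{u} A) i).obj (op (ModuleCat.of A F'))).obj (ModuleCat.of A G))) (F : Type u) [AddCommGroup F] [Module A F] [Module.Finite A F] (hF : Module.support A F ⊆ PrimeSpectrum.zeroLocus (J : Set A)) : Nonempty ((((Ext A (ModuleCat.{u} A) n).obj (op (ModuleCat.of A F))).obj (ModuleCat.of A G)) ≃ₗ[A] (F →ₗ[A] LocCoh.H J n G)) := by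
  have hv : Van J n G := by
    intro K _ _ hKfin hK j hj
    obtain ⟨m, hm⟩ := hK
    have hsupp : Module.support A K ⊆ PrimeSpectrum.zeroLocus (J : Set A) := by
      intro p hp
      rw [Module.mem_support_iff_of_finite] at hp
      rw [PrimeSpectrum.mem_zeroLocus]
      have h1 : J ^ m ≤ p.asIdeal := by
        refine le_trans ?_ hp
        intro a ha
        rw [Module.mem_annihilator]
        exact hm a ha
      exact Ideal.IsPrime.le_of_pow_le h1
    have h2 := hvan K hKfin hsupp j hj
    exact (extEquiv (ModuleCat.of A K) (ModuleCat.of A G) j).symm.toEquiv.subsingleton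
  have hk : ∃ k : ℕ, ∀ a ∈ J ^ k, ∀ u : F, a • u = 0 := by
    rw [Module.support_eq_zeroLocus, PrimeSpectrum.zeroLocus_subset_zeroLocus_iff] at hF
    obtain ⟨k, hk⟩ := Ideal.exists_pow_le_of_le_radical_of_fg hF
      ((isNoetherianRing_iff_ideal_fg A).mp inferInstance J)
    exact ⟨k, fun a ha u => Module.mem_annihilator.mp (hk ha) u⟩
  obtain ⟨k, hk⟩ := hk
  obtain ⟨e⟩ := nonempty_equiv hv F k hk
  exact ⟨(extEquiv (ModuleCat.of A F) (ModuleCat.of A G) n).trans e⟩

end Groth.Agent.S5174
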