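import Groth.Statements.S5175
import Groth.Agent.Lib.Helper8.Matlis6
import Groth.Agent.S0301

set_option autoImplicit false
universe u
open Matlis

namespace Groth.Agent.S5175

open IsLocalRing Groth.Agent.Helper8.Matlis


/-- Let k₀ be a field and A a Noetherian local k₀-algebra with [k : k₀] finite, k the residue field.
Then the topological dual A' = colim_n Hom_{k₀}(A/m^n, k₀), i.e. the submodule of Hom_{k₀}(A, k₀) of
forms killing some power of m (A acting through the source), is an injective hull of k (it is the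
dualizing module of A). -/
theorem result (k₀ : Type u) [Field k₀] (A : Type u) [CommRing A] [IsLocalRing A] [IsNoetherianRing A] [Algebra k₀ A] [Module.Finite k₀ (A ⧸ IsLocalRing.maximalIdeal A)] : ∃ f : IsLocalRing.ResidueField A →ₗ[A] ↥(⨆ n : ℕ, Submodule.torsionBySet A ((ModuleCat.coextendScalars (algebraMap k₀ A)).obj (ModuleCat.of k₀ k₀)) ((IsLocalRing.maximalIdeal A ^ n : Ideal A) : Set A)), InjHull.IsInjectiveHull f := by
  have hf₀ := field_isInjectiveHull k₀
  have hinjX : Module.Injective A (Coext k₀ A k₀) :=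
    @injective_coext k₀ A _ _ _ k₀ _ _ (Module.injective_of_isSemisimpleRing k₀ k₀)
  have hinjT := Groth.Agent.S0301.result A (Coext k₀ A k₀) hinjX (maximalIdeal A)
  have hfinV : Module.Finite k₀ (ResidueField A) :=
    (inferInstance : Module.Finite k₀ (A ⧸ IsLocalRing.maximalIdeal A))
  have hV : IsFiniteLength k₀ (ResidueField A) := isFiniteLength_of_finite_field k₀ _
  -- the family is monotone
  have hmono : Monotone (fun n : ℕ => Submodule.torsionBySet A (Coext k₀ A k₀)
      ((maximalIdeal A ^ n : Ideal A) : Set A)) := by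
    intro n n' hnn' x hx
    rw [Submodule.mem_torsionBySet_iff] at hx ⊢
    intro a
    exact hx ⟨a.1, Ideal.pow_le_pow_right hnn' a.2⟩
  have hmemT : ∀ φ : Coext k₀ A k₀, φ ∈ (⨆ n : ℕ, Submodule.torsionBySet A (Coext k₀ A k₀)
      ((maximalIdeal A ^ n : Ideal A) : Set A)) ↔ ∃ n : ℕ, ∀ a ∈ maximalIdeal A ^ n, a • φ = 0 := by
    intro φ
    rw [Submodule.mem_iSup_of_directed _ hmono.directed_le]
    constructor
    · rintro ⟨n, hn⟩
      rw [Submodule.mem_torsionBySet_iff] at hn
      exact ⟨n, fun a ha => hn ⟨a, ha⟩⟩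
    · rintro ⟨n, hn⟩
      refine ⟨n, ?_⟩
      rw [Submodule.mem_torsionBySet_iff]
      exact fun a => hn a.1 a.2
  have htorsT : LocCoh.IsPowerTorsion (maximalIdeal A) ↥(⨆ n : ℕ, Submodule.torsionBySet A
      (Coext k₀ A k₀) ((maximalIdeal A ^ n : Ideal A) : Set A)) := by
    intro τ
    obtain ⟨n, hn⟩ := (hmemT τ.1).1 τ.2
    exact ⟨n, fun a ha => Subtype.ext (hn a ha)⟩
  -- a nonzero element
  have hnt : (⊤ : Submodule A ↥(⨆ n : ℕ, Submodule.torsionBySet A
      (Coext k₀ A k₀) ((maximalIdeal A ^ n : Ideal A) : Set A))) ≠ ⊥ := by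
    have h1 := applyₗ_injective hf₀ (ResidueField A)
    have h2 : (LinearMap.applyₗ (1 : ResidueField A) :
        (ResidueField A →ₗ[k₀] k₀) →ₗ[k₀] k₀) ≠ 0 := by
      intro h0
      exact one_ne_zero (h1 (by rw [h0, map_zero]))
    obtain ⟨χ, hχ⟩ : ∃ χ : ResidueField A →ₗ[k₀] k₀, χ 1 ≠ 0 := by
      by_contra hno
      push Not at hno
      apply h2
      ext χ
      exact hno χ
    let π : A →ₗ[k₀] ResidueField A := (IsScalarTower.toAlgHom k₀ A (ResidueField A)).toLinearMap
    have hπa : ∀ t, π t = residue A t := fun t => rfl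
    let φ : Coext k₀ A k₀ := Coext.ofLin (χ.comp π)
    have hφ : ∀ a ∈ maximalIdeal A ^ 1, a • φ = 0 := by
      intro a ha
      rw [pow_one] at ha
      apply Coext.ext'
      intro t
      rw [Coext.smul_apply, Coext.zero_apply, Coext.ofLin_apply, LinearMap.comp_apply, hπa]
      have : residue A (t * a) = 0 := by
        rw [residue_eq_zero_iff]
        exact Ideal.mul_mem_left _ _ ha
      rw [this, map_zero]
    have hφT := (hmemT φ).2 ⟨1, hφ⟩
    intro htb
    have : (⟨φ, hφT⟩ : ↥(⨆ n : ℕ, Submodule.torsionBySet A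
      (Coext k₀ A k₀) ((maximalIdeal A ^ n : Ideal A) : Set A))) ∈
        (⊥ : Submodule A _) := htb ▸ Submodule.mem_top
    rw [Submodule.mem_bot] at this
    have h3 : φ = 0 := congrArg Subtype.val this
    apply hχ
    have h4 : φ (1 : A) = χ 1 := by
      rw [Coext.ofLin_apply, LinearMap.comp_apply, hπa, map_one]
    rw [← h4, h3, Coext.zero_apply]
  obtain ⟨e₀, -, hne, he₀⟩ := exists_socle_mem htorsT ⊤ hnt
  refine ⟨ofSocle e₀ he₀, isInjectiveHull_of_socle_cyclic hinjT htorsT e₀ he₀ hne ?_⟩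
  intro e' he' hne'
  have h1 : ∀ b ∈ maximalIdeal A, b • e'.1 = 0 := fun b hb => congrArg Subtype.val (he' b hb)
  have h2 : ∀ b ∈ maximalIdeal A, b • e₀.1 = 0 := fun b hb => congrArg Subtype.val (he₀ b hb)
  have h3 : e'.1 ≠ 0 := fun h => hne' (Subtype.ext h)
  obtain ⟨b, hb⟩ := socle_cyclic' (A := k₀) (B := A) hV hf₀ e'.1 e₀.1 h1 h2 h3
  exact ⟨b, Subtype.ext hb⟩

end Groth.Agent.S5175
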