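import Groth.Statements.S5179
-- import your own Groth.Agent.* helpers here
import Groth.Agent.Lib.Helper3.CI9

set_option autoImplicit false
universe u
open CInt

namespace Groth.Agent.S5179

/-- Let A → A' be a flat local homomorphism of Noetherian local rings such that m_A A' is the maximal
ideal of A' and the residue field of A' is a separable extension of the residue field k of A
(separable in the sense that it is formally smooth over k; so A' ⊗_A k is a field separable over k).
Present the completions as Â ≅ B/I and Â' ≅ B'/I' with B, B' regular local rings of dimensions e,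
e'. Then e − μ(I) = e' − μ(I'), μ denoting the minimal number of generators: A and A' have the same
geometric depth. -/
theorem result (A A' : Type u) [CommRing A] [IsLocalRing A] [IsNoetherianRing A] [CommRing A'] [IsLocalRing A'] [IsNoetherianRing A'] [Algebra A A'] [IsLocalHom (algebraMap A A')] [Module.Flat A A'] (hmax : Ideal.map (algebraMap A A') (IsLocalRing.maximalIdeal A) = IsLocalRing.maximalIdeal A') (hsep : Algebra.FormallySmooth (IsLocalRing.ResidueField A) (IsLocalRing.ResidueField A')) (B B' : Type u) [CommRing B] [IsRegularLocalRing B] [CommRing B'] [IsRegularLocalRing B'] (I : Ideal B) (I' : Ideal B') (hpres : Nonempty (AdicCompletion (IsLocalRing.maximalIdeal A) A ≃+* B ⧸ I)) (hpres' : Nonempty (AdicCompletion (IsLocalRing.maximalIdeal A') A' ≃+* B' ⧸ I')) (e e' : ℕ) (he : ringKrullDim B = (e : WithBot ℕ∞)) (he' : ringKrullDim B' = (e' : WithBot ℕ∞)) : (e : ℤ) - (I.spanFinrank : ℤ) = (e' : ℤ) - (I'.spanFinrank : ℤ) := by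
  classical
  obtain ⟨φ⟩ := hpres
  obtain ⟨φ'⟩ := hpres'
  obtain ⟨n, hn⟩ : ∃ n : ℕ, (IsLocalRing.maximalIdeal A).spanFinrank = n := ⟨_, rfl⟩
  have hfg : (IsLocalRing.maximalIdeal A).FG := IsNoetherian.noetherian _
  obtain ⟨z, hz⟩ := Groth.Agent.Helper3.CI3.exists_fin_gens (IsLocalRing.maximalIdeal A) hfg hn
  have hne : IsLocalRing.maximalIdeal A ≠ ⊤ := Ideal.IsPrime.ne_top'
  have hne' : IsLocalRing.maximalIdeal A' ≠ ⊤ := Ideal.IsPrime.ne_top'
  -- the completion of A
  haveI : IsLocalHom (algebraMap A (AdicCompletion (IsLocalRing.maximalIdeal A) A)) :=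
    ((IsLocalRing.local_hom_TFAE _).out 0 2).mpr (le_of_eq AdicCompletion.maximalIdeal_eq_map.symm)
  have k1 := Groth.Agent.Helper3.CI9.key A (AdicCompletion (IsLocalRing.maximalIdeal A) A)
    (algebraMap A (AdicCompletion (IsLocalRing.maximalIdeal A) A))
    (RingHom.flat_algebraMap_iff.mpr inferInstance)
    AdicCompletion.maximalIdeal_eq_map.symm B I φ e he z hz
  -- the completion of A'
  haveI : IsLocalHom (algebraMap A' (AdicCompletion (IsLocalRing.maximalIdeal A') A')) :=
    ((IsLocalRing.local_hom_TFAE _).out 0 2).mpr (le_of_eq AdicCompletion.maximalIdeal_eq_map.symm)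
  have hfl : ((algebraMap A' (AdicCompletion (IsLocalRing.maximalIdeal A') A')).comp
      (algebraMap A A')).Flat :=
    RingHom.Flat.comp (RingHom.flat_algebraMap_iff.mpr inferInstance)
      (RingHom.flat_algebraMap_iff.mpr inferInstance)
  have hmx : (IsLocalRing.maximalIdeal A).map
      ((algebraMap A' (AdicCompletion (IsLocalRing.maximalIdeal A') A')).comp
      (algebraMap A A')) = IsLocalRing.maximalIdeal _ := by
    rw [← Ideal.map_map, hmax]
    exact AdicCompletion.maximalIdeal_eq_map.symm
  have k2 := Groth.Agent.Helper3.CI9.key A (AdicCompletion (IsLocalRing.maximalIdeal A') A')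
    ((algebraMap A' (AdicCompletion (IsLocalRing.maximalIdeal A') A')).comp
      (algebraMap A A')) hfl hmx B' I' φ' e' he' z hz
  have hfin : Module.length A (Groth.Agent.Helper3.CI1.fH1 z) ≠ ⊤ := by
    intro htop
    rw [htop] at k1
    simp at k1
  obtain ⟨l, hl⟩ := ENat.ne_top_iff_exists.mp hfin
  rw [← hl] at k1 k2
  have k1' : I.spanFinrank + n = l + e := by exact_mod_cast k1
  have k2' : I'.spanFinrank + n = l + e' := by exact_mod_cast k2
  omega

end Groth.Agent.S5179
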