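import Groth.Statements.S5181
import Mathlib
import Groth.Agent.Lib.Helper10.FEtDepthB
import Groth.Agent.Lib.Helper10.FEtDepthC

set_option autoImplicit false
universe u
open CategoryTheory CategoryTheory.Limits AlgebraicGeometry Opposite
open EtDepth

namespace Groth.Agent.S5181

section helpers

open Groth.Agent.Helper10.FEtDepth

variable {X U : Scheme.{u}} (j : U ⟶ X) [IsOpenImmersion j]

/-- (K1): clopen subsets of étale `X`-schemes missing the preimage of `U` are empty. -/
def K1 : Prop :=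
  ∀ (W : X.Etale) (C : Set W.left), IsClopen C →
    (∀ x ∈ C, x ∉ W.hom ⁻¹' Set.range j) → C = ∅

/-- (K2): relatively clopen subsets of the preimage of `U` extend. -/
def K2 : Prop :=
  ∀ (W : X.Etale) (D : Set W.left), IsOpen D → IsOpen ((W.hom ⁻¹' Set.range j) \ D) →
    D ⊆ W.hom ⁻¹' Set.range j → ∃ C, IsClopen C ∧ C ∩ (W.hom ⁻¹' Set.range j) = D

lemma preimage_range {X' T : Scheme.{u}} (g : X' ⟶ X) (t : T ⟶ X') :
    t ⁻¹' Set.range (pullback.snd j g) = (t ≫ g) ⁻¹' Set.range j := by
  rw [Scheme.Pullback.range_snd j g]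
  rfl

lemma H1_of_K1 (h : K1 j) {X' : Scheme.{u}} (g : X' ⟶ X) [Etale g] : H1 (pullback.snd j g) := by
  intro T t _ C hC hd
  have := h (Scheme.Etale.mk (t ≫ g)) C hC
  apply this
  intro x hx hxV
  apply hd x hx
  rw [preimage_range]
  exact hxV

lemma H2_of_K2 (h : K2 j) {X' : Scheme.{u}} (g : X' ⟶ X) [Etale g] : H2 (pullback.snd j g) := by
  intro T t _ D hD hD' hsub
  rw [preimage_range] at hD' hsub ⊢
  exact h (Scheme.Etale.mk (t ≫ g)) D hD hD' hsub

lemma K1_of_faithful
    (h : ∀ (X' : Scheme.{u}) (g : X' ⟶ X) [Etale g], (FEt.restrict (pullback.snd j g)).Faithful) :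
    K1 j := by
  intro W C hC hd
  haveI : Etale (W.hom : W.left ⟶ X) := W.prop
  have hf := h W.left W.hom
  apply clopen_empty_of_faithful (pullback.snd j (W.hom : W.left ⟶ X)) hf C hC
  intro x hx hxr
  apply hd x hx
  rw [Scheme.Pullback.range_snd j (W.hom : W.left ⟶ X)] at hxr
  exact hxr

lemma K2_of_full
    (h : ∀ (X' : Scheme.{u}) (g : X' ⟶ X) [Etale g], (FEt.restrict (pullback.snd j g)).Full) :
    K2 j := by
  intro W D hD hD' hsub
  haveI : Etale (W.hom : W.left ⟶ X) := W.prop
  have hf := h W.left W.hom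
  have hr : Set.range (pullback.snd j (W.hom : W.left ⟶ X)) = W.hom ⁻¹' Set.range j :=
    Scheme.Pullback.range_snd j (W.hom : W.left ⟶ X)
  rw [← hr] at hD' hsub ⊢
  exact clopen_extend_of_full (pullback.snd j (W.hom : W.left ⟶ X)) hf D hD hD' hsub

theorem main :
    ((∀ ℓ : ℕ, ℓ.Prime → EtDepth.DepthGE j (EtCoh.const X (ZMod ℓ)) 1) ↔
      ∀ (X' : Scheme.{u}) (g : X' ⟶ X) [Etale g], (FEt.restrict (pullback.snd j g)).Faithful) ∧
    ((∀ ℓ : ℕ, ℓ.Prime → EtDepth.DepthGE j (EtCoh.const X (ZMod ℓ)) 2) ↔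
      ∀ (X' : Scheme.{u}) (g : X' ⟶ X) [Etale g],
        (FEt.restrict (pullback.snd j g)).Full ∧ (FEt.restrict (pullback.snd j g)).Faithful) := by
  constructor
  · rw [depth1_const_iff]
    constructor
    · intro h X' g _
      exact faithful_of_H1 _ (H1_of_K1 j h g)
    · intro h
      exact K1_of_faithful j h
  · rw [depth2_const_iff]
    constructor
    · rintro ⟨h1, h2⟩ X' g _
      exact ⟨full_of_H1_H2 _ (H1_of_K1 j h1 g) (H2_of_K2 j h2 g),
        faithful_of_H1 _ (H1_of_K1 j h1 g)⟩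
    · intro h
      exact ⟨K1_of_faithful j (fun X' g _ => (h X' g).2), K2_of_full j (fun X' g _ => (h X' g).1)⟩

end helpers

/-- Last assertion, in the cases of depth ≥ 1 and depth ≥ 2. Let X be a scheme and j : U → X an open
immersion with closed complement Y; for X' étale over X write U' = X' ×_X U. Then (a) the Y-étale
depth of X is ≥ 1, i.e. the local cohomology sheaf H^0_Y(Z/ℓ) vanishes for every prime ℓ, if and
only if for every scheme X' étale over X the restriction functor from finite étale covers of X' to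
finite étale covers of U' is faithful; and (b) the Y-étale depth of X is ≥ 2, i.e. H^0_Y(Z/ℓ) and
H^1_Y(Z/ℓ) vanish for every prime ℓ, if and only if for every scheme X' étale over X that
restriction functor is full and faithful. (The case of depth ≥ 3 versus equivalences is the
prelude's definition of homotopic depth ≥ 3.) -/
theorem result {X U : Scheme.{u}} (j : U ⟶ X) [IsOpenImmersion j] [EtCoh.BCCont j] : ((∀ ℓ : ℕ, ℓ.Prime → EtDepth.DepthGE j (EtCoh.const X (ZMod ℓ)) 1) ↔ ∀ (X' : Scheme.{u}) (g : X' ⟶ X) [Etale g], (FEt.restrict (pullback.snd j g)).Faithful) ∧ ((∀ ℓ : ℕ, ℓ.Prime → EtDepth.DepthGE j (EtCoh.const X (ZMod ℓ)) 2) ↔ ∀ (X' : Scheme.{u}) (g : X' ⟶ X) [Etale g], (FEt.restrict (pullback.snd j g)).Full ∧ (FEt.restrict (pullback.snd j g)).Faithful) := by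
  exact main j

end Groth.Agent.S5181
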