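import Groth.Statements.S5182
import Mathlib.RingTheory.Filtration

set_option autoImplicit false
universe u
open CInt


namespace Groth.Agent.S5182

open RingTheory.Sequence Function Pointwise TensorProduct

section General

variable {R : Type u} [CommRing R]

/-- Weak regularity passes to the middle term of a short exact sequence. -/
theorem isWeaklyRegular_of_exact (rs : List R) :
    ∀ {M' M M'' : Type u} [AddCommGroup M'] [Module R M'] [AddCommGroup M] [Module R M]
      [AddCommGroup M''] [Module R M''] (f : M' →ₗ[R] M) (g : M →ₗ[R] M''),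
      Injective f → Exact f g → Surjective g →
      IsWeaklyRegular M' rs → IsWeaklyRegular M'' rs → IsWeaklyRegular M rs := by
  induction rs with
  | nil =>
    intro M' M M'' _ _ _ _ _ _ f g _ _ _ _ _
    exact IsWeaklyRegular.nil R M
  | cons r rs ih =>
    intro M' M M'' _ _ _ _ _ _ f g hf hfg hg h1 h2
    rw [isWeaklyRegular_cons_iff] at h1 h2 ⊢
    refine ⟨isSMulRegular_of_range_eq_ker hf hfg.linearMap_ker_eq.symm h1.1 h2.1, ?_⟩
    refine ih (QuotSMulTop.map r f) (QuotSMulTop.map r g) ?_ (QuotSMulTop.map_exact r hfg hg)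
      (QuotSMulTop.map_surjective r hg) h1.2 h2.2
    rw [← LinearMap.ker_eq_bot, LinearMap.ker_eq_bot']
    intro y hy
    obtain ⟨x, rfl⟩ := Submodule.Quotient.mk_surjective _ y
    rw [QuotSMulTop.map_apply_mk, Submodule.Quotient.mk_eq_zero] at hy
    obtain ⟨m, -, hm⟩ := (Submodule.mem_smul_pointwise_iff_exists _ _ _).mp hy
    have h0 : g (f x) = 0 := hfg.apply_apply_eq_zero x
    have h3 : r • g m = 0 := by rw [← map_smul, hm, h0]
    have h4 : g m = 0 := h2.1.right_eq_zero_of_smul h3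
    obtain ⟨x', rfl⟩ := (hfg m).mp h4
    have h5 : x = r • x' := hf (by rw [map_smul, hm])
    rw [Submodule.Quotient.mk_eq_zero, h5]
    exact Submodule.smul_mem_pointwise_smul _ _ _ Submodule.mem_top

end General

section Local

variable {A : Type u} [CommRing A]

theorem mem_smul_top_iff (K L : Ideal A) (z : ↥L) :
    z ∈ (K • (⊤ : Submodule A ↥L)) ↔ (z : A) ∈ K * L := by
  have h1 : (K • (⊤ : Submodule A ↥L)).map (Submodule.subtype L) = K * L := by
    rw [Submodule.map_smul'', Submodule.map_top, Submodule.range_subtype, Ideal.smul_eq_mul]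
  constructor
  · intro hz
    rw [← h1]
    exact Submodule.mem_map_of_mem hz
  · intro hz
    rw [← h1] at hz
    obtain ⟨w, hw, hwz⟩ := Submodule.mem_map.mp hz
    have hwz' : w = z := Subtype.ext hwz
    rw [← hwz']
    exact hw

/-- Passage to the limit (Krull's intersection theorem). -/
theorem isWeaklyRegular_of_forall_quotient [IsNoetherianRing A] [IsLocalRing A] (J : Ideal A)
    (hJ : J ≠ ⊤) (M : Type u) [AddCommGroup M] [Module A M] [Module.Finite A M] (rs : List A)
    (h : ∀ n : ℕ, IsWeaklyRegular (M ⧸ (J ^ n • (⊤ : Submodule A M))) rs) :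
    IsWeaklyRegular M rs := by
  refine ⟨fun i hi => ?_⟩
  obtain ⟨I, hI⟩ : ∃ I : Ideal A, I = Ideal.ofList (rs.take i) := ⟨_, rfl⟩
  obtain ⟨r, hr⟩ : ∃ r : A, r = rs[i] := ⟨_, rfl⟩
  rw [← hI, ← hr, isSMulRegular_quotient_iff_mem_of_smul_mem]
  intro x hx
  have key : ∀ n : ℕ, x ∈ I • (⊤ : Submodule A M) ⊔ J ^ n • (⊤ : Submodule A M) := by
    intro n
    have h1 := (h n).regular_mod_prev i hi
    rw [← hI, ← hr, isSMulRegular_quotient_iff_mem_of_smul_mem] at h1
    have hmap : (I • (⊤ : Submodule A (M ⧸ (J ^ n • (⊤ : Submodule A M))))) =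
        (I • (⊤ : Submodule A M)).map (Submodule.mkQ (J ^ n • (⊤ : Submodule A M))) := by
      rw [Submodule.map_smul'', Submodule.map_top, Submodule.range_mkQ]
    have h2 : r • (Submodule.mkQ (J ^ n • (⊤ : Submodule A M)) x) ∈
        (I • (⊤ : Submodule A (M ⧸ (J ^ n • (⊤ : Submodule A M))))) := by
      rw [hmap, ← map_smul]
      exact Submodule.mem_map_of_mem hx
    have h3 := h1 _ h2
    rw [hmap] at h3
    have h4 : x ∈ Submodule.comap (Submodule.mkQ (J ^ n • (⊤ : Submodule A M)))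
        ((I • (⊤ : Submodule A M)).map (Submodule.mkQ (J ^ n • (⊤ : Submodule A M)))) := h3
    rw [Submodule.comap_map_eq, Submodule.ker_mkQ] at h4
    exact h4
  have hK := Ideal.iInf_pow_smul_eq_bot_of_isLocalRing (I := J)
    (M := M ⧸ (I • (⊤ : Submodule A M))) hJ
  have hx0 : Submodule.mkQ (I • (⊤ : Submodule A M)) x ∈
      (⨅ i : ℕ, J ^ i • (⊤ : Submodule A (M ⧸ (I • (⊤ : Submodule A M))))) := by
    rw [Submodule.mem_iInf]
    intro n
    have hmap : (J ^ n • (⊤ : Submodule A (M ⧸ (I • (⊤ : Submodule A M))))) =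
        (J ^ n • (⊤ : Submodule A M)).map (Submodule.mkQ (I • (⊤ : Submodule A M))) := by
      rw [Submodule.map_smul'', Submodule.map_top, Submodule.range_mkQ]
    rw [hmap]
    obtain ⟨a, ha, b, hb, hab⟩ := Submodule.mem_sup.mp (key n)
    rw [← hab, map_add]
    have ha0 : Submodule.mkQ (I • (⊤ : Submodule A M)) a = 0 := by
      rw [Submodule.mkQ_apply, Submodule.Quotient.mk_eq_zero]
      exact ha
    rw [ha0, zero_add]
    exact Submodule.mem_map_of_mem hb
  rw [hK, Submodule.mem_bot, Submodule.mkQ_apply, Submodule.Quotient.mk_eq_zero] at hx0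
  exact hx0

/-- Weak regularity on all graded pieces gives weak regularity on `J^k / J^(k+n)`. -/
theorem chain (J : Ideal A) (fs : List A)
    (hG : ∀ m : ℕ, IsWeaklyRegular (↥(J ^ m) ⧸ (J • (⊤ : Submodule A ↥(J ^ m)))) fs) (k : ℕ) :
    ∀ n : ℕ, IsWeaklyRegular (↥(J ^ k) ⧸ (J ^ n • (⊤ : Submodule A ↥(J ^ k)))) fs := by
  intro n
  induction n with
  | zero =>
    have htop : (J ^ 0 • (⊤ : Submodule A ↥(J ^ k))) = ⊤ := by
      rw [pow_zero, Ideal.one_eq_top, Submodule.top_smul]
    haveI : Subsingleton (↥(J ^ k) ⧸ (J ^ 0 • (⊤ : Submodule A ↥(J ^ k)))) :=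
      Submodule.Quotient.subsingleton_iff.mpr htop
    refine ⟨fun i hi => ?_⟩
    exact Function.injective_of_subsingleton _
  | succ n ih =>
    have hle1 : J ^ (k + n) ≤ J ^ k := Ideal.pow_le_pow_right (Nat.le_add_right k n)
    obtain ⟨ι, hι⟩ : ∃ ι : ↥(J ^ (k + n)) →ₗ[A] ↥(J ^ k), ι = Submodule.inclusion hle1 :=
      ⟨_, rfl⟩
    have hιv : ∀ a : ↥(J ^ (k + n)), ((ι a : ↥(J ^ k)) : A) = (a : A) := by
      intro a
      rw [hι]
      rfl
    have e1 : J ^ (n + 1) * J ^ k = J * J ^ (k + n) := by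
      rw [← pow_add, ← pow_succ']
      congr 1
      omega
    have e2 : J ^ n * J ^ k = J ^ (k + n) := by
      rw [← pow_add, add_comm]
    have hle2 : (J • (⊤ : Submodule A ↥(J ^ (k + n)))) ≤
        Submodule.comap ι (J ^ (n + 1) • (⊤ : Submodule A ↥(J ^ k))) := by
      intro a ha
      rw [Submodule.mem_comap, mem_smul_top_iff, hιv, e1]
      rw [mem_smul_top_iff] at ha
      exact ha
    have hle3 : (J ^ (n + 1) • (⊤ : Submodule A ↥(J ^ k))) ≤
        J ^ n • (⊤ : Submodule A ↥(J ^ k)) :=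
      Submodule.smul_mono_left (Ideal.pow_le_pow_right (Nat.le_succ n))
    obtain ⟨f, hf⟩ : ∃ f : (↥(J ^ (k + n)) ⧸ (J • (⊤ : Submodule A ↥(J ^ (k + n))))) →ₗ[A]
        (↥(J ^ k) ⧸ (J ^ (n + 1) • (⊤ : Submodule A ↥(J ^ k)))),
        f = Submodule.mapQ _ _ ι hle2 := ⟨_, rfl⟩
    have hfmk : ∀ a, f (Submodule.Quotient.mk a) = Submodule.Quotient.mk (ι a) := by
      intro a
      rw [hf]
      rfl
    obtain ⟨g, hg⟩ : ∃ g : (↥(J ^ k) ⧸ (J ^ (n + 1) • (⊤ : Submodule A ↥(J ^ k)))) →ₗ[A]
        (↥(J ^ k) ⧸ (J ^ n • (⊤ : Submodule A ↥(J ^ k)))), g = Submodule.factor hle3 :=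
      ⟨_, rfl⟩
    have hgmk : ∀ b, g (Submodule.Quotient.mk b) = Submodule.Quotient.mk b := by
      intro b
      rw [hg]
      rfl
    have hgsurj : Surjective g := by
      rw [hg]
      exact Submodule.factor_surjective hle3
    have hfinj : Injective f := by
      rw [← LinearMap.ker_eq_bot, LinearMap.ker_eq_bot']
      intro y hy
      obtain ⟨a, rfl⟩ := Submodule.Quotient.mk_surjective _ y
      rw [hfmk, Submodule.Quotient.mk_eq_zero, mem_smul_top_iff, hιv, e1] at hy
      rw [Submodule.Quotient.mk_eq_zero, mem_smul_top_iff]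
      exact hy
    have hex : Exact f g := by
      intro y
      obtain ⟨b, rfl⟩ := Submodule.Quotient.mk_surjective _ y
      rw [hgmk, Submodule.Quotient.mk_eq_zero, mem_smul_top_iff, e2]
      constructor
      · intro hb
        refine ⟨Submodule.Quotient.mk ⟨(b : A), hb⟩, ?_⟩
        rw [hfmk]
        congr 1
        exact Subtype.ext (hιv _)
      · rintro ⟨x, hx⟩
        obtain ⟨a, rfl⟩ := Submodule.Quotient.mk_surjective _ x
        rw [hfmk] at hx
        have h1 : ι a - b ∈ (J ^ (n + 1) • (⊤ : Submodule A ↥(J ^ k))) :=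
          (Submodule.Quotient.eq _).mp hx
        rw [mem_smul_top_iff] at h1
        have h2 : ((ι a - b : ↥(J ^ k)) : A) ∈ J ^ (k + n) := by
          have h1' := Ideal.mul_mono_left (K := J ^ k)
            (Ideal.pow_le_pow_right (I := J) (Nat.le_succ n)) h1
          rwa [e2] at h1'
        have h3 : (b : A) = ((ι a : ↥(J ^ k)) : A) - ((ι a - b : ↥(J ^ k)) : A) := by
          rw [Submodule.coe_sub, sub_sub_cancel]
        rw [h3, hιv]
        exact (J ^ (k + n)).sub_mem a.2 h2
    exact isWeaklyRegular_of_exact fs f g hfinj hex hgsurj (hG (k + n)) ih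

theorem gr_isWeaklyRegular (J : Ideal A) (G : Type u) [AddCommGroup G] [Module A G]
    [Module (A ⧸ J) G] [IsScalarTower A (A ⧸ J) G] [Module.Flat (A ⧸ J) G] (fs : List A)
    (hreg : IsWeaklyRegular (A ⧸ J) fs) : IsWeaklyRegular G fs := by
  have h1 : IsWeaklyRegular (A ⧸ J) (fs.map (algebraMap A (A ⧸ J))) :=
    (isWeaklyRegular_map_algebraMap_iff (A ⧸ J) (A ⧸ J) fs).mpr hreg
  have h2 : IsWeaklyRegular ((A ⧸ J) ⊗[A ⧸ J] G) (fs.map (algebraMap A (A ⧸ J))) :=
    h1.isWeaklyRegular_rTensor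
  have h3 := ((TensorProduct.lid (A ⧸ J) G).isWeaklyRegular_congr _).mp h2
  exact (isWeaklyRegular_map_algebraMap_iff (A ⧸ J) G fs).mp h3

end Local

end Groth.Agent.S5182

namespace Groth.Agent.S5182

/-- In the local algebraic form to which its proof reduces. Let A be a Noetherian local ring, J a proper
ideal such that A is normally flat along J, i.e. every J^k/J^{k+1} is a flat (equivalently free)
A/J-module, and f_1, …, f_r elements of A whose images form a weakly regular sequence on A/J (each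
f_i a non-zero-divisor on A/J modulo the preceding ones). Then for every k ≥ 0 the f_i form a weakly
regular sequence on the A-module J^k and on the A-module J^k/J^{k+1}; in particular (k = 0) on A
itself, so that they are regular on the Rees algebra ⊕ J^k and on the associated graded ring ⊕
J^k/J^{k+1}. -/
theorem result (A : Type u) [CommRing A] [IsLocalRing A] [IsNoetherianRing A] (J : Ideal A) (hJ : J ≠ ⊤) (hflat : ∀ k : ℕ, Module.Flat (A ⧸ J) (↥(J ^ k) ⧸ (J • (⊤ : Submodule A ↥(J ^ k))))) (fs : List A) (hreg : RingTheory.Sequence.IsWeaklyRegular (A ⧸ J) fs) (k : ℕ) : RingTheory.Sequence.IsWeaklyRegular (↥(J ^ k)) fs ∧ RingTheory.Sequence.IsWeaklyRegular (↥(J ^ k) ⧸ (J • (⊤ : Submodule A ↥(J ^ k)))) fs := by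
  have hG : ∀ m : ℕ, RingTheory.Sequence.IsWeaklyRegular
      (↥(J ^ m) ⧸ (J • (⊤ : Submodule A ↥(J ^ m)))) fs := fun m => by
    haveI := hflat m
    exact gr_isWeaklyRegular J _ fs hreg
  refine ⟨?_, hG k⟩
  exact isWeaklyRegular_of_forall_quotient J hJ ↥(J ^ k) fs (chain J fs hG k)

end Groth.Agent.S5182
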