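import Groth.Statements.S5201
import Mathlib
import Groth.Agent.S16463
import Groth.Agent.Lib.Helper10.LocCohLoc
import Groth.Agent.Lib.Helper10.OverEt
import Groth.Agent.Lib.Helper10.LcSite

set_option autoImplicit false
universe u
open CategoryTheory CategoryTheory.Limits AlgebraicGeometry Opposite
open EtDepth

namespace Groth.Agent.S5201

section helpers

open Groth.Agent.Helper10 Groth.Agent.Helper10.BCSh

/-- ULift-ed group hom as a morphism of `AddCommGrpCat` -/
noncomputable def upHom {M N : Type} [AddCommGroup M] [AddCommGroup N] (f : M →+ N) :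
    AddCommGrpCat.of (ULift.{u + 1} M) ⟶ AddCommGrpCat.of (ULift.{u + 1} N) :=
  AddCommGrpCat.ofHom
    (AddEquiv.ulift.symm.toAddMonoidHom.comp (f.comp AddEquiv.ulift.toAddMonoidHom))

lemma upHom_apply {M N : Type} [AddCommGroup M] [AddCommGroup N] (f : M →+ N)
    (x : ULift.{u + 1} M) : (upHom.{u} f) x = ULift.up (f x.down) := rfl

/-- short exact sequence of lifted groups -/
lemma shortExact_up {M N Q : Type} [AddCommGroup M] [AddCommGroup N] [AddCommGroup Q]
    (f : M →+ N) (g : N →+ Q) (hf : Function.Injective f) (hg : Function.Surjective g)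
    (hfg : ∀ y, g y = 0 ↔ ∃ x, f x = y) :
    (ShortComplex.mk (upHom.{u} f) (upHom.{u} g) (by
      ext x
      rw [AddCommGrpCat.comp_apply, upHom_apply, upHom_apply]
      have : g (f x.down) = 0 := (hfg _).2 ⟨_, rfl⟩
      rw [this]
      rfl)).ShortExact := by
  haveI : Mono (upHom.{u} f) := by
    rw [AddCommGrpCat.mono_iff_injective]
    intro x y hxy
    have := congrArg ULift.down hxy
    rw [upHom_apply, upHom_apply] at this
    exact ULift.ext _ _ (hf this)
  haveI : Epi (upHom.{u} g) := by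
    rw [AddCommGrpCat.epi_iff_surjective]
    intro y
    obtain ⟨x, hx⟩ := hg y.down
    exact ⟨ULift.up x, by rw [upHom_apply]; exact ULift.ext _ _ hx⟩
  refine ShortComplex.ShortExact.mk' ?_ inferInstance inferInstance
  rw [ShortComplex.ab_exact_iff]
  intro y hy
  have hy' : g y.down = 0 := by
    have := congrArg ULift.down hy
    rwa [upHom_apply] at this
  obtain ⟨x, hx⟩ := (hfg _).1 hy'
  exact ⟨ULift.up x, by
    show (upHom.{u} f) (ULift.up x) = y
    rw [upHom_apply]; exact ULift.ext _ _ hx⟩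

section Devissage

variable {X U : Scheme.{u}} (j : U ⟶ X) [IsOpenImmersion j] [EtCoh.BCCont j]

lemma isZero_locCoh_of_ses (S : ShortComplex (EtCoh.Ab X)) (hS : S.ShortExact) (p : ℕ)
    (h1 : IsZero ((EtDual.locCoh j p).obj S.X₁)) (h3 : IsZero ((EtDual.locCoh j p).obj S.X₃)) :
    IsZero ((EtDual.locCoh j p).obj S.X₂) := by
  obtain ⟨Δ⟩ := Groth.Agent.S16463.result (EtDual.secSupp j)
  exact (Δ.exact₂ S hS p).isZero_X₂ (h1.eq_of_src _ _) (h3.eq_of_tgt _ _)

instance locCoh_additive (p : ℕ) : (EtDual.locCoh j p).Additive := by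
  unfold EtDual.locCoh
  infer_instance

lemma const_shortExact {M N Q : Type} [AddCommGroup M] [AddCommGroup N] [AddCommGroup Q]
    (f : M →+ N) (g : N →+ Q) (hf : Function.Injective f) (hg : Function.Surjective g)
    (hfg : ∀ y, g y = 0 ↔ ∃ x, f x = y) :
    ∃ (S : ShortComplex (EtCoh.Ab X)), S.ShortExact ∧ S.X₁ = EtCoh.const X M ∧
      S.X₂ = EtCoh.const X N ∧ S.X₃ = EtCoh.const X Q := by
  have h := shortExact_up.{u} f g hf hg hfg
  haveI : PreservesFiniteLimits (constantSheaf X.smallEtaleTopology AddCommGrpCat.{u + 1}) := by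
    unfold constantSheaf; infer_instance
  haveI : PreservesFiniteColimits (constantSheaf X.smallEtaleTopology AddCommGrpCat.{u + 1}) := by
    unfold constantSheaf; infer_instance
  exact ⟨_, h.map_of_exact (constantSheaf X.smallEtaleTopology AddCommGrpCat.{u + 1}),
    rfl, rfl, rfl⟩

theorem depthGE_const (ℓ : ℕ) (hℓ : ℓ.Prime) (n : ℕ)
    (hX : EtDepth.DepthGE j (EtCoh.const X (ZMod ℓ)) n) :
    ∀ (N : ℕ) (M : Type) [AddCommGroup M] [Finite M], Nat.card M ≤ N →
      (∀ m : M, ∃ a : ℕ, ℓ ^ a • m = 0) → EtDepth.DepthGE j (EtCoh.const X M) n := by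
  intro N
  induction N with
  | zero =>
    intro M _ _ hc
    exfalso
    have := Nat.card_pos (α := M)
    omega
  | succ N ih =>
    intro M _ _ hc hM
    by_cases hsub : Subsingleton M
    · intro p hp
      have hz : IsZero (AddCommGrpCat.of (ULift.{u + 1} M)) := by
        rw [AddCommGrpCat.isZero_iff_subsingleton]
        infer_instance
      exact (EtDual.locCoh j p).map_isZero
        ((constantSheaf X.smallEtaleTopology AddCommGrpCat.{u + 1}).map_isZero hz)
    · rw [not_subsingleton_iff_nontrivial] at hsub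
      obtain ⟨m, hm⟩ := exists_ne (0 : M)
      classical
      have hex : ∃ a : ℕ, ℓ ^ a • m = 0 := hM m
      have ha₀ : ℓ ^ (Nat.find hex) • m = 0 := Nat.find_spec hex
      have ha₀pos : Nat.find hex ≠ 0 := by
        intro h0
        rw [h0, pow_zero, one_smul] at ha₀
        exact hm ha₀
      obtain ⟨b, hb⟩ := Nat.exists_eq_succ_of_ne_zero ha₀pos
      have hx0 : ℓ ^ b • m ≠ 0 := fun h => Nat.find_min hex (by omega : b < Nat.find hex) h
      have hxℓ : ℓ • (ℓ ^ b • m) = 0 := by
        rw [← mul_smul, ← pow_succ', ← Nat.succ_eq_add_one, ← hb]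
        exact ha₀
      haveI : Fact ℓ.Prime := ⟨hℓ⟩
      have hord : addOrderOf (ℓ ^ b • m) = ℓ := addOrderOf_eq_prime hxℓ hx0
      let x : M := ℓ ^ b • m
      let f : ZMod ℓ →+ M := ZMod.lift ℓ ⟨zmultiplesHom M x, by
        show ((ℓ : ℕ) : ℤ) • x = 0
        rw [natCast_zsmul]
        exact hxℓ⟩
      have hf : Function.Injective f := by
        rw [ZMod.lift_injective]
        intro k hk
        have hk' : k • x = 0 := hk
        rw [ZMod.intCast_zmod_eq_zero_iff_dvd, ← hord]
        exact addOrderOf_dvd_iff_zsmul_eq_zero.2 hk'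
      let H : AddSubgroup M := f.range
      let g : M →+ M ⧸ H := QuotientAddGroup.mk' H
      have hg : Function.Surjective g := QuotientAddGroup.mk'_surjective H
      have hfg : ∀ y, g y = 0 ↔ ∃ z, f z = y := by
        intro y
        rw [QuotientAddGroup.mk'_apply, QuotientAddGroup.eq_zero_iff]
        exact AddMonoidHom.mem_range
      have hcard : Nat.card (M ⧸ H) ≤ N := by
        have h1 : Nat.card M = Nat.card (M ⧸ H) * Nat.card H :=
          AddSubgroup.card_eq_card_quotient_mul_card_addSubgroup H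
        have h2 : Nat.card H = ℓ := by
          have e : ZMod ℓ ≃ H := Equiv.ofInjective f hf
          rw [← Nat.card_congr e, Nat.card_zmod]
        have h3 : 2 ≤ ℓ := hℓ.two_le
        have h4 : 0 < Nat.card (M ⧸ H) := Nat.card_pos
        rw [h2] at h1
        nlinarith
      have hQ : ∀ q : M ⧸ H, ∃ a : ℕ, ℓ ^ a • q = 0 := by
        intro q
        obtain ⟨y, rfl⟩ := hg q
        obtain ⟨a, ha⟩ := hM y
        exact ⟨a, by rw [← map_nsmul, ha, map_zero]⟩
      have hZ : ∀ z : ZMod ℓ, ∃ a : ℕ, ℓ ^ a • z = 0 := by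
        intro z
        refine ⟨1, ?_⟩
        rw [pow_one, nsmul_eq_mul, ZMod.natCast_self, zero_mul]
      obtain ⟨S, hS, e1, e2, e3⟩ := const_shortExact (X := X) f g hf hg hfg
      intro p hp
      have hq := ih (M ⧸ H) hcard hQ p hp
      have h1 := hX p hp
      rw [← e2]
      exact isZero_locCoh_of_ses j S hS p (by rw [e1]; exact h1) (by rw [e3]; exact hq)

end Devissage

section Torsion

lemma lpow_torsion_of_restr_iso {X : Scheme.{u}} (F : EtCoh.Ab X) (ℓ : ℕ)
    (hFt : EtDepth.IsLTorsion ℓ F) (W : X.Etale) (x : W.left) (M : Type) [AddCommGroup M]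
    (β : EtCoh.restr F W ≅
      (constantSheaf (X.smallEtaleTopology.over W) AddCommGrpCat.{u + 1}).obj
        (AddCommGrpCat.of (ULift.{u + 1} M)))
    (m : M) : ∃ a : ℕ, ℓ ^ a • m = 0 := by
  let T₀ : Over W := Over.mk (𝟙 W)
  let s : F.obj.obj (op W) := β.inv.hom.app (op T₀)
    (LcSite.eta (X.smallEtaleTopology.over W) AddCommGrpCat.{u + 1}
      (AddCommGrpCat.of (ULift.{u + 1} M)) T₀ (ULift.up m))
  obtain ⟨V', g, ⟨v, hv⟩, a, ha⟩ := hFt W s x
  refine ⟨a, ?_⟩
  let T : Over W := Over.mk g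
  let g' : T ⟶ T₀ := Over.homMk g (Category.comp_id _)
  have hnat : F.obj.map g.op s = β.inv.hom.app (op T)
      (LcSite.eta (X.smallEtaleTopology.over W) AddCommGrpCat.{u + 1}
        (AddCommGrpCat.of (ULift.{u + 1} M)) T (ULift.up m)) := by
    have h1 := β.inv.hom.naturality g'.op
    have h2 := LcSite.eta_map (X.smallEtaleTopology.over W) (AddCommGrpCat.of (ULift.{u + 1} M)) g'
    rw [← h2]
    have h3 := congrArg (fun φ => φ (LcSite.eta (X.smallEtaleTopology.over W) AddCommGrpCat.{u + 1}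
      (AddCommGrpCat.of (ULift.{u + 1} M)) T₀ (ULift.up m))) (congrArg (fun φ => φ.hom) h1)
    exact h3.symm
  have hne : ⊥ ∉ (X.smallEtaleTopology.over W) T := by
    intro h
    have h' := (X.smallEtaleTopology.mem_over_iff _).1 h
    rw [(Sieve.overEquiv T).map_bot] at h'
    rw [EtLoc.mem_iff] at h'
    obtain ⟨_, _, _, hbot, -⟩ := h' v
    exact hbot
  have hinj := LcSite.eta_injective (X.smallEtaleTopology.over W)
    (AddCommGrpCat.of (ULift.{u + 1} M)) hne
  rw [hnat] at ha
  have h4 : β.inv.hom.app (op T)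
      (LcSite.eta (X.smallEtaleTopology.over W) AddCommGrpCat.{u + 1}
        (AddCommGrpCat.of (ULift.{u + 1} M)) T (ULift.up (ℓ ^ a • m))) = 0 := by
    have e : (ULift.up (ℓ ^ a • m) : ULift.{u + 1} M) = ℓ ^ a • ULift.up m := rfl
    rw [e, map_nsmul, map_nsmul]
    exact ha
  have h5 := congrArg (β.hom.hom.app (op T)) h4
  rw [map_zero] at h5
  have h6 : β.hom.hom.app (op T) (β.inv.hom.app (op T)
      (LcSite.eta (X.smallEtaleTopology.over W) AddCommGrpCat.{u + 1}
        (AddCommGrpCat.of (ULift.{u + 1} M)) T (ULift.up (ℓ ^ a • m)))) =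
      LcSite.eta (X.smallEtaleTopology.over W) AddCommGrpCat.{u + 1}
        (AddCommGrpCat.of (ULift.{u + 1} M)) T (ULift.up (ℓ ^ a • m)) := by
    have := congrArg (fun φ => φ.hom.app (op T)) β.inv_hom_id
    have h7 := congrArg (fun φ => φ (LcSite.eta (X.smallEtaleTopology.over W) AddCommGrpCat.{u + 1}
        (AddCommGrpCat.of (ULift.{u + 1} M)) T (ULift.up (ℓ ^ a • m)))) (congrArg (fun φ => φ.hom) this)
    exact h7
  rw [h6] at h5
  have h8 := hinj (h5.trans (map_zero _).symm)
  exact congrArg ULift.down h8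

end Torsion

section Main

variable {X U : Scheme.{u}} (j : U ⟶ X) [IsOpenImmersion j] [EtCoh.BCCont j]

lemma isZero_sections {Y : Scheme.{u}} (G : EtCoh.Ab Y) (h : IsZero G) (W : Y.Etale) :
    IsZero (G.obj.obj (op W)) := by
  rw [IsZero.iff_id_eq_zero]
  have h0 : 𝟙 G = 0 := h.eq_of_src _ _
  have := congrArg (fun φ => φ.hom.app (op W)) h0
  exact this

/-- localization of depth along one étale `k : V ⟶ X` over which `F` is constant -/
lemma isZero_res_locCoh {V : Scheme.{u}} (k : V ⟶ X) [Etale k] (ℓ : ℕ) (hℓ : ℓ.Prime) (n : ℕ)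
    (hX : EtDepth.DepthGE j (EtCoh.const X (ZMod ℓ)) n)
    (F : EtCoh.Ab X) (M : Type) [AddCommGroup M] [Finite M]
    (hM : ∀ m : M, ∃ a : ℕ, ℓ ^ a • m = 0)
    (γ : (EtCoh.pull k).obj F ≅ EtCoh.const V M) (p : ℕ) (hp : p < n) :
    IsZero ((EtLoc.res k).obj ((EtDual.locCoh j p).obj F)) := by
  have c : IsPullback (pullback.fst j k) (pullback.snd j k) j k := IsPullback.of_hasPullback j k
  haveI : IsOpenImmersion (pullback.snd j k) := inferInstance
  haveI : Etale (pullback.fst j k) := inferInstance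
  have hV : EtDepth.DepthGE (pullback.snd j k) (EtCoh.const V (ZMod ℓ)) n := by
    intro q hq
    obtain ⟨e⟩ := LocCohLoc.res_locCoh j k (pullback.snd j k) (pullback.fst j k) c
      (EtCoh.const X (ZMod ℓ)) q
    have hz : IsZero ((EtLoc.res k).obj ((EtDual.locCoh j q).obj (EtCoh.const X (ZMod ℓ)))) :=
      (EtLoc.res k).map_isZero (hX q hq)
    have e2 : (EtLoc.res k).obj (EtCoh.const X (ZMod ℓ)) ≅ EtCoh.const V (ZMod ℓ) :=
      ((EtLoc.pullIsoRes k).app _).symm ≪≫ EtCore.pullConst k (ZMod ℓ)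
    exact (hz.of_iso e.symm).of_iso ((EtDual.locCoh (pullback.snd j k) q).mapIso e2).symm
  have hM' := depthGE_const (pullback.snd j k) ℓ hℓ n hV (Nat.card M) M le_rfl hM p hp
  obtain ⟨e⟩ := LocCohLoc.res_locCoh j k (pullback.snd j k) (pullback.fst j k) c F p
  have e2 : (EtLoc.res k).obj F ≅ EtCoh.const V M := ((EtLoc.pullIsoRes k).app _).symm ≪≫ γ
  exact (hM'.of_iso ((EtDual.locCoh (pullback.snd j k) p).mapIso e2)).of_iso e

theorem main (ℓ : ℕ) (hℓ : ℓ.Prime) (n : ℕ)
    (hX : EtDepth.DepthGE j (EtCoh.const X (ZMod ℓ)) n) (F : EtCoh.Ab X)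
    (hFlc : EtCoh.IsFiniteLocallyConstant F) (hFt : EtDepth.IsLTorsion ℓ F) :
    EtDepth.DepthGE j F n := by
  obtain ⟨ι, U', hU', hloc⟩ := hFlc
  intro p hp
  let ι' := {i : ι // Nonempty (U' i).left}
  let U'' : ι' → X.Etale := fun i => U' i.1
  have hU'' : EtCoh.Covers U'' := by
    intro x
    obtain ⟨i, y, hy⟩ := hU' x
    exact ⟨⟨i, ⟨y⟩⟩, y, hy⟩
  apply LocCohLoc.isZero_of_cover U'' hU''
  intro i W'
  obtain ⟨M, _, _, ⟨β⟩⟩ := hloc i.1
  obtain ⟨x⟩ := i.2
  have hM := lpow_torsion_of_restr_iso F ℓ hFt (U' i.1) x M β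
  let k := (U' i.1).hom
  haveI : Etale k := (U' i.1).prop
  have β' : EtCoh.restr F (OverEt.ob k) ≅
      (constantSheaf (X.smallEtaleTopology.over (OverEt.ob k)) AddCommGrpCat.{u + 1}).obj
        (AddCommGrpCat.of (ULift.{u + 1} M)) := β
  have γ := OverEt.pullOfRestr k F (AddCommGrpCat.of (ULift.{u + 1} M)) β'
  have hz := isZero_res_locCoh j k ℓ hℓ n hX F M hM γ p hp
  exact isZero_sections _ hz W'

end Main

end helpers

/-- For a finite locally constant sheaf and a single prime ℓ. Let X be a scheme, j : U → X a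
quasi-compact open immersion (U retrocompact in X) with closed complement Y, ℓ a prime and n ≥ 0,
and suppose the Y-étale depth of X for ℓ is ≥ n, i.e. the local cohomology sheaves H^p_Y(Z/ℓ) vanish
for p < n. Then for every finite locally constant abelian sheaf F on the small étale site of X which
is ℓ-torsion (every section étale-locally killed by a power of ℓ), the Y-étale depth of F is ≥ n. -/
theorem result {X U : Scheme.{u}} (j : U ⟶ X) [IsOpenImmersion j] [QuasiCompact j] [EtCoh.BCCont j] (ℓ : ℕ) (hℓ : ℓ.Prime) (n : ℕ) (hX : EtDepth.DepthGE j (EtCoh.const X (ZMod ℓ)) n) (F : EtCoh.Ab X) (hFlc : EtCoh.IsFiniteLocallyConstant F) (hFt : EtDepth.IsLTorsion ℓ F) : EtDepth.DepthGE j F n := by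
  exact main j ℓ hℓ n hX F hFlc hFt

end Groth.Agent.S5201
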