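import Groth.Statements.S5211
import Groth.Agent.Lib.Helper8.DescCat

set_option autoImplicit false
open CategoryTheory CategoryTheory.Limits
universe w v₁ u₁
open DescCat

namespace Groth.Agent.S5211

/-- In a category with pullbacks: if `f : S' ⟶ S` is a universal effective epimorphism and the canonical
map `S' ×_S S' ⟶ S' ×_T S'` induced by `g : S ⟶ T` is an isomorphism, then `g` is a monomorphism. -/
theorem result {C : Type u₁} [Category.{v₁} C] [HasPullbacks C]
    {S' S T : C} (f : S' ⟶ S) (hf : (MorphismProperty.universally (fun (A B : C) (p : A ⟶ B) => EffectiveEpi p)) f) (g : S ⟶ T)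
    [IsIso (pullback.mapDesc f f g)] : Mono g := by
  constructor
  intro Z a b hab
  have hq₁ : Epi (pullback.fst a f) :=
    Groth.Agent.Helper8.UEE.epi_of_isPullback (IsPullback.of_hasPullback a f) hf
  have hq₂ : Epi (pullback.fst (pullback.fst a f ≫ b) f) :=
    Groth.Agent.Helper8.UEE.epi_of_isPullback (IsPullback.of_hasPullback _ f) hf
  have e1 : inv (pullback.mapDesc f f g) ≫ pullback.fst f f = pullback.fst (f ≫ g) (f ≫ g) := by
    rw [IsIso.inv_comp_eq]
    exact ((pullback.lift_fst _ _ _).trans (Category.comp_id _)).symm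
  have e2 : inv (pullback.mapDesc f f g) ≫ pullback.snd f f = pullback.snd (f ≫ g) (f ≫ g) := by
    rw [IsIso.inv_comp_eq]
    exact ((pullback.lift_snd _ _ _).trans (Category.comp_id _)).symm
  have hw : (pullback.fst (pullback.fst a f ≫ b) f ≫ pullback.snd a f) ≫ f ≫ g =
      pullback.snd (pullback.fst a f ≫ b) f ≫ f ≫ g := by
    rw [Category.assoc, ← pullback.condition_assoc, hab, ← pullback.condition_assoc]
    simp
  have key : (pullback.fst (pullback.fst a f ≫ b) f ≫ pullback.snd a f) ≫ f =
      pullback.snd (pullback.fst a f ≫ b) f ≫ f := by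
    have h1 : (pullback.lift _ _ hw ≫ inv (pullback.mapDesc f f g)) ≫ pullback.fst f f ≫ f =
        (pullback.lift _ _ hw ≫ inv (pullback.mapDesc f f g)) ≫ pullback.snd f f ≫ f := by
      rw [pullback.condition]
    simp only [Category.assoc] at h1
    rw [reassoc_of% e1, reassoc_of% e2, pullback.lift_fst_assoc, pullback.lift_snd_assoc] at h1
    simpa using h1
  rw [← cancel_epi (pullback.fst a f), ← cancel_epi (pullback.fst (pullback.fst a f ≫ b) f)]
  rw [pullback.condition, ← Category.assoc, key, ← pullback.condition]

end Groth.Agent.S5211
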