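import Groth.Statements.S5212
import Mathlib.RingTheory.Localization.NormTrace
import Mathlib.RingTheory.Localization.AtPrime.Basic
import Mathlib.RingTheory.Ideal.GoingUp

set_option autoImplicit false
universe u
open GrpQ

namespace Groth.Agent.S5212

theorem isUnit_norm_iff {R S : Type*} [CommRing R] [CommRing S] [Algebra R S]
    [Module.Free R S] [Module.Finite R S] (x : S) : IsUnit (Algebra.norm R x) ↔ IsUnit x := by
  rw [Algebra.norm_apply, ← LinearMap.isUnit_iff_isUnit_det]
  constructor
  · intro h
    obtain ⟨y, hy⟩ := ((Module.End.isUnit_iff _).mp h).2 1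
    exact IsUnit.of_mul_eq_one y (by simpa using hy)
  · intro h
    exact h.map (Algebra.lmul R S)


/-- For `A'` finite and free as an `A`-module, a prime `p` of `A` and `a ∈ A'`, the element `a` belongs
to some prime of `A'` lying over `p` if and only if its norm belongs to `p`. (The published
statement allows `A'` projective of constant rank over `A`; this row takes `A'` free, where the norm
is the determinant of multiplication.) -/
theorem result {A A' : Type u} [CommRing A] [CommRing A'] [Algebra A A']
    [Module.Free A A'] [Module.Finite A A'] (p : Ideal A) [p.IsPrime] (a : A') :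
    (∃ q : Ideal A', q.IsPrime ∧ q.LiesOver p ∧ a ∈ q) ↔ Algebra.norm A a ∈ p := by
  let Rₘ := Localization.AtPrime p
  let Sₘ := Localization (Algebra.algebraMapSubmonoid A' p.primeCompl)
  let b := Module.Free.chooseBasis A A'
  let bₘ := b.localizationLocalization Rₘ p.primeCompl Sₘ
  have hfree : Module.Free Rₘ Sₘ := Module.Free.of_basis bₘ
  have hfin : Module.Finite Rₘ Sₘ := Module.Finite.of_basis bₘ
  have hnorm : Algebra.norm Rₘ (algebraMap A' Sₘ a) = algebraMap A Rₘ (Algebra.norm A a) :=
    Algebra.norm_localization A p.primeCompl a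
  have hunit : IsUnit (algebraMap A' Sₘ a) ↔ Algebra.norm A a ∉ p := by
    rw [← isUnit_norm_iff (R := Rₘ), hnorm, IsLocalization.AtPrime.isUnit_to_map_iff Rₘ p]
    rfl
  constructor
  · rintro ⟨q, hq, hqp, haq⟩
    by_contra hn
    have hu := hunit.mpr hn
    have hdisj : Disjoint (Algebra.algebraMapSubmonoid A' p.primeCompl : Set A') (q : Set A') := by
      rw [Set.disjoint_left]
      rintro _ ⟨s, hs, rfl⟩ hsq
      apply hs
      rw [hqp.over]
      exact hsq
    have hQ : (Ideal.map (algebraMap A' Sₘ) q).IsPrime :=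
      IsLocalization.isPrime_of_isPrime_disjoint _ Sₘ q hq hdisj
    exact hQ.ne_top (Ideal.eq_top_of_isUnit_mem _ (Ideal.mem_map_of_mem _ haq) hu)
  · intro hn
    have hnu : ¬ IsUnit (algebraMap A' Sₘ a) := fun h => hunit.mp h hn
    obtain ⟨Q, hQmax, haQ⟩ := exists_max_ideal_of_mem_nonunits hnu
    refine ⟨Q.comap (algebraMap A' Sₘ), inferInstance, ⟨?_⟩, haQ⟩
    have hint : Algebra.IsIntegral Rₘ Sₘ := Algebra.IsIntegral.of_finite Rₘ Sₘ
    have hmax : (Q.comap (algebraMap Rₘ Sₘ)).IsMaximal :=
      Ideal.isMaximal_comap_of_isIntegral_of_isMaximal Q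
    have h1 : Q.comap (algebraMap Rₘ Sₘ) = IsLocalRing.maximalIdeal Rₘ :=
      IsLocalRing.eq_maximalIdeal hmax
    have h2 : (IsLocalRing.maximalIdeal Rₘ).comap (algebraMap A Rₘ) = p :=
      IsLocalization.AtPrime.under_maximalIdeal Rₘ p
    rw [Ideal.under_def, Ideal.comap_comap, ← IsScalarTower.algebraMap_eq,
      IsScalarTower.algebraMap_eq A Rₘ Sₘ, ← Ideal.comap_comap, h1, h2]

end Groth.Agent.S5212
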