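import Groth.Statements.S5213
import Mathlib
-- import your own Groth.Agent.* helpers here

set_option autoImplicit false
universe u
open GrpQ

namespace Groth.Agent.S5213

section
open Module

variable {A : Type*} [CommRing A] {M : Type*} [AddCommGroup M] [Module A M]

lemma smul_eq_mk_smul (m : Ideal A) {n : ℕ} (a : A) (v : Fin n → A ⧸ m) :
    a • v = (Ideal.Quotient.mk m a) • v := by
  funext i
  simp only [Pi.smul_apply]
  rw [Algebra.smul_def]
  rfl

/-- reduction of coordinates modulo `m` -/
noncomputable def φ {n : ℕ} (bM : Basis (Fin n) A M) (m : Ideal A) : M →ₗ[A] (Fin n → A ⧸ m) where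
  toFun y := fun i => Ideal.Quotient.mk m (bM.repr y i)
  map_add' y z := by
    funext i
    simp
  map_smul' a y := by
    funext i
    simp only [map_smul, Finsupp.smul_apply, smul_eq_mul, map_mul, RingHom.id_apply, Pi.smul_apply]
    rw [Algebra.smul_def]
    rfl

lemma φ_apply {n : ℕ} (bM : Basis (Fin n) A M) (m : Ideal A) (y : M) (i : Fin n) :
    φ bM m y i = Ideal.Quotient.mk m (bM.repr y i) := rfl

lemma φ_surj {n : ℕ} (bM : Basis (Fin n) A M) (m : Ideal A) : Function.Surjective (φ bM m) := by
  intro v
  choose a ha using fun i => Ideal.Quotient.mk_surjective (v i)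
  refine ⟨bM.equivFun.symm a, ?_⟩
  funext i
  rw [φ_apply, ← ha i]
  congr 1
  rw [← Basis.equivFun_apply, LinearEquiv.apply_symm_apply]

lemma isUnit_det_of_li {n : ℕ} (bM : Basis (Fin n) A M) (x : Fin n → M)
    (h : ∀ m : Ideal A, m.IsMaximal → LinearIndependent (A ⧸ m) (fun i => φ bM m (x i))) :
    IsUnit (bM.det x) := by
  by_contra hnu
  obtain ⟨m, hm, hmem⟩ := exists_max_ideal_of_mem_nonunits hnu
  letI : Field (A ⧸ m) := Ideal.Quotient.field m
  have h1 := h m hm
  have h2 : ((bM.toMatrix x).map (Ideal.Quotient.mk m)).col = fun i => φ bM m (x i) := by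
    funext j i
    rfl
  rw [← h2, Matrix.linearIndependent_cols_iff_isUnit, Matrix.isUnit_iff_isUnit_det] at h1
  have h3 : ((bM.toMatrix x).map (Ideal.Quotient.mk m)).det = 0 := by
    have := RingHom.map_det (Ideal.Quotient.mk m) (bM.toMatrix x)
    rw [RingHom.mapMatrix_apply] at this
    rw [← this, ← Basis.det_apply, Ideal.Quotient.eq_zero_iff_mem]
    exact hmem
  rw [h3] at h1
  exact not_isUnit_zero h1

lemma exists_notMem {n : ℕ} (bM : Basis (Fin n) A M) (m : Ideal A)
    (S : Set M) (hS : Submodule.span A S = ⊤)
    (W : Submodule (A ⧸ m) (Fin n → A ⧸ m)) (hW : W ≠ ⊤) : ∃ y ∈ S, φ bM m y ∉ W := by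
  by_contra h
  push Not at h
  apply hW
  rw [eq_top_iff]
  intro v hv
  clear hv
  obtain ⟨y, rfl⟩ := φ_surj bM m v
  have hy : y ∈ Submodule.span A S := by rw [hS]; trivial
  induction hy using Submodule.span_induction with
  | mem y hy => exact h y hy
  | zero => rw [map_zero]; exact W.zero_mem
  | add y z _ _ hy hz => rw [map_add]; exact W.add_mem hy hz
  | smul a y _ hy => rw [map_smul, smul_eq_mk_smul]; exact W.smul_mem _ hy

variable {B : Type*} [CommRing B] [IsLocalRing B] [Infinite (IsLocalRing.ResidueField B)]

lemma exists_avoid {N' : Type*} [AddCommGroup N'] [Module B N'] {ι : Type*} (s : Finset ι)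
    (p : ι → Submodule B N') (hp : ∀ i ∈ s, p i ≠ ⊤) : ∃ y : N', ∀ i ∈ s, y ∉ p i := by
  by_contra h
  push Not at h
  have hcov : ⋃ i ∈ s, (p i : Set N') = Set.univ := by
    ext y
    simp only [Set.mem_iUnion, SetLike.mem_coe, exists_prop, Set.mem_univ, iff_true]
    exact h y
  obtain ⟨k, hk, hfi⟩ := Submodule.exists_finiteIndex_of_cover hcov
  have hfin : Finite (N' ⧸ (p k).toAddSubgroup) := AddSubgroup.finite_quotient_of_finiteIndex
  obtain ⟨y, hy⟩ : ∃ y, y ∉ p k := by
    by_contra hall
    push Not at hall
    exact hp k hk (eq_top_iff.mpr fun y _ => hall y)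
  let f : IsLocalRing.ResidueField B → N' ⧸ (p k).toAddSubgroup := fun κ =>
    QuotientAddGroup.mk ((Function.surjInv IsLocalRing.residue_surjective κ) • y)
  have hf : Function.Injective f := by
    intro κ κ' hκ
    simp only [f] at hκ
    rw [QuotientAddGroup.eq] at hκ
    have h1 : (Function.surjInv IsLocalRing.residue_surjective κ' -
        Function.surjInv IsLocalRing.residue_surjective κ) • y ∈ p k := by
      rw [sub_smul, sub_eq_neg_add]
      exact hκ
    have h2 : (Function.surjInv IsLocalRing.residue_surjective κ' -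
        Function.surjInv IsLocalRing.residue_surjective κ) ∈ IsLocalRing.maximalIdeal B := by
      by_contra hnm
      have hu : IsUnit (Function.surjInv IsLocalRing.residue_surjective κ' -
        Function.surjInv IsLocalRing.residue_surjective κ) := by
        simpa [IsLocalRing.mem_maximalIdeal, mem_nonunits_iff] using hnm
      obtain ⟨u, hu⟩ := hu
      apply hy
      have := (p k).smul_mem (↑u⁻¹ : B) h1
      rw [← hu, smul_smul, Units.inv_mul, one_smul] at this
      exact this
    have h3 : IsLocalRing.residue B (Function.surjInv IsLocalRing.residue_surjective κ') =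
        IsLocalRing.residue B (Function.surjInv IsLocalRing.residue_surjective κ) := by
      rw [← sub_eq_zero, ← map_sub, IsLocalRing.residue_eq_zero_iff]
      exact h2
    rw [Function.surjInv_eq IsLocalRing.residue_surjective κ',
      Function.surjInv_eq IsLocalRing.residue_surjective κ] at h3
    exact h3.symm
  have := Finite.of_injective f hf
  exact not_finite (IsLocalRing.ResidueField B)

variable [Algebra B A] [Module B M] [IsScalarTower B A M]

/-- the `B`-submodule of `N` of elements mapping into `W` -/
def NW {n : ℕ} (bM : Basis (Fin n) A M) (m : Ideal A) (N : Submodule B M)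
    (W : Submodule (A ⧸ m) (Fin n → A ⧸ m)) : Submodule B N where
  carrier := {y | φ bM m (y : M) ∈ W}
  zero_mem' := by simp
  add_mem' := by
    intro a b ha hb
    simp only [Set.mem_ofPred_eq, Submodule.coe_add, map_add] at ha hb ⊢
    exact W.add_mem ha hb
  smul_mem' := by
    intro c y hy
    simp only [Set.mem_ofPred_eq, Submodule.coe_smul] at hy ⊢
    rw [← algebraMap_smul A c (y : M), map_smul, smul_eq_mk_smul]
    exact W.smul_mem _ hy

lemma step {n j : ℕ} (hj : j < n) (bM : Basis (Fin n) A M) [Finite (MaximalSpectrum A)]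
    (N : Submodule B M) (hN : Submodule.span A (N : Set M) = ⊤) (x : Fin j → M) :
    ∃ y ∈ N, ∀ m : MaximalSpectrum A, φ bM m.asIdeal y ∉
      Submodule.span (A ⧸ m.asIdeal) (Set.range fun i => φ bM m.asIdeal (x i)) := by
  classical
  haveI : Fintype (MaximalSpectrum A) := Fintype.ofFinite _
  have hW : ∀ m : MaximalSpectrum A,
      Submodule.span (A ⧸ m.asIdeal) (Set.range fun i => φ bM m.asIdeal (x i)) ≠ ⊤ := by
    intro m hm
    haveI := m.isMaximal
    letI := Ideal.Quotient.field m.asIdeal
    have h1 : finrank (A ⧸ m.asIdeal)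
        (Submodule.span (A ⧸ m.asIdeal) (Set.range fun i => φ bM m.asIdeal (x i))) ≤
        Fintype.card (Fin j) :=
      finrank_range_le_card (R := A ⧸ m.asIdeal) (fun i => φ bM m.asIdeal (x i))
    rw [hm, finrank_top, Module.finrank_fin_fun, Fintype.card_fin] at h1
    omega
  obtain ⟨y, hy⟩ := exists_avoid (B := B) (N' := N) (Finset.univ : Finset (MaximalSpectrum A))
    (fun m => NW bM m.asIdeal N
      (Submodule.span (A ⧸ m.asIdeal) (Set.range fun i => φ bM m.asIdeal (x i)))) (by
    intro m _ htop
    obtain ⟨y, hyN, hy⟩ := exists_notMem bM m.asIdeal (N : Set M) hN _ (hW m)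
    apply hy
    have : (⟨y, hyN⟩ : N) ∈ NW bM m.asIdeal N
      (Submodule.span (A ⧸ m.asIdeal) (Set.range fun i => φ bM m.asIdeal (x i))) := by
      rw [htop]; trivial
    exact this)
  exact ⟨y, y.2, fun m => hy m (Finset.mem_univ _)⟩

theorem main {B A M : Type u} [CommRing B] [CommRing A]
    [IsLocalRing B] [Infinite (IsLocalRing.ResidueField B)] [Algebra B A]
    [Finite (MaximalSpectrum A)]
    (hBA : (IsLocalRing.maximalIdeal B).map (algebraMap B A) ≤ (⊥ : Ideal A).jacobson)
    [AddCommGroup M] [Module A M] [Module B M] [IsScalarTower B A M]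
    [Module.Free A M] [Module.Finite A M]
    (N : Submodule B M) (hN : Submodule.span A (N : Set M) = ⊤) :
    ∃ b : Module.Basis (Fin (Module.finrank A M)) A M, ∀ i, b i ∈ N := by
  rcases subsingleton_or_nontrivial A with hA | hA
  · haveI : Subsingleton M := Module.subsingleton A M
    refine ⟨Module.Basis.ofRepr (LinearEquiv.ofSubsingleton _ _), fun i => ?_⟩
    have h0 : ∀ z : M, z ∈ N := fun z => by
      have : z = 0 := Subsingleton.elim _ _
      rw [this]
      exact N.zero_mem
    exact h0 _
  · let bM : Basis (Fin (Module.finrank A M)) A M := Module.finBasis A M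
    have key : ∀ j (hj : j ≤ Module.finrank A M), ∃ x : Fin j → M, (∀ i, x i ∈ N) ∧
        ∀ m : MaximalSpectrum A,
          LinearIndependent (A ⧸ m.asIdeal) (fun i => φ bM m.asIdeal (x i)) := by
      intro j
      induction j with
      | zero => intro _; exact ⟨Fin.elim0, fun i => i.elim0, fun m => linearIndependent_empty_type⟩
      | succ j ih =>
        intro hj
        obtain ⟨x, hxN, hxli⟩ := ih (by omega)
        obtain ⟨y, hyN, hy⟩ := step (by omega) bM N hN x
        refine ⟨Fin.cons y x, ?_, ?_⟩
        · intro i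
          refine Fin.cases ?_ ?_ i <;> simp [hyN, hxN]
        · intro m
          haveI := m.isMaximal
          letI := Ideal.Quotient.field m.asIdeal
          have : (fun i => φ bM m.asIdeal ((Fin.cons y x : Fin (j+1) → M) i)) =
              Fin.cons (φ bM m.asIdeal y) (fun i => φ bM m.asIdeal (x i)) := by
            funext i
            refine Fin.cases ?_ ?_ i <;> simp
          rw [this, linearIndependent_finCons]
          exact ⟨hxli m, hy m⟩
    obtain ⟨x, hxN, hxli⟩ := key _ le_rfl
    have hdet := isUnit_det_of_li bM x (fun m hm => hxli ⟨m, hm⟩)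
    rw [← Module.Basis.is_basis_iff_det] at hdet
    exact ⟨Basis.mk hdet.1 hdet.2.ge, fun i => by rw [Basis.mk_apply]; exact hxN i⟩

end

/-- Let `B` be a local ring with infinite residue field, `A` a semi-local ring, `B → A` a ring map
carrying the maximal ideal of `B` into the Jacobson radical of `A`, `M` a finite free `A`-module and
`N` a `B`-submodule of `M` generating `M` as an `A`-module. Then `N` contains a basis of `M` over
`A`. -/
theorem result {B A M : Type u} [CommRing B] [CommRing A]
    [IsLocalRing B] [Infinite (IsLocalRing.ResidueField B)] [Algebra B A]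
    [Finite (MaximalSpectrum A)]
    (hBA : (IsLocalRing.maximalIdeal B).map (algebraMap B A) ≤ (⊥ : Ideal A).jacobson)
    [AddCommGroup M] [Module A M] [Module B M] [IsScalarTower B A M]
    [Module.Free A M] [Module.Finite A M]
    (N : Submodule B M) (hN : Submodule.span A (N : Set M) = ⊤) :
    ∃ b : Module.Basis (Fin (Module.finrank A M)) A M, ∀ i, b i ∈ N := by
  exact Groth.Agent.S5213.main hBA N hN

end Groth.Agent.S5213
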