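import Groth.Statements.S5214
import Groth.Agent.Lib.Helper8.DescCat

set_option autoImplicit false
open CategoryTheory CategoryTheory.Limits
universe w v₁ u₁
open DescCat

namespace Groth.Agent.S5214

/-- In a category with pullbacks and binary products: the product `u × u'` of two universal effective
epimorphisms (morphisms all of whose base changes are effective epimorphisms) is a universal
effective epimorphism. -/
theorem result {C : Type u₁} [Category.{v₁} C] [HasPullbacks C] [HasBinaryProducts C]
    {X Y X' Y' : C} (u : X ⟶ Y) (u' : X' ⟶ Y')
    (hu : (MorphismProperty.universally (fun (A B : C) (p : A ⟶ B) => EffectiveEpi p)) u) (hu' : (MorphismProperty.universally (fun (A B : C) (p : A ⟶ B) => EffectiveEpi p)) u') :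
    (MorphismProperty.universally (fun (A B : C) (p : A ⟶ B) => EffectiveEpi p)) (prod.map u u') := by
  have h1 : Groth.Agent.Helper8.UEE (prod.map u (𝟙 X')) :=
    Groth.Agent.Helper8.UEE.of_isPullback (IsPullback.of_prod_fst_with_id u X').flip hu
  have sq2 : IsPullback (prod.map (𝟙 Y) u') prod.snd prod.snd u' := by
    refine IsPullback.mk' (prod.map_snd _ _) ?_ ?_
    · intro T φ φ' h₁ h₂
      apply Limits.prod.hom_ext
      · have := congrArg (· ≫ prod.fst) h₁
        simp only [Category.assoc, prod.map_fst, Category.comp_id] at this
        exact this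
      · exact h₂
    · intro T a b hab
      refine ⟨prod.lift (a ≫ prod.fst) b, ?_, prod.lift_snd _ _⟩
      apply Limits.prod.hom_ext
      · rw [Category.assoc, prod.map_fst, Category.comp_id, prod.lift_fst]
      · rw [Category.assoc, prod.map_snd, prod.lift_snd_assoc, hab]
  have h2 : Groth.Agent.Helper8.UEE (prod.map (𝟙 Y) u') :=
    Groth.Agent.Helper8.UEE.of_isPullback sq2 hu'
  have h3 := Groth.Agent.Helper8.UEE.comp h1 h2
  rwa [prod.map_map, Category.comp_id, Category.id_comp] at h3

end Groth.Agent.S5214
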