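import Groth.Statements.S5218
import Mathlib.CategoryTheory.Sites.RegularEpi
import Mathlib.CategoryTheory.Sites.LocallySurjective
import Mathlib.CategoryTheory.Sites.Limits

set_option autoImplicit false
open CategoryTheory CategoryTheory.Limits
universe w v₁ u₁
open ShfCat

namespace Groth.Agent.S5218

open Opposite

/-- Epimorphisms of sheaves of sets are stable under base change. -/
theorem epi_of_isPullback {C : Type u₁} [Category.{v₁} C]
    (J : GrothendieckTopology C) [HasSheafify J (Type w)]
    {X Y X' Y' : Sheaf J (Type w)} (f : X ⟶ Y) [Epi f] (i₁ : X' ⟶ X) (i₂ : Y' ⟶ Y) (f' : X' ⟶ Y')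
    (h : IsPullback f' i₁ i₂ f) : Epi f' := by
  have hf : Sheaf.IsLocallySurjective f := (Sheaf.isLocallySurjective_iff_epi f).2 inferInstance
  rw [← Sheaf.isLocallySurjective_iff_epi]
  refine ⟨?_⟩
  intro U y'
  have hmem := Presheaf.imageSieve_mem J f.hom (U := op U) (i₂.hom.app (op U) y')
  refine J.superset_covering ?_ hmem
  rintro V g ⟨x, hx⟩
  have hpb : IsPullback (f'.hom.app (op V)) (i₁.hom.app (op V)) (i₂.hom.app (op V)) (f.hom.app (op V)) :=
    (h.map (sheafToPresheaf J (Type w))).map ((evaluation Cᵒᵖ (Type w)).obj (op V))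
  have hnat := ConcreteCategory.congr_hom (i₂.hom.naturality g.op) y'
  dsimp at hnat
  obtain ⟨x', hx'1, hx'2⟩ := Limits.Types.exists_of_isPullback hpb (Y'.obj.map g.op y') x
    (hnat.trans hx.symm)
  exact ⟨x', hx'1⟩


/-- (i) ⇒ (ii), for a single morphism: in the category of sheaves of sets on a site (with
sheafification), every epimorphism is a universal effective epimorphism. -/
theorem result {C : Type u₁} [Category.{v₁} C]
    (J : GrothendieckTopology C) [HasSheafify J (Type w)]
    {X Y : Sheaf J (Type w)} (f : X ⟶ Y) [Epi f] :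
    (MorphismProperty.universally (fun (A B : Sheaf J (Type w)) (p : A ⟶ B) => EffectiveEpi p)) f := by
  intro X' Y' i₁ i₂ f' h
  have : Epi f' := epi_of_isPullback J f i₁ i₂ f' h
  have : IsRegularEpi f' := IsRegularEpiCategory.regularEpiOfEpi f'
  infer_instance

end Groth.Agent.S5218
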