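import Groth.Statements.S5221
import Groth.Agent.S5220

set_option autoImplicit false
open CategoryTheory CategoryTheory.Limits
universe w v₁ u₁
open GrpQ

namespace Groth.Agent.S5221

/-- Existence part: in a category with pullbacks: with `d₀ d₁ : X₁ ⇉ X₀` admitting a common section and
`f₀ : Y₀ ⟶ X₀` an effective and universal epimorphism, the pair `(d₀, d₁)` has a coequalizer if and
only if its inverse-image pair on `Y₀` has one. -/
theorem result {C : Type u₁} [Category.{v₁} C] [HasPullbacks C]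
    {X₁ X₀ Y₀ : C} (d₀ d₁ : X₁ ⟶ X₀) (s : X₀ ⟶ X₁) (hs₀ : s ≫ d₀ = 𝟙 X₀) (hs₁ : s ≫ d₁ = 𝟙 X₀)
    (f₀ : Y₀ ⟶ X₀) [EffectiveEpi f₀]
    (hf : MorphismProperty.universally (MorphismProperty.epimorphisms C) f₀) :
    HasCoequalizer d₁ d₀ ↔
      HasCoequalizer (pullback.fst (pullback.snd f₀ d₁ ≫ d₀) f₀ ≫ pullback.fst f₀ d₁)
        (pullback.snd (pullback.snd f₀ d₁ ≫ d₀) f₀) := by
  have hf₀epi : Epi f₀ := inferInstance
  -- any map out of X₀ coequalizing d₁, d₀ gives a map out of Y₀ coequalizing the inverse-image pair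
  have hw : ∀ {T : C} (t : X₀ ⟶ T), d₁ ≫ t = d₀ ≫ t →
      (pullback.fst (pullback.snd f₀ d₁ ≫ d₀) f₀ ≫ pullback.fst f₀ d₁) ≫ f₀ ≫ t =
        pullback.snd (pullback.snd f₀ d₁ ≫ d₀) f₀ ≫ f₀ ≫ t := by
    intro T t ht
    simp only [Category.assoc]
    rw [pullback.condition_assoc, ht, ← pullback.condition_assoc]
    simp only [Category.assoc]
  constructor
  · intro hco
    have hc : d₁ ≫ coequalizer.π d₁ d₀ = d₀ ≫ coequalizer.π d₁ d₀ := coequalizer.condition d₁ d₀
    refine HasColimit.mk ⟨Cofork.ofπ (f₀ ≫ coequalizer.π d₁ d₀) (hw _ hc),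
      Cofork.IsColimit.ofExistsUnique fun t => ?_⟩
    obtain ⟨h, ⟨hh1, hh2⟩, _⟩ := Groth.Agent.S5220.result d₀ d₁ s hs₀ hs₁ f₀ hf t.π t.condition
    refine ⟨coequalizer.desc h hh1, ?_, ?_⟩
    · change (f₀ ≫ coequalizer.π d₁ d₀) ≫ coequalizer.desc h hh1 = t.π
      rw [Category.assoc, coequalizer.π_desc, hh2]
    · have key : ∀ (m' : coequalizer d₁ d₀ ⟶ t.pt),
          (f₀ ≫ coequalizer.π d₁ d₀) ≫ m' = t.π → m' = coequalizer.desc h hh1 := by
        intro m' hm'
        apply coequalizer.hom_ext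
        rw [coequalizer.π_desc, ← cancel_epi f₀, hh2, ← hm', Category.assoc]
      intro m hm
      exact key m hm
  · intro hco
    obtain ⟨c, ⟨hc1, hc2⟩, _⟩ := Groth.Agent.S5220.result d₀ d₁ s hs₀ hs₁ f₀ hf
      (coequalizer.π (pullback.fst (pullback.snd f₀ d₁ ≫ d₀) f₀ ≫ pullback.fst f₀ d₁)
        (pullback.snd (pullback.snd f₀ d₁ ≫ d₀) f₀)) (coequalizer.condition _ _)
    refine HasColimit.mk ⟨Cofork.ofπ c hc1, Cofork.IsColimit.ofExistsUnique fun t => ?_⟩
    refine ⟨coequalizer.desc (f₀ ≫ t.π) (hw t.π t.condition), ?_, ?_⟩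
    · change c ≫ coequalizer.desc (f₀ ≫ t.π) (hw t.π t.condition) = t.π
      rw [← cancel_epi f₀, ← Category.assoc, hc2, coequalizer.π_desc]
    · have key : ∀ (m' : coequalizer
            (pullback.fst (pullback.snd f₀ d₁ ≫ d₀) f₀ ≫ pullback.fst f₀ d₁)
            (pullback.snd (pullback.snd f₀ d₁ ≫ d₀) f₀) ⟶ t.pt),
          c ≫ m' = t.π → m' = coequalizer.desc (f₀ ≫ t.π) (hw t.π t.condition) := by
        intro m' hm'
        apply coequalizer.hom_ext
        rw [coequalizer.π_desc, ← hc2, Category.assoc, hm']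
      intro m hm
      exact key m hm

end Groth.Agent.S5221
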