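import Groth.Statements.S5223
import Mathlib
import Groth.Agent.Lib.Helper12.GorBC2

set_option autoImplicit false
open CategoryTheory CategoryTheory.Limits AlgebraicGeometry
universe u
open GrpQ

namespace Groth.Agent.S5223

/-- In a cartesian square of schemes `F₂ = F₁ ×_{X₀} X₁` whose bottom map `u : X₁ ⟶ X₀` is flat, the
base-changed map `d' : F₂ ⟶ X₁` is flat at a point `x` if and only if `d : F₁ ⟶ X₀` is flat at the
image of `x` in `F₁`. -/
theorem result {F₂ F₁ X₁ X₀ : Scheme.{u}}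
    {v : F₂ ⟶ F₁} {d' : F₂ ⟶ X₁} {d : F₁ ⟶ X₀} {u : X₁ ⟶ X₀}
    (h : IsPullback v d' d u) [Flat u] (x : F₂) :
    (d'.stalkMap x).hom.Flat ↔ (d.stalkMap (v.base x)).hom.Flat := by
  haveI : Flat v := MorphismProperty.of_isPullback (P := @Flat) h.flip inferInstance
  constructor
  · intro hd'
    have hv : (v.stalkMap x).hom.Flat := Flat.stalkMap v x
    have hu : (u.stalkMap (d' x)).hom.Flat := Flat.stalkMap u (d' x)
    have h1 : ((d' ≫ u).stalkMap x).hom.Flat :=
      Groth.Agent.Helper12.FlatPt.flat_stalkMap_comp d' u x hd' hu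
    have h2 : ∀ (k : F₂ ⟶ X₀), k = d' ≫ u → (k.stalkMap x).hom.Flat := by
      rintro k rfl
      exact h1
    exact Groth.Agent.Helper12.FlatPt.flat_stalkMap_of_comp v d x hv (h2 (v ≫ d) h.w)
  · intro hd
    exact Groth.Agent.Helper12.FlatPt.flat_stalkMap_baseChange h x hd

end Groth.Agent.S5223
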