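import Groth.Statements.S5224
import Groth.Agent.Lib.Helper18.QSh2
import Groth.Agent.Lib.Helper16.AlgSp.FlatDesc

set_option autoImplicit false
open CategoryTheory CategoryTheory.Limits AlgebraicGeometry
universe u
open GrpQ

namespace Groth.Agent.S5224

/-- For the fppf topology: let `s, t : R ⇉ U` be an equivalence relation of schemes over `S` with `s`
faithfully flat and locally of finite presentation. A morphism `q : U ⟶ Y` over `S` is a faithfully
flat, locally finitely presented quotient with kernel pair `R` if and only if `q` identifies `h_Y`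
with the fppf quotient sheaf `U/R`. -/
theorem result {S : Scheme.{u}} {R U Y : Over S} (s t : R ⟶ U)
    [IsEquivalenceRelation s t]
    [Flat s.left] [Surjective s.left] [LocallyOfFinitePresentation s.left]
    (q : U ⟶ Y) :
    (IsKernelPair q s t ∧ Flat q.left ∧ Surjective q.left ∧ LocallyOfFinitePresentation q.left) ↔
      QuotSh.IsQuotient Scheme.fppfPrecoverage s t q := by
  have hK : Scheme.fppfPrecoverage.{u} ≤ Scheme.fpqcPrecoverage := Scheme.fppfPrecoverage_le_fpqcPrecoverage
  constructor
  · rintro ⟨hkp, hf, hs, hl⟩
    exact Groth.Agent.Helper18.QSh.isQuotient_of_isKernelPair _ hkp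
      (Groth.Agent.Helper18.QSh.secSieve_mem_of_singleton _ q q.left.singleton_mem_fppfPrecoverage)
  · intro hq
    have hkp := Groth.Agent.Helper18.QSh.isKernelPair_of_isQuotient Scheme.fppfPrecoverage s t q hq
    haveI := Groth.Agent.Helper18.QSh.epi_repMap_of_isQuotient Scheme.fppfPrecoverage s t q hq
    have hsec := Groth.Agent.Helper18.QSh.secSieve_of_epi_repMap Scheme.fppfPrecoverage q
    have hloc := Groth.Agent.Helper18.DescHomK.loc_of_secSieve_mem Scheme.fppfPrecoverage q hsec
    have hkp' : IsPullback t s q q := hkp.flip
    refine ⟨hkp, ?_, ?_, ?_⟩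
    · exact Groth.Agent.Helper18.QSh.prop_of_isKernelPair _ @Flat hK hloc hkp' inferInstance
    · exact Groth.Agent.Helper18.QSh.prop_of_isKernelPair _ @Surjective hK hloc hkp' inferInstance
    · exact Groth.Agent.Helper18.QSh.prop_of_isKernelPair _ @LocallyOfFinitePresentation hK hloc hkp' inferInstance

end Groth.Agent.S5224
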