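import Groth.Statements.S5225
import Groth.Agent.Lib.Helper18.QSh2
import Groth.Agent.Lib.Helper16.AlgSp.FlatDesc

set_option autoImplicit false
open CategoryTheory CategoryTheory.Limits AlgebraicGeometry
universe u
open GrpQ

namespace Groth.Agent.S5225

/-- For the étale topology: let `s, t : R ⇉ U` be an equivalence relation of schemes over `S` with `s`
étale and surjective. A morphism `q : U ⟶ Y` over `S` is an étale surjective quotient with kernel
pair `R` if and only if `q` identifies `h_Y` with the étale quotient sheaf `U/R`. -/
theorem result {S : Scheme.{u}} {R U Y : Over S} (s t : R ⟶ U)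
    [IsEquivalenceRelation s t] [Etale s.left] [Surjective s.left]
    (q : U ⟶ Y) :
    (IsKernelPair q s t ∧ Etale q.left ∧ Surjective q.left) ↔
      QuotSh.IsQuotient Scheme.etalePrecoverage s t q := by
  have hK : Scheme.etalePrecoverage.{u} ≤ Scheme.fpqcPrecoverage := Groth.Agent.Helper18.QSh.etale_le_fpqc
  constructor
  · rintro ⟨hkp, hf, hs⟩
    refine Groth.Agent.Helper18.QSh.isQuotient_of_isKernelPair _ hkp
      (Groth.Agent.Helper18.QSh.secSieve_mem_of_singleton _ q ?_)
    unfold Scheme.etalePrecoverage
    rw [Scheme.singleton_mem_precoverage_iff]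
    exact ⟨hs.surj, hf⟩
  · intro hq
    have hkp := Groth.Agent.Helper18.QSh.isKernelPair_of_isQuotient Scheme.etalePrecoverage s t q hq
    haveI := Groth.Agent.Helper18.QSh.epi_repMap_of_isQuotient Scheme.etalePrecoverage s t q hq
    have hsec := Groth.Agent.Helper18.QSh.secSieve_of_epi_repMap Scheme.etalePrecoverage q
    haveI : Scheme.etalePrecoverage.{u}.IsStableUnderComposition := by
      unfold Scheme.etalePrecoverage; infer_instance
    haveI : Scheme.etalePrecoverage.{u}.IsStableUnderBaseChange := by
      unfold Scheme.etalePrecoverage; infer_instance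
    haveI : Scheme.etalePrecoverage.{u}.HasIsos := by
      unfold Scheme.etalePrecoverage; infer_instance
    have hloc := Groth.Agent.Helper18.DescHomK.loc_of_secSieve_mem Scheme.etalePrecoverage q hsec
    have hkp' : IsPullback t s q q := hkp.flip
    refine ⟨hkp, ?_, ?_⟩
    · exact Groth.Agent.Helper18.QSh.prop_of_isKernelPair _ @Etale hK hloc hkp' inferInstance
    · exact Groth.Agent.Helper18.QSh.prop_of_isKernelPair _ @Surjective hK hloc hkp' inferInstance

end Groth.Agent.S5225
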