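import Groth.Statements.S5231
import Mathlib.CategoryTheory.Sites.Limits
import Mathlib.CategoryTheory.Limits.FunctorCategory.EpiMono

set_option autoImplicit false
open CategoryTheory
universe w v₁ u₁
open ShfCat

namespace Groth.Agent.S5231

open Opposite

theorem injective_of_mono {C : Type u₁} [Category.{v₁} C] (J : GrothendieckTopology C)
    {F G : Sheaf J (Type w)} (f : F ⟶ G) [Mono f] (U : Cᵒᵖ) :
    Function.Injective (f.hom.app U) := by
  have h1 : Mono ((sheafToPresheaf J (Type w)).map f) := inferInstance
  have h2 : Mono (f.hom.app U) := by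
    have : Mono f.hom := h1
    infer_instance
  exact (mono_iff_injective _).1 h2


/-- (iii) ⇒ (i): a morphism `f` of sheaves of sets on a site is a monomorphism (resp. an epimorphism) as
soon as, for every object `S`, the morphisms `T ⟶ S` over which the restriction of `f` to the
induced site `C/T` is a monomorphism (resp. an epimorphism) form a covering sieve. No sheafification
is assumed. (The published statement also treats isomorphisms in the same way; that case is left out
here.) -/
theorem result {C : Type u₁} [Category.{v₁} C]
    (J : GrothendieckTopology C) {F G : Sheaf J (Type w)} (f : F ⟶ G) :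
    ((∀ S : C, ∃ R : Sieve S, R ∈ J S ∧ ∀ ⦃T : C⦄ (g : T ⟶ S), R g →
        Mono ((J.overPullback (Type w) T).map f)) → Mono f) ∧
    ((∀ S : C, ∃ R : Sieve S, R ∈ J S ∧ ∀ ⦃T : C⦄ (g : T ⟶ S), R g →
        Epi ((J.overPullback (Type w) T).map f)) → Epi f) := by
  constructor
  · intro h
    suffices Mono f.hom from (sheafToPresheaf J (Type w)).mono_of_mono_map this
    suffices ∀ U, Mono (f.hom.app U) from NatTrans.mono_of_mono_app _
    intro U
    rw [mono_iff_injective]
    intro x y hxy
    obtain ⟨R, hR, hmono⟩ := h U.unop
    apply (((isSheaf_iff_isSheaf_of_type _ _).1 F.2).isSeparated _ hR).ext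
    intro T g hg
    have := hmono g hg
    have hinj := injective_of_mono (J.over T) ((J.overPullback (Type w) T).map f) (op (Over.mk (𝟙 T)))
    apply hinj
    change f.hom.app (op T) (F.obj.map g.op x) = f.hom.app (op T) (F.obj.map g.op y)
    have h1 := ConcreteCategory.congr_hom (f.hom.naturality g.op) x
    have h2 := ConcreteCategory.congr_hom (f.hom.naturality g.op) y
    dsimp at h1 h2
    rw [h1, h2, hxy]
  · intro h
    refine ⟨?_⟩
    intro H a b hab
    ext U s
    obtain ⟨R, hR, hepi⟩ := h U.unop
    apply (((isSheaf_iff_isSheaf_of_type _ _).1 H.2).isSeparated _ hR).ext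
    intro T g hg
    have := hepi g hg
    have hab' : (J.overPullback (Type w) T).map a = (J.overPullback (Type w) T).map b := by
      rw [← cancel_epi ((J.overPullback (Type w) T).map f), ← Functor.map_comp, ← Functor.map_comp, hab]
    have h3 := congrArg (fun m => m.hom.app (op (Over.mk (𝟙 T))) (G.obj.map g.op s)) hab'
    change a.hom.app (op T) (G.obj.map g.op s) = b.hom.app (op T) (G.obj.map g.op s) at h3
    have h1 := ConcreteCategory.congr_hom (a.hom.naturality g.op) s
    have h2 := ConcreteCategory.congr_hom (b.hom.naturality g.op) s
    dsimp at h1 h2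
    exact h1.symm.trans (h3.trans h2)

end Groth.Agent.S5231
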