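import Groth.Statements.S5233
import Mathlib

set_option autoImplicit false
open CategoryTheory CategoryTheory.Limits AlgebraicGeometry
universe u
open GrpQ

namespace Groth.Agent.S5233

/-- A flat surjective morphism induces injective maps on sections. -/
lemma app_injective_of_flat {X Y : Scheme.{u}} (f : X ⟶ Y) [Flat f] [Surjective f]
    (U : Y.Opens) : Function.Injective (f.app U) := by
  rw [injective_iff_map_eq_zero]
  intro a ha
  refine TopCat.Presheaf.section_ext Y.sheaf U a 0 fun y hy => ?_
  obtain ⟨x, rfl⟩ := f.surjective y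
  have hinj : Function.Injective (f.stalkMap x) := by
    algebraize [(f.stalkMap x).hom]
    have : Module.FaithfullyFlat (Y.presheaf.stalk (f x)) (X.presheaf.stalk x) :=
      @Module.FaithfullyFlat.of_flat_of_isLocalHom _ _ _ _ _ _ _
        (Flat.stalkMap f x) (f.toLRSHom.prop x)
    exact ‹RingHom.FaithfullyFlat _›.injective
  apply hinj
  have h1 : f.stalkMap x (Y.presheaf.germ U (f x) hy a) = 0 := by
    rw [Scheme.Hom.germ_stalkMap_apply, ha, map_zero]
  have h2 : f.stalkMap x (Y.presheaf.germ U (f x) hy 0) = 0 := by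
    rw [map_zero, map_zero]
  exact h1.trans h2.symm

/-- A flat surjective quasi-compact morphism is scheme-theoretically dominant. -/
lemma isSTD_of_flat {X Y : Scheme.{u}} (f : X ⟶ Y) [Flat f] [Surjective f] [QuasiCompact f] :
    IsSchemeTheoreticallyDominant f := by
  rw [isSchemeTheoreticallyDominant_iff]
  refine Scheme.IdealSheafData.ext (funext fun U => ?_)
  rw [Scheme.Hom.ker_apply, Scheme.IdealSheafData.ideal_bot]
  exact (RingHom.injective_iff_ker_eq_bot _).mp (app_injective_of_flat f U)

set_option backward.isDefEq.respectTransparency false in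
/-- The map to the scheme-theoretic image is scheme-theoretically dominant. -/
lemma isSTD_toImage {X Y : Scheme.{u}} (f : X ⟶ Y) [QuasiCompact f] :
    IsSchemeTheoreticallyDominant f.toImage := by
  rw [isSchemeTheoreticallyDominant_iff]
  refine Scheme.IdealSheafData.ext_of_iSup_eq_top
    (fun U : Y.affineOpens => (⟨f.imageι ⁻¹ᵁ U, U.2.preimage f.imageι⟩ : f.image.affineOpens))
    ?_ fun U => ?_
  · rw [← Scheme.Hom.preimage_iSup, iSup_affineOpens_eq_top, Scheme.Hom.preimage_top]
  · rw [Scheme.Hom.ker_apply, Scheme.IdealSheafData.ideal_bot]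
    exact (RingHom.injective_iff_ker_eq_bot _).mp (f.toImage_app_injective U)

lemma isSTD_of_comp {X Y Z : Scheme.{u}} (r : X ⟶ Y) (j : Y ⟶ Z)
    [IsSchemeTheoreticallyDominant (r ≫ j)] : IsSchemeTheoreticallyDominant j := by
  rw [isSchemeTheoreticallyDominant_iff]
  have h := (r ≫ j).ker_eq_bot
  rw [Scheme.Hom.ker_comp] at h
  refine le_bot_iff.mp ?_
  rw [← h, ← Scheme.IdealSheafData.map_bot]
  exact Scheme.IdealSheafData.map_mono j bot_le

lemma mk_eq_mk_of_ker_eq {A B X : Scheme.{u}} (g₁ : A ⟶ X) (g₂ : B ⟶ X) [IsClosedImmersion g₁]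
    [IsClosedImmersion g₂] (h : g₁.ker = g₂.ker) : Subobject.mk g₁ = Subobject.mk g₂ := by
  apply le_antisymm
  · exact Subobject.mk_le_mk_of_comm (IsClosedImmersion.lift g₂ g₁ h.ge)
      (IsClosedImmersion.lift_fac _ _ _)
  · exact Subobject.mk_le_mk_of_comm (IsClosedImmersion.lift g₁ g₂ h.le)
      (IsClosedImmersion.lift_fac _ _ _)

lemma ker_eq_of_mk_eq_mk {A B X : Scheme.{u}} (g₁ : A ⟶ X) (g₂ : B ⟶ X) [Mono g₁] [Mono g₂]
    (h : Subobject.mk g₁ = Subobject.mk g₂) : g₁.ker = g₂.ker := by
  have he : (Subobject.isoOfMkEqMk g₁ g₂ h).hom ≫ g₂ = g₁ := by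
    rw [Subobject.isoOfMkEqMk_hom, Subobject.ofMkLEMk_comp]
  rw [← he, Scheme.Hom.ker_comp_of_isIso]

instance isClosedImmersion_arrow_mk {A X : Scheme.{u}} (g : A ⟶ X) [IsClosedImmersion g] :
    IsClosedImmersion (Subobject.mk g).arrow := by
  rw [← Subobject.underlyingIso_hom_comp_eq_mk g]
  infer_instance

set_option backward.isDefEq.respectTransparency false in
/-- For schemes, with (M) the faithfully flat quasi-compact morphisms and (N) the closed immersions: if
`π : X ⟶ X'` is flat, surjective and quasi-compact (so `X' = X/R` for its kernel pair `R ⇉ X`), then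
`Y' ↦ π⁻¹(Y')` is a bijection from closed subschemes of `X'` onto the closed subschemes of `X`
stable under `R`. -/
theorem result {X X' : Scheme.{u}} (π : X ⟶ X')
    [Flat π] [Surjective π] [QuasiCompact π] :
    Set.BijOn (Subobject.pullback π).obj
      {Y' : Subobject X' | IsClosedImmersion Y'.arrow}
      {Y : Subobject X | IsClosedImmersion Y.arrow ∧
        (Subobject.pullback (pullback.fst π π)).obj Y = (Subobject.pullback (pullback.snd π π)).obj Y} := by
  refine ⟨?_, ?_, ?_⟩
  · intro Y' (hY' : IsClosedImmersion Y'.arrow)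
    refine ⟨?_, ?_⟩
    · rw [Subobject.pullback_obj]
      infer_instance
    · rw [← Subobject.pullback_comp, ← Subobject.pullback_comp, pullback.condition]
  · intro Y₁ (h₁ : IsClosedImmersion Y₁.arrow) Y₂ (h₂ : IsClosedImmersion Y₂.arrow) h
    rw [Subobject.pullback_obj, Subobject.pullback_obj] at h
    have hk := ker_eq_of_mk_eq_mk _ _ h
    have key : ∀ (Y : Subobject X') [IsClosedImmersion Y.arrow],
        ((pullback.snd Y.arrow π).ker).map π = Y.arrow.ker := by
      intro Y _
      haveI : IsSchemeTheoreticallyDominant (pullback.fst Y.arrow π) := isSTD_of_flat _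
      rw [Scheme.IdealSheafData.map_ker, ← pullback.condition, Scheme.Hom.ker_comp,
        (pullback.fst Y.arrow π).ker_eq_bot, Scheme.IdealSheafData.map_bot]
    have hk' : Y₁.arrow.ker = Y₂.arrow.ker := by
      rw [← key Y₁, ← key Y₂, hk]
    rw [← Subobject.mk_arrow Y₁, ← Subobject.mk_arrow Y₂]
    exact mk_eq_mk_of_ker_eq _ _ hk'
  · rintro Y ⟨hY, hstab⟩
    let i := Y.arrow
    let h := i ≫ π
    let t₀ := h.toImage
    let i' := h.imageι
    have ht₀ : t₀ ≫ i' = i ≫ π := h.toImage_imageι
    refine ⟨Subobject.mk i', ?_, ?_⟩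
    · show IsClosedImmersion (Subobject.mk i').arrow
      infer_instance
    · rw [Subobject.pullback_obj_mk (IsPullback.of_hasPullback i' π)]
      let c := pullback.snd i' π
      let j : (Y : Scheme.{u}) ⟶ pullback i' π := pullback.lift t₀ i ht₀
      have hjc : j ≫ c = i := pullback.lift_snd _ _ _
      haveI : IsClosedImmersion (j ≫ c) := by rw [hjc]; exact hY
      haveI : IsClosedImmersion j := IsClosedImmersion.of_comp j c
      -- the scheme `Q = Z ×_{X'} X`
      let t : pullback h π ⟶ pullback i' π :=
        pullback.lift (pullback.fst h π ≫ t₀) (pullback.snd h π)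
          (by rw [Category.assoc, ht₀]; exact pullback.condition)
      have htfst : t ≫ pullback.fst i' π = pullback.fst h π ≫ t₀ := pullback.lift_fst _ _ _
      have htc : t ≫ c = pullback.snd h π := pullback.lift_snd _ _ _
      haveI : IsSchemeTheoreticallyDominant t₀ := isSTD_toImage h
      have hpb : IsPullback (pullback.fst h π) t t₀ (pullback.fst i' π) := by
        refine (IsPullback.of_right (h₁₂ := pullback.snd i' π) (h₂₂ := i') (v₁₃ := π) ?_ htfst
          (IsPullback.of_hasPullback i' π).flip).flip
        rw [htc, ht₀]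
        exact (IsPullback.of_hasPullback h π).flip
      haveI : IsSchemeTheoreticallyDominant t := IsSchemeTheoreticallyDominant.of_isPullback hpb
      -- the retraction `r`
      rw [Subobject.pullback_obj, Subobject.pullback_obj] at hstab
      let e := Subobject.isoOfMkEqMk _ _ hstab
      have he : e.hom ≫ pullback.snd i (pullback.snd π π) = pullback.snd i (pullback.fst π π) := by
        rw [Subobject.isoOfMkEqMk_hom, Subobject.ofMkLEMk_comp]
      let q : pullback h π ⟶ pullback π π :=
        pullback.lift (pullback.fst h π ≫ i) (pullback.snd h π)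
          (by rw [Category.assoc]; exact pullback.condition)
      have hq1 : q ≫ pullback.fst π π = pullback.fst h π ≫ i := pullback.lift_fst _ _ _
      have hq2 : q ≫ pullback.snd π π = pullback.snd h π := pullback.lift_snd _ _ _
      let w : pullback h π ⟶ pullback i (pullback.fst π π) :=
        pullback.lift (pullback.fst h π) q hq1.symm
      have hw : w ≫ pullback.snd i (pullback.fst π π) = q := pullback.lift_snd _ _ _
      let r : pullback h π ⟶ (Y : Scheme.{u}) := w ≫ e.hom ≫ pullback.fst i (pullback.snd π π)
      have hr : r ≫ i = pullback.snd h π := by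
        simp only [r, Category.assoc]
        rw [pullback.condition, reassoc_of% he, reassoc_of% hw, hq2]
      have htr : t = r ≫ j := by
        rw [← cancel_mono c, htc, Category.assoc, hjc, hr]
      haveI : IsSchemeTheoreticallyDominant (r ≫ j) := htr ▸ inferInstance
      haveI : IsSchemeTheoreticallyDominant j := isSTD_of_comp r j
      haveI : IsIso j := IsClosedImmersion.isIso_iff_ker_eq_bot.mpr j.ker_eq_bot
      have : Subobject.mk c = Subobject.mk i :=
        (Subobject.mk_eq_mk_of_comm _ _ (asIso j) hjc).symm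
      rw [this, Subobject.mk_arrow]

end Groth.Agent.S5233
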