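import Groth.Statements.S5235

set_option autoImplicit false
universe u
open CategoryTheory CategoryTheory.Limits AlgebraicGeometry
open GrpQ

namespace Groth.Agent.S5235

lemma mk_eq_mk_of_range_eq {A B X : Scheme.{u}} (g₁ : A ⟶ X) (g₂ : B ⟶ X) [IsOpenImmersion g₁]
    [IsOpenImmersion g₂] (h : Set.range g₁ = Set.range g₂) :
    Subobject.mk g₁ = Subobject.mk g₂ :=
  Subobject.mk_eq_mk_of_comm _ _ (IsOpenImmersion.isoOfRangeEq g₁ g₂ h)
    (IsOpenImmersion.isoOfRangeEq_hom_fac g₁ g₂ h)

lemma range_eq_of_mk_eq_mk {A B X : Scheme.{u}} (g₁ : A ⟶ X) (g₂ : B ⟶ X) [Mono g₁] [Mono g₂]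
    (h : Subobject.mk g₁ = Subobject.mk g₂) : Set.range g₁ = Set.range g₂ := by
  have e := Subobject.isoOfMkEqMk g₁ g₂ h
  have he : (Subobject.isoOfMkEqMk g₁ g₂ h).hom ≫ g₂ = g₁ := by
    rw [Subobject.isoOfMkEqMk_hom, Subobject.ofMkLEMk_comp]
  rw [← he, Scheme.Hom.comp_base, TopCat.coe_comp, Set.range_comp,
    Set.range_eq_univ.mpr (ConcreteCategory.bijective_of_isIso
      (Subobject.isoOfMkEqMk g₁ g₂ h).hom.base).2, Set.image_univ]

lemma range_arrow_mk {A X : Scheme.{u}} (g : A ⟶ X) [Mono g] :
    Set.range (Subobject.mk g).arrow = Set.range g := by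
  apply range_eq_of_mk_eq_mk
  rw [Subobject.mk_arrow]

instance isOpenImmersion_arrow_mk {A X : Scheme.{u}} (g : A ⟶ X) [IsOpenImmersion g] :
    IsOpenImmersion (Subobject.mk g).arrow := by
  rw [← Subobject.underlyingIso_hom_comp_eq_mk g]
  infer_instance

lemma range_pullback_arrow {X X' : Scheme.{u}} (π : X ⟶ X') (Y' : Subobject X') :
    Set.range ((Subobject.pullback π).obj Y').arrow = π ⁻¹' (Set.range Y'.arrow) := by
  rw [Subobject.pullback_obj, range_arrow_mk, Scheme.Pullback.range_snd]

/-- For schemes, with (M) the faithfully flat quasi-compact morphisms and (N) the open immersions: if `π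
: X ⟶ X'` is flat, surjective and quasi-compact, then `Y' ↦ π⁻¹(Y')` is a bijection from open
subschemes of `X'` onto the open subschemes of `X` stable under the kernel pair of `π`. -/
theorem result {X X' : Scheme.{u}} (π : X ⟶ X')
    [Flat π] [Surjective π] [QuasiCompact π] :
    Set.BijOn (Subobject.pullback π).obj
      {Y' : Subobject X' | IsOpenImmersion Y'.arrow}
      {Y : Subobject X | IsOpenImmersion Y.arrow ∧
        (Subobject.pullback (pullback.fst π π)).obj Y = (Subobject.pullback (pullback.snd π π)).obj Y} := by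
  refine ⟨?_, ?_, ?_⟩
  · -- maps to
    intro Y' (hY' : IsOpenImmersion Y'.arrow)
    refine ⟨?_, ?_⟩
    · rw [Subobject.pullback_obj]
      infer_instance
    · rw [← Subobject.pullback_comp, ← Subobject.pullback_comp, pullback.condition]
  · -- injective
    intro Y₁ (h₁ : IsOpenImmersion Y₁.arrow) Y₂ (h₂ : IsOpenImmersion Y₂.arrow) h
    have hr : π ⁻¹' (Set.range Y₁.arrow) = π ⁻¹' (Set.range Y₂.arrow) := by
      rw [← range_pullback_arrow, ← range_pullback_arrow, h]
    have hr' : Set.range Y₁.arrow = Set.range Y₂.arrow :=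
      Set.preimage_injective.mpr π.surjective hr
    rw [← Subobject.mk_arrow Y₁, ← Subobject.mk_arrow Y₂]
    exact mk_eq_mk_of_range_eq _ _ hr'
  · -- surjective
    rintro Y ⟨hY, hstab⟩
    let U : Set X := Set.range Y.arrow
    have hUopen : IsOpen U := Y.arrow.isOpenEmbedding.isOpen_range
    have hpre : (pullback.fst π π) ⁻¹' U = (pullback.snd π π) ⁻¹' U := by
      rw [← range_pullback_arrow, ← range_pullback_arrow, hstab]
    have hsat : π ⁻¹' (π '' U) = U := by
      apply Set.Subset.antisymm
      · rintro x₂ ⟨x, hxU, hx⟩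
        obtain ⟨z, hz1, hz2⟩ := Scheme.Pullback.exists_preimage_pullback x x₂ hx
        have : z ∈ (pullback.fst π π) ⁻¹' U := by
          show (pullback.fst π π) z ∈ U
          rw [hz1]; exact hxU
        rw [hpre] at this
        have h2 : (pullback.snd π π) z ∈ U := this
        rwa [hz2] at h2
      · exact Set.subset_preimage_image _ _
    have hq := Flat.isQuotientMap_of_surjective π
    have hU'open : IsOpen (π '' U) := by
      rw [← hq.isOpen_preimage, hsat]; exact hUopen
    let U' : X'.Opens := ⟨π '' U, hU'open⟩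
    refine ⟨Subobject.mk U'.ι, ?_, ?_⟩
    · show IsOpenImmersion (Subobject.mk U'.ι).arrow
      infer_instance
    · have h1 : IsOpenImmersion ((Subobject.pullback π).obj (Subobject.mk U'.ι)).arrow := by
        rw [Subobject.pullback_obj]
        infer_instance
      rw [← Subobject.mk_arrow ((Subobject.pullback π).obj (Subobject.mk U'.ι)),
        ← Subobject.mk_arrow Y]
      apply mk_eq_mk_of_range_eq
      rw [range_pullback_arrow, range_arrow_mk, Scheme.Opens.range_ι]
      exact hsat

end Groth.Agent.S5235
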