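import Groth.Statements.S5255
import Groth.Agent.Lib.Helper7.MTRigD
import Groth.Agent.Lib.Helper18.EtFixA

set_option autoImplicit false
open CategoryTheory MonoidalCategory CartesianMonoidalCategory MonObj GrpObj AlgebraicGeometry
universe u
open SGA3x

namespace Groth.Agent.S5255

/-- Let K be an S-group locally of finite type over S whose fibres are connected, and i : H ⟶ K a
subgroup scheme of multiplicative type and of finite type which is normal in K. Then H is central in
K: for every S-scheme X, every X-point of K commutes with (the image of) every X-point of H. -/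
theorem result {S : Scheme.{u}} (K H : Over S) [GrpObj K] [GrpObj H]
    [LocallyOfFiniteType K.hom] (hconn : ∀ s : S, ConnectedSpace ↥(Limits.pullback K.hom (S.fromSpecResidueField s)))
    (i : H ⟶ K) [IsMonHom i] [Mono i] (hH : SGA3x.IsMultTypeFT H) (hn : AlgGrp.IsNormalHom i) :
    ∀ (X : Over S) (k : X ⟶ K) (h : X ⟶ H), k * (h ≫ i) = (h ≫ i) * k := by
  haveI : GeometricallyConnected K.hom :=
    Groth.Agent.Helper18.EtFix.geometricallyConnected_of_fibres K (fun s => hconn s)
  obtain ⟨c, hc⟩ := hn (K ⊗ H) (fst K H) (snd K H)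
  have hpt : ∀ (T : Over S) (k : T ⟶ K) (h : T ⟶ H),
      (lift k h ≫ c) ≫ i = k * (h ≫ i) * k⁻¹ := by
    intro T k h
    rw [Category.assoc, ← hc, MonObj.comp_mul, MonObj.comp_mul, GrpObj.comp_inv, lift_fst,
      lift_snd_assoc]
  have hmul : ∀ (T : Over S) (k : T ⟶ K) (h h' : T ⟶ H),
      lift k (h * h') ≫ c = (lift k h ≫ c) * (lift k h' ≫ c) := by
    intro T k h h'
    rw [← cancel_mono i, hpt, MonObj.mul_comp (lift k h ≫ c) (lift k h' ≫ c) i, hpt, hpt,
      MonObj.mul_comp h h' i]
    group
  have hunit : ∀ (T : Over S) (h : T ⟶ H), lift (toUnit T ≫ η[K]) h ≫ c = h := by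
    intro T h
    rw [← cancel_mono i, hpt]
    have h1 : toUnit T ≫ η[K] = (1 : T ⟶ K) := rfl
    rw [h1, _root_.one_mul, inv_one, _root_.mul_one]
  have hcs : c = snd K H :=
    Groth.Agent.Helper7.MTRig.eq_snd_of_isMultTypeFT c hmul η[K] hunit hH
  intro X k h
  have h2 := hpt X k h
  rw [hcs, lift_snd] at h2
  calc k * (h ≫ i) = (k * (h ≫ i) * k⁻¹) * k := by group
    _ = (h ≫ i) * k := by rw [← h2]

end Groth.Agent.S5255
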