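import Groth.Statements.S5268
import Groth.Agent.Lib.Helper12.TwUniA
import Groth.Agent.Lib.Helper12.TwFinD
import Groth.Agent.S19144

set_option autoImplicit false
set_option linter.style.haveILetI false
open CategoryTheory MonoidalCategory CartesianMonoidalCategory MonObj GrpObj AlgebraicGeometry
universe u
open SGA3x

namespace Groth.Agent.S5268

/-- Let S be a locally Noetherian scheme all of whose local rings are geometrically unibranch, and P a
quasi-isotrivial twisted constant S-scheme (etale-locally on S isomorphic to a constant scheme).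
Then every connected component of P is open, and as an open subscheme of P it is finite over S. -/
theorem result {S : Scheme.{u}} [IsLocallyNoetherian S]
    (hS : ∀ s : S, CAlg2.IsGeomUnibranch (S.presheaf.stalk s))
    (P : Over S) (hP : TwC.IsTwConst TwC.Topology.etale P) (x : P.left) :
    ∃ U : P.left.Opens, (U : Set P.left) = connectedComponent x ∧ IsFinite (U.ι ≫ P.hom) := by
  obtain ⟨hsep, het, -⟩ := Groth.Agent.S19144.result P hP
  haveI : IsLocallyNoetherian P.left := LocallyOfFiniteType.isLocallyNoetherian P.hom
  haveI : LocallyConnectedSpace P.left :=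
    Groth.Agent.Helper12.TwFin.locallyConnectedSpace_of_isLocallyNoetherian P.left
  haveI : LocallyQuasiFinite P.hom := Groth.Agent.Helper12.TwFin.locallyQuasiFinite_of_etale P.hom
  have hY : ∀ y : P.left, (nilradical (P.left.presheaf.stalk y)).IsPrime := fun y =>
    Groth.Agent.Helper12.TwUni.nilradical_isPrime_of_isGeomUnibranch _
      (Groth.Agent.Helper1.GU.stalk_geomUnibranch_of_etale P.hom y (hS _)).1
  obtain ⟨ξ, hξC, hξ, hξmax⟩ := Groth.Agent.Helper12.TwUni.exists_generic_connectedComponent hY x
  let U : P.left.Opens := ⟨connectedComponent x, isOpen_connectedComponent⟩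
  haveI : IsClosedImmersion U.ι :=
    IsClosedImmersion.of_isPreimmersion _ (by
      rw [Scheme.Opens.range_ι]; exact isClosed_connectedComponent)
  refine ⟨U, rfl, ?_⟩
  have hrange : Set.range (U.ι ≫ P.hom).base = P.hom.base '' connectedComponent x := by
    ext s
    constructor
    · rintro ⟨u, rfl⟩
      exact ⟨u.1, u.2, rfl⟩
    · rintro ⟨c, hc, rfl⟩
      exact ⟨⟨c, hc⟩, rfl⟩
  refine Groth.Agent.Helper12.TwFin.isFinite_of_fib' P hP U.ι ?_ ?_
  · rw [hrange]
    exact isPreconnected_connectedComponent.image _ P.hom.continuous.continuousOn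
  · refine ⟨P.hom.base ξ, ⟨⟨ξ, hξC⟩, rfl⟩, ?_⟩
    refine Set.Subsingleton.finite ?_
    intro a ha b hb
    have ha' : P.hom.base a.1 = P.hom.base ξ := ha
    have hb' : P.hom.base b.1 = P.hom.base ξ := hb
    have e1 : a.1 = ξ :=
      Groth.Agent.Helper12.TwUni.eq_of_specializes_of_fibre P.hom (hξ a.1 a.2) ha'
    have e2 : b.1 = ξ :=
      Groth.Agent.Helper12.TwUni.eq_of_specializes_of_fibre P.hom (hξ b.1 b.2) hb'
    exact Subtype.ext (e1.trans e2.symm)

end Groth.Agent.S5268
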