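import Groth.Statements.S5278
import Groth.Agent.Lib.Helper23.FEtConn

set_option autoImplicit false
open CategoryTheory AlgebraicGeometry
universe u
open SGA3x

namespace Groth.Agent.S5278

/-- Let X be a connected scheme, f : X' ⟶ X a finite etale morphism and x a point of X. Then every
connected component of X' meets the fibre of f over x; equivalently the map from the connected
components of the fibre (or of the geometric fibre) to those of X' is surjective. -/
theorem result {X X' : Scheme.{u}} [ConnectedSpace X] (f : X' ⟶ X)
    [IsFinite f] [Etale f] (x : X) (c : X') :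
    ∃ x' : X', f.base x' = x ∧ x' ∈ connectedComponent c := by
  have hcl := Groth.Agent.Helper23.FEtConn.isClopen_connectedComponent f c
  obtain ⟨x', h1, h2⟩ := Groth.Agent.Helper23.FEtConn.clopen_meets_fibre f
    ⟨connectedComponent c, hcl.2⟩ hcl.1 ⟨c, mem_connectedComponent⟩ x
  exact ⟨x', h1, h2⟩

end Groth.Agent.S5278
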