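import Groth.Statements.S5290
import Groth.Agent.Lib.Helper7.GLF

set_option autoImplicit false
open CategoryTheory MonoidalCategory CartesianMonoidalCategory MonObj GrpObj AlgebraicGeometry
universe u
open SGA3x

namespace Groth.Agent.S5290

/-- Let S = Spec R be affine, J a nilpotent ideal of R and S₀ = Spec (R/J); let G be an arbitrary
S-group and i : H ⟶ G, i' : H' ⟶ G two sub-group-schemes (homomorphisms which are immersions) of
multiplicative type (fpqc-locally on S isomorphic, as groups, to diagonalisable groups D(M), M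
allowed to vary and taken in Type 0), with H central in G (every point of G commutes with every
point of H). If H ×_S S₀ and H' ×_S S₀ coincide as subgroups of G ×_S S₀, then H = H' as subgroups
of G: there is an isomorphism H ≅ H' compatible with i and i'. -/
theorem result {R : Type u} [CommRing R] (J : Ideal R) (hJ : IsNilpotent J)
    (G H H' : Over (Spec (CommRingCat.of R))) [GrpObj G] [GrpObj H] [GrpObj H']
    (hH : TwC.Locally (Spec (CommRingCat.of R)) TwC.Topology.fpqc (fun S' f => ∃ (M : Type) (_ : AddCommGroup M), Nonempty (Grp.mk (Red.bc f H) ≅ Grp.mk (Red.DS S' M))))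
    (hH' : TwC.Locally (Spec (CommRingCat.of R)) TwC.Topology.fpqc (fun S' f => ∃ (M : Type) (_ : AddCommGroup M), Nonempty (Grp.mk (Red.bc f H') ≅ Grp.mk (Red.DS S' M))))
    (i : H ⟶ G) [IsMonHom i] [IsImmersion i.left] (i' : H' ⟶ G) [IsMonHom i'] [IsImmersion i'.left]
    (hc : ∀ (X : Over (Spec (CommRingCat.of R))) (g : X ⟶ G) (h : X ⟶ H), g * (h ≫ i) = (h ≫ i) * g)
    (h0 : ∃ ψ : Red.bc (Spec.map (CommRingCat.ofHom (Ideal.Quotient.mk J))) H ≅ Red.bc (Spec.map (CommRingCat.ofHom (Ideal.Quotient.mk J))) H',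
      ψ.hom ≫ (Over.pullback (Spec.map (CommRingCat.ofHom (Ideal.Quotient.mk J)))).map i' = (Over.pullback (Spec.map (CommRingCat.ofHom (Ideal.Quotient.mk J)))).map i) :
    ∃ φ : H ≅ H', φ.hom ≫ i' = i := by
  obtain ⟨ψ, hψ⟩ := h0
  have : Mono i.left := inferInstance
  have : Mono i'.left := inferInstance
  have : Mono i := Over.mono_of_mono_left i
  have : Mono i' := Over.mono_of_mono_left i'
  have hψ' : ψ.inv ≫ (Over.pullback (Spec.map (CommRingCat.ofHom (Ideal.Quotient.mk J)))).map i =
      (Over.pullback (Spec.map (CommRingCat.ofHom (Ideal.Quotient.mk J)))).map i' := by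
    rw [← hψ, Iso.inv_hom_id_assoc]
  obtain ⟨a, ha⟩ := Groth.Agent.Helper7.GL.core J hJ G H H' hH hH' i i'
    (fun X h h' => (hc X (h' ≫ i') h).symm)
    (fun Y p h => Groth.Agent.Helper7.GL.exists_of_iso
      (Spec.map (CommRingCat.ofHom (Ideal.Quotient.mk J))) i i' ψ.hom hψ Y p h)
  obtain ⟨b, hb⟩ := Groth.Agent.Helper7.GL.core J hJ G H' H hH' hH i' i
    (fun X h' h => hc X (h' ≫ i') h)
    (fun Y p h' => Groth.Agent.Helper7.GL.exists_of_iso
      (Spec.map (CommRingCat.ofHom (Ideal.Quotient.mk J))) i' i ψ.inv hψ' Y p h')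
  have haw : a ≫ H'.hom = H.hom := by
    rw [← Over.w i', ← Category.assoc, ha, Over.w i]
  have hbw : b ≫ H.hom = H'.hom := by
    rw [← Over.w i, ← Category.assoc, hb, Over.w i']
  let a' : H ⟶ H' := Over.homMk a haw
  let b' : H' ⟶ H := Over.homMk b hbw
  have hai : a' ≫ i' = i := Over.OverMorphism.ext ha
  have hbi : b' ≫ i = i' := Over.OverMorphism.ext hb
  refine ⟨⟨a', b', ?_, ?_⟩, hai⟩
  · rw [← cancel_mono i, Category.assoc, hbi, hai, Category.id_comp]
  · rw [← cancel_mono i', Category.assoc, hai, hbi, Category.id_comp]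

end Groth.Agent.S5290
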