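import Groth.Statements.S5308
import Groth.Agent.Lib.Helper12.TwIsoA
import Groth.Agent.S19144

set_option autoImplicit false
set_option linter.style.haveILetI false
open CategoryTheory MonoidalCategory CartesianMonoidalCategory MonObj GrpObj AlgebraicGeometry
universe u
open SGA3x

namespace Groth.Agent.S5308

/-- (i) ⇒ (ii). Let R be a commutative twisted constant S-group which is isotrivial (it becomes a
constant group over the open and closed pieces of one finite etale surjective S' ⟶ S). Then R is a
union of open and closed subschemes which are quasi-compact, indeed finite, over S: every point of R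
has an open and closed neighbourhood U in R with U ⟶ S finite. -/
theorem result {S : Scheme.{u}} (R : Over S) [GrpObj R]
    (hcomm : ∀ (X : Over S) (a b : X ⟶ R), a * b = b * a) (hR : TwC.IsTwConstGrp TwC.Topology.finiteEtale R) (x : R.left) :
    ∃ U : R.left.Opens, x ∈ U ∧ IsClosed (U : Set R.left) ∧ IsFinite (U.ι ≫ R.hom) := by
  obtain ⟨S', f, hfin, het, hsurj, hloc⟩ := hR
  have hX : TwC.IsTwConst TwC.Topology.etale R := by
    intro s
    obtain ⟨s', rfl⟩ := hsurj.surj s
    obtain ⟨U, hsU, hUc, M, _, e, _⟩ := hloc s'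
    exact ⟨U, U.ι ≫ f, inferInstance, ⟨⟨s', hsU⟩, rfl⟩, M, ⟨e⟩⟩
  obtain ⟨hsep, het', _⟩ := Groth.Agent.S19144.result R hX
  obtain ⟨s', hs'⟩ := hsurj.surj (R.hom x)
  obtain ⟨U, hsU, hUc, M, _, e, _⟩ := hloc s'
  haveI : IsClosedImmersion U.ι :=
    IsClosedImmersion.of_isPreimmersion _ (by rw [Scheme.Opens.range_ι]; exact hUc)
  haveI : IsFinite (U.ι ≫ f) := inferInstance
  exact Groth.Agent.Helper12.TwIso.exists_clopen_finite R (U.ι ≫ f) M e x ⟨⟨s', hsU⟩, hs'⟩

end Groth.Agent.S5308
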