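import Groth.Statements.S5331
import Mathlib
import Groth.Agent.Lib.Helper28.SectionDiscrete
import Groth.Agent.Lib.Helper12.GrpSchSep

set_option autoImplicit false
universe u
open CategoryTheory CategoryTheory.Limits MonoidalCategory CartesianMonoidalCategory MonObj GrpObj AlgebraicGeometry
open SGA3

namespace Groth.Agent.S5331

/-- Let S be a scheme whose underlying topological space is discrete. Then every S-group scheme is
separated over S. -/
theorem result (S : Scheme.{u}) [DiscreteTopology S] (G : Over S) [GrpObj G] :
    IsSeparated G.hom := by
  have hη : η[G].left ≫ G.hom = 𝟙 S := Over.w η[G]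
  have hci : IsClosedImmersion η[G].left :=
    Groth.Agent.Helper28.SectionDiscrete.isClosedImmersion_section G.hom η[G].left hη
  have hpb := (Groth.Agent.Helper12.isPullback_diag_unit G).map (Over.forget _)
  have : IsClosedImmersion ((Over.forget _).map (lift (𝟙 G) (𝟙 G))) :=
    MorphismProperty.of_isPullback (P := @IsClosedImmersion) hpb.flip hci
  constructor
  exact this

end Groth.Agent.S5331
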