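import Groth.Statements.S5333
import Mathlib.AlgebraicGeometry.IdealSheaf.Subscheme

set_option autoImplicit false
universe u
open CategoryTheory CategoryTheory.Limits MonoidalCategory CartesianMonoidalCategory MonObj GrpObj AlgebraicGeometry
open SGA3

namespace Groth.Agent.S5333

/-- The reduced induced closed subscheme structure is reduced. -/
lemma isReduced_vanishingIdeal_subscheme {X : Scheme.{u}} (Z : TopologicalSpace.Closeds X) :
    IsReduced (Scheme.IdealSheafData.vanishingIdeal Z).subscheme := by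
  set I := Scheme.IdealSheafData.vanishingIdeal Z
  rw [IsReduced.iff_of_openCover (X := I.subscheme) I.subschemeCover.openCover]
  intro (U : X.affineOpens)
  have h3 : (I.ideal U).IsRadical := by
    rw [Scheme.IdealSheafData.vanishingIdeal_ideal]
    exact PrimeSpectrum.isRadical_vanishingIdeal _
  have h2 : _root_.IsReduced (Γ(X, U) ⧸ I.ideal U) := (Ideal.isRadical_iff_quotient_reduced _).mp h3
  exact (affine_isReduced_iff (.of (Γ(X, U) ⧸ I.ideal U))).mpr h2

/-- The criterion (iii). -/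
def Crit {X S : Scheme.{u}} (f : X ⟶ S) : Prop :=
  ∀ (T : Scheme.{u}) [IsReduced T] (g₁ g₂ : T ⟶ X) (U : T.Opens), g₁ ≫ f = g₂ ≫ f →
      Dense (U : Set T) → U.ι ≫ g₁ = U.ι ≫ g₂ → g₁ = g₂

lemma crit_of_isSeparated {X S : Scheme.{u}} (f : X ⟶ S) [IsSeparated f] : Crit f := by
  intro T _ g₁ g₂ U h hU hU'
  have : IsDominant U.ι := ⟨by rw [DenseRange, Scheme.Opens.range_ι]; exact hU⟩
  exact ext_of_isDominant_of_isSeparated f h U.ι hU'

lemma isSeparated_of_crit {X S : Scheme.{u}} (f : X ⟶ S) (hc : Crit f) : IsSeparated f := by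
  let Δ := pullback.diagonal f
  let Zc : TopologicalSpace.Closeds ↥(pullback f f) := ⟨closure (Set.range Δ), isClosed_closure⟩
  let I := Scheme.IdealSheafData.vanishingIdeal Zc
  let i : I.subscheme ⟶ pullback f f := I.subschemeι
  have hred : IsReduced I.subscheme := isReduced_vanishingIdeal_subscheme Zc
  have hri : Set.range i = closure (Set.range Δ) := by
    rw [Scheme.IdealSheafData.range_subschemeι, Scheme.IdealSheafData.coe_support_vanishingIdeal]
    rfl
  obtain ⟨O, C, hO, hC, hOC⟩ := Δ.isLocallyClosed_range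
  have hΔO : Set.range Δ ⊆ O := by rw [hOC]; exact Set.inter_subset_left
  have hOcl : O ∩ closure (Set.range Δ) ⊆ Set.range Δ := by
    intro z hz
    rw [hOC]
    refine ⟨hz.1, ?_⟩
    have : closure (Set.range Δ) ⊆ C := by
      rw [hOC]; exact closure_minimal Set.inter_subset_right hC
    exact this hz.2
  let U : I.subscheme.Opens := i ⁻¹ᵁ ⟨O, hO⟩
  have hUmem : ∀ t : I.subscheme, t ∈ U → i t ∈ Set.range Δ := by
    intro t ht
    exact hOcl ⟨ht, hri ▸ Set.mem_range_self t⟩
  have hUdense : Dense (U : Set I.subscheme) := by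
    intro t
    rw [mem_closure_iff]
    intro o ho hto
    obtain ⟨o', ho', rfl⟩ := i.isEmbedding.isInducing.isOpen_iff.mp ho
    have h1 : i t ∈ closure (Set.range Δ) := hri ▸ Set.mem_range_self t
    obtain ⟨z, hzo, ⟨x, rfl⟩⟩ := mem_closure_iff.mp h1 o' ho' hto
    have h2 : Δ x ∈ Set.range i := by rw [hri]; exact subset_closure ⟨x, rfl⟩
    obtain ⟨t', ht'⟩ := h2
    refine ⟨t', ?_, ?_⟩
    · show i t' ∈ o'
      rw [ht']; exact hzo
    · show i t' ∈ O
      rw [ht']; exact hΔO ⟨x, rfl⟩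
  -- factor U through Δ
  let h : (U : Scheme) ⟶ pullback f f := U.ι ≫ i
  have hrange : ∀ u : (U : Scheme), h u ∈ Set.range Δ := by
    intro u
    have : h u = i (U.ι u) := by rw [Scheme.Hom.comp_apply]
    rw [this]
    exact hUmem _ u.2
  have hUred : IsReduced (U : Scheme) := isReduced_of_isOpenImmersion U.ι
  have hsurj : Surjective (pullback.fst h Δ) := by
    refine ⟨fun u => ?_⟩
    obtain ⟨x, hx⟩ := hrange u
    obtain ⟨z, hz, -⟩ := Scheme.Pullback.exists_preimage_pullback u x hx.symm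
    exact ⟨z, hz⟩
  have hci : IsClosedImmersion (pullback.fst h Δ) := by
    refine .of_isPreimmersion _ ?_
    rw [(pullback.fst h Δ).surjective.range_eq]
    exact isClosed_univ
  have hiso : IsIso (pullback.fst h Δ) := isIso_of_isClosedImmersion_of_surjective _
  let l : (U : Scheme) ⟶ X := inv (pullback.fst h Δ) ≫ pullback.snd h Δ
  have hl : l ≫ Δ = h := by
    simp only [l, Category.assoc, ← pullback.condition, IsIso.inv_hom_id_assoc]
  let p₁ : I.subscheme ⟶ X := i ≫ pullback.fst f f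
  let p₂ : I.subscheme ⟶ X := i ≫ pullback.snd f f
  have hp : p₁ = p₂ := by
    refine hc I.subscheme p₁ p₂ U ?_ hUdense ?_
    · simp only [p₁, p₂, Category.assoc, pullback.condition]
    · have e1 : U.ι ≫ p₁ = l := by
        simp only [p₁, ← Category.assoc]
        change h ≫ _ = l
        rw [← hl, Category.assoc, pullback.diagonal_fst, Category.comp_id]
      have e2 : U.ι ≫ p₂ = l := by
        simp only [p₂, ← Category.assoc]
        change h ≫ _ = l
        rw [← hl, Category.assoc, pullback.diagonal_snd, Category.comp_id]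
      rw [e1, e2]
  have hi : i = p₁ ≫ Δ := by
    apply pullback.hom_ext
    · simp only [Δ, p₁, Category.assoc, pullback.diagonal_fst, Category.comp_id]
    · rw [Category.assoc, pullback.diagonal_snd, Category.comp_id, hp]
  have hclosed : IsClosed (Set.range Δ) := by
    rw [← closure_subset_iff_isClosed, ← hri]
    rintro _ ⟨t, rfl⟩
    rw [hi, Scheme.Hom.comp_apply]
    exact ⟨_, rfl⟩
  exact ⟨IsClosedImmersion.of_isPreimmersion _ hclosed⟩

lemma crit_of_local {X S : Scheme.{u}} (f : X ⟶ S)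
    (hB : ∀ x₁ x₂ : X, f.base x₁ = f.base x₂ →
      ∃ V : X.Opens, x₁ ∈ V ∧ x₂ ∈ V ∧ IsSeparated (V.ι ≫ f)) : Crit f := by
  intro T _ g₁ g₂ U h hU hU'
  have hpt : ∀ t : T, f (g₁ t) = f (g₂ t) := by
    intro t
    rw [← Scheme.Hom.comp_apply, ← Scheme.Hom.comp_apply, h]
  choose V hV1 hV2 hVsep using fun t : T => hB (g₁ t) (g₂ t) (hpt t)
  let N : T → T.Opens := fun t => g₁ ⁻¹ᵁ (V t) ⊓ g₂ ⁻¹ᵁ (V t)
  have htN : ∀ t, t ∈ N t := fun t => ⟨hV1 t, hV2 t⟩
  have hcov : TopologicalSpace.IsOpenCover N := by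
    refine TopologicalSpace.IsOpenCover.mk (eq_top_iff.mpr fun t _ => ?_)
    exact TopologicalSpace.Opens.mem_iSup.mpr ⟨t, htN t⟩
  have hloc : ∀ t, (N t).ι ≫ g₁ = (N t).ι ≫ g₂ := by
    intro t
    have := hVsep t
    have hr₁ : Set.range ((N t).ι ≫ g₁) ⊆ Set.range (V t).ι := by
      rintro _ ⟨n, rfl⟩; rw [Scheme.Opens.range_ι]; exact n.2.1
    have hr₂ : Set.range ((N t).ι ≫ g₂) ⊆ Set.range (V t).ι := by
      rintro _ ⟨n, rfl⟩; rw [Scheme.Opens.range_ι]; exact n.2.2
    let a₁ := IsOpenImmersion.lift (V t).ι ((N t).ι ≫ g₁) hr₁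
    let a₂ := IsOpenImmersion.lift (V t).ι ((N t).ι ≫ g₂) hr₂
    have ha₁ : a₁ ≫ (V t).ι = (N t).ι ≫ g₁ := IsOpenImmersion.lift_fac _ _ _
    have ha₂ : a₂ ≫ (V t).ι = (N t).ι ≫ g₂ := IsOpenImmersion.lift_fac _ _ _
    have hNred : IsReduced ((N t : T.Opens) : Scheme) := isReduced_of_isOpenImmersion (N t).ι
    let W : ((N t : T.Opens) : Scheme).Opens := (N t).ι ⁻¹ᵁ U
    have hWdom : IsDominant W.ι := by
      refine ⟨?_⟩
      rw [DenseRange, Scheme.Opens.range_ι]
      exact hU.preimage (N t).ι.isOpenEmbedding.isOpenMap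
    have hrW : Set.range (W.ι ≫ (N t).ι) ⊆ Set.range U.ι := by
      rintro _ ⟨w, rfl⟩; rw [Scheme.Opens.range_ι]; exact w.2
    let b := IsOpenImmersion.lift U.ι (W.ι ≫ (N t).ι) hrW
    have hb : b ≫ U.ι = W.ι ≫ (N t).ι := IsOpenImmersion.lift_fac _ _ _
    have hW : W.ι ≫ a₁ = W.ι ≫ a₂ := by
      rw [← cancel_mono (V t).ι, Category.assoc, Category.assoc, ha₁, ha₂, ← Category.assoc,
        ← Category.assoc, ← hb, Category.assoc, Category.assoc, hU']
    have hfa : a₁ ≫ (V t).ι ≫ f = a₂ ≫ (V t).ι ≫ f := by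
      rw [← Category.assoc, ← Category.assoc, ha₁, ha₂, Category.assoc, Category.assoc, h]
    have haa : a₁ = a₂ := ext_of_isDominant_of_isSeparated ((V t).ι ≫ f) hfa W.ι hW
    rw [← ha₁, ← ha₂, haa]
  exact Scheme.Cover.hom_ext (T.openCoverOfIsOpenCover N hcov) _ _ hloc

/-- (i) ⟺ (iii) ⟺ (iv'): let f : X → S be a morphism of schemes. Then X is separated over S if and only
if for every reduced scheme T and every two morphisms T → X with the same composite to S which agree
on a dense open subscheme of T are equal; and X is separated over S if and only if every two points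
of X in the same fibre over S lie in a common open subscheme of X which is separated over S. -/
theorem result (X S : Scheme.{u}) (f : X ⟶ S) :
    (IsSeparated f ↔ ∀ (T : Scheme.{u}) [IsReduced T] (g₁ g₂ : T ⟶ X) (U : T.Opens), g₁ ≫ f = g₂ ≫ f →
      Dense (U : Set T) → U.ι ≫ g₁ = U.ι ≫ g₂ → g₁ = g₂) ∧
    (IsSeparated f ↔ ∀ x₁ x₂ : X, f.base x₁ = f.base x₂ →
      ∃ V : X.Opens, x₁ ∈ V ∧ x₂ ∈ V ∧ IsSeparated (V.ι ≫ f)) := by
  refine ⟨⟨fun h => crit_of_isSeparated f, fun h => isSeparated_of_crit f h⟩, ⟨fun h x₁ x₂ _ => ?_,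
    fun h => isSeparated_of_crit f (crit_of_local f h)⟩⟩
  exact ⟨⊤, trivial, trivial, inferInstance⟩

end Groth.Agent.S5333
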