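import Groth.Statements.S5335
import Groth.Agent.Lib.Helper23.DomProd

set_option autoImplicit false
universe u
open CategoryTheory CategoryTheory.Limits MonoidalCategory CartesianMonoidalCategory MonObj GrpObj AlgebraicGeometry
open SGA3

namespace Groth.Agent.S5335

/-- Let A be a local artinian ring and f : X' → X, g : Y' → Y two quasi-compact dominant morphisms of
schemes over A. Then the product morphism f ×_A g : X' ×_A Y' → X ×_A Y is dominant (and
quasi-compact). -/
theorem result (A : Type u) [CommRing A] [IsArtinianRing A] [IsLocalRing A] (X X' Y Y' : Over (Spec (CommRingCat.of A)))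
    (f : X' ⟶ X) (g : Y' ⟶ Y) [QuasiCompact f.left] [QuasiCompact g.left]
    (hf : DenseRange f.left.base) (hg : DenseRange g.left.base) :
    DenseRange (f ⊗ₘ g).left.base ∧ QuasiCompact (f ⊗ₘ g).left := by
  have hX : UniversallyOpen X.hom :=
    Groth.Agent.Helper23.DomProd.universallyOpen_of_local_krullDimLE_zero A X.hom
  have hY' : UniversallyOpen Y'.hom :=
    Groth.Agent.Helper23.DomProd.universallyOpen_of_local_krullDimLE_zero A Y'.hom
  have hdecomp : f ⊗ₘ g = (f ▷ Y') ≫ (X ◁ g) := tensorHom_def f g
  have sq1 : IsPullback (pullback.fst X'.hom Y'.hom) (f ▷ Y').left f.left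
      (pullback.fst X.hom Y'.hom) := by
    refine IsPullback.of_bot (h₃₁ := Y'.hom) (v₂₁ := pullback.snd X.hom Y'.hom) (v₂₂ := X.hom) ?_ ?_
      (IsPullback.of_hasPullback X.hom Y'.hom)
    · have h1 : (f ▷ Y').left ≫ pullback.snd X.hom Y'.hom = pullback.snd X'.hom Y'.hom :=
        Over.whiskerRight_left_snd f
      have h2 : f.left ≫ X.hom = X'.hom := Over.w f
      rw [h1, h2]
      exact IsPullback.of_hasPullback X'.hom Y'.hom
    · exact (Over.whiskerRight_left_fst f).symm
  have sq2 : IsPullback (pullback.snd X.hom Y'.hom) (X ◁ g).left g.left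
      (pullback.snd X.hom Y.hom) := by
    refine IsPullback.flip ?_
    refine IsPullback.of_right (h₁₂ := pullback.fst X.hom Y.hom) (v₁₃ := X.hom) (h₂₂ := Y.hom) ?_ ?_
      (IsPullback.of_hasPullback X.hom Y.hom)
    · have h1 : (X ◁ g).left ≫ pullback.fst X.hom Y.hom = pullback.fst X.hom Y'.hom :=
        Over.whiskerLeft_left_fst g
      have h2 : g.left ≫ Y.hom = Y'.hom := Over.w g
      rw [h1, h2]
      exact IsPullback.of_hasPullback X.hom Y'.hom
    · exact Over.whiskerLeft_left_snd g
  constructor
  · rw [hdecomp, Over.comp_left, Scheme.Hom.comp_base, TopCat.coe_comp]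
    refine DenseRange.comp ?_ ?_ (X ◁ g).left.continuous
    · exact Groth.Agent.Helper23.DomProd.denseRange_of_isPullback sq2 hg
        (pullback.snd X.hom Y.hom).isOpenMap
    · exact Groth.Agent.Helper23.DomProd.denseRange_of_isPullback sq1 hf
        (pullback.fst X.hom Y'.hom).isOpenMap
  · rw [hdecomp, Over.comp_left]
    have h1 : QuasiCompact (f ▷ Y').left := MorphismProperty.of_isPullback sq1 inferInstance
    have h2 : QuasiCompact (X ◁ g).left := MorphismProperty.of_isPullback sq2 inferInstance
    infer_instance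

end Groth.Agent.S5335
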