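import Groth.Statements.S5338
import Mathlib

set_option autoImplicit false
universe u
open CategoryTheory CategoryTheory.Limits MonoidalCategory CartesianMonoidalCategory MonObj GrpObj AlgebraicGeometry
open SGA3

namespace Groth.Agent.S5338

theorem nn' {R M : Type*} [CommRing R] [AddCommGroup M] [Module R M] (K : Ideal R) (k : ℕ)
    (hK : K ^ k = ⊥) (S N : Submodule R M) (h : N ≤ S ⊔ K • N) : N ≤ S := by
  have key : ∀ t : ℕ, N ≤ S ⊔ K ^ t • N := by
    intro t
    induction t with
    | zero =>
      rw [pow_zero, Ideal.one_eq_top, Submodule.top_smul]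
      exact le_sup_right
    | succ t ih =>
      calc N ≤ S ⊔ K ^ t • N := ih
        _ ≤ S ⊔ K ^ t • (S ⊔ K • N) := sup_le_sup_left (Submodule.smul_mono le_rfl h) _
        _ = S ⊔ (K ^ t • S ⊔ K ^ t • K • N) := by rw [Submodule.smul_sup]
        _ ≤ S ⊔ K ^ (t + 1) • N := by
          refine sup_le le_sup_left (sup_le (le_sup_of_le_left Submodule.smul_le_right) ?_)
          rw [pow_succ, Submodule.mul_smul]
          exact le_sup_right
  have h1 := key k
  rwa [hK, Submodule.bot_smul, sup_bot_eq] at h1

theorem ft_of_nilp {B C : Type*} [CommRing B] [CommRing C] [Algebra B C] (J : Ideal B) (k : ℕ)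
    (hJ : J ^ k = ⊥)
    (h : Algebra.FiniteType (B ⧸ J) (C ⧸ J.map (algebraMap B C))) : Algebra.FiniteType B C := by
  classical
  have h1 : Algebra.FiniteType B (B ⧸ J) :=
    Algebra.FiniteType.of_surjective (Ideal.Quotient.mkₐ B J) (Ideal.Quotient.mkₐ_surjective B J)
  have h2 : Algebra.FiniteType B (C ⧸ J.map (algebraMap B C)) := Algebra.FiniteType.trans h1 h
  obtain ⟨T, hT⟩ := h2.out
  have hsurj := Ideal.Quotient.mk_surjective (I := J.map (algebraMap B C))
  choose lift hlift using hsurj
  refine ⟨⟨T.image lift, ?_⟩⟩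
  have hmap : (Algebra.adjoin B ((T.image lift : Finset C) : Set C)).map
      (Ideal.Quotient.mkₐ B (J.map (algebraMap B C))) = ⊤ := by
    rw [AlgHom.map_adjoin, ← hT]
    congr 1
    rw [Finset.coe_image, Set.image_image]
    have h3 : (fun x => (Ideal.Quotient.mkₐ B (J.map (algebraMap B C))) (lift x)) = id :=
      funext hlift
    rw [h3, Set.image_id]
  have hle : (⊤ : Submodule B C) ≤
      Subalgebra.toSubmodule (Algebra.adjoin B ((T.image lift : Finset C) : Set C)) ⊔
        J • (⊤ : Submodule B C) := by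
    intro c _
    have h4 : Ideal.Quotient.mkₐ B (J.map (algebraMap B C)) c ∈
        (Algebra.adjoin B ((T.image lift : Finset C) : Set C)).map
          (Ideal.Quotient.mkₐ B (J.map (algebraMap B C))) := by
      rw [hmap]
      exact Algebra.mem_top
    obtain ⟨c', hc', hcc'⟩ := h4
    have h5 : c - c' ∈ J.map (algebraMap B C) := by
      rw [← Ideal.Quotient.eq_zero_iff_mem, map_sub, sub_eq_zero]
      exact hcc'.symm
    have h6 : c - c' ∈ J • (⊤ : Submodule B C) := by
      rw [Ideal.smul_top_eq_map]
      exact h5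
    have h7 : c = c' + (c - c') := by ring
    rw [h7]
    exact Submodule.add_mem _ (Submodule.mem_sup_left hc') (Submodule.mem_sup_right h6)
  have h8 := nn' J k hJ _ _ hle
  rw [eq_top_iff]
  intro c _
  exact h8 (Submodule.mem_top : c ∈ (⊤ : Submodule B C))

theorem fp_of_nilp {A B C : Type u} [CommRing A] [CommRing B] [CommRing C] [Algebra A B]
    [Algebra B C] [Algebra A C] [IsScalarTower A B C]
    (n : Ideal A) (k : ℕ) (hn : n ^ k = ⊥) [Module.Flat A C]
    (hft : Algebra.FiniteType B C)
    (h : Algebra.FinitePresentation (B ⧸ n.map (algebraMap A B))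
      (C ⧸ (n.map (algebraMap A B)).map (algebraMap B C))) :
    Algebra.FinitePresentation B C := by
  classical
  obtain ⟨m, π, hπ⟩ := Algebra.FiniteType.iff_quotient_mvPolynomial''.mp hft
  -- notation
  have hJP : (n.map (algebraMap A B)).map (algebraMap B (MvPolynomial (Fin m) B)) =
      n.map (algebraMap A (MvPolynomial (Fin m) B)) := by
    rw [Ideal.map_map, ← IsScalarTower.algebraMap_eq]
  have hπsmul : ∀ (a : A) (p : MvPolynomial (Fin m) B), π (a • p) = a • π p := by
    intro a p
    rw [← IsScalarTower.algebraMap_smul B a p, map_smul, IsScalarTower.algebraMap_smul]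
  -- flatness claim
  have claimC : ∀ x : MvPolynomial (Fin m) B, π x = 0 →
      x ∈ n.map (algebraMap A (MvPolynomial (Fin m) B)) →
      x ∈ n.map (algebraMap A (MvPolynomial (Fin m) B)) * RingHom.ker π.toRingHom := by
    intro x hx0 hxn
    rw [Ideal.map, Ideal.span, Finsupp.mem_span_image_iff_linearCombination] at hxn
    obtain ⟨l, hl, hlx⟩ := hxn
    have hsupp : ∀ i : l.support, (i : A) ∈ n := fun i => (Finsupp.mem_supported _ l).mp hl i.2
    have hx_sum : x = ∑ i : l.support, (i : A) • l i := by
      rw [← hlx, Finsupp.linearCombination_apply, Finsupp.sum,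
        ← Finset.sum_coe_sort l.support (fun a => l a • algebraMap A (MvPolynomial (Fin m) B) a)]
      refine Finset.sum_congr rfl fun i _ => ?_
      rw [smul_eq_mul, Algebra.smul_def, mul_comm]
    have hrel : ∑ i : l.support, (i : A) • π (l i) = 0 := by
      rw [← hx0, hx_sum, map_sum]
      exact Finset.sum_congr rfl fun i _ => (hπsmul _ _).symm
    obtain ⟨kk, b, y, hxy, hfb⟩ := Module.Flat.isTrivialRelation_of_sum_smul_eq_zero (R := A) (M := C)
      (f := fun i : l.support => (i : A)) (x := fun i : l.support => π (l i)) hrel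
    have hxy' : ∀ i : l.support, π (l i) = ∑ j, b i j • y j := hxy
    have hfb' : ∀ j, ∑ i : l.support, (i : A) * b i j = 0 := hfb
    choose q hq using (fun j => hπ (y j))
    have hu : ∀ i : l.support, l i - ∑ j, b i j • q j ∈ RingHom.ker π.toRingHom := by
      intro i
      rw [RingHom.mem_ker]
      show π (l i - ∑ j, b i j • q j) = 0
      rw [map_sub, map_sum, hxy' i, sub_eq_zero]
      refine Finset.sum_congr rfl fun j _ => ?_
      rw [hπsmul, hq]
    have hzero : ∑ i : l.support, (i : A) • ∑ j, b i j • q j = 0 := by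
      simp_rw [Finset.smul_sum, smul_smul]
      rw [Finset.sum_comm]
      refine Finset.sum_eq_zero fun j _ => ?_
      rw [← Finset.sum_smul, hfb' j, zero_smul]
    have hx2 : x = ∑ i : l.support, (i : A) • (l i - ∑ j, b i j • q j) := by
      simp_rw [smul_sub]
      rw [Finset.sum_sub_distrib, hzero, sub_zero]
      exact hx_sum
    rw [hx2]
    refine Ideal.sum_mem _ fun i _ => ?_
    rw [Algebra.smul_def]
    exact Ideal.mul_mem_mul (Ideal.mem_map_of_mem _ (hsupp i)) (hu i)
  -- reduction mod J
  let πbar : MvPolynomial (Fin m) (B ⧸ n.map (algebraMap A B)) →ₐ[B ⧸ n.map (algebraMap A B)]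
      (C ⧸ (n.map (algebraMap A B)).map (algebraMap B C)) :=
    MvPolynomial.aeval (fun i => Ideal.Quotient.mk _ (π (MvPolynomial.X i)))
  let ρ : MvPolynomial (Fin m) B →+* MvPolynomial (Fin m) (B ⧸ n.map (algebraMap A B)) :=
    MvPolynomial.map (Ideal.Quotient.mk (n.map (algebraMap A B)))
  have hρ : Function.Surjective ρ := MvPolynomial.map_surjective _ Ideal.Quotient.mk_surjective
  have hkerρ : RingHom.ker ρ = n.map (algebraMap A (MvPolynomial (Fin m) B)) := by
    rw [← hJP]
    show RingHom.ker (MvPolynomial.map (Ideal.Quotient.mk (n.map (algebraMap A B)))) = _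
    rw [MvPolynomial.ker_map, Ideal.mk_ker]
    rfl
  have hcomm : ∀ p : MvPolynomial (Fin m) B, πbar (ρ p) = Ideal.Quotient.mk _ (π p) := by
    intro p
    induction p using MvPolynomial.induction_on with
    | C b =>
      show πbar (MvPolynomial.map _ (MvPolynomial.C b)) = _
      rw [MvPolynomial.map_C, MvPolynomial.aeval_C]
      have h1 : π (MvPolynomial.C b) = algebraMap B C b := π.commutes b
      rw [h1]
      rfl
    | add p q hp hq => rw [map_add, map_add, map_add, map_add, hp, hq]
    | mul_X p i hp =>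
      rw [map_mul, map_mul, map_mul, map_mul, hp]
      congr 1
      show πbar (MvPolynomial.map _ (MvPolynomial.X i)) = _
      rw [MvPolynomial.map_X, MvPolynomial.aeval_X]
  have hπbar : Function.Surjective πbar := by
    intro cbar
    obtain ⟨c, rfl⟩ := Ideal.Quotient.mk_surjective cbar
    obtain ⟨p, rfl⟩ := hπ c
    exact ⟨ρ p, hcomm p⟩
  haveI := h
  have hK : (RingHom.ker πbar.toRingHom).FG :=
    Algebra.FinitePresentation.ker_fG_of_surjective πbar hπbar
  obtain ⟨Gs, hGs⟩ := hK
  -- claim A
  have claimA : ∀ qq : MvPolynomial (Fin m) (B ⧸ n.map (algebraMap A B)),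
      ∃ g : MvPolynomial (Fin m) B, qq ∈ RingHom.ker πbar.toRingHom →
        g ∈ RingHom.ker π.toRingHom ∧ ρ g = qq := by
    intro qq
    by_cases hqq : qq ∈ RingHom.ker πbar.toRingHom
    · obtain ⟨p, rfl⟩ := hρ qq
      have h1 : Ideal.Quotient.mk ((n.map (algebraMap A B)).map (algebraMap B C)) (π p) = 0 := by
        rw [← hcomm]
        exact hqq
      rw [Ideal.Quotient.eq_zero_iff_mem] at h1
      have h2 : ((n.map (algebraMap A B)).map (algebraMap B (MvPolynomial (Fin m) B))).map
          π.toRingHom = (n.map (algebraMap A B)).map (algebraMap B C) := by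
        rw [Ideal.map_map]
        congr 1
        exact π.comp_algebraMap
      rw [← h2, Ideal.mem_map_iff_of_surjective π.toRingHom hπ] at h1
      obtain ⟨p₁, hp₁, hp₁π⟩ := h1
      refine ⟨p - p₁, fun _ => ⟨?_, ?_⟩⟩
      · rw [RingHom.mem_ker]
        show π.toRingHom (p - p₁) = 0
        rw [map_sub, hp₁π, sub_eq_zero]
        rfl
      · rw [map_sub]
        have h3 : ρ p₁ = 0 := by
          rw [← RingHom.mem_ker, hkerρ, ← hJP]
          exact hp₁
        rw [h3, sub_zero]
    · exact ⟨0, fun h => absurd h hqq⟩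
  choose gl hgl using claimA
  have hGsmem : ∀ qq ∈ Gs, qq ∈ RingHom.ker πbar.toRingHom := by
    intro qq hqq
    rw [← hGs]
    exact Ideal.subset_span hqq
  let I₀ : Ideal (MvPolynomial (Fin m) B) := Ideal.span ((Gs.image gl : Finset _) : Set _)
  have hI₀le : I₀ ≤ RingHom.ker π.toRingHom := by
    rw [Ideal.span_le]
    intro g hg
    rw [Finset.mem_coe, Finset.mem_image] at hg
    obtain ⟨qq, hqq, rfl⟩ := hg
    exact (hgl qq (hGsmem qq hqq)).1
  have hI₀map : I₀.map ρ = RingHom.ker πbar.toRingHom := by
    rw [Ideal.map_span, ← hGs]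
    congr 1
    rw [Finset.coe_image, Set.image_image]
    apply Set.ext
    intro qq
    constructor
    · rintro ⟨q', hq', rfl⟩
      show ρ (gl q') ∈ _
      rw [(hgl q' (hGsmem q' hq')).2]
      exact hq'
    · intro hqq
      exact ⟨qq, hqq, (hgl qq (hGsmem qq hqq)).2⟩
  -- claim B
  have claimB : RingHom.ker π.toRingHom ≤
      I₀ ⊔ n.map (algebraMap A (MvPolynomial (Fin m) B)) • RingHom.ker π.toRingHom := by
    intro x hx
    have hx0 : π x = 0 := hx
    have h1 : ρ x ∈ I₀.map ρ := by
      rw [hI₀map, RingHom.mem_ker]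
      show πbar (ρ x) = 0
      rw [hcomm, hx0, map_zero]
    rw [Ideal.mem_map_iff_of_surjective ρ hρ] at h1
    obtain ⟨x₀, hx₀, hx₀x⟩ := h1
    have h2 : x - x₀ ∈ n.map (algebraMap A (MvPolynomial (Fin m) B)) := by
      rw [← hkerρ, RingHom.mem_ker, map_sub, hx₀x, sub_self]
    have h3 : π (x - x₀) = 0 := by
      rw [map_sub, hx0, zero_sub, neg_eq_zero]
      exact hI₀le hx₀
    have h4 := claimC (x - x₀) h3 h2
    have h5 : x = x₀ + (x - x₀) := by ring
    rw [h5]
    exact Submodule.add_mem _ (Submodule.mem_sup_left hx₀) (Submodule.mem_sup_right h4)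
  have hnilp : (n.map (algebraMap A (MvPolynomial (Fin m) B))) ^ k = ⊥ := by
    rw [← Ideal.map_pow, hn, Ideal.map_bot]
  have hle := nn' _ k hnilp I₀ (RingHom.ker π.toRingHom) claimB
  have hIeq : RingHom.ker π.toRingHom = I₀ := le_antisymm hle hI₀le
  have hIfg : (RingHom.ker π.toRingHom).FG := by
    rw [hIeq]
    exact ⟨Gs.image gl, rfl⟩
  exact Algebra.FinitePresentation.of_surjective hπ hIfg


/-- Let A → B → C be homomorphisms of commutative rings and n a nilpotent ideal of A; write nB and nC
for the extended ideals. (i) If C/nC is a (B/nB)-algebra of finite type, then C is a B-algebra of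
finite type. (ii) If moreover C is flat over A and C/nC is a (B/nB)-algebra of finite presentation,
then C is a B-algebra of finite presentation. -/
theorem result (A B C : Type u) [CommRing A] [CommRing B] [CommRing C]
    [Algebra A B] [Algebra B C] [Algebra A C] [IsScalarTower A B C] (n : Ideal A) (hn : IsNilpotent n) :
    (Algebra.FiniteType (B ⧸ n.map (algebraMap A B)) (C ⧸ (n.map (algebraMap A B)).map (algebraMap B C)) →
      Algebra.FiniteType B C) ∧
    (Module.Flat A C →
      Algebra.FinitePresentation (B ⧸ n.map (algebraMap A B)) (C ⧸ (n.map (algebraMap A B)).map (algebraMap B C)) →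
      Algebra.FinitePresentation B C) := by
  obtain ⟨k, hk⟩ := hn
  have hk' : n ^ k = ⊥ := hk
  have hJ : (n.map (algebraMap A B)) ^ k = ⊥ := by
    rw [← Ideal.map_pow, hk', Ideal.map_bot]
  refine ⟨fun h => ft_of_nilp _ k hJ h, fun hflat hfp => ?_⟩
  haveI := hflat
  haveI := hfp
  have hft : Algebra.FiniteType B C := ft_of_nilp _ k hJ inferInstance
  exact fp_of_nilp n k hk' hft hfp

end Groth.Agent.S5338
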