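import Groth.Statements.S5341
import Groth.Agent.Lib.Helper12.GrpDim
import Groth.Agent.Lib.Helper14.MaxPoints

set_option autoImplicit false
universe u
open CategoryTheory CategoryTheory.Limits MonoidalCategory CartesianMonoidalCategory MonObj GrpObj AlgebraicGeometry
open SGA3

namespace Groth.Agent.S5341

/-- Let G be a group scheme locally of finite type over a field k. Then (i) every irreducible component
of G has the same dimension as G; (ii) for every point g of G the local dimension of G at g (the
infimum of the dimensions of the open neighbourhoods of g) equals dim G. -/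
theorem result (k : Type u) [Field k] (G : Over (Spec (CommRingCat.of k))) [GrpObj G]
    [LocallyOfFiniteType G.hom] :
    (∀ Z ∈ irreducibleComponents ↥G.left, topologicalKrullDim ↥Z = topologicalKrullDim ↥G.left) ∧
    (∀ g : G.left, FlatMor.localDim ↥G.left g = topologicalKrullDim ↥G.left) := by
  haveI : IsLocallyNoetherian G.left := LocallyOfFiniteType.isLocallyNoetherian G.hom
  refine ⟨fun Z hZ => ?_, fun g => Groth.Agent.Helper12.GrpDim.localDim_eq_dim G g⟩
  apply le_antisymm (topologicalKrullDim_subspace_le _ Z)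
  have hZc : IsClosed Z := isClosed_of_mem_irreducibleComponents Z hZ
  obtain ⟨ξ, hξ⟩ := QuasiSober.sober hZ.1 hZc
  have hmax : ∀ ξ' : G.left, ξ' ⤳ ξ → ξ' = ξ := by
    intro ξ' h
    have h1 : IsIrreducible (closure ({ξ'} : Set G.left)) := isIrreducible_singleton.closure
    have h2 : Z ⊆ closure ({ξ'} : Set G.left) := by
      rw [← hξ.def]
      exact closure_minimal (Set.singleton_subset_iff.mpr h.mem_closure) isClosed_closure
    have h3 := hZ.2 h1 h2
    have h4 : ξ' ∈ Z := h3 (subset_closure rfl)
    have h5 : ξ ⤳ ξ' := hξ.specializes h4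
    exact (h.antisymm h5).eq
  obtain ⟨U, hξU, hU⟩ := Groth.Agent.Helper14.MaxPoints.exists_open_maximal_specializes ξ
  have hUZ : (U : Set G.left) ⊆ Z := by
    intro y hy
    obtain ⟨ξ', hξ'max, hξ'y⟩ := Groth.Agent.Helper14.MaxPoints.exists_maximal_specializes y
    have hξ'U : ξ' ∈ U := hξ'y.mem_open U.2 hy
    have h1 := hU ξ' hξ'U hξ'max
    have h2 : ξ' = ξ := hmax ξ' h1
    rw [h2] at hξ'y
    rw [← hξ.def]
    exact hξ'y.mem_closure
  have h1 : FlatMor.localDim G.left ξ ≤ topologicalKrullDim (U : Set G.left) := by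
    unfold FlatMor.localDim
    exact iInf_le _ (⟨U, hξU⟩ : {U : TopologicalSpace.Opens G.left // ξ ∈ U})
  rw [Groth.Agent.Helper12.GrpDim.localDim_eq_dim G ξ] at h1
  refine h1.trans ?_
  have hind : Topology.IsInducing (Set.inclusion hUZ) :=
    (Topology.IsEmbedding.inclusion hUZ).isInducing
  exact hind.topologicalKrullDim_le

end Groth.Agent.S5341
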