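import Groth.Statements.S5342
import Groth.Agent.S2502

set_option autoImplicit false
universe u
open CategoryTheory CategoryTheory.Limits MonoidalCategory CartesianMonoidalCategory MonObj GrpObj AlgebraicGeometry
open SGA3

namespace Groth.Agent.S5342

/-- Let X and Y be connected schemes over a field k such that X has a k-rational point (a section of X →
Spec k). Then X ×_k Y is connected. -/
theorem result (k : Type u) [Field k] (X Y : Scheme.{u})
    (f : X ⟶ Spec (CommRingCat.of k)) (g : Y ⟶ Spec (CommRingCat.of k)) [ConnectedSpace X] [ConnectedSpace Y]
    (x : Spec (CommRingCat.of k) ⟶ X) (hx : x ≫ f = 𝟙 _) : ConnectedSpace ↥(pullback f g) := by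
  haveI : GeometricallyConnected (𝟙 (Spec (CommRingCat.of k))) := by
    refine ⟨geometrically_iff_of_isClosedUnderIsomorphisms.mpr fun K _ y => ?_⟩
    exact (Limits.pullback.snd (𝟙 (Spec (CommRingCat.of k))) y).homeomorph.connectedSpace_iff.mpr
      inferInstance
  haveI : GeometricallyConnected (x ≫ f) := by rw [hx]; infer_instance
  haveI : GeometricallyConnected f := Groth.Agent.S2502.result x f
  haveI : UniversallyOpen f := inferInstance
  infer_instance

end Groth.Agent.S5342
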