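import Groth.Statements.S5343
import Mathlib.RingTheory.Ideal.IdempotentFG

set_option autoImplicit false
universe u
open CategoryTheory CategoryTheory.Limits MonoidalCategory CartesianMonoidalCategory MonObj GrpObj AlgebraicGeometry
open SGA3

namespace Groth.Agent.S5343

/-- Let R be a commutative ring and B a commutative R-algebra which is projective as an R-module. Then
the image of Spec B → Spec R is an open and closed subset of Spec R. (The published statement
concerns a quasi-coherent algebra on any scheme which is a direct summand of a free module; this row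
is the affine case.) -/
theorem result (R B : Type u) [CommRing R] [CommRing B] [Algebra R B] [Module.Projective R B] :
    IsClopen (Set.range (PrimeSpectrum.comap (algebraMap R B))) := by
  classical
  obtain ⟨s, hs⟩ := Module.projective_def'.mp (inferInstance : Module.Projective R B)
  set r : B →₀ R := s 1 with hr
  set J : Ideal R := Ideal.span (↑(r.support.image r) : Set R) with hJ
  have hJfg : J.FG := ⟨_, rfl⟩
  have hrJ : ∀ b : B, r b ∈ J := by
    intro b
    by_cases hb : b ∈ r.support
    · exact Ideal.subset_span (Finset.mem_coe.mpr (Finset.mem_image_of_mem r hb))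
    · rw [Finsupp.notMem_support_iff.mp hb]; exact J.zero_mem
  -- the expansion of `1`
  have hone : (1 : B) = ∑ b ∈ r.support, r b • b := by
    have h1 := LinearMap.congr_fun hs (1 : B)
    rw [LinearMap.comp_apply, LinearMap.id_apply, ← hr, Finsupp.linearCombination_apply,
      Finsupp.sum] at h1
    simpa using h1.symm
  -- coordinates of elements of `I • ⊤` lie in `I`
  have hcoord : ∀ (I : Ideal R) (x : B), x ∈ I • (⊤ : Submodule R B) → ∀ b : B, s x b ∈ I := by
    intro I x hx
    refine Submodule.smul_induction_on hx ?_ ?_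
    · intro a ha y _ b
      rw [map_smul, Finsupp.smul_apply, smul_eq_mul]
      exact I.mul_mem_right _ ha
    · intro x y hx hy b
      rw [map_add, Finsupp.add_apply]
      exact I.add_mem (hx b) (hy b)
  -- `J` is idempotent
  have hJJ : IsIdempotentElem J := by
    refine le_antisymm Ideal.mul_le_right ?_
    rw [hJ, Ideal.span_le]
    intro x hx
    rw [Finset.mem_coe, Finset.mem_image] at hx
    obtain ⟨b₀, -, rfl⟩ := hx
    apply hcoord (J * J) 1 _ b₀
    have h2 : (1 : B) = (∑ b ∈ r.support, r b • b) * (∑ b ∈ r.support, r b • b) := by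
      rw [← hone, _root_.one_mul]
    rw [h2, Finset.sum_mul_sum]
    refine Submodule.sum_mem _ (fun b _ => Submodule.sum_mem _ (fun b' _ => ?_))
    rw [smul_mul_smul_comm]
    exact Submodule.smul_mem_smul (Ideal.mul_mem_mul (hrJ b) (hrJ b')) Submodule.mem_top
  obtain ⟨e, he, hJe⟩ := (Ideal.isIdempotentElem_iff_of_fg J hJfg).mp hJJ
  rw [PrimeSpectrum.isClopen_iff]
  refine ⟨e, he, ?_⟩
  ext p
  rw [SetLike.mem_coe, PrimeSpectrum.mem_basicOpen]
  have hep : e ∉ p.asIdeal ↔ ¬ J ≤ p.asIdeal := by
    rw [hJe, Ideal.submodule_span_eq, Ideal.span_singleton_le_iff_mem]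
  rw [hep]
  constructor
  · rintro ⟨q, rfl⟩ hle
    apply q.2.ne_top
    rw [Ideal.eq_top_iff_one, hone]
    refine Ideal.sum_mem _ (fun b _ => ?_)
    rw [Algebra.smul_def]
    exact Ideal.mul_mem_right _ _ (hle (hrJ b))
  · intro hnle
    obtain ⟨x, hxJ, hxp⟩ := Set.not_subset.mp hnle
    have hb₀ : ∃ b₀ : B, r b₀ ∉ p.asIdeal := by
      by_contra hcon
      push Not at hcon
      apply hxp
      have : J ≤ p.asIdeal := by
        rw [hJ, Ideal.span_le]
        intro y hy
        rw [Finset.mem_coe, Finset.mem_image] at hy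
        obtain ⟨b, -, rfl⟩ := hy
        exact hcon b
      exact this hxJ
    obtain ⟨b₀, hb₀⟩ := hb₀
    have hcm : (p.asIdeal.map (algebraMap R B)).comap (algebraMap R B) = p.asIdeal := by
      refine le_antisymm ?_ Ideal.le_comap_map
      intro y hy
      rw [Ideal.mem_comap] at hy
      have hy' : algebraMap R B y ∈ p.asIdeal • (⊤ : Submodule R B) := by
        rw [Ideal.smul_top_eq_map]
        exact hy
      have h3 := hcoord p.asIdeal _ hy' b₀
      rw [Algebra.algebraMap_eq_smul_one, map_smul, Finsupp.smul_apply, smul_eq_mul] at h3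
      exact (p.2.mem_or_mem h3).resolve_right hb₀
    obtain ⟨q, hq, hqp⟩ := (Ideal.comap_map_eq_self_iff_of_isPrime p.asIdeal).mp hcm
    exact ⟨⟨q, hq⟩, PrimeSpectrum.ext hqp⟩

end Groth.Agent.S5343
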