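import Groth.Statements.S5350
import Groth.Agent.Lib.Helper4.Homog6

set_option autoImplicit false
universe u
open CategoryTheory CategoryTheory.Limits MonoidalCategory CartesianMonoidalCategory MonObj GrpObj AlgebraicGeometry
open SGA3

namespace Groth.Agent.S5350

/-- Let G be a group scheme over a field k (not assumed of finite type) acting on a k-scheme X so that G
×_k X → X ×_k X, (g, x) ↦ (gx, x), is surjective; let C⁰ be an irreducible component of G containing
the unit point and U an open subset of X. Let C⁰·U be the image under the action of the set of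
points of G ×_k X whose projections lie in C⁰ and in U. Then (i) C⁰·U is open in X and equals the
union of the irreducible components of X whose generic point lies in U; (ii) if U is retrocompact in
X then C⁰·U is the closure of U (so is open and closed). -/
theorem result (k : Type u) [Field k] (G X : Over (Spec (CommRingCat.of k))) [GrpObj G] (a : AlgGrp.Action G X) (hΦ : Surjective (lift a.act (snd G X)).left)
    (pt : ↥(𝟙_ (Over (Spec (CommRingCat.of k)))).left) (C0 : Set G.left) (hC0 : C0 ∈ irreducibleComponents ↥G.left)
    (he : η[G].left.base pt ∈ C0) (U : X.left.Opens) :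
    letI V : Set X.left := a.act.left.base '' {z : ↥(G ⊗ X).left | (fst G X).left.base z ∈ C0 ∧ (snd G X).left.base z ∈ U}
    IsOpen V ∧ V = ⋃₀ {Z : Set X.left | Z ∈ irreducibleComponents ↥X.left ∧ ∃ ξ ∈ U, closure {ξ} = Z} ∧
    (IsRetrocompact (U : Set X.left) → V = closure (U : Set X.left)) := by
  have hpt : pt = IsLocalRing.closedPoint k := Subsingleton.elim (α := PrimeSpectrum k) _ _
  have he' : Groth.Agent.Helper4.GrpConn.ept G ∈ C0 := by
    rw [hpt] at he
    exact he
  have hC0eq : C0 = irreducibleComponent (Groth.Agent.Helper4.GrpConn.ept G) :=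
    Groth.Agent.Helper16.GrpIrr.irreducibleComponent_unit_unique G _ _ hC0
      (irreducibleComponent_mem_irreducibleComponents _) he' mem_irreducibleComponent
  subst hC0eq
  have hV : a.act.left.base '' {z : ↥(G ⊗ X).left | (fst G X).left.base z ∈
        irreducibleComponent (Groth.Agent.Helper4.GrpConn.ept G) ∧ (snd G X).left.base z ∈ U} =
      a.act.left '' ((fst G X).left ⁻¹' irreducibleComponent (Groth.Agent.Helper4.GrpConn.ept G) ∩
        (snd G X).left ⁻¹' (U : Set X.left)) := rfl
  show IsOpen (a.act.left.base '' _) ∧ a.act.left.base '' _ = _ ∧ (_ → a.act.left.base '' _ = _)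
  rw [hV]
  refine ⟨?_, ?_, ?_⟩
  · exact Groth.Agent.Helper4.Homog.isOpen_act a _ isClosed_irreducibleComponent _ U.isOpen
  · exact Groth.Agent.Helper4.Homog.unit_act_eq_sUnion a hΦ U
  · intro hU
    exact Groth.Agent.Helper4.Homog.unit_act_eq_closure a hΦ U hU

end Groth.Agent.S5350
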