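import Groth.Statements.S5357
import Groth.Agent.S18816
import Groth.Agent.Lib.Helper12.GrpSchSep

set_option autoImplicit false
universe u
open CategoryTheory CategoryTheory.Limits MonoidalCategory CartesianMonoidalCategory MonObj GrpObj AlgebraicGeometry
open SGA3

namespace Groth.Agent.S5357

/-- Let G be a group scheme over a field k, X a k-scheme and u, v : X → G two morphisms of k-schemes.
Then the transporter of u into v, the subfunctor of G whose points with values in S' are the g such
that g u(x) g⁻¹ = v(x) for every S'' → S' and every point x of X with values in S'', is represented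
by a closed subscheme of G. (For u = v this says that the centralizer of u is represented by a
closed subscheme of G; that it is a subgroup scheme is not stated here.) -/
theorem result (k : Type u) [Field k] (G X : Over (Spec (CommRingCat.of k))) [GrpObj G]
    (u v : X ⟶ G) :
    ∃ (T : Over (Spec (CommRingCat.of k))) (t : T ⟶ G), IsClosedImmersion t.left ∧
      ∀ (S' : Over (Spec (CommRingCat.of k))) (g : S' ⟶ G), (∃ z : S' ⟶ T, z ≫ t = g) ↔
        ∀ (S'' : Over (Spec (CommRingCat.of k))) (s : S'' ⟶ S') (x : S'' ⟶ X), (s ≫ g) * (x ≫ u) * (s ≫ g)⁻¹ = x ≫ v := by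
  haveI : IsSeparated G.hom := Groth.Agent.Helper12.isSeparated_of_grpObj G
  let a : X ⊗ G ⟶ G := snd X G * (snd X G * (fst X G ≫ u) * (snd X G)⁻¹)⁻¹ * (fst X G ≫ v)
  obtain ⟨Z, j, hj, hfix, hlift⟩ := Groth.Agent.S18816.result k G X a
  have key : ∀ (S' : Over (Spec (CommRingCat.of k))) (g : S' ⟶ G),
      ((X ◁ g) ≫ a = snd X S' ≫ g) ↔
        (snd X S' ≫ g) * (fst X S' ≫ u) * (snd X S' ≫ g)⁻¹ = fst X S' ≫ v := by
    intro S' g
    have e : (X ◁ g) ≫ a = (snd X S' ≫ g) *
        ((snd X S' ≫ g) * (fst X S' ≫ u) * (snd X S' ≫ g)⁻¹)⁻¹ * (fst X S' ≫ v) := by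
      simp only [a, MonObj.comp_mul, GrpObj.comp_inv, whiskerLeft_snd, whiskerLeft_fst_assoc]
    rw [e, _root_.mul_assoc, mul_eq_left, inv_mul_eq_one]
  have key2 : ∀ (S' : Over (Spec (CommRingCat.of k))) (g : S' ⟶ G),
      ((snd X S' ≫ g) * (fst X S' ≫ u) * (snd X S' ≫ g)⁻¹ = fst X S' ≫ v) ↔
        ∀ (S'' : Over (Spec (CommRingCat.of k))) (s : S'' ⟶ S') (x : S'' ⟶ X),
          (s ≫ g) * (x ≫ u) * (s ≫ g)⁻¹ = x ≫ v := by
    intro S' g
    constructor
    · intro h S'' s x
      have := congrArg (fun f => lift x s ≫ f) h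
      simpa only [MonObj.comp_mul, GrpObj.comp_inv, lift_snd_assoc, lift_fst_assoc] using this
    · intro h
      exact h _ (snd X S') (fst X S')
  refine ⟨Z, j, hj, ?_⟩
  intro S' g
  rw [← key2, ← key]
  constructor
  · rintro ⟨z, rfl⟩
    rw [MonoidalCategory.whiskerLeft_comp, Category.assoc, hfix, ← Category.assoc, whiskerLeft_snd,
      Category.assoc]
  · intro h
    exact hlift S' g h

end Groth.Agent.S5357
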