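import Groth.Statements.S5363
import Groth.Agent.Lib.Helper18.Transp2

set_option autoImplicit false
universe u
open CategoryTheory CategoryTheory.Limits MonoidalCategory CartesianMonoidalCategory MonObj GrpObj AlgebraicGeometry
open SGA3

namespace Groth.Agent.S5363

/-- Let G be a group scheme over a field k and g a k-rational point of G. Then the smallest closed
subgroup scheme Γ of G through which g factors (the closed subgroup generated by g) is commutative. -/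
theorem result (k : Type u) [Field k] (G : Over (Spec (CommRingCat.of k))) [GrpObj G]
    (g : 𝟙_ (Over (Spec (CommRingCat.of k))) ⟶ G) (Γ : Over (Spec (CommRingCat.of k))) [GrpObj Γ] (i : Γ ⟶ G) [IsMonHom i] [IsClosedImmersion i.left]
    (hf : ∃ f' : 𝟙_ (Over (Spec (CommRingCat.of k))) ⟶ Γ, f' ≫ i = g)
    (hmin : ∀ (Γ' : Over (Spec (CommRingCat.of k))) (_ : GrpObj Γ') (i' : Γ' ⟶ G), IsMonHom i' → IsClosedImmersion i'.left →
        (∃ f'' : 𝟙_ (Over (Spec (CommRingCat.of k))) ⟶ Γ', f'' ≫ i' = g) → ∃ j : Γ ⟶ Γ', j ≫ i' = i) :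
    IsCommMonObj Γ := by
  obtain ⟨C₁, inst₁, c₁, hmon₁, hcl₁, hC₁⟩ := Groth.Agent.Helper18.Transp.centralizer_closed g
  have h1 : ∃ f'' : 𝟙_ (Over (Spec (CommRingCat.of k))) ⟶ C₁, f'' ≫ c₁ = g := by
    rw [hC₁]
    intro T' s x
    rw [toUnit_unique s x]
  obtain ⟨j₁, hj₁⟩ := hmin C₁ inst₁ c₁ hmon₁ hcl₁ h1
  have star : ∀ (T' : Over (Spec (CommRingCat.of k))) (s : T' ⟶ Γ)
      (x : T' ⟶ 𝟙_ (Over (Spec (CommRingCat.of k)))),
      (s ≫ i) * (x ≫ g) = (x ≫ g) * (s ≫ i) := (hC₁ Γ i).mp ⟨j₁, hj₁⟩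
  obtain ⟨C₂, inst₂, c₂, hmon₂, hcl₂, hC₂⟩ := Groth.Agent.Helper18.Transp.centralizer_closed i
  have h2 : ∃ f'' : 𝟙_ (Over (Spec (CommRingCat.of k))) ⟶ C₂, f'' ≫ c₂ = g := by
    rw [hC₂]
    intro T' s x
    exact (star T' x s).symm
  obtain ⟨j₂, hj₂⟩ := hmin C₂ inst₂ c₂ hmon₂ hcl₂ h2
  have comm : ∀ (T' : Over (Spec (CommRingCat.of k))) (s x : T' ⟶ Γ),
      (s ≫ i) * (x ≫ i) = (x ≫ i) * (s ≫ i) := (hC₂ Γ i).mp ⟨j₂, hj₂⟩
  haveI : Mono i := Groth.Agent.Helper18.Transp.mono_of_closed i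
  constructor
  have e1 : μ[Γ] = fst Γ Γ * snd Γ Γ := by
    rw [Hom.mul_def]
    have : lift (fst Γ Γ) (snd Γ Γ) = 𝟙 _ := by
      apply CartesianMonoidalCategory.hom_ext <;> simp
    rw [this, Category.id_comp]
  have e2 : (β_ Γ Γ).hom ≫ μ[Γ] = snd Γ Γ * fst Γ Γ := by
    rw [Hom.mul_def]
    congr 1
  rw [e2, e1, ← cancel_mono i, MonObj.mul_comp, MonObj.mul_comp]
  exact comm _ _ _

end Groth.Agent.S5363
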