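import Groth.Statements.S5373
import Groth.Agent.Lib.Helper12.DiagDesc

set_option autoImplicit false
universe u
open CategoryTheory CategoryTheory.Limits MonoidalCategory CartesianMonoidalCategory MonObj GrpObj AlgebraicGeometry
open SGA3

namespace Groth.Agent.S5373

/-- Let p : X → Y be a morphism of S-schemes and v : X ×_Y X → X ×_S X the canonical monomorphism (the
graph of the effective equivalence relation defined by p). Then (i) v is an immersion, and a closed
immersion if Y is separated over S; (ii) if p is covering for the fpqc topology (some Z → Y which is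
flat, surjective, with every affine open of Y the image of a quasi-compact open of Z, factors
through p), so that Y represents the quotient sheaf of X by this equivalence relation, and v is a
closed immersion, then Y is separated over S. -/
theorem result (S : Scheme.{u}) (X Y : Over S) (p : X ⟶ Y) :
    letI v : (pullback p p) ⟶ X ⊗ X := lift (pullback.fst p p) (pullback.snd p p)
    IsImmersion v.left ∧ (IsSeparated Y.hom → IsClosedImmersion v.left) ∧
    ((∃ (Z : Scheme.{u}) (q : Z ⟶ Y.left) (r : Z ⟶ X.left), r ≫ p.left = q ∧ Surjective q ∧ Flat q ∧
        ∀ V : Y.left.Opens, IsAffineOpen V → ∃ W : Z.Opens, IsCompact (W : Set Z) ∧ q.base '' (W : Set Z) = (V : Set Y.left)) →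
      IsClosedImmersion v.left → IsSeparated Y.hom) := by
  set v : (Limits.pullback p p) ⟶ X ⊗ X := lift (Limits.pullback.fst p p) (Limits.pullback.snd p p) with hvdef
  let e : (Limits.pullback p p).left ≅ Limits.pullback p.left p.left :=
    Limits.PreservesPullback.iso (Over.forget S) p p
  let c : Limits.pullback (p.left ≫ Y.hom) (p.left ≫ Y.hom) ≅ Limits.pullback X.hom X.hom :=
    Limits.pullback.congrHom (Over.w p) (Over.w p)
  have he1 : e.hom ≫ Limits.pullback.fst p.left p.left = (Limits.pullback.fst p p).left :=
    Limits.PreservesPullback.iso_hom_fst (Over.forget S) p p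
  have he2 : e.hom ≫ Limits.pullback.snd p.left p.left = (Limits.pullback.snd p p).left :=
    Limits.PreservesPullback.iso_hom_snd (Over.forget S) p p
  have hv : v.left = e.hom ≫ Groth.Agent.Helper12.DiagDesc.vmap p.left Y.hom ≫ c.hom := by
    apply Limits.pullback.hom_ext
    · have h1 : v.left ≫ Limits.pullback.fst X.hom X.hom = (Limits.pullback.fst p p).left := by
        have := congrArg Over.Hom.left (lift_fst (Limits.pullback.fst p p) (Limits.pullback.snd p p))
        rw [Over.comp_left] at this
        exact this
      rw [h1]
      simp only [c, Limits.pullback.congrHom_hom, Category.assoc, Limits.pullback.lift_fst,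
        Category.comp_id]
      exact he1.symm
    · have h1 : v.left ≫ Limits.pullback.snd X.hom X.hom = (Limits.pullback.snd p p).left := by
        have := congrArg Over.Hom.left (lift_snd (Limits.pullback.fst p p) (Limits.pullback.snd p p))
        rw [Over.comp_left] at this
        exact this
      rw [h1]
      simp only [c, Limits.pullback.congrHom_hom, Category.assoc, Limits.pullback.lift_snd,
        Category.comp_id]
      exact he2.symm
  have hI : ∀ (P : MorphismProperty Scheme.{u}) [P.RespectsIso],
      P v.left ↔ P (Groth.Agent.Helper12.DiagDesc.vmap p.left Y.hom) := by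
    intro P _
    rw [hv, P.cancel_left_of_respectsIso, P.cancel_right_of_respectsIso]
  refine ⟨(hI @IsImmersion).mpr inferInstance, fun hs => (hI @IsClosedImmersion).mpr inferInstance, ?_⟩
  rintro ⟨Z, q, r, rfl, -, hfl, hcov⟩ hcl
  have : IsClosedImmersion (Groth.Agent.Helper12.DiagDesc.vmap p.left Y.hom) :=
    (hI @IsClosedImmersion).mp hcl
  exact Groth.Agent.Helper12.DiagDesc.isSeparated_of_fpqc p.left Y.hom r hcov

end Groth.Agent.S5373
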