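import Groth.Statements.S5374
import Groth.Agent.Lib.Helper18.GenSep2
import Groth.Agent.Lib.Helper18.GenFreeChart
import Groth.Agent.Lib.Helper18.EssFree5
import Groth.Agent.Lib.Helper7.FinPres

set_option autoImplicit false
universe u
open CategoryTheory CategoryTheory.Limits MonoidalCategory CartesianMonoidalCategory MonObj GrpObj AlgebraicGeometry
open SGA3

namespace Groth.Agent.S5374

/-- The transporter of two morphisms; the centralizer of a morphism is the case u = v: let S be an
integral scheme, G an S-group scheme of finite presentation, Y an S-scheme of finite presentation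
and u, v : Y → G two morphisms of S-schemes. Then there is a nonempty open subscheme S' of S such
that, after base change to S', the transporter of u into v (points g with g u(y) g⁻¹ = v(y) for all
points y of Y after any base change) is represented by a closed subscheme of G_{S'} of finite
presentation over S'. (The published statement also treats, over the same open, the transporter and
the strict transporter of two subschemes and the normalizer of a subscheme; this row treats the
transporter of two morphisms only.) -/
theorem result (S : Scheme.{u}) [IsIntegral S] (G Y : Over S) [GrpObj G]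
    [LocallyOfFinitePresentation G.hom] [QuasiCompact G.hom] [QuasiSeparated G.hom]
    [LocallyOfFinitePresentation Y.hom] [QuasiCompact Y.hom] [QuasiSeparated Y.hom] (u v : Y ⟶ G) :
    ∃ U : S.Opens, (U : Set S).Nonempty ∧
      ∃ (T : Over (U : Scheme.{u})) (t : T ⟶ Red.bc U.ι G), IsClosedImmersion t.left ∧
        LocallyOfFinitePresentation T.hom ∧ QuasiCompact T.hom ∧ QuasiSeparated T.hom ∧
        ∀ (S' : Over (U : Scheme.{u})) (g : S' ⟶ Red.bc U.ι G), (∃ z : S' ⟶ T, z ≫ t = g) ↔
          ∀ (S'' : Over (U : Scheme.{u})) (s : S'' ⟶ S') (y : S'' ⟶ Red.bc U.ι Y),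
            (s ≫ g) * (y ≫ (Over.pullback U.ι).map u) * (s ≫ g)⁻¹ = y ≫ (Over.pullback U.ι).map v := by
  obtain ⟨U₁, hξ₁, hsepU⟩ := Groth.Agent.Helper18.GenSep.exists_open_isSeparated G
  obtain ⟨V, hξV, hV⟩ := Groth.Agent.Helper18.EssFree.exists_open_univProjCharts Y
  refine ⟨U₁ ⊓ V, ⟨genericPoint S, ⟨hξ₁, hξV⟩⟩, ?_⟩
  set U : S.Opens := U₁ ⊓ V with hUdef
  have hsep : IsSeparated (Red.bc U.ι G).hom := hsepU U inf_le_left
  have hch : Groth.Agent.Helper18.EssFree.UnivProjCharts (Red.bc U.ι Y) := hV U inf_le_right
  haveI hqcY : QuasiCompact (Red.bc U.ι Y).hom :=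
    inferInstanceAs (QuasiCompact (pullback.snd Y.hom U.ι))
  haveI hfpG : LocallyOfFinitePresentation (Red.bc U.ι G).hom :=
    inferInstanceAs (LocallyOfFinitePresentation (pullback.snd G.hom U.ι))
  haveI hqcG : QuasiCompact (Red.bc U.ι G).hom :=
    inferInstanceAs (QuasiCompact (pullback.snd G.hom U.ι))
  haveI hqsG : QuasiSeparated (Red.bc U.ι G).hom :=
    inferInstanceAs (QuasiSeparated (pullback.snd G.hom U.ι))
  have hp := Groth.Agent.Helper18.EssFree.essFreeHypFam_snd_of_charts (Red.bc U.ι Y) (Red.bc U.ι G) hch
  let GU : Over (U : Scheme.{u}) := Red.bc U.ι G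
  let YU : Over (U : Scheme.{u}) := Red.bc U.ι Y
  let uU : YU ⟶ GU := (Over.pullback U.ι).map u
  let vU : YU ⟶ GU := (Over.pullback U.ι).map v
  let dg : GU ⟶ GU ⊗ GU := lift (𝟙 GU) (𝟙 GU)
  have hdg : dg.left = pullback.diagonal GU.hom := by
    apply pullback.hom_ext
    · have h1 : dg ≫ fst GU GU = 𝟙 GU := lift_fst _ _
      have := congrArg (fun f => f.left) h1
      simpa using this
    · have h1 : dg ≫ snd GU GU = 𝟙 GU := lift_snd _ _
      have := congrArg (fun f => f.left) h1
      simpa using this
  haveI : IsClosedImmersion dg.left := by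
    rw [hdg]
    haveI := hsep
    infer_instance
  have hdgfp : LocallyOfFinitePresentation dg.left := by
    refine Groth.Agent.Helper7.locallyOfFinitePresentation_of_comp dg.left (fst GU GU).left ?_ ?_
    · have h1 : dg ≫ fst GU GU = 𝟙 GU := lift_fst _ _
      have := congrArg (fun f => f.left) h1
      rw [Over.comp_left] at this
      rw [this]
      infer_instance
    · change LocallyOfFiniteType (pullback.fst GU.hom GU.hom)
      infer_instance
  obtain ⟨T, t, ht, hfp, h⟩ := Groth.Agent.Helper18.EssFree.pts_closed_essFreeFam True hp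
    (lift (snd YU GU * (fst YU GU ≫ uU) * (snd YU GU)⁻¹) (fst YU GU ≫ vU)) dg
  haveI := ht
  haveI : LocallyOfFinitePresentation t.left := hfp trivial hdgfp
  refine ⟨T, t, ht, ?_, ?_, ?_, ?_⟩
  · rw [← Over.w t]
    infer_instance
  · rw [← Over.w t]
    infer_instance
  · rw [← Over.w t]
    infer_instance
  · intro S' g
    rw [h]
    refine forall_congr' fun S'' => forall_congr' fun s => forall_congr' fun y => ?_
    constructor
    · rintro ⟨x', hx'⟩
      have h1 := congrArg (fun f => f ≫ fst GU GU) hx'
      have h2 := congrArg (fun f => f ≫ snd GU GU) hx'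
      simp only [YU, GU, uU, vU, Category.assoc, lift_fst, lift_snd, dg, Category.comp_id, MonObj.comp_mul,
        GrpObj.comp_inv, lift_fst_assoc] at h1 h2
      rw [h1, ← h2]
    · intro hx
      refine ⟨y ≫ vU, ?_⟩
      apply CartesianMonoidalCategory.hom_ext
      · simp only [YU, GU, uU, vU, Category.assoc, lift_fst, lift_snd, dg, Category.comp_id, MonObj.comp_mul,
          GrpObj.comp_inv, lift_fst_assoc]
        exact hx
      · simp only [YU, GU, uU, vU, Category.assoc, lift_fst, lift_snd, dg, Category.comp_id, MonObj.comp_mul,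
          GrpObj.comp_inv, lift_fst_assoc]

end Groth.Agent.S5374
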