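import Groth.Statements.S5377
import Mathlib.RingTheory.RingHom.FaithfullyFlat
import Mathlib.RingTheory.Flat.EquationalCriterion

set_option autoImplicit false
universe u
open CategoryTheory CategoryTheory.Limits MonoidalCategory CartesianMonoidalCategory MonObj GrpObj AlgebraicGeometry
open SGA3

namespace Groth.Agent.S5377

section ringhom
variable {R S : Type u} [CommRing R] [CommRing S] (f : R →+* S)

theorem flat_iff_eq :
    f.Flat ↔ ∀ (l : ℕ) (r : Fin l → R) (x : Fin l → S), ∑ i, f (r i) * x i = 0 →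
      ∃ (k : ℕ) (a : Fin l → Fin k → R) (y : Fin k → S),
        (∀ i, x i = ∑ j, f (a i j) * y j) ∧ ∀ j, ∑ i, r i * a i j = 0 := by
  let _ : Algebra R S := f.toAlgebra
  have h0 : f.Flat ↔ Module.Flat R S := Iff.rfl
  rw [h0, Module.Flat.iff_forall_isTrivialRelation]
  constructor
  · intro h l r x hx
    exact h (f := r) (x := x) hx
  · intro h l r x hx
    exact h l r x hx

theorem faithfullyFlat_of (hf : f.Flat) (h : ∀ m : Ideal R, m.IsMaximal → Ideal.map f m ≠ ⊤) :
    f.FaithfullyFlat := by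
  let _ : Algebra R S := f.toAlgebra
  have h0 : Module.Flat R S := hf
  refine (show Module.FaithfullyFlat R S from ⟨fun m hm htop => h m hm ?_⟩)
  rw [Ideal.smul_top_eq_map] at htop
  have : (Ideal.map (algebraMap R S) m) = ⊤ := by
    apply Submodule.restrictScalars_injective R
    rw [htop]; rfl
  exact this

theorem map_ne_top_of_faithfullyFlat (hf : f.FaithfullyFlat) (p : Ideal R) (hp : p ≠ ⊤) :
    Ideal.map f p ≠ ⊤ := by
  let _ : Algebra R S := f.toAlgebra
  have h0 : Module.FaithfullyFlat R S := hf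
  intro htop
  have h1 : p • (⊤ : Submodule R S) ≠ ⊤ :=
    ((Module.FaithfullyFlat.iff_flat_and_proper_ideal R S).mp h0).2 p hp
  apply h1
  rw [Ideal.smul_top_eq_map]
  have : Ideal.map (algebraMap R S) p = ⊤ := htop
  rw [this]
  rfl

end ringhom

section colim
variable {J : Type u} [SmallCategory J] [IsFiltered J] (A : J ⥤ CommRingCat.{u})

theorem exists_rep (x : (colimit A : CommRingCat.{u})) :
    ∃ (j : J) (a : A.obj j), (colimit.ι A j).hom a = x :=
  Concrete.colimit_exists_rep A x

theorem exists_map_eq {j : J} (a b : A.obj j)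
    (h : (colimit.ι A j).hom a = (colimit.ι A j).hom b) :
    ∃ (k : J) (f : j ⟶ k), (A.map f).hom a = (A.map f).hom b := by
  obtain ⟨k, f, g, hfg⟩ := Concrete.colimit_exists_of_rep_eq A a b h
  refine ⟨IsFiltered.coeq f g, f ≫ IsFiltered.coeqHom f g, ?_⟩
  have h1 : (A.map (f ≫ IsFiltered.coeqHom f g)).hom a =
      (A.map (IsFiltered.coeqHom f g)).hom ((A.map f).hom a) := by
    rw [A.map_comp]; rfl
  have h2 : (A.map (f ≫ IsFiltered.coeqHom f g)).hom b =
      (A.map (IsFiltered.coeqHom f g)).hom ((A.map g).hom b) := by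
    rw [IsFiltered.coeq_condition f g, A.map_comp]; rfl
  rw [h1, h2]
  exact congrArg _ hfg

theorem ι_map {j k : J} (f : j ⟶ k) (a : A.obj j) :
    (colimit.ι A k).hom ((A.map f).hom a) = (colimit.ι A j).hom a := by
  have := colimit.w A f
  exact congrArg (fun g => g.hom a) this

theorem exists_rep_fin (l : ℕ) (x : Fin l → (colimit A : CommRingCat.{u})) :
    ∃ (j : J) (a : Fin l → A.obj j), ∀ i, (colimit.ι A j).hom (a i) = x i := by
  induction l with
  | zero =>
    obtain ⟨j⟩ := IsFiltered.nonempty (C := J)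
    exact ⟨j, fun i => i.elim0, fun i => i.elim0⟩
  | succ n ih =>
    obtain ⟨j, a, ha⟩ := ih (fun i => x i.succ)
    obtain ⟨j', a', ha'⟩ := exists_rep A (x 0)
    refine ⟨IsFiltered.max j j', Fin.cons ((A.map (IsFiltered.rightToMax j j')).hom a')
      (fun i => (A.map (IsFiltered.leftToMax j j')).hom (a i)), fun i => ?_⟩
    refine Fin.cases ?_ (fun i => ?_) i
    · rw [Fin.cons_zero, ι_map, ha']
    · rw [Fin.cons_succ, ι_map, ha]

end colim

section main
variable {J : Type u} [SmallCategory J] [IsFiltered J] {C A : J ⥤ CommRingCat.{u}} (φ : C ⟶ A)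

theorem colimMap_ι (j : J) (c : C.obj j) :
    (colimMap φ).hom ((colimit.ι C j).hom c) = (colimit.ι A j).hom ((φ.app j).hom c) := by
  have := ι_colimMap φ j
  exact congrArg (fun g => g.hom c) this

theorem nat_apply {j k : J} (g : j ⟶ k) (c : C.obj j) :
    (φ.app k).hom ((C.map g).hom c) = (A.map g).hom ((φ.app j).hom c) := by
  have := φ.naturality g
  exact congrArg (fun g => g.hom c) this

theorem flat_colim (h : ∀ j, (φ.app j).hom.Flat) : (colimMap φ).hom.Flat := by
  rw [flat_iff_eq]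
  intro l r x hx
  obtain ⟨j1, c, hc⟩ := exists_rep_fin C l r
  obtain ⟨j2, a, ha⟩ := exists_rep_fin A l x
  let j := IsFiltered.max j1 j2
  let c' : Fin l → C.obj j := fun i => (C.map (IsFiltered.leftToMax j1 j2)).hom (c i)
  let a' : Fin l → A.obj j := fun i => (A.map (IsFiltered.rightToMax j1 j2)).hom (a i)
  have hc' : ∀ i, (colimit.ι C j).hom (c' i) = r i := fun i => by rw [ι_map, hc]
  have ha' : ∀ i, (colimit.ι A j).hom (a' i) = x i := fun i => by rw [ι_map, ha]
  have h0 : (colimit.ι A j).hom (∑ i, (φ.app j).hom (c' i) * a' i) = (colimit.ι A j).hom 0 := by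
    rw [map_sum, map_zero, ← hx]
    refine Finset.sum_congr rfl fun i _ => ?_
    rw [map_mul, ← colimMap_ι, hc', ha']
  obtain ⟨k, g, hk⟩ := exists_map_eq A _ _ h0
  have hrel : ∑ i, (φ.app k).hom ((C.map g).hom (c' i)) * (A.map g).hom (a' i) = 0 := by
    rw [map_sum, map_zero] at hk
    rw [← hk]
    refine Finset.sum_congr rfl fun i _ => ?_
    rw [map_mul, nat_apply]
  obtain ⟨κ, α, y, hy1, hy2⟩ := (flat_iff_eq _).mp (h k) l _ _ hrel
  refine ⟨κ, fun i t => (colimit.ι C k).hom (α i t), fun t => (colimit.ι A k).hom (y t), ?_, ?_⟩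
  · intro i
    rw [← ha' i, ← ι_map A g, hy1 i, map_sum]
    refine Finset.sum_congr rfl fun t _ => ?_
    rw [map_mul, colimMap_ι]
  · intro t
    have := congrArg (colimit.ι C k).hom (hy2 t)
    rw [map_sum, map_zero] at this
    rw [← this]
    refine Finset.sum_congr rfl fun i _ => ?_
    rw [map_mul, ι_map C g, hc']

/-- the ideal at stage `j` -/
noncomputable def stageIdeal (m : Ideal (colimit C : CommRingCat.{u})) (j : J) : Ideal (A.obj j) :=
  Ideal.map (φ.app j).hom (Ideal.comap (colimit.ι C j).hom m)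

theorem stageIdeal_push (m : Ideal (colimit C : CommRingCat.{u})) {j k : J} (f : j ⟶ k)
    (a : A.obj j) (ha : a ∈ stageIdeal φ m j) : (A.map f).hom a ∈ stageIdeal φ m k := by
  have h1 : Ideal.map (A.map f).hom (stageIdeal φ m j) ≤ stageIdeal φ m k := by
    unfold stageIdeal
    rw [Ideal.map_map]
    have h2 : (A.map f).hom.comp (φ.app j).hom = (φ.app k).hom.comp (C.map f).hom := by
      ext c
      exact (nat_apply φ f c).symm
    rw [h2, ← Ideal.map_map]
    apply Ideal.map_mono
    rw [Ideal.map_le_iff_le_comap]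
    intro c hc
    rw [Ideal.mem_comap] at hc ⊢
    rw [Ideal.mem_comap, ι_map]
    exact hc
  exact h1 (Ideal.mem_map_of_mem _ ha)

theorem mem_map_colim (m : Ideal (colimit C : CommRingCat.{u})) (x : (colimit A : CommRingCat.{u}))
    (hx : x ∈ Ideal.map (colimMap φ).hom m) :
    ∃ (j : J) (a : A.obj j), a ∈ stageIdeal φ m j ∧ (colimit.ι A j).hom a = x := by
  unfold Ideal.map at hx
  induction hx using Submodule.span_induction with
  | mem x hx =>
    obtain ⟨c, hc, rfl⟩ := hx
    obtain ⟨j, cj, rfl⟩ := exists_rep C c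
    exact ⟨j, (φ.app j).hom cj, Ideal.mem_map_of_mem _ hc, (colimMap_ι φ j cj).symm⟩
  | zero =>
    obtain ⟨j⟩ := IsFiltered.nonempty (C := J)
    exact ⟨j, 0, Ideal.zero_mem _, map_zero _⟩
  | add x y _ _ hx hy =>
    obtain ⟨j1, a1, h1, rfl⟩ := hx
    obtain ⟨j2, a2, h2, rfl⟩ := hy
    refine ⟨IsFiltered.max j1 j2, (A.map (IsFiltered.leftToMax j1 j2)).hom a1 +
      (A.map (IsFiltered.rightToMax j1 j2)).hom a2,
      Ideal.add_mem _ (stageIdeal_push φ m _ a1 h1) (stageIdeal_push φ m _ a2 h2), ?_⟩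
    rw [map_add, ι_map, ι_map]
  | smul s x _ hx =>
    obtain ⟨j1, a1, h1, rfl⟩ := hx
    obtain ⟨j2, s2, rfl⟩ := exists_rep A s
    refine ⟨IsFiltered.max j1 j2, (A.map (IsFiltered.rightToMax j1 j2)).hom s2 *
      (A.map (IsFiltered.leftToMax j1 j2)).hom a1,
      Ideal.mul_mem_left _ _ (stageIdeal_push φ m _ a1 h1), ?_⟩
    rw [map_mul, ι_map, ι_map, smul_eq_mul]

theorem faithfullyFlat_colim (h : ∀ j : J, (φ.app j).hom.FaithfullyFlat) :
    (colimMap φ).hom.FaithfullyFlat := by
  apply faithfullyFlat_of _ (flat_colim φ fun j => (h j).flat)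
  intro m hm htop
  have h1 : (1 : (colimit A : CommRingCat.{u})) ∈ Ideal.map (colimMap φ).hom m := by
    rw [htop]; trivial
  obtain ⟨j, a, ha, ha1⟩ := mem_map_colim φ m 1 h1
  have h2 : (colimit.ι A j).hom a = (colimit.ι A j).hom 1 := by rw [ha1, map_one]
  obtain ⟨k, f, hk⟩ := exists_map_eq A _ _ h2
  have h3 := stageIdeal_push φ m f a ha
  rw [hk, map_one] at h3
  have h4 : stageIdeal φ m k = ⊤ := (Ideal.eq_top_iff_one _).mpr h3
  refine map_ne_top_of_faithfullyFlat _ (h k) _ ?_ h4
  intro hc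
  have h5 : (1 : C.obj k) ∈ Ideal.comap (colimit.ι C k).hom m := by rw [hc]; trivial
  rw [Ideal.mem_comap, map_one] at h5
  exact hm.ne_top ((Ideal.eq_top_iff_one _).mpr h5)

end main


/-- Let (C_i → A_i)_i be a filtered direct system of homomorphisms of commutative rings, each of which
is faithfully flat. Then the induced homomorphism colim C_i → colim A_i is faithfully flat. -/
theorem result (J : Type u) [SmallCategory J] [IsFiltered J]
    (C A : J ⥤ CommRingCat.{u}) (φ : C ⟶ A) (h : ∀ j : J, (φ.app j).hom.FaithfullyFlat) :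
    (colimMap φ).hom.FaithfullyFlat := by
  exact faithfullyFlat_colim φ h

end Groth.Agent.S5377
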