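import Groth.Statements.S5380
import Mathlib
import Groth.Agent.Lib.Helper22.FlatFib

set_option autoImplicit false
universe u
open CategoryTheory CategoryTheory.Limits MonoidalCategory CartesianMonoidalCategory MonObj GrpObj AlgebraicGeometry
open SGA3

namespace Groth.Agent.S5380

/-- Let R be a discrete valuation ring with uniformizer π, A a flat commutative R-algebra and M an
A-module which is flat over R. Suppose that M/πM is a flat module over A/πA and that M ⊗_R K is a
flat module over A ⊗_R K, K the fraction field of R (equivalently, M[1/π] is flat over A[1/π], the
form used here). Then M is a flat A-module. -/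
theorem result (R : Type u) [CommRing R] [IsDomain R] [IsDiscreteValuationRing R]
    (π : R) (hπ : Irreducible π) (A : Type u) [CommRing A] [Algebra R A] [Module.Flat R A]
    (M : Type u) [AddCommGroup M] [Module A M] [Module R M] [IsScalarTower R A M] [Module.Flat R M]
    (h1 : Module.Flat (A ⧸ Ideal.span {algebraMap R A π}) (M ⧸ (Ideal.span {algebraMap R A π} • (⊤ : Submodule A M))))
    (h2 : Module.Flat (Localization.Away (algebraMap R A π)) (LocalizedModule (Submonoid.powers (algebraMap R A π)) M)) :
    Module.Flat A M := by
  have hreg : IsRegular π := IsRegular.of_ne_zero hπ.ne_zero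
  have hA : IsSMulRegular A (algebraMap R A π) := IsSMulRegular.of_flat hreg.left.isSMulRegular
  have hM : IsSMulRegular M (algebraMap R A π) := by
    have h0 : IsSMulRegular M π := hreg.isSMulRegular
    intro x y hxy
    apply h0
    have hxy' : algebraMap R A π • x = algebraMap R A π • y := hxy
    rw [algebraMap_smul, algebraMap_smul] at hxy'
    exact hxy'
  have hsurj : Function.Surjective (algebraMap A (A ⧸ Ideal.span {algebraMap R A π})) :=
    Ideal.Quotient.mk_surjective
  have h1' : Module.Flat (A ⧸ Ideal.span {algebraMap R A π})
      (TensorProduct A (A ⧸ Ideal.span {algebraMap R A π}) M) :=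
    Module.Flat.of_linearEquiv
      ((TensorProduct.quotTensorEquivQuotSMul M
        (Ideal.span {algebraMap R A π})).extendScalarsOfSurjective hsurj)
  have h2' : Module.Flat A (LocalizedModule (Submonoid.powers (algebraMap R A π)) M) :=
    Module.Flat.trans A (Localization.Away (algebraMap R A π)) _
  exact Groth.Agent.Helper22.FlatFib.flat_of_regular (algebraMap R A π) hA hM h1' h2'

end Groth.Agent.S5380
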