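import Groth.Statements.S5381
import Mathlib


set_option autoImplicit false
universe u
open CategoryTheory CategoryTheory.Limits MonoidalCategory CartesianMonoidalCategory MonObj GrpObj AlgebraicGeometry
open SGA3

namespace Groth.Agent.S5381

/-- For S the spectrum of a Dedekind domain R: let X be a scheme which is flat, quasi-compact and
quasi-separated over R. Then the ring of global sections Γ(X, O_X) is a flat R-module. (The
published remark takes S locally noetherian and regular of dimension 1 and also observes, when S is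
local with closed point s and uniformizer π, that Γ(X, O_X)/πΓ(X, O_X) → Γ(X_s, O_{X_s}) is
injective; this row takes S the spectrum of a Dedekind domain and omits the injectivity.) -/
theorem result (R : Type u) [CommRing R] [IsDedekindDomain R]
    (X : Scheme.{u}) (f : X ⟶ Spec (CommRingCat.of R)) [Flat f] [QuasiCompact f] [QuasiSeparated f] :
    letI := ((Scheme.ΓSpecIso (CommRingCat.of R)).inv ≫ f.appTop).hom.toAlgebra
    Module.Flat R Γ(X, ⊤) := by
  letI := ((Scheme.ΓSpecIso (CommRingCat.of R)).inv ≫ f.appTop).hom.toAlgebra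
  show Module.Flat R Γ(X, ⊤)
  rw [IsDedekindDomain.flat_iff_torsion_eq_bot, eq_bot_iff]
  rintro s ⟨⟨r, hr⟩, hrs⟩
  have hrs' : ((Scheme.ΓSpecIso (CommRingCat.of R)).inv ≫ f.appTop).hom r * s = 0 := hrs
  rw [Submodule.mem_bot]
  have key : ∀ x : X, ∃ U : X.Opens, x ∈ U ∧
      X.presheaf.map (homOfLE (le_top : U ≤ ⊤)).op s = 0 := by
    intro x
    obtain ⟨_, ⟨U, hU, rfl⟩, hxU, -⟩ :=
      X.isBasis_affineOpens.exists_subset_of_mem_open (Set.mem_univ x) isOpen_univ
    refine ⟨U, hxU, ?_⟩
    have e : U ≤ f ⁻¹ᵁ ⊤ := le_top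
    have hflat : (f.appLE ⊤ U e).hom.Flat :=
      HasRingHomProperty.appLE (P := @Flat) f inferInstance ⟨⊤, isAffineOpen_top _⟩ ⟨U, hU⟩ e
    obtain ⟨ψ, hψdef⟩ : ∃ ψ : R →+* Γ(X, U), ψ =
        (f.appLE ⊤ U e).hom.comp (Scheme.ΓSpecIso (CommRingCat.of R)).inv.hom := ⟨_, rfl⟩
    have hψflat : ψ.Flat := by
      rw [hψdef]
      exact RingHom.Flat.comp (RingHom.Flat.of_bijective
        (ConcreteCategory.bijective_of_isIso (Scheme.ΓSpecIso (CommRingCat.of R)).inv)) hflat
    have hψr : ψ r = X.presheaf.map (homOfLE (le_top : U ≤ ⊤)).op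
        (((Scheme.ΓSpecIso (CommRingCat.of R)).inv ≫ f.appTop).hom r) := by
      rw [hψdef]; rfl
    have h0 : ψ r * X.presheaf.map (homOfLE (le_top : U ≤ ⊤)).op s = 0 := by
      rw [hψr, ← map_mul, hrs', map_zero]
    algebraize [ψ]
    have hreg := Module.Flat.isSMulRegular_of_nonZeroDivisors (M := Γ(X, U)) hr
    apply hreg
    show ψ r * _ = ψ r * 0
    rw [h0, mul_zero]
  choose N hxN hres using key
  apply X.sheaf.eq_of_locally_eq' N ⊤ (fun x => homOfLE le_top)
  · intro x _
    exact TopologicalSpace.Opens.mem_iSup.mpr ⟨x, hxN x⟩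
  · intro x
    change X.presheaf.map _ _ = X.presheaf.map _ _
    rw [hres x, map_zero]

end Groth.Agent.S5381
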