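import Groth.Statements.S5383
import Mathlib
import Groth.Agent.Lib.Helper14.UnibrOpen3
-- import your own Groth.Agent.* helpers here

set_option autoImplicit false
universe u
open CategoryTheory CategoryTheory.Limits MonoidalCategory CartesianMonoidalCategory MonObj GrpObj AlgebraicGeometry
open SGA3

namespace Groth.Agent.S5383

open Groth.Agent.Helper14.UnibrOpen in
theorem closure_map_generic {X Y : Scheme.{u}} (f : X ⟶ Y) [IrreducibleSpace X]
    (hd : DenseRange f.base) : closure {f.base (genericPoint X)} = Set.univ := by
  rw [Set.eq_univ_iff_forall]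
  intro y
  have h1 : Set.range f.base ⊆ closure {f.base (genericPoint X)} := by
    rintro _ ⟨x, rfl⟩
    exact specializes_iff_mem_closure.mp ((genericPoint_specializes x).map f.continuous)
  have h2 : closure (Set.range f.base) ⊆ closure {f.base (genericPoint X)} :=
    closure_minimal h1 isClosed_closure
  exact h2 (hd y)

/-- (i) let A ⊆ B be domains with B integral over A, and q a prime of B such that the local ring of A at
p = q ∩ A is unibranch; then Spec B → Spec A is open at q (it maps neighbourhoods of q to
neighbourhoods of p). (ii) Let f : X → Y be a dominant morphism of irreducible schemes which is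
locally of finite type, x a point of X isolated in its fibre (f quasi-finite at x) such that the
local ring of Y at f(x) is unibranch; then f is open at x. -/
theorem result :
    (∀ (A B : Type u) [CommRing A] [IsDomain A] [CommRing B] [IsDomain B] [Algebra A B],
      Function.Injective (algebraMap A B) → Algebra.IsIntegral A B →
      ∀ q : PrimeSpectrum B, CAlg2.IsUnibranch (Localization.AtPrime (q.asIdeal.comap (algebraMap A B))) →
        EGA43.IsOpenAt (PrimeSpectrum.comap (algebraMap A B)) q) ∧
    (∀ (X Y : Scheme.{u}) (f : X ⟶ Y) [IrreducibleSpace X] [IrreducibleSpace Y] [LocallyOfFiniteType f],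
      DenseRange f.base → ∀ x : X, (nhdsWithin x (f.base ⁻¹' {f.base x})) = pure x →
        CAlg2.IsUnibranch (Y.presheaf.stalk (f.base x)) → EGA43.IsOpenAt f.base x) := by
  refine ⟨?_, ?_⟩
  · intro A B _ _ _ _ _ hinj hint q hq
    refine Groth.Agent.Helper14.UnibrOpen.isOpenAt_comap_of_uniq hinj (K := FractionRing A) q ?_
    intro p₁ p₂ h₁ h₂
    apply PrimeSpectrum.ext
    exact Groth.Agent.Helper14.UnibrOpen.uniq_of_isUnibranch _ hq p₁.asIdeal p₂.asIdeal
      (congrArg PrimeSpectrum.asIdeal h₁) (congrArg PrimeSpectrum.asIdeal h₂)
  · intro X Y f _ _ _ hd x hx hy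
    refine Groth.Agent.Helper14.UnibrOpen.isOpenAt_of_isolated_of_unibranch f x (genericPoint X)
      (genericPoint_specializes x) ?_ hx hy
    rw [closure_map_generic f hd]
    exact Filter.univ_mem

end Groth.Agent.S5383
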