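import Groth.Statements.S5385
import Groth.Agent.Lib.Helper12.CMPoint
import Groth.Agent.Lib.Helper16.Sch.FibCM

set_option autoImplicit false
universe u
open CategoryTheory CategoryTheory.Limits MonoidalCategory CartesianMonoidalCategory MonObj GrpObj AlgebraicGeometry
open SGA3

namespace Groth.Agent.S5385

/-- Let A be an artinian ring and X a nonempty scheme locally of finite type over A. Then X has a closed
point whose local ring is Cohen–Macaulay. -/
theorem result (A : Type u) [CommRing A] [IsArtinianRing A] (X : Scheme.{u})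
    (f : X ⟶ Spec (CommRingCat.of A)) [LocallyOfFiniteType f] [Nonempty X] :
    ∃ x : X, IsClosed ({x} : Set X) ∧ LocCoh.IsCohenMacaulayLocalRing (X.presheaf.stalk x) := by
  classical
  haveI : IsNoetherianRing A := inferInstance
  haveI : IsLocallyNoetherian (Spec (CommRingCat.of A)) := inferInstance
  haveI : IsLocallyNoetherian X := LocallyOfFiniteType.isLocallyNoetherian f
  haveI : T1Space (PrimeSpectrum A) := inferInstance
  haveI : JacobsonSpace (Spec (CommRingCat.of A)) :=
    inferInstanceAs (JacobsonSpace (PrimeSpectrum A))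
  haveI : JacobsonSpace X := LocallyOfFiniteType.jacobsonSpace f
  obtain ⟨x₀⟩ := ‹Nonempty X›
  obtain ⟨_, ⟨U, hU, rfl⟩, hx₀, -⟩ :=
    X.isBasis_affineOpens.exists_subset_of_mem_open (Set.mem_univ x₀) isOpen_univ
  haveI : IsNoetherianRing Γ(X, U) := IsLocallyNoetherian.component_noetherian ⟨U, hU⟩
  haveI : JacobsonSpace (PrimeSpectrum Γ(X, U)) :=
    JacobsonSpace.of_isOpenEmbedding (f := hU.fromSpec.base) hU.fromSpec.isOpenEmbedding
  haveI : IsJacobsonRing Γ(X, U) := PrimeSpectrum.isJacobsonRing_iff_jacobsonSpace.mpr inferInstance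
  haveI : Nontrivial Γ(X, U) := by
    have : Nonempty (PrimeSpectrum Γ(X, U)) := ⟨hU.primeIdealOf ⟨x₀, hx₀⟩⟩
    exact (PrimeSpectrum.nonempty_iff_nontrivial).mp this
  obtain ⟨m, hm, hCM⟩ := Groth.Agent.Helper12.CMPoint.exists_maximal_isCM Γ(X, U)
  let y : Spec Γ(X, U) := ⟨m, hm.isPrime⟩
  refine ⟨hU.fromSpec.base y, ?_, ?_⟩
  · apply isClosed_singleton_of_isLocallyClosed_singleton
    have hy : IsClosed ({y} : Set (Spec Γ(X, U))) :=
      (PrimeSpectrum.isClosed_singleton_iff_isMaximal y).mpr hm
    have : ({hU.fromSpec.base y} : Set X) = hU.fromSpec.base '' {y} := by simp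
    rw [this]
    exact hy.isLocallyClosed.image hU.fromSpec.isOpenEmbedding.isInducing
      hU.fromSpec.isOpenEmbedding.isOpen_range.isLocallyClosed
  · -- the stalk
    have e1 : X.presheaf.stalk (hU.fromSpec.base y) ≅ (Spec Γ(X, U)).presheaf.stalk y :=
      asIso (hU.fromSpec.stalkMap y)
    have R2 : Localization.AtPrime m ≃+* (Spec Γ(X, U)).presheaf.stalk y :=
      (StructureSheaf.stalkIso Γ(X, U) y).toRingEquiv
    exact Groth.Agent.Helper16.FibCM.isCM_of_ringEquiv
      (R2.trans e1.commRingCatIsoToRingEquiv.symm) (hA := hCM)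

end Groth.Agent.S5385
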