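import Groth.Statements.S5387
import Groth.Agent.Lib.Helper16.Sch.GrpIrr5

set_option autoImplicit false
universe u
open CategoryTheory CategoryTheory.Limits MonoidalCategory CartesianMonoidalCategory MonObj GrpObj AlgebraicGeometry
open SGA3

namespace Groth.Agent.S5387

/-- Let k be an algebraically closed field, G a group scheme locally of finite type over k and x a
closed point of G. Then the local ring of G at x is isomorphic to the local ring of G at the unit
point (an isomorphism is induced by a translation; this row asserts the existence of an isomorphism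
of rings). -/
theorem result (k : Type u) [Field k] [IsAlgClosed k] (G : Over (Spec (CommRingCat.of k))) [GrpObj G]
    [LocallyOfFiniteType G.hom] (pt : ↥(𝟙_ (Over (Spec (CommRingCat.of k)))).left) (x : G.left) (hx : IsClosed ({x} : Set G.left)) :
    Nonempty (G.left.presheaf.stalk (η[G].left.base pt) ≅ G.left.presheaf.stalk x) := by
  let ψ : 𝟙_ (Over (Spec (CommRingCat.of k))) ⟶ G :=
    Over.homMk (pointOfClosedPoint G.hom x hx) (by
      rw [pointOfClosedPoint_comp]
      rfl)
  haveI : IsIso (Groth.Agent.Helper16.GrpIrr.transIso G ψ).hom.left :=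
    inferInstanceAs (IsIso ((Over.forget _).map (Groth.Agent.Helper16.GrpIrr.transIso G ψ).hom))
  have he : (Groth.Agent.Helper16.GrpIrr.transIso G ψ).hom.left (η[G].left.base pt) = x := by
    rw [← Scheme.Hom.comp_apply, ← Over.comp_left]
    show (η[G] ≫ Groth.Agent.Helper16.GrpIrr.trans G ψ).left _ = _
    rw [Groth.Agent.Helper16.GrpIrr.unit_trans]
    exact pointOfClosedPoint_apply G.hom x hx _
  exact ⟨(asIso ((Groth.Agent.Helper16.GrpIrr.transIso G ψ).hom.left.stalkMap
    (η[G].left.base pt))).symm ≪≫ G.left.presheaf.stalkCongr (.of_eq he)⟩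

end Groth.Agent.S5387
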