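import Groth.Statements.S5396
import Mathlib
import Groth.Agent.Lib.Helper22.FpqcComod

set_option autoImplicit false
universe u
open CategoryTheory CategoryTheory.Limits MonoidalCategory CartesianMonoidalCategory MonObj GrpObj AlgebraicGeometry
open SGA3

namespace Groth.Agent.S5396

/-- Let A be a commutative ring, C an A-coalgebra, V a C-comodule, M an A-submodule of V, and A' a
faithfully flat commutative A-algebra such that A' ⊗_A C is a projective A'-module. Then there is a
smallest subcomodule of V containing M, and it is finitely generated over A when M is. (The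
published statement also asserts that the formation of this subcomodule commutes with base change;
this row omits it.) -/
theorem result (A : Type u) [CommRing A] (C : Type u) [AddCommGroup C] [Module A C]
    [Coalgebra A C] (V : Type u) [AddCommGroup V] [Module A V] [HopfRep.Comod A C V] (M : Submodule A V)
    (A' : Type u) [CommRing A'] [Algebra A A'] [Module.FaithfullyFlat A A'] [Module.Projective A' (TensorProduct A A' C)] :
    ∃ W : Submodule A V, HopfRep.IsSubcomod (k := A) (A := C) W ∧ M ≤ W ∧
      (∀ W' : Submodule A V, HopfRep.IsSubcomod (k := A) (A := C) W' → M ≤ W' → W ≤ W') ∧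
      (M.FG → W.FG) := by
  exact ⟨Groth.Agent.Helper22.FpqcComod.Wsub (C := C) A' M,
    Groth.Agent.Helper22.FpqcComod.isSubcomod_Wsub M,
    Groth.Agent.Helper22.FpqcComod.le_Wsub M,
    fun W' hW' hM => Groth.Agent.Helper22.FpqcComod.Wsub_le M W' hW' hM,
    fun hM => Groth.Agent.Helper22.FpqcComod.Wsub_fg M hM⟩

end Groth.Agent.S5396
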