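import Groth.Statements.S5423
import Mathlib
import Groth.Agent.Lib.Helper22.PtDense
import Groth.Agent.Lib.Helper22.UnipAct
import Groth.Agent.Lib.Helper12.Kolchin
import Groth.Agent.Lib.Helper12.Unipotent

set_option autoImplicit false
universe u
open TensorProduct
open SGA3t2b

namespace Groth.Agent.S5423

open Groth.Agent.Helper12 Groth.Agent.Helper22 WithConv in
/-- the action of the group of points as a monoid hom -/
noncomputable def actHom (k : Type u) [Field k] (A : Type u) [CommRing A] [HopfAlgebra k A]
    (V : Type u) [AddCommGroup V] [Module k V] [HopfRep.Comod k A V] :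
    WithConv (A →ₐ[k] k) →* Module.End k V where
  toFun g := SubComod.opTHom (k := k) (C := A) V (toConv g.ofConv.toLinearMap)
  map_one' := by rw [AlgHom.toLinearMap_convOne, map_one]
  map_mul' f g := by rw [AlgHom.toLinearMap_convMul, map_mul]

/-- Let k be an algebraically closed field and A a reduced finitely generated commutative Hopf algebra
over k (a smooth affine algebraic k-group G). Then G is unipotent (every non-zero finite-dimensional
representation has a non-zero fixed vector) if and only if every element of G(k) is unipotent, i.e.
every k-point g : A → k acts on every finite-dimensional comodule V by an endomorphism g_V with g_V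
− 1 nilpotent. -/
theorem result (k : Type u) [Field k] [IsAlgClosed k] (A : Type u) [CommRing A] [HopfAlgebra k A] [Algebra.FiniteType k A]
    [IsReduced A] :
    HopfRep.IsUnipotent k A ↔
      ∀ (g : A →ₐ[k] k) (V : Type u) [AddCommGroup V] [Module k V] [HopfRep.Comod k A V],
        Module.Finite k V → IsNilpotent (HopfRep.Comod.act k A V g - LinearMap.id) := by
  constructor
  · intro hU g V _ _ _ hfin
    haveI := hfin
    have hflag := Groth.Agent.Helper12.hasTrivFlag_of_isUnipotent k A hU _ V rfl
    exact Groth.Agent.Helper22.SubComod.opT_sub_one_nilpotent V hflag g.toLinearMap (map_one g)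
  · intro H V _ _ _ hfin hnt
    haveI := hfin
    haveI := hnt
    obtain ⟨v, hv0, hv⟩ := Groth.Agent.Helper12.kolchin (actHom k A V)
      (fun g => H g.ofConv V hfin)
    intro hbot
    apply hv0
    have hmem : v ∈ HopfRep.fixedPts k A V := by
      show HopfRep.Comod.coact (k := k) (A := A) v = v ⊗ₜ[k] (1 : A)
      rw [← sub_eq_zero]
      apply Groth.Agent.Helper12.range_rTensor_bot (⊥ : Submodule k V) rfl
      apply Groth.Agent.Helper22.PtDense.mem_range_rTensor_of_forall_point
      intro g
      rw [Submodule.mem_bot, map_sub, Groth.Agent.Helper12.slice_tmul]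
      have h1 : Groth.Agent.Helper12.slice g.toLinearMap
          (HopfRep.Comod.coact (k := k) (A := A) v) = v := hv (WithConv.toConv g)
      rw [h1]
      have h2 : g.toLinearMap (1 : A) = 1 := map_one g
      rw [h2, one_smul, sub_self]
    rw [hbot] at hmem
    exact (Submodule.mem_bot k).mp hmem

end Groth.Agent.S5423
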