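import Groth.Statements.S5445
import Groth.Agent.Lib.Helper8.RootDWeyl

set_option autoImplicit false
open RootD

namespace Groth.Agent.S5445

/-- A system of positive roots of a root datum contains exactly one system of simple roots (simple
systems in the sense of conditions on roots only: linearly independent, every root a non-negative or
non-positive integer combination). -/
theorem result {ι M N : Type*} [AddCommGroup M] [AddCommGroup N]
    (P : RootPairing ι ℤ M N) [Finite ι] (S : Set ι) (hS : RootD.IsPosSys P S) :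
    ∃! Δ : Set ι, RootD.IsSimpleSys P Δ ∧ Δ ⊆ S := by
  obtain ⟨Δ, hΔ, hpos⟩ := Groth.Agent.Helper8.RD.exists_simpleSys_of_posSys hS
  refine ⟨Δ, ⟨hΔ, hpos ▸ Groth.Agent.Helper8.RD.subset_posOf hΔ⟩, ?_⟩
  rintro Δ' ⟨hΔ', hsub⟩
  apply Groth.Agent.Helper8.RD.eq_of_posOf_eq hΔ' hΔ
  rw [hpos]
  -- `posOf Δ' ⊆ S` by saturation, hence equality
  have h1 : RootD.posOf P Δ' ⊆ S := by
    intro k hk
    apply hS.sat 1 one_pos
    rw [one_smul]
    exact Groth.Agent.Helper8.RD.natSpan_mono P hsub hk
  exact Groth.Agent.Helper8.RD.eq_of_subset_of_P1_P2 h1 (Groth.Agent.Helper8.RD.posOf_or hΔ')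
    (fun _ hi => hS.disjoint hi)

end Groth.Agent.S5445
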