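import Groth.Statements.S5459
import Groth.Agent.Lib.Helper8.RootDHeight

set_option autoImplicit false
open RootD

namespace Groth.Agent.S5459

/-- A closed set of roots containing each root or its opposite is, for a suitable system of simple roots
Δ and a subset Δ' ⊆ Δ, the set of roots lying in ℕΔ ∪ (-ℕΔ'). -/
theorem result {ι M N : Type*} [AddCommGroup M] [AddCommGroup N]
    (P : RootPairing ι ℤ M N) [Finite ι] (P' : Set ι)
    (hP2 : ∀ i : ι, i ∈ P' ∨ P.reflectionPerm i i ∈ P') (hcl : RootD.IsClosedSub P P') :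
    ∃ Δ Δ' : Set ι, RootD.IsSimpleSys P Δ ∧ Δ' ⊆ Δ ∧
      P' = RootD.posOf P Δ ∪ {k : ι | -P.root k ∈ RootD.natSpan P Δ'} := by
  obtain ⟨Δ₀, hΔ₀⟩ := Groth.Agent.Helper8.RD.exists_simpleSys P
  obtain ⟨g, -, hgs⟩ := Groth.Agent.Helper8.RD.exists_weyl_posOf_subset hP2 hcl _ hΔ₀ rfl
  rw [← Groth.Agent.Helper8.RD.posOf_smul] at hgs
  have hΔ : RootD.IsSimpleSys P ((fun i : ι => g • i) '' Δ₀) :=
    Groth.Agent.Helper8.RD.isSimpleSys_smul hΔ₀ g
  have hgs' : RootD.posOf P ((fun i : ι => g • i) '' Δ₀) ⊆ P' := hgs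
  refine ⟨(fun i : ι => g • i) '' Δ₀,
    {i : ι | i ∈ (fun i : ι => g • i) '' Δ₀ ∧ P.reflectionPerm i i ∈ P'}, hΔ, fun i hi => hi.1, ?_⟩
  exact Groth.Agent.Helper8.RD.closed_eq_union hΔ hcl hgs'

end Groth.Agent.S5459
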