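import Groth.Statements.S5460
import Mathlib
import Groth.Agent.Lib.Lead.RootD15

set_option autoImplicit false
open RootD Groth.Agent.Lead.RD15 Groth.Agent.Helper8.RD

namespace Groth.Agent.S5460

/-- A set of roots R' is the trace on R of a vector subspace (every root with a positive multiple in the
span of R' lies in R') if and only if R' is the set of roots in the span of a subset Δ' of some
system of simple roots Δ. -/
theorem result {ι M N : Type*} [AddCommGroup M] [AddCommGroup N]
    (P : RootPairing ι ℤ M N) [Finite ι] (R' : Set ι) :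
    (∀ k : ι, (∃ n : ℕ, 0 < n ∧ n • P.root k ∈ Submodule.span ℤ (P.root '' R')) → k ∈ R') ↔
      ∃ Δ Δ' : Set ι, RootD.IsSimpleSys P Δ ∧ Δ' ⊆ Δ ∧ R' = RootD.inSpan P Δ' := by
  classical
  constructor
  · intro hsat
    obtain ⟨r, ψ, hψ⟩ := exists_ordered_hom P R' hsat
    obtain ⟨n, hn⟩ := exists_regular P
    let f : ↥(P.rootSpan ℤ) →+ ℤ :=
      ((P.toLinearMap.flip n).toAddMonoidHom).comp (P.rootSpan ℤ).subtype.toAddMonoidHom
    let T : ↥(P.rootSpan ℤ) →+ Lex (Fin r → ℤ) ×ₗ ℤ :=
      AddMonoidHom.mk' (fun x => toLex (ψ x, f x)) (fun a b => by rw [map_add, map_add]; rfl)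
    have hT : ∀ x, T x = toLex (ψ x, f x) := fun x => rfl
    have hf : ∀ k, f (P.rootSpanMem ℤ k) = P.root' k n := fun k => rfl
    obtain ⟨Δ, hΔ, -, hpos⟩ := simpleSys_of_hom T ∅ (fun d hd => absurd hd (Set.notMem_empty d))
      (linearIndepOn_empty ℤ _)
      (fun k hk => by
        exfalso
        have h2 : f (P.rootSpanMem ℤ k) = 0 := by
          have := congrArg (fun z => (ofLex z).2) hk
          exact this
        exact hn k h2)
    have hψnn : ∀ d ∈ Δ, 0 ≤ ψ (P.rootSpanMem ℤ d) := by
      intro d hd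
      have hd' : d ∈ posOf P Δ := subset_posOf hΔ hd
      rw [hpos] at hd'
      have hT0 : 0 ≤ T (P.rootSpanMem ℤ d) := by
        rcases hd' with h | ⟨h, -⟩
        · exact le_of_lt h
        · exact le_of_eq h.symm
      rw [hT] at hT0
      have h3 : toLex ((0 : Lex (Fin r → ℤ)), (0:ℤ)) ≤
          toLex (ψ (P.rootSpanMem ℤ d), f (P.rootSpanMem ℤ d)) := hT0
      rw [Prod.Lex.toLex_le_toLex] at h3
      rcases h3 with h | ⟨h, -⟩
      · exact le_of_lt h
      · exact le_of_eq h
    refine ⟨Δ, {d | d ∈ Δ ∧ ψ (P.rootSpanMem ℤ d) = 0}, hΔ, fun d hd => hd.1, ?_⟩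
    ext k
    constructor
    · intro hk
      have key : ∀ l, l ∈ R' → l ∈ posOf P Δ → P.root l ∈
          Submodule.span ℤ (P.root '' {d | d ∈ Δ ∧ ψ (P.rootSpanMem ℤ d) = 0}) := by
        intro l hl hlpos
        obtain ⟨hx', -, h0⟩ := mem_natSpan_zero_of_hom ψ hψnn (x := P.root l) hlpos
        exact natSpan_le_span' P (h0 ((hψ l).mpr hl))
      rcases posOf_or hΔ k with h | h
      · exact key k hk h
      · have hk' : P.reflectionPerm k k ∈ R' := by
          rw [← hψ, hom_neg, (hψ k).mpr hk, neg_zero]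
        have := key _ hk' h
        rw [root_neg] at this
        have h2 := neg_mem this
        rwa [neg_neg] at h2
    · intro hk
      apply hsat
      refine ⟨1, one_pos, ?_⟩
      rw [one_smul]
      refine Submodule.span_mono (Set.image_mono ?_) hk
      intro d hd
      exact (hψ d).mp hd.2
  · rintro ⟨Δ, Δ', hΔ, hsub, rfl⟩ k ⟨n, hn, hk⟩
    have hle : Submodule.span ℤ (P.root '' inSpan P Δ') ≤ Submodule.span ℤ (P.root '' Δ') := by
      rw [Submodule.span_le]
      rintro _ ⟨l, hl, rfl⟩
      exact hl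
    obtain ⟨e, he, hlce⟩ := mem_span_iff_lc.mp (hle hk)
    have hc := coeff_supp hΔ k
    have hlc := coeff_lc hΔ k
    have heq : (n : ℤ) • coeff hΔ k = e := by
      apply lc_inj hΔ
      · intro d hd
        apply hc
        rw [Finset.mem_coe, Finsupp.mem_support_iff] at hd ⊢
        intro h0
        apply hd
        rw [Finsupp.smul_apply, h0, smul_zero]
      · exact he.trans hsub
      · rw [hlce]
        show Finsupp.linearCombination ℤ P.root ((n:ℤ) • coeff hΔ k) = _
        rw [map_smul]
        show (n:ℤ) • lc P (coeff hΔ k) = _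
        rw [hlc, natCast_zsmul]
    show P.root k ∈ Submodule.span ℤ (P.root '' Δ')
    apply mem_span_iff_lc.mpr
    refine ⟨coeff hΔ k, ?_, hlc⟩
    intro d hd
    by_contra hdn
    rw [Finset.mem_coe, Finsupp.mem_support_iff] at hd
    have h1 := congrArg (fun c : ι →₀ ℤ => c d) heq
    simp only [Finsupp.smul_apply, smul_eq_mul] at h1
    have h2 : e d = 0 := by
      by_contra h
      exact hdn (he (Finset.mem_coe.mpr (Finsupp.mem_support_iff.mpr h)))
    rw [h2] at h1
    rcases mul_eq_zero.mp h1 with h | h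
    · omega
    · exact hd h

end Groth.Agent.S5460
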