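import Groth.Statements.S5464
import Mathlib
import Groth.Agent.Lib.Lead.RootD15
import Groth.Agent.Lib.Lead.RootD10
import Groth.Agent.Lib.Helper8.RootDHeight
import Groth.Agent.Lib.Helper8.RootDDual

set_option autoImplicit false
open RootD Groth.Agent.Lead.RD15 Groth.Agent.Helper8.RD

namespace Groth.Agent.S5464

/-- Given an indivisible root α and a root γ not proportional to it, there is a system of simple roots
containing α and a simple root β of it with γ = aα + bβ, a, b ∈ ℕ. -/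
theorem result {ι M N : Type*} [AddCommGroup M] [AddCommGroup N]
    (P : RootPairing ι ℤ M N) [Finite ι] (i k : ι) (hα : RootD.IsIndiv P i)
    (hli : LinearIndependent ℤ ![P.root i, P.root k]) :
    ∃ Δ : Set ι, RootD.IsSimpleSys P Δ ∧ i ∈ Δ ∧
      ∃ j ∈ Δ, ∃ a b : ℕ, P.root k = a • P.root i + b • P.root j := by
  classical
  have htf := tf P
  haveI := Groth.Agent.Lead.RootD10.isTorsionFree_left P
  have hpair := LinearIndependent.pair_iff.mp hli
  let W₁ : Submodule ℤ M := Submodule.span ℤ {P.root i}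
  let W₂ : Submodule ℤ M := Submodule.span ℤ {P.root i, P.root k}
  let R₁ : Set ι := {l | P.root l ∈ satSub W₁}
  let R₂ : Set ι := {l | P.root l ∈ satSub W₂}
  have hsat₁ : ∀ l, (∃ n : ℕ, 0 < n ∧ n • P.root l ∈ Submodule.span ℤ (P.root '' R₁)) → l ∈ R₁ :=
    fun l h => satSub_saturated P W₁ l h
  have hsat₂ : ∀ l, (∃ n : ℕ, 0 < n ∧ n • P.root l ∈ Submodule.span ℤ (P.root '' R₂)) → l ∈ R₂ :=
    fun l h => satSub_saturated P W₂ l h
  obtain ⟨r₁, ψ₁, hψ₁⟩ := exists_ordered_hom P R₁ hsat₁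
  obtain ⟨r₂, ψ₂, hψ₂⟩ := exists_ordered_hom P R₂ hsat₂
  have hiR₁ : i ∈ R₁ := le_satSub W₁ (Submodule.mem_span_singleton_self _)
  have hR₁₂ : R₁ ⊆ R₂ := by
    rintro l ⟨n, hn, h⟩
    refine ⟨n, hn, ?_⟩
    exact Submodule.span_mono (by simp) h
  have hkR₂ : k ∈ R₂ := le_satSub W₂ (Submodule.subset_span (by simp))
  have hkR₁ : k ∉ R₁ := by
    rintro ⟨n, hn, h⟩
    obtain ⟨m, hm⟩ := Submodule.mem_span_singleton.mp h
    have := hpair m (-(n:ℤ)) (by rw [neg_smul, natCast_zsmul, hm, add_neg_cancel])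
    omega
  obtain ⟨ψ₁', hψ₁', hpos₁⟩ : ∃ ψ₁' : ↥(P.rootSpan ℤ) →+ Lex (Fin r₁ → ℤ),
      (∀ l, ψ₁' (P.rootSpanMem ℤ l) = 0 ↔ l ∈ R₁) ∧ 0 < ψ₁' (P.rootSpanMem ℤ k) := by
    rcases lt_trichotomy (ψ₁ (P.rootSpanMem ℤ k)) 0 with h | h | h
    · refine ⟨-ψ₁, fun l => ?_, ?_⟩
      · rw [AddMonoidHom.neg_apply, neg_eq_zero]; exact hψ₁ l
      · rw [AddMonoidHom.neg_apply]; exact neg_pos.mpr h
    · exact absurd ((hψ₁ k).mp h) hkR₁
    · exact ⟨ψ₁, hψ₁, h⟩
  let T : ↥(P.rootSpan ℤ) →+ Lex (Fin r₂ → ℤ) ×ₗ Lex (Fin r₁ → ℤ) :=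
    AddMonoidHom.mk' (fun x => toLex (ψ₂ x, ψ₁' x)) (fun a b => by rw [map_add, map_add]; rfl)
  have hT : ∀ x, T x = toLex (ψ₂ x, ψ₁' x) := fun x => rfl
  have hT0 : ∀ l, T (P.rootSpanMem ℤ l) = 0 ↔ l ∈ R₁ := by
    intro l
    constructor
    · intro h
      have := congrArg (fun z => (ofLex z).2) h
      exact (hψ₁' l).mp this
    · intro hl
      rw [hT, (hψ₁' l).mpr hl, (hψ₂ l).mpr (hR₁₂ hl)]; rfl
  have hgen : ∀ l, T (P.rootSpanMem ℤ l) = 0 →
      P.root l ∈ natSpan P {i} ∨ -P.root l ∈ natSpan P {i} := by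
    intro l hl
    obtain ⟨n, hn, h⟩ := (hT0 l).mp hl
    obtain ⟨m, hm⟩ := Submodule.mem_span_singleton.mp h
    have hn0 : (n : ℤ) ≠ 0 := by omega
    have hdvd := dvd_of_smul_eq_smul_indiv (P := P) i l hα m (n:ℤ) hn0
      (by rw [natCast_zsmul, hm])
    obtain ⟨c, rfl⟩ := hdvd
    have hroot : P.root l = c • P.root i := by
      have : (n:ℤ) • P.root l = (n:ℤ) • (c • P.root i) := by
        rw [natCast_zsmul, ← hm, mul_smul]
      exact zsmul_right_injective hn0 this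
    rcases le_total 0 c with hc | hc
    · left; rw [hroot]; exact zsmul_mem_natSpan (root_mem_natSpan P (S := {i}) (Set.mem_singleton i)) hc
    · right; rw [hroot, ← neg_smul]
      exact zsmul_mem_natSpan (root_mem_natSpan P (S := {i}) (Set.mem_singleton i)) (by omega)
  obtain ⟨Δ, hΔ, hsub, hpos⟩ := simpleSys_of_hom T {i}
    (fun d hd => by rw [Set.mem_singleton_iff.mp hd]; exact (hT0 i).mpr hiR₁)
    (LinearIndepOn.singleton (P.ne_zero i)) hgen
  have hiΔ : i ∈ Δ := hsub (Set.mem_singleton i)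
  have hkpos : k ∈ posOf P Δ := by
    rw [hpos]; left
    show 0 < T (P.rootSpanMem ℤ k)
    rw [hT]
    show toLex ((0 : Lex (Fin r₂ → ℤ)), (0 : Lex (Fin r₁ → ℤ))) <
      toLex (ψ₂ (P.rootSpanMem ℤ k), ψ₁' (P.rootSpanMem ℤ k))
    rw [Prod.Lex.toLex_lt_toLex]
    right
    exact ⟨((hψ₂ k).mpr hkR₂).symm, hpos₁⟩
  have hψnn : ∀ d ∈ Δ, 0 ≤ ψ₂ (P.rootSpanMem ℤ d) := by
    intro d hd
    have hd' : d ∈ posOf P Δ := subset_posOf hΔ hd
    rw [hpos] at hd'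
    have hT0' : 0 ≤ T (P.rootSpanMem ℤ d) := by
      rcases hd' with h | ⟨h, -⟩
      · exact le_of_lt h
      · exact le_of_eq h.symm
    rw [hT] at hT0'
    have h3 : toLex ((0 : Lex (Fin r₂ → ℤ)), (0 : Lex (Fin r₁ → ℤ))) ≤
        toLex (ψ₂ (P.rootSpanMem ℤ d), ψ₁' (P.rootSpanMem ℤ d)) := hT0'
    rw [Prod.Lex.toLex_le_toLex] at h3
    rcases h3 with h | ⟨h, -⟩
    · exact le_of_lt h
    · exact le_of_eq h
  obtain ⟨hx', -, h0⟩ := mem_natSpan_zero_of_hom ψ₂ hψnn (x := P.root k) hkpos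
  have hk2 := h0 ((hψ₂ k).mpr hkR₂)
  obtain ⟨c, hc, hc0, hlc⟩ := (mem_natSpan_iff P).mp hk2
  have hΔ₂R : ∀ d ∈ c.support, d ∈ Δ ∧ d ∈ R₂ :=
    fun d hd => ⟨(hc hd).1, (hψ₂ d).mp (hc hd).2⟩
  have h3 : ∀ d₁ d₂ d₃ : ι, d₁ ∈ Δ → d₂ ∈ Δ → d₃ ∈ Δ → d₁ ≠ d₂ → d₁ ≠ d₃ → d₂ ≠ d₃ →
      ∀ a₁ a₂ a₃ : ℤ, a₁ • P.root d₁ + a₂ • P.root d₂ + a₃ • P.root d₃ = 0 →
      a₁ = 0 ∧ a₂ = 0 ∧ a₃ = 0 := by
    intro d₁ d₂ d₃ h1 h2 h3 h12 h13 h23 a₁ a₂ a₃ h
    have hz : Finsupp.single d₁ a₁ + Finsupp.single d₂ a₂ + Finsupp.single d₃ a₃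
        = (0 : ι →₀ ℤ) := by
      apply lc_inj hΔ
      · intro e he
        rw [Finset.mem_coe, Finsupp.mem_support_iff] at he
        by_contra hne
        apply he
        have e1 : d₁ ≠ e := fun h' => hne (h' ▸ h1)
        have e2 : d₂ ≠ e := fun h' => hne (h' ▸ h2)
        have e3 : d₃ ≠ e := fun h' => hne (h' ▸ h3)
        simp [Finsupp.single_apply, e1, e2, e3]
      · simp
      · show Finsupp.linearCombination ℤ P.root _ = Finsupp.linearCombination ℤ P.root 0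
        rw [map_add, map_add, Finsupp.linearCombination_single,
          Finsupp.linearCombination_single, Finsupp.linearCombination_single, map_zero]
        exact h
    have q1 := congrArg (fun c : ι →₀ ℤ => c d₁) hz
    have q2 := congrArg (fun c : ι →₀ ℤ => c d₂) hz
    have q3 := congrArg (fun c : ι →₀ ℤ => c d₃) hz
    simp [Finsupp.single_apply, h12, h13, h23, h12.symm, h13.symm, h23.symm] at q1 q2 q3
    exact ⟨q1, q2, q3⟩
  have hone : ∀ d₁ ∈ c.support, ∀ d₂ ∈ c.support, d₁ ≠ i → d₂ ≠ i → d₁ = d₂ := by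
    intro d₁ hd₁ d₂ hd₂ h1i h2i
    by_contra h12
    obtain ⟨hd₁Δ, n₁, hn₁, hm₁⟩ := hΔ₂R d₁ hd₁
    obtain ⟨hd₂Δ, n₂, hn₂, hm₂⟩ := hΔ₂R d₂ hd₂
    obtain ⟨x₁, y₁, e₁⟩ := Submodule.mem_span_pair.mp hm₁
    obtain ⟨x₂, y₂, e₂⟩ := Submodule.mem_span_pair.mp hm₂
    have e₁' : (n₁ : ℤ) • P.root d₁ = x₁ • P.root i + y₁ • P.root k := by
      rw [natCast_zsmul]; exact e₁.symm
    have e₂' : (n₂ : ℤ) • P.root d₂ = x₂ • P.root i + y₂ • P.root k := by
      rw [natCast_zsmul]; exact e₂.symm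
    have hrel : (y₂ * n₁) • P.root d₁ + (-(y₁ * n₂)) • P.root d₂ +
        (-(y₂ * x₁ - y₁ * x₂)) • P.root i = 0 := by
      have : (y₂ * n₁) • P.root d₁ + (-(y₁ * n₂)) • P.root d₂ +
          (-(y₂ * x₁ - y₁ * x₂)) • P.root i
          = y₂ • ((n₁:ℤ) • P.root d₁) + (-y₁) • ((n₂:ℤ) • P.root d₂) +
            (-(y₂ * x₁ - y₁ * x₂)) • P.root i := by
        module
      rw [this, e₁', e₂']; module
    obtain ⟨z1, z2, -⟩ := h3 d₁ d₂ i hd₁Δ hd₂Δ hiΔ h12 h1i h2i _ _ _ hrel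
    have hy₁ : y₁ = 0 := by
      rcases mul_eq_zero.mp (neg_eq_zero.mp z2) with h | h
      · exact h
      · omega
    have hrel2 : (n₁ : ℤ) • P.root d₁ + (0:ℤ) • P.root d₂ + (-x₁) • P.root i = 0 := by
      rw [e₁', hy₁]; module
    obtain ⟨w1, -, -⟩ := h3 d₁ d₂ i hd₁Δ hd₂Δ hiΔ h12 h1i h2i _ _ _ hrel2
    omega
  refine ⟨Δ, hΔ, hiΔ, ?_⟩
  by_cases hex : ∃ j ∈ c.support, j ≠ i
  · obtain ⟨j, hj, hji⟩ := hex
    refine ⟨j, (hΔ₂R j hj).1, (c i).toNat, (c j).toNat, ?_⟩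
    have hcdecomp : c = Finsupp.single i (c i) + Finsupp.single j (c j) := by
      ext e
      by_cases hei : e = i
      · subst hei; simp [Finsupp.single_apply, hji]
      · by_cases hej : e = j
        · subst hej; simp [Finsupp.single_apply, Ne.symm hei]
        · have : c e = 0 := by
            by_contra h
            exact hej (hone e (Finsupp.mem_support_iff.mpr h) j hj hei hji)
          simp [Finsupp.single_apply, this, Ne.symm hei, Ne.symm hej]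
    rw [← hlc]
    conv_lhs => rw [hcdecomp]
    show Finsupp.linearCombination ℤ P.root _ = _
    rw [map_add, Finsupp.linearCombination_single, Finsupp.linearCombination_single,
      ← natCast_zsmul, ← natCast_zsmul, Int.toNat_of_nonneg (hc0 i), Int.toNat_of_nonneg (hc0 j)]
  · push Not at hex
    refine ⟨i, hiΔ, (c i).toNat, 0, ?_⟩
    have hcdecomp : c = Finsupp.single i (c i) := by
      ext e
      by_cases hei : e = i
      · subst hei; simp
      · have : c e = 0 := by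
          by_contra h
          exact hei (hex e (Finsupp.mem_support_iff.mpr h))
        simp [Finsupp.single_apply, this, Ne.symm hei]
    rw [← hlc]
    conv_lhs => rw [hcdecomp]
    show Finsupp.linearCombination ℤ P.root _ = _
    rw [Finsupp.linearCombination_single, zero_smul, add_zero, ← natCast_zsmul,
      Int.toNat_of_nonneg (hc0 i)]

end Groth.Agent.S5464
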