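import Groth.Statements.S5472
import Groth.Agent.Lib.Helper8.RootDWord2

set_option autoImplicit false
open RootPairing
open scoped Pointwise
open RootD

namespace Groth.Agent.S5472

/-- Let Δ be a system of simple roots (root-only sense), γ a positive root and α, β simple roots with
(γ, α^v) > 0 and (γ, β^v) ≥ 0 (equivalently: the order of s_α(γ) along Δ is smaller than that of γ,
and the order of s_β(γ) is at most that of γ). Then for every w in the group generated by s_α and
s_β the order of w(γ) along Δ is at most that of γ, and strictly smaller unless w ∈ {1, s_β}. The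
order is the sum of the coefficients along Δ; the conclusion is stated for the coefficient vector c
of γ - w(γ) along Δ: its coefficient sum is ≥ 0, and > 0 unless w = 1 or w = s_β. -/
theorem result {ι M N : Type*} [AddCommGroup M] [AddCommGroup N]
    (P : RootPairing ι ℤ M N) [Finite ι] (Δ : Set ι) (hΔ : RootD.IsSimpleSys P Δ)
    (k i j : ι) (hk : k ∈ RootD.posOf P Δ) (hi : i ∈ Δ) (hj : j ∈ Δ)
    (hα : 0 < P.pairing k i) (hβ : 0 ≤ P.pairing k j)
    (g : P.Aut) (hg : g ∈ Subgroup.closure {Equiv.reflection P i, Equiv.reflection P j})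
    (c : ι →₀ ℤ) (hc : ↑c.support ⊆ Δ)
    (hck : Finsupp.linearCombination ℤ P.root c = P.root k - P.root (g • k)) :
    0 ≤ c.sum (fun _ a => a) ∧ (g ≠ 1 → g ≠ Equiv.reflection P j → 0 < c.sum (fun _ a => a)) := by
  classical
  have hS : ({i, j} : Set ι) ⊆ Δ := by
    intro x hx
    rcases hx with rfl | rfl
    · exact hi
    · exact hj
  have hgS : g ∈ Groth.Agent.Helper8.RD.weylSub P {i, j} := by
    have himg : (fun x : ι => Equiv.reflection P x) '' ({i, j} : Set ι) =
        {Equiv.reflection P i, Equiv.reflection P j} := Set.image_pair _ _ _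
    unfold Groth.Agent.Helper8.RD.weylSub
    rw [himg]
    exact hg
  obtain ⟨l, hl, rfl, hmin⟩ := Groth.Agent.Helper8.RD.exists_min_word hgS
  have hkS : ∀ a ∈ ({i, j} : Set ι), 0 ≤ P.pairing k a := by
    rintro a (rfl | rfl)
    · exact hα.le
    · exact hβ
  obtain ⟨h1, h2⟩ := Groth.Agent.Helper8.RD.ht_wprod_le hΔ hS k hkS l hl
    (fun l' hl' h' => hmin l' hl' h')
  have hsupp : ↑(Groth.Agent.Helper8.RD.coeff hΔ k -
      Groth.Agent.Helper8.RD.coeff hΔ (Groth.Agent.Helper8.RD.wprod P l • k)).support ⊆ Δ := by
    intro x hx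
    have h3 := Finsupp.support_sub hx
    rw [Finset.mem_union] at h3
    rcases h3 with h3 | h3
    · exact Groth.Agent.Helper8.RD.coeff_supp hΔ _ h3
    · exact Groth.Agent.Helper8.RD.coeff_supp hΔ _ h3
  have hceq : c = Groth.Agent.Helper8.RD.coeff hΔ k -
      Groth.Agent.Helper8.RD.coeff hΔ (Groth.Agent.Helper8.RD.wprod P l • k) := by
    apply Groth.Agent.Helper8.RD.lc_inj hΔ hc hsupp
    change Finsupp.linearCombination ℤ P.root c = Finsupp.linearCombination ℤ P.root _
    rw [hck, map_sub]
    change _ = Groth.Agent.Helper8.RD.lc P _ - Groth.Agent.Helper8.RD.lc P _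
    rw [Groth.Agent.Helper8.RD.coeff_lc, Groth.Agent.Helper8.RD.coeff_lc]
  have hsum : c.sum (fun _ a => a) = Groth.Agent.Helper8.RD.ht hΔ k -
      Groth.Agent.Helper8.RD.ht hΔ (Groth.Agent.Helper8.RD.wprod P l • k) := by
    rw [← Groth.Agent.Helper8.RD.tot_apply, hceq, map_sub]
    rfl
  rw [hsum]
  refine ⟨by omega, fun hg1 hgj => ?_⟩
  have hil : i ∈ l := by
    by_contra hil
    have hall : ∀ x ∈ l, x = j := by
      intro x hx
      rcases hl x hx with h | h
      · exact absurd (h ▸ hx) hil
      · exact h
    have hlen : l.length ≤ 1 := by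
      by_contra hlen
      match l, hl, hmin, hall, hlen with
      | [], _, _, _, hlen => simp at hlen
      | [_], _, _, _, hlen => simp at hlen
      | x :: y :: l'', hl, hmin, hall, _ =>
        have hx : x = j := hall x (by simp)
        have hy : y = j := hall y (by simp)
        have h4 := hmin l'' (fun a ha => hl a (by simp [ha])) (by
          rw [Groth.Agent.Helper8.RD.wprod_cons, Groth.Agent.Helper8.RD.wprod_cons, hx, hy,
            ← mul_assoc, Groth.Agent.Helper8.RD.refl_mul_self, one_mul])
        simp at h4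
    match l, hlen, hall, hg1, hgj with
    | [], _, _, hg1, _ => exact hg1 Groth.Agent.Helper8.RD.wprod_nil
    | [x], _, hall, _, hgj =>
      have hx : x = j := hall x (by simp)
      exact hgj (by rw [Groth.Agent.Helper8.RD.wprod_singleton, hx])
    | _ :: _ :: _, hlen, _, _, _ => simp at hlen
  have := h2 ⟨i, hil, hα⟩
  omega

end Groth.Agent.S5472
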