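import Groth.Statements.S5473
import Groth.Agent.Lib.Helper8.RootDPart

set_option autoImplicit false
open RootD

namespace Groth.Agent.S5473

/-- If a linear map f and its transpose g induce bijections from the roots of R' onto the roots of R and
from the coroots of R onto the coroots of R' respectively (a morphism of root data in the
two-bijection sense), then the two bijections correspond: the coroot of α' is g applied to the
coroot of f(α'). -/
theorem result {ι M N ι' M' N' : Type*} [AddCommGroup M] [AddCommGroup N] [AddCommGroup M'] [AddCommGroup N']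
    (P : RootPairing ι ℤ M N) (P' : RootPairing ι' ℤ M' N') [Finite ι] [Finite ι']
    (f : M' →ₗ[ℤ] M) (g : N →ₗ[ℤ] N') (hfg : ∀ (m' : M') (n : N), P.toLinearMap (f m') n = P'.toLinearMap m' (g n))
    (e : ι' ≃ ι) (he : ∀ i' : ι', f (P'.root i') = P.root (e i'))
    (e' : ι ≃ ι') (he' : ∀ i : ι, g (P.coroot i) = P'.coroot (e' i)) :
    ∀ i' : ι', g (P.coroot (e i')) = P'.coroot i' := by
  classical
  have : Fintype ι' := Fintype.ofFinite ι'
  have : Module.IsReflexive ℤ M' := .of_isPerfPair P'.toLinearMap
  -- the permutation `σ = e' ∘ e` of the roots of `P'`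
  let σ : ι' ≃ ι' := e.trans e'
  have hσ : ∀ i', σ i' = e' (e i') := fun _ => rfl
  -- `(α_{i'}, α_{σ i'}^v) = 2`
  have h2 : ∀ i' : ι', P'.pairing i' (σ i') = 2 := by
    intro i'
    rw [← P'.root_coroot_eq_pairing, hσ, ← he', ← hfg, he, P.root_coroot_eq_pairing, P.pairing_same]
  let B : ι' → ℤ := fun i' => P'.RootForm (P'.root i') (P'.root i')
  have hBpos : ∀ i', 0 < B i' := fun i' => Groth.Agent.Helper8.RD.rootForm_root_pos (P := P') i'
  -- the other pairing is `1` or `2`
  have hq : ∀ i' : ι', P'.pairing (σ i') i' = 1 ∨ P'.pairing (σ i') i' = 2 := by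
    intro i'
    have hset := P'.pairingIn_pairingIn_mem_set_of_isCrystallographic i' (σ i')
    rw [Groth.Agent.Helper8.RD.pairingIn_int, Groth.Agent.Helper8.RD.pairingIn_int, h2 i'] at hset
    simp only [Set.mem_insert_iff, Set.mem_singleton_iff, Prod.mk.injEq] at hset
    rcases hset with h | h | h | h | h | h | h | h | h | h | h | h | h | h | h | h | h <;>
      obtain ⟨ha, hb⟩ := h <;> omega
  have hrel : ∀ i' : ι', P'.pairing (σ i') i' * B i' = 2 * B (σ i') := by
    intro i'
    have := Groth.Agent.Helper8.RD.pairing_mul_rootForm (P := P') i' (σ i')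
    rw [h2 i'] at this
    exact this
  have hle : ∀ i' ∈ (Finset.univ : Finset ι'), B (σ i') ≤ B i' := by
    intro i' _
    have := hrel i'
    have hp := hBpos i'
    rcases hq i' with h | h <;> rw [h] at this <;> omega
  have hsum : ∑ i', B (σ i') = ∑ i', B i' := Equiv.sum_comp σ B
  have heq := (Finset.sum_eq_sum_iff_of_le hle).mp hsum
  intro i'
  have hfix : σ i' = i' := by
    have h3 := heq i' (Finset.mem_univ i')
    have h4 := hrel i'
    have hp := hBpos i'
    have h5 : P'.pairing (σ i') i' = 2 := by
      rcases hq i' with h | h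
      · rw [h] at h4; omega
      · exact h
    exact ((P'.pairing_two_two_iff i' (σ i')).mp ⟨h2 i', h5⟩).symm
  rw [he', ← hσ, hfix]

end Groth.Agent.S5473
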