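import Groth.Statements.S5474
import Mathlib
import Groth.Agent.Lib.Lead.RootD10

set_option autoImplicit false
open RootD

namespace Groth.Agent.S5474

/-- Every morphism between semisimple root data is an isogeny (injective on weight lattices with finite
cokernel). -/
theorem result {ι M N ι' M' N' : Type*} [AddCommGroup M] [AddCommGroup N] [AddCommGroup M'] [AddCommGroup N']
    (P : RootPairing ι ℤ M N) (P' : RootPairing ι' ℤ M' N') [Finite ι] [Finite ι']
    [Module.Finite ℤ M] [Module.Finite ℤ N] [Module.Finite ℤ M'] [Module.Finite ℤ N']
    (hss : Module.finrank ℤ (Submodule.span ℤ (Set.range P.root)) = Module.finrank ℤ M)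
    (hss' : Module.finrank ℤ (Submodule.span ℤ (Set.range P'.root)) = Module.finrank ℤ M')
    (f : RootPairing.Hom P' P) :
    Function.Injective f.weightMap ∧ Finite (M ⧸ LinearMap.range f.weightMap) := by
  classical
  have hT := Groth.Agent.Lead.RootD10.isTorsionFree_left P
  have hT' := Groth.Agent.Lead.RootD10.isTorsionFree_left P'
  have hle : Submodule.span ℤ (Set.range P.root) ≤ LinearMap.range f.weightMap := by
    rw [Submodule.span_le]
    rintro _ ⟨i, rfl⟩
    refine ⟨P'.root (f.indexEquiv.symm i), ?_⟩
    have := congrFun f.root_weightMap (f.indexEquiv.symm i)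
    simpa using this
  have hle' : Submodule.span ℤ (Set.range P'.coroot) ≤ LinearMap.range f.coweightMap := by
    rw [Submodule.span_le]
    rintro _ ⟨i, rfl⟩
    refine ⟨P.coroot (f.indexEquiv i), ?_⟩
    have := congrFun f.coroot_coweightMap (f.indexEquiv i)
    simpa using this
  have hr : Module.finrank ℤ (LinearMap.range f.weightMap) = Module.finrank ℤ M := by
    have h1 := Submodule.finrank_mono hle
    have h2 := Submodule.finrank_le (LinearMap.range f.weightMap)
    omega
  constructor
  · have hN' : Module.finrank ℤ N' ≤ Module.finrank ℤ N := by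
      have h1 := Submodule.finrank_mono hle'
      have h2 := LinearMap.finrank_range_le f.coweightMap
      have h3 := Groth.Agent.Lead.RootD10.finrank_corootSpan_eq_rootSpan P'
      have h4 := Groth.Agent.Lead.RootD10.finrank_left_eq_right P'
      omega
    have hMN := Groth.Agent.Lead.RootD10.finrank_left_eq_right P
    have hMN' := Groth.Agent.Lead.RootD10.finrank_left_eq_right P'
    have hk := Groth.Agent.Lead.RootD10.finrank_range_add_finrank_ker f.weightMap
    have hker : Module.finrank ℤ (LinearMap.ker f.weightMap) = 0 := by omega
    rw [Submodule.finrank_eq_zero] at hker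
    exact LinearMap.ker_eq_bot.mp hker
  · exact Submodule.finiteQuotientOfFreeOfRankEq _ hr

end Groth.Agent.S5474
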