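import Groth.Statements.S5475
import Groth.Agent.Lib.Helper8.RootDPart

set_option autoImplicit false
open RootD

namespace Groth.Agent.S5475

/-- In an adjoint root datum every indivisible root is an indivisible element of the weight lattice. -/
theorem result {ι M N : Type*} [AddCommGroup M] [AddCommGroup N]
    (P : RootPairing ι ℤ M N) [Finite ι] (had : Submodule.span ℤ (Set.range P.root) = ⊤)
    (i : ι) (hind : RootD.IsIndiv P i) (m : M) (n : ℤ) (h : n • m = P.root i) : n = 1 ∨ n = -1 := by
  obtain ⟨Δ, hΔ⟩ := Groth.Agent.Helper8.RD.exists_simpleSys P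
  obtain ⟨g, -, d, hd, hgd⟩ := Groth.Agent.Helper8.RD.exists_weylSub_smul_eq hΔ hind
  -- move everything to the simple root `d`
  have h1 : n • (g⁻¹ • m) = P.root d := by
    rw [smul_comm, h, ← hgd, Groth.Agent.Helper8.RD.aut_root, inv_smul_smul]
  have hmem : g⁻¹ • m ∈ Submodule.span ℤ (P.root '' Δ) := by
    have htop : g⁻¹ • m ∈ Submodule.span ℤ (Set.range P.root) := by rw [had]; trivial
    refine (Submodule.span_le.mpr ?_) htop
    rintro _ ⟨k, rfl⟩
    exact Groth.Agent.Helper8.RD.mem_span_iff_lc.mpr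
      ⟨Groth.Agent.Helper8.RD.coeff hΔ k, Groth.Agent.Helper8.RD.coeff_supp hΔ k,
        Groth.Agent.Helper8.RD.coeff_lc hΔ k⟩
  obtain ⟨c, hc, hcm⟩ := Groth.Agent.Helper8.RD.mem_span_iff_lc.mp hmem
  have h2 : n • c = Finsupp.single d 1 := by
    apply Groth.Agent.Helper8.RD.lc_inj hΔ
    · intro e he
      exact hc (Finsupp.support_smul he)
    · intro e he
      have := Finsupp.support_single_subset he
      rw [Finset.mem_singleton] at this
      exact this ▸ hd
    · rw [Groth.Agent.Helper8.RD.lc, map_smul, ← Groth.Agent.Helper8.RD.lc, hcm, h1]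
      simp [Groth.Agent.Helper8.RD.lc]
  have h3 := congrArg (fun f : ι →₀ ℤ => f d) h2
  simp only [Finsupp.smul_apply, smul_eq_mul, Finsupp.single_eq_same] at h3
  exact Int.isUnit_iff.mp (IsUnit.of_mul_eq_one _ h3)

end Groth.Agent.S5475
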