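import Groth.Statements.S5479
import Groth.Agent.Lib.Helper8.RootDWord

set_option autoImplicit false
open RootPairing
open scoped Pointwise
open RootD

namespace Groth.Agent.S5479

/-- Aut(R) is the semidirect product of the Weyl group by the stabiliser E_Δ of a system of simple
roots: every automorphism is uniquely w · e with w ∈ W and e(Δ) = Δ. -/
theorem result {ι M N : Type*} [AddCommGroup M] [AddCommGroup N]
    (P : RootPairing ι ℤ M N) [Finite ι] (Δ : Set ι) (hΔ : RootD.IsSimpleSys P Δ) (u : P.Aut) :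
    ∃! w : P.weylGroup, (fun i : ι => ((w : P.Aut)⁻¹ * u) • i) '' Δ = Δ := by
  classical
  obtain ⟨g, hg, hgΔ⟩ := Groth.Agent.Helper8.RD.exists_weyl_smul_eq hΔ
    (Groth.Agent.Helper8.RD.isSimpleSys_smul hΔ u)
  have key : ∀ w : P.Aut, ((fun i : ι => (w⁻¹ * u) • i) '' Δ = Δ) ↔ w • Δ = u • Δ := by
    intro w
    change (w⁻¹ * u) • Δ = Δ ↔ _
    rw [mul_smul]
    constructor
    · intro h
      rw [← h, smul_inv_smul, h]
    · intro h
      rw [← h, inv_smul_smul]
  refine ⟨⟨g, hg⟩, (key g).mpr hgΔ, ?_⟩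
  rintro ⟨w, hw⟩ hwΔ
  have h1 : w • Δ = u • Δ := (key w).mp hwΔ
  have h2 : (g⁻¹ * w) • Δ = Δ := by
    rw [mul_smul, h1, ← hgΔ, inv_smul_smul]
  have h3 : g⁻¹ * w = 1 :=
    Groth.Agent.Helper8.RD.eq_one_of_smul_eq hΔ (mul_mem (inv_mem hg) hw) h2
  apply Subtype.ext
  show w = g
  have := inv_mul_eq_one.mp h3
  exact this.symm

end Groth.Agent.S5479
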