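import Groth.Statements.S5482
import Groth.Agent.Lib.Helper8.RootDPart

set_option autoImplicit false
open RootD

namespace Groth.Agent.S5482

/-- If the roots are partitioned into two closed symmetric subsets R', R'', then with Δ' = Δ ∩ R', Δ'' =
Δ ∩ R'' for a system of simple roots Δ one has R' = R_{Δ'}, R'' = R_{Δ''}, and Δ' is orthogonal to
Δ''. -/
theorem result {ι M N : Type*} [AddCommGroup M] [AddCommGroup N]
    (P : RootPairing ι ℤ M N) [Finite ι] (Δ : Set ι) (hΔ : RootD.IsSimpleSys P Δ) (R' : Set ι)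
    (hc : RootD.IsClosedSub P R') (hs : RootD.IsSymmSub P R') (hc' : RootD.IsClosedSub P R'ᶜ)
    (hs' : RootD.IsSymmSub P R'ᶜ) :
    R' = RootD.inSpan P (Δ ∩ R') ∧ R'ᶜ = RootD.inSpan P (Δ \ R') ∧
      ∀ i ∈ Δ ∩ R', ∀ j ∈ Δ \ R', P.IsOrthogonal i j := by
  have horth : ∀ i ∈ Δ ∩ R', ∀ j ∈ Δ \ R', P.IsOrthogonal i j := by
    intro i hi j hj
    by_contra h
    exact hj.2 (Groth.Agent.Helper8.RD.part_mem_of_not_orth P hc hs hc' hs' hi.2 h)
  have hdiff : Δ \ (Δ ∩ R') = Δ \ R' := by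
    ext x
    simp only [Set.mem_sdiff, Set.mem_inter_iff, not_and]
    constructor
    · rintro ⟨h1, h2⟩
      exact ⟨h1, h2 h1⟩
    · rintro ⟨h1, h2⟩
      exact ⟨h1, fun _ => h2⟩
  have hpart : ∀ k : ι, ¬ (k ∈ RootD.inSpan P (Δ ∩ R') ∧ k ∈ RootD.inSpan P (Δ \ R')) := by
    intro k
    have := (Groth.Agent.Helper8.RD.inSpan_partition hΔ (Δ' := Δ ∩ R') Set.inter_subset_left
      (by rw [hdiff]; exact horth) k).2
    rw [hdiff] at this
    exact this
  have h1 : R' ⊆ RootD.inSpan P (Δ ∩ R') :=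
    Groth.Agent.Helper8.RD.part_subset_inSpan hΔ hc hs hc' hs'
  have h2 : R'ᶜ ⊆ RootD.inSpan P (Δ \ R') := by
    have hcc : RootD.IsClosedSub P R'ᶜᶜ := by rw [compl_compl]; exact hc
    have hss : RootD.IsSymmSub P R'ᶜᶜ := by rw [compl_compl]; exact hs
    have := Groth.Agent.Helper8.RD.part_subset_inSpan hΔ hc' hs' hcc hss
    exact this
  refine ⟨?_, ?_, horth⟩
  · apply Set.Subset.antisymm h1
    intro k hk
    by_contra hkR
    exact hpart k ⟨hk, h2 hkR⟩
  · apply Set.Subset.antisymm h2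
    intro k hk hkR
    exact hpart k ⟨h1 hkR, hk⟩

end Groth.Agent.S5482
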