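import Groth.Statements.S5486
import Groth.Agent.Lib.Lead.RootDBasic

set_option autoImplicit false
open RootD

namespace Groth.Agent.S5486

/-- For orthogonal roots α, β, the sum α + β is a root if and only if the difference α - β is. -/
theorem result {ι M N : Type*} [AddCommGroup M] [AddCommGroup N]
    (P : RootPairing ι ℤ M N) [Finite ι] (i j : ι) (h : P.IsOrthogonal i j) :
    P.root i + P.root j ∈ Set.range P.root ↔ P.root i - P.root j ∈ Set.range P.root := by
  exact Groth.Agent.Lead.RootDBasic.add_mem_iff_sub_mem_of_orth P i j h

end Groth.Agent.S5486
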