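import Groth.Statements.S5494
import Groth.Agent.Lib.Helper8.RootDPart

set_option autoImplicit false
open RootD

namespace Groth.Agent.S5494

/-- If a system of simple roots has no partition into two non-empty orthogonal subsets, then any two
roots are linked by a chain of roots with consecutive members non-orthogonal. -/
theorem result {ι M N : Type*} [AddCommGroup M] [AddCommGroup N]
    (P : RootPairing ι ℤ M N) [Finite ι] (Δ : Set ι) (hΔ : RootD.IsSimpleSys P Δ)
    (hconn : ∀ Δ' : Set ι, Δ' ⊆ Δ → (∀ i ∈ Δ', ∀ j ∈ Δ \ Δ', P.IsOrthogonal i j) → Δ' = ∅ ∨ Δ' = Δ)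
    (i j : ι) : Relation.ReflTransGen (fun a b : ι => ¬ P.IsOrthogonal a b) i j := by
  -- the class `C` of `i` under the relation
  set C : Set ι := {j : ι | Relation.ReflTransGen (fun a b : ι => ¬ P.IsOrthogonal a b) i j} with hC
  have key : ∀ {j1 j2 k : ι}, P.root k = P.root j1 + P.root j2 →
      ¬ P.IsOrthogonal j1 k ∨ ¬ P.IsOrthogonal j2 k := by
    intro j1 j2 k h
    have h2 : P.pairing k k = P.pairing j1 k + P.pairing j2 k := P.pairing_eq_add_of_root_eq_add h
    rw [P.pairing_same] at h2
    by_contra hcon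
    rw [not_or, not_not, not_not] at hcon
    rw [hcon.1.1, hcon.2.1] at h2
    norm_num at h2
  have hnegorth : ∀ j : ι, ¬ P.IsOrthogonal j (P.reflectionPerm j j) := by
    intro j h
    have := h.1
    rw [P.pairing_reflectionPerm_self_right, P.pairing_same] at this
    norm_num at this
  have hc : RootD.IsClosedSub P C := by
    intro j1 j2 k h1 h2 h
    rcases key h with h' | h'
    · exact Relation.ReflTransGen.tail h1 h'
    · exact Relation.ReflTransGen.tail h2 h'
  have hs : RootD.IsSymmSub P C := by
    intro j hj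
    exact Relation.ReflTransGen.tail hj (hnegorth j)
  have hc' : RootD.IsClosedSub P Cᶜ := by
    intro j1 j2 k h1 h2 h hk
    rcases key h with h' | h'
    · exact h1 (Relation.ReflTransGen.tail hk (fun ho => h' ho.symm))
    · exact h2 (Relation.ReflTransGen.tail hk (fun ho => h' ho.symm))
  have hs' : RootD.IsSymmSub P Cᶜ := by
    intro j hj hj'
    exact hj (Relation.ReflTransGen.tail hj' (fun ho => hnegorth j ho.symm))
  have hiC : i ∈ C := Relation.ReflTransGen.refl
  have horth : ∀ a ∈ Δ ∩ C, ∀ b ∈ Δ \ (Δ ∩ C), P.IsOrthogonal a b := by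
    intro a ha b hb
    by_contra h
    have hbC : b ∈ C := Groth.Agent.Helper8.RD.part_mem_of_not_orth P hc hs hc' hs' ha.2 h
    exact hb.2 ⟨hb.1, hbC⟩
  have hsub : C ⊆ RootD.inSpan P (Δ ∩ C) :=
    Groth.Agent.Helper8.RD.part_subset_inSpan hΔ hc hs hc' hs'
  rcases hconn (Δ ∩ C) Set.inter_subset_left horth with h0 | h1
  · -- impossible: `i ∈ C` but the span of the empty set is zero
    exfalso
    have hi := hsub hiC
    rw [h0] at hi
    have : P.root i ∈ Submodule.span ℤ (P.root '' (∅ : Set ι)) := hi
    rw [Set.image_empty, Submodule.span_empty, Submodule.mem_bot] at this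
    exact P.ne_zero i this
  · -- `Δ ⊆ C`, so `Cᶜ` contains no simple root and must be empty
    have hΔC : Δ ⊆ C := by
      intro d hd
      have : d ∈ Δ ∩ C := by rw [h1]; exact hd
      exact this.2
    have hcc : RootD.IsClosedSub P Cᶜᶜ := by rw [compl_compl]; exact hc
    have hss : RootD.IsSymmSub P Cᶜᶜ := by rw [compl_compl]; exact hs
    have hsub' : Cᶜ ⊆ RootD.inSpan P (Δ ∩ Cᶜ) :=
      Groth.Agent.Helper8.RD.part_subset_inSpan hΔ hc' hs' hcc hss
    have hempty : Δ ∩ Cᶜ = ∅ := by
      ext d
      simp only [Set.mem_inter_iff, Set.mem_compl_iff, Set.mem_empty_iff_false, iff_false, not_and,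
        not_not]
      exact fun hd => hΔC hd
    by_contra hj
    have hjC : j ∈ Cᶜ := hj
    have hj' := hsub' hjC
    rw [hempty] at hj'
    have : P.root j ∈ Submodule.span ℤ (P.root '' (∅ : Set ι)) := hj'
    rw [Set.image_empty, Submodule.span_empty, Submodule.mem_bot] at this
    exact P.ne_zero j this

end Groth.Agent.S5494
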