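import Groth.Statements.S5499
import Mathlib
import Groth.Agent.Lib.Lead.RootD13

set_option autoImplicit false
open RootD

namespace Groth.Agent.S5499

/-- For an irreducible datum, where long(α) = ℓ(α)/ℓ(α₀) with ℓ(α₀) minimal: there is a unique
homomorphism u : Γ_0(R) → M^v with u(α) = long(α) α^v for every root α. -/
theorem result {ι M N : Type*} [AddCommGroup M] [AddCommGroup N]
    (P : RootPairing ι ℤ M N) [Finite ι] [Fintype ι]
    (hirr : ∀ R' : Set ι, RootD.IsClosedSub P R' → RootD.IsSymmSub P R' → RootD.IsClosedSub P R'ᶜ →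
      RootD.IsSymmSub P R'ᶜ → R' = ∅ ∨ R' = Set.univ)
    (i₀ : ι) (hmin : ∀ i : ι, P.RootForm (P.root i₀) (P.root i₀) ≤ P.RootForm (P.root i) (P.root i)) :
    ∃! u : Submodule.span ℤ (Set.range P.root) →+ N, ∀ i : ι,
      u ⟨P.root i, Submodule.subset_span (Set.mem_range_self i)⟩ =
        (P.RootForm (P.root i) (P.root i) / P.RootForm (P.root i₀) (P.root i₀)) • P.coroot i := by
  have hirr' : Groth.Agent.Helper8.RD.Irred P := hirr
  have hdiv : ∀ i : ι, P.RootForm (P.root i₀) (P.root i₀) *
      (P.RootForm (P.root i) (P.root i) / P.RootForm (P.root i₀) (P.root i₀)) =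
      P.RootForm (P.root i) (P.root i) := fun i =>
    Int.mul_ediv_cancel' (Groth.Agent.Lead.RootD13.dvd_rootForm_of_min hirr' i₀ hmin i)
  have htf := Groth.Agent.Lead.RootD10.isTorsionFree_left P.flip
  have hpos := Groth.Agent.Helper8.RD.rootForm_root_pos (P := P) i₀
  refine Groth.Agent.Helper8.RD.existsUnique_addHom (P := P)
    (fun i => (P.RootForm (P.root i) (P.root i) / P.RootForm (P.root i₀) (P.root i₀)) • P.coroot i)
    ?_ ?_
  · intro i
    have h1 : P.RootForm (P.root (P.reflectionPerm i i)) (P.root (P.reflectionPerm i i)) =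
        P.RootForm (P.root i) (P.root i) := by
      rw [Groth.Agent.Helper8.RD.root_neg]
      simp
    simp only [h1, Groth.Agent.Helper8.RD.coroot_neg, smul_neg]
  · intro i j k h
    have e : P.RootForm (P.root k) (P.root k) • P.coroot k =
        P.RootForm (P.root i) (P.root i) • P.coroot i +
          P.RootForm (P.root j) (P.root j) • P.coroot j := by
      rw [P.rootForm_self_smul_coroot, P.rootForm_self_smul_coroot, P.rootForm_self_smul_coroot,
        h, map_add, smul_add]
    have e2 : P.RootForm (P.root i₀) (P.root i₀) •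
        ((P.RootForm (P.root k) (P.root k) / P.RootForm (P.root i₀) (P.root i₀)) • P.coroot k) =
        P.RootForm (P.root i₀) (P.root i₀) •
        ((P.RootForm (P.root i) (P.root i) / P.RootForm (P.root i₀) (P.root i₀)) • P.coroot i +
          (P.RootForm (P.root j) (P.root j) / P.RootForm (P.root i₀) (P.root i₀)) • P.coroot j) := by
      rw [smul_add, smul_smul, smul_smul, smul_smul, hdiv, hdiv, hdiv, e]
    exact smul_right_injective N hpos.ne' e2

end Groth.Agent.S5499
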