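import Groth.Statements.S5502
import Mathlib
import Groth.Agent.Lib.Lead.RootD12

set_option autoImplicit false
open RootD

namespace Groth.Agent.S5502

/-- If β = Σ_{α ∈ Δ} a_α α along a system of simple roots Δ, then ℓ(β) divides 2 a_α ℓ(α), and 2ℓ(β)
divides it when α^v is indivisible (ℓ the canonical quadratic form). -/
theorem result {ι M N : Type*} [AddCommGroup M] [AddCommGroup N]
    (P : RootPairing ι ℤ M N) [Finite ι] [Fintype ι] (Δ : Set ι) (hΔ : RootD.IsSimpleSys P Δ)
    (k : ι) (c : ι →₀ ℤ) (hc : ↑c.support ⊆ Δ) (hck : Finsupp.linearCombination ℤ P.root c = P.root k)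
    (i : ι) (hi : i ∈ Δ) :
    P.RootForm (P.root k) (P.root k) ∣ 2 * c i * P.RootForm (P.root i) (P.root i) ∧
      (RootD.IsIndiv P.flip i → 2 * P.RootForm (P.root k) (P.root k) ∣ 2 * c i * P.RootForm (P.root i) (P.root i)) := by
  classical
  obtain ⟨c2, hs2, hlc2, hdiv2⟩ := Groth.Agent.Lead.RootD12.exists_two_smul_coroot hΔ k
  have h1 : (2 : ℤ) • P.Polarization (P.root k) =
      P.RootForm (P.root k) (P.root k) • P.coroot k := by
    have := Groth.Agent.Helper8.RD.two_smul_polarization_sum (P := P) {k} (fun _ => 1)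
    simp only [Finset.sum_singleton, one_smul, one_mul] at this
    exact this
  have h2 : (2 : ℤ) • P.Polarization (P.root k) =
      ∑ d ∈ c.support, (c d * P.RootForm (P.root d) (P.root d)) • P.coroot d := by
    have := Groth.Agent.Helper8.RD.two_smul_polarization_sum (P := P) c.support (fun d => c d)
    rw [← hck, Finsupp.linearCombination_apply, Finsupp.sum]
    exact this
  have hf1 : ∀ d, 2 * c d * P.RootForm (P.root d) (P.root d) ≠ 0 → d ∈ c.support := by
    intro d hd
    rw [Finsupp.mem_support_iff]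
    intro h0
    exact hd (by rw [h0]; ring)
  obtain ⟨c1, hc1⟩ : ∃ c1 : ι →₀ ℤ, c1 = Finsupp.onFinset c.support
    (fun d => 2 * c d * P.RootForm (P.root d) (P.root d)) hf1 := ⟨_, rfl⟩
  have h3 : Finsupp.linearCombination ℤ P.coroot c1 =
      (2 : ℤ) • ∑ d ∈ c.support, (c d * P.RootForm (P.root d) (P.root d)) • P.coroot d := by
    rw [Finsupp.linearCombination_apply, hc1,
      Finsupp.onFinset_sum (g := fun i a => a • P.coroot i) hf1 (fun a => zero_smul ℤ _), Finset.smul_sum]
    refine Finset.sum_congr rfl fun d _ => ?_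
    rw [smul_smul, mul_assoc]
  have h4 : Finsupp.linearCombination ℤ P.coroot c1 =
      Finsupp.linearCombination ℤ P.coroot (P.RootForm (P.root k) (P.root k) • c2) := by
    rw [h3, ← h2, h1, map_smul, hlc2, smul_comm]
  have h5 : c1 = P.RootForm (P.root k) (P.root k) • c2 := by
    refine Groth.Agent.Helper8.RD.lc_inj' (P := P.flip)
      (Groth.Agent.Helper8.RD.linearIndepOn_coroot hΔ) ?_ ?_ h4
    · intro d hd
      rw [hc1] at hd
      exact hc (Finsupp.support_onFinset_subset (Finset.mem_coe.mp hd))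
    · intro d hd
      exact hs2 (Finsupp.support_smul (Finset.mem_coe.mp hd))
  have h6 : 2 * c i * P.RootForm (P.root i) (P.root i) =
      P.RootForm (P.root k) (P.root k) * c2 i := by
    have := DFunLike.congr_fun h5 i
    simpa [hc1, Finsupp.onFinset_apply] using this
  refine ⟨⟨c2 i, h6⟩, fun hind => ?_⟩
  obtain ⟨t, ht⟩ := hdiv2 i hind
  exact ⟨t, by rw [h6, ht]; ring⟩

end Groth.Agent.S5502
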