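import Groth.Statements.S5504
import Groth.Agent.Lib.Helper8.RootDWord

set_option autoImplicit false
open RootPairing
open scoped Pointwise
open RootD

namespace Groth.Agent.S5504

/-- Stated for the group generated by the simple reflections (rather than for the abstractly presented
group): if w = s_{α_1} ⋯ s_{α_m} is a word of minimal length in the simple reflections, then w(α_m)
is a negative root. -/
theorem result {ι M N : Type*} [AddCommGroup M] [AddCommGroup N]
    (P : RootPairing ι ℤ M N) [Finite ι] (Δ : Set ι) (hΔ : RootD.IsSimpleSys P Δ)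
    (l : List ι) (hl : ∀ a ∈ l, a ∈ Δ) (hne : l ≠ [])
    (hmin : ∀ l' : List ι, (∀ a ∈ l', a ∈ Δ) →
      (l'.map fun a => Equiv.reflection P a).prod = (l.map fun a => Equiv.reflection P a).prod → l.length ≤ l'.length) :
    -P.root ((l.map fun a => Equiv.reflection P a).prod • l.getLast hne) ∈ RootD.natSpan P Δ := by
  classical
  obtain ⟨l₀, a, rfl⟩ : ∃ l₀ a, l = l₀ ++ [a] := by
    rcases List.eq_nil_or_concat l with h | ⟨l₀, a, h⟩
    · exact absurd h hne
    · exact ⟨l₀, a, by rw [h, List.concat_eq_append]⟩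
  have hlast : (l₀ ++ [a]).getLast hne = a := by simp
  rw [hlast]
  have hpos : Groth.Agent.Helper8.RD.wprod P l₀ • a ∈ RootD.posOf P Δ :=
    Groth.Agent.Helper8.RD.wprod_smul_mem_posOf hΔ l₀ a hl hmin
  have hw : ((l₀ ++ [a]).map fun a => Equiv.reflection P a).prod =
      Groth.Agent.Helper8.RD.wprod P l₀ * Equiv.reflection P a := by
    change Groth.Agent.Helper8.RD.wprod P (l₀ ++ [a]) = _
    rw [Groth.Agent.Helper8.RD.wprod_append, Groth.Agent.Helper8.RD.wprod_singleton]
  rw [hw, mul_smul, Groth.Agent.Helper8.RD.refl_smul_idx, Groth.Agent.Helper8.RD.aut_root,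
    Groth.Agent.Helper8.RD.root_neg, smul_neg, neg_neg, ← Groth.Agent.Helper8.RD.aut_root]
  exact hpos

end Groth.Agent.S5504
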