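import Groth.Statements.S5578

set_option autoImplicit false
open CategoryTheory CategoryTheory.Limits Opposite
universe u
open ToposFin

namespace Groth.Agent.S5578

/-- For the topos of sheaves of sets on a small site: every monomorphism is quasi-separated, i.e. its
diagonal is a quasi-compact morphism. -/
theorem result {C : Type u} [SmallCategory C] {J : GrothendieckTopology C}
    {X Y : ToposFin.Sh J} (u : X ⟶ Y) [Mono u] : ToposFin.IsQSHom u := by
  have hiso : ∀ {X Y : ToposFin.Sh J} (f : X ⟶ Y) [IsIso f], ToposFin.IsQCHom f := by
    intro X Y f _ Y' g hY' ι F π hπ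
    have h1 : Sigma.desc (fun i => π i ≫ pullback.snd f g) = Sigma.desc π ≫ pullback.snd f g := by
      apply Sigma.hom_ext
      intro i
      simp
    have : Epi (Sigma.desc (fun i => π i ≫ pullback.snd f g)) := by
      rw [h1]
      infer_instance
    obtain ⟨s, hs⟩ := hY' ι F _ this
    refine ⟨s, ?_⟩
    have h2 : Sigma.desc (fun i : s => π i) =
        Sigma.desc (fun i : s => π i ≫ pullback.snd f g) ≫ inv (pullback.snd f g) := by
      apply Sigma.hom_ext
      intro i
      simp
    rw [h2]
    infer_instance
  exact hiso (pullback.diagonal u)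

end Groth.Agent.S5578
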