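import Groth.Statements.S5580
import Groth.Agent.Lib.Helper5.ToposFin11

set_option autoImplicit false
open CategoryTheory CategoryTheory.Limits Opposite
universe u
open ToposFin

namespace Groth.Agent.S5580

/-- Quasi-compact and coherent cases: for the topos of sheaves of sets on a small site: let (X_i) be a
finite family of objects with coproduct X (given as a colimit cofan) and f : X -> Y a morphism with
components f_i : X_i -> Y. Then f is quasi-compact (resp. coherent) if and only if every f_i is. -/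
theorem result {C : Type u} [SmallCategory C] {J : GrothendieckTopology C}
    {Y : ToposFin.Sh J} {n : ℕ} (X : Fin n → ToposFin.Sh J) (c : Cofan X) (hc : IsColimit c)
    (f : c.pt ⟶ Y) :
    (ToposFin.IsQCHom f ↔ ∀ i, ToposFin.IsQCHom (c.inj i ≫ f)) ∧
    (ToposFin.IsCohHom f ↔ ∀ i, ToposFin.IsCohHom (c.inj i ≫ f)) := by
  have hje : Groth.Agent.Helper5.ToposFin.JE c.inj :=
    fun Z a b hab => Cofan.IsColimit.hom_ext hc _ _ hab
  have hinj : ∀ i, ToposFin.IsQCHom (c.inj i) := fun i =>
    Groth.Agent.Helper5.ToposFin.isQCHom_inj (Groth.Agent.Helper5.ToposFin.cofanULift c)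
      (Groth.Agent.Helper5.ToposFin.isColimitCofanULift c hc) ⟨i⟩
  have hmono : ∀ i, Mono (c.inj i) := fun i =>
    Groth.Agent.Helper5.ToposFin.mono_inj (Groth.Agent.Helper5.ToposFin.cofanULift c)
      (Groth.Agent.Helper5.ToposFin.isColimitCofanULift c hc) ⟨i⟩
  have h1 : ToposFin.IsQCHom f ↔ ∀ i, ToposFin.IsQCHom (c.inj i ≫ f) :=
    ⟨fun h i => Groth.Agent.Helper5.ToposFin.isQCHom_comp _ _ (hinj i) h,
      fun h => Groth.Agent.Helper5.ToposFin.isQCHom_of_finite_je f X c.inj hje h⟩
  have h2 : ToposFin.IsQSHom f ↔ ∀ i, ToposFin.IsQSHom (c.inj i ≫ f) :=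
    ⟨fun h i => by
      haveI := hmono i
      exact Groth.Agent.Helper5.ToposFin.isQSHom_comp _ _
        (Groth.Agent.Helper5.ToposFin.isQSHom_of_mono _) h,
      fun h => Groth.Agent.Helper5.ToposFin.isQSHom_of_cofan
        (Groth.Agent.Helper5.ToposFin.cofanULift c)
        (Groth.Agent.Helper5.ToposFin.isColimitCofanULift c hc) f (fun k => h k.down)⟩
  refine ⟨h1, ?_⟩
  unfold ToposFin.IsCohHom
  rw [h1, h2]
  exact forall_and.symm

end Groth.Agent.S5580
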