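import Groth.Statements.S5586
import Groth.Agent.Lib.Helper5.ToposFin8

set_option autoImplicit false
open CategoryTheory CategoryTheory.Limits Opposite
universe u
open ToposFin

namespace Groth.Agent.S5586

/-- Quasi-separated and coherent cases: for an algebraic topos of sheaves of sets on a small site: let f
: X -> Y be a morphism and (Y_i -> Y) a jointly epimorphic family. If the Y_i are quasi-separated
(resp. coherent), then f is quasi-separated (resp. coherent) if and only if every X x_Y Y_i is a
quasi-separated (resp. coherent) object. -/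
theorem result {C : Type u} [SmallCategory C]
    {J : GrothendieckTopology C} (hE : ToposFin.IsAlgebraic J) {X Y : ToposFin.Sh J} (f : X ⟶ Y)
    {ι : Type u} (Yi : ι → ToposFin.Sh J) (g : ∀ i, Yi i ⟶ Y)
    (hg : ∀ (Z : ToposFin.Sh J) (a b : Y ⟶ Z), (∀ i, g i ≫ a = g i ≫ b) → a = b) :
    ((∀ i, ToposFin.IsQS (Yi i)) → (ToposFin.IsQSHom f ↔ ∀ i, ToposFin.IsQS (pullback f (g i)))) ∧
    ((∀ i, ToposFin.IsCoherent (Yi i)) →
      (ToposFin.IsCohHom f ↔ ∀ i, ToposFin.IsCoherent (pullback f (g i)))) := by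
  have hg' : Groth.Agent.Helper5.ToposFin.JE g := fun Z a b h => hg Z a b h
  have hE' := Groth.Agent.Helper5.ToposFin.hasQCGenerators_of_isAlgebraic hE
  refine ⟨fun hY => ⟨fun hf i => ?_, fun h => ?_⟩, fun hY => ⟨fun hf i => ?_, fun h => ?_⟩⟩
  · exact Groth.Agent.Helper5.ToposFin.isQS_of_isQSHom (pullback.snd f (g i))
      (Groth.Agent.Helper5.ToposFin.isQSHom_of_isPullback (IsPullback.of_hasPullback f (g i)) hf) (hY i)
  · exact Groth.Agent.Helper5.ToposFin.isQSHom_of_local_isPullback hE' f g hg' _ _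
      (fun i => IsPullback.of_hasPullback f (g i))
      (fun i => Groth.Agent.Helper5.ToposFin.isQSHom_of_isQS_of_isAlgebraic hE _ (h i))
  · exact ⟨Groth.Agent.Helper5.ToposFin.isQC_of_isQCHom (pullback.snd f (g i))
        (Groth.Agent.Helper5.ToposFin.isQCHom_pullback_snd _ _ hf.1) (hY i).1,
      Groth.Agent.Helper5.ToposFin.isQS_of_isQSHom (pullback.snd f (g i))
        (Groth.Agent.Helper5.ToposFin.isQSHom_of_isPullback (IsPullback.of_hasPullback f (g i)) hf.2)
        (hY i).2⟩
  · exact ⟨Groth.Agent.Helper5.ToposFin.isQCHom_of_local_isPullback hE' f g hg' _ _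
        (fun i => IsPullback.of_hasPullback f (g i))
        (fun i => Groth.Agent.Helper5.ToposFin.isQCHom_of_isQC_of_isQS _ (h i).1 (hY i).2),
      Groth.Agent.Helper5.ToposFin.isQSHom_of_local_isPullback hE' f g hg' _ _
        (fun i => IsPullback.of_hasPullback f (g i))
        (fun i => Groth.Agent.Helper5.ToposFin.isQSHom_of_isQS_of_isAlgebraic hE _ (h i).2)⟩

end Groth.Agent.S5586
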