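import Groth.Statements.S5612
import Groth.Agent.Lib.Helper11.MPC13
import Groth.Agent.Lib.Helper11.TorAmp8
open CategoryTheory Limits DerivedCategory Pretriangulated ZeroObject Groth.Agent.Helper11.MPC Groth.Agent.Helper11.DC Groth.Agent.Helper11.GenRes Groth.Agent.Helper11.TA

set_option autoImplicit false
universe u
open CategoryTheory CategoryTheory.Limits
attribute [local instance] HasDerivedCategory.standard
open DRing

namespace Groth.Agent.S5612

/-- Let A be a commutative ring all of whose modules have finite tor dimension (for instance A of finite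
global dimension) and K ∈ D(A). (i) K has finite tor dimension if and only if K has bounded
cohomology. (ii) K is perfect if and only if K has bounded cohomology and is pseudo-coherent. -/
theorem result {A : Type u} [CommRing A]
    (hA : ∀ (M : Type u) [AddCommGroup M] [Module A M], DRing.HasFiniteTorDim A M) (K : Dual.D A) :
    (DRing.HasFiniteTorDimCx A K ↔ ∃ a b : ℤ, ∀ i : ℤ, i < a ∨ b < i → Subsingleton (Dual.HD A K i)) ∧
      (DRing.IsPerfect A K ↔
        (∃ a b : ℤ, ∀ i : ℤ, i < a ∨ b < i → Subsingleton (Dual.HD A K i)) ∧ DRing.IsPseudoCoherent' A K) := by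
  have hbdd_of_torVan : ∀ a b : ℤ, TorVan a b K →
      ∀ i : ℤ, i < a ∨ b < i → Subsingleton (Dual.HD A K i) := by
    intro a b h i hi
    obtain ⟨P, c, hc, hp, ⟨e⟩, hv⟩ := h
    have hz : IsZero ((homologyFunctor (ModuleCat.{u} A) i).obj K) :=
      IsZero.of_iso (isZero_homology_of_torVanCx P hv i hi)
        ((homologyFunctor (ModuleCat.{u} A) i).mapIso e.symm)
    exact ModuleCat.subsingleton_of_isZero hz
  have htorVan_of_bdd : (∃ a b : ℤ, ∀ i : ℤ, i < a ∨ b < i → Subsingleton (Dual.HD A K i)) →
      ∃ a b : ℤ, TorVan a b K := by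
    rintro ⟨c, d, hcd⟩
    choose n hn using fun i : ℤ => hA (Dual.HD A K i)
    let N : ℕ := (Finset.Icc c d).sup n
    refine ⟨c - N, d, torVan_of_homology K c d (fun i hi => ?_) (fun i => ?_)⟩
    · haveI := hcd i hi
      exact ModuleCat.isZero_of_subsingleton _
    · by_cases hi : c ≤ i ∧ i ≤ d
      · have hle : n i ≤ N := Finset.le_sup (f := n) (Finset.mem_Icc.mpr hi)
        have h1 : TorVan (-(n i : ℤ)) 0 ((singleFunctor (ModuleCat.{u} A) 0).obj
            ((homologyFunctor (ModuleCat.{u} A) i).obj K)) := by
          rw [torVan_single_iff]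
          intro M p hp
          haveI := hn i M p hp
          exact ModuleCat.isZero_of_subsingleton _
        exact h1.mono (by have : (n i : ℤ) ≤ (N : ℤ) := by exact_mod_cast hle
                          omega) (by omega)
      · refine TorVan.zero _ _ _ (Functor.map_isZero _ ?_)
        haveI := hcd i (by omega)
        exact ModuleCat.isZero_of_subsingleton _
  constructor
  · constructor
    · rintro ⟨a, b, h⟩
      exact ⟨a, b, hbdd_of_torVan a b (torVan_of_hasTorAmplitudeIn h)⟩
    · intro h
      obtain ⟨a, b, hv⟩ := htorVan_of_bdd h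
      exact ⟨a, b, hasTorAmplitudeIn_of_torVan hv⟩
  · constructor
    · intro h
      obtain ⟨a, b, hv⟩ := torVan_of_perfect h
      exact ⟨⟨a, b, hbdd_of_torVan a b hv⟩, pc_of_perfect h⟩
    · rintro ⟨hb, hpc⟩
      obtain ⟨a, b, hv⟩ := htorVan_of_bdd hb
      exact isPerfect_of_pc_of_torVan hpc hv

end Groth.Agent.S5612
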