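import Groth.Statements.S5624
import Mathlib

set_option autoImplicit false
universe v u
open CategoryTheory CategoryTheory.Limits
open PCoh

namespace Groth.Agent.S5624

/-- Punctual site: let C be an abelian category and C₀ a strictly full additive subcategory,
quasi-liftable in C, and let 0 → F → G → H → 0 be a short exact sequence. If F and H are precoherent
relative to C₀ then G is precoherent; if F and H are of C₀-finite type then G is of C₀-finite type. -/
theorem result {C : Type u} [Category.{v} C] [Abelian C]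
    (P : ObjectProperty C) [P.IsClosedUnderIsomorphisms] [P.ContainsZero] (hsum : ∀ X Y : C, P X → P Y → P (X ⨯ Y))
    (hql : PCoh.IsQuasiLiftable P)
    (S : ShortComplex C) (hS : S.ShortExact) :
    ((∀ (E : C) (u : E ⟶ S.X₁), P E → PCoh.IsOfFiniteType P (kernel u)) → (∀ (E : C) (u : E ⟶ S.X₃), P E → PCoh.IsOfFiniteType P (kernel u)) →
        (∀ (E : C) (u : E ⟶ S.X₂), P E → PCoh.IsOfFiniteType P (kernel u))) ∧
      (PCoh.IsOfFiniteType P S.X₁ → PCoh.IsOfFiniteType P S.X₃ → PCoh.IsOfFiniteType P S.X₂) := by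
  haveI := hS.mono_f
  haveI := hS.epi_g
  constructor
  · intro hF hH E u hE
    obtain ⟨E', π', hE', hπ'⟩ := hH E (u ≫ S.g) hE
    haveI := hπ'
    have hz : (kernel.ι (u ≫ S.g) ≫ u) ≫ S.g = 0 := by rw [Category.assoc, kernel.condition]
    let ψ : kernel (u ≫ S.g) ⟶ S.X₁ := hS.exact.lift _ hz
    have hψ : ψ ≫ S.f = kernel.ι (u ≫ S.g) ≫ u := hS.exact.lift_f _ _
    obtain ⟨E'', π'', hE'', hπ''⟩ := hF E' (π' ≫ ψ) hE'
    haveI := hπ''
    have hz2 : (kernel.ι (π' ≫ ψ) ≫ π' ≫ kernel.ι (u ≫ S.g)) ≫ u = 0 := by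
      rw [Category.assoc, Category.assoc, ← hψ, ← Category.assoc π', ← Category.assoc,
        kernel.condition, zero_comp]
    let χ : kernel (π' ≫ ψ) ⟶ kernel u := kernel.lift u _ hz2
    have hχ : χ ≫ kernel.ι u = kernel.ι (π' ≫ ψ) ≫ π' ≫ kernel.ι (u ≫ S.g) :=
      kernel.lift_ι _ _ _
    have hepi : Epi χ := by
      rw [epi_iff_surjective_up_to_refinements]
      intro A a
      have h0 : (a ≫ kernel.ι u) ≫ (u ≫ S.g) = 0 := by
        rw [Category.assoc, ← Category.assoc (kernel.ι u), kernel.condition, zero_comp, comp_zero]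
      let b : A ⟶ kernel (u ≫ S.g) := kernel.lift _ (a ≫ kernel.ι u) h0
      have hb : b ≫ kernel.ι (u ≫ S.g) = a ≫ kernel.ι u := kernel.lift_ι _ _ _
      obtain ⟨A', p, hp, e, he⟩ := (epi_iff_surjective_up_to_refinements π').1 hπ' b
      have he1 : e ≫ π' ≫ kernel.ι (u ≫ S.g) = p ≫ a ≫ kernel.ι u := by
        rw [← Category.assoc, ← he, Category.assoc, hb]
      have he0 : e ≫ (π' ≫ ψ) = 0 := by
        rw [← cancel_mono S.f, zero_comp, Category.assoc, Category.assoc, hψ,
          ← Category.assoc π', ← Category.assoc e, he1, Category.assoc,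
          Category.assoc, kernel.condition, comp_zero, comp_zero]
      refine ⟨A', p, hp, kernel.lift _ e he0, ?_⟩
      rw [← cancel_mono (kernel.ι u), Category.assoc, Category.assoc, hχ, kernel.lift_ι_assoc,
        he1]
    exact ⟨E'', π'' ≫ χ, hE'', epi_comp _ _⟩
  · rintro ⟨EF, πF, hEF, hπF⟩ ⟨EH, πH, hEH, hπH⟩
    haveI := hπF
    haveI := hπH
    have hepi : Epi (pullback.snd S.g πH) := inferInstance
    obtain ⟨F', v, hF', hv⟩ := hql (pullback S.g πH) EH (pullback.snd S.g πH) hepi hEH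
    haveI := hv
    let b : F' ⟶ S.X₂ := v ≫ pullback.fst S.g πH
    have hb : b ≫ S.g = (v ≫ pullback.snd S.g πH) ≫ πH := by
      simp only [b, Category.assoc, pullback.condition]
    have hbepi : Epi (b ≫ S.g) := by rw [hb]; exact epi_comp _ _
    refine ⟨EF ⨯ F', prod.fst ≫ πF ≫ S.f + prod.snd ≫ b, hsum _ _ hEF hF', ?_⟩
    rw [epi_iff_surjective_up_to_refinements]
    intro A a
    obtain ⟨A', p, hp, y, hy⟩ :=
      (epi_iff_surjective_up_to_refinements (b ≫ S.g)).1 hbepi (a ≫ S.g)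
    have h0 : (p ≫ a - y ≫ b) ≫ S.g = 0 := by
      rw [Preadditive.sub_comp, Category.assoc, Category.assoc, hy, sub_self]
    let z : A' ⟶ S.X₁ := hS.exact.lift _ h0
    have hz : z ≫ S.f = p ≫ a - y ≫ b := hS.exact.lift_f _ _
    obtain ⟨A'', p', hp', w, hw⟩ := (epi_iff_surjective_up_to_refinements πF).1 hπF z
    refine ⟨A'', p' ≫ p, epi_comp _ _, prod.lift w (p' ≫ y), ?_⟩
    rw [Preadditive.comp_add, prod.lift_fst_assoc, prod.lift_snd_assoc, ← Category.assoc w, ← hw,
      Category.assoc, Category.assoc p' z, hz, Preadditive.comp_sub, Category.assoc]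
    abel

end Groth.Agent.S5624
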