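import Groth.Statements.S5625
import Mathlib
import Groth.Agent.Lib.Helper13.Qcqs
import Groth.Agent.Lib.Helper13.PullbackLocal

set_option autoImplicit false
universe u
open CategoryTheory AlgebraicGeometry
open QCohCat

namespace Groth.Agent.S5625

/-- Let f : X ⟶ Y be a morphism of quasi-compact quasi-separated schemes and Q_X, Q_Y coherators (right
adjoints of the inclusions QCoh ⥤ Mod) on X and Y. Then Q_Y ∘ f_* and f_* ∘ Q_X agree: the two
composite functors Mod(O_X) ⥤ Mod(O_Y) are naturally isomorphic (existence of a natural isomorphism;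
the source's isomorphism is the canonical one between two right adjoints of the same functor). -/
theorem result {X Y : Scheme.{u}} [CompactSpace X] [QuasiSeparatedSpace X]
    [CompactSpace Y] [QuasiSeparatedSpace Y] (f : X ⟶ Y)
    (QX : X.Modules ⥤ QCohCat.QCoh X) (adjX : (QCohCat.isQCoh X).ι ⊣ QX)
    (QY : Y.Modules ⥤ QCohCat.QCoh Y) (adjY : (QCohCat.isQCoh Y).ι ⊣ QY) :
    Nonempty ((QX ⋙ (QCohCat.isQCoh X).ι ⋙ Scheme.Modules.pushforward f) ≅
      (Scheme.Modules.pushforward f ⋙ QY ⋙ (QCohCat.isQCoh Y).ι)) := by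

  haveI : QuasiCompact f := inferInstance
  haveI : QuasiSeparated f := inferInstance
  -- restricted pushforward and pullback
  let push' : QCohCat.QCoh X ⥤ QCohCat.QCoh Y :=
    (QCohCat.isQCoh Y).lift ((QCohCat.isQCoh X).ι ⋙ Scheme.Modules.pushforward f) (fun M => by
      haveI : M.obj.IsQuasicoherent := M.property
      exact Groth.Agent.Helper13.Qcqs.isQuasicoherent_pushforward_of_qcqs f M.obj)
  let pull' : QCohCat.QCoh Y ⥤ QCohCat.QCoh X :=
    (QCohCat.isQCoh X).lift ((QCohCat.isQCoh Y).ι ⋙ Scheme.Modules.pullback f) (fun M => by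
      haveI : M.obj.IsQuasicoherent := M.property
      exact Groth.Agent.Helper13.Pullback.isQuasicoherent_pullback f M.obj)
  have comm1 : (QCohCat.isQCoh Y).ι ⋙ Scheme.Modules.pullback f ≅ pull' ⋙ (QCohCat.isQCoh X).ι :=
    ((QCohCat.isQCoh X).liftCompιIso _ _).symm
  have comm2 : (QCohCat.isQCoh X).ι ⋙ Scheme.Modules.pushforward f ≅ push' ⋙ (QCohCat.isQCoh Y).ι :=
    ((QCohCat.isQCoh Y).liftCompιIso _ _).symm
  have adj' : pull' ⊣ push' :=
    (Scheme.Modules.pullbackPushforwardAdjunction f).restrictFullyFaithful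
      (QCohCat.isQCoh Y).fullyFaithfulι (QCohCat.isQCoh X).fullyFaithfulι comm1 comm2
  have adj1 : pull' ⋙ (QCohCat.isQCoh X).ι ⊣ QX ⋙ push' := adj'.comp adjX
  have adj2 : (QCohCat.isQCoh Y).ι ⋙ Scheme.Modules.pullback f ⊣
      Scheme.Modules.pushforward f ⋙ QY :=
    adjY.comp (Scheme.Modules.pullbackPushforwardAdjunction f)
  have adj3 : pull' ⋙ (QCohCat.isQCoh X).ι ⊣ Scheme.Modules.pushforward f ⋙ QY :=
    adj2.ofNatIsoLeft comm1
  have e : QX ⋙ push' ≅ Scheme.Modules.pushforward f ⋙ QY := adj1.rightAdjointUniq adj3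
  exact ⟨(Functor.isoWhiskerLeft QX comm2) ≪≫ (Functor.associator _ _ _).symm ≪≫
    Functor.isoWhiskerRight e (QCohCat.isQCoh Y).ι ≪≫ Functor.associator _ _ _⟩

end Groth.Agent.S5625
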