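import Groth.Statements.S7248
import Groth.Agent.Lib.Helper5.BCF5

set_option autoImplicit false
universe u
open CategoryTheory CategoryTheory.Limits AlgebraicGeometry
attribute [local instance] HasDerivedCategory.standard
open Perf

namespace Groth.Agent.S7248

/-- Let f : X ⟶ S be flat and locally of finite presentation. Then a perfect object E of D(O_X) is
S-perfect, that is, E is pseudo-coherent (m-pseudo-coherent for every m) and, locally on X, the tor
dimension of E over the sheaf of rings f⁻¹O_S is finite (locally represented by a bounded complex of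
O_X-modules flat over S). -/
theorem result {X S : Scheme.{u}} (f : X ⟶ S) [Flat f] [LocallyOfFinitePresentation f]
    (E : DCoh.D X) (hE : DCoh.IsPerfect E) :
    (∀ m : ℤ, DCoh.IsPseudoCoherentD m E) ∧ DCoh.LocHasFiniteRelTorDim f E := by
  refine ⟨fun m x => ?_, fun x => ?_⟩
  · obtain ⟨V, hxV, hV⟩ := hE x
    refine ⟨V, hxV, fun F hF => ?_⟩
    obtain ⟨E0, hE0, ⟨e⟩⟩ := hV F hF
    exact ⟨E0, e.inv, hE0, fun i _ => inferInstance, inferInstance⟩
  · obtain ⟨V, hxV, hV⟩ := hE x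
    obtain ⟨F0, ⟨eF0⟩⟩ : ∃ F0 : CochainComplex X.Modules ℤ, Nonempty (DCoh.toD X F0 ≅ E) :=
      ⟨_, ⟨(DerivedCategory.Q.objObjPreimageIso E)⟩⟩
    obtain ⟨E0, ⟨⟨a, b, hab⟩, hflf⟩, ⟨e0⟩⟩ := hV F0 ⟨eF0⟩
    refine ⟨V, a, b, hxV, ?_⟩
    rintro F' ⟨eF'⟩
    have r1 : DerivedCategory.Q.obj ((DCoh.restrictCx V).obj F') ≅
        DerivedCategory.Q.obj ((DCoh.restrictCx V).obj F0) :=
      Groth.Agent.Helper5.LDer.restrictQIso V.ι (eF' ≪≫ eF0.symm)
    haveI : Flat (V.ι ≫ f) := inferInstance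
    exact ⟨E0, hab, fun i => Groth.Agent.Helper5.BCF.isFlatOver_of_isFlat (f := V.ι ≫ f) (E0.X i)
      (Groth.Agent.Helper5.LDer.isFlat_of_isFinLocFree _ (hflf i)), ⟨(r1 ≪≫ e0).symm⟩⟩

end Groth.Agent.S7248
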