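import Groth.Statements.S5643
import Groth.Agent.Lib.Helper13.ClosureSheaf
import Groth.Agent.Lib.Helper5.KZeroSub
import Groth.Agent.Lib.Helper5.K0Coh
import Groth.Agent.S0020

set_option autoImplicit false
universe u
open CategoryTheory CategoryTheory.Limits AlgebraicGeometry
open Classical
open SGA6

namespace Groth.Agent.S5643

/-- Let X be a Noetherian scheme and K the Grothendieck group of coherent O_X-modules. For every n, the
subgroup of K generated by the classes of coherent modules whose support has dimension ≤ n coincides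
with the subgroup generated by the classes [O_Z] of the structure sheaves (as O_X-modules) of the
integral closed subschemes Z ⊆ X of dimension ≤ n, Z running over the reduced closures of points of
X. -/
theorem result (X : Scheme.{u}) [IsNoetherian X] (n : ℕ) :
    AddSubgroup.closure {c : KZero.K0sub (fun M : X.Modules => Coh.IsCoh M) |
        ∃ G : X.Modules, Coh.IsCoh G ∧ topologicalKrullDim ↥(CohB1.support G) ≤ n ∧ c = KZero.clSub (fun M : X.Modules => Coh.IsCoh M) G} =
      AddSubgroup.closure {c : KZero.K0sub (fun M : X.Modules => Coh.IsCoh M) |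
        ∃ x : ↥X, topologicalKrullDim ↥(closure ({x} : Set ↥X)) ≤ n ∧ c = KZero.clSub (fun M : X.Modules => Coh.IsCoh M) (Cyc.closureStructureSheaf x)} := by
  have key : ∀ (Pc : ObjectProperty X.Modules), Pc = (fun M : X.Modules => Coh.IsCoh M) →
      AddSubgroup.closure {c : KZero.K0sub Pc |
        ∃ G : X.Modules, Coh.IsCoh G ∧ topologicalKrullDim ↥(CohB1.support G) ≤ n ∧
          c = KZero.clSub Pc G} =
      AddSubgroup.closure {c : KZero.K0sub Pc |
        ∃ x : ↥X, topologicalKrullDim ↥(closure ({x} : Set ↥X)) ≤ n ∧
          c = KZero.clSub Pc (Cyc.closureStructureSheaf x)} := by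
    intro Pc hPc
    have hPc' : ∀ G : X.Modules, Pc G ↔ Coh.IsCoh G := fun G => by rw [hPc]
    have hzero : ∀ M : X.Modules, IsZero M → Pc M := fun M hM =>
      (hPc' M).2 (Groth.Agent.Helper5.K0Coh.isCoh_of_isZero hM)
    have hiso : ∀ M N : X.Modules, (M ≅ N) → Pc M → Pc N := fun M N e hM =>
      (hPc' N).2 (Groth.Agent.Helper5.K0Coh.isCoh_of_iso e ((hPc' M).1 hM))
    apply le_antisymm
    · rw [AddSubgroup.closure_le]
      rintro c ⟨G, hG, hdim, rfl⟩
      have hcl : IsClosed (CohB1.support G) := Groth.Agent.S0020.result X G hG.2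
      refine Groth.Agent.Helper13.DevSupp.devissage_supported X (CohB1.support G) hcl
        (fun M => KZero.clSub Pc M ∈ AddSubgroup.closure {c : KZero.K0sub Pc |
          ∃ x : ↥X, topologicalKrullDim ↥(closure ({x} : Set ↥X)) ≤ n ∧
            c = KZero.clSub Pc (Cyc.closureStructureSheaf x)}) ?_ ?_ ?_ ?_ G hG subset_rfl
      · rintro M N ⟨e⟩ h
        by_cases hPM : Pc M
        · have hPN := hiso M N e hPM
          rw [← Groth.Agent.Helper5.KZ.clSub_iso Pc e hPM hPN (isZero_zero X.Modules)
            (hzero _ (isZero_zero X.Modules))]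
          exact h
        · have hPN : ¬ Pc N := fun h' => hPM (hiso N M e.symm h')
          have h0 : KZero.clSub Pc N = 0 := dif_neg hPN
          rw [h0]
          exact zero_mem _
      · intro M hM
        rw [Groth.Agent.Helper5.KZ.clSub_isZero Pc hM (hzero M hM)]
        exact zero_mem _
      · intro S hS h1 h2 h3 _
        have hadd := Groth.Agent.Helper5.KZ.clSub_shortExact Pc S hS ((hPc' _).2 h1)
          ((hPc' _).2 h2) ((hPc' _).2 h3)
        refine ⟨fun k1 k2 => ?_, fun k1 k3 => ?_, fun k2 k3 => ?_⟩
        · have h4 : KZero.clSub Pc S.X₃ = KZero.clSub Pc S.X₂ - KZero.clSub Pc S.X₁ := by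
            rw [hadd]; abel
          rw [h4]
          exact sub_mem k2 k1
        · rw [hadd]
          exact add_mem k1 k3
        · have h4 : KZero.clSub Pc S.X₁ = KZero.clSub Pc S.X₂ - KZero.clSub Pc S.X₃ := by
            rw [hadd]; abel
          rw [h4]
          exact sub_mem k2 k3
      · intro Z hZ hirr hZG y hy
        refine ⟨Cyc.closureStructureSheaf y,
          Groth.Agent.Helper13.ClosureSheaf.isCoh_closureStructureSheaf y,
          AddSubgroup.subset_closure ⟨y, ?_, rfl⟩, ?_,
          Groth.Agent.Helper13.ClosureSheaf.length_stalk_closureStructureSheaf y⟩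
        · have hsub : closure ({y} : Set X) ⊆ CohB1.support G := hy ▸ hZG
          exact ((Topology.IsEmbedding.inclusion hsub).isInducing.topologicalKrullDim_le).trans
            hdim
        · rw [Groth.Agent.Helper13.ClosureSheaf.support_closureStructureSheaf, hy]
    · rw [AddSubgroup.closure_le]
      rintro c ⟨x, hdim, rfl⟩
      apply AddSubgroup.subset_closure
      refine ⟨Cyc.closureStructureSheaf x,
        Groth.Agent.Helper13.ClosureSheaf.isCoh_closureStructureSheaf x, ?_, rfl⟩
      rw [Groth.Agent.Helper13.ClosureSheaf.support_closureStructureSheaf]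
      exact hdim
  exact key _ rfl

end Groth.Agent.S5643
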