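import Groth.Statements.S5656
import Mathlib

set_option autoImplicit false
universe u
open W4sga6xxiii

namespace Groth.Agent.S5656

open Polynomial in
theorem choose_poly (j : ℕ) :
    ∃ Q : ℚ[X], ∀ t : ℤ, Q.eval (t : ℚ) = ((Ring.choose t j : ℤ) : ℚ) := by
  refine ⟨C ((j.factorial : ℚ)⁻¹) * (descPochhammer ℤ j).map (Int.castRingHom ℚ), fun t => ?_⟩
  have h1 : ((Ring.choose t j : ℤ) : ℚ) = Ring.choose (t : ℚ) j := by
    simpa using Ring.map_choose (Int.castRingHom ℚ) t j
  rw [h1, Ring.choose_eq_smul, eval_mul, eval_C, eval_map, smul_eq_mul]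
  congr 1
  rw [eval₂_eq_sum, smeval_eq_sum]
  congr 1

open Polynomial in
theorem exists_poly {G : Type*} [AddCommGroup G] (f : G → ℚ)
    (hf : W4sga6xxiii.IsPolyMap f) (y : G) :
    ∃ P : ℚ[X], ∀ t : ℤ, f (t • y) = P.eval (t : ℚ) := by
  obtain ⟨m, c, -, h⟩ := hf 1 (fun _ => y)
  choose Q hQ using choose_poly
  refine ⟨∑ k : Fin 1 → Fin (m + 1), C (c k) * Q ((k 0 : Fin (m+1)) : ℕ), fun t => ?_⟩
  have h2 := h (fun _ => t)
  simp only [Fin.sum_univ_one, Fin.prod_univ_one] at h2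
  rw [h2, eval_finsetSum]
  refine Finset.sum_congr rfl fun k _ => ?_
  rw [eval_mul, eval_C, hQ, zsmul_eq_mul, mul_comm]

open Polynomial in
theorem eval_bound (R : ℚ[X]) (x : ℚ) (hx : |x| ≤ 1) :
    |R.eval x| ≤ ∑ i ∈ R.support, |R.coeff i| := by
  rw [eval_eq_sum, sum_def]
  refine (Finset.abs_sum_le_sum_abs _ _).trans (Finset.sum_le_sum fun i _ => ?_)
  rw [abs_mul, abs_pow]
  exact mul_le_of_le_one_right (abs_nonneg _) (pow_le_one₀ (abs_nonneg _) hx)

open Polynomial in
theorem const_of_int_at_inv_pow (P : ℚ[X]) (p : ℕ) (hp : 2 ≤ p) (a : ℤ) (h0 : P.eval 0 = a)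
    (h : ∀ j : ℕ, ∃ z : ℤ, P.eval (((p:ℚ)^j)⁻¹) = z) : P = C (a : ℚ) := by
  have hp1 : (1:ℚ) < p := by exact_mod_cast hp
  have hp0 : (0:ℚ) < p := by linarith
  have hP : ∀ x : ℚ, P.eval x = P.divX.eval x * x + a := by
    intro x
    conv_lhs => rw [← divX_mul_X_add P]
    rw [eval_add, eval_mul, eval_X, eval_C, coeff_zero_eq_eval_zero, h0]
  obtain ⟨j0, hj0⟩ := pow_unbounded_of_one_lt (∑ i ∈ P.divX.support, |P.divX.coeff i|) hp1
  have key : ∀ j, j0 ≤ j → P.eval (((p:ℚ)^j)⁻¹) = a := by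
    intro j hj
    obtain ⟨z, hz⟩ := h j
    have hpj : (0:ℚ) < (p:ℚ)^j := pow_pos hp0 j
    have hle : (p:ℚ)^j0 ≤ (p:ℚ)^j := pow_le_pow_right₀ hp1.le hj
    have hx : |((p:ℚ)^j)⁻¹| ≤ 1 := by
      rw [abs_of_pos (inv_pos.mpr hpj)]
      exact inv_le_one_of_one_le₀ (one_le_pow₀ hp1.le)
    have hb := eval_bound P.divX _ hx
    have e1 : ((z - a : ℤ) : ℚ) = P.divX.eval (((p:ℚ)^j)⁻¹) * ((p:ℚ)^j)⁻¹ := by
      push_cast
      rw [← hz, hP]; ring
    have e2 : |((z - a : ℤ) : ℚ)| < 1 := by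
      rw [e1, abs_mul, abs_of_pos (inv_pos.mpr hpj), ← div_eq_mul_inv, div_lt_one hpj]
      exact lt_of_le_of_lt hb (lt_of_lt_of_le hj0 hle)
    have e3 : |z - a| < 1 := by exact_mod_cast e2
    have e4 : z - a = 0 := Int.abs_lt_one_iff.mp e3
    have e5 : z = a := sub_eq_zero.mp e4
    rw [hz, e5]
  apply eq_of_infinite_eval_eq
  refine Set.infinite_of_injective_forall_mem (f := fun j : ℕ => ((p:ℚ)^(j + j0))⁻¹) ?_ ?_
  · intro j k hjk
    simp only [inv_inj] at hjk
    have := pow_right_injective₀ hp0 hp1.ne' hjk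
    omega
  · intro j
    simp only [Set.mem_ofPred_eq, eval_C]
    exact key _ (Nat.le_add_left _ _)


/-- Let G be an abelian group and G' ⊆ G a subgroup which is divisible by some prime number p (every
element of G' is p times an element of G') and such that G/G' is a torsion group. Then every
polynomial map f : G → ℚ (admitting binomial expansions f(Σ n_i x_i) = Σ_k Π_i C(n_i, k_i) y_k along
every finite sequence x) which takes only integer values is constant. -/
theorem result {G : Type u} [AddCommGroup G] (G' : AddSubgroup G)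
    (p : ℕ) (hp : p.Prime) (hdiv : ∀ x ∈ G', ∃ y ∈ G', p • y = x) (htor : ∀ x : G, ∃ n : ℤ, n ≠ 0 ∧ n • x ∈ G')
    (f : G → ℚ) (hf : W4sga6xxiii.IsPolyMap f) (hint : ∀ x, ∃ z : ℤ, f x = z) (x : G) : f x = f 0 := by
  classical
  have hp2 : 2 ≤ p := hp.two_le
  have hpne : (p : ℚ) ≠ 0 := by exact_mod_cast hp.ne_zero
  have hdivj : ∀ (j : ℕ) (y : G), y ∈ G' → ∃ z ∈ G', (p^j) • z = y := by
    intro j
    induction j with
    | zero => intro y hy; exact ⟨y, hy, by simp⟩
    | succ j ih =>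
      intro y hy
      obtain ⟨z, hz, hzy⟩ := ih y hy
      obtain ⟨w, hw, hwz⟩ := hdiv z hz
      exact ⟨w, hw, by rw [pow_succ, mul_smul, hwz, hzy]⟩
  have hG' : ∀ y ∈ G', f y = f 0 := by
    intro y hy
    obtain ⟨P, hP⟩ := exists_poly f hf y
    obtain ⟨a, ha⟩ := hint 0
    have h0 : P.eval 0 = a := by
      have := hP 0
      rw [zero_smul, Int.cast_zero] at this
      rw [← this, ha]
    have hconst : P = Polynomial.C (a : ℚ) := by
      refine const_of_int_at_inv_pow P p hp2 a h0 fun j => ?_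
      obtain ⟨z, hz, hzy⟩ := hdivj j y hy
      obtain ⟨Pz, hPz⟩ := exists_poly f hf z
      have hcomp : Pz.comp (Polynomial.C ((p:ℚ)^j) * Polynomial.X) = P := by
        apply Polynomial.eq_of_infinite_eval_eq
        refine Set.infinite_of_injective_forall_mem (f := fun t : ℤ => (t : ℚ))
          Int.cast_injective ?_
        intro t
        simp only [Set.mem_ofPred_eq, Polynomial.eval_comp, Polynomial.eval_mul,
          Polynomial.eval_C, Polynomial.eval_X]
        rw [← hP t, ← hzy]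
        have e : ((p:ℚ)^j) * (t:ℚ) = (((p^j : ℕ) : ℤ) * t : ℤ) := by simp
        rw [e, ← hPz]
        congr 1
        rw [mul_comm, mul_smul, natCast_zsmul]
      obtain ⟨w, hw⟩ := hint z
      refine ⟨w, ?_⟩
      rw [← hcomp, Polynomial.eval_comp, Polynomial.eval_mul, Polynomial.eval_C,
        Polynomial.eval_X, mul_inv_cancel₀ (pow_ne_zero _ hpne), ← hw]
      have := hPz 1
      rw [one_smul, Int.cast_one] at this
      exact this.symm
    have := hP 1
    rw [one_smul, Int.cast_one, hconst, Polynomial.eval_C] at this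
    rw [this, ha]
  obtain ⟨n, hn0, hn⟩ := htor x
  obtain ⟨P, hP⟩ := exists_poly f hf x
  have hconst : P = Polynomial.C (f 0) := by
    apply Polynomial.eq_of_infinite_eval_eq
    refine Set.infinite_of_injective_forall_mem (f := fun t : ℤ => ((n * t : ℤ) : ℚ)) ?_ ?_
    · intro s t hst
      have h0 : ((n * s : ℤ) : ℚ) = ((n * t : ℤ) : ℚ) := hst
      have h1 : n * s = n * t := by exact_mod_cast h0
      exact mul_left_cancel₀ hn0 h1
    · intro t
      simp only [Set.mem_ofPred_eq, Polynomial.eval_C]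
      rw [← hP, mul_comm, mul_smul]
      exact hG' _ (G'.zsmul_mem hn t)
  have := hP 1
  rw [one_smul, Int.cast_one, hconst, Polynomial.eval_C] at this
  exact this

end Groth.Agent.S5656
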