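import Groth.Statements.S5705
import Mathlib
import Groth.Agent.Lib.Helper22.SNLocal

set_option autoImplicit false
universe u v
open TensorProduct
open Dix

namespace Groth.Agent.S5705

/-- Over a local base, where the Zariski-local conclusion becomes global. Let R be a local ring and A an
Azumaya algebra over R. Then every R-algebra automorphism u of A is inner, u(x) = a x a⁻¹ for some
unit a of A, and the unit a is determined up to multiplication by a unit of R. -/
theorem result (R : Type u) [CommRing R] [IsLocalRing R] (A : Type v) [Ring A] [Algebra R A] [IsAzumaya R A] (u : A ≃ₐ[R] A) : (∃ a : Aˣ, ∀ x : A, u x = (a : A) * x * (a⁻¹ : Aˣ)) ∧ (∀ a a' : Aˣ, (∀ x : A, u x = (a : A) * x * (a⁻¹ : Aˣ)) → (∀ x : A, u x = (a' : A) * x * (a'⁻¹ : Aˣ)) → ∃ c : Rˣ, (a' : A) = algebraMap R A (c : R) * (a : A)) := by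
  classical
  haveI : Module.Free R A := Module.free_of_flat_of_isLocalRing
  refine ⟨Groth.Agent.Helper22.SNLocal.exists_conj_of_algEquiv_azumaya R A u, ?_⟩
  intro a a' ha ha'
  -- d = a⁻¹ a' is central
  have hcomm : ∀ x : A, ((a⁻¹ * a' : Aˣ) : A) * x = x * ((a⁻¹ * a' : Aˣ) : A) := by
    intro x
    have h1 : (a : A) * x * ((a⁻¹ : Aˣ) : A) = (a' : A) * x * ((a'⁻¹ : Aˣ) : A) := by
      rw [← ha, ← ha']
    have h2 : x * (((a⁻¹ : Aˣ) : A) * (a' : A)) = (((a⁻¹ : Aˣ) : A) * (a' : A)) * x := by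
      calc x * (((a⁻¹ : Aˣ) : A) * (a' : A))
          = ((a⁻¹ : Aˣ) : A) * ((a : A) * x * ((a⁻¹ : Aˣ) : A)) * (a' : A) := by
            simp only [← mul_assoc, Units.inv_mul, one_mul]
        _ = ((a⁻¹ : Aˣ) : A) * ((a' : A) * x * ((a'⁻¹ : Aˣ) : A)) * (a' : A) := by rw [h1]
        _ = (((a⁻¹ : Aˣ) : A) * (a' : A)) * x := by
            simp only [mul_assoc, Units.inv_mul, mul_one]
    rw [Units.val_mul]
    exact h2.symm
  have hcomm' : ∀ x : A, ((a'⁻¹ * a : Aˣ) : A) * x = x * ((a'⁻¹ * a : Aˣ) : A) := by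
    intro x
    have h1 : (a : A) * x * ((a⁻¹ : Aˣ) : A) = (a' : A) * x * ((a'⁻¹ : Aˣ) : A) := by
      rw [← ha, ← ha']
    have h2 : x * (((a'⁻¹ : Aˣ) : A) * (a : A)) = (((a'⁻¹ : Aˣ) : A) * (a : A)) * x := by
      calc x * (((a'⁻¹ : Aˣ) : A) * (a : A))
          = ((a'⁻¹ : Aˣ) : A) * ((a' : A) * x * ((a'⁻¹ : Aˣ) : A)) * (a : A) := by
            simp only [← mul_assoc, Units.inv_mul, one_mul]
        _ = ((a'⁻¹ : Aˣ) : A) * ((a : A) * x * ((a⁻¹ : Aˣ) : A)) * (a : A) := by rw [h1]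
        _ = (((a'⁻¹ : Aˣ) : A) * (a : A)) * x := by
            simp only [mul_assoc, Units.inv_mul, mul_one]
    rw [Units.val_mul]
    exact h2.symm
  have hcen : ∀ d : A, (∀ x : A, d * x = x * d) → ∃ c : R, algebraMap R A c = d := by
    intro d hd
    have hmem : d ∈ Subalgebra.center R A := by
      rw [Subalgebra.mem_center_iff]
      intro x
      exact (hd x).symm
    have := Algebra.IsCentral.out (K := R) (D := A) hmem
    rw [Algebra.mem_bot] at this
    exact this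
  obtain ⟨c₀, hc₀⟩ := hcen _ hcomm
  obtain ⟨c₁, hc₁⟩ := hcen _ hcomm'
  have hinj : Function.Injective (algebraMap R A) := FaithfulSMul.algebraMap_injective R A
  have h01 : c₀ * c₁ = 1 := by
    apply hinj
    rw [map_mul, hc₀, hc₁, map_one, ← Units.val_mul]
    simp
  refine ⟨⟨c₀, c₁, h01, by rw [mul_comm]; exact h01⟩, ?_⟩
  show (a' : A) = algebraMap R A c₀ * (a : A)
  rw [Algebra.commutes, hc₀, Units.val_mul, ← mul_assoc, Units.mul_inv, one_mul]

end Groth.Agent.S5705
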