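import Groth.Statements.S5712
import Mathlib
import Groth.Agent.Lib.Helper10.ExtAdj
import Groth.Agent.Lib.Helper10.ExtLeray
import Groth.Agent.Lib.Helper10.ExtLeray2
import Groth.Agent.Lib.Helper10.GmPushField2
import Groth.Agent.Lib.Helper10.H1Push
import Groth.Agent.Lib.Helper10.EtH90f

set_option autoImplicit false
universe u
open CategoryTheory AlgebraicGeometry
open Dix

namespace Groth.Agent.S5712

section helpers

open CategoryTheory CategoryTheory.Limits AlgebraicGeometry
open Groth.Agent.Helper10

theorem inj_two {X Y : Scheme.{u}} (f : X ⟶ Y)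
    [PreservesFiniteLimits (EtCoh.pull f)] (F : EtCoh.Ab X)
    (hR : IsZero ((EtCoh.Rpush f 1).obj F)) :
    Function.Injective (EtLim.HofPush f F 2) := by
  obtain ⟨Δ⟩ := Groth.Agent.S16463.result (EtCoh.push f)
  have h2 : PreservesFiniteColimits (EtCoh.pull f) := by
    have : PreservesColimitsOfSize.{0, 0} (EtCoh.pull f) :=
      (EtCoh.pullPushAdj f).leftAdjoint_preservesColimits
    exact PreservesColimitsOfSize.preservesFiniteColimits _
  have h3 : PreservesFiniteLimits (EtCoh.push f) := by
    have : PreservesLimitsOfSize.{0, 0} (EtCoh.push f) :=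
      (EtCoh.pullPushAdj f).rightAdjoint_preservesLimits
    exact PreservesLimitsOfSize.preservesFiniteLimits _
  have hinj := Groth.Agent.Helper10.ExtLeray.counitMap_injective_two.{u + 1, u + 1}
    (EtCoh.pullPushAdj f) Δ (EtCoh.const Y ℤ) F hR
  have heq : ⇑(EtLim.HofPush f F 2) =
      ⇑(Groth.Agent.Helper10.ExtAdj.extCongrLeft (EtCore.pullConst f ℤ).symm F 2) ∘
        ⇑(Groth.Agent.Helper10.ExtLeray.counitMap.{u + 1, u + 1} (EtCoh.pullPushAdj f)
          (EtCoh.const Y ℤ) F 2) := by
    funext x
    show ((Abelian.Ext.mk₀ (EtCore.pullConst f ℤ).inv).comp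
        ((EtCoh.pull f).mapExtAddHom _ _ 2 x) (zero_add 2)).comp
        (Abelian.Ext.mk₀ ((EtCoh.pullPushAdj f).counit.app F)) (add_zero 2) = _
    rw [Abelian.Ext.comp_assoc_of_third_deg_zero]
    rfl
  rw [heq]
  exact (AddEquiv.injective _).comp hinj

theorem main (X : Scheme.{u}) (x : X)
    [PreservesFiniteLimits (EtCoh.pull (X.fromSpecResidueField x))] :
    Subsingleton (EtCoh.H X ((Dix.skyPush X x).obj (EtCoh.Gm (Spec (X.residueField x)))) 1) ∧
    Function.Injective (EtLim.HofPush (X.fromSpecResidueField x)
      (EtCoh.Gm (Spec (X.residueField x))) 2) := by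
  refine ⟨?_, ?_⟩
  · exact H1Push.subsingleton_H1_push (X.fromSpecResidueField x)
      (EtCoh.Gm (Spec (X.residueField x))) (EtH90.subsingleton_H1_Gm ↑(X.residueField x))
  · exact inj_two (X.fromSpecResidueField x) (EtCoh.Gm (Spec (X.residueField x)))
      (GmPushField.isZero_R1_push_Gm (κ := ↑(X.residueField x)) (X.fromSpecResidueField x))

end helpers

/-- Let X be a quasi-compact quasi-separated scheme and x a point of X, with i_x : Spec κ(x) → X. Then
H¹(X_et, i_{x*} G_m) = 0, and the canonical map H²(X_et, i_{x*} G_m) → H²(Spec κ(x)_et, G_m) is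
injective. (The published statement is about the sheaf of invertible rational functions, which for X
reduced with finitely many irreducible components is the finite product of the sheaves i_{x*} G_m
over the maximal points x; the argument is the present one at each point.) The second map is
EtLim.HofPush, whose exactness hypothesis on the inverse image is carried as an instance binder. -/
theorem result (X : Scheme.{u}) [CompactSpace X] [QuasiSeparatedSpace X] (x : X) [Limits.PreservesFiniteLimits (EtCoh.pull (X.fromSpecResidueField x))] : Subsingleton (EtCoh.H X ((Dix.skyPush X x).obj (EtCoh.Gm (Spec (X.residueField x)))) 1) ∧ Function.Injective (EtLim.HofPush (X.fromSpecResidueField x) (EtCoh.Gm (Spec (X.residueField x))) 2) := by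
  exact main X x

end Groth.Agent.S5712
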