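import Groth.Statements.S5717
import Mathlib
import Groth.Agent.Lib.Helper5.Azu

set_option autoImplicit false
universe u v
open TensorProduct
open Dix

namespace Groth.Agent.S5717

/-- Implication (iii bis) ⇒ (ii), over an affine base with one faithfully flat cover. Let R be a
commutative ring and A an R-algebra whose underlying R-module is finitely presented. If there are a
faithfully flat commutative R-algebra R' and an integer r ≥ 1 such that R' ⊗_R A is isomorphic as an
R'-algebra to the matrix algebra M_r(R'), then A is an Azumaya algebra over R (finite locally free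
with A ⊗ A° → End_R(A) bijective). (The published condition asks the cover only to be surjective;
with that reading the implication fails — R = k[ε], A = R/(ε), R' = k — so this row asks R' to be
faithfully flat.) -/
theorem result (R : Type u) [CommRing R] (A : Type u) [Ring A] [Algebra R A] [Module.FinitePresentation R A] (R' : Type u) [CommRing R'] [Algebra R R'] [Module.FaithfullyFlat R R'] (r : ℕ) (hr : 1 ≤ r) (e : (R' ⊗[R] A) ≃ₐ[R'] Matrix (Fin r) (Fin r) R') : IsAzumaya R A := by
  classical
  haveI : Nonempty (Fin r) := ⟨⟨0, hr⟩⟩
  haveI hmat : IsAzumaya R' (Matrix (Fin r) (Fin r) R') := IsAzumaya.matrix R' (Fin r)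
  haveI hAz' : IsAzumaya R' (R' ⊗[R] A) := IsAzumaya.of_AlgEquiv R' _ _ e.symm
  haveI : Module.Flat R A := Module.Flat.of_flat_tensorProduct R' (R := R) (M := A)
  haveI : Module.Projective R A := Module.Flat.projective_of_finitePresentation
  have hinjR : Function.Injective (algebraMap R R') := FaithfulSMul.algebraMap_injective R R'
  haveI : FaithfulSMul R A := by
    refine ⟨fun {a b} hab => ?_⟩
    apply hinjR
    apply FaithfulSMul.eq_of_smul_eq_smul (α := R' ⊗[R] A)
    intro x
    induction x using TensorProduct.induction_on with
    | zero => simp
    | tmul s y =>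
      have h1 : ∀ c : R, algebraMap R R' c • (s ⊗ₜ[R] y) = s ⊗ₜ[R] (c • y) := by
        intro c
        rw [TensorProduct.smul_tmul', smul_eq_mul, ← Algebra.smul_def, TensorProduct.smul_tmul]
      rw [h1, h1, hab y]
    | add x y hx hy => rw [smul_add, smul_add, hx, hy]
  have hbc := Groth.Agent.Helper5.Azu.baseChange_mulLeftRight_bijective R R' A hAz'.bij
  rw [LinearMap.baseChange_eq_ltensor] at hbc
  have hbij : Function.Bijective (AlgHom.mulLeftRight R A).toLinearMap :=
    ⟨(Module.FaithfullyFlat.lTensor_injective_iff_injective R R' _).mp hbc.1,
      (Module.FaithfullyFlat.lTensor_surjective_iff_surjective R R' _).mp hbc.2⟩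
  exact { bij := hbij }

end Groth.Agent.S5717
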