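import Groth.Statements.S5744
import Mathlib
import Groth.Agent.Lib.Helper13.QCohFin
import Groth.Agent.Lib.Helper13.QCohPush
import Groth.Agent.Lib.Helper13.AcycEmbed

set_option autoImplicit false
universe u
open Coherent

namespace Groth.Agent.S5744

open Coherent

open AlgebraicGeometry CategoryTheory CategoryTheory.Limits

lemma pushRestr_qcoh {X : Scheme.{u}} [X.IsSeparated] (W : X.Opens) (hW : IsAffineOpen W)
    (F : X.Modules) [F.IsQuasicoherent] :
    ((CechOX.pushRestr W).obj F).IsQuasicoherent := by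
  haveI : IsAffineHom (pullback.diagonal (terminal.from X)) := inferInstance
  have hd : ∀ V W : X.Opens, IsAffineOpen V → IsAffineOpen W → IsAffineOpen (V ⊓ W) :=
    fun V W hV hW => hV.inf hW
  haveI := Groth.Agent.Helper13.AcycEmbed.isAffineHom_ι hd _ hW
  haveI : (F.restrict W.ι).IsQuasicoherent := inferInstance
  have := Groth.Agent.Helper13.QCohPush.isQuasicoherent_pushforward W.ι (F.restrict W.ι)
  exact Groth.Agent.Helper13.QCohLocal.isQuasicoherent_of_iso
    (Iso.refl ((Scheme.Modules.pushforward W.ι).obj (F.restrict W.ι)))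

lemma inf_aff {X : Scheme.{u}} [X.IsSeparated] {ι : Type u}
    (𝒰 : ι → X.Opens) (h𝒰 : ∀ i, IsAffineOpen (𝒰 i)) (p : ℕ) (a : Fin (p+1) → ι) :
    IsAffineOpen (∏ᶜ (𝒰 ∘ a) : X.Opens) := by
  have hW : (∏ᶜ (𝒰 ∘ a) : X.Opens) = ⨅ k, 𝒰 (a k) :=
    le_antisymm (le_iInf (fun k => leOfHom (Pi.π (𝒰 ∘ a) k)))
      (leOfHom (Pi.lift (fun k => homOfLE (iInf_le (fun k => 𝒰 (a k)) k))))
  rw [hW]
  haveI : IsAffineHom (pullback.diagonal (terminal.from X)) := inferInstance
  exact IsAffineOpen.iInf (fun k => h𝒰 (a k))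

open AlgebraicGeometry CategoryTheory in
/-- For the Čech complex of sheaves indexed by all ordered tuples with products as terms; over a finite
index type these terms are finite direct sums. Let X be a separated scheme, (U_i)_{i ∈ ι} a finite
family of affine opens covering X, and F a quasi-coherent O_X-module. Then for every p the degree-p
term of the Čech complex of sheaves 𝔠(𝒰, F), the product over ordered (p+1)-tuples of the direct
images (j_{i_0…i_p})_*(F|_{U_{i_0…i_p}}), is a quasi-coherent O_X-module. -/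
theorem result {X : Scheme.{u}} [X.IsSeparated] {ι : Type u}
    [Finite ι] (𝒰 : ι → X.Opens) (h𝒰 : ∀ i, IsAffineOpen (𝒰 i)) (hcov : ⨆ i, 𝒰 i = ⊤)
    (F : X.Modules) [Coh.IsQCoh F] (p : ℕ) :
    Coh.IsQCoh (((CechOX.cechSh 𝒰).obj F).X p) := by
  haveI : F.IsQuasicoherent := ‹Coh.IsQCoh F›
  show (∏ᶜ fun a : Fin (p+1) → ι => (CechOX.pushRestr (∏ᶜ (𝒰 ∘ a))).obj F).IsQuasicoherent
  apply Groth.Agent.Helper13.QCohFin.isQuasicoherent_pi
  intro a
  exact pushRestr_qcoh _ (inf_aff 𝒰 h𝒰 p a) F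

end Groth.Agent.S5744
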