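import Groth.Statements.S5755
import Groth.Agent.Lib.Helper9.Depth

set_option autoImplicit false
universe u
open EGA41

namespace Groth.Agent.S5755

/-- A reduced Noetherian local ring A has depth 0 if and only if A is a field. -/
theorem result (A : Type u) [CommRing A] [IsLocalRing A]
    [IsNoetherianRing A] [IsReduced A] : LocCoh.depth A A = 0 ↔ IsField A := by
  rw [Groth.Agent.Helper9.Depth.depth_eq_zero_iff_mem_associatedPrimes A,
    AssociatedPrimes.mem_iff, isAssociatedPrime_iff, IsLocalRing.isField_iff_maximalIdeal_eq]
  constructor
  · rintro ⟨_, x, hx⟩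
    rw [eq_bot_iff]
    intro y hy
    have hyx : y * x = 0 := by
      have : y ∈ Submodule.colon (⊥ : Submodule A A) {x} := hx ▸ hy
      rw [Submodule.mem_colon_singleton, Submodule.mem_bot] at this
      exact this
    by_cases hxm : x ∈ IsLocalRing.maximalIdeal A
    · have hxx : x * x = 0 := by
        have : x ∈ Submodule.colon (⊥ : Submodule A A) {x} := hx ▸ hxm
        rw [Submodule.mem_colon_singleton, Submodule.mem_bot] at this
        exact this
      have hx0 : x = 0 := by
        apply IsReduced.eq_zero
        exact ⟨2, by rw [pow_two, hxx]⟩
      exfalso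
      have htop : IsLocalRing.maximalIdeal A = ⊤ := by
        rw [hx, hx0, eq_top_iff]
        intro a _
        rw [Submodule.mem_colon_singleton]
        simp
      exact (Ideal.IsMaximal.ne_top inferInstance) htop
    · have hu : IsUnit x := by
        by_contra hnu
        exact hxm ((IsLocalRing.mem_maximalIdeal x).2 hnu)
      exact (hu.mul_left_eq_zero).1 hyx
  · intro h
    refine ⟨inferInstance, 1, ?_⟩
    rw [h]
    ext a
    rw [Submodule.mem_colon_singleton]
    simp

end Groth.Agent.S5755
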