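import Groth.Statements.S5764
import Mathlib

set_option autoImplicit false
universe u
open EGA41

namespace Groth.Agent.S5764

/-- Let B be an integral domain, A a local subring of B which is integrally closed (in its field of
fractions), and suppose B is integral over A. Then dim(B_n) = dim(A) for every maximal ideal n of B. -/
theorem result (A B : Type u) [CommRing A]
    [CommRing B] [IsDomain B] [Algebra A B] (hinj : Function.Injective (algebraMap A B)) [IsDomain A]
    [IsLocalRing A] [IsIntegrallyClosed A] [Algebra.IsIntegral A B] (n : Ideal B) [n.IsMaximal] :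
    ringKrullDim (Localization.AtPrime n) = ringKrullDim A := by
  haveI : FaithfulSMul A B := (faithfulSMul_iff_algebraMap_injective A B).2 hinj
  haveI hnp : n.IsPrime := Ideal.IsMaximal.isPrime inferInstance
  have hcomap : n.comap (algebraMap A B) = IsLocalRing.maximalIdeal A :=
    IsLocalRing.eq_maximalIdeal (Ideal.isMaximal_comap_of_isIntegral_of_isMaximal n)
  rw [IsLocalization.AtPrime.ringKrullDim_eq_height n (Localization.AtPrime n),
    ← IsLocalRing.maximalIdeal_height_eq_ringKrullDim]
  congr 1
  rw [(⟨n, hnp⟩ : PrimeSpectrum B).height_eq_orderHeight,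
    (⟨IsLocalRing.maximalIdeal A, inferInstance⟩ : PrimeSpectrum A).height_eq_orderHeight]
  apply le_antisymm
  · have hsm : StrictMono (PrimeSpectrum.comap (algebraMap A B)) := by
      intro p q hpq
      exact Ideal.IsIntegral.comap_lt_comap (R := A) hpq
    have h := Order.height_le_height_apply_of_strictMono _ hsm (⟨n, hnp⟩ : PrimeSpectrum B)
    have he : PrimeSpectrum.comap (algebraMap A B) ⟨n, hnp⟩ =
        ⟨IsLocalRing.maximalIdeal A, inferInstance⟩ := PrimeSpectrum.ext hcomap
    rw [he] at h
    exact h
  · apply Order.height_le
    intro l hl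
    haveI : n.LiesOver l.last.asIdeal := ⟨by rw [hl]; exact hcomap.symm⟩
    obtain ⟨L, hlen, hlast, -⟩ := Ideal.exists_ltSeries_of_hasGoingDown l n
    rw [← hlen]
    exact Order.length_le_height (le_of_eq hlast)

end Groth.Agent.S5764
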