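import Groth.Statements.S5765
import Mathlib

set_option autoImplicit false
universe u
open EGA41

namespace Groth.Agent.S5765

/-- Let A be a ring, M a finitely generated A-module and p a prime ideal of A. Then dim_{A_p}(M_p) +
dim_A(M/pM) ≤ dim_A(M). -/
theorem result (A : Type u) [CommRing A] (M : Type u)
    [AddCommGroup M] [Module A M] [Module.Finite A M] (p : Ideal A) [p.IsPrime] :
    Module.supportDim (Localization.AtPrime p) (LocalizedModule p.primeCompl M) +
        Module.supportDim A (M ⧸ (p • (⊤ : Submodule A M))) ≤ Module.supportDim A M := by
  classical
  by_cases hp : (⟨p, inferInstance⟩ : PrimeSpectrum A) ∈ Module.support A M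
  swap
  · have : Subsingleton (LocalizedModule p.primeCompl M) := by
      rw [Module.mem_support_iff] at hp
      exact not_nontrivial_iff_subsingleton.mp hp
    rw [Module.supportDim_eq_bot_of_subsingleton, WithBot.bot_add]
    exact bot_le
  · let P : Module.support A M := ⟨⟨p, inferInstance⟩, hp⟩
    have h1 : Module.supportDim (Localization.AtPrime p) (LocalizedModule p.primeCompl M) ≤
        (Order.height P : WithBot ℕ∞) := by
      rw [Order.height_eq_krullDim_Iic]
      unfold Module.supportDim
      have key : ∀ q : PrimeSpectrum (Localization.AtPrime p),
          q ∈ Module.support (Localization.AtPrime p) (LocalizedModule p.primeCompl M) →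
          PrimeSpectrum.comap (algebraMap A (Localization.AtPrime p)) q ∈ Module.support A M := by
        intro q hq
        rw [Module.mem_support_iff_of_finite] at hq ⊢
        intro a ha
        change algebraMap A (Localization.AtPrime p) a ∈ q.asIdeal
        apply hq
        rw [Module.mem_annihilator]
        intro x
        rw [algebraMap_smul]
        induction x using LocalizedModule.induction_on with
        | h m s =>
          rw [LocalizedModule.smul'_mk, Module.mem_annihilator.mp ha m, LocalizedModule.zero_mk]
      have key2 : ∀ q : PrimeSpectrum (Localization.AtPrime p),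
          PrimeSpectrum.comap (algebraMap A (Localization.AtPrime p)) q ≤ (⟨p, inferInstance⟩ : PrimeSpectrum A) := by
        intro q
        change Ideal.comap _ q.asIdeal ≤ p
        have h := IsLocalRing.le_maximalIdeal q.2.ne_top
        calc Ideal.comap _ q.asIdeal ≤ Ideal.comap (algebraMap A (Localization.AtPrime p))
              (IsLocalRing.maximalIdeal _) := Ideal.comap_mono h
          _ = p := IsLocalization.AtPrime.comap_maximalIdeal _ p
      refine Order.krullDim_le_of_strictMono
        (fun q => (⟨⟨PrimeSpectrum.comap (algebraMap A (Localization.AtPrime p)) q.1, key q.1 q.2⟩,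
          key2 q.1⟩ : Set.Iic P)) ?_
      apply Monotone.strictMono_of_injective
      · intro q q' h
        exact Ideal.comap_mono (f := algebraMap A (Localization.AtPrime p)) h
      · intro q q' h
        apply Subtype.ext
        apply PrimeSpectrum.localization_comap_injective (Localization.AtPrime p) p.primeCompl
        exact congrArg (fun x : Set.Iic P => x.1.1) h
    have h2 : Module.supportDim A (M ⧸ (p • (⊤ : Submodule A M))) ≤ (Order.coheight P : WithBot ℕ∞) := by
      rw [Order.coheight_eq_krullDim_Ici]
      unfold Module.supportDim
      have hsub : ∀ q ∈ Module.support A (M ⧸ (p • (⊤ : Submodule A M))),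
          q ∈ Module.support A M ∧ p ≤ q.asIdeal := by
        intro q hq
        rw [Module.support_quotient] at hq
        exact ⟨hq.1, hq.2⟩
      refine Order.krullDim_le_of_strictMono
        (fun q => (⟨⟨q.1, (hsub q.1 q.2).1⟩, (hsub q.1 q.2).2⟩ : Set.Ici P)) ?_
      intro q q' h
      exact h
    have h3 : ((Order.height P + Order.coheight P : ℕ∞) : WithBot ℕ∞) ≤ Module.supportDim A M := by
      unfold Module.supportDim
      haveI : Nonempty (Module.support A M) := ⟨P⟩
      rw [Order.krullDim_eq_iSup_height_add_coheight_of_nonempty, WithBot.coe_le_coe]
      exact le_iSup (fun a : Module.support A M => Order.height a + Order.coheight a) P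
    calc _ ≤ (Order.height P : WithBot ℕ∞) + (Order.coheight P : WithBot ℕ∞) := add_le_add h1 h2
      _ = ((Order.height P + Order.coheight P : ℕ∞) : WithBot ℕ∞) := (WithBot.coe_add _ _).symm
      _ ≤ _ := h3

end Groth.Agent.S5765
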