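import Groth.Statements.S5766
import Mathlib
import Groth.Agent.S5763

set_option autoImplicit false
universe u
open EGA41

namespace Groth.Agent.S5766

/-- Let A be a Noetherian ring, ρ : A → B a ring homomorphism and M a B-module which is finitely
generated as an A-module via ρ. Then the dimension of M as an A-module equals its dimension as a
B-module. -/
theorem result (A B : Type u) [CommRing A] [CommRing B] [IsNoetherianRing A]
    [Algebra A B] (M : Type u) [AddCommGroup M] [Module B M] [Module A M] [IsScalarTower A B M]
    [Module.Finite A M] : Module.supportDim A M = Module.supportDim B M := by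
  haveI : Module.Finite B M := Module.Finite.of_restrictScalars_finite A B M
  rw [Module.supportDim_eq_ringKrullDim_quotient_annihilator,
    Module.supportDim_eq_ringKrullDim_quotient_annihilator]
  set I := Module.annihilator A M with hI
  set J := Module.annihilator B M with hJ
  have hIJ : I = J.comap (algebraMap A B) := by
    ext a
    simp only [hI, hJ, Module.mem_annihilator, Ideal.mem_comap, algebraMap_smul]
  -- B ⧸ J embeds A-linearly into End_A M
  let e : B →ₐ[A] Module.End A M := Algebra.lsmul A A M
  have he : ∀ b ∈ J, e b = 0 := by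
    intro b hb
    ext x
    exact Module.mem_annihilator.mp hb x
  let f : (B ⧸ J) →ₐ[A] Module.End A M := Ideal.Quotient.liftₐ J e he
  have hf : Function.Injective f := by
    rw [injective_iff_map_eq_zero]
    intro x hx
    obtain ⟨b, rfl⟩ := Ideal.Quotient.mk_surjective x
    rw [Ideal.Quotient.eq_zero_iff_mem, hJ, Module.mem_annihilator]
    intro m
    have := LinearMap.congr_fun hx m
    simpa [f, e] using this
  haveI : Module.Finite A (B ⧸ J) := Module.Finite.of_injective f.toLinearMap hf
  haveI : Algebra.IsIntegral A (B ⧸ J) := Algebra.IsIntegral.of_finite A (B ⧸ J)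
  let φ : A ⧸ I →+* B ⧸ J := Ideal.quotientMap J (algebraMap A B) hIJ.le
  letI : Algebra (A ⧸ I) (B ⧸ J) := φ.toAlgebra
  haveI : IsScalarTower A (A ⧸ I) (B ⧸ J) := IsScalarTower.of_algebraMap_eq (fun a => rfl)
  haveI : Algebra.IsIntegral (A ⧸ I) (B ⧸ J) :=
    ⟨fun x => (Algebra.IsIntegral.isIntegral (R := A) x).tower_top⟩
  have hinj : Function.Injective (algebraMap (A ⧸ I) (B ⧸ J)) :=
    Ideal.quotientMap_injective' hIJ.ge
  exact ((Groth.Agent.S5763.result (A ⧸ I) (B ⧸ J)).2 hinj).symm

end Groth.Agent.S5766
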