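import Groth.Statements.S5767
import Mathlib
-- import your own Groth.Agent.* helpers here

set_option autoImplicit false
universe u
open EGA41

namespace Groth.Agent.S5767

section
open PrimeSpectrum

variable {A : Type u} [CommRing A] [IsNoetherianRing A]

/-- semilocal Noetherian rings have finite Krull dimension -/
theorem dim_lt_top [Finite (MaximalSpectrum A)] : ringKrullDim A < ⊤ := by
  classical
  cases nonempty_fintype (MaximalSpectrum A)
  have hfin : ∀ m : MaximalSpectrum A, m.asIdeal.height ≠ ⊤ := fun m =>
    Ideal.height_ne_top m.isMaximal.ne_top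
  let n : ℕ := Finset.univ.sup fun m : MaximalSpectrum A => m.asIdeal.height.toNat
  have hle : ringKrullDim A ≤ (n : WithBot ℕ∞) := by
    rw [ringKrullDim_le_iff_isMaximal_height_le]
    intro m hm
    have h1 : (⟨m, hm⟩ : MaximalSpectrum A).asIdeal.height.toNat ≤ n :=
      Finset.le_sup (f := fun m : MaximalSpectrum A => m.asIdeal.height.toNat) (Finset.mem_univ _)
    have h2 : m.height = (m.height.toNat : ℕ∞) :=
      (ENat.natCast_toNat (hfin ⟨m, hm⟩)).symm
    rw [h2]
    exact_mod_cast h1
  have h3 : ((n : ℕ∞) : WithBot ℕ∞) < ((⊤ : ℕ∞) : WithBot ℕ∞) :=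
    WithBot.coe_lt_coe.mpr (ENat.natCast_lt_top n)
  exact lt_of_le_of_lt hle h3

variable {N : Type u} [AddCommGroup N] [Module A N]

omit [IsNoetherianRing A] in
theorem dim_quot_le (p : PrimeSpectrum A) (hp : p ∈ Module.support A N) :
    ringKrullDim (A ⧸ p.asIdeal) ≤ Module.supportDim A N := by
  rw [ringKrullDim_quotient, Module.supportDim]
  have hsub : zeroLocus (p.asIdeal : Set A) ⊆ Module.support A N := fun q hq =>
    Module.mem_support_mono ((mem_zeroLocus _ _).mp hq) hp
  exact Order.krullDim_le_of_strictMono (Set.inclusion hsub) (fun a b h => h)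

omit [IsNoetherianRing A] in
theorem exists_dim_eq [Nontrivial N] [Module.Finite A N] (hfin : Module.supportDim A N < ⊤) :
    ∃ p : PrimeSpectrum A, p ∈ Module.support A N ∧
      ringKrullDim (A ⧸ p.asIdeal) = Module.supportDim A N := by
  have hne : Module.supportDim A N ≠ ⊥ := Module.supportDim_ne_bot_of_nontrivial A N
  haveI : FiniteDimensionalOrder (Module.support A N) :=
    Order.finiteDimensionalOrder_iff_krullDim_ne_bot_and_top.mpr ⟨hne, hfin.ne⟩
  let l := LTSeries.longestOf (Module.support A N)
  have hl : Module.supportDim A N = l.length := Order.krullDim_eq_length_of_finiteDimensionalOrder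
  refine ⟨l.head.1, l.head.2, le_antisymm (dim_quot_le _ l.head.2) ?_⟩
  rw [hl, ringKrullDim_quotient]
  let l' : LTSeries (zeroLocus (l.head.1.asIdeal : Set A)) :=
    { length := l.length
      toFun := fun i => ⟨(l i).1, (mem_zeroLocus _ _).mpr (by
        have := LTSeries.head_le l i
        exact this)⟩
      step := fun i => l.step i }
  exact Order.LTSeries.length_le_krullDim l'

theorem main (A : Type u) [CommRing A] [IsNoetherianRing A]
    [Finite (MaximalSpectrum A)] (M : Type u) [AddCommGroup M] [Module A M] [Module.Finite A M] (x : A)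
    (hx : x ∈ Ring.jacobson A) :
    Module.supportDim A (QuotSMulTop x M) + 1 = Module.supportDim A M ↔
      ∀ p : PrimeSpectrum A, p ∈ Module.support A M →
        ringKrullDim (A ⧸ p.asIdeal) = Module.supportDim A M → x ∉ p.asIdeal := by
  have hxj : x ∈ (Module.annihilator A M).jacobson := by
    rw [← Ideal.jacobson_bot] at hx
    exact Ideal.jacobson_mono bot_le hx
  have hF1 := Module.supportDim_le_supportDim_quotSMulTop_succ_of_mem_jacobson hxj
  rcases subsingleton_or_nontrivial M with hM | hM
  · have h1 : Module.supportDim A M = ⊥ := Module.supportDim_eq_bot_of_subsingleton A M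
    have h2 : Module.supportDim A (QuotSMulTop x M) = ⊥ :=
      Module.supportDim_eq_bot_of_subsingleton A _
    rw [h1, h2]
    constructor
    · intro _ p hp
      exfalso
      rw [Module.mem_support_iff] at hp
      exact false_of_nontrivial_of_subsingleton (LocalizedModule p.asIdeal.primeCompl M)
    · intro _; rfl
  · haveI : Nontrivial (QuotSMulTop x M) :=
      Submodule.Quotient.nontrivial_iff.mpr
        (Submodule.top_ne_pointwise_smul_of_mem_jacobson_annihilator hxj).symm
    have hsub : Module.support A (QuotSMulTop x M) ⊆ Module.support A M := by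
      rw [Module.support_quotSMulTop]; exact Set.inter_subset_left
    have hle : Module.supportDim A (QuotSMulTop x M) ≤ Module.supportDim A M :=
      Order.krullDim_le_of_strictMono (Set.inclusion hsub) (fun a b h => h)
    have hfinM : Module.supportDim A M < ⊤ :=
      lt_of_le_of_lt (Module.supportDim_le_ringKrullDim A M) dim_lt_top
    have hfinQ : Module.supportDim A (QuotSMulTop x M) < ⊤ := lt_of_le_of_lt hle hfinM
    have hneM : Module.supportDim A M ≠ ⊥ := Module.supportDim_ne_bot_of_nontrivial A M
    have hneQ : Module.supportDim A (QuotSMulTop x M) ≠ ⊥ :=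
      Module.supportDim_ne_bot_of_nontrivial A _
    -- lift to ℕ
    obtain ⟨d, hd⟩ : ∃ d : ℕ, Module.supportDim A M = d := by
      obtain ⟨e, he⟩ := WithBot.ne_bot_iff_exists.mp hneM
      have : e ≠ ⊤ := by
        rintro rfl
        rw [← he] at hfinM
        exact lt_irrefl _ hfinM
      obtain ⟨d, rfl⟩ := ENat.ne_top_iff_exists.mp this
      exact ⟨d, he.symm⟩
    obtain ⟨d', hd'⟩ : ∃ d' : ℕ, Module.supportDim A (QuotSMulTop x M) = d' := by
      obtain ⟨e, he⟩ := WithBot.ne_bot_iff_exists.mp hneQ
      have : e ≠ ⊤ := by
        rintro rfl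
        rw [← he] at hfinQ
        exact lt_irrefl _ hfinQ
      obtain ⟨d, rfl⟩ := ENat.ne_top_iff_exists.mp this
      exact ⟨d, he.symm⟩
    rw [hd, hd'] at hF1 hle ⊢
    have hF1' : d ≤ d' + 1 := by exact_mod_cast hF1
    have hle' : d' ≤ d := by exact_mod_cast hle
    constructor
    · intro heq p hp hdim hxp
      have heq' : d' + 1 = d := by exact_mod_cast heq
      have hpQ : p ∈ Module.support A (QuotSMulTop x M) := by
        rw [Module.support_quotSMulTop]
        exact ⟨hp, (mem_zeroLocus _ _).mpr (Set.singleton_subset_iff.mpr hxp)⟩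
      have h1 := dim_quot_le p hpQ
      rw [hdim, hd'] at h1
      have : d ≤ d' := by exact_mod_cast h1
      omega
    · intro H
      obtain ⟨q, hq, hqdim⟩ := exists_dim_eq (A := A) (N := QuotSMulTop x M) hfinQ
      have hq' := hq
      rw [Module.support_quotSMulTop] at hq'
      have hxq : x ∈ q.asIdeal := Set.singleton_subset_iff.mp ((mem_zeroLocus _ _).mp hq'.2)
      have hne : d' ≠ d := by
        intro h
        apply H q hq'.1 _ hxq
        rw [hqdim, hd', h]
      have : d' + 1 = d := by omega
      exact_mod_cast this

end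

/-- Let A be a semi-local Noetherian ring, M a finitely generated A-module and x an element of the
Jacobson radical of A. One always has dim(M/xM) ≥ dim(M) - 1; equality dim(M/xM) = dim(M) - 1 holds
if and only if x belongs to none of the prime ideals p of Supp(M) with dim(A/p) = dim(M). Stated as:
dim(M/xM) + 1 = dim(M) iff x avoids those primes. -/
theorem result (A : Type u) [CommRing A] [IsNoetherianRing A]
    [Finite (MaximalSpectrum A)] (M : Type u) [AddCommGroup M] [Module A M] [Module.Finite A M] (x : A)
    (hx : x ∈ Ring.jacobson A) :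
    Module.supportDim A (QuotSMulTop x M) + 1 = Module.supportDim A M ↔
      ∀ p : PrimeSpectrum A, p ∈ Module.support A M →
        ringKrullDim (A ⧸ p.asIdeal) = Module.supportDim A M → x ∉ p.asIdeal := by
  exact Groth.Agent.S5767.main A M x hx

end Groth.Agent.S5767
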