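import Groth.Statements.S5772
import Mathlib.RingTheory.Filtration

set_option autoImplicit false
universe u
open scoped Pointwise
open EGA41

namespace Groth.Agent.S5772

theorem reg_imp {A : Type u} [CommRing A] {M : Type u} [AddCommGroup M] [Module A M] (f : A)
    (hreg : IsSMulRegular M f) (k : ℕ) (x : M)
    (hx : f ^ k • x ∈ f ^ (k + 1) • (⊤ : Submodule A M)) : x ∈ f • (⊤ : Submodule A M) := by
  rw [Submodule.mem_smul_pointwise_iff_exists] at hx
  obtain ⟨y, _, hy⟩ := hx
  rw [pow_succ, mul_smul] at hy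
  have h2 : f • y = x := (hreg.pow k) hy
  rw [Submodule.mem_smul_pointwise_iff_exists]
  exact ⟨y, trivial, h2⟩

theorem mem_pow_of_crit {A : Type u} [CommRing A] {M : Type u} [AddCommGroup M] [Module A M] (f : A)
    (h : ∀ (k : ℕ) (x : M), f ^ k • x ∈ f ^ (k + 1) • (⊤ : Submodule A M) →
      x ∈ f • (⊤ : Submodule A M))
    (x : M) (hx : f • x = 0) (k : ℕ) : x ∈ f ^ k • (⊤ : Submodule A M) := by
  induction k with
  | zero => simp
  | succ k ih =>
    rw [Submodule.mem_smul_pointwise_iff_exists] at ih
    obtain ⟨y, _, hy⟩ := ih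
    have h1 : f ^ (k + 1) • y ∈ f ^ (k + 1 + 1) • (⊤ : Submodule A M) := by
      have h0 : f ^ (k + 1) • y = 0 := by rw [pow_succ', mul_smul, hy, hx]
      rw [h0]
      exact Submodule.zero_mem _
    have h2 := h (k + 1) y h1
    rw [Submodule.mem_smul_pointwise_iff_exists] at h2
    obtain ⟨z, _, hz⟩ := h2
    rw [Submodule.mem_smul_pointwise_iff_exists]
    refine ⟨z, trivial, ?_⟩
    rw [pow_succ, mul_smul, hz, hy]

/-- Let A be a Noetherian ring, M a finitely generated A-module and f an element of A. Then f is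
M-regular (multiplication by f on M is injective) if and only if f is M-quasi-regular, i.e. the
canonical surjection (M/fM)[T] → gr(M) for the (f)-adic filtration is bijective, which amounts to:
for every k ≥ 0 and x ∈ M, f^k x ∈ f^(k+1) M implies x ∈ fM. -/
theorem result (A : Type u) [CommRing A] [IsNoetherianRing A] (M : Type u)
    [AddCommGroup M] [Module A M] [Module.Finite A M] (f : A) :
    IsSMulRegular M f ↔
      ∀ (k : ℕ) (x : M), f ^ k • x ∈ f ^ (k + 1) • (⊤ : Submodule A M) → x ∈ f • (⊤ : Submodule A M) := by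
  constructor
  · intro hreg k x hx
    exact reg_imp f hreg k x hx
  · intro h
    rw [isSMulRegular_iff_right_eq_zero_of_smul]
    intro x hx
    have hmem : x ∈ (⨅ i : ℕ, (Ideal.span {f}) ^ i • ⊤ : Submodule A M) := by
      rw [Submodule.mem_iInf]
      intro i
      rw [Ideal.span_singleton_pow, Submodule.ideal_span_singleton_smul]
      exact mem_pow_of_crit f h x hx i
    obtain ⟨⟨r, hr⟩, hrx⟩ := (Ideal.mem_iInf_smul_pow_eq_bot_iff (Ideal.span {f}) x).1 hmem
    obtain ⟨g, rfl⟩ := Ideal.mem_span_singleton'.1 hr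
    rw [← hrx]
    change (g * f) • x = 0
    rw [mul_smul, hx, smul_zero]

end Groth.Agent.S5772
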