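import Groth.Statements.S5773
import Mathlib
import Groth.Agent.Lib.Helper9.RegFlat

set_option autoImplicit false
universe u
open EGA41

namespace Groth.Agent.S5773

/-- Let A → B be a local homomorphism of Noetherian local rings, M a finitely generated B-module and
f_1, ..., f_n elements of the maximal ideal of B forming an M-regular sequence. If the quotient
M/(f_1 M + ... + f_n M) is flat over A, then all the quotients M/(f_1 M + ... + f_i M) for 0 ≤ i ≤ n
(in particular M) are flat over A. -/
theorem result (A B : Type u) [CommRing A] [CommRing B]
    [IsLocalRing A] [IsLocalRing B] [IsNoetherianRing A] [IsNoetherianRing B] [Algebra A B]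
    [IsLocalHom (algebraMap A B)] (M : Type u) [AddCommGroup M] [Module B M] [Module A M]
    [IsScalarTower A B M] [Module.Finite B M] (fs : List B) (hfs : ∀ f ∈ fs, f ∈ IsLocalRing.maximalIdeal B)
    (hreg : RingTheory.Sequence.IsWeaklyRegular M fs)
    (hflat : Module.Flat A (M ⧸ (Ideal.ofList fs • (⊤ : Submodule B M)))) (i : ℕ) (hi : i ≤ fs.length) :
    Module.Flat A (M ⧸ (Ideal.ofList (fs.take i) • (⊤ : Submodule B M))) := by
  have key : ∀ d i : ℕ, i + d = fs.length →
      Module.Flat A (M ⧸ (Ideal.ofList (fs.take i) • (⊤ : Submodule B M))) := by
    intro d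
    induction d with
    | zero =>
      intro i hi
      have : i = fs.length := by omega
      rw [this, List.take_length]
      exact hflat
    | succ d ih =>
      intro i hi
      have hi' : i < fs.length := by omega
      haveI := ih (i + 1) (by omega)
      have hjac : fs[i] ∈ Ideal.jacobson (⊥ : Ideal B) := by
        rw [IsLocalRing.jacobson_eq_maximalIdeal ⊥ bot_ne_top]
        exact hfs _ (List.getElem_mem hi')
      exact Groth.Agent.Helper9.RegFlat.flat_of_flat_quotient (A := A) (B := B) fs[i] hjac
        (hreg.regular_mod_prev i hi')
        (Submodule.factor (Groth.Agent.Helper9.RegFlat.ofList_take_le_succ fs i))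
        (Submodule.factor_surjective _)
        (Groth.Agent.Helper9.RegFlat.factor_eq_zero_iff fs i hi')
  exact key (fs.length - i) i (by omega)

end Groth.Agent.S5773
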