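import Groth.Statements.S5780
import Mathlib

set_option autoImplicit false
universe u
open EGA41

namespace Groth.Agent.S5780

/-- Let A be a Noetherian local ring with maximal ideal m. If every element of m which is not in m² is a
zero divisor in A, then there is a nonzero c in A with c m = 0, i.e. m is an associated prime of A. -/
theorem result (A : Type u) [CommRing A]
    [IsLocalRing A] [IsNoetherianRing A]
    (h : ∀ a ∈ IsLocalRing.maximalIdeal A, a ∉ IsLocalRing.maximalIdeal A ^ 2 → ¬ IsSMulRegular A a) :
    IsLocalRing.maximalIdeal A ∈ associatedPrimes A A := by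
  classical
  set m := IsLocalRing.maximalIdeal A with hm
  have hfin : (associatedPrimes A A).Finite := associatedPrimes.finite A A
  -- m ⊆ m² ∪ ⋃ Ass
  have hsub : (m : Set A) ⊆ ⋃ i ∈ ((insert (m ^ 2) hfin.toFinset : Finset (Ideal A)) : Set (Ideal A)), (i : Set A) := by
    intro a ha
    by_cases ha2 : a ∈ m ^ 2
    · refine Set.mem_biUnion (x := m ^ 2) ?_ ha2
      simp
    · have hz := h a ha ha2
      have : a ∈ ⋃ p ∈ associatedPrimes A A, (p : Set A) := by
        rw [biUnion_associatedPrimes_eq_zero_divisors]
        simp only [IsSMulRegular, Function.Injective, not_forall] at hz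
        obtain ⟨x, y, hxy, hne⟩ := hz
        refine ⟨x - y, sub_ne_zero.mpr hne, ?_⟩
        simp only [smul_sub] at hxy ⊢
        exact sub_eq_zero.mpr hxy
      obtain ⟨p, hp, hap⟩ := Set.mem_iUnion₂.mp this
      refine Set.mem_biUnion (x := p) ?_ hap
      simp [hp]
  rw [Ideal.subset_union_prime (m ^ 2) (m ^ 2)] at hsub
  · obtain ⟨i, hi, hmi⟩ := hsub
    simp only [Finset.mem_insert, Set.Finite.mem_toFinset] at hi
    rcases hi with rfl | hi
    · -- m ≤ m^2, so m = ⊥
      have hbot : m = ⊥ := by
        apply Submodule.eq_bot_of_le_smul_of_le_jacobson_bot m m (IsNoetherian.noetherian _)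
        · rw [smul_eq_mul, ← pow_two]; exact hmi
        · rw [IsLocalRing.jacobson_eq_maximalIdeal ⊥ bot_ne_top]
      obtain ⟨p, hp⟩ := associatedPrimes.nonempty A A
      have hp' : p.IsPrime := (AssociatedPrimes.mem_iff.mp hp).isPrime
      have : p = m := by
        apply le_antisymm (IsLocalRing.le_maximalIdeal hp'.ne_top)
        exact hbot.le.trans bot_le
      rw [← this]; exact hp
    · have hp' : i.IsPrime := (AssociatedPrimes.mem_iff.mp hi).isPrime
      have : i = m := le_antisymm (IsLocalRing.le_maximalIdeal hp'.ne_top) hmi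
      rw [← this]; exact hi
  · intro i hi h1 _
    simp only [Finset.mem_insert, Set.Finite.mem_toFinset] at hi
    rcases hi with rfl | hi
    · exact absurd rfl h1
    · exact (AssociatedPrimes.mem_iff.mp hi).isPrime

end Groth.Agent.S5780
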