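import Groth.Statements.S5781
import Mathlib

set_option autoImplicit false
universe u
open EGA41

namespace Groth.Agent.S5781

/-- Suppose A is a Noetherian local ring whose maximal ideal is m, and take a ∈ m with a ∉ m². Then the
quotient m/am contains a direct summand isomorphic to m/Aa: concretely, one can find A-linear maps f
: m/Aa → m/am and g : m/am → m/Aa such that g ∘ f is the identity. -/
theorem result (A : Type u) [CommRing A] [IsLocalRing A]
    [IsNoetherianRing A] (a : A) (ha : a ∈ IsLocalRing.maximalIdeal A) (ha2 : a ∉ IsLocalRing.maximalIdeal A ^ 2) :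
    ∃ (f : (↥(IsLocalRing.maximalIdeal A) ⧸ Submodule.span A {(⟨a, ha⟩ : ↥(IsLocalRing.maximalIdeal A))}) →ₗ[A]
          QuotSMulTop a ↥(IsLocalRing.maximalIdeal A))
      (g : QuotSMulTop a ↥(IsLocalRing.maximalIdeal A) →ₗ[A]
          (↥(IsLocalRing.maximalIdeal A) ⧸ Submodule.span A {(⟨a, ha⟩ : ↥(IsLocalRing.maximalIdeal A))})),
      g.comp f = LinearMap.id := by
  classical
  let m := IsLocalRing.maximalIdeal A
  let k := IsLocalRing.ResidueField A
  let v : IsLocalRing.CotangentSpace A := m.toCotangent ⟨a, ha⟩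
  have hv : v ≠ 0 := fun h => ha2 ((Ideal.toCotangent_eq_zero _ _).mp h)
  obtain ⟨l, hl⟩ := Module.Projective.exists_dual_eq_one k hv
  let lam : m →ₗ[A] k := (l.restrictScalars A).comp m.toCotangent
  have hlam : lam ⟨a, ha⟩ = 1 := hl
  let abar : QuotSMulTop a m := Submodule.Quotient.mk ⟨a, ha⟩
  have hker : m ≤ LinearMap.ker (LinearMap.toSpanSingleton A (QuotSMulTop a m) abar) := by
    intro c hc
    rw [LinearMap.mem_ker, LinearMap.toSpanSingleton_apply]
    change c • (Submodule.Quotient.mk (⟨a, ha⟩ : m) : QuotSMulTop a m) = 0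
    rw [← Submodule.Quotient.mk_smul, Submodule.Quotient.mk_eq_zero]
    have : c • (⟨a, ha⟩ : m) = a • (⟨c, hc⟩ : m) := by
      ext; simp [mul_comm]
    rw [this]
    exact Submodule.smul_mem_pointwise_smul _ _ _ Submodule.mem_top
  let ψ : k →ₗ[A] QuotSMulTop a m := Submodule.liftQ m _ hker
  have hψ' : ∀ c : A, ψ (Submodule.Quotient.mk c) = c • abar := fun c => by
    change Submodule.liftQ m _ hker (Submodule.Quotient.mk c) = _
    rw [Submodule.liftQ_apply, LinearMap.toSpanSingleton_apply]
  have hψ : ψ 1 = abar := by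
    have := hψ' 1
    rw [one_smul] at this
    exact this
  let φ : m →ₗ[A] QuotSMulTop a m := Submodule.mkQ _ - ψ.comp lam
  have hφ : Submodule.span A {(⟨a, ha⟩ : m)} ≤ LinearMap.ker φ := by
    rw [Submodule.span_le, Set.singleton_subset_iff]
    change φ ⟨a, ha⟩ = 0
    simp only [φ, LinearMap.sub_apply, LinearMap.comp_apply, hlam, hψ, Submodule.mkQ_apply]
    exact sub_self _
  let g : QuotSMulTop a m →ₗ[A] (m ⧸ Submodule.span A {(⟨a, ha⟩ : m)}) :=
    Submodule.liftQ _ (Submodule.mkQ (Submodule.span A {(⟨a, ha⟩ : m)})) (by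
      rw [Submodule.ker_mkQ]
      intro y hy
      obtain ⟨x, -, rfl⟩ := (Submodule.mem_smul_pointwise_iff_exists _ _ _).mp hy
      have : a • x = (x : A) • (⟨a, ha⟩ : m) := by
        ext; simp [mul_comm]
      rw [this]
      exact Submodule.smul_mem _ _ (Submodule.mem_span_singleton_self _))
  refine ⟨Submodule.liftQ _ φ hφ, g, ?_⟩
  apply LinearMap.ext
  intro y
  obtain ⟨x, rfl⟩ := Submodule.Quotient.mk_surjective _ y
  simp only [LinearMap.comp_apply, LinearMap.id_apply]
  change g (φ x) = _
  have hgψ : ∀ c : k, g (ψ c) = 0 := by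
    intro c
    obtain ⟨c, rfl⟩ := Submodule.Quotient.mk_surjective _ c
    rw [hψ' c, map_smul]
    have : g abar = 0 := by
      change Submodule.mkQ _ (⟨a, ha⟩ : m) = 0
      rw [Submodule.mkQ_apply, Submodule.Quotient.mk_eq_zero]
      exact Submodule.mem_span_singleton_self _
    rw [this, smul_zero]
  simp only [φ, LinearMap.sub_apply, LinearMap.comp_apply, map_sub, hgψ, sub_zero]
  rfl

end Groth.Agent.S5781
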