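import Groth.Statements.S5806
import Mathlib
open scoped Pointwise

set_option autoImplicit false
universe u
open EGA41

namespace Groth.Agent.S5806

open TensorProduct in
/-- Let A be a ring, B a commutative A-algebra, (f_i)_{1 ≤ i ≤ n} elements of B and M a B-module.
Suppose (f_i) is M-regular and each of the A-modules M/(f_1 M + ... + f_i M), 0 ≤ i ≤ n, is flat.
Then for every ring homomorphism A → A', writing M' = M ⊗_A A' and f'_i = f_i ⊗ 1, the sequence
(f'_i) is M'-regular and the A'-modules M'/(f'_1 M' + ... + f'_{i-1} M') are flat: concretely,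
identifying M'/(f'_1 M' + ... + f'_{i-1} M') with A' ⊗_A (M/(f_1 M + ... + f_{i-1} M)),
multiplication by f_i on the latter is injective and the latter is A'-flat, for 1 ≤ i ≤ n. (The
published hypothesis lists only the flatness of M/(f_1 M + ... + f_{i-1} M) for 1 ≤ i ≤ n, omitting
M/(f_1 M + ... + f_n M); with that omission the case n = 1, A = B = k[t], M = k[t], f_1 = t, A' =
k[t]/(t) fails, since t acts as zero on k ⊗_A M = k, and the published proof uses the flatness of
M/(f_1 M + ... + f_i M) for every i ≤ n; so flatness of all these quotients is assumed here.) -/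
theorem result (A B : Type u) [CommRing A]
    [CommRing B] [Algebra A B] (M : Type u) [AddCommGroup M] [Module B M] [Module A M] [IsScalarTower A B M]
    (fs : List B) (hreg : RingTheory.Sequence.IsWeaklyRegular M fs)
    (hflat : ∀ i : ℕ, i ≤ fs.length → Module.Flat A (M ⧸ (Ideal.ofList (fs.take i) • (⊤ : Submodule B M))))
    (A' : Type u) [CommRing A'] [Algebra A A'] (i : Fin fs.length) :
    Function.Injective (LinearMap.lTensor A'
        (((LinearMap.lsmul B (M ⧸ (Ideal.ofList (fs.take i) • (⊤ : Submodule B M)))) (fs.get i)).restrictScalars A)) ∧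
      Module.Flat A' (A' ⊗[A] (M ⧸ (Ideal.ofList (fs.take i) • (⊤ : Submodule B M)))) := by
  have hi1 : (i : ℕ) + 1 ≤ fs.length := i.2
  haveI := hflat i (le_of_lt i.2)
  haveI := hflat (i + 1) hi1
  refine ⟨?_, inferInstance⟩
  set N₁ : Submodule B M := Ideal.ofList (fs.take i) • (⊤ : Submodule B M) with hN₁
  set N₂ : Submodule B M := Ideal.ofList (fs.take (i + 1)) • (⊤ : Submodule B M) with hN₂
  have hN : N₂ = N₁ ⊔ (fs.get i) • (⊤ : Submodule B M) := by
    have htake : fs.take ((i : ℕ) + 1) = fs.take i ++ [fs.get i] := by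
      rw [List.take_succ_eq_append_getElem i.2]
      rfl
    rw [hN₂, htake, Ideal.ofList_append, Submodule.sup_smul, Ideal.ofList_singleton,
      Submodule.ideal_span_singleton_smul]
  have hle : N₁ ≤ N₂ := by rw [hN]; exact le_sup_left
  let f : (M ⧸ N₁) →ₗ[B] (M ⧸ N₂) := Submodule.mapQ N₁ N₂ LinearMap.id (by simpa using hle)
  have hf : Function.Surjective (f.restrictScalars A) := by
    intro y
    obtain ⟨m, rfl⟩ := Submodule.Quotient.mk_surjective _ y
    exact ⟨Submodule.Quotient.mk m, rfl⟩
  have hg : Function.Injective (((LinearMap.lsmul B (M ⧸ N₁)) (fs.get i)).restrictScalars A) :=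
    hreg.regular_mod_prev i i.2
  have hex : Function.Exact (((LinearMap.lsmul B (M ⧸ N₁)) (fs.get i)).restrictScalars A)
      (f.restrictScalars A) := by
    intro y
    obtain ⟨m, rfl⟩ := Submodule.Quotient.mk_surjective _ y
    change (Submodule.Quotient.mk m : M ⧸ N₂) = 0 ↔ _
    rw [Submodule.Quotient.mk_eq_zero, hN, Submodule.mem_sup]
    constructor
    · rintro ⟨n, hn, z, hz, rfl⟩
      obtain ⟨m', -, rfl⟩ := (Submodule.mem_smul_pointwise_iff_exists _ _ _).1 hz
      refine ⟨Submodule.Quotient.mk m', ?_⟩
      change (fs.get i) • (Submodule.Quotient.mk m' : M ⧸ N₁) = _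
      rw [← Submodule.Quotient.mk_smul, eq_comm, Submodule.Quotient.eq]
      simpa using hn
    · rintro ⟨y', hy'⟩
      obtain ⟨m', rfl⟩ := Submodule.Quotient.mk_surjective _ y'
      change (fs.get i) • (Submodule.Quotient.mk m' : M ⧸ N₁) = _ at hy'
      rw [← Submodule.Quotient.mk_smul, eq_comm, Submodule.Quotient.eq] at hy'
      refine ⟨m - fs.get i • m', hy', fs.get i • m', ?_, by abel⟩
      exact Submodule.smul_mem_pointwise_smul _ _ _ Submodule.mem_top
  exact LinearMap.lTensor_injective_of_exact_of_flat (f.restrictScalars A) hf _ hg hex A' 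

end Groth.Agent.S5806
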