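import Groth.Statements.S5807
import Mathlib

set_option autoImplicit false
universe u
open EGA41

namespace Groth.Agent.S5807

/-- Let A be a Noetherian ring which is a quotient of a regular ring B, and C an A-algebra of finite
type. Then every ring of fractions of C is a quotient of a regular ring. -/
theorem result (B A C : Type u) [CommRing B]
    [IsRegularRing B] [CommRing A] (π : B →+* A) (hπ : Function.Surjective π) [CommRing C] [Algebra A C]
    [Algebra.FiniteType A C] (S : Submonoid C) :
    ∃ (R : Type u) (_ : CommRing R) (_ : IsRegularRing R) (f : R →+* Localization S),
      Function.Surjective f := by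
  classical
  have hregloc : ∀ (P : Type u) [CommRing P] [IsRegularRing P] (T : Submonoid P),
      IsRegularRing (Localization T) := by
    intro P _ _ T
    rw [isRegularRing_iff]
    intro q hq
    exact IsRegularLocalRing.of_ringEquiv
      (IsLocalization.localizationLocalizationAtPrimeIsoLocalization T q).toRingEquiv
  obtain ⟨n, φ, hφ⟩ := Algebra.FiniteType.iff_quotient_mvPolynomial''.mp
    (inferInstance : Algebra.FiniteType A C)
  let ψ : MvPolynomial (Fin n) B →+* C := φ.toRingHom.comp (MvPolynomial.map π)
  have hψ : Function.Surjective ψ := hφ.comp (MvPolynomial.map_surjective π hπ)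
  let T : Submonoid (MvPolynomial (Fin n) B) := S.comap ψ
  have hTS : T.map ψ = S := Submonoid.map_comap_eq_of_surjective hψ S
  have hloc : IsLocalization (T.map ψ) (Localization S) := by
    rw [hTS]
    infer_instance
  have hreg : IsRegularRing (Localization T) := hregloc _ T
  exact ⟨Localization T, inferInstance, hreg,
    IsLocalization.map (Localization S) ψ T.le_comap_map,
    IsLocalization.map_surjective_of_surjective T (Localization T) (Localization S) hψ⟩

end Groth.Agent.S5807
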