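import Groth.Statements.S5810
import Mathlib
import Groth.Agent.Lib.Lead.Flat1
import Groth.Agent.S0543

set_option autoImplicit false
universe u
open EGA41

namespace Groth.Agent.S5810

/-- Let A be a Noetherian local ring with maximal ideal m and M a finitely generated A-module; write Â
and M̂ for the m-adic completions. Then prof_A(M) = prof_Â(M̂). -/
theorem result (A : Type u) [CommRing A] [IsLocalRing A] [IsNoetherianRing A] (M : Type u)
    [AddCommGroup M] [Module A M] [Module.Finite A M] :
    LocCoh.depth (AdicCompletion (IsLocalRing.maximalIdeal A) A) (AdicCompletion (IsLocalRing.maximalIdeal A) M) =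
      LocCoh.depth A M := by
  haveI hN : IsNoetherianRing (AdicCompletion (IsLocalRing.maximalIdeal A) A) :=
    Groth.Agent.S0543.result A (IsLocalRing.maximalIdeal A)
  haveI hF : Module.Flat A (AdicCompletion (IsLocalRing.maximalIdeal A) A) :=
    AdicCompletion.flat_of_isNoetherian (IsLocalRing.maximalIdeal A)
  have hmin : IsLocalRing.maximalIdeal (AdicCompletion (IsLocalRing.maximalIdeal A) A) ∈
      (Ideal.map (algebraMap A (AdicCompletion (IsLocalRing.maximalIdeal A) A))
        (IsLocalRing.maximalIdeal A)).minimalPrimes := by
    rw [← AdicCompletion.maximalIdeal_eq_map, Ideal.minimalPrimes_eq_subsingleton_self]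
    exact Set.mem_singleton _
  rw [← Groth.Agent.Lead.Depth.depth_baseChange hmin M]
  exact (Groth.Agent.Lead.Depth.depth_congr
    (AdicCompletion.ofTensorProductEquivOfFiniteNoetherian (IsLocalRing.maximalIdeal A) M)).symm

end Groth.Agent.S5810
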