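import Groth.Statements.S5825
import Mathlib

set_option autoImplicit false
universe u v w
open EGA41

namespace Groth.Agent.S5825

/-- Let A be a topological ring, M, N topological A-modules with the topologies deduced from that of A,
and u : M → N a continuous linear map with dense image (a formal epimorphism). Then u is a formal
bimorphism (dense image and inducing) if and only if, for every open ideal J of A, the induced map
M/JM → N/JN is bijective (injectivity and surjectivity are written out elementwise). -/
theorem result {A : Type u} {M : Type v} {N : Type w} [CommRing A]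
    [TopologicalSpace A] [AddCommGroup M] [Module A M] [TopologicalSpace M] [AddCommGroup N] [Module A N]
    [TopologicalSpace N] (hM : TopMod.IsDeduced A M) (hN : TopMod.IsDeduced A N) (u : M →L[A] N)
    (hu : DenseRange u) :
    IsDenseInducing u ↔
      ∀ J : Ideal A, IsOpen (J : Set A) →
        (∀ x : M, u x ∈ (J • ⊤ : Submodule A N) → x ∈ (J • ⊤ : Submodule A M)) ∧
          ∀ y : N, ∃ x : M, y - u x ∈ (J • ⊤ : Submodule A N) := by
  obtain ⟨hMg, hMb⟩ := hM
  obtain ⟨hNg, hNb⟩ := hN
  haveI := hMg
  haveI := hNg
  have hdense : ∀ J : Ideal A, IsOpen (J : Set A) →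
      ∀ y : N, ∃ x : M, y - u x ∈ (J • ⊤ : Submodule A N) := by
    intro J hJ y
    have hnb : (fun z => y - z) ⁻¹' ((J • ⊤ : Submodule A N) : Set N) ∈ nhds y := by
      have hc : ContinuousAt (fun z : N => y - z) y :=
        (continuous_const.sub continuous_id).continuousAt
      apply hc.preimage_mem_nhds
      rw [sub_self]
      exact hNb.mem_of_mem hJ
    obtain ⟨x, hx⟩ := hu.mem_nhds hnb
    exact ⟨x, hx⟩
  have h1 : IsDenseInducing u ↔ Topology.IsInducing u :=
    ⟨fun h => h.toIsInducing, fun h => ⟨h, hu⟩⟩
  rw [h1, IsTopologicalAddGroup.isInducing_iff_nhds_zero]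
  constructor
  · intro hnh J hJ
    refine ⟨?_, hdense J hJ⟩
    intro x hx
    have hJM : ((J • ⊤ : Submodule A M) : Set M) ∈ nhds (0 : M) := hMb.mem_of_mem hJ
    rw [hnh, Filter.mem_comap] at hJM
    obtain ⟨V, hV, hVsub⟩ := hJM
    obtain ⟨J', hJ', hJ'sub⟩ := hNb.mem_iff.1 hV
    have key : ∀ y ∈ (J • ⊤ : Submodule A N),
        ∃ m ∈ (J • ⊤ : Submodule A M), y - u m ∈ (J' • ⊤ : Submodule A N) := by
      intro y hy
      refine Submodule.smul_induction_on hy ?_ ?_
      · intro r hr n _
        obtain ⟨m₀, hm₀⟩ := hdense J' hJ' n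
        refine ⟨r • m₀, Submodule.smul_mem_smul hr Submodule.mem_top, ?_⟩
        rw [map_smul, ← smul_sub]
        exact Submodule.smul_mem _ r hm₀
      · rintro y y' ⟨m, hm, hmy⟩ ⟨m', hm', hmy'⟩
        refine ⟨m + m', Submodule.add_mem _ hm hm', ?_⟩
        have : y + y' - u (m + m') = (y - u m) + (y' - u m') := by
          rw [map_add]; abel
        rw [this]
        exact Submodule.add_mem _ hmy hmy'
    obtain ⟨m, hm, hmy⟩ := key (u x) hx
    have h2 : x - m ∈ (J • ⊤ : Submodule A M) := by
      apply hVsub
      apply hJ'sub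
      change u (x - m) ∈ (J' • ⊤ : Submodule A N)
      rw [map_sub]
      exact hmy
    have := Submodule.add_mem _ h2 hm
    rwa [sub_add_cancel] at this
  · intro h
    apply le_antisymm
    · have := u.continuous.tendsto 0
      rw [map_zero] at this
      exact Filter.map_le_iff_le_comap.1 this
    · intro s hs
      obtain ⟨J, hJ, hJsub⟩ := hMb.mem_iff.1 hs
      rw [Filter.mem_comap]
      refine ⟨((J • ⊤ : Submodule A N) : Set N), hNb.mem_of_mem hJ, ?_⟩
      intro x hx
      exact hJsub ((h J hJ).1 x hx)

end Groth.Agent.S5825
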