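import Groth.Statements.S5826
import Mathlib

set_option autoImplicit false
universe u v w
open EGA41

namespace Groth.Agent.S5826

/-- Let A be a topological ring, M, N topological A-modules with the topologies deduced from that of A,
u : M → N a continuous linear map. Then u is formally left invertible if and only if, for every open
ideal J of A, the induced map M/JM → N/JN is left invertible, i.e. some linear map N → M/JM composes
with u to the projection M → M/JM. -/
theorem result {A : Type u} {M : Type v} {N : Type w}
    [CommRing A] [TopologicalSpace A] [AddCommGroup M] [Module A M] [TopologicalSpace M] [AddCommGroup N]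
    [Module A N] [TopologicalSpace N] (hM : TopMod.IsDeduced A M) (hN : TopMod.IsDeduced A N)
    (u : M →L[A] N) :
    TopMod.IsFormallyLeftInvertible u ↔
      ∀ J : Ideal A, IsOpen (J : Set A) →
        ∃ w : N →ₗ[A] M ⧸ (J • ⊤ : Submodule A M), ∀ x : M, w (u x) = Submodule.Quotient.mk x := by
  obtain ⟨hMg, hMb⟩ := hM
  obtain ⟨hNg, hNb⟩ := hN
  haveI := hMg
  haveI := hNg
  constructor
  · intro hu J hJ
    letI : TopologicalSpace (M ⧸ (J • ⊤ : Submodule A M)) := ⊥
    haveI : DiscreteTopology (M ⧸ (J • ⊤ : Submodule A M)) := ⟨rfl⟩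
    have hcont : Continuous (Submodule.mkQ (J • ⊤ : Submodule A M)) := by
      apply continuous_of_continuousAt_zero (Submodule.mkQ (J • ⊤ : Submodule A M))
      have h0 : nhds (0 : M ⧸ (J • ⊤ : Submodule A M)) = pure 0 := congrFun (nhds_discrete _) 0
      rw [ContinuousAt, map_zero, h0, Filter.tendsto_pure]
      have : ((J • ⊤ : Submodule A M) : Set M) ∈ nhds (0 : M) := hMb.mem_of_mem hJ
      filter_upwards [this] with x hx
      exact (Submodule.Quotient.mk_eq_zero _).2 hx
    obtain ⟨w, hw⟩ := hu (M ⧸ (J • ⊤ : Submodule A M)) ⟨Submodule.mkQ _, hcont⟩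
    exact ⟨w.toLinearMap, fun x => hw x⟩
  · intro h E _ _ _ _ v
    have hker : (v ⁻¹' {0}) ∈ nhds (0 : M) := by
      apply v.continuous.continuousAt.preimage_mem_nhds
      rw [map_zero]
      exact (isOpen_discrete {0}).mem_nhds rfl
    obtain ⟨J, hJ, hJsub⟩ := hMb.mem_iff.1 hker
    obtain ⟨wJ, hwJ⟩ := h J hJ
    have hle : (J • ⊤ : Submodule A M) ≤ LinearMap.ker v.toLinearMap := fun x hx => hJsub hx
    let vbar : (M ⧸ (J • ⊤ : Submodule A M)) →ₗ[A] E := Submodule.liftQ _ v.toLinearMap hle
    let w : N →ₗ[A] E := vbar.comp wJ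
    have hwker : ∀ y ∈ (J • ⊤ : Submodule A N), w y = 0 := by
      intro y hy
      refine Submodule.smul_induction_on hy ?_ ?_
      · intro r hr n _
        change vbar (wJ (r • n)) = 0
        obtain ⟨m, hm⟩ := Submodule.Quotient.mk_surjective _ (wJ n)
        rw [map_smul, ← hm, ← Submodule.Quotient.mk_smul,
          (Submodule.Quotient.mk_eq_zero _).2 (Submodule.smul_mem_smul hr Submodule.mem_top),
          map_zero]
      · intro x y hx hy
        rw [map_add, hx, hy, add_zero]
    have hcont : Continuous w := by
      apply continuous_of_continuousAt_zero w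
      have h0 : nhds (0 : E) = pure 0 := congrFun (nhds_discrete _) 0
      rw [ContinuousAt, map_zero, h0, Filter.tendsto_pure]
      have : ((J • ⊤ : Submodule A N) : Set N) ∈ nhds (0 : N) := hNb.mem_of_mem hJ
      filter_upwards [this] with y hy
      exact hwker y hy
    refine ⟨⟨w, hcont⟩, fun x => ?_⟩
    change vbar (wJ (u x)) = v x
    rw [hwJ]
    rfl

end Groth.Agent.S5826
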