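import Groth.Statements.S5828
import Mathlib

set_option autoImplicit false
universe u v
open EGA41

namespace Groth.Agent.S5828

/-- Commutative case. For an A-extension X of C by a C-module L, with middle ring E, projection p and
inclusion i, the A-derivations D : C → L and the self-equivalences of X correspond under D ↦ (x ↦ x
+ i (D (p x))): every derivation defines a self-equivalence with this formula, and every
self-equivalence is of this form for exactly one derivation. (Bijection of sets; the published
statement also records compatibility with the group laws.) -/
theorem result {A : Type u} {C L : Type v} [CommRing A] [CommRing C] [Algebra A C]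
    [AddCommGroup L] [Module C L] [Module A L] [IsScalarTower A C L] (X : Exal.Ext A C L) :
    (∀ D : Derivation A C L, ∃ e : X.Equiv X, ∀ x : X.E, e.toAlgEquiv x = x + X.incl (D (X.proj x))) ∧
      ∀ e : X.Equiv X, ∃! D : Derivation A C L, ∀ x : X.E, e.toAlgEquiv x = x + X.incl (D (X.proj x)) := by
  have hpi : ∀ z : L, X.proj (X.incl z) = 0 := fun z => (X.isExtension.exact _).2 ⟨z, rfl⟩
  have hii : ∀ z z' : L, X.incl z * X.incl z' = 0 := fun z z' => by
    rw [X.isExtension.mul_incl, hpi, zero_smul, map_zero]
  have hsmul : ∀ (a : A) (z : L), X.incl (a • z) = a • X.incl z := fun a z => by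
    rw [Algebra.smul_def, X.isExtension.mul_incl, AlgHom.commutes, algebraMap_smul]
  constructor
  · intro D
    let F : Derivation A C L → (X.E →ₐ[A] X.E) := fun D =>
      { toFun := fun x => x + X.incl (D (X.proj x))
        map_one' := by
          rw [map_one, Derivation.map_one_eq_zero, map_zero, add_zero]
        map_mul' := fun x y => by
          rw [map_mul, Derivation.leibniz, map_add, ← X.isExtension.mul_incl,
            ← X.isExtension.mul_incl]
          have := hii (D (X.proj x)) (D (X.proj y))
          linear_combination (-1 : X.E) * this
        map_zero' := by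
          rw [map_zero, map_zero, map_zero, add_zero]
        map_add' := fun x y => by
          rw [map_add, map_add, map_add]
          abel
        commutes' := fun a => by
          change algebraMap A X.E a + X.incl (D (X.proj (algebraMap A X.E a))) = algebraMap A X.E a
          rw [AlgHom.commutes, Derivation.map_algebraMap, map_zero, add_zero] }
    have hF : ∀ (D : Derivation A C L) (x : X.E), F D x = x + X.incl (D (X.proj x)) := fun _ _ => rfl
    have hcomp : ∀ D : Derivation A C L, (F D).comp (F (-D)) = AlgHom.id A X.E := by
      intro D
      ext x
      rw [AlgHom.comp_apply, hF, hF, AlgHom.id_apply, map_add, hpi, add_zero, Derivation.neg_apply,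
        map_neg]
      abel
    refine ⟨⟨AlgEquiv.ofAlgHom (F D) (F (-D)) (hcomp D) (by simpa using hcomp (-D)), ?_, ?_⟩, ?_⟩
    · intro x
      change X.proj (F D x) = _
      rw [hF, map_add, hpi, add_zero]
    · intro z
      change F D (X.incl z) = _
      rw [hF, hpi, map_zero, map_zero, add_zero]
    · intro x
      rfl
  · intro e
    have hker : ∀ x : X.E, X.proj (e.toAlgEquiv x - x) = 0 := fun x => by
      rw [map_sub, e.proj_apply, sub_self]
    let s : C → X.E := Function.surjInv X.isExtension.proj_surjective
    have hs : ∀ c, X.proj (s c) = c := Function.surjInv_eq _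
    let D0 : C → L := fun c => X.kerLift (e.toAlgEquiv (s c) - s c) (hker _)
    have key : ∀ x : X.E, X.incl (D0 (X.proj x)) = e.toAlgEquiv x - x := by
      intro x
      change X.incl (X.kerLift _ _) = _
      rw [X.incl_kerLift]
      have h0 : X.proj (s (X.proj x) - x) = 0 := by rw [map_sub, hs, sub_self]
      obtain ⟨w, hw⟩ := (X.isExtension.exact _).1 h0
      have : e.toAlgEquiv (s (X.proj x) - x) = s (X.proj x) - x := by rw [← hw, e.apply_incl]
      rw [map_sub] at this
      linear_combination this
    have hinj := X.isExtension.incl_injective
    have hadd : ∀ c c', D0 (c + c') = D0 c + D0 c' := by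
      intro c c'
      apply hinj
      obtain ⟨x, rfl⟩ := X.isExtension.proj_surjective c
      obtain ⟨x', rfl⟩ := X.isExtension.proj_surjective c'
      rw [← map_add X.proj, key, map_add X.incl, key, key, map_add e.toAlgEquiv]
      abel
    have hsm : ∀ (a : A) c, D0 (a • c) = a • D0 c := by
      intro a c
      apply hinj
      obtain ⟨x, rfl⟩ := X.isExtension.proj_surjective c
      rw [← map_smul, key, hsmul, key, map_smul, smul_sub]
    have hmul : ∀ c c', D0 (c * c') = c • D0 c' + c' • D0 c := by
      intro c c'
      apply hinj
      obtain ⟨x, rfl⟩ := X.isExtension.proj_surjective c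
      obtain ⟨x', rfl⟩ := X.isExtension.proj_surjective c'
      rw [← map_mul, key, map_add, ← X.isExtension.mul_incl, ← X.isExtension.mul_incl, key, key,
        map_mul]
      have h2 := hii (D0 (X.proj x)) (D0 (X.proj x'))
      rw [key, key] at h2
      linear_combination h2
    let D : Derivation A C L := Derivation.mk'
      { toFun := D0, map_add' := hadd, map_smul' := hsm } hmul
    have hD : ∀ c, D c = D0 c := fun _ => rfl
    refine ⟨D, fun x => ?_, fun D' hD' => ?_⟩
    · change _ = x + X.incl (D (X.proj x))
      rw [hD, key]
      abel
    · ext c
      apply hinj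
      obtain ⟨x, rfl⟩ := X.isExtension.proj_surjective c
      rw [hD, key, hD' x]
      abel

end Groth.Agent.S5828
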