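import Groth.Statements.S5835
import Mathlib
import Groth.Agent.Lib.Helper9.SepInj

set_option autoImplicit false
universe v w
open scoped TensorProduct
open EGA41

namespace Groth.Agent.S5835

/-- For fields k₀ ⊆ k ⊆ K ⊆ L, the map of imperfection modules Υ_{L/K/k₀} → Υ_{L/K/k} induced by
Ω_{K/k₀} → Ω_{K/k} is injective (k is k₀-admissible for the extension L of K) in each of the
following cases: L is separable over k; L is separable over K; k lies in k₀(K^p), p the
characteristic exponent. Separable means geometrically reduced (not necessarily algebraic). -/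
theorem result {k : Type v} {k₀ K L : Type w}
    [Field k₀] [Field k] [Field K] [Field L] [Algebra k₀ k] [Algebra k₀ K] [Algebra k₀ L] [Algebra k K]
    [Algebra k L] [Algebra K L] [IsScalarTower k₀ k K] [IsScalarTower k₀ k L] [IsScalarTower k₀ K L]
    [IsScalarTower k K L] (p : ℕ) [ExpChar K p]
    (h : Algebra.IsGeometricallyReduced k L ∨ Algebra.IsGeometricallyReduced K L ∨
      ∀ x : k, algebraMap k K x ∈ EGA41.pPowerSubalgebra p k₀ K) :
    ∀ z : L ⊗[K] Ω[K⁄k₀], z ∈ EGA41.imperfection k₀ K L →
      (KaehlerDifferential.map k₀ k K K).baseChange L z = 0 → z = 0 := by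
  intro z hz hz2
  have hz1 : KaehlerDifferential.mapBaseChange k₀ K L z = 0 := hz
  rcases h with h1 | h2 | h3
  · haveI := h1
    have hex := lTensor_exact L (KaehlerDifferential.exact_mapBaseChange_map k₀ k K)
      (KaehlerDifferential.map_surjective k₀ k K)
    obtain ⟨y, rfl⟩ := (hex z).1 hz2
    have hw : KaehlerDifferential.mapBaseChange k₀ k L
        (TensorProduct.AlgebraTensorModule.cancelBaseChange k K L L Ω[k⁄k₀] y) = 0 := by
      rw [← Groth.Agent.Helper9.Imperf.mapBaseChange_theta (L := K),
        Groth.Agent.Helper9.Imperf.theta_cancel]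
      exact hz1
    have hw0 := Groth.Agent.Helper9.SepInj.mapBaseChange_injective_of_isGeometricallyReduced
      (hw.trans (map_zero _).symm)
    have hy : y = 0 := (TensorProduct.AlgebraTensorModule.cancelBaseChange k K L L
      Ω[k⁄k₀]).injective (hw0.trans (map_zero _).symm)
    rw [hy, map_zero]
  · haveI := h2
    exact Groth.Agent.Helper9.SepInj.mapBaseChange_injective_of_isGeometricallyReduced
      (hz1.trans (map_zero _).symm)
  · cases (inferInstance : ExpChar K p) with
    | zero =>
      exact Groth.Agent.Helper9.SepInj.mapBaseChange_injective_of_perfectField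
        (hz1.trans (map_zero _).symm)
    | prime hp =>
      have hD : ∀ x ∈ EGA41.pPowerSubalgebra p k₀ K, KaehlerDifferential.D k₀ K x = 0 := by
        intro x hx
        unfold EGA41.pPowerSubalgebra at hx
        induction hx using Algebra.adjoin_induction with
        | mem x hx =>
          obtain ⟨b, rfl⟩ := hx
          change KaehlerDifferential.D k₀ K (b ^ p) = 0
          rw [Derivation.leibniz_pow, ← Nat.cast_smul_eq_nsmul K, CharP.cast_eq_zero K p,
            zero_smul]
        | algebraMap r => exact Derivation.map_algebraMap _ r
        | add x y _ _ hx hy => rw [map_add, hx, hy, add_zero]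
        | mul x y _ _ hx hy => rw [Derivation.leibniz, hx, hy, smul_zero, smul_zero, add_zero]
      have hzero : ∀ y, KaehlerDifferential.mapBaseChange k₀ k K y = 0 := by
        have h : (KaehlerDifferential.mapBaseChange k₀ k K).toAddMonoidHom = 0 := by
          apply Groth.Agent.Helper9.Imperf.addHom_ext_tmul_D'
          intro c a
          change KaehlerDifferential.mapBaseChange k₀ k K (c ⊗ₜ[k] KaehlerDifferential.D k₀ k a)
            = 0
          rw [KaehlerDifferential.mapBaseChange_tmul, KaehlerDifferential.map_D, hD _ (h3 a),
            smul_zero]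
        exact fun y => DFunLike.congr_fun h y
      have hinj : Function.Injective (KaehlerDifferential.map k₀ k K K) := by
        rw [← LinearMap.ker_eq_bot,
          (KaehlerDifferential.exact_mapBaseChange_map k₀ k K).linearMap_ker_eq,
          LinearMap.range_eq_bot]
        exact LinearMap.ext hzero
      have hinj2 : Function.Injective ((KaehlerDifferential.map k₀ k K K).baseChange L) :=
        Module.Flat.lTensor_preserves_injective_linearMap (M := L) _ hinj
      exact hinj2 (hz2.trans (map_zero _).symm)

end Groth.Agent.S5835
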