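import Groth.Statements.S5840
import Mathlib
import Groth.Agent.Lib.Helper13.RestrictLim
import Groth.Agent.Lib.Helper24.ModGroth

set_option autoImplicit false
universe u
open ZClos

namespace Groth.Agent.S5840

open CategoryTheory CategoryTheory.Limits AlgebraicGeometry in
/-- For a locally Noetherian scheme X and a subset Z of X stable under specialization, the Z-closure
functor F ↦ H⁰_{X/Z}(F) on O_X-modules (the filtered colimit, over the closed subsets T of X inside
Z, of the direct images of the restrictions of F to X ∖ T) is left exact: it preserves finite
limits. -/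
theorem result (X : Scheme.{u}) [IsLocallyNoetherian X] (Z : Set X)
    (hZ : StableUnderSpecialization Z) : PreservesFiniteLimits (ZClos.H0 Z) := by
  have h1 : ∀ U : X.Opens, PreservesFiniteLimits (ZClos.resPush U) := by
    intro U
    haveI : PreservesFiniteLimits (Scheme.Modules.restrictFunctor U.ι) := inferInstance
    haveI : PreservesFiniteLimits (Scheme.Modules.pushforward U.ι) := by
      haveI := (Scheme.Modules.pullbackPushforwardAdjunction U.ι).isRightAdjoint
      infer_instance
    exact comp_preservesFiniteLimits _ _
  have h2 : PreservesFiniteLimits (ZClos.diagram Z) := by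
    constructor
    intro J _ _
    apply preservesLimitsOfShape_of_evaluation
    intro T
    haveI := h1 T.U
    have e : ZClos.diagram Z ⋙ (evaluation _ _).obj T ≅ ZClos.resPush T.U :=
      NatIso.ofComponents (fun F => Iso.refl _) (by intros; simp; rfl)
    exact preservesLimitsOfShape_of_natIso e.symm
  haveI : HasExactColimitsOfShape (ZClos.Cl Z) X.Modules := by
    have h5 : AB5OfSize.{u, u} X.Modules :=
      Groth.Agent.Helper24.ModGroth.ab5_sheafOfModules X.ringCatSheaf
    exact h5.ofShape (ZClos.Cl Z)
  haveI : PreservesFiniteLimits (colim : (ZClos.Cl Z ⥤ X.Modules) ⥤ X.Modules) :=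
    HasExactColimitsOfShape.preservesFiniteLimits
  unfold ZClos.H0
  exact comp_preservesFiniteLimits _ _

end Groth.Agent.S5840
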