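import Groth.Statements.S5857
import Groth.Agent.Lib.Lead.ZClos4
import Groth.Agent.Lib.Lead.Hartogs4

set_option autoImplicit false
universe u
open ZClos

namespace Groth.Agent.S5857

open CategoryTheory CategoryTheory.Limits AlgebraicGeometry in
/-- For a locally Noetherian scheme X, a subset Z of X stable under specialization and a coherent
O_X-module F whose Z-closure H⁰_{X/Z}(F) is coherent, the stalk of H⁰_{X/Z}(F) at every point of Z
has depth at least 2. -/
theorem result (X : Scheme.{u}) [IsLocallyNoetherian X] (Z : Set X)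
    (hZ : StableUnderSpecialization Z) (F : X.Modules) (hF : Coh.IsCoh F)
    (hH : Coh.IsCoh ((ZClos.H0 Z).obj F)) (x : X) (hx : x ∈ Z) :
    (2 : ℕ∞) ≤ LocCoh.depth (X.presheaf.stalk x) (((ZClos.H0 Z).obj F).presheaf.stalk x) := by
  obtain ⟨hqc, hft⟩ := hH
  haveI : ((ZClos.H0 Z).obj F).IsQuasicoherent := hqc
  haveI : SheafOfModules.IsFiniteType (R := X.ringCatSheaf) ((ZClos.H0 Z).obj F) := hft
  have hsub : (closure ({x} : Set X)) ⊆ Z := fun y hy =>
    hZ (specializes_iff_mem_closure.2 hy) hx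
  let T : ZClos.Cl Z := ⟨⟨closure {x}, isClosed_closure⟩, hsub⟩
  obtain ⟨A, hA, hxA, -⟩ := exists_isAffineOpen_mem_and_subset (x := x) (U := (⊤ : X.Opens)) trivial
  haveI : IsNoetherianRing Γ(X, A) := IsLocallyNoetherian.component_noetherian ⟨A, hA⟩
  have hbij := (Groth.Agent.Lead.ZClos1.isZClosed_iff Z ((ZClos.H0 Z).obj F)).1
    (Groth.Agent.Lead.ZClos1.isZClosed_H0 Z F) T A hA.isCompact
  have hxU : x ∉ T.U := fun h => h (subset_closure (Set.mem_singleton x))
  exact Groth.Agent.Lead.Hartogs.two_le_depth_of_bijective ((ZClos.H0 Z).obj F) T.U A hA hbij x hxA hxU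

end Groth.Agent.S5857
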