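import Groth.Statements.S5862
import Mathlib

set_option autoImplicit false
universe u
open RadPt

namespace Groth.Agent.S5862

open CategoryTheory AlgebraicGeometry in
/-- Let f : X → Y and g : Y → Z be morphisms of schemes and y a point of Y. If f is radicial at y (fibre
with at most one point, purely inseparable residue field extension) and g is radicial at g(y), then
g ∘ f is radicial at g(y). Conversely, if f is surjective and g ∘ f is radicial at g(y), then f is
radicial at y and g is radicial at g(y). -/
theorem result {X Y Z : Scheme.{u}} (f : X ⟶ Y) (g : Y ⟶ Z) (y : Y) :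
    (RadPt.IsRadicialAt f y → RadPt.IsRadicialAt g (g y) → RadPt.IsRadicialAt (f ≫ g) (g y)) ∧
      (Surjective f → RadPt.IsRadicialAt (f ≫ g) (g y) →
        RadPt.IsRadicialAt f y ∧ RadPt.IsRadicialAt g (g y)) := by

  have hcomp : ∀ x : X, ((f ≫ g).residueFieldMap x).hom =
      (f.residueFieldMap x).hom.comp (g.residueFieldMap (f x)).hom := by
    intro x
    rw [Scheme.residueFieldMap_comp]
    rfl
  have top : ∀ x : X, ((f ≫ g).residueFieldMap x).hom.IsPurelyInseparable →
      (f.residueFieldMap x).hom.IsPurelyInseparable := by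
    intro x h
    rw [hcomp] at h
    let a : Z.residueField (g (f x)) →+* Y.residueField (f x) := (g.residueFieldMap (f x)).hom
    let b : Y.residueField (f x) →+* X.residueField x := (f.residueFieldMap x).hom
    change (b.comp a).IsPurelyInseparable at h
    algebraize [a, b, b.comp a]
    exact IsPurelyInseparable.tower_top (Z.residueField (g (f x))) (Y.residueField (f x))
      (X.residueField x)
  have bot : ∀ x : X, ((f ≫ g).residueFieldMap x).hom.IsPurelyInseparable →
      (g.residueFieldMap (f x)).hom.IsPurelyInseparable := by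
    intro x h
    rw [hcomp] at h
    let a : Z.residueField (g (f x)) →+* Y.residueField (f x) := (g.residueFieldMap (f x)).hom
    let b : Y.residueField (f x) →+* X.residueField x := (f.residueFieldMap x).hom
    change (b.comp a).IsPurelyInseparable at h
    algebraize [a, b, b.comp a]
    exact IsPurelyInseparable.tower_bot (Z.residueField (g (f x))) (Y.residueField (f x))
      (X.residueField x)
  refine ⟨?_, ?_⟩
  · rintro ⟨hf1, hf2⟩ ⟨hg1, hg2⟩
    refine ⟨fun x x' hx hx' => ?_, fun x hx => ?_⟩
    · have h1 : f x = y := hg1 _ _ (by simpa using hx) rfl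
      have h2 : f x' = y := hg1 _ _ (by simpa using hx') rfl
      exact hf1 x x' h1 h2
    · have h1 : f x = y := hg1 _ _ (by simpa using hx) rfl
      rw [hcomp]
      have hb := hf2 x h1
      have ha : (g.residueFieldMap (f x)).hom.IsPurelyInseparable := hg2 (f x) (by rw [h1])
      exact ha.comp hb
  · rintro hsurj ⟨h1, h2⟩
    refine ⟨⟨fun x x' hx hx' => ?_, fun x hx => ?_⟩, ⟨fun y₁ y₂ hy₁ hy₂ => ?_, fun y₁ hy₁ => ?_⟩⟩
    · exact h1 x x' (by simp [hx]) (by simp [hx'])
    · exact top x (h2 x (by simp [hx]))
    · obtain ⟨x₁, rfl⟩ := hsurj.surj y₁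
      obtain ⟨x₂, rfl⟩ := hsurj.surj y₂
      rw [h1 x₁ x₂ (by simpa using hy₁) (by simpa using hy₂)]
    · obtain ⟨x₁, rfl⟩ := hsurj.surj y₁
      exact bot x₁ (h2 x₁ (by simpa using hy₁))

end Groth.Agent.S5862
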