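import Groth.Statements.S5866
import Mathlib
import Groth.Agent.Lib.Helper9.GUInt2

set_option autoImplicit false
universe u
open RadPt

namespace Groth.Agent.S5866

open CategoryTheory AlgebraicGeometry in
/-- Let f : X → Y be a morphism of schemes which is integral and whose induced morphism of reduced
schemes is birational. Then Y is geometrically unibranch (at every point) if and only if X is
geometrically unibranch and f is radicial (universally injective). -/
theorem result {X Y : Scheme.{u}} (f : X ⟶ Y) [IsIntegralHom f] (hf : RadPt.IsBirational f) :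
    (∀ y : Y, CAlg2.IsGeomUnibranch (Y.presheaf.stalk y)) ↔
      ((∀ x : X, CAlg2.IsGeomUnibranch (X.presheaf.stalk x)) ∧ UniversallyInjective f) := by
  have hui : UniversallyInjective f ↔ ∀ y : Y, RadPt.IsRadicialAt f y := by
    have h02 : UniversallyInjective f ↔ (Function.Injective f ∧
        ∀ x, (f.residueFieldMap x).hom.IsPurelyInseparable) :=
      (tfae_universallyInjective f).out 0 2
    rw [h02]
    constructor
    · rintro ⟨hinj, hpi⟩ y
      exact ⟨fun x x' hx hx' => hinj (hx.trans hx'.symm), fun x _ => hpi x⟩
    · intro h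
      exact ⟨fun x x' hxx' => (h (f x)).1 x x' rfl hxx'.symm, fun x => (h (f x)).2 x rfl⟩
  rw [hui]
  constructor
  · intro h
    refine ⟨fun x => ?_, fun y => ?_⟩
    · exact ((Groth.Agent.Helper9.GUInt.main f hf (f x)).mp (h (f x))).2 x rfl
    · exact ((Groth.Agent.Helper9.GUInt.main f hf y).mp (h y)).1
  · rintro ⟨hx, hr⟩ y
    exact (Groth.Agent.Helper9.GUInt.main f hf y).mpr ⟨hr y, fun x _ => hx x⟩

end Groth.Agent.S5866
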