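import Groth.Statements.S5886
import Mathlib
import Groth.Agent.Lib.Helper14.ConsFin
-- import your own Groth.Agent.* helpers here

set_option autoImplicit false
universe u
open CategoryTheory AlgebraicGeometry
open ConsProp

namespace Groth.Agent.S5886

/-- The property of an algebraic k-scheme X of being finite over k is a constructible property of
algebraic schemes (invariant under extension of the base field; over an integral Noetherian base,
for a family of finite type, the set of points with finite fibre or its complement contains a
nonempty open subset). -/
theorem result :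
    ConsProp.IsCons (fun Y T g => AlgebraicGeometry.IsFinite g) := by
  classical
  open Groth.Agent.Helper14 in
  refine ⟨?_, ?_⟩
  · intro Y Y' T T' g g' e h _ _ _ _ _ _ hsq
    haveI : LocallyOfFiniteType g' := MorphismProperty.of_isPullback hsq ‹_›
    haveI : QuasiCompact g' := MorphismProperty.of_isPullback hsq ‹_›
    haveI : Nonempty T' := inferInstance
    change IsFinite g ↔ IsFinite g'
    rw [ConsFin.isFinite_iff_dim_le_zero g, ConsFin.isFinite_iff_dim_le_zero g',
      ConsDim.dim_eq_of_isPullback_field g g' e h hsq]
  · intro X S u _ _ _ _
    obtain ⟨U, hU, hηU, hconst⟩ := ConsDim.exists_open_dim_fiber_eq u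
    have hloc : ∀ s : S, s ∈ ConsProp.locus (fun Y T g => IsFinite g) u ↔
        topologicalKrullDim ↥(u.fiber s) ≤ 0 := by
      intro s
      haveI : LocallyOfFiniteType (u.fiberToSpecResidueField s) :=
        MorphismProperty.pullback_snd _ _ inferInstance
      haveI : QuasiCompact (u.fiberToSpecResidueField s) :=
        MorphismProperty.pullback_snd _ _ inferInstance
      exact ConsFin.isFinite_iff_dim_le_zero (u.fiberToSpecResidueField s)
    by_cases hc : topologicalKrullDim ↥(u.fiber (genericPoint S)) ≤ 0
    · left
      refine ⟨genericPoint S, mem_interior.mpr ⟨U, ?_, hU, hηU⟩⟩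
      intro s hs
      rw [hloc s, hconst s hs]
      exact hc
    · right
      refine ⟨genericPoint S, mem_interior.mpr ⟨U, ?_, hU, hηU⟩⟩
      intro s hs
      rw [Set.mem_compl_iff, hloc s, hconst s hs]
      exact hc

end Groth.Agent.S5886
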