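import Groth.Statements.S5887
import Mathlib
import Groth.Agent.Lib.Helper16.Sch.FibMap3
import Groth.Agent.Lib.Helper14.ConsMor
-- import your own Groth.Agent.* helpers here

set_option autoImplicit false
universe u
open CategoryTheory AlgebraicGeometry
open ConsProp

namespace Groth.Agent.S5887

/-- The property of an algebraic k-scheme X of being radicial over k (structure morphism universally
injective) is a constructible property of algebraic schemes. -/
theorem result :
    ConsProp.IsCons (fun Y T g => AlgebraicGeometry.UniversallyInjective g) := by
  classical
  open Groth.Agent.Helper16 Groth.Agent.Helper14 in
  refine ⟨?_, ?_⟩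
  · intro Y Y' T T' g g' e h _ _ _ _ _ _ hsq
    change UniversallyInjective g ↔ UniversallyInjective g'
    constructor
    · intro hf
      exact MorphismProperty.of_isPullback hsq hf
    · intro hf'
      haveI : Nonempty T' := inferInstance
      have hsurj : Function.Surjective h := by
        intro t
        obtain ⟨t'⟩ : Nonempty T' := inferInstance
        exact ⟨t', Subsingleton.elim _ _⟩
      rw [UniversallyInjective.iff_diagonal, surjective_iff]
      intro z
      exact (FibMap.universallyInjective_iff_of_isPullback hsq).mp hf' z (hsurj _)
  · intro X S u _ _ _ _
    haveI : IsNoetherian X := ConsMor.isNoetherian_of_finiteType u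
    haveI : QuasiSeparated u := inferInstance
    haveI : LocallyOfFinitePresentation (Limits.pullback.diagonal u) := inferInstance
    have h1 := (Limits.pullback.diagonal u).isLocallyConstructible_image
      Topology.IsLocallyConstructible.univ
    have h2 := (Limits.pullback.fst u u ≫ u).isLocallyConstructible_image
      (ConsFD.isLocallyConstructible_compl h1)
    have h3 := ConsFD.isLocallyConstructible_compl h2
    have hc : Topology.IsConstructible (ConsProp.locus
        (fun Y T g => AlgebraicGeometry.UniversallyInjective g) u) := by
      have h4 := h3.isConstructible
      convert h4 using 1
      ext s
      have hsq : IsPullback (u.fiberι s) (u.fiberToSpecResidueField s) u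
          (S.fromSpecResidueField s) := IsPullback.of_hasPullback _ _
      change UniversallyInjective (u.fiberToSpecResidueField s) ↔ _
      rw [FibMap.universallyInjective_iff_of_isPullback hsq]
      simp only [Set.image_univ, Set.mem_compl_iff, Set.mem_image, not_exists, not_and,
        Scheme.range_fromSpecResidueField, Set.mem_singleton_iff]
      constructor
      · intro h z hz hgz
        exact hz (h z hgz)
      · intro h z hgz
        by_contra hcon
        exact h z hcon hgz
    exact ConsMor.dichotomy_of_isConstructible hc

end Groth.Agent.S5887
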