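import Groth.Statements.S5888
import Mathlib
import Groth.Agent.Lib.Helper14.ConsDim
-- import your own Groth.Agent.* helpers here

set_option autoImplicit false
universe u
open CategoryTheory AlgebraicGeometry
open ConsProp

namespace Groth.Agent.S5888

/-- For a given set Φ of values (natural numbers, with −∞ = ⊥ the dimension of the empty scheme), the
property of an algebraic k-scheme X that the dimension of X belongs to Φ is a constructible property
of algebraic schemes. The dimension is the Krull dimension of the underlying topological space,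
valued in WithBot ℕ∞. -/
theorem result (Φ : Set (WithBot ℕ∞)) :
    ConsProp.IsCons (fun Y T g => topologicalKrullDim ↥Y ∈ Φ) := by
  classical
  open Groth.Agent.Helper14 in
  refine ⟨?_, ?_⟩
  · intro Y Y' T T' g g' e h _ _ _ _ _ _ hsq
    haveI : Nonempty T' := inferInstance
    change topologicalKrullDim ↥Y ∈ Φ ↔ topologicalKrullDim ↥Y' ∈ Φ
    rw [ConsDim.dim_eq_of_isPullback_field g g' e h hsq]
  · intro X S u _ _ _ _
    obtain ⟨U, hU, hηU, hconst⟩ := ConsDim.exists_open_dim_fiber_eq u
    by_cases hc : topologicalKrullDim ↥(u.fiber (genericPoint S)) ∈ Φ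
    · left
      refine ⟨genericPoint S, mem_interior.mpr ⟨U, ?_, hU, hηU⟩⟩
      intro s hs
      change topologicalKrullDim ↥(u.fiber s) ∈ Φ
      rw [hconst s hs]
      exact hc
    · right
      refine ⟨genericPoint S, mem_interior.mpr ⟨U, ?_, hU, hηU⟩⟩
      intro s hs
      change ¬ topologicalKrullDim ↥(u.fiber s) ∈ Φ
      rw [hconst s hs]
      exact hc

end Groth.Agent.S5888
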