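import Groth.Statements.S5889
import Mathlib
import Groth.Agent.Lib.Helper16.Sch.FibMap3
import Groth.Agent.Lib.Helper16.Sch.QFBaseChange
import Groth.Agent.Lib.Helper14.ConsMor
-- import your own Groth.Agent.* helpers here

set_option autoImplicit false
universe u
open CategoryTheory AlgebraicGeometry
open ConsProp

namespace Groth.Agent.S5889

/-- Being quasi-finite (locally of finite type, quasi-compact, with discrete fibres) is a constructible
property of morphisms of algebraic schemes. -/
theorem result :
    ConsProp.IsConsMor
      (fun X Y T f g => AlgebraicGeometry.LocallyOfFiniteType f ∧ AlgebraicGeometry.QuasiCompact f ∧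
        AlgebraicGeometry.LocallyQuasiFinite f) := by
  classical
  open Groth.Agent.Helper16 Groth.Agent.Helper14 in
  refine ⟨?_, ?_⟩
  · intro X X' Y Y' T T' f g f' g' eX eY h _ _ _ _ _ _ _ _ hY hX
    change (LocallyOfFiniteType f ∧ QuasiCompact f ∧ LocallyQuasiFinite f) ↔
      (LocallyOfFiniteType f' ∧ QuasiCompact f' ∧ LocallyQuasiFinite f')
    haveI : IsNoetherian T := ConsMor.isNoetherian_of_subsingleton T
    haveI : IsNoetherian Y := ConsMor.isNoetherian_of_finiteType g
    haveI : QuasiSeparated g := inferInstance
    haveI : LocallyOfFiniteType f := locallyOfFiniteType_of_comp f g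
    haveI : QuasiCompact f := QuasiCompact.of_comp f g
    haveI : LocallyOfFiniteType f' := MorphismProperty.of_isPullback hX ‹_›
    haveI : QuasiCompact f' := MorphismProperty.of_isPullback hX ‹_›
    constructor
    · rintro ⟨-, -, hf⟩
      exact ⟨inferInstance, inferInstance, MorphismProperty.of_isPullback hX hf⟩
    · rintro ⟨-, -, hf'⟩
      refine ⟨inferInstance, inferInstance, ?_⟩
      haveI : Nonempty T' := inferInstance
      haveI : Surjective eY := ConsMor.surjective_of_isPullback_subsingleton hY
      haveI : Surjective eX := MorphismProperty.of_isPullback hX.flip ‹Surjective eY›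
      rw [← Scheme.Hom.quasiFiniteLocus_eq_top_iff]
      ext x
      simp only [TopologicalSpace.Opens.coe_top, Set.mem_univ, iff_true]
      obtain ⟨x', rfl⟩ := eX.surjective x
      exact QFBC.qf_of_qf_pullback f eY eX f' hX x' (f'.quasiFiniteAt x')
  · intro X Y S f g _ _ _ _ _ _
    haveI : IsNoetherian Y := ConsMor.isNoetherian_of_finiteType g
    haveI : QuasiSeparated g := inferInstance
    haveI : LocallyOfFiniteType f := locallyOfFiniteType_of_comp f g
    haveI : QuasiCompact f := QuasiCompact.of_comp f g
    have hlc := FibMap.isLocallyConstructible_locallyQuasiFinite f g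
    have hc : Topology.IsConstructible (ConsProp.locusMor
        (fun X Y T f g => AlgebraicGeometry.LocallyOfFiniteType f ∧ AlgebraicGeometry.QuasiCompact f ∧
        AlgebraicGeometry.LocallyQuasiFinite f) f g) := by
      have h4 := hlc.isConstructible
      convert h4 using 1
      ext s
      have hsq := FibMap.isPullback_fibMap f g s
      haveI : LocallyOfFiniteType (FibMap.fibMap f g s) := MorphismProperty.of_isPullback hsq ‹_›
      haveI : QuasiCompact (FibMap.fibMap f g s) := MorphismProperty.of_isPullback hsq ‹_›
      change (LocallyOfFiniteType (FibMap.fibMap f g s) ∧ QuasiCompact (FibMap.fibMap f g s) ∧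
        LocallyQuasiFinite (FibMap.fibMap f g s)) ↔ LocallyQuasiFinite (FibMap.fibMap f g s)
      constructor
      · rintro ⟨-, -, h⟩; exact h
      · intro h; exact ⟨inferInstance, inferInstance, h⟩
    exact ConsMor.dichotomy_of_isConstructible hc

end Groth.Agent.S5889
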