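import Groth.Statements.S5890
import Mathlib
import Groth.Agent.Lib.Helper16.Sch.FibMap3
import Groth.Agent.Lib.Helper14.ConsMor
-- import your own Groth.Agent.* helpers here

set_option autoImplicit false
universe u
open CategoryTheory AlgebraicGeometry
open ConsProp

namespace Groth.Agent.S5890

/-- Being radicial (universally injective) is a constructible property of morphisms of algebraic
schemes. -/
theorem result :
    ConsProp.IsConsMor (fun X Y T f g => AlgebraicGeometry.UniversallyInjective f) := by
  classical
  open Groth.Agent.Helper16 Groth.Agent.Helper14 in
  refine ⟨?_, ?_⟩
  · intro X X' Y Y' T T' f g f' g' eX eY h _ _ _ _ _ _ _ _ hY hX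
    change UniversallyInjective f ↔ UniversallyInjective f'
    constructor
    · intro hf
      exact MorphismProperty.of_isPullback hX hf
    · intro hf'
      haveI : Nonempty T' := inferInstance
      haveI : Surjective eY := ConsMor.surjective_of_isPullback_subsingleton hY
      rw [UniversallyInjective.iff_diagonal, surjective_iff]
      intro z
      exact (FibMap.universallyInjective_iff_of_isPullback hX).mp hf' z (eY.surjective _)
  · intro X Y S f g _ _ _ _ _ _
    haveI : IsNoetherian Y := ConsMor.isNoetherian_of_finiteType g
    haveI : QuasiSeparated g := inferInstance
    haveI : IsNoetherian X := ConsMor.isNoetherian_of_finiteType (f ≫ g)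
    haveI : QuasiSeparated (f ≫ g) := inferInstance
    have hlc := FibMap.isLocallyConstructible_universallyInjective f g
    have hc : Topology.IsConstructible (ConsProp.locusMor
        (fun X Y T f g => AlgebraicGeometry.UniversallyInjective f) f g) := hlc.isConstructible
    exact ConsMor.dichotomy_of_isConstructible hc

end Groth.Agent.S5890
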