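import Groth.Statements.S5913
import Mathlib.RingTheory.Spectrum.Prime.Jacobson
import Mathlib.RingTheory.KrullDimension.Field
import Groth.Agent.S3431
import Groth.Agent.S9832
-- import your own Groth.Agent.* helpers here

set_option autoImplicit false
universe u
open CategoryTheory AlgebraicGeometry
open EGA43

namespace Groth.Agent.S5913

section
open AlgebraicGeometry CategoryTheory TopologicalSpace Topology

/-- A Jacobson domain with finitely many maximal ideals is a field, hence has dimension 0. -/
theorem not_semilocal_dim_one (R : Type u) [CommRing R] [IsDomain R] [IsJacobsonRing R]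
    (hfin : Finite (MaximalSpectrum R)) (hdim : ringKrullDim R = 1) : False := by
  classical
  have hJ : (⊥ : Ideal R).jacobson = ⊥ :=
    IsJacobsonRing.out inferInstance (Ideal.isPrime_bot (α := R)).isRadical
  haveI : Fintype (MaximalSpectrum R) := Fintype.ofFinite _
  have hinf : (Finset.univ : Finset (MaximalSpectrum R)).inf (fun m => m.asIdeal) ≤ ⊥ := by
    rw [← hJ]
    intro x hx
    rw [Ideal.jacobson, Ideal.mem_sInf]
    rintro m ⟨-, hm⟩
    have : (Finset.univ : Finset (MaximalSpectrum R)).inf (fun m => m.asIdeal) ≤ m :=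
      Finset.inf_le (f := fun m : MaximalSpectrum R => m.asIdeal)
        (Finset.mem_univ (⟨m, hm⟩ : MaximalSpectrum R))
    exact this hx
  obtain ⟨m, -, hm⟩ := (Ideal.IsPrime.inf_le' (Ideal.isPrime_bot (α := R))).mp hinf
  have hmb : m.asIdeal = ⊥ := le_bot_iff.mp hm
  have hbm : (⊥ : Ideal R).IsMaximal := hmb ▸ m.isMaximal
  have hF : IsField R := Ring.isField_iff_maximal_bot.mpr hbm
  rw [ringKrullDim_eq_zero_of_isField hF] at hdim
  exact zero_ne_one hdim

theorem main (X : Scheme.{u}) [IsLocallyNoetherian X] :
    JacobsonSpace X ↔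
      ∀ (R : CommRingCat.{u}) [IsDomain R] (i : Spec R ⟶ X) [IsImmersion i],
        ¬ (Finite (MaximalSpectrum R) ∧ ringKrullDim R = 1) := by
  constructor
  · intro hX R _ i _ ⟨hfin, hdim⟩
    haveI : JacobsonSpace i.coborderRange.toScheme :=
      JacobsonSpace.of_isOpenEmbedding i.coborderRange.ι.isOpenEmbedding
    haveI : JacobsonSpace (Spec R) :=
      JacobsonSpace.of_isClosedEmbedding i.liftCoborder.isClosedEmbedding
    haveI : JacobsonSpace (PrimeSpectrum R) := ‹JacobsonSpace (Spec R)›
    haveI : IsJacobsonRing R := PrimeSpectrum.isJacobsonRing_iff_jacobsonSpace.mpr inferInstance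
    exact not_semilocal_dim_one R hfin hdim
  · intro h
    have hcov : TopologicalSpace.IsOpenCover (fun U : X.affineOpens => (U : X.Opens)) :=
      TopologicalSpace.IsOpenCover.mk (iSup_affineOpens_eq_top X)
    rw [hcov.jacobsonSpace_iff]
    rintro ⟨U, hU⟩
    haveI : IsNoetherianRing Γ(X, U) := IsLocallyNoetherian.component_noetherian ⟨U, hU⟩
    have hJ : IsJacobsonRing Γ(X, U) := by
      rw [Groth.Agent.S3431.main Γ(X, U)]
      intro p hp hcon
      haveI : IsClosedImmersion (Spec.map (CommRingCat.ofHom (Ideal.Quotient.mk p))) :=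
        IsClosedImmersion.spec_of_surjective _ Ideal.Quotient.mk_surjective
      haveI : IsDomain (CommRingCat.of (Γ(X, U) ⧸ p)) := inferInstanceAs (IsDomain (Γ(X, U) ⧸ p))
      exact h (CommRingCat.of (Γ(X, U) ⧸ p))
        (Spec.map (CommRingCat.ofHom (Ideal.Quotient.mk p)) ≫ hU.fromSpec) hcon
    haveI : JacobsonSpace (PrimeSpectrum Γ(X, U)) := inferInstance
    haveI : JacobsonSpace (Spec Γ(X, U)) := ‹JacobsonSpace (PrimeSpectrum Γ(X, U))›
    refine Groth.Agent.S9832.jacobson_of_openEmbeddings (Subtype.val : ↥U → X)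
      hU.fromSpec U.isOpen.isOpenEmbedding_subtypeVal hU.fromSpec.isOpenEmbedding ?_
    rw [hU.range_fromSpec, Subtype.range_coe]

end

/-- In the locally Noetherian form: a locally Noetherian scheme X is Jacobson if and only if it has no
subscheme isomorphic to the spectrum of a semi-local integral domain of dimension 1, i.e. there is
no immersion Spec R ⟶ X with R an integral domain having finitely many maximal ideals and Krull
dimension 1. -/
theorem result (X : Scheme.{u}) [IsLocallyNoetherian X] :
    JacobsonSpace X ↔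
      ∀ (R : CommRingCat.{u}) [IsDomain R] (i : Spec R ⟶ X) [IsImmersion i],
        ¬ (Finite (MaximalSpectrum R) ∧ ringKrullDim R = 1) := by
  exact Groth.Agent.S5913.main X

end Groth.Agent.S5913
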