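import Groth.Statements.S5914
import Groth.Agent.Lib.Helper16.Sch.FibMod11

set_option autoImplicit false
universe u
open CategoryTheory AlgebraicGeometry
open EGA43

namespace Groth.Agent.S5914

/-- Let f : X ⟶ S be locally of finite presentation and F a quasi-coherent O_X-module of finite
presentation. For x in X with s = f x write F_s for the pullback of F to the fibre X_s and
prof*_x(F_s) = prof((F_s)_x) + dim cl_{X_s}{x} for its rectified depth at x (depth of the stalk of
F_s at x over the local ring of the fibre, which is +∞ for the zero stalk, plus the Krull dimension
of the closure of x in the fibre). Then the function x ↦ prof*_x(F_{f(x)}) is locally constructible: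
for every n in ℕ∞ the set of x with prof*_x(F_{f(x)}) = n is a locally constructible subset of X.
(The published statement calls the function constructible and takes its hypotheses from a
neighbouring result stated without a module; the hypotheses here, f locally of finite presentation
and F quasi-coherent of finite presentation, are the ones its proof uses, and local constructibility
of the level sets is what that proof establishes.) -/
theorem result {X S : Scheme.{u}} (f : X ⟶ S) [LocallyOfFinitePresentation f]
    (F : X.Modules) [Coh.IsQCoh F] (hF : CohB1.IsFP F) (n : ℕ∞) :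
    Topology.IsLocallyConstructible {x : X |
      ((CInt.fiberDepth f F x : ℕ∞) : WithBot ℕ∞) +
          topologicalKrullDim ↥(closure ({f.asFiber x} : Set ↥(f.fiber (f.base x)))) = ((n : ℕ∞) : WithBot ℕ∞)} := by
  have hfin := fun x => Groth.Agent.Helper16.FibMod.finite_stalk_of_isFP F hF x
  haveI : SheafOfModules.IsFinitePresentation (R := X.ringCatSheaf) F := hF
  have h := Groth.Agent.Helper16.FibMod.isLocallyConstructible_rdepth_eq f F hF n
  have hset : {x : X |
      ((CInt.fiberDepth f F x : ℕ∞) : WithBot ℕ∞) +
          topologicalKrullDim ↥(closure ({f.asFiber x} : Set ↥(f.fiber (f.base x)))) = ((n : ℕ∞) : WithBot ℕ∞)} =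
      {x : X | Groth.Agent.Helper16.FibMod.cdepth f F x +
        (Groth.Agent.Helper16.FTDim.td f x : ℕ∞) = n} := by
    ext x
    rw [Set.mem_ofPred_eq, Set.mem_ofPred_eq]
    have h1 := Groth.Agent.Helper16.FibMod.rdepth_fibre_eq f F hfin n (f.base x) (f.asFiber x)
    rw [Groth.Agent.Helper16.FibMod.td_congr_point f (f.fiberι_asFiber x),
      congrArg (Groth.Agent.Helper16.FibMod.cdepth f F) (f.fiberι_asFiber x)] at h1
    exact h1
  rw [hset]
  exact h

end Groth.Agent.S5914
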