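import Groth.Statements.S5934
import Mathlib
import Groth.Agent.Lib.Helper16.Sch.SmoothLocusBC2
-- import your own Groth.Agent.* helpers here

set_option autoImplicit false
open CategoryTheory AlgebraicGeometry
universe u
open EGA43

namespace Groth.Agent.S5934

/-- Let f : X ⟶ Y be a proper, flat morphism of finite presentation. The set of points y of Y whose
fibre X_y is geometrically regular, i.e. smooth over the residue field κ(y), is open in Y. -/
theorem result {X Y : Scheme.{u}} (f : X ⟶ Y) [IsProper f] [Flat f]
    [LocallyOfFinitePresentation f] :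
    IsOpen {y : Y | Smooth (f.fiberToSpecResidueField y)} := by
  classical
  open Groth.Agent.Helper16 in
  have hcl : IsClosed (f '' ((f.smoothLocus : Set X)ᶜ)) :=
    f.isClosedMap _ f.smoothLocus.isOpen.isClosed_compl
  have heq : {y : Y | Smooth (f.fiberToSpecResidueField y)} = (f '' ((f.smoothLocus : Set X)ᶜ))ᶜ := by
    ext y
    simp only [Set.mem_setOf_eq, Set.mem_compl_iff, Set.mem_image, not_exists, not_and, not_not,
      SetLike.mem_coe]
    haveI : LocallyOfFinitePresentation (f.fiberToSpecResidueField y) :=
      SmoothLocusBC.lfp_fiberToSpecResidueField f y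
    rw [← Scheme.Hom.smoothLocus_eq_top_iff]
    constructor
    · intro h x hx hxy
      apply hx
      obtain ⟨z, hz⟩ : x ∈ Set.range (f.fiberι y) := by rw [f.range_fiberι]; exact hxy
      rw [SmoothLocusBC.mem_smoothLocus_iff_flat_and_fiber' f x y hxy z hz]
      refine ⟨Flat.stalkMap f x, ?_⟩
      rw [h]; trivial
    · intro h
      ext z
      simp only [TopologicalSpace.Opens.coe_top, Set.mem_univ, iff_true, SetLike.mem_coe]
      have hfz : f (f.fiberι y z) = y := by
        have : f.fiberι y z ∈ f ⁻¹' {y} := by rw [← f.range_fiberι]; exact ⟨z, rfl⟩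
        exact this
      have hx : f.fiberι y z ∈ f.smoothLocus := by
        by_contra hcon
        exact h _ hcon hfz
      exact ((SmoothLocusBC.mem_smoothLocus_iff_flat_and_fiber' f _ y hfz z rfl).mp hx).2
  rw [heq]
  exact hcl.isOpen_compl

end Groth.Agent.S5934
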