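import Groth.Statements.S5982
import Mathlib
import Groth.Agent.Lib.Helper14.RegLimB
import Groth.Agent.Lib.Helper7.LimFlat
import Groth.Agent.S4758
-- import your own Groth.Agent.* helpers here

set_option autoImplicit false
universe u
open CategoryTheory AlgebraicGeometry
open CInt

namespace Groth.Agent.S5982

open Groth.Agent.Helper14.LimMod Groth.Agent.Helper14.HomLim Groth.Agent.Helper14.SDLim
  Groth.Agent.Helper14.RegLim RingTheory.Sequence TopologicalSpace

theorem map_res_map_app {X Y : Scheme.{u}} (f : X ⟶ Y) (W : Y.Opens) (fs : List Γ(Y, ⊤)) :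
    ((fs.map (Y.presheaf.map (homOfLE (le_top : W ≤ ⊤)).op).hom).map (f.app W).hom :
      List Γ(X, f ⁻¹ᵁ W)) =
    (fs.map f.appTop.hom).map (X.presheaf.map (homOfLE (le_top : f ⁻¹ᵁ W ≤ ⊤)).op).hom := by
  rw [List.map_map, List.map_map]
  congr 1
  funext g
  exact congr($(f.naturality (homOfLE (le_top : W ≤ ⊤)).op).hom g)

/-- Let S = lim S_i be a cofiltered limit of schemes with affine, flat transition maps, such that either
every S_i is locally Noetherian or every transition map is surjective; let S_{i₀} be a quasi-compact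
stage and f_1, …, f_n global sections of the structure sheaf of S_{i₀}. Then the images of the f_k
form a regular sequence for the structure sheaf of S (that is, a weakly regular sequence in Γ(U,
O_S) for every affine open U of S; no condition on the last quotient) if and only if, for some index
j over i₀, their images form a regular sequence for the structure sheaf of S_j in the same sense.
This is the case of the structure sheaf. -/
theorem result {I : Type u} [SmallCategory I] [IsCofiltered I]
    (D : I ⥤ Scheme.{u}) (c : Limits.Cone D) (hc : Limits.IsLimit c)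
    [∀ (i j : I) (f : i ⟶ j), IsAffineHom (D.map f)]
    (hflat : ∀ (i j : I) (f : i ⟶ j), Flat (D.map f))
    (hcase : (∀ i : I, IsLocallyNoetherian (D.obj i)) ∨
      ∀ (i j : I) (f : i ⟶ j), Surjective (D.map f))
    (i₀ : I) [CompactSpace (D.obj i₀)] (fs : List Γ(D.obj i₀, ⊤)) :
    (∀ U : c.pt.affineOpens, RingTheory.Sequence.IsWeaklyRegular Γ(c.pt, U.1)
        (fs.map (fun f => (c.pt.presheaf.map (homOfLE (le_top : U.1 ≤ ⊤)).op).hom ((c.π.app i₀).appTop.hom f)))) ↔
      ∃ (j : I) (φ : j ⟶ i₀), ∀ U : (D.obj j).affineOpens,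
        RingTheory.Sequence.IsWeaklyRegular Γ(D.obj j, U.1)
          (fs.map (fun f => ((D.obj j).presheaf.map (homOfLE (le_top : U.1 ≤ ⊤)).op).hom ((D.map φ).appTop.hom f))) := by
  classical
  haveI : ∀ {i j : I} (f : i ⟶ j), IsAffineHom (D.map f) := fun f => inferInstance
  have hfl : ∀ {i j : I} (f : i ⟶ j), Flat (D.map f) := fun f => hflat _ _ f
  have hL : (∀ U : c.pt.affineOpens, RingTheory.Sequence.IsWeaklyRegular Γ(c.pt, U.1)
        (fs.map (fun f => (c.pt.presheaf.map (homOfLE (le_top : U.1 ≤ ⊤)).op).hom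
          ((c.π.app i₀).appTop.hom f)))) ↔
      AffReg c.pt (fs.map (c.π.app i₀).appTop.hom) := by
    unfold AffReg
    refine forall_congr' fun U => ?_
    rw [List.map_map]
    rfl
  have hR : ∀ (j : I) (φ : j ⟶ i₀), (∀ U : (D.obj j).affineOpens,
        RingTheory.Sequence.IsWeaklyRegular Γ(D.obj j, U.1)
          (fs.map (fun f => ((D.obj j).presheaf.map (homOfLE (le_top : U.1 ≤ ⊤)).op).hom
            ((D.map φ).appTop.hom f)))) ↔
      AffReg (D.obj j) (fs.map (D.map φ).appTop.hom) := by
    intro j φ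
    unfold AffReg
    refine forall_congr' fun U => ?_
    rw [List.map_map]
    rfl
  rw [hL]
  have hπflat : ∀ j : I, Flat (c.π.app j) := fun j =>
    Groth.Agent.Helper7.LimBC.flat_π D c hc j (fun j' φ' => hflat _ _ φ')
  constructor
  · intro hA
    rcases hcase with hN | hS
    · haveI : IsLocallyNoetherian (D.obj i₀) := hN i₀
      have key : ∀ W : (D.obj i₀).affineOpens, ∃ l : Over i₀, ∀ (l' : Over i₀) (_ : l' ⟶ l),
          IsWeaklyRegular Γ(D.obj l'.left, D.map l'.hom ⁻¹ᵁ W.1)
            ((fs.map (D.map l'.hom).appTop.hom).map ((D.obj l'.left).presheaf.map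
              (homOfLE (le_top : D.map l'.hom ⁻¹ᵁ W.1 ≤ ⊤)).op).hom) := by
        intro W
        haveI : IsNoetherianRing Γ(D.obj i₀, W.1) := IsLocallyNoetherian.component_noetherian W
        have hreg := hA ⟨c.π.app i₀ ⁻¹ᵁ W.1, isAffineOpen_preUpt D c hc i₀ W.2⟩
        obtain ⟨l, hl⟩ := exists_stage_isWeaklyRegular_limit D c hc hfl i₀ W.2
          (fs.map ((D.obj i₀).presheaf.map (homOfLE (le_top : W.1 ≤ ⊤)).op).hom) (by
            have e := map_res_map_app (c.π.app i₀) W.1 fs
            exact e ▸ hreg)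
        refine ⟨l, fun l' u => ?_⟩
        have h1 := hl l' u
        rw [map_res_map_app] at h1
        exact h1
      choose l hl using key
      obtain ⟨S, hSfin, hS⟩ := (isCompact_iff_finite_and_eq_biUnion_affineOpens
        (U := (⊤ : (D.obj i₀).Opens))).mp (by
          rw [Opens.coe_top]; exact CompactSpace.isCompact_univ)
      obtain ⟨k, hk⟩ := IsCofiltered.inf_objs_exists (hSfin.toFinset.image l)
      refine ⟨k.left, k.hom, ?_⟩
      rw [hR, affReg_iff_stalkReg]
      apply stalkReg_of_local
      intro x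
      have hx : (D.map k.hom) x ∈ (⊤ : (D.obj i₀).Opens) := trivial
      rw [hS] at hx
      obtain ⟨W, hx⟩ := Opens.mem_iSup.mp hx
      obtain ⟨hWS, hxW⟩ := Opens.mem_iSup.mp hx
      obtain ⟨u⟩ := hk (Finset.mem_image_of_mem l (hSfin.mem_toFinset.mpr hWS))
      exact ⟨D.map k.hom ⁻¹ᵁ W.1, isAffineOpen_preU D i₀ W.2 k, hxW, hl W k u⟩
    · refine ⟨i₀, 𝟙 i₀, ?_⟩
      rw [hR, affReg_iff_stalkReg]
      rw [affReg_iff_stalkReg] at hA
      haveI : Flat (c.π.app i₀) := hπflat i₀
      haveI : Surjective (c.π.app i₀) :=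
        (Groth.Agent.S4758.result D c hc i₀).mpr (fun j φ => hS _ _ φ)
      have h1 := stalkReg_of_flat_of_surjective (X := c.pt) (c.π.app i₀) fs hA
      have e : fs.map (D.map (𝟙 i₀)).appTop.hom = fs := by
        rw [D.map_id]
        simp
      rw [e]
      exact h1
  · rintro ⟨j, φ, h⟩
    rw [hR, affReg_iff_stalkReg] at h
    rw [affReg_iff_stalkReg]
    haveI : Flat (c.π.app j) := hπflat j
    have h1 := stalkReg_of_flat (X := c.pt) (c.π.app j) _ h
    rw [List.map_map] at h1
    have e : (c.π.app j).appTop.hom ∘ (D.map φ).appTop.hom = (c.π.app i₀).appTop.hom := by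
      funext g
      have := congr($(Scheme.Hom.comp_appTop (c.π.app j) (D.map φ)).hom g)
      rw [← c.w φ]
      exact this.symm
    rw [e] at h1
    exact h1

end Groth.Agent.S5982
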