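import Groth.Statements.S5983
import Mathlib
import Groth.Agent.Lib.Helper14.RegImmLimE
import Groth.Agent.Lib.Helper28.RegImmIso
-- import your own Groth.Agent.* helpers here

set_option autoImplicit false
universe u
open CategoryTheory AlgebraicGeometry
open CInt

namespace Groth.Agent.S5983

/-- Let S = lim S_i be a cofiltered limit of schemes with affine, flat transition maps, S_{i₀} a stage
and j₀ : X₀ ⟶ S_{i₀} an immersion with X₀ quasi-compact; assume either that every S_i is locally
Noetherian, or that every transition map is surjective and j₀ is locally of finite presentation.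
Then the base change X₀ ×_{S_{i₀}} S ⟶ S of j₀ is a regular immersion if and only if, for some index
j over i₀, the base change X₀ ×_{S_{i₀}} S_j ⟶ S_j is a regular immersion. -/
theorem result {I : Type u} [SmallCategory I] [IsCofiltered I]
    (D : I ⥤ Scheme.{u}) (c : Limits.Cone D) (hc : Limits.IsLimit c)
    [∀ (i j : I) (f : i ⟶ j), IsAffineHom (D.map f)]
    (hflat : ∀ (i j : I) (f : i ⟶ j), Flat (D.map f))
    (i₀ : I) {X₀ : Scheme.{u}} (j₀ : X₀ ⟶ D.obj i₀) [CompactSpace X₀] [IsImmersion j₀]
    (hcase : (∀ i : I, IsLocallyNoetherian (D.obj i)) ∨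
      ((∀ (i j : I) (f : i ⟶ j), Surjective (D.map f)) ∧ LocallyOfFinitePresentation j₀)) :
    RegImm.IsRegularImmersion RegImm.Kind.regular (Limits.pullback.snd j₀ (c.π.app i₀)) ↔
      ∃ (j : I) (φ : j ⟶ i₀),
        RegImm.IsRegularImmersion RegImm.Kind.regular (Limits.pullback.snd j₀ (D.map φ)) := by
  classical
  haveI : ∀ {i j : I} (f : i ⟶ j), IsAffineHom (D.map f) := fun f => inferInstance
  have hfl : ∀ {i j : I} (f : i ⟶ j), Flat (D.map f) := fun f => hflat _ _ f
  constructor
  · intro h
    have h1 : RegImm.IsRegularImmersion RegImm.Kind.regular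
        (Limits.pullback.fst (c.π.app i₀) j₀) := by
      have e : Limits.pullback.fst (c.π.app i₀) j₀ =
          (Limits.pullbackSymmetry (c.π.app i₀) j₀).hom ≫ Limits.pullback.snd j₀ (c.π.app i₀) :=
        (Limits.pullbackSymmetry_hom_comp_snd _ _).symm
      rw [e]
      exact Groth.Agent.Helper28.RegImmIso.iso_comp _ _ _ h
    have hcase' : (∀ i : I, IsLocallyNoetherian (D.obj i)) ∨
        (∀ (i j : I) (f : i ⟶ j), Surjective (D.map f)) := by
      rcases hcase with hN | hS
      · exact Or.inl hN
      · exact Or.inr hS.1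
    obtain ⟨l, hl⟩ := Groth.Agent.Helper14.RegImmLim.exists_stage_forall_regAt D c hc hfl i₀ j₀
      hcase' h1.2
    refine ⟨l.left, l.hom, ?_⟩
    have h2 : RegImm.IsRegularImmersion RegImm.Kind.regular
        (Limits.pullback.fst (D.map l.hom) j₀) := ⟨inferInstance, hl⟩
    have e : Limits.pullback.snd j₀ (D.map l.hom) =
        (Limits.pullbackSymmetry j₀ (D.map l.hom)).hom ≫ Limits.pullback.fst (D.map l.hom) j₀ :=
      (Limits.pullbackSymmetry_hom_comp_fst _ _).symm
    rw [e]
    exact Groth.Agent.Helper28.RegImmIso.iso_comp _ _ _ h2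
  · rintro ⟨j, φ, h⟩
    haveI : ∀ (i j : I) (f : i ⟶ j), IsAffineHom (D.map f) := fun _ _ f => inferInstance
    haveI : Flat (c.π.app j) :=
      Groth.Agent.Helper7.LimBC.flat_π D c hc j (fun j' φ' => hflat _ _ φ')
    have hsq : IsPullback
        (Limits.pullback.lift (Limits.pullback.fst j₀ (c.π.app i₀))
          (Limits.pullback.snd j₀ (c.π.app i₀) ≫ c.π.app j)
          (by rw [Limits.pullback.condition, Category.assoc, c.w]))
        (Limits.pullback.snd j₀ (c.π.app i₀)) (Limits.pullback.snd j₀ (D.map φ))
        (c.π.app j) := by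
      have h1 : IsPullback (Limits.pullback.fst j₀ (D.map φ)) (Limits.pullback.snd j₀ (D.map φ))
          j₀ (D.map φ) := IsPullback.of_hasPullback _ _
      have h2 : IsPullback (Limits.pullback.fst j₀ (c.π.app i₀))
          (Limits.pullback.snd j₀ (c.π.app i₀)) j₀ (c.π.app i₀) := IsPullback.of_hasPullback _ _
      refine IsPullback.of_right ?_ ?_ h1
      · rw [Limits.pullback.lift_fst, c.w]
        exact h2
      · rw [Limits.pullback.lift_snd]
    exact Groth.Agent.Helper28.RegBC.base_change _ (c.π.app j) _ _ hsq _ h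

end Groth.Agent.S5983
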