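import Groth.Statements.S5985
import Groth.Agent.Lib.Helper16.Sch.QFSch
import Groth.Agent.Lib.Helper16.Sch.FinUnion

set_option autoImplicit false
universe u
open CategoryTheory AlgebraicGeometry
open Unram

namespace Groth.Agent.S5985

/-- Let f : X ⟶ Y be separated and locally of finite type, and y a point of Y whose fibre f⁻¹(y) is
finite (hence discrete). Then there are an étale morphism g : Y' ⟶ Y, a point y' of Y' with g(y') =
y inducing an isomorphism of residue fields κ(y) ≅ κ(y'), and two complementary open subschemes V, W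
of X' = X ×_Y Y' such that V ⟶ Y' is finite and W contains no point of X' lying over y'. -/
theorem result {X Y : Scheme.{u}} (f : X ⟶ Y)
    [LocallyOfFiniteType f] [IsSeparated f] (y : Y) (hfin : (f ⁻¹' {y}).Finite) :
    ∃ (Y' : Scheme.{u}) (g : Y' ⟶ Y) (y' : Y'), Etale g ∧ g y' = y ∧
      IsIso (g.residueFieldMap y') ∧
      ∃ (V W : (Limits.pullback f g).Opens), IsCompl V W ∧
        IsFinite (V.ι ≫ Limits.pullback.snd f g) ∧
        ∀ x : ↥(Limits.pullback f g), Limits.pullback.snd f g x = y' → x ∈ V := by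
  classical
  haveI : Finite ↥(f ⁻¹' {y}) := hfin.to_subtype
  obtain ⟨n, ⟨e⟩⟩ := Finite.exists_equiv_fin ↥(f ⁻¹' {y})
  let x : Fin n → ↑X := fun i => (e.symm i).1
  have hs : ∀ i, f (x i) = y := fun i => (e.symm i).2
  have hinj : Function.Injective x := fun i j h => e.symm.injective (Subtype.ext h)
  have hsurj : ∀ z : X, f z = y → ∃ i, z = x i := by
    intro z hz
    refine ⟨e ⟨z, hz⟩, ?_⟩
    show z = (e.symm (e ⟨z, hz⟩)).1
    rw [Equiv.symm_apply_apply]
  have hx : ∀ i, f.QuasiFiniteAt (x i) := by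
    intro i
    have h1 : (f ⁻¹' {f (x i)}).Finite := by rw [hs]; exact hfin
    have : Finite (f.fiber (f (x i))) := (f.fiberHomeo (f (x i))).finite_iff.mpr h1.to_subtype
    exact Scheme.Hom.quasiFiniteAt_iff_isOpen_singleton_asFiber.mpr (isOpen_discrete _)
  obtain ⟨R', g, u, hg, hgu, hsur, hpd, -⟩ :=
    Groth.Agent.Helper16.QFSch.qfMain_triv f y x hs hx
  obtain ⟨J, hJ, V, v, h1, h2, h3⟩ := Groth.Agent.Helper16.QFSch.combineQF f R' g u x hinj
    (fun _ _ _ => True) (fun _ => True) (fun _ _ _ _ _ _ _ => trivial) hpd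
  haveI := hJ
  obtain ⟨V', hle, hclopen, hdisj, h4⟩ := Groth.Agent.Helper16.QFSch.separate
    (Limits.pullback.snd f g) u J V v
    (fun i j => ⟨(h1 i j).1, (h1 i j).2.1, (h1 i j).2.2.1, (h1 i j).2.2.2.1⟩) h2
  -- total union
  let K := Σ i, J i
  letI : Fintype K := Fintype.ofFinite K
  let VK : K → (Limits.pullback f g).Opens := fun k => V' k.1 k.2
  have hVKd : ∀ k k', k ≠ k' → Disjoint (VK k) (VK k') := by
    rintro ⟨i, j⟩ ⟨i', j'⟩ hne
    rw [disjoint_iff]
    ext w
    simp only [TopologicalSpace.Opens.coe_inf, Set.mem_inter_iff,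
      TopologicalSpace.Opens.coe_bot, Set.mem_empty_iff_false, iff_false, not_and]
    intro hw hw'
    apply hne
    obtain ⟨rfl, h5⟩ := hdisj i j i' j' ⟨w, hw, hw'⟩
    exact Sigma.mk.inj_iff.mpr ⟨rfl, h5⟩
  have hfinV : IsFinite ((Finset.univ.sup VK).ι ≫ Limits.pullback.snd f g) :=
    Groth.Agent.Helper16.FinUnion.isFinite_finset_sup _ VK hVKd (fun k => (h4 k.1 k.2).2) _
  have hcl : IsClosed ((Finset.univ.sup VK : (Limits.pullback f g).Opens) : Set ↑(Limits.pullback f g)) := by
    have : ((Finset.univ.sup VK : (Limits.pullback f g).Opens) : Set ↑(Limits.pullback f g)) =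
        ⋃ k, (VK k : Set ↑(Limits.pullback f g)) := by
      ext w
      simp [Finset.sup_eq_iSup]
    rw [this]
    exact isClosed_iUnion_of_finite fun k => (hclopen k.1 k.2).1
  refine ⟨Spec R', g, u, hg, hgu, ?_, Finset.univ.sup VK, ⟨_, hcl.isOpen_compl⟩, ?_, hfinV, ?_⟩
  · rw [ConcreteCategory.isIso_iff_bijective]
    exact ⟨(g.residueFieldMap u).hom.injective, hsur⟩
  · constructor
    · rw [disjoint_iff]
      ext w
      simp
    · rw [codisjoint_iff]
      ext w
      simp only [TopologicalSpace.Opens.coe_sup, TopologicalSpace.Opens.coe_mk, Set.union_compl_self,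
        TopologicalSpace.Opens.coe_top]
  · intro w hw
    have hfw : f (Limits.pullback.fst f g w) = y := by
      have : f (Limits.pullback.fst f g w) = g (Limits.pullback.snd f g w) := by
        rw [← Scheme.Hom.comp_apply, ← Scheme.Hom.comp_apply, Limits.pullback.condition]
      rw [this, hw, hgu]
    obtain ⟨i, hi⟩ := hsurj _ hfw
    obtain ⟨j, rfl⟩ := h3 w i hw hi
    have : v i j ∈ VK ⟨i, j⟩ := (h4 i j).1
    exact (Finset.le_sup (f := VK) (Finset.mem_univ (⟨i, j⟩ : K))) this

end Groth.Agent.S5985
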