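import Groth.Statements.S5987
import Mathlib
import Groth.Agent.S12082
import Groth.Agent.Lib.Helper23.PrimeAvoid
-- import your own Groth.Agent.* helpers here

set_option autoImplicit false
universe u
open EGA418

namespace Groth.Agent.S5987

section General

variable {R : Type*} [CommRing R]

/-- an element avoiding the minimal primes of `J` lowers the dimension of `R ⧸ J` -/
theorem dim_drop (J : Ideal R) (x : R) (hx : ∀ q ∈ J.minimalPrimes, x ∉ q) :
    ringKrullDim (R ⧸ (J ⊔ Ideal.span {x})) + 1 ≤ ringKrullDim (R ⧸ J) := by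
  by_cases hr' : J ⊔ Ideal.span {x} = ⊤
  · rw [hr', ringKrullDim_eq_bot_of_subsingleton]
    simp
  have hsub : PrimeSpectrum.zeroLocus (R := R) ((J ⊔ Ideal.span {x} : Ideal R) : Set R) ⊆
      PrimeSpectrum.zeroLocus (R := R) (J : Set R) :=
    PrimeSpectrum.zeroLocus_anti_mono (by exact_mod_cast (le_sup_left : J ≤ J ⊔ Ideal.span {x}))
  have h1 : Nonempty (PrimeSpectrum.zeroLocus (R := R) ((J ⊔ Ideal.span {x} : Ideal R) : Set R)) := by
    rwa [Set.nonempty_coe_sort, Set.nonempty_iff_ne_empty, ne_eq,
      PrimeSpectrum.zeroLocus_empty_iff_eq_top]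
  have h2 : Nonempty (PrimeSpectrum.zeroLocus (R := R) (J : Set R)) := by
    obtain ⟨P, hP⟩ := h1
    exact ⟨⟨P, hsub hP⟩⟩
  rw [ringKrullDim_quotient, ringKrullDim_quotient, Order.krullDim_eq_iSup_length,
    Order.krullDim_eq_iSup_length, ← WithBot.coe_one, ← WithBot.coe_add,
    ENat.iSup_add, WithBot.coe_le_coe, iSup_le_iff]
  intro l
  have hhead : J ⊔ Ideal.span {x} ≤ l.head.1.asIdeal := l.head.2
  obtain ⟨q, hq, hq'⟩ := Ideal.exists_minimalPrimes_le (I := J) (J := l.head.1.asIdeal)
    (le_sup_left.trans hhead)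
  let q' : PrimeSpectrum.zeroLocus (R := R) (J : Set R) := ⟨⟨q, hq.1.1⟩, hq.1.2⟩
  let l' : LTSeries (PrimeSpectrum.zeroLocus (R := R) (J : Set R)) :=
    l.map (fun P => ⟨P.1, hsub P.2⟩) (fun _ _ h => h)
  have hlt : q' < l'.head := by
    rw [LTSeries.head_map]
    refine lt_of_le_of_ne hq' fun h => ?_
    apply hx q hq
    have h3 : q = l.head.1.asIdeal := congrArg (fun P => P.1.asIdeal) h
    rw [h3]
    exact hhead (Ideal.mem_sup_right (Ideal.mem_span_singleton_self x))
  refine le_trans ?_ (le_iSup _ (l'.cons q' hlt))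
  simp [l']

end General

section Loc

open IsLocalRing

variable {A : Type u} [CommRing A] (p : Ideal A) [hp : p.IsPrime]

/-- the `p`-saturation of `J` is not contained in a minimal prime of `J` not below `p` -/
theorem sat_not_le (J 𝔮 : Ideal A) (h𝔮 : 𝔮 ∈ J.minimalPrimes) (hnp : ¬ 𝔮 ≤ p) :
    ¬ (J.map (algebraMap A (Localization.AtPrime p))).comap
      (algebraMap A (Localization.AtPrime p)) ≤ 𝔮 := by
  intro hle
  haveI : 𝔮.IsPrime := h𝔮.1.1
  obtain ⟨𝔮', h𝔮', hle'⟩ := Ideal.exists_minimalPrimes_le hle
  rw [IsLocalization.minimalPrimes_comap p.primeCompl] at h𝔮'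
  obtain ⟨Q, hQ, rfl⟩ := h𝔮'
  haveI : Q.IsPrime := hQ.1.1
  have h1 : Q.comap (algebraMap A (Localization.AtPrime p)) ≤ p := by
    intro x hx
    by_contra hxp
    have hd := ((IsLocalization.isPrime_iff_isPrime_disjoint p.primeCompl
      (Localization.AtPrime p) Q).mp inferInstance).2
    exact Set.disjoint_left.mp hd (show x ∈ (p.primeCompl : Set A) from hxp) hx
  have h2 : J ≤ Q.comap (algebraMap A (Localization.AtPrime p)) :=
    Ideal.le_comap_map.trans (Ideal.comap_mono hQ.1.2)
  have h3 := h𝔮.2 ⟨Ideal.comap_isPrime _ _, h2⟩ hle'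
  exact hnp (h3.trans h1)

/-- the congruences identify the extended ideals -/
theorem map_span_eq (t' : ℕ → Localization.AtPrime p) (x a : ℕ → A) :
    ∀ i : ℕ, (∀ j < i, a j ∉ p) →
    (∀ j < i, algebraMap A (Localization.AtPrime p) (x j) -
      algebraMap A (Localization.AtPrime p) (a j) * t' j ∈ Ideal.span (t' '' Set.Iio j)) →
    (Ideal.span (x '' Set.Iio i)).map (algebraMap A (Localization.AtPrime p)) =
      Ideal.span (t' '' Set.Iio i) := by
  intro i
  induction i with
  | zero =>
    intro _ _
    have h0 : Set.Iio (0 : ℕ) = ∅ := by ext j; simp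
    rw [h0, Set.image_empty, Set.image_empty, Ideal.span_empty, Ideal.span_empty, Ideal.map_bot]
  | succ i ih =>
    intro ha hc
    have hS : Set.Iio (i + 1) = insert i (Set.Iio i) := by
      ext j; simp only [Set.mem_Iio, Set.mem_insert_iff]; omega
    have ih' := ih (fun j hj => ha j (by omega)) (fun j hj => hc j (by omega))
    rw [hS, Set.image_insert_eq, Set.image_insert_eq, Ideal.span_insert, Ideal.span_insert,
      Ideal.map_sup, ih', Ideal.map_span, Set.image_singleton]
    have hu : IsUnit (algebraMap A (Localization.AtPrime p) (a i)) :=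
      IsLocalization.map_units (Localization.AtPrime p) (⟨a i, ha i (by omega)⟩ : p.primeCompl)
    have hz := hc i (by omega)
    obtain ⟨u, hu'⟩ := hu
    apply le_antisymm
    · rw [sup_le_iff]
      refine ⟨?_, le_sup_right⟩
      rw [Ideal.span_singleton_le_iff_mem]
      have : algebraMap A (Localization.AtPrime p) (x i) =
          algebraMap A (Localization.AtPrime p) (a i) * t' i +
            (algebraMap A (Localization.AtPrime p) (x i) -
              algebraMap A (Localization.AtPrime p) (a i) * t' i) := by ring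
      rw [this]
      exact Ideal.add_mem _ (Ideal.mem_sup_left (Ideal.mul_mem_left _ _
        (Ideal.mem_span_singleton_self _))) (Ideal.mem_sup_right hz)
    · rw [sup_le_iff]
      refine ⟨?_, le_sup_right⟩
      rw [Ideal.span_singleton_le_iff_mem]
      have : t' i = (↑u⁻¹ : Localization.AtPrime p) *
          (algebraMap A (Localization.AtPrime p) (x i)) -
          (↑u⁻¹ : Localization.AtPrime p) * (algebraMap A (Localization.AtPrime p) (x i) -
              algebraMap A (Localization.AtPrime p) (a i) * t' i) := by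
        rw [← hu']
        have h1 : (↑u⁻¹ : Localization.AtPrime p) * (u : Localization.AtPrime p) = 1 :=
          Units.inv_mul u
        linear_combination (-(t' i)) * h1
      rw [this]
      exact Ideal.sub_mem _ (Ideal.mem_sup_left (Ideal.mul_mem_left _ _
        (Ideal.mem_span_singleton_self _))) (Ideal.mem_sup_right (Ideal.mul_mem_left _ _ hz))

end Loc

section Reg

variable {L : Type u} [CommRing L]

theorem ofList_take_ofFn (s : ℕ) (t : Fin s → L) (t' : ℕ → L)
    (ht' : ∀ j (h : j < s), t' j = t ⟨j, h⟩) (i : ℕ) (hi : i ≤ s) :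
    Ideal.ofList ((List.ofFn t).take i) = Ideal.span (t' '' Set.Iio i) := by
  unfold Ideal.ofList
  congr 1
  ext r
  simp only [Set.mem_ofPred_eq, Set.mem_image, Set.mem_Iio]
  rw [List.mem_take_iff_getElem]
  constructor
  · rintro ⟨j, hj, rfl⟩
    rw [List.length_ofFn] at hj
    have hj1 : j < i := lt_of_lt_of_le hj (min_le_left _ _)
    have hj2 : j < s := lt_of_lt_of_le hj (min_le_right _ _)
    refine ⟨j, hj1, ?_⟩
    rw [List.getElem_ofFn, ht' j hj2]
  · rintro ⟨j, hj, rfl⟩
    have hj2 : j < s := lt_of_lt_of_le hj hi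
    refine ⟨j, by rw [List.length_ofFn]; exact lt_min hj hj2, ?_⟩
    rw [List.getElem_ofFn, ht' j hj2]

theorem notMem_of_regular (s : ℕ) (t : Fin s → L)
    (hreg : RingTheory.Sequence.IsWeaklyRegular L (List.ofFn t)) (t' : ℕ → L)
    (ht' : ∀ j (h : j < s), t' j = t ⟨j, h⟩) (i : ℕ) (hi : i < s)
    (Q : Ideal L) (hQ : Q ∈ (Ideal.span (t' '' Set.Iio i)).minimalPrimes) : t' i ∉ Q := by
  have h1 := hreg.regular_mod_prev i (by rw [List.length_ofFn]; exact hi)
  rw [List.getElem_ofFn, ← ht' i hi] at h1
  have h2 : Module.annihilator L (L ⧸ (Ideal.ofList ((List.ofFn t).take i) • ⊤ : Submodule L L)) =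
      Ideal.span (t' '' Set.Iio i) := by
    rw [Submodule.annihilator_quotient, Submodule.colon_univ, Ideal.smul_eq_mul, Ideal.mul_top,
      ofList_take_ofFn s t t' ht' i hi.le]
  rw [← h2] at hQ
  exact IsSMulRegular.notMem_of_mem_minimalPrimes h1 hQ

end Reg

section Main

open IsLocalRing

variable {A : Type u} [CommRing A] [IsNoetherianRing A] [IsLocalRing A] (p : Ideal A) [hp : p.IsPrime]

theorem claim (s : ℕ) (t : Fin s → Localization.AtPrime p)
    (ht : ∀ i, t i ∈ IsLocalRing.maximalIdeal (Localization.AtPrime p))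
    (hreg : RingTheory.Sequence.IsWeaklyRegular (Localization.AtPrime p) (List.ofFn t))
    (t' : ℕ → Localization.AtPrime p) (ht' : ∀ j (h : j < s), t' j = t ⟨j, h⟩) :
    ∀ i : ℕ, i ≤ s → ∃ x a : ℕ → A, (∀ j < i, x j ∈ p) ∧ (∀ j < i, a j ∉ p) ∧
      ringKrullDim (A ⧸ Ideal.span (x '' Set.Iio i)) + (i : WithBot ℕ∞) ≤ ringKrullDim A ∧
      ∀ j < i, algebraMap A (Localization.AtPrime p) (x j) -
        algebraMap A (Localization.AtPrime p) (a j) * t' j ∈ Ideal.span (t' '' Set.Iio j) := by
  classical
  intro i
  induction i with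
  | zero =>
    intro _
    refine ⟨fun _ => 0, fun _ => 1, by simp, by simp, ?_, by simp⟩
    have h0 : Set.Iio (0 : ℕ) = ∅ := by ext j; simp
    rw [h0, Set.image_empty, Ideal.span_empty, Nat.cast_zero, add_zero]
    exact (ringKrullDim_eq_of_ringEquiv (RingEquiv.quotientBot A)).le
  | succ i ih =>
    intro his
    have hi : i < s := his
    obtain ⟨x, a, hx, ha, hdim, hc⟩ := ih hi.le
    set J := Ideal.span (x '' Set.Iio i) with hJ
    have hJmap := map_span_eq p t' x a i ha hc
    have hJp : J ≤ p := by
      rw [hJ, Ideal.span_le]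
      rintro _ ⟨j, hj, rfl⟩
      exact hx j hj
    -- write `t' i = y / b`
    obtain ⟨y, ⟨b, hb⟩, hyb⟩ := IsLocalization.exists_mk'_eq p.primeCompl (t' i)
    have hyb' : t' i * algebraMap A (Localization.AtPrime p) b =
        algebraMap A (Localization.AtPrime p) y := by
      rw [← hyb]
      exact IsLocalization.mk'_spec _ _ _
    have hbu : IsUnit (algebraMap A (Localization.AtPrime p) b) :=
      IsLocalization.map_units (Localization.AtPrime p) (⟨b, hb⟩ : p.primeCompl)
    have hyp : y ∈ p := by
      rw [← IsLocalization.AtPrime.to_map_mem_maximal_iff (Localization.AtPrime p) p y, ← hyb']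
      apply Ideal.mul_mem_right
      rw [ht' i hi]
      exact ht _
    -- the saturation
    set J' := (J.map (algebraMap A (Localization.AtPrime p))).comap
      (algebraMap A (Localization.AtPrime p)) with hJ'
    have hcomap_map : ∀ 𝔮 : Ideal A, 𝔮.IsPrime → 𝔮 ≤ p →
        (𝔮.map (algebraMap A (Localization.AtPrime p))).comap
          (algebraMap A (Localization.AtPrime p)) = 𝔮 := by
      intro 𝔮 h𝔮 hle
      apply IsLocalization.under_map_of_isPrime_disjoint p.primeCompl _ h𝔮
      rw [Set.disjoint_left]
      intro z hz hz'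
      exact hz (hle hz')
    have hJ'le : ∀ 𝔮 : Ideal A, 𝔮.IsPrime → J ≤ 𝔮 → 𝔮 ≤ p → J' ≤ 𝔮 := by
      intro 𝔮 h𝔮 hJ𝔮 hle
      rw [← hcomap_map 𝔮 h𝔮 hle]
      exact Ideal.comap_mono (Ideal.map_mono hJ𝔮)
    -- F1
    have hF1 : ∀ 𝔮 ∈ J.minimalPrimes, 𝔮 ≤ p → y ∉ 𝔮 := by
      intro 𝔮 h𝔮 hle hy𝔮
      haveI : 𝔮.IsPrime := h𝔮.1.1
      have hQ : 𝔮.map (algebraMap A (Localization.AtPrime p)) ∈
          (Ideal.span (t' '' Set.Iio i)).minimalPrimes := by
        rw [← hJmap, IsLocalization.minimalPrimes_map p.primeCompl, Set.mem_preimage]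
        show Ideal.comap (algebraMap A (Localization.AtPrime p))
          (𝔮.map (algebraMap A (Localization.AtPrime p))) ∈ J.minimalPrimes
        rw [hcomap_map 𝔮 inferInstance hle]
        exact h𝔮
      haveI hQp : (𝔮.map (algebraMap A (Localization.AtPrime p))).IsPrime := hQ.1.1
      have h1 : t' i * algebraMap A (Localization.AtPrime p) b ∈
          𝔮.map (algebraMap A (Localization.AtPrime p)) := by
        rw [hyb']
        exact Ideal.mem_map_of_mem _ hy𝔮
      rcases hQp.mem_or_mem h1 with h2 | h2
      · exact notMem_of_regular s t hreg t' ht' i hi _ hQ h2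
      · exact hQp.ne_top (Ideal.eq_top_of_isUnit_mem _ h2 hbu)
    -- avoidance
    let T : Finset (Ideal A) :=
      (Ideal.finite_minimalPrimes_of_isNoetherianRing A J).toFinset.filter (fun 𝔮 => ¬ 𝔮 ≤ p)
    have hT : ∀ 𝔮 ∈ T, 𝔮.IsPrime ∧ ¬ (Ideal.span {y} ⊔ J' ≤ 𝔮) := by
      intro 𝔮 h𝔮
      rw [Finset.mem_filter, Set.Finite.mem_toFinset] at h𝔮
      refine ⟨h𝔮.1.1.1, fun hle => ?_⟩
      exact sat_not_le p J 𝔮 h𝔮.1 h𝔮.2 (le_sup_right.trans hle)
    obtain ⟨w, hw, hwT⟩ := Groth.Agent.Helper23.exists_add_notMem_of_primes J' y T hT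
    have havoid : ∀ 𝔮 ∈ J.minimalPrimes, y + w ∉ 𝔮 := by
      intro 𝔮 h𝔮
      by_cases hle : 𝔮 ≤ p
      · intro hmem
        have hw𝔮 : w ∈ 𝔮 := hJ'le 𝔮 h𝔮.1.1 h𝔮.1.2 hle hw
        apply hF1 𝔮 h𝔮 hle
        have : y = (y + w) - w := by ring
        rw [this]
        exact 𝔮.sub_mem hmem hw𝔮
      · apply hwT
        rw [Finset.mem_filter, Set.Finite.mem_toFinset]
        exact ⟨h𝔮, hle⟩
    have hwp : w ∈ p := hJ'le p hp hJp le_rfl hw
    have hwmap : algebraMap A (Localization.AtPrime p) w ∈ Ideal.span (t' '' Set.Iio i) := by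
      rw [← hJmap]
      exact hw
    -- the new sequences
    refine ⟨Function.update x i (y + w), Function.update a i b, ?_, ?_, ?_, ?_⟩
    · intro j hj
      by_cases hji : j = i
      · subst hji
        rw [Function.update_self]
        exact p.add_mem hyp hwp
      · rw [Function.update_of_ne hji]
        exact hx j (by omega)
    · intro j hj
      by_cases hji : j = i
      · subst hji
        rw [Function.update_self]
        exact hb
      · rw [Function.update_of_ne hji]
        exact ha j (by omega)
    · have hS : Set.Iio (i + 1) = insert i (Set.Iio i) := by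
        ext j; simp only [Set.mem_Iio, Set.mem_insert_iff]; omega
      have himg : Function.update x i (y + w) '' Set.Iio i = x '' Set.Iio i := by
        apply Set.image_congr
        intro j hj
        rw [Function.update_of_ne (ne_of_lt hj)]
      rw [hS, Set.image_insert_eq, Function.update_self, himg, Ideal.span_insert, sup_comm, ← hJ]
      have h1 := dim_drop J (y + w) havoid
      calc ringKrullDim (A ⧸ (J ⊔ Ideal.span {y + w})) + ((i + 1 : ℕ) : WithBot ℕ∞)
          = (ringKrullDim (A ⧸ (J ⊔ Ideal.span {y + w})) + 1) + (i : WithBot ℕ∞) := by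
            push_cast; ring
        _ ≤ ringKrullDim (A ⧸ J) + (i : WithBot ℕ∞) := add_le_add h1 le_rfl
        _ ≤ ringKrullDim A := hdim
    · intro j hj
      by_cases hji : j = i
      · subst hji
        rw [Function.update_self, Function.update_self]
        have : algebraMap A (Localization.AtPrime p) (y + w) -
            algebraMap A (Localization.AtPrime p) b * t' j =
            algebraMap A (Localization.AtPrime p) w := by
          rw [map_add, ← hyb']
          ring
        rw [this]
        exact hwmap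
      · rw [Function.update_of_ne hji, Function.update_of_ne hji]
        exact hc j (by omega)

theorem main (A : Type u) [CommRing A]
    [IsNoetherianRing A] [IsLocalRing A] (p : Ideal A) [p.IsPrime]
    [LocCoh.IsCohenMacaulayLocalRing (Localization.AtPrime p)] (s : ℕ)
    (hs : ringKrullDim (Localization.AtPrime p) = s) (t : Fin s → Localization.AtPrime p)
    (ht : ∀ i, t i ∈ IsLocalRing.maximalIdeal (Localization.AtPrime p))
    (hsop : ringKrullDim (Localization.AtPrime p ⧸ Ideal.span (Set.range t)) = 0) :
    ∃ x a : Fin s → A, (∀ i, x i ∈ p) ∧ (∀ i, a i ∉ p) ∧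
      ringKrullDim (A ⧸ Ideal.span (Set.range x)) + (s : WithBot ℕ∞) = ringKrullDim A ∧
      ∀ i : Fin s, algebraMap A (Localization.AtPrime p) (x i) -
          algebraMap A (Localization.AtPrime p) (a i) * t i ∈
        Ideal.span (t '' {j : Fin s | j < i}) := by
  classical
  have hofl : Ideal.ofList (List.ofFn t) = Ideal.span (Set.range t) := by
    unfold Ideal.ofList
    congr 1
    ext r
    simp [List.mem_ofFn]
  have hreg : RingTheory.Sequence.IsRegular (Localization.AtPrime p) (List.ofFn t) := by
    apply Groth.Agent.S12082.reg_of_dim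
    · intro r hr
      rw [List.mem_ofFn] at hr
      obtain ⟨j, rfl⟩ := hr
      exact ht j
    · rw [hofl, hsop, List.length_ofFn, hs, zero_add]
  let t' : ℕ → Localization.AtPrime p := fun j => if h : j < s then t ⟨j, h⟩ else 0
  have ht' : ∀ j (h : j < s), t' j = t ⟨j, h⟩ := by
    intro j h
    simp only [t', dif_pos h]
  obtain ⟨x, a, hx, ha, hdim, hc⟩ := claim p s t ht hreg.toIsWeaklyRegular t' ht' s le_rfl
  have hrange : Set.range (fun j : Fin s => x j) = x '' Set.Iio s := by
    ext r
    simp only [Set.mem_range, Set.mem_image, Set.mem_Iio]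
    constructor
    · rintro ⟨j, rfl⟩
      exact ⟨j, j.2, rfl⟩
    · rintro ⟨j, hj, rfl⟩
      exact ⟨⟨j, hj⟩, rfl⟩
  refine ⟨fun j => x j, fun j => a j, fun j => hx j j.2, fun j => ha j j.2, ?_, ?_⟩
  · apply le_antisymm
    · rw [hrange]
      exact hdim
    · have hle : Ideal.span (Set.range (fun j : Fin s => x j)) ≤ Ring.jacobson A := by
        rw [IsLocalRing.ringJacobson_eq_maximalIdeal, Ideal.span_le]
        rintro _ ⟨j, rfl⟩
        exact IsLocalRing.le_maximalIdeal (Ideal.IsPrime.ne_top inferInstance) (hx j j.2)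
      refine (ringKrullDim_le_ringKrullDim_quotient_add_spanFinrank _ hle).trans ?_
      refine add_le_add le_rfl ?_
      have h1 : (Ideal.span (Set.range (fun j : Fin s => x j))).spanFinrank ≤ s := by
        have h2 := Submodule.spanFinrank_span_le_encard (R := A)
          (Set.range (fun j : Fin s => x j))
        have h3 : (Set.range (fun j : Fin s => x j)).encard ≤ s := by
          calc (Set.range (fun j : Fin s => x j)).encard
              ≤ (Set.univ : Set (Fin s)).encard := by
                rw [← Set.image_univ]; exact Set.encard_image_le _ _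
            _ = s := by simp
        exact_mod_cast h2.trans h3
      exact_mod_cast h1
  · intro i
    have himg : t '' {j : Fin s | j < i} = t' '' Set.Iio (i : ℕ) := by
      ext r
      simp only [Set.mem_image, Set.mem_ofPred_eq, Set.mem_Iio]
      constructor
      · rintro ⟨j, hj, rfl⟩
        exact ⟨j, hj, ht' j j.2⟩
      · rintro ⟨j, hj, rfl⟩
        have hjs : j < s := lt_trans hj i.2
        exact ⟨⟨j, hjs⟩, hj, (ht' j hjs).symm⟩
    rw [himg, ← ht' i i.2]
    exact hc i i.2

end Main

/-- Let A be a Noetherian local ring and p a prime ideal of A such that the local ring A_p is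
Cohen–Macaulay, of dimension s; let t_1, …, t_s be a system of parameters of A_p (elements of its
maximal ideal such that A_p/(t_1, …, t_s) has dimension 0). Then there are elements x_1, …, x_s of p
which form part of a system of parameters of A, in the sense that dim A/(x_1, …, x_s) + s = dim A,
and elements a_1, …, a_s of A outside p, such that for every i the image of x_i in A_p is congruent
to a_i t_i modulo the ideal (t_1, …, t_{i-1}) A_p. (The published statement asks for the image of
x_i to be congruent to t_i itself; this row allows the factor a_i outside p, which is what the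
published proof gives, since it first multiplies each t_i by a unit of A_p to bring it into the
image of A. The published form fails already for s = 1: for A the localization of k[X, Y] at (X, Y),
p = (X) and t_1 = X/Y, the congruence modulo the zero ideal asks for an element of A with image X/Y
in A_p, and there is none.) -/
theorem result (A : Type u) [CommRing A]
    [IsNoetherianRing A] [IsLocalRing A] (p : Ideal A) [p.IsPrime]
    [LocCoh.IsCohenMacaulayLocalRing (Localization.AtPrime p)] (s : ℕ)
    (hs : ringKrullDim (Localization.AtPrime p) = s) (t : Fin s → Localization.AtPrime p)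
    (ht : ∀ i, t i ∈ IsLocalRing.maximalIdeal (Localization.AtPrime p))
    (hsop : ringKrullDim (Localization.AtPrime p ⧸ Ideal.span (Set.range t)) = 0) :
    ∃ x a : Fin s → A, (∀ i, x i ∈ p) ∧ (∀ i, a i ∉ p) ∧
      ringKrullDim (A ⧸ Ideal.span (Set.range x)) + (s : WithBot ℕ∞) = ringKrullDim A ∧
      ∀ i : Fin s, algebraMap A (Localization.AtPrime p) (x i) -
          algebraMap A (Localization.AtPrime p) (a i) * t i ∈
        Ideal.span (t '' {j : Fin s | j < i}) := by
  exact Groth.Agent.S5987.main A p s hs t ht hsop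

end Groth.Agent.S5987
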