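import Groth.Statements.S6012
import Groth.Agent.Lib.Helper9.FibClv

set_option backward.isDefEq.respectTransparency false
set_option backward.isDefEq.respectTransparency.types false

set_option autoImplicit false
open CategoryTheory
universe v₁ v₂ u₁ u₂
open FibCat FibCat.Cleavage

namespace Groth.Agent.S6012

/-- Let `K` be a cleavage of an arbitrary functor `p : 𝒳 ⥤ 𝒮` (one chosen cartesian lift of every base
morphism at every object over its target; `p` is not assumed fibred). Then `p` is a fibred category
(composites of cartesian morphisms are cartesian) if and only if, for all composable base morphisms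
`g : R ⟶ T` and `f : T ⟶ S`, the comparison natural transformation `c_{f,g}` from `g^* f^*` to
`(fg)^*` determined by `K` is an isomorphism. -/
theorem result (𝒮 : Type u₁) (𝒳 : Type u₂) [Category.{v₁} 𝒮] [Category.{v₂} 𝒳] (p : 𝒳 ⥤ 𝒮) (K : FibCat.Cleavage p) :
    p.IsFibered ↔ ∀ (R S T : 𝒮) (f : T ⟶ S) (g : R ⟶ T), IsIso (K.comp f g) := by
  constructor
  · intro hfib R S T f g
    apply (config := { allowSynthFailures := true }) NatIso.isIso_of_isIso_app
    intro a
    have hcart : p.IsCartesian (g ≫ f) (K.lift (K.obj_proj a.2 f) g ≫ K.lift a.2 f) := inferInstance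
    let e := Functor.IsCartesian.domainUniqueUpToIso p (g ≫ f) (K.lift a.2 (g ≫ f))
      (K.lift (K.obj_proj a.2 f) g ≫ K.lift a.2 f)
    have he : p.IsHomLift (𝟙 R) e.inv := inferInstance
    refine ⟨⟨e.inv, he⟩, ?_, ?_⟩
    · apply Functor.Fiber.hom_ext
      exact e.hom_inv_id
    · apply Functor.Fiber.hom_ext
      exact e.inv_hom_id
  · intro h
    apply Functor.IsFibered.of_exists_isStronglyCartesian
    intro a R f
    refine ⟨K.obj rfl f, K.lift rfl f, ?_⟩
    refine { universal_property' := ?_ }
    intro a' g φ' hφ'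
    let A : p.Fiber (p.obj a) := ⟨a, rfl⟩
    have hc : IsIso ((K.comp f g).app A) := by
      have := h _ _ _ f g
      infer_instance
    have hcl := Groth.Agent.Helper9.FibClv.comp_app_lift K f g A
    have hci : Functor.Fiber.fiberInclusion.map (inv ((K.comp f g).app A)) ≫
        Functor.Fiber.fiberInclusion.map ((K.comp f g).app A) = 𝟙 _ := by
      rw [← Functor.map_comp, IsIso.inv_hom_id, Functor.map_id]
    have hic : Functor.Fiber.fiberInclusion.map ((K.comp f g).app A) ≫
        Functor.Fiber.fiberInclusion.map (inv ((K.comp f g).app A)) = 𝟙 _ := by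
      rw [← Functor.map_comp, IsIso.hom_inv_id, Functor.map_id]
    have hfac := Functor.IsCartesian.fac p (g ≫ f) (K.lift A.2 (g ≫ f)) φ'
    refine ⟨Functor.IsCartesian.map p (g ≫ f) (K.lift A.2 (g ≫ f)) φ' ≫
      Functor.Fiber.fiberInclusion.map (inv ((K.comp f g).app A)) ≫ K.lift (K.obj_proj A.2 f) g,
      ⟨inferInstance, ?_⟩, ?_⟩
    · simp only [Category.assoc]
      rw [← hcl, reassoc_of% hci]
      exact hfac
    · rintro χ' ⟨hχ1, hχ2⟩
      have hχfac := Functor.IsCartesian.fac p g (K.lift (K.obj_proj A.2 f) g) χ'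
      have h1 : Functor.IsCartesian.map p g (K.lift (K.obj_proj A.2 f) g) χ' ≫
          Functor.Fiber.fiberInclusion.map ((K.comp f g).app A) =
          Functor.IsCartesian.map p (g ≫ f) (K.lift A.2 (g ≫ f)) φ' := by
        apply Functor.IsCartesian.map_uniq
        rw [Category.assoc, hcl, reassoc_of% hχfac]
        exact hχ2
      rw [← h1, Category.assoc, reassoc_of% hic, hχfac]

end Groth.Agent.S6012
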