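import Groth.Statements.S6013
import Groth.Agent.Lib.Helper9.FibClv

set_option backward.isDefEq.respectTransparency false
set_option backward.isDefEq.respectTransparency.types false

set_option autoImplicit false
open CategoryTheory
universe v₁ v₂ u₁ u₂
open FibCat FibCat.Cleavage

namespace Groth.Agent.S6013

/-- Let `p : 𝒳 ⥤ 𝒮` be a fibred category with a cleavage `K`, and let `f : T ⟶ S` be an isomorphism of
the base. Then the inverse-image functor `f^*` of `K`, from the fibre over `S` to the fibre over
`T`, is an equivalence of categories. -/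
theorem result (𝒮 : Type u₁) (𝒳 : Type u₂) [Category.{v₁} 𝒮] [Category.{v₂} 𝒳] (p : 𝒳 ⥤ 𝒮) [p.IsFibered] (K : FibCat.Cleavage p)
    (S T : 𝒮) (f : T ⟶ S) [IsIso f] : (K.inverseImage f).IsEquivalence := by
  have hliso : ∀ a : p.Fiber S, IsIso (K.lift a.2 f) := fun a =>
    Functor.IsStronglyCartesian.isIso_of_base_isIso p f (K.lift a.2 f)
  have hfaithful : (K.inverseImage f).Faithful := by
    constructor
    intro a b φ ψ h
    apply Functor.Fiber.hom_ext
    have h1 := Groth.Agent.Helper9.FibClv.inverseImage_map_lift K f φ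
    have h2 := Groth.Agent.Helper9.FibClv.inverseImage_map_lift K f ψ
    rw [h] at h1
    have h3 := h1.symm.trans h2
    have := hliso a
    exact (cancel_epi (K.lift a.2 f)).1 h3
  have hfull : (K.inverseImage f).Full := by
    constructor
    intro a b ψ
    have := hliso a
    have hφ0 : p.IsHomLift (𝟙 S)
        (inv (K.lift a.2 f) ≫ Functor.Fiber.fiberInclusion.map ψ ≫ K.lift b.2 f) := by
      have h1 : p.IsHomLift (inv f) (inv (K.lift a.2 f)) := inferInstance
      have h2 : p.IsHomLift (inv f ≫ f)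
        (inv (K.lift a.2 f) ≫ Functor.Fiber.fiberInclusion.map ψ ≫ K.lift b.2 f) := inferInstance
      simpa using h2
    refine ⟨⟨inv (K.lift a.2 f) ≫ Functor.Fiber.fiberInclusion.map ψ ≫ K.lift b.2 f, hφ0⟩, ?_⟩
    apply Groth.Agent.Helper9.FibClv.fiber_hom_ext_lift K f b
    rw [Groth.Agent.Helper9.FibClv.inverseImage_map_lift]
    change K.lift a.2 f ≫ inv (K.lift a.2 f) ≫ Functor.Fiber.fiberInclusion.map ψ ≫ K.lift b.2 f = _
    simp
  have hess : (K.inverseImage f).EssSurj := by
    constructor
    intro c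
    refine ⟨(K.inverseImage (inv f)).obj c, ⟨?_⟩⟩
    have h1 : IsIso (K.lift ((K.inverseImage (inv f)).obj c).2 f) := hliso _
    have h2 : IsIso (K.lift c.2 (inv f)) :=
      Functor.IsStronglyCartesian.isIso_of_base_isIso p (inv f) _
    have hθ : p.IsHomLift (𝟙 T)
        (K.lift ((K.inverseImage (inv f)).obj c).2 f ≫ K.lift c.2 (inv f)) := by
      have : p.IsHomLift (f ≫ inv f)
        (K.lift ((K.inverseImage (inv f)).obj c).2 f ≫ K.lift c.2 (inv f)) := inferInstance
      simpa using this
    have hθi : p.IsHomLift (𝟙 T)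
        (inv (K.lift ((K.inverseImage (inv f)).obj c).2 f ≫ K.lift c.2 (inv f))) := inferInstance
    refine ⟨⟨K.lift ((K.inverseImage (inv f)).obj c).2 f ≫ K.lift c.2 (inv f), hθ⟩,
      ⟨inv (K.lift ((K.inverseImage (inv f)).obj c).2 f ≫ K.lift c.2 (inv f)), hθi⟩, ?_, ?_⟩
    · apply Functor.Fiber.hom_ext
      exact IsIso.hom_inv_id _
    · apply Functor.Fiber.hom_ext
      exact IsIso.inv_hom_id _
  exact { faithful := hfaithful, full := hfull, essSurj := hess }

end Groth.Agent.S6013
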