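import Groth.Statements.S6019

set_option backward.isDefEq.respectTransparency false
set_option backward.isDefEq.respectTransparency.types false

set_option autoImplicit false
open CategoryTheory
universe v₁ v₂ u₁ u₂
open FibCat FibCat.Cleavage

namespace Groth.Agent.S6019

theorem exists_normal_lift {𝒮 : Type u₁} {𝒳 : Type u₂} [Category.{v₁} 𝒮] [Category.{v₂} 𝒳]
    (p : 𝒳 ⥤ 𝒮) [p.IsPreFibered] {R S : 𝒮} {a : 𝒳} (ha : p.obj a = S) (f : R ⟶ S) :
    ∃ (b : 𝒳) (φ : b ⟶ a), p.IsCartesian f φ ∧
      (∀ (e : R = S), f = eqToHom e → ∃ h : b = a, φ = eqToHom h) := by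
  by_cases h : ∃ e : R = S, f = eqToHom e
  · obtain ⟨e, rfl⟩ := h
    subst e
    refine ⟨a, 𝟙 a, ?_, fun _ _ => ⟨rfl, rfl⟩⟩
    have h1 : p.IsHomLift (𝟙 R) (𝟙 a) := IsHomLift.id ha
    have : p.IsStronglyCartesian (𝟙 R) (𝟙 a) := Functor.IsStronglyCartesian.of_isIso p (𝟙 R) (𝟙 a)
    rw [eqToHom_refl]
    infer_instance
  · exact ⟨Functor.IsPreFibered.pullbackObj ha f, Functor.IsPreFibered.pullbackMap ha f, inferInstance,
      fun e he => absurd ⟨e, he⟩ h⟩

/-- A normalised cleavage of a pre-fibred functor: identities are lifted to identities. -/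
noncomputable def normCleavage {𝒮 : Type u₁} {𝒳 : Type u₂} [Category.{v₁} 𝒮] [Category.{v₂} 𝒳]
    (p : 𝒳 ⥤ 𝒮) [p.IsPreFibered] : FibCat.Cleavage p where
  obj ha f := (exists_normal_lift p ha f).choose
  lift ha f := (exists_normal_lift p ha f).choose_spec.choose
  isCartesian ha f := (exists_normal_lift p ha f).choose_spec.choose_spec.1

/-- A pre-fibred category admits a normalised cleavage: if every base morphism `R ⟶ p(a)` has a
cartesian morphism over it with target `a`, then one cartesian lift can be chosen for every base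
morphism at every object over its target in such a way that the chosen lift of each identity `𝟙 S`
at each object `a` over `S` is the identity of `a` (identities are transport morphisms). -/
theorem result (𝒮 : Type u₁) (𝒳 : Type u₂) [Category.{v₁} 𝒮] [Category.{v₂} 𝒳]
    (p : 𝒳 ⥤ 𝒮) [p.IsPreFibered] : ∃ K : FibCat.Cleavage p, K.IsNormalised := by
  refine ⟨normCleavage p, ?_⟩
  intro S a ha
  exact (exists_normal_lift p ha (𝟙 S)).choose_spec.choose_spec.2 rfl rfl

end Groth.Agent.S6019
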