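import Groth.Statements.S6020
import Mathlib
import Groth.Agent.Lib.Helper9.ShfSupp3
import Groth.Agent.Lib.Helper9.LocLES

set_option autoImplicit false
universe u
open CategoryTheory CategoryTheory.Limits TopologicalSpace
open LocCohZ

namespace Groth.Agent.S6020

/-- Consider a topological space X carrying a sheaf F of abelian groups, an open subset U whose
complement is the closed set Z, and a natural number N. The local cohomology sheaves ℋ^i_Z(F) are
zero for all i ≤ N exactly when, for each open V of X, restricting H^i(V, F) → H^i(V ∩ U, F) gives a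
bijection whenever i < N and an injection when i = N. -/
theorem result {X : TopCat.{u}} (F : CohTop.Ab X) (U : Opens X) (N : ℕ) :
    (∀ i : ℕ, i ≤ N → IsZero ((LocCohZ.HZsh U i).obj F)) ↔
      ∀ V : Opens X, (∀ i : ℕ, i < N → Function.Bijective (CohTop.res F i (inf_le_left : V ⊓ U ≤ V))) ∧
        Function.Injective (CohTop.res F N (inf_le_left : V ⊓ U ≤ V)) := by
  constructor
  · intro h V
    have h1 : ∀ i, i < N + 1 → Subsingleton (LocCohZ.HZ F i (inf_le_left : V ⊓ U ≤ V)) :=
      fun i hi => Groth.Agent.Helper9.ShfSupp.subsingleton_HZ_of_isZero_HZsh U F (N + 1)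
        (fun i hi => h i (by omega)) V i hi
    exact ⟨fun i hi =>
      ⟨Groth.Agent.Helper9.LocLES.res_injective_of_subsingleton F _ i (h1 i (by omega)),
        Groth.Agent.Helper9.LocLES.res_surjective_of_subsingleton F _ i (h1 (i + 1) (by omega))⟩,
      Groth.Agent.Helper9.LocLES.res_injective_of_subsingleton F _ N (h1 N (by omega))⟩
  · intro h i hi
    apply Groth.Agent.Helper9.ShfSupp.isZero_HZsh_of_subsingleton U F i
    intro V
    obtain ⟨hb, hinj⟩ := h V
    have hinj' : ∀ j, j ≤ N →
        Function.Injective (CohTop.res F j (inf_le_left : V ⊓ U ≤ V)) := by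
      intro j hj
      rcases Nat.lt_or_ge j N with hlt | hge
      · exact (hb j hlt).1
      · have hjN : j = N := le_antisymm hj hge
        subst hjN
        exact hinj
    cases i with
    | zero => exact Groth.Agent.Helper9.LocLES.subsingleton_zero F _ (hinj' 0 hi)
    | succ j =>
      exact Groth.Agent.Helper9.LocLES.subsingleton_succ F _ j (hb j (by omega)).2
        (hinj' (j + 1) hi)

end Groth.Agent.S6020
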