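import Groth.Statements.S6024
import Mathlib

set_option autoImplicit false
universe u
open CategoryTheory CategoryTheory.Limits TopologicalSpace
open LocCohZ

namespace Groth.Agent.S6024

/-- Consider a topological space X carrying a sheaf of abelian groups F, and assume that H^1_Z(X, F)
vanishes for each closed subset Z of X (writing Z = X − U with U open). Under this assumption, F is
flasque. -/
theorem result {X : TopCat.{u}} (F : CohTop.Ab X)
    (h : ∀ U : Opens X, Subsingleton (LocCohZ.HZc F 1 U)) : TopCat.Sheaf.IsFlasque F := by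
  have key : ∀ (W : Opens X) (s : F.obj.obj (Opposite.op W)),
      ∃ t : F.obj.obj (Opposite.op ⊤), F.obj.map (homOfLE (le_top : W ≤ ⊤)).op t = s := by
    intro W s
    have hS := LocCohZ.zqSeq_shortExact (le_top : W ≤ ⊤)
    let φ : (LocCohZ.zqSeq (le_top : W ≤ ⊤)).X₁ ⟶ F :=
      CohFree.ofSect (Opens.grothendieckTopology X) W F s
    have h0 : hS.extClass.comp (Abelian.Ext.mk₀ φ) (add_zero 1) = 0 :=
      Subsingleton.elim (α := LocCohZ.HZc F 1 W) _ _
    obtain ⟨x₂, hx₂⟩ := Abelian.Ext.contravariant_sequence_exact₁ hS F (Abelian.Ext.mk₀ φ)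
      (add_zero 1) h0
    rw [← Abelian.Ext.mk₀_addEquiv₀_apply x₂, Abelian.Ext.mk₀_comp_mk₀] at hx₂
    have hψ : (LocCohZ.zqSeq (le_top : W ≤ ⊤)).f ≫ Abelian.Ext.addEquiv₀ x₂ = φ :=
      (Abelian.Ext.mk₀_bijective _ _).1 hx₂
    refine ⟨CohFree.evalGen (Opens.grothendieckTopology X) ⊤ F (Abelian.Ext.addEquiv₀ x₂), ?_⟩
    have h1 := CohFree.evalGen_freeSheafMap_comp (Opens.grothendieckTopology X)
      (homOfLE (le_top : W ≤ ⊤)) F (Abelian.Ext.addEquiv₀ x₂)
    refine h1.symm.trans ?_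
    refine (congrArg (CohFree.evalGen (Opens.grothendieckTopology X) W F) hψ).trans ?_
    exact CohFree.evalGen_ofSect _ _ _ _
  constructor
  intro V' W' i
  rw [AddCommGrpCat.epi_iff_surjective]
  intro s
  obtain ⟨t, ht⟩ := key W'.unop s
  refine ⟨F.obj.map (homOfLE (le_top : V'.unop ≤ ⊤)).op t, ?_⟩
  rw [← ht, ← ConcreteCategory.comp_apply, ← F.obj.map_comp]
  rfl

end Groth.Agent.S6024
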