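import Groth.Statements.S6025
import Mathlib
import Groth.Agent.Lib.Helper9.OpenRes4

set_option autoImplicit false
universe u
open CategoryTheory CategoryTheory.Limits TopologicalSpace
open LocCohZ

namespace Groth.Agent.S6025

/-- Let X be a topological space, A a closed subset with open complement U and f : U → X the inclusion.
Then the functor ℋ^1_A is isomorphic to the cokernel of the unit F → f_* f⁻¹ F (so that 0 → ℋ^0_A(F)
→ F → f_*(F|_U) → ℋ^1_A(F) → 0 is exact), and for every i ≥ 1 the functor ℋ^{i+1}_A is isomorphic to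
F ↦ R^i f_*(F|_U). (Existence of isomorphisms of functors only; the maps of the four-term sequence
other than the kernel inclusion are not pinned.) -/
theorem result {X : TopCat.{u}} (U : Opens X) :
    Nonempty (LocCohZ.HZsh U 1 ≅
      cokernel (TopCat.Sheaf.pullbackPushforwardAdjunction AddCommGrpCat.{u} (CohCx.incl U)).unit) ∧
      ∀ i : ℕ, 1 ≤ i →
        Nonempty (LocCohZ.HZsh U (i + 1) ≅ CohTop.pull (CohCx.incl U) ⋙ CohTop.Rpush (CohCx.incl U) i) := by
  haveI hadd := Groth.Agent.Helper9.OpenRes.pullPush_additive (CohCx.incl U)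
  have hyp := Groth.Agent.Helper9.OpenRes.hyp U
  have hM : ∀ (n : ℕ) (F : CohTop.Ab X), IsZero (((𝟭 (CohTop.Ab X)).rightDerived (n + 1)).obj F) :=
    fun n F => Groth.Agent.Helper9.OpenRes.isZero_rightDerived_id n F
  have h1 := @Groth.Agent.Helper9.DerTriple.nonempty_iso_cokernel _ _ _ _ _ _ _ _ _ _ _ _ _ _ _
    inferInstance (Groth.Agent.Helper9.OpenRes.pullPush_pfl (CohCx.incl U)) hyp (hM 0)
  have h2 : ∀ i : ℕ, 1 ≤ i → Nonempty (LocCohZ.HZsh U (i + 1) ≅
      CohTop.pull (CohCx.incl U) ⋙ CohTop.Rpush (CohCx.incl U) i) := by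
    intro i hi
    obtain ⟨e1⟩ := @Groth.Agent.Helper9.DerTriple.nonempty_iso_succ _ _ _ _ _ _ _ _ _ _ _ _ _ _ _
      inferInstance (Groth.Agent.Helper9.OpenRes.pullPush_pfl (CohCx.incl U)) hyp hM i hi
    obtain ⟨e2⟩ := Groth.Agent.Helper9.OpenRes.rightDerived_pullPush (CohCx.incl U)
      (fun I hI => ⟨(CohTop.restrFunctor U).obj I,
        @Groth.Agent.Helper9.OpenRes.restr_isFlasque _ U I
          (Groth.Agent.Helper24.Flasque.isFlasque_of_injective I),
        ⟨((Groth.Agent.Helper9.OpenRes.restrIsoPull U).app I).symm⟩⟩) i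
    exact ⟨e1 ≪≫ e2⟩
  exact ⟨h1, h2⟩

end Groth.Agent.S6025
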