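import Groth.Statements.S6027
import Mathlib
import Groth.Agent.Lib.Helper9.OpenRes3

set_option autoImplicit false
universe u
open CategoryTheory CategoryTheory.Limits TopologicalSpace
open LocCohZ

namespace Groth.Agent.S6027

/-- The case of a closed subset. Let X be a topological space and Z a closed subset with open complement
U. For every q the q-th right derived functor of F ↦ Γ_Z(X, F) is isomorphic to the functor F ↦
Ext^q(ℤ_{Z,X}, F), where ℤ_{Z,X} = ℤ_X/ℤ_U. (Existence of an isomorphism of functors for each q;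
compatibility with connecting maps is not asserted.) -/
theorem result {X : TopCat.{u}} (U : Opens X) (q : ℕ) :
    Nonempty (LocCohZ.RHZ U q ≅ ToposFin.HZFunctor (LocCohZ.openSh U) q) := by
  have hT : ∀ (n : ℕ) (I : CohTop.Ab X), Injective I →
      IsZero (((Groth.Agent.Helper24.CechH.extDelta
        (LocCohZ.zq (le_top : U ≤ ⊤))).F (n + 1)).obj I) := by
    intro n I hI
    haveI : Subsingleton (Abelian.Ext.{u} (LocCohZ.zq (le_top : U ≤ ⊤)) I (n + 1)) :=
      subsingleton_of_forall_eq 0 fun x => Abelian.Ext.eq_zero_of_injective x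
    exact AddCommGrpCat.isZero_of_subsingleton
      (AddCommGrpCat.of (Abelian.Ext.{u} (LocCohZ.zq (le_top : U ≤ ⊤)) I (n + 1)))
  obtain ⟨e1⟩ := Groth.Agent.Helper9.DeltaIso.rightDerived_iso_of_effaceable (LocCohZ.gammaZF U)
    (Groth.Agent.Helper24.CechH.extDelta (LocCohZ.zq (le_top : U ≤ ⊤))) hT
    (Groth.Agent.Helper9.OpenRes.gammaZFIso U).symm q
  exact ⟨e1 ≪≫ (Abelian.extFunctor.{u} q).mapIso (LocCohZ.zqIsoQuotZ U).symm.op⟩

end Groth.Agent.S6027
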