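import Groth.Statements.S6162
import Mathlib
import Groth.Agent.Lib.Helper24.GSSSite2
import Groth.Agent.Lib.Helper24.ShGrpPull
import Groth.Agent.Lib.Helper24.LerayFree

set_option autoImplicit false
universe u
open CategoryTheory
open CohSite

namespace Groth.Agent.S6162


open CategoryTheory.Limits in
lemma rdDelta_effaceable {A B : Type*} [Category A] [Abelian A] [EnoughInjectives A]
    [Category B] [Abelian B] (F : A ⥤ B) [F.Additive] :
    (Groth.Agent.Helper24.GSS.rdDelta F).IsEffaceable := fun n X =>
  ⟨Injective.under X, Injective.ι X, inferInstance,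
    (Functor.isZero_rightDerived_obj_injective_succ F n _).eq_of_tgt _ _⟩

open CategoryTheory.Limits in

open CategoryTheory.Limits in
/-- Existence form of the Leray spectral sequence; abelian sheaves on small sites: let u : D -> C be a
continuous functor between small sites whose pullback on sheaves of sets is exact (a morphism of
topoi), u_* M = M o u the direct image and R^q u_* its right derived functors. For an abelian sheaf
M on C and an object V of D there is an E_2 spectral sequence of abelian groups, bounded, with
E_2^{p,q} isomorphic to H^p(V, R^q u_* M) for p, q >= 0 and zero otherwise, together with abutment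
data whose filtrations are finite on H^n(u(V), M) (n >= 0; zero for n < 0). The E_2 identifications
and the abutment isomorphisms are asserted to exist only; they are not pinned to the canonical maps
of the construction, so edge maps and low-degree exact sequences are not part of this statement. -/
theorem result {C D : Type u} [SmallCategory C] [SmallCategory D]
    (J : GrothendieckTopology C) (K : GrothendieckTopology D) (u : D ⥤ C) [u.IsContinuous K J]
    [PreservesFiniteLimits (u.sheafPullback (Type u) K J)] (M : Sheaf J AddCommGrpCat.{u}) (V : D) :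
    ∃ (E : E₂CohomologicalSpectralSequence AddCommGrpCat.{u})
      (a : SpSeq.Abutment E (fun n : ℤ =>
        if 0 ≤ n then AddCommGrpCat.of (CohSite.HU M n.toNat (u.obj V)) else AddCommGrpCat.of PUnit.{u + 1})),
      (∀ n, a.IsFinite n) ∧ SpSeq.IsBounded E ∧
      ∀ p q : ℤ, Nonempty ((E.page 2 le_rfl).X (p, q) ≅
        (if 0 ≤ p ∧ 0 ≤ q then AddCommGrpCat.of (CohSite.HU ((CohSite.Rpush J K u q.toNat).obj M) p.toNat V)
         else AddCommGrpCat.of PUnit.{u + 1})) := by
  open Groth.Agent.Helper24.GSS in
  have hz : Limits.IsZero (AddCommGrpCat.of PUnit.{u + 1}) :=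
    AddCommGrpCat.isZero_of_subsingleton _
  have : HasDerivedCategory.{u + 1} (Sheaf K AddCommGrpCat.{u}) := HasDerivedCategory.standard _
  have : PreservesFiniteLimits (u.sheafPullback AddCommGrpCat.{u} K J) :=
    Groth.Agent.Helper24.ShGrp.pullA_preservesFiniteLimits J K u
  have : (u.sheafPullback AddCommGrpCat.{u} K J).Additive :=
    (u.sheafAdjunctionContinuous AddCommGrpCat.{u} K J).left_adjoint_additive
  have hTlim : PreservesFiniteLimits (CohSite.push J K u) := by
    have : PreservesLimitsOfSize.{0, 0} (CohSite.push J K u) :=
      (u.sheafAdjunctionContinuous AddCommGrpCat.{u} K J).rightAdjoint_preservesLimits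
    exact PreservesLimitsOfSize.preservesFiniteLimits _
  refine exists_ext_spectralSequence (u.sheafAdjunctionContinuous AddCommGrpCat.{u} K J)
    (rdDelta (CohSite.push J K u)) (rdDelta_effaceable _)
    ((CohSite.push J K u).rightDerivedZeroIsoSelf) (CohCx.freeSheaf K V) M _ _ ?_ ?_ ?_ ?_
  · intro n
    have hn : (0 : ℤ) ≤ (n : ℤ) := by positivity
    simp only [if_pos hn, Int.toNat_natCast]
    exact nonempty_ext_iso_of_iso (Groth.Agent.Helper24.LerayFree.pullFreeIso J K u V) M n
  · intro n hn
    simp only [if_neg (not_le.2 hn)]
    exact hz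
  · intro p q
    have hpq : (0 : ℤ) ≤ (p : ℤ) ∧ (0 : ℤ) ≤ (q : ℤ) := ⟨by positivity, by positivity⟩
    simp only [if_pos hpq, Int.toNat_natCast]
    exact ⟨Iso.refl _⟩
  · intro p q hpq
    have : ¬ ((0 : ℤ) ≤ p ∧ (0 : ℤ) ≤ q) := fun h => by lia
    simp only [if_neg this]
    exact hz

end Groth.Agent.S6162
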