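import Groth.Statements.S6037
import Mathlib
import Groth.Agent.Lib.Helper24.GSSSite2
import Groth.Agent.Lib.Helper24.LerayFree2
import Groth.Agent.S6162
import Groth.Prelude.Def_CohPull

set_option autoImplicit false
universe u
open CategoryTheory CategoryTheory.Limits TopologicalSpace
open LocCohZ

namespace Groth.Agent.S6037

/-- Let f : X → Y be a continuous map of topological spaces, Y' a closed subset of Y with open
complement V, X' = f⁻¹(Y') and F an abelian sheaf on X. There is an E₂ spectral sequence of abelian
groups with E₂^{p,q} ≅ H^p_{Y'}(Y, R^q f_* F) for p, q ≥ 0 (0 otherwise), bounded, abutting with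
finite filtrations to H^n_{X'}(X, F). (The published statement is for a morphism of ringed spaces
and records module structures over the global sections of O_Y; here only abelian groups. Existence
only: the E₂ identifications and abutment isomorphisms are some isomorphisms, not the canonical
ones.) -/
theorem result {X Y : TopCat.{u}} (f : X ⟶ Y)
    (V : Opens Y) (F : CohTop.Ab X) :
    ∃ (E : E₂CohomologicalSpectralSequence AddCommGrpCat.{u})
      (a : SpSeq.Abutment E (fun n : ℤ =>
        if 0 ≤ n then AddCommGrpCat.of (LocCohZ.HZc F n.toNat ((Opens.map f).obj V))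
          else AddCommGrpCat.of PUnit.{u + 1})),
      (∀ n : ℤ, a.IsFinite n) ∧ SpSeq.IsBounded E ∧
      ∀ p q : ℤ, Nonempty ((E.page 2 le_rfl).X (p, q) ≅
        (if 0 ≤ p ∧ 0 ≤ q then AddCommGrpCat.of (LocCohZ.HZc ((CohTop.Rpush f q.toNat).obj F) p.toNat V)
          else AddCommGrpCat.of PUnit.{u + 1})) := by
  open Groth.Agent.Helper24.GSS in
  have hz : Limits.IsZero (AddCommGrpCat.of PUnit.{u + 1}) :=
    AddCommGrpCat.isZero_of_subsingleton _
  have : HasDerivedCategory.{u + 1} (CohTop.Ab Y) := HasDerivedCategory.standard _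
  have : PreservesFiniteLimits (CohTop.pull f) := CohPull.preservesFiniteLimits_pull f
  have : (CohTop.pull f).Additive := CohPull.additive_pull f
  have hTlim : PreservesFiniteLimits (CohTop.push f) := by
    have : PreservesLimitsOfSize.{0, 0} (CohTop.push f) :=
      (TopCat.Sheaf.pullbackPushforwardAdjunction AddCommGrpCat.{u} f).rightAdjoint_preservesLimits
    exact PreservesLimitsOfSize.preservesFiniteLimits _
  have adj : CohTop.pull f ⊣ CohTop.push f :=
    TopCat.Sheaf.pullbackPushforwardAdjunction AddCommGrpCat.{u} f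
  refine exists_ext_spectralSequence (A := CohTop.Ab X) (A' := CohTop.Ab Y) adj
    (rdDelta (CohTop.push f)) (Groth.Agent.S6162.rdDelta_effaceable _)
    ((CohTop.push f).rightDerivedZeroIsoSelf) (LocCohZ.zq (le_top : V ≤ ⊤)) F _ _ ?_ ?_ ?_ ?_
  · intro n
    have hn : (0 : ℤ) ≤ (n : ℤ) := by positivity
    simp only [if_pos hn, Int.toNat_natCast]
    exact nonempty_ext_iso_of_iso
      (Groth.Agent.Helper24.LerayFree.pullCokerIso (Opens.grothendieckTopology X)
        (Opens.grothendieckTopology Y) (Opens.map f) (homOfLE (le_top : V ≤ ⊤))) F n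
  · intro n hn
    simp only [if_neg (not_le.2 hn)]
    exact hz
  · intro p q
    have hpq : (0 : ℤ) ≤ (p : ℤ) ∧ (0 : ℤ) ≤ (q : ℤ) := ⟨by positivity, by positivity⟩
    simp only [if_pos hpq, Int.toNat_natCast]
    exact ⟨Iso.refl _⟩
  · intro p q hpq
    have : ¬ ((0 : ℤ) ≤ p ∧ (0 : ℤ) ≤ q) := fun h => by lia
    simp only [if_neg this]
    exact hz

end Groth.Agent.S6037
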