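import Groth.Statements.S6040
import Mathlib
import Groth.Agent.Lib.Helper9.OpenRes1
import Groth.Agent.Lib.Helper9.DeltaIso
import Groth.Agent.Lib.Helper24.Flasque

set_option autoImplicit false
universe u
open CategoryTheory CategoryTheory.Limits TopologicalSpace
open LocCohZ

namespace Groth.Agent.S6040

/-- Let X be a topological space, U an open subset and j : U → X the inclusion, so that the sheaf of
sections with supports in the open U is Γ_U(F) = j_*(F|_U). For every q the local cohomology sheaf
functor ℋ^q_U, i.e. the q-th right derived functor of F ↦ j_*(F|_U), is isomorphic to F ↦ R^q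
j_*(F|_U). (Existence of an isomorphism of functors for each q.) -/
theorem result {X : TopCat.{u}} (U : Opens X) (q : ℕ) :
    Nonempty (CohCx.RpushOn (𝟙 X) U q ≅ CohTop.restrFunctor U ⋙ CohTop.Rpush (CohCx.incl U) q) := by
  have key : ∀ (V : TopCat.{u}) (E : CohTop.Ab X ⥤ CohTop.Ab V) [E.Additive]
      [PreservesFiniteLimits E] [PreservesFiniteColimits E]
      (hE : ∀ I : CohTop.Ab X, Injective I → TopCat.Sheaf.IsFlasque (E.obj I))
      (g : V ⟶ X) [(E ⋙ CohTop.push g).Additive],
      Nonempty ((E ⋙ CohTop.push g).rightDerived q ≅ E ⋙ (CohTop.push g).rightDerived q) := by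
    intro V E _ _ _ hE g _
    refine Groth.Agent.Helper9.DeltaIso.rightDerived_comp_iso E
      (CohTop.push g) (fun n I hI => ?_) q
    exact Groth.Agent.Helper24.Flasque.Rpush_succ_isZero g n _ (hE I hI)
  refine key (TopCat.of U) (CohTop.restrFunctor U) (fun I hI => ?_) (CohCx.incl U ≫ 𝟙 X)
  haveI := Groth.Agent.Helper24.Flasque.isFlasque_of_injective I
  exact Groth.Agent.Helper9.OpenRes.restr_isFlasque U I

end Groth.Agent.S6040
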