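import Groth.Statements.S6041
import Groth.Agent.Lib.Helper18.QSh2

set_option autoImplicit false
open CategoryTheory CategoryTheory.Limits AlgebraicGeometry MonoidalCategory
universe u
open GrpQ

namespace Groth.Agent.S6041

open CartesianMonoidalCategory in
/-- For schemes and the fppf topology, easy direction: let `s, t : R ⇉ U` be a pair of morphisms of
schemes over `S` (in the source an equivalence relation), `T` a scheme over `S` and `i : Z ⟶ U ×_S
T` such that `Z ⟶ T` is flat, surjective and locally of finite presentation and any two points of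
`Z` over the same point of `T` have `R`-related images in `U`. Then the composite `h_Z ⟶ h_U ⟶ U/R`
descends to exactly one section of the fppf quotient sheaf `U/R` over `T`. -/
theorem result {S : Scheme.{u}} {R U : Over S} (s t : R ⟶ U)
    (T Z : Over S) (i : Z ⟶ U ⊗ T)
    [Flat (i ≫ snd U T).left] [Surjective (i ≫ snd U T).left] [LocallyOfFinitePresentation (i ≫ snd U T).left]
    (hZZ : ∀ (T' : Over S) (z₁ z₂ : T' ⟶ Z), z₁ ≫ i ≫ snd U T = z₂ ≫ i ≫ snd U T →
      ∃ r : T' ⟶ R, r ≫ s = z₁ ≫ i ≫ fst U T ∧ r ≫ t = z₂ ≫ i ≫ fst U T) :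
    ∃! σ : QuotSh.rep Scheme.fppfPrecoverage T ⟶ QuotSh.quot Scheme.fppfPrecoverage s t,
      QuotSh.repMap Scheme.fppfPrecoverage (i ≫ fst U T) ≫ QuotSh.quotπ Scheme.fppfPrecoverage s t =
        QuotSh.repMap Scheme.fppfPrecoverage (i ≫ snd U T) ≫ σ := by
  set p : Z ⟶ T := i ≫ snd U T with hp
  set c : Z ⟶ U := i ≫ fst U T with hc
  have hsnd : pullback.snd p.left p.left ≫ Z.hom = pullback.fst p.left p.left ≫ Z.hom := by
    rw [← Over.w p, ← Category.assoc, ← Category.assoc, pullback.condition]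
  have hP : IsPullback (Over.homMk (pullback.fst p.left p.left) rfl :
        (Over.mk (pullback.fst p.left p.left ≫ Z.hom) : Over S) ⟶ Z)
      (Over.homMk (pullback.snd p.left p.left) hsnd) p p :=
    IsPullback.of_map_of_faithful (Over.forget S) (IsPullback.of_hasPullback p.left p.left)
  have hPF := hP.map (Groth.Agent.Helper18.QSh.repF Scheme.fppfPrecoverage)
  have hsec := Groth.Agent.Helper18.QSh.secSieve_mem_of_singleton Scheme.fppfPrecoverage p
    p.left.singleton_mem_fppfPrecoverage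
  haveI hepi : Epi (QuotSh.repMap Scheme.fppfPrecoverage p) :=
    Groth.Agent.Helper18.QSh.epi_repMap_of_secSieve _ p hsec
  haveI : IsRegularEpi (QuotSh.repMap Scheme.fppfPrecoverage p) := IsRegularEpiCategory.regularEpiOfEpi _
  haveI : EffectiveEpi (QuotSh.repMap Scheme.fppfPrecoverage p) := (isRegularEpi_iff_effectiveEpi _).mp inferInstance
  obtain ⟨r, hr1, hr2⟩ := hZZ _ _ _ hP.w
  have hcoeq : QuotSh.repMap Scheme.fppfPrecoverage (Over.homMk (pullback.fst p.left p.left) rfl :
        (Over.mk (pullback.fst p.left p.left ≫ Z.hom) : Over S) ⟶ Z) ≫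
        QuotSh.repMap Scheme.fppfPrecoverage c ≫ QuotSh.quotπ Scheme.fppfPrecoverage s t =
      QuotSh.repMap Scheme.fppfPrecoverage (Over.homMk (pullback.snd p.left p.left) hsnd) ≫
        QuotSh.repMap Scheme.fppfPrecoverage c ≫ QuotSh.quotπ Scheme.fppfPrecoverage s t := by
    rw [← Category.assoc, ← Category.assoc, ← Groth.Agent.Helper18.QSh.repMap_comp,
      ← Groth.Agent.Helper18.QSh.repMap_comp, ← hr1, ← hr2, Groth.Agent.Helper18.QSh.repMap_comp,
      Groth.Agent.Helper18.QSh.repMap_comp, Category.assoc, Category.assoc, QuotSh.quot_condition]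
  have hdesc : ∀ {Z' : QuotSh.Sh Scheme.fppfPrecoverage S} (g₁ g₂ : Z' ⟶ QuotSh.rep Scheme.fppfPrecoverage Z),
      g₁ ≫ QuotSh.repMap Scheme.fppfPrecoverage p = g₂ ≫ QuotSh.repMap Scheme.fppfPrecoverage p →
      g₁ ≫ QuotSh.repMap Scheme.fppfPrecoverage c ≫ QuotSh.quotπ Scheme.fppfPrecoverage s t =
        g₂ ≫ QuotSh.repMap Scheme.fppfPrecoverage c ≫ QuotSh.quotπ Scheme.fppfPrecoverage s t := by
    intro Z' g₁ g₂ hg
    obtain ⟨l, h1, h2⟩ : ∃ l, l ≫ QuotSh.repMap Scheme.fppfPrecoverage (Over.homMk (pullback.fst p.left p.left) rfl :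
        (Over.mk (pullback.fst p.left p.left ≫ Z.hom) : Over S) ⟶ Z) = g₁ ∧
        l ≫ QuotSh.repMap Scheme.fppfPrecoverage (Over.homMk (pullback.snd p.left p.left) hsnd) = g₂ :=
      ⟨hPF.lift g₁ g₂ hg, hPF.lift_fst _ _ _, hPF.lift_snd _ _ _⟩
    rw [← h1, ← h2, Category.assoc, Category.assoc]
    exact congrArg (l ≫ ·) hcoeq
  refine ⟨EffectiveEpi.desc (QuotSh.repMap Scheme.fppfPrecoverage p)
    (QuotSh.repMap Scheme.fppfPrecoverage c ≫ QuotSh.quotπ Scheme.fppfPrecoverage s t)
    (fun g₁ g₂ hg => hdesc g₁ g₂ hg), ?_, ?_⟩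
  · exact (EffectiveEpi.fac _ _ _).symm
  · intro σ hσ
    rw [← cancel_epi (QuotSh.repMap Scheme.fppfPrecoverage p), EffectiveEpi.fac]
    exact hσ.symm

end Groth.Agent.S6041
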