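import Groth.Statements.S6063
import Groth.Agent.Lib.Helper21.Sep4

set_option autoImplicit false
universe u
open CategoryTheory AlgebraicGeometry
open TensorProduct
open SGA3x

namespace Groth.Agent.S6063

open CategoryTheory.Limits in
/-- Over an affine base with free successive quotients. Let A be a ring, J a nilpotent ideal of A such
that every quotient J^k/J^(k+1) is a free (A/J)-module, p : X ⟶ Spec A a flat morphism and (v_i :
Z_i ⟶ X) a family of subschemes of X (immersions) with every Z_i flat over Spec A. If the family of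
reductions Z_i ×_A (A/J) ⟶ X ×_A (A/J) is schematically dense, i.e. a section of the structure sheaf
of X ×_A (A/J) over an open subset whose pullback to every member vanishes is zero, then the family
(v_i) is schematically dense in X in the same sense. (The published statement has an arbitrary base
S and a nilpotent quasi-coherent ideal of the structure sheaf whose successive quotients are locally
free modulo the ideal; the assertion is local on S and on X, and this row is the case of an affine
base with free successive quotients.) -/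
theorem result {X : Scheme.{u}} (A : CommRingCat.{u}) (p : X ⟶ Spec A) [Flat p]
    (J : Ideal ↑A) (hJ : IsNilpotent J) (hfree : ∀ k : ℕ, Module.Free (↑A ⧸ J) ((↑A ⧸ J) ⊗[↑A] ↥(J ^ k)))
    {ι : Type u} (Z : ι → Scheme.{u}) (v : ∀ i, Z i ⟶ X) [∀ i, IsImmersion (v i)] [∀ i, Flat (v i ≫ p)]
    (h0 : ∀ (V : (pullback p (Spec.map (CommRingCat.ofHom (Ideal.Quotient.mk J)))).Opens) (t : Γ(pullback p (Spec.map (CommRingCat.ofHom (Ideal.Quotient.mk J))), V)),
      (∀ i, (pullback.map (v i ≫ p) (Spec.map (CommRingCat.ofHom (Ideal.Quotient.mk J))) p (Spec.map (CommRingCat.ofHom (Ideal.Quotient.mk J))) (v i) (𝟙 _) (𝟙 _)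
        (Category.comp_id _) ((Category.comp_id _).trans (Category.id_comp _).symm)).app V t = 0) → t = 0) :
    ∀ (V : X.Opens) (t : Γ(X, V)), (∀ i, (v i).app V t = 0) → t = 0 := by
  intro V t ht
  refine TopCat.Sheaf.eq_of_locally_eq' X.sheaf
    (fun W : {W : X.Opens // IsAffineOpen W ∧ W ≤ V} => W.1) V
    (fun W => homOfLE W.2.2) ?_ t 0 ?_
  · intro x hx
    obtain ⟨W, hWaff, hxW, hWV⟩ := (TopologicalSpace.Opens.isBasis_iff_nbhd.mp
      (X.isBasis_affineOpens)) hx
    exact TopologicalSpace.Opens.mem_iSup.mpr ⟨⟨W, hWaff, hWV⟩, hxW⟩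
  · rintro ⟨W, hW, hWV⟩
    refine Eq.trans ?_ (map_zero _).symm
    refine Groth.Agent.Helper21.Sep.dense_affine A p J hJ hfree Z v h0 hW _ ?_
    intro i
    have h1 := congrArg (fun ψ => ψ.hom t) ((v i).naturality (homOfLE hWV).op)
    have h2 : ((v i).app V).hom t = 0 := ht i
    simp only [CommRingCat.hom_comp, RingHom.comp_apply] at h1
    rw [h2, map_zero] at h1
    exact h1

end Groth.Agent.S6063
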