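import Groth.Statements.S6084
import Groth.Agent.Lib.Helper18.FTDescOrig

set_option autoImplicit false
universe u
open CategoryTheory CategoryTheory.Limits MonoidalCategory CartesianMonoidalCategory MonObj GrpObj AlgebraicGeometry
open SGA3

namespace Groth.Agent.S6084

/-- Let k be a perfect field, G a group scheme locally of finite type over k and u : F → G a
homomorphism of k-group schemes which is a closed immersion and surjective on underlying spaces,
with F reduced (so F is G_red with its group structure). Let p : G → X be a k-morphism which is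
flat, surjective and locally of finite presentation and makes the square formed by (f, g) ↦ u(f) ·
g, the second projection F ×_k G → G and p (twice) cartesian (X is the quotient of G by F acting by
left translations). Then X is the spectrum of a finite local k-algebra with residue field k: X is
affine, its underlying space is a single point at which the structure morphism induces an
isomorphism of residue fields, and the ring of global sections of X is finite over k. -/
theorem result (k : Type u) [Field k] [PerfectField k]
    (F G : Over (Spec (CommRingCat.of k))) [GrpObj F] [GrpObj G] [LocallyOfFiniteType G.hom] [IsReduced F.left]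
    (u : F ⟶ G) [IsMonHom u] [IsClosedImmersion u.left] [Surjective u.left]
    (X : Over (Spec (CommRingCat.of k))) (p : G ⟶ X) [Flat p.left] [Surjective p.left] [LocallyOfFinitePresentation p.left]
    (hp : IsPullback ((u ▷ G) ≫ μ[G]) (snd F G) p p) :
    IsAffine X.left ∧ (∃ x : X.left, (Set.univ : Set X.left) = {x} ∧ IsIso (X.hom.residueFieldMap x)) ∧
      ((Scheme.ΓSpecIso (CommRingCat.of k)).inv ≫ X.hom.appTop).hom.Finite := by
  classical
  -- the base and the unit section of `X`
  haveI hsub : Subsingleton (Spec (CommRingCat.of k)) := inferInstanceAs (Subsingleton (PrimeSpectrum k))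
  haveI hne : Nonempty (Spec (CommRingCat.of k)) := inferInstanceAs (Nonempty (PrimeSpectrum k))
  let σ : 𝟙_ (Over (Spec (CommRingCat.of k))) ⟶ X := η[G] ≫ p
  have hσ : σ.left ≫ X.hom = 𝟙 (Spec (CommRingCat.of k)) := CategoryTheory.Over.w σ
  let pt₀ : Spec (CommRingCat.of k) := Classical.arbitrary _
  let x₀ : X.left := σ.left.base pt₀
  -- (1) `X` has exactly one point
  have hone : ∀ x : X.left, x = x₀ := by
    intro x
    obtain ⟨g, rfl⟩ := p.left.surjective x
    let gT : Spec (G.left.residueField g) ⟶ G.left := G.left.fromSpecResidueField g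
    haveI : IsIso (pullback.snd u.left gT) := isIso_of_isClosedImmersion_of_surjective _
    let f : Spec (G.left.residueField g) ⟶ F.left := inv (pullback.snd u.left gT) ≫ pullback.fst u.left gT
    have hf : f ≫ u.left = gT := by
      simp only [f, Category.assoc, pullback.condition, IsIso.inv_hom_id_assoc]
    let TO : Over (Spec (CommRingCat.of k)) := Over.mk (gT ≫ G.hom)
    let gO : TO ⟶ G := Over.homMk gT rfl
    let fO : TO ⟶ F := Over.homMk f (by
      change f ≫ F.hom = gT ≫ G.hom
      rw [← CategoryTheory.Over.w u, ← Category.assoc, hf])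
    have hfu : fO ≫ u = gO := by
      apply Over.OverMorphism.ext
      exact hf
    have h1 : lift fO (toUnit TO ≫ η[G]) ≫ ((u ▷ G) ≫ μ[G]) ≫ p =
        lift fO (toUnit TO ≫ η[G]) ≫ snd F G ≫ p := by rw [hp.w]
    rw [← Category.assoc, ← Category.assoc, lift_whiskerRight, hfu, MonObj.lift_comp_one_right,
      ← Category.assoc, lift_snd, Category.assoc] at h1
    -- h1 : gO ≫ p = toUnit TO ≫ η[G] ≫ p
    have h2 := congrArg (fun m => m.left.base (IsLocalRing.closedPoint (G.left.residueField g))) h1
    have h2' : p.left.base (gO.left.base (IsLocalRing.closedPoint (G.left.residueField g))) =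
        σ.left.base ((toUnit TO).left.base (IsLocalRing.closedPoint (G.left.residueField g))) := h2
    have h3 : gO.left.base (IsLocalRing.closedPoint (G.left.residueField g)) = g :=
      Scheme.fromSpecResidueField_apply g _
    rw [h3] at h2'
    rw [h2']
    exact congrArg σ.left.base (hsub.elim _ _)
  -- (2) `X` is affine
  haveI haff : IsAffine X.left := by
    obtain ⟨U, hU, hx, -⟩ := exists_isAffineOpen_mem_and_subset (x := x₀) (U := (⊤ : X.left.Opens)) trivial
    have hUtop : U = ⊤ := by
      ext y
      simp only [TopologicalSpace.Opens.coe_top, Set.mem_univ, iff_true]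
      rw [hone y]
      exact hx
    subst hUtop
    haveI : IsAffine ((⊤ : X.left.Opens) : Scheme) := hU
    exact IsAffine.of_isIso (Scheme.topIso X.left).inv
  refine ⟨haff, ⟨x₀, ?_, ?_⟩, ?_⟩
  · ext y
    simp only [Set.mem_univ, Set.mem_singleton_iff, true_iff]
    exact hone y
  · -- (3) residue field
    have key : ∀ (e : Spec (CommRingCat.of k) ⟶ Spec (CommRingCat.of k)) (he : e = 𝟙 _)
        (z : Spec (CommRingCat.of k)), IsIso (e.residueFieldMap z) := by
      rintro e rfl z
      rw [Scheme.residueFieldMap_id]
      exact IsIso.id _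
    have h1 := key (σ.left ≫ X.hom) hσ pt₀
    rw [Scheme.residueFieldMap_comp] at h1
    -- `a ≫ b` iso with `b` a map of fields
    set a := X.hom.residueFieldMap (σ.left.base pt₀) with ha
    set b := σ.left.residueFieldMap pt₀ with hb
    have hbinj : Function.Injective b.hom := b.hom.injective
    have hbsurj : Function.Surjective b.hom := by
      intro y
      obtain ⟨w, hw⟩ := ((ConcreteCategory.isIso_iff_bijective (a ≫ b)).1 h1).2 y
      exact ⟨a.hom w, hw⟩
    haveI : IsIso b := (ConcreteCategory.isIso_iff_bijective b).2 ⟨hbinj, hbsurj⟩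
    haveI : IsIso (a ≫ b) := h1
    exact IsIso.of_isIso_comp_right a b
  · -- (4) finiteness
    haveI : LocallyOfFiniteType X.hom := by
      refine Groth.Agent.Helper18.FTDescOrig.locallyOfFiniteType_of_comp_fppf_surjective p.left X.hom ?_
      rw [CategoryTheory.Over.w p]
      infer_instance
    have hft : (X.hom.appTop).hom.FiniteType :=
      (HasRingHomProperty.iff_of_isAffine (P := @LocallyOfFiniteType)).1 inferInstance
    have hft' : ((Scheme.ΓSpecIso (CommRingCat.of k)).inv ≫ X.hom.appTop).hom.FiniteType :=
      (RingHom.finiteType_respectsIso.cancel_left_isIso _ _).2 hft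
    set φ := ((Scheme.ΓSpecIso (CommRingCat.of k)).inv ≫ X.hom.appTop).hom with hφ
    letI := φ.toAlgebra
    haveI : Algebra.FiniteType k Γ(X.left, ⊤) := hft'
    haveI : Subsingleton (PrimeSpectrum Γ(X.left, ⊤)) := by
      refine ⟨fun q q' => ?_⟩
      have e := X.left.isoSpec.inv.homeomorph
      apply e.injective
      rw [hone (e q), hone (e q')]
    haveI : Nontrivial Γ(X.left, ⊤) := by
      by_contra hnt
      rw [not_nontrivial_iff_subsingleton] at hnt
      haveI := hnt
      exact (inferInstance : IsEmpty (PrimeSpectrum Γ(X.left, ⊤))).false (X.left.isoSpec.hom.base x₀)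
    haveI : Ring.KrullDimLE 0 Γ(X.left, ⊤) := by
      rw [Ring.krullDimLE_zero_iff]
      intro I hI
      obtain ⟨m, hm⟩ := Ideal.exists_maximal Γ(X.left, ⊤)
      have : (⟨I, hI⟩ : PrimeSpectrum Γ(X.left, ⊤)) = ⟨m, hm.isPrime⟩ := Subsingleton.elim _ _
      have hIm : I = m := congrArg PrimeSpectrum.asIdeal this
      rw [hIm]; exact hm
    exact (Module.finite_iff_krullDimLE_zero k Γ(X.left, ⊤)).2 inferInstance

end Groth.Agent.S6084
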