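import Groth.Statements.S6119
import Groth.Agent.Lib.Helper7.PreimQuot

set_option autoImplicit false
open CategoryTheory MonoidalCategory CartesianMonoidalCategory MonObj GrpObj AlgebraicGeometry
universe u
open RedSub

namespace Groth.Agent.S6119

/-- The identification G/H ≅ corad(G)/corad(H): let G be a reductive S-group, d : D ⟶ G its derived
group and f₀ : G ⟶ C its coradical (C commutative, D = Ker f₀, f₀ the fppf quotient G/D, D killed by
every homomorphism to a commutative S-group scheme). Let t : T'' ⟶ C be a subtorus, H = G x_C T''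
its preimage under f₀ (with projections k : H ⟶ G and g : H ⟶ T''), and q : G ⟶ Q the fppf quotient
of G by H. Then q factors uniquely as f₀ followed by q' : C ⟶ Q, and q' exhibits Q as the fppf
quotient of C by T''. -/
theorem result {S : Scheme.{u}} {G D C T'' H Q : Over S} [GrpObj G] [GrpObj D]
    [GrpObj C] [GrpObj T''] [GrpObj H] (hG : Red.IsReductive G) (d : D ⟶ G) [IsMonHom d]
    (f₀ : G ⟶ C) [IsMonHom f₀] (hC : ∀ (X : Over S) (a b : X ⟶ C), a * b = b * a) (hker : AlgGrp.IsKernel d f₀)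
    (hquot : RedSub.IsQuotient d f₀) (hkill : RedSub.KilledByCommutative d)
    (t : T'' ⟶ C) [IsMonHom t] [Mono t] (hT'' : Red.IsTorus T'') (k : H ⟶ G) [IsMonHom k] (g : H ⟶ T'') [IsMonHom g]
    (hsq : IsPullback k g f₀ t) (q : G ⟶ Q) (hq : RedSub.IsQuotient k q) :
    ∃! q' : C ⟶ Q, f₀ ≫ q' = q ∧ RedSub.IsQuotient t q' := by
  obtain ⟨a1, a2, a3, a4⟩ := hquot
  obtain ⟨b1, b2, b3, b4⟩ := hq
  have hE := Groth.Agent.Helper7.ThirdIso.coverClass_fppfOver (S := S)
  obtain ⟨q', h1, ⟨c1, c2, c3⟩, h3⟩ := Groth.Agent.Helper7.ThirdIso.preimage_quotient hE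
    (fun {X Y Z} f φ hf h => Groth.Agent.Helper7.ThirdIso.desc_fppfOver f φ hf h)
    d f₀ ⟨a1, a2, a3⟩ a4 t k g hsq q ⟨b1, b2, b3⟩ b4
  refine ⟨q', ⟨h1, c1, c2, c3, h3⟩, ?_⟩
  rintro q'' ⟨h1', -⟩
  haveI : Epi f₀ := hE.epi f₀ ⟨a1, a2, a3⟩
  rw [← cancel_epi f₀, h1', h1]

end Groth.Agent.S6119
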