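import Groth.Statements.S6120
import Mathlib
-- import your own Groth.Agent.* helpers here

set_option autoImplicit false
open CategoryTheory CategoryTheory.Limits Opposite
universe w v₁ v₂ u₁ u₂
open SGA4

namespace Groth.Agent.S6120

section
open CategoryTheory CategoryTheory.Limits Opposite

variable {I : Type u₁} [Category.{v₁} I] {C : Type u₂} [Category.{v₂} C] {A : Type w} (i : A → I)
    [∀ α β, HasBinaryProduct (i α) (i β)]
    (hcov : ∀ j : I, ∃ α, Nonempty (j ⟶ i α))
    (F : Iᵒᵖ ⥤ C)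
    [HasProduct (fun α => F.obj (op (i α)))]
    [HasProduct (fun p : A × A => F.obj (op (i p.1 ⨯ i p.2)))]

/-- first map -/
noncomputable abbrev aMap : (∏ᶜ (fun α => F.obj (op (i α)))) ⟶
    ∏ᶜ (fun p : A × A => F.obj (op (i p.1 ⨯ i p.2))) :=
  Pi.lift (fun p : A × A =>
    Pi.π (fun α => F.obj (op (i α))) p.1 ≫ F.map (prod.fst : i p.1 ⨯ i p.2 ⟶ i p.1).op)

/-- second map -/
noncomputable abbrev bMap : (∏ᶜ (fun α => F.obj (op (i α)))) ⟶
    ∏ᶜ (fun p : A × A => F.obj (op (i p.1 ⨯ i p.2))) :=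
  Pi.lift (fun p : A × A =>
    Pi.π (fun α => F.obj (op (i α))) p.2 ≫ F.map (prod.snd : i p.1 ⨯ i p.2 ⟶ i p.2).op)

lemma indep {T : C} (t : T ⟶ ∏ᶜ (fun α => F.obj (op (i α)))) (ht : t ≫ aMap i F = t ≫ bMap i F)
    {x : I} {α β : A} (g : x ⟶ i α) (g' : x ⟶ i β) :
    t ≫ Pi.π (fun α => F.obj (op (i α))) α ≫ F.map g.op =
      t ≫ Pi.π (fun α => F.obj (op (i α))) β ≫ F.map g'.op := by
  have h1 : g = prod.lift g g' ≫ prod.fst := (prod.lift_fst g g').symm
  have h2 : g' = prod.lift g g' ≫ prod.snd := (prod.lift_snd g g').symm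
  have h3 := congrArg (fun m => m ≫ Pi.π (fun p : A × A => F.obj (op (i p.1 ⨯ i p.2))) (α, β) ≫
    F.map (prod.lift g g').op) ht
  simp only [Category.assoc] at h3
  rw [Pi.lift_π_assoc, Pi.lift_π_assoc] at h3
  simp only [Category.assoc, ← F.map_comp, ← op_comp] at h3
  rw [← h1, ← h2] at h3
  exact h3

/-- the cone attached to a map equalizing the two maps -/
@[reducible] noncomputable def coneOf {T : C} (t : T ⟶ ∏ᶜ (fun α => F.obj (op (i α))))
    (ht : t ≫ aMap i F = t ≫ bMap i F) : Cone F where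
  pt := T
  π :=
    { app := fun x => t ≫ Pi.π (fun α => F.obj (op (i α))) (hcov x.unop).choose ≫
        F.map (hcov x.unop).choose_spec.some.op
      naturality := by
        intro x y f
        simp only [Functor.const_obj_obj, Functor.const_obj_map, Category.id_comp, Category.assoc]
        have h1 : F.map (hcov x.unop).choose_spec.some.op ≫ F.map f =
            F.map (f.unop ≫ (hcov x.unop).choose_spec.some).op := by
          rw [← F.map_comp]
          rfl
        rw [h1]
        exact indep i F t ht _ _ }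

lemma coneOf_π {T : C} (t : T ⟶ ∏ᶜ (fun α => F.obj (op (i α))))
    (ht : t ≫ aMap i F = t ≫ bMap i F) {x : I} {α : A} (g : x ⟶ i α) :
    (coneOf i hcov F t ht).π.app (op x) = t ≫ Pi.π (fun α => F.obj (op (i α))) α ≫ F.map g.op :=
  indep i F t ht _ _

lemma coneOf_π_i {T : C} (t : T ⟶ ∏ᶜ (fun α => F.obj (op (i α))))
    (ht : t ≫ aMap i F = t ≫ bMap i F) (α : A) :
    (coneOf i hcov F t ht).π.app (op (i α)) = t ≫ Pi.π (fun α => F.obj (op (i α))) α := by
  rw [coneOf_π i hcov F t ht (𝟙 (i α))]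
  simp


lemma canon_eq [HasLimit F] :
    Pi.lift (fun α => limit.π F (op (i α))) ≫ aMap i F =
      Pi.lift (fun α => limit.π F (op (i α))) ≫ bMap i F := by
  apply Pi.hom_ext
  intro p
  simp only [Category.assoc, Pi.lift_π, Pi.lift_π_assoc]
  rw [limit.w, limit.w]

include i hcov in
theorem hasLimit [HasEqualizers C] : HasLimit F := by
  let E := equalizer (aMap i F) (bMap i F)
  let ι : E ⟶ _ := equalizer.ι (aMap i F) (bMap i F)
  have hι : ι ≫ aMap i F = ι ≫ bMap i F := equalizer.condition _ _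
  refine ⟨⟨⟨coneOf i hcov F ι hι, ?_⟩⟩⟩
  refine
    { lift := fun s => equalizer.lift (Pi.lift (fun α => s.π.app (op (i α)))) ?_
      fac := ?_
      uniq := ?_ }
  · apply Pi.hom_ext
    intro p
    simp only [Category.assoc, Pi.lift_π, Pi.lift_π_assoc]
    rw [s.w, s.w]
  · intro s x
    obtain ⟨α, ⟨g⟩⟩ := hcov x.unop
    have hx : x = op x.unop := rfl
    rw [hx, coneOf_π i hcov F ι hι g]
    simp only [ι]
    rw [equalizer.lift_ι_assoc, Pi.lift_π_assoc, s.w]
  · intro s m hm
    apply equalizer.hom_ext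
    rw [equalizer.lift_ι]
    apply Pi.hom_ext
    intro α
    rw [Pi.lift_π, ← hm (op (i α)), coneOf_π_i i hcov F ι hι α, Category.assoc]

theorem main
    {I : Type u₁} [Category.{v₁} I] {C : Type u₂} [Category.{v₂} C] {A : Type w} (i : A → I)
    [∀ α β, HasBinaryProduct (i α) (i β)]
    (hcov : ∀ j : I, ∃ α, Nonempty (j ⟶ i α))
    (F : Iᵒᵖ ⥤ C) [HasEqualizers C]
    [HasProduct (fun α => F.obj (op (i α)))]
    [HasProduct (fun p : A × A => F.obj (op (i p.1 ⨯ i p.2)))] :
    HasLimit F ∧ ∀ [HasLimit F],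
      Mono (Pi.lift (fun α => limit.π F (op (i α)))) ∧
      ∀ (T : C) (t : T ⟶ ∏ᶜ (fun α => F.obj (op (i α)))),
        (∃ s : T ⟶ limit F, s ≫ Pi.lift (fun α => limit.π F (op (i α))) = t) ↔
        t ≫ Pi.lift (fun p : A × A =>
            Pi.π (fun α => F.obj (op (i α))) p.1 ≫ F.map (prod.fst : i p.1 ⨯ i p.2 ⟶ i p.1).op) =
        t ≫ Pi.lift (fun p : A × A =>
            Pi.π (fun α => F.obj (op (i α))) p.2 ≫ F.map (prod.snd : i p.1 ⨯ i p.2 ⟶ i p.2).op) := by
  refine ⟨hasLimit i hcov F, ?_⟩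
  intro hF
  refine ⟨?_, ?_⟩
  · constructor
    intro T u v huv
    apply limit.hom_ext
    intro x
    obtain ⟨α, ⟨g⟩⟩ := hcov x.unop
    have h1 := congrArg (fun m => m ≫ Pi.π (fun α => F.obj (op (i α))) α) huv
    simp only [Category.assoc, Pi.lift_π] at h1
    have h2 : limit.π F x = limit.π F (op (i α)) ≫ F.map g.op := (limit.w F g.op).symm
    rw [h2, ← Category.assoc, h1, Category.assoc]
  · intro T t
    constructor
    · rintro ⟨s, rfl⟩
      rw [Category.assoc, Category.assoc]
      congr 1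
      exact canon_eq i F
    · intro ht
      refine ⟨limit.lift F (coneOf i hcov F t ht), ?_⟩
      apply Pi.hom_ext
      intro α
      rw [Category.assoc, Pi.lift_π, limit.lift_π, coneOf_π_i]

end

/-- Let `I` be a category with a family of objects `i α` (`α : A`) such that every binary product `i α ⨯
i β` exists in `I` and every object of `I` admits a morphism to some `i α`. Let `F : Iᵒᵖ ⥤ C` be a
functor, and assume that `C` has equalizers and that the products `∏ F (i α)` and `∏ F (i α ⨯ i β)`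
exist in `C`. Then the limit of `F` exists, the canonical map `lim F ⟶ ∏ F (i α)` is a monomorphism,
and a map `t : T ⟶ ∏ F (i α)` factors through `lim F` exactly when its composites with the two maps
`∏ F (i α) ⇉ ∏ F (i α ⨯ i β)` induced by the two projections agree: `lim F` is the equalizer of that
pair. (The published statement assumes that `C` has all limits of the size of `A`; only equalizers
and the two products named are assumed here, which is what the equalizer construction uses.) -/
theorem result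
    {I : Type u₁} [Category.{v₁} I] {C : Type u₂} [Category.{v₂} C] {A : Type w} (i : A → I)
    [∀ α β, HasBinaryProduct (i α) (i β)]
    (hcov : ∀ j : I, ∃ α, Nonempty (j ⟶ i α))
    (F : Iᵒᵖ ⥤ C) [HasEqualizers C]
    [HasProduct (fun α => F.obj (op (i α)))]
    [HasProduct (fun p : A × A => F.obj (op (i p.1 ⨯ i p.2)))] :
    HasLimit F ∧ ∀ [HasLimit F],
      Mono (Pi.lift (fun α => limit.π F (op (i α)))) ∧
      ∀ (T : C) (t : T ⟶ ∏ᶜ (fun α => F.obj (op (i α)))),
        (∃ s : T ⟶ limit F, s ≫ Pi.lift (fun α => limit.π F (op (i α))) = t) ↔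
        t ≫ Pi.lift (fun p : A × A =>
            Pi.π (fun α => F.obj (op (i α))) p.1 ≫ F.map (prod.fst : i p.1 ⨯ i p.2 ⟶ i p.1).op) =
        t ≫ Pi.lift (fun p : A × A =>
            Pi.π (fun α => F.obj (op (i α))) p.2 ≫ F.map (prod.snd : i p.1 ⨯ i p.2 ⟶ i p.2).op) := by
  exact Groth.Agent.S6120.main i hcov F

end Groth.Agent.S6120
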