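import Groth.Statements.S6122

set_option autoImplicit false
open CategoryTheory
universe v₁ v₂ u₁ u₂
open SGA4

namespace Groth.Agent.S6122

/-- For a fibered functor `p : E ⥤ B` (every morphism of `B` has a cartesian lift with prescribed
codomain, and cartesian morphisms compose), `p` is faithful if and only if every fibre category of
`p` (objects over `b`, morphisms lying over the identity of `b`) has at most one morphism between
any two objects. -/
theorem result
    {B : Type u₁} [Category.{v₁} B] {E : Type u₂} [Category.{v₂} E] (p : E ⥤ B) [p.IsFibered] :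
    p.Faithful ↔ ∀ (b : B) (x y : p.Fiber b), Subsingleton (x ⟶ y) := by
  constructor
  · intro hp b x y
    refine ⟨fun φ ψ => ?_⟩
    apply Functor.Fiber.hom_ext
    apply p.map_injective
    have h1 := IsHomLift.fac' p (𝟙 b) (Functor.Fiber.fiberInclusion.map φ)
    have h2 := IsHomLift.fac' p (𝟙 b) (Functor.Fiber.fiberInclusion.map ψ)
    rw [h1, h2]
  · intro h
    constructor
    intro a c f g hfg
    obtain ⟨d, χ, hχ⟩ := IsPreFibered.exists_isCartesian p (a := c) rfl (p.map f)
    have hg : p.IsHomLift (p.map f) g := by rw [hfg]; infer_instance
    have hf1 := Functor.IsCartesian.fac p (p.map f) χ f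
    have hg1 := Functor.IsCartesian.fac p (p.map f) χ g
    have hfg' : Functor.Fiber.homMk p (p.obj a) (Functor.IsCartesian.map p (p.map f) χ f) =
        Functor.Fiber.homMk p (p.obj a) (Functor.IsCartesian.map p (p.map f) χ g) :=
      (h _ _ _).elim _ _
    have := congrArg (fun t => Functor.Fiber.fiberInclusion.map t) hfg'
    simp only [Functor.Fiber.fiberInclusion_homMk] at this
    rw [← hf1, ← hg1, this]

end Groth.Agent.S6122
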