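import Groth.Statements.S6123
import Mathlib.CategoryTheory.Limits.EpiMono
import Mathlib.CategoryTheory.Limits.Shapes.Diagonal

set_option autoImplicit false
open CategoryTheory CategoryTheory.Limits Opposite
universe w v₁ v₂ u₁ u₂
open SGA4

namespace Groth.Agent.S6123

/-- For a single functor. Let `E` have pullbacks and let `φ : E ⥤ F` preserve them. If every
monomorphism `u` of `E` with `φ u` invertible is invertible, then `φ` reflects all isomorphisms. -/
theorem result
    {E : Type u₁} [Category.{v₁} E] {F : Type u₂} [Category.{v₂} F] (φ : E ⥤ F)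
    [HasPullbacks E] [PreservesLimitsOfShape WalkingCospan φ]
    (h : ∀ ⦃X Y : E⦄ (u : X ⟶ Y), Mono u → IsIso (φ.map u) → IsIso u) :
    φ.ReflectsIsomorphisms := by
  constructor
  intro X Y f hf
  have hmono : Mono f := by
    have hc := pullbackIsPullback f f
    rw [mono_iff_isIso_fst hc]
    have hfst : IsIso (φ.map (pullback.fst f f)) :=
      (mono_iff_isIso_fst ((isLimitMapConePullbackConeEquiv φ pullback.condition).1
        (isLimitOfPreserves φ hc))).1 inferInstance
    have h1 : Mono (pullback.diagonal f) := inferInstance
    have heq : φ.map (pullback.diagonal f) ≫ φ.map (pullback.fst f f) = 𝟙 _ := by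
      rw [← φ.map_comp]; simp
    have h2 : IsIso (φ.map (pullback.diagonal f)) := by
      have : IsIso (φ.map (pullback.diagonal f) ≫ φ.map (pullback.fst f f)) := by
        rw [heq]; infer_instance
      exact IsIso.of_isIso_comp_right _ (φ.map (pullback.fst f f))
    have h3 : IsIso (pullback.diagonal f) := h _ h1 h2
    have h4 : IsIso (pullback.diagonal f ≫ pullback.fst f f) := by
      have : pullback.diagonal f ≫ pullback.fst f f = 𝟙 _ := by simp
      rw [this]; infer_instance
    exact IsIso.of_isIso_comp_left (pullback.diagonal f) (pullback.fst f f)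
  exact h f hmono hf

end Groth.Agent.S6123
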