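import Groth.Statements.S6124
import Mathlib.CategoryTheory.Limits.EpiMono
import Mathlib.CategoryTheory.Limits.Shapes.Diagonal
import Mathlib.CategoryTheory.Subobject.Lattice

set_option autoImplicit false
open CategoryTheory CategoryTheory.Limits Opposite
universe w v₁ v₂ u₁ u₂
open SGA4

namespace Groth.Agent.S6124

/-- Let `E` have pullbacks, let `P` be a detecting family of objects of `E` (a morphism `f` is
invertible as soon as every map out of an object of `P` factors uniquely through `f`), and let `φ i
: E ⥤ E' i` be functors preserving pullbacks. Then the `φ i` jointly reflect isomorphisms if and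
only if, for every `X` with `P X` and every subobject `X'` of `X` other than `⊤`, some `φ i` takes
the inclusion `X' ⟶ X` to a morphism that is not invertible. -/
theorem result
    {E : Type u₁} [Category.{v₁} E] [HasPullbacks E] (P : ObjectProperty E) (hP : P.IsDetecting)
    {κ : Type w} {E' : κ → Type u₂} [∀ k, Category.{v₂} (E' k)] (φ : ∀ k, E ⥤ E' k)
    [∀ k, PreservesLimitsOfShape WalkingCospan (φ k)] :
    (∀ ⦃X Y : E⦄ (f : X ⟶ Y), (∀ k, IsIso ((φ k).map f)) → IsIso f) ↔
      ∀ (X : E), P X → ∀ (X' : Subobject X), X' ≠ ⊤ → ∃ k, ¬ IsIso ((φ k).map X'.arrow) := by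
  constructor
  · intro h X _ X' hX'
    by_contra hcon
    push Not at hcon
    have := h X'.arrow hcon
    exact hX' (Subobject.eq_top_of_isIso_arrow X')
  · intro h
    -- Lemma A: monos
    have lemA : ∀ ⦃A B : E⦄ (m : A ⟶ B), Mono m → (∀ k, IsIso ((φ k).map m)) → IsIso m := by
      intro A B m hm hk
      apply hP
      intro G hG g
      have hpb := IsPullback.of_hasPullback g m
      have hmono : Mono (pullback.fst g m) := inferInstance
      have hk' : ∀ k, IsIso ((φ k).map (pullback.fst g m)) := by
        intro k
        have hpbk := hpb.map (φ k)
        have := hk k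
        exact hpbk.isIso_fst_of_isIso
      have htop : Subobject.mk (pullback.fst g m) = ⊤ := by
        by_contra hne
        obtain ⟨k, hk2⟩ := h G hG _ hne
        apply hk2
        have := hk' k
        rw [← Subobject.underlyingIso_hom_comp_eq_mk, Functor.map_comp]
        infer_instance
      have hiso : IsIso (pullback.fst g m) := (Subobject.isIso_iff_mk_eq_top _).2 htop
      refine ⟨inv (pullback.fst g m) ≫ pullback.snd g m, ?_, ?_⟩
      · simp [← pullback.condition]
      · intro y hy
        rw [← cancel_mono m, hy]
        simp [← pullback.condition]
    intro X Y f hf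
    have hmono : Mono f := by
      have hc := pullbackIsPullback f f
      rw [mono_iff_isIso_fst hc]
      have hfst : ∀ k, IsIso ((φ k).map (pullback.fst f f)) := fun k =>
        have := hf k
        (mono_iff_isIso_fst ((isLimitMapConePullbackConeEquiv (φ k) pullback.condition).1
          (isLimitOfPreserves (φ k) hc))).1 inferInstance
      have h1 : Mono (pullback.diagonal f) := inferInstance
      have h2 : ∀ k, IsIso ((φ k).map (pullback.diagonal f)) := by
        intro k
        have := hfst k
        have heq : (φ k).map (pullback.diagonal f) ≫ (φ k).map (pullback.fst f f) = 𝟙 _ := by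
          rw [← (φ k).map_comp]; simp
        have : IsIso ((φ k).map (pullback.diagonal f) ≫ (φ k).map (pullback.fst f f)) := by
          rw [heq]; infer_instance
        exact IsIso.of_isIso_comp_right _ ((φ k).map (pullback.fst f f))
      have h3 : IsIso (pullback.diagonal f) := lemA _ h1 h2
      have h4 : IsIso (pullback.diagonal f ≫ pullback.fst f f) := by
        have : pullback.diagonal f ≫ pullback.fst f f = 𝟙 _ := by simp
        rw [this]; infer_instance
      exact IsIso.of_isIso_comp_left (pullback.diagonal f) (pullback.fst f f)
    exact lemA f hmono hf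

end Groth.Agent.S6124
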