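import Groth.Statements.S6127
import Mathlib

set_option autoImplicit false
open CategoryTheory CategoryTheory.Limits Opposite
universe u
open SGA4

namespace Groth.Agent.S6127

set_option linter.unusedSectionVars false

section helpers

variable {C : Type u} [SmallCategory C] (P : ObjectProperty (Cᵒᵖ ⥤ Type u))
  [P.IsClosedUnderIsomorphisms] [Reflective P.ι] [PreservesFiniteLimits (reflector P.ι)]

/-- Step A: objects of `P` are local with respect to the morphisms inverted by the reflector. -/
lemma bijective_comp_of_isIso {A B : Cᵒᵖ ⥤ Type u} (g : A ⟶ B)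
    (hg : IsIso ((reflector P.ι).map g)) (F : Cᵒᵖ ⥤ Type u) (hF : P F) :
    Function.Bijective (fun φ : B ⟶ F => g ≫ φ) := by
  let adj := reflectorAdjunction P.ι
  let F' : P.FullSubcategory := ⟨F, hF⟩
  have hbij : Function.Bijective (fun ψ : (reflector P.ι).obj B ⟶ F' =>
      (reflector P.ι).map g ≫ ψ) := by
    constructor
    · intro ψ₁ ψ₂ h
      exact (cancel_epi ((reflector P.ι).map g)).1 h
    · intro ψ
      exact ⟨inv ((reflector P.ι).map g) ≫ ψ, by simp⟩
  have key : ∀ φ : B ⟶ F, g ≫ φ =
      adj.homEquiv A F' ((reflector P.ι).map g ≫ (adj.homEquiv B F').symm φ) := by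
    intro φ
    have := adj.homEquiv_naturality_left_symm g (show B ⟶ P.ι.obj F' from φ)
    rw [← this, Equiv.apply_symm_apply]
  constructor
  · intro φ₁ φ₂ h
    have h' : g ≫ φ₁ = g ≫ φ₂ := h
    rw [key, key] at h'
    exact (adj.homEquiv B F').symm.injective (hbij.1 ((adj.homEquiv A F').injective h'))
  · intro χ
    obtain ⟨ψ, hψ⟩ := hbij.2 ((adj.homEquiv A F').symm χ)
    refine ⟨adj.homEquiv B F' ψ, ?_⟩
    change g ≫ _ = χ
    rw [key, Equiv.symm_apply_apply]
    have hψ' : (reflector P.ι).map g ≫ ψ = (adj.homEquiv A F').symm χ := hψ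
    rw [hψ', Equiv.apply_symm_apply]

/-- Step B: a morphism with respect to which all objects of `P` are local is inverted by the
reflector. -/
lemma isIso_of_bijective_comp {A B : Cᵒᵖ ⥤ Type u} (g : A ⟶ B)
    (h : ∀ F : Cᵒᵖ ⥤ Type u, P F → Function.Bijective (fun φ : B ⟶ F => g ≫ φ)) :
    IsIso ((reflector P.ι).map g) := by
  let adj := reflectorAdjunction P.ι
  apply isIso_of_coyoneda_map_bijective
  intro F'
  have hb := h F'.obj F'.property
  have key : ∀ ψ : (reflector P.ι).obj B ⟶ F', (reflector P.ι).map g ≫ ψ =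
      (adj.homEquiv A F').symm (g ≫ adj.homEquiv B F' ψ) := by
    intro ψ
    rw [adj.homEquiv_naturality_left_symm, Equiv.symm_apply_apply]
  constructor
  · intro ψ₁ ψ₂ h'
    have h'' : (reflector P.ι).map g ≫ ψ₁ = (reflector P.ι).map g ≫ ψ₂ := h'
    rw [key, key] at h''
    exact (adj.homEquiv B F').injective (hb.1 ((adj.homEquiv A F').symm.injective h''))
  · intro χ
    obtain ⟨φ, hφ⟩ := hb.2 (adj.homEquiv A F' χ)
    refine ⟨(adj.homEquiv B F').symm φ, ?_⟩
    change (reflector P.ι).map g ≫ _ = χ
    rw [key, Equiv.apply_symm_apply]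
    have hφ' : g ≫ φ = adj.homEquiv A F' χ := hφ
    rw [hφ', Equiv.symm_apply_apply]

/-- The map `(S.pullback f).functor ⟶ S.functor`. -/
def pbMap {X Y : C} (S : Sieve X) (f : Y ⟶ X) : (S.pullback f).functor ⟶ S.functor where
  app Z := TypeCat.ofHom (fun g => ⟨g.1 ≫ f, g.2⟩)
  naturality Z Z' k := by
    ext g
    apply Subtype.ext
    exact Category.assoc _ _ _

lemma isPullback_sieve {X Y : C} (S : Sieve X) (f : Y ⟶ X) :
    IsPullback (pbMap S f) (S.pullback f).functorInclusion S.functorInclusion (yoneda.map f) := by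
  apply IsPullback.of_forall_isPullback_app
  intro Z
  rw [Limits.Types.isPullback_iff]
  refine ⟨?_, ?_, ?_⟩
  · ext g
    rfl
  · rintro ⟨g₁, h₁⟩ ⟨g₂, h₂⟩ ⟨-, h⟩
    exact Subtype.ext h
  · rintro ⟨g, hg⟩ k h
    have h' : g = k ≫ f := h
    subst h'
    exact ⟨⟨k, hg⟩, rfl, rfl⟩

/-- If the reflector inverts the inclusion of a sieve, it inverts the inclusions of its
pullbacks. -/
lemma isIso_pullback {X Y : C} (S : Sieve X) (f : Y ⟶ X)
    (hS : IsIso ((reflector P.ι).map S.functorInclusion)) :
    IsIso ((reflector P.ι).map (S.pullback f).functorInclusion) :=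
  ((isPullback_sieve S f).map (reflector P.ι)).isIso_snd_of_isIso

/-- The topology: the finest one for which the objects of `P` are sheaves. -/
def topo : GrothendieckTopology C := Sheaf.finestTopology {F | P F}

lemma mem_topo_iff {X : C} (S : Sieve X) :
    S ∈ topo P X ↔ IsIso ((reflector P.ι).map S.functorInclusion) := by
  constructor
  · intro hS
    apply isIso_of_bijective_comp P
    intro F hF
    have hsh : Presieve.IsSheafFor F S.arrows :=
      Sheaf.sheaf_for_finestTopology {F | P F} hF _ hS
    rw [Presieve.isSheafFor_iff_yonedaSheafCondition] at hsh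
    constructor
    · intro φ₁ φ₂ h
      exact (hsh (S.functorInclusion ≫ φ₁)).unique rfl h.symm
    · intro χ
      obtain ⟨g, hg, -⟩ := hsh χ
      exact ⟨g, hg⟩
  · intro hS
    apply Sheaf.mem_finestTopology_of_forall_isSheafFor
    intro F hF Y f
    rw [Presieve.isSheafFor_iff_yonedaSheafCondition]
    have hb := bijective_comp_of_isIso P _ (isIso_pullback P S f hS) F hF
    intro χ
    obtain ⟨g, hg⟩ := hb.2 χ
    exact ⟨g, hg, fun g' hg' => hb.1 (hg'.trans hg.symm)⟩

/-- The image sieve of a morphism to a representable presheaf which is inverted by the reflector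
is covering. -/
lemma sieveOfSubfunctor_mem {X : C} {R : Cᵒᵖ ⥤ Type u} (f : R ⟶ yoneda.obj X)
    (hf : IsIso ((reflector P.ι).map f)) : Sieve.sieveOfSubfunctor f ∈ topo P X := by
  rw [mem_topo_iff]
  let q : R ⟶ (Sieve.sieveOfSubfunctor f).functor :=
    { app := fun Z => TypeCat.ofHom (fun t => ⟨f.app Z t, ⟨t, rfl⟩⟩)
      naturality := by
        intro Z Z' k
        ext t
        apply Subtype.ext
        exact ConcreteCategory.congr_hom (f.naturality k) t }
  have hq : q ≫ (Sieve.sieveOfSubfunctor f).functorInclusion = f := by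
    ext Z t
    rfl
  have hL : (reflector P.ι).map q ≫
      (reflector P.ι).map (Sieve.sieveOfSubfunctor f).functorInclusion =
      (reflector P.ι).map f := by
    rw [← Functor.map_comp, hq]
  have : Mono ((reflector P.ι).map (Sieve.sieveOfSubfunctor f).functorInclusion) :=
    inferInstance
  have : IsSplitEpi ((reflector P.ι).map (Sieve.sieveOfSubfunctor f).functorInclusion) :=
    ⟨⟨⟨inv ((reflector P.ι).map f) ≫ (reflector P.ι).map q, by
      rw [Category.assoc, hL, IsIso.inv_hom_id]⟩⟩⟩
  exact isIso_of_mono_of_isSplitEpi _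

/-- The morphisms inverted by the reflector are bicovering for the topology. -/
lemma W_of_isIso {A B : Cᵒᵖ ⥤ Type u} (g : A ⟶ B) (hg : IsIso ((reflector P.ι).map g)) :
    (topo P).W g := by
  rw [GrothendieckTopology.W_iff_isLocallyBijective]
  constructor
  · refine ⟨fun {X} a a' h => ?_⟩
    let ya : yoneda.obj X.unop ⟶ A := yonedaEquiv.symm a
    let ya' : yoneda.obj X.unop ⟶ A := yonedaEquiv.symm a'
    have hcomp : ya ≫ g = ya' ≫ g := by
      apply yonedaEquiv.injective
      rw [yonedaEquiv_comp, yonedaEquiv_comp]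
      simpa [ya, ya'] using h
    have hLeq : (reflector P.ι).map ya = (reflector P.ι).map ya' := by
      rw [← cancel_mono ((reflector P.ι).map g), ← Functor.map_comp, ← Functor.map_comp, hcomp]
    have hι : IsIso ((reflector P.ι).map (equalizer.ι ya ya')) := by
      have hlim := isLimitForkMapOfIsLimit (reflector P.ι) (equalizer.condition ya ya')
        (equalizerIsEqualizer ya ya')
      exact isIso_limit_cone_parallelPair_of_eq hLeq hlim
    refine (topo P).superset_covering ?_ (sieveOfSubfunctor_mem P _ hι)
    rintro Z k ⟨t, rfl⟩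
    have h1 := ConcreteCategory.congr_hom
      (congr_app (equalizer.condition ya ya') (Opposite.op Z)) t
    exact h1
  · refine ⟨fun {X} b => ?_⟩
    let yb : yoneda.obj X ⟶ B := yonedaEquiv.symm b
    have hsnd : IsIso ((reflector P.ι).map (pullback.snd g yb)) :=
      ((IsPullback.of_hasPullback g yb).map (reflector P.ι)).isIso_snd_of_isIso
    refine (topo P).superset_covering ?_ (sieveOfSubfunctor_mem P _ hsnd)
    rintro Z k ⟨t, rfl⟩
    refine ⟨(pullback.fst g yb).app (Opposite.op Z) t, ?_⟩
    have h1 := ConcreteCategory.congr_hom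
      (congr_app (pullback.condition (f := g) (g := yb)) (Opposite.op Z)) t
    exact h1

/-- Sheaves for the topology belong to `P`. -/
lemma prop_of_isSheaf (F : Cᵒᵖ ⥤ Type u) (hF : Presieve.IsSheaf (topo P) F) : P F := by
  let adj := reflectorAdjunction P.ι
  let η : F ⟶ P.ι.obj ((reflector P.ι).obj F) := adj.unit.app F
  have hLη : IsIso ((reflector P.ι).map η) := by
    have h := adj.left_triangle_components F
    have h1 : IsIso (adj.counit.app ((reflector P.ι).obj F)) := inferInstance
    have h2 : IsIso ((reflector P.ι).map η ≫ adj.counit.app ((reflector P.ι).obj F)) := by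
      rw [h]
      infer_instance
    exact IsIso.of_isIso_comp_right ((reflector P.ι).map η)
      (adj.counit.app ((reflector P.ι).obj F))
  have hW := W_of_isIso P η hLη
  have hsh1 : Presheaf.IsSheaf (topo P) F := (isSheaf_iff_isSheaf_of_type _ _).2 hF
  have hsh2 : Presheaf.IsSheaf (topo P) (P.ι.obj ((reflector P.ι).obj F)) :=
    (isSheaf_iff_isSheaf_of_type _ _).2
      (Sheaf.sheaf_for_finestTopology {F | P F} ((reflector P.ι).obj F).property)
  obtain ⟨r, hr⟩ := (hW F hsh1).2 (𝟙 F)
  have hr0 : η ≫ r = 𝟙 F := hr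
  have hr' : r ≫ η = 𝟙 _ := by
    apply (hW _ hsh2).1
    change η ≫ r ≫ η = η ≫ 𝟙 _
    rw [← Category.assoc, hr0, Category.id_comp, Category.comp_id]
  have : IsIso η := ⟨r, hr0, hr'⟩
  exact P.prop_of_iso (asIso η).symm ((reflector P.ι).obj F).property

end helpers

/-- Let `C` be a small category and `P` a strictly full subcategory of the category of presheaves of
sets on `C` whose inclusion admits a left adjoint (a reflector) preserving finite limits. Call a
sieve `S` on `X` covering when the reflector inverts the inclusion of `S`, viewed as a subpresheaf,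
into the presheaf represented by `X`. Then these covering sieves form a Grothendieck topology `J` on
`C`, and a presheaf lies in `P` if and only if it is a sheaf for `J`. (This is the half of the
correspondence between topologies on `C` and such reflective subcategories that produces the
topology; the topology is pinned down by its covering sieves.) -/
theorem result
    {C : Type u} [SmallCategory C] (P : ObjectProperty (Cᵒᵖ ⥤ Type u))
    [P.IsClosedUnderIsomorphisms] [Reflective P.ι] [PreservesFiniteLimits (reflector P.ι)] :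
    ∃ J : GrothendieckTopology C,
      (∀ (X : C) (S : Sieve X), S ∈ J X ↔ IsIso ((reflector P.ι).map S.functorInclusion)) ∧
      ∀ F : Cᵒᵖ ⥤ Type u, P F ↔ Presieve.IsSheaf J F := by
  refine ⟨topo P, fun X S => mem_topo_iff P S, fun F => ⟨fun hF => ?_, prop_of_isSheaf P F⟩⟩
  exact Sheaf.sheaf_for_finestTopology {F | P F} hF

end Groth.Agent.S6127
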