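import Groth.Statements.S6128
import Mathlib.CategoryTheory.Sites.LocallyBijective
import Mathlib.CategoryTheory.Functor.KanExtension.Adjunction

set_option autoImplicit false
open CategoryTheory
universe u
open SGA4

namespace Groth.Agent.S6128

/-- Let `u : C ⥤ C'` be a functor between small sites. If the right Kan extension along `u` of the
underlying presheaf of every sheaf of sets on `C` is a sheaf on `C'`, then `u` is cocontinuous: for
every object `Y` of `C` and every covering sieve `R` of `u Y`, the sieve of morphisms `g : Z ⟶ Y`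
with `u g ∈ R` covers `Y`. -/
theorem result
    {C : Type u} [SmallCategory C] {C' : Type u} [SmallCategory C']
    (J : GrothendieckTopology C) (J' : GrothendieckTopology C') (u : C ⥤ C')
    (h : ∀ G : Sheaf J (Type u), Presheaf.IsSheaf J' ((u.op.ran).obj G.obj)) :
    u.IsCocontinuous J J' := by
  constructor
  intro Y R hR
  let L := (Functor.whiskeringLeft Cᵒᵖ C'ᵒᵖ (Type u)).obj u.op
  let adj := u.op.ranAdjunction (Type u)
  have hW : J.W (L.map R.functorInclusion) := by
    intro G hG
    have hsh : Presieve.IsSheafFor ((u.op.ran).obj G) (R : Presieve (u.obj Y)) :=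
      ((isSheaf_iff_isSheaf_of_type _ _).1 (h ⟨G, hG⟩)) _ hR
    rw [Presieve.isSheafFor_iff_yonedaSheafCondition] at hsh
    constructor
    · intro a b hab
      have hab' : L.map R.functorInclusion ≫ a = L.map R.functorInclusion ≫ b := hab
      have h1 := congrArg (adj.homEquiv _ _) hab'
      rw [adj.homEquiv_naturality_left, adj.homEquiv_naturality_left] at h1
      obtain ⟨t, _, ht⟩ := hsh (R.functorInclusion ≫ adj.homEquiv _ _ a)
      have h2 : adj.homEquiv _ _ a = adj.homEquiv _ _ b := by
        rw [ht _ rfl, ht _ h1.symm]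
      exact (adj.homEquiv _ _).injective h2
    · intro f
      obtain ⟨t, ht, _⟩ := hsh (adj.homEquiv _ _ f)
      refine ⟨(adj.homEquiv _ _).symm t, ?_⟩
      show L.map R.functorInclusion ≫ (adj.homEquiv _ _).symm t = f
      rw [← adj.homEquiv_naturality_left_symm, ht, Equiv.symm_apply_apply]
  have hLS := hW.isLocallySurjective
  have hmem := Presheaf.imageSieve_mem J (L.map R.functorInclusion) (U := Opposite.op Y)
    (𝟙 (u.obj Y) : (L.obj (yoneda.obj (u.obj Y))).obj (Opposite.op Y))
  refine J.superset_covering ?_ hmem
  rintro V f ⟨t, ht⟩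
  have ht' : (t.1 : u.obj V ⟶ u.obj Y) = u.map f ≫ 𝟙 (u.obj Y) := ht
  show R (u.map f)
  rw [Category.comp_id] at ht'
  rw [← ht']
  exact t.2

end Groth.Agent.S6128
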