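import Groth.Statements.S6129
import Mathlib

set_option autoImplicit false
open CategoryTheory CategoryTheory.Limits
universe u
open SGA4

namespace Groth.Agent.S6129

set_option linter.unusedSectionVars false

section helpers

open Opposite

variable {C : Type u} [SmallCategory C] {C' : Type u} [SmallCategory C'] (u : C ⥤ C')
  [u.Faithful]
  (hu : ∀ X : C, (Over.post (X := X) u).Full ∧ (Over.post (X := X) u).Faithful)

include hu in
/-- The slice condition: a morphism `u X₀ ⟶ u X₂` over `u X₁` comes from `C`. -/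
lemma exists_lift {X₀ X₁ X₂ : C} (g₀₁ : X₀ ⟶ X₁) (k : X₂ ⟶ X₁) (φ₂ : u.obj X₀ ⟶ u.obj X₂)
    (h : φ₂ ≫ u.map k = u.map g₀₁) : ∃ g : X₀ ⟶ X₂, u.map g = φ₂ := by
  have := (hu X₁).1
  let ψ : (Over.post (X := X₁) u).obj (Over.mk g₀₁) ⟶ (Over.post (X := X₁) u).obj (Over.mk k) :=
    Over.homMk φ₂ h
  obtain ⟨g, hg⟩ := (Over.post (X := X₁) u).map_surjective ψ
  exact ⟨g.left, congrArg CommaMorphism.left hg⟩

/-- The legs of the detecting cocone. -/
noncomputable def leg (H : Cᵒᵖ ⥤ Type u) (X₀ : C)
    (g : CostructuredArrow u.op (op (u.obj X₀))) (s : H.obj g.left) : Option (H.obj (op X₀)) :=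
  open Classical in
  if h : ∃ g₀ : X₀ ⟶ g.left.unop, u.map g₀ = g.hom.unop then some (H.map h.choose.op s) else none

lemma leg_eq (H : Cᵒᵖ ⥤ Type u) (X₀ : C) (g : CostructuredArrow u.op (op (u.obj X₀)))
    (s : H.obj g.left) (g₀ : X₀ ⟶ g.left.unop) (hg₀ : u.map g₀ = g.hom.unop) :
    leg u H X₀ g s = some (H.map g₀.op s) := by
  have h : ∃ g₀ : X₀ ⟶ g.left.unop, u.map g₀ = g.hom.unop := ⟨g₀, hg₀⟩
  have hc : h.choose = g₀ := u.map_injective (h.choose_spec.trans hg₀.symm)
  simp only [leg, dif_pos h, hc]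

lemma leg_eq_some (H : Cᵒᵖ ⥤ Type u) (X₀ : C) (g : CostructuredArrow u.op (op (u.obj X₀)))
    (s : H.obj g.left) (t : H.obj (op X₀)) (h : leg u H X₀ g s = some t) :
    ∃ g₀ : X₀ ⟶ g.left.unop, u.map g₀ = g.hom.unop ∧ H.map g₀.op s = t := by
  by_cases hex : ∃ g₀ : X₀ ⟶ g.left.unop, u.map g₀ = g.hom.unop
  · obtain ⟨g₀, hg₀⟩ := hex
    rw [leg_eq u H X₀ g s g₀ hg₀] at h
    exact ⟨g₀, hg₀, Option.some.inj h⟩
  · simp only [leg, dif_neg hex] at h
    exact absurd h (by simp)

include hu in
lemma leg_naturality (H : Cᵒᵖ ⥤ Type u) (X₀ : C)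
    {g₁ g₂ : CostructuredArrow u.op (op (u.obj X₀))} (φ : g₁ ⟶ g₂) (s : H.obj g₁.left) :
    leg u H X₀ g₂ (H.map φ.left s) = leg u H X₀ g₁ s := by
  have hw : g₂.hom.unop ≫ u.map φ.left.unop = g₁.hom.unop :=
    congrArg Quiver.Hom.unop (CostructuredArrow.w φ)
  by_cases h₂ : ∃ g₀ : X₀ ⟶ g₂.left.unop, u.map g₀ = g₂.hom.unop
  · obtain ⟨g₀, hg₀⟩ := h₂
    have hg₁ : u.map (g₀ ≫ φ.left.unop) = g₁.hom.unop := by rw [u.map_comp, hg₀, hw]
    rw [leg_eq u H X₀ g₂ _ g₀ hg₀, leg_eq u H X₀ g₁ s _ hg₁]
    congr 1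
    rw [op_comp, Functor.map_comp_apply]
    rfl
  · by_cases h₁ : ∃ g₀ : X₀ ⟶ g₁.left.unop, u.map g₀ = g₁.hom.unop
    · exfalso
      obtain ⟨g₀₁, hg₀₁⟩ := h₁
      exact h₂ (exists_lift u hu g₀₁ φ.left.unop g₂.hom.unop (by rw [hw, hg₀₁]))
    · simp only [leg, dif_neg h₁, dif_neg h₂]

/-- The detecting cocone. -/
noncomputable def detCocone (H : Cᵒᵖ ⥤ Type u) (X₀ : C) :
    Limits.Cocone (CostructuredArrow.proj u.op (op (u.obj X₀)) ⋙ H) where
  pt := Option (H.obj (op X₀))
  ι :=
    { app := fun g => TypeCat.ofHom (fun s => leg u H X₀ g s)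
      naturality := fun g₁ g₂ φ => by
        ext s
        exact leg_naturality u hu H X₀ φ s }

/-- The retraction detecting the sections coming from `X₀`. -/
noncomputable def rho (H : Cᵒᵖ ⥤ Type u) (X₀ : C) :
    (u.op.lan.obj H).obj (op (u.obj X₀)) ⟶ Option (H.obj (op X₀)) :=
  (Functor.isPointwiseLeftKanExtensionLeftKanExtensionUnit u.op H (op (u.obj X₀))).desc
    (detCocone u hu H X₀)

lemma rho_apply (H : Cᵒᵖ ⥤ Type u) (X₀ : C) (g : CostructuredArrow u.op (op (u.obj X₀)))
    (s : H.obj g.left) :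
    rho u hu H X₀ ((u.op.lan.obj H).map g.hom ((u.op.lanUnit.app H).app g.left s)) =
      leg u H X₀ g s :=
  ConcreteCategory.congr_hom
    ((Functor.isPointwiseLeftKanExtensionLeftKanExtensionUnit u.op H (op (u.obj X₀))).fac
      (detCocone u hu H X₀) g) s

lemma rho_unit (H : Cᵒᵖ ⥤ Type u) (X₀ : C) (s : H.obj (op X₀)) :
    rho u hu H X₀ ((u.op.lanUnit.app H).app (op X₀) s) = some s := by
  let g : CostructuredArrow u.op (op (u.obj X₀)) :=
    CostructuredArrow.mk (Y := op X₀) (𝟙 (op (u.obj X₀)))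
  have h1 := rho_apply u hu H X₀ g s
  have h2 : leg u H X₀ g s = some (H.map (𝟙 X₀).op s) :=
    leg_eq u H X₀ g s (𝟙 X₀) (u.map_id X₀)
  rw [op_id, Functor.map_id_apply] at h2
  rw [← h2, ← h1]
  change _ = rho u hu H X₀ ((u.op.lan.obj H).map (𝟙 _) _)
  rw [Functor.map_id_apply]
  rfl

include hu in
lemma unit_injective (H : Cᵒᵖ ⥤ Type u) (X₀ : C) :
    Function.Injective ((u.op.lanUnit.app H).app (op X₀)) := by
  intro s s' h
  have h1 := congrArg (rho u hu H X₀) h
  rw [rho_unit, rho_unit] at h1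
  exact Option.some.inj h1

lemma lan_jointly_surjective (H : Cᵒᵖ ⥤ Type u) (X₀ : C)
    (z : (u.op.lan.obj H).obj (op (u.obj X₀))) :
    ∃ (g : CostructuredArrow u.op (op (u.obj X₀))) (s : H.obj g.left),
      (u.op.lan.obj H).map g.hom ((u.op.lanUnit.app H).app g.left s) = z := by
  have hcolim := Functor.isPointwiseLeftKanExtensionLeftKanExtensionUnit u.op H
    (op (u.obj X₀))
  obtain ⟨g, s, hs⟩ := Limits.Types.jointly_surjective_of_isColimit hcolim z
  exact ⟨g, s, hs⟩

end helpers

/-- Let `u : C ⥤ C'` be a faithful functor between small categories such that for every object `X` of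
`C` the induced functor on over-categories `C/X ⥤ C'/u X` is full and faithful. Then the left Kan
extension functor `u_!` on presheaves of sets is faithful, the unit `H ⟶ u^* u_! H` of the
adjunction `u_! ⊣ u^*` is a monomorphism for every presheaf `H`, and for every morphism of
presheaves `α : H ⟶ K` the naturality square of the unit at `α` (with sides `α` and `u^* u_! α`) is
cartesian. (The published statement assumes only the condition on the slice functors, and its proof
uses that `u` is faithful; the slice condition alone does not suffice: for a nontrivial group viewed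
as a one-object category mapping to the point every slice functor is an equivalence, while `u_!` is
the orbit-set functor on `G`-sets, which is not faithful, and the unit `G ⟶ G/G` is not a
monomorphism. So `u` is taken faithful here.) -/
theorem result
    {C : Type u} [SmallCategory C] {C' : Type u} [SmallCategory C'] (u : C ⥤ C') [u.Faithful]
    (hu : ∀ X : C, (Over.post (X := X) u).Full ∧ (Over.post (X := X) u).Faithful) :
    (u.op.lan : (Cᵒᵖ ⥤ Type u) ⥤ (C'ᵒᵖ ⥤ Type u)).Faithful ∧
    (∀ H : Cᵒᵖ ⥤ Type u, Mono ((u.op.lanAdjunction (Type u)).unit.app H)) ∧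
    ∀ (H K : Cᵒᵖ ⥤ Type u) (α : H ⟶ K),
      IsPullback ((u.op.lanAdjunction (Type u)).unit.app H) α
        (((Functor.whiskeringLeft Cᵒᵖ C'ᵒᵖ (Type u)).obj u.op).map (u.op.lan.map α))
        ((u.op.lanAdjunction (Type u)).unit.app K) := by
  have hunit : ∀ H : Cᵒᵖ ⥤ Type u,
      (u.op.lanAdjunction (Type u)).unit.app H = u.op.lanUnit.app H := fun H => by
    rw [Functor.lanAdjunction_unit]
  have hmono : ∀ H : Cᵒᵖ ⥤ Type u, Mono ((u.op.lanAdjunction (Type u)).unit.app H) := by
    intro H
    rw [hunit]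
    have : ∀ X : Cᵒᵖ, Mono ((u.op.lanUnit.app H).app X) := by
      intro X
      rw [mono_iff_injective]
      exact unit_injective u hu H X.unop
    exact NatTrans.mono_of_mono_app _
  refine ⟨⟨?_⟩, hmono, ?_⟩
  · intro H K α β h
    have hα := (u.op.lanAdjunction (Type u)).unit.naturality α
    have hβ := (u.op.lanAdjunction (Type u)).unit.naturality β
    have := hmono K
    have h3 : α ≫ (u.op.lanAdjunction (Type u)).unit.app K =
        β ≫ (u.op.lanAdjunction (Type u)).unit.app K := by
      refine hα.trans (Eq.trans ?_ hβ.symm)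
      change _ ≫ ((Functor.whiskeringLeft Cᵒᵖ C'ᵒᵖ (Type u)).obj u.op).map (u.op.lan.map α) =
        _ ≫ ((Functor.whiskeringLeft Cᵒᵖ C'ᵒᵖ (Type u)).obj u.op).map (u.op.lan.map β)
      rw [h]
    exact (cancel_mono _).1 h3
  · intro H K α
    apply IsPullback.of_forall_isPullback_app
    intro X
    rw [Limits.Types.isPullback_iff]
    refine ⟨?_, ?_, ?_⟩
    · exact congr_app ((u.op.lanAdjunction (Type u)).unit.naturality α).symm X
    · rintro s s' ⟨h1, -⟩
      rw [hunit] at h1
      exact unit_injective u hu H X.unop h1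
    · intro z k hzk
      rw [hunit] at hzk
      obtain ⟨g, s, rfl⟩ := lan_jointly_surjective u H X.unop z
      have h1 : (u.op.lan.map α).app (Opposite.op (u.obj X.unop))
          ((u.op.lan.obj H).map g.hom ((u.op.lanUnit.app H).app g.left s)) =
          (u.op.lan.obj K).map g.hom ((u.op.lanUnit.app K).app g.left (α.app g.left s)) := by
        have e1 := ConcreteCategory.congr_hom ((u.op.lan.map α).naturality g.hom)
          ((u.op.lanUnit.app H).app g.left s)
        have e2 := ConcreteCategory.congr_hom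
          (congr_app (u.op.lanUnit.naturality α) g.left) s
        refine e1.trans ?_
        exact congrArg _ e2.symm
      have h2 : leg u K X.unop g (α.app g.left s) = some k := by
        rw [← rho_apply u hu K X.unop g, ← h1, ← rho_unit u hu K X.unop k]
        exact congrArg (rho u hu K X.unop) hzk
      obtain ⟨g₀, hg₀, hk⟩ := leg_eq_some u K X.unop g _ k h2
      refine ⟨H.map g₀.op s, ?_, ?_⟩
      · rw [hunit]
        have hn := ConcreteCategory.congr_hom ((u.op.lanUnit.app H).naturality g₀.op) s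
        refine hn.trans ?_
        have hgh : g.hom = (u.map g₀).op := by
          rw [hg₀]
          rfl
        rw [hgh]
        rfl
      · exact (ConcreteCategory.congr_hom (α.naturality g₀.op) s).trans hk

end Groth.Agent.S6129
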