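import Groth.Statements.S6131
import Groth.Agent.Lib.Helper5.ToposFin10
import Groth.Agent.Lib.Helper5.ToposFinEps

set_option autoImplicit false
open CategoryTheory CategoryTheory.Limits
universe u
open SGA4

namespace Groth.Agent.S6131

/-- For a small site `(C, J)` and an object `X` of `C`, the sheaf associated to the presheaf represented
by `X` is an initial object of the category of sheaves of sets if and only if the empty sieve covers
`X`. -/
theorem result
    {C : Type u} [SmallCategory C] (J : GrothendieckTopology C) (X : C) :
    Nonempty (IsInitial ((presheafToSheaf J (Type u)).obj (yoneda.obj X))) ↔ (⊥ : Sieve X) ∈ J X := by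
  constructor
  · rintro ⟨h⟩
    have hje : Groth.Agent.Helper5.ToposFin.JE (J := J)
        (F := fun i : PEmpty.{1} => ToposFin.eps J (i.elim : C))
        (X := ToposFin.eps J X)
        (fun i => Groth.Agent.Helper5.ToposFin.epsMap J (i.elim : (i.elim : C) ⟶ X)) := by
      intro Z a b _
      exact h.hom_ext a b
    have := Groth.Agent.Helper5.ToposFin.ofArrows_mem_of_je (J := J) (U := X)
      (fun i : PEmpty.{1} => (i.elim : C)) (fun i => i.elim) hje
    refine J.superset_covering ?_ this
    rintro W f ⟨W', l, _, ⟨i⟩, rfl⟩
    exact i.elim
  · intro h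
    apply Groth.Agent.Helper5.ToposFin.isInitial_of_forall_eq (J := J) (W := ToposFin.eps J X)
    intro Z a b
    apply Groth.Agent.Helper5.ToposFin.eps_hom_ext
    apply (((isSheaf_iff_isSheaf_of_type _ _).1 Z.property).isSeparated _ h).ext
    intro W f hf
    exact hf.elim

end Groth.Agent.S6131
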