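import Groth.Statements.S6136
import Mathlib
-- import your own Groth.Agent.* helpers here

set_option autoImplicit false
open CategoryTheory CategoryTheory.Limits
universe u
open SGA4

namespace Groth.Agent.S6136

section
open CategoryTheory CategoryTheory.Limits Opposite

variable {C : Type u} [SmallCategory C] {C' : Type u} [SmallCategory C'] (u : C ⥤ C')

lemma isInd_uly (X : C) : IsIndObject (uliftYoneda.{u}.obj X) :=
  IsIndObject.map (uliftYonedaIsoYoneda.{u}.symm.app X).hom (isIndObject_yoneda X)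

/-- the comparison iso -/
noncomputable def e : u ⋙ uliftYoneda.{u} ≅ uliftYoneda.{u} ⋙ u.op.lan :=
  Presheaf.compULiftYonedaIsoULiftYonedaCompLan.{u} u

lemma e_nat {X Y : C} (f : X ⟶ Y) :
    uliftYoneda.{u}.map (u.map f) ≫ (e u).hom.app Y =
      (e u).hom.app X ≫ u.op.lan.map (uliftYoneda.{u}.map f) :=
  (e u).hom.naturality f

lemma faithful_of_inj
    (h : ∀ (F G : Cᵒᵖ ⥤ Type u), IsIndObject F → IsIndObject G →
      Function.Injective (fun φ : F ⟶ G =>
        (u.op.lan : (Cᵒᵖ ⥤ Type u) ⥤ (C'ᵒᵖ ⥤ Type u)).map φ)) : u.Faithful := by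
  constructor
  intro X Y f f' hff
  have h1 := e_nat u f
  have h2 := e_nat u f'
  rw [hff] at h1
  have h3 : u.op.lan.map (uliftYoneda.{u}.map f) = u.op.lan.map (uliftYoneda.{u}.map f') := by
    rw [← cancel_epi ((e u).hom.app X), ← h1, ← h2]
  have h4 := h _ _ (isInd_uly X) (isInd_uly Y) h3
  exact (ULiftYoneda.fullyFaithful.{u} C).map_injective h4

lemma full_of_surj
    (h : ∀ (F G : Cᵒᵖ ⥤ Type u), IsIndObject F → IsIndObject G →
      Function.Surjective (fun φ : F ⟶ G =>
        (u.op.lan : (Cᵒᵖ ⥤ Type u) ⥤ (C'ᵒᵖ ⥤ Type u)).map φ)) : u.Full := by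
  constructor
  intro X Y g
  obtain ⟨φ, hφ⟩ := h _ _ (isInd_uly X) (isInd_uly Y)
    ((e u).inv.app X ≫ uliftYoneda.{u}.map g ≫ (e u).hom.app Y)
  obtain ⟨f, rfl⟩ := (ULiftYoneda.fullyFaithful.{u} C).map_surjective φ
  refine ⟨f, ?_⟩
  have h1 := e_nat u f
  have hφ' : u.op.lan.map (uliftYoneda.{u}.map f) =
      (e u).inv.app X ≫ uliftYoneda.{u}.map g ≫ (e u).hom.app Y := hφ
  rw [hφ', Iso.hom_inv_id_app_assoc, cancel_mono] at h1
  exact (ULiftYoneda.fullyFaithful.{u} C').map_injective h1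

theorem main
    {C : Type u} [SmallCategory C] {C' : Type u} [SmallCategory C'] (u : C ⥤ C') :
    (u.Full ∧ u.Faithful) ↔ ∀ (F G : Cᵒᵖ ⥤ Type u), IsIndObject F → IsIndObject G →
      Function.Bijective (fun φ : F ⟶ G =>
        (u.op.lan : (Cᵒᵖ ⥤ Type u) ⥤ (C'ᵒᵖ ⥤ Type u)).map φ) := by
  constructor
  · rintro ⟨hfull, hfaith⟩ F G _ _
    have hff : (u.op.lan : (Cᵒᵖ ⥤ Type u) ⥤ (C'ᵒᵖ ⥤ Type u)).FullyFaithful :=
      (u.op.lanAdjunction (Type u)).fullyFaithfulLOfIsIsoUnit
    exact hff.map_bijective F G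
  · intro h
    exact ⟨full_of_surj u fun F G hF hG => (h F G hF hG).2,
      faithful_of_inj u fun F G hF hG => (h F G hF hG).1⟩

end

/-- Fully faithful case. Let `u : C ⥤ C'` be a functor between small categories and `u_!` the left Kan
extension functor on presheaves of sets, whose restriction to ind-representable presheaves is the
induced functor `Ind C ⥤ Ind C'`. Then `u` is full and faithful if and only if `u_!` is bijective on
morphisms between ind-representable presheaves. -/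
theorem result
    {C : Type u} [SmallCategory C] {C' : Type u} [SmallCategory C'] (u : C ⥤ C') :
    (u.Full ∧ u.Faithful) ↔ ∀ (F G : Cᵒᵖ ⥤ Type u), IsIndObject F → IsIndObject G →
      Function.Bijective (fun φ : F ⟶ G => (u.op.lan : (Cᵒᵖ ⥤ Type u) ⥤ (C'ᵒᵖ ⥤ Type u)).map φ) := by
  exact Groth.Agent.S6136.main u

end Groth.Agent.S6136
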