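import Groth.Statements.S6135
import Mathlib
import Groth.Agent.S6136
-- import your own Groth.Agent.* helpers here

set_option autoImplicit false
open CategoryTheory CategoryTheory.Limits
universe u
open SGA4

namespace Groth.Agent.S6135

section
open CategoryTheory CategoryTheory.Limits Opposite

variable {C : Type u} [SmallCategory C] {C' : Type u} [SmallCategory C'] (u : C ⥤ C')

section pres
variable {G : Cᵒᵖ ⥤ Type u} (P : IndObjectPresentation G)

/-- diagram of representables on `C'` -/
noncomputable abbrev D : P.I ⥤ C'ᵒᵖ ⥤ Type u := P.F ⋙ u ⋙ yoneda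

/-- its colimit -/
noncomputable abbrev H : C'ᵒᵖ ⥤ Type u := colimit (D u P)

/-- legs of the comparison cocone -/
noncomputable def leg (j : P.I) : yoneda.obj (P.F.obj j) ⟶ u.op ⋙ H u P :=
  yonedaEquiv.symm ((colimit.ι (D u P) j).app (op (u.obj (P.F.obj j))) (𝟙 (u.obj (P.F.obj j))))

lemma leg_apply (j : P.I) (Z : C) (f : Z ⟶ P.F.obj j) :
    (leg u P j).app (op Z) f = (colimit.ι (D u P) j).app (op (u.obj Z)) (u.map f) := by
  have h0 : (leg u P j).app (op Z) f = (u.op ⋙ H u P).map f.op
      ((colimit.ι (D u P) j).app (op (u.obj (P.F.obj j))) (𝟙 (u.obj (P.F.obj j)))) := rfl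
  rw [h0]
  have h1 := types_congr_hom ((colimit.ι (D u P) j).naturality (u.map f).op)
    (𝟙 (u.obj (P.F.obj j)))
  simp only [types_comp_apply] at h1
  have h2 : (ConcreteCategory.hom (((D u P).obj j).map (u.map f).op)) (𝟙 (u.obj (P.F.obj j))) =
      u.map f := Category.comp_id _
  rw [h2] at h1
  exact h1.symm


/-- the comparison cocone -/
noncomputable def cc : Cocone (P.F ⋙ yoneda) where
  pt := u.op ⋙ H u P
  ι :=
    { app := leg u P
      naturality := by
        intro j k s
        simp only [Functor.const_obj_obj, Functor.const_obj_map, Category.comp_id]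
        apply NatTrans.ext
        funext Z
        obtain ⟨Z⟩ := Z
        refine ConcreteCategory.hom_ext _ _ fun f => ?_
        have e1 : ((P.F ⋙ yoneda).map s ≫ leg u P k).app (op Z) f =
            (leg u P k).app (op Z) (f ≫ P.F.map s) := rfl
        rw [e1, leg_apply, leg_apply]
        have hw := types_congr_hom (congrArg (fun t => t.app (op (u.obj Z)))
          (colimit.w (D u P) s)) (u.map f)
        simp only [NatTrans.comp_app, types_comp_apply] at hw
        rw [← hw, Functor.map_comp]
        rfl }

/-- the comparison map -/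
noncomputable def α : G ⟶ u.op ⋙ H u P := P.isColimit.desc (cc u P)

lemma α_fac (j : P.I) (Z : C) (f : Z ⟶ P.F.obj j) :
    (α u P).app (op Z) ((P.ι.app j).app (op Z) f) =
      (colimit.ι (D u P) j).app (op (u.obj Z)) (u.map f) := by
  rw [← leg_apply]
  have h := P.isColimit.fac (cc u P) j
  have h2 := types_congr_hom (congrArg (fun t => t.app (op Z)) h) f
  simp only [NatTrans.comp_app, types_comp_apply] at h2
  exact h2

lemma α_inj [u.Faithful] (X : C) (x x' : G.obj (op X))
    (h : (α u P).app (op X) x = (α u P).app (op X) x') : x = x' := by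
  haveI := P.hI
  have hcG := isColimitOfPreserves ((evaluation Cᵒᵖ (Type u)).obj (op X)) P.isColimit
  obtain ⟨j, f, rfl⟩ := Types.jointly_surjective_of_isColimit hcG x
  obtain ⟨j', f', rfl⟩ := Types.jointly_surjective_of_isColimit hcG x'
  have hx : (α u P).app (op X) ((P.ι.app j).app (op X) f) =
      (colimit.ι (D u P) j).app (op (u.obj X)) (u.map f) := α_fac u P j X f
  have hx' : (α u P).app (op X) ((P.ι.app j').app (op X) f') =
      (colimit.ι (D u P) j').app (op (u.obj X)) (u.map f') := α_fac u P j' X f'
  have h' : (colimit.ι (D u P) j).app (op (u.obj X)) (u.map f) =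
      (colimit.ι (D u P) j').app (op (u.obj X)) (u.map f') := by
    rw [← hx, ← hx']; exact h
  have hcH := isColimitOfPreserves ((evaluation C'ᵒᵖ (Type u)).obj (op (u.obj X)))
    (colimit.isColimit (D u P))
  obtain ⟨k, s, s', hk⟩ := (Types.FilteredColimit.isColimit_eq_iff _ hcH).mp h'
  have hk' : u.map f ≫ u.map (P.F.map s) = u.map f' ≫ u.map (P.F.map s') := hk
  rw [← Functor.map_comp, ← Functor.map_comp] at hk'
  have hff : f ≫ P.F.map s = f' ≫ P.F.map s' := u.map_injective hk'
  have n1 := types_congr_hom (congrArg (fun t => t.app (op X)) (P.ι.naturality s)) f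
  have n2 := types_congr_hom (congrArg (fun t => t.app (op X)) (P.ι.naturality s')) f'
  simp only [NatTrans.comp_app, types_comp_apply, Functor.const_obj_obj, Functor.const_obj_map,
    Category.comp_id] at n1 n2
  have m1 : (ConcreteCategory.hom (((P.F ⋙ yoneda).map s).app (op X))) f = f ≫ P.F.map s := rfl
  have m2 : (ConcreteCategory.hom (((P.F ⋙ yoneda).map s').app (op X))) f' = f' ≫ P.F.map s' :=
    rfl
  rw [m1] at n1
  rw [m2] at n2
  change (P.ι.app j).app (op X) f = (P.ι.app j').app (op X) f'
  rw [← n1, ← n2, hff]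

end pres


lemma unit_mono [u.Faithful] (G : Cᵒᵖ ⥤ Type u) (hG : IsIndObject G) :
    Mono ((u.op.lanAdjunction (Type u)).unit.app G) := by
  obtain ⟨⟨P⟩⟩ := hG
  set adj := u.op.lanAdjunction (Type u) with hadj
  have hα : α u P = adj.unit.app G ≫
      ((Functor.whiskeringLeft _ _ _).obj u.op).map ((adj.homEquiv G (H u P)).symm (α u P)) := by
    have := adj.homEquiv_unit (X := G) (Y := H u P) (f := (adj.homEquiv G (H u P)).symm (α u P))
    rw [Equiv.apply_symm_apply] at this
    exact this
  haveI : ∀ X : Cᵒᵖ, Mono ((adj.unit.app G).app X) := by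
    intro X
    obtain ⟨X⟩ := X
    rw [mono_iff_injective]
    intro x x' hxx
    apply α_inj u P X x x'
    rw [hα]
    simp only [NatTrans.comp_app, types_comp_apply]
    rw [hxx]
  exact NatTrans.mono_of_mono_app _

theorem main
    {C : Type u} [SmallCategory C] {C' : Type u} [SmallCategory C'] (u : C ⥤ C') :
    u.Faithful ↔ ∀ (F G : Cᵒᵖ ⥤ Type u), IsIndObject F → IsIndObject G →
      Function.Injective (fun φ : F ⟶ G =>
        (u.op.lan : (Cᵒᵖ ⥤ Type u) ⥤ (C'ᵒᵖ ⥤ Type u)).map φ) := by
  constructor
  · intro hu F G _ hG φ ψ hφψ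
    haveI := unit_mono u G hG
    have h1 := (u.op.lanAdjunction (Type u)).unit.naturality φ
    have h2 := (u.op.lanAdjunction (Type u)).unit.naturality ψ
    have h3 : (u.op.lan : (Cᵒᵖ ⥤ Type u) ⥤ (C'ᵒᵖ ⥤ Type u)).map φ = u.op.lan.map ψ := hφψ
    simp only [Functor.id_obj, Functor.id_map, Functor.comp_map] at h1 h2
    rw [h3, ← h2] at h1
    exact (cancel_mono _).mp h1
  · exact Groth.Agent.S6136.faithful_of_inj u

end

/-- Faithful case. Let `u : C ⥤ C'` be a functor between small categories and `u_!` the left Kan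
extension functor on presheaves of sets, whose restriction to ind-objects (presheaves that are small
filtered colimits of representables) is the induced functor `Ind C ⥤ Ind C'`. Then `u` is faithful
if and only if `u_!` is injective on morphisms between ind-representable presheaves. -/
theorem result
    {C : Type u} [SmallCategory C] {C' : Type u} [SmallCategory C'] (u : C ⥤ C') :
    u.Faithful ↔ ∀ (F G : Cᵒᵖ ⥤ Type u), IsIndObject F → IsIndObject G →
      Function.Injective (fun φ : F ⟶ G => (u.op.lan : (Cᵒᵖ ⥤ Type u) ⥤ (C'ᵒᵖ ⥤ Type u)).map φ) := by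
  exact Groth.Agent.S6135.main u

end Groth.Agent.S6135
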