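import Groth.Statements.S6137
import Mathlib
-- import your own Groth.Agent.* helpers here

set_option autoImplicit false
open CategoryTheory CategoryTheory.Limits
universe v u
open SGA4

namespace Groth.Agent.S6137

section
open CategoryTheory CategoryTheory.Limits Opposite

variable {C : Type u} [Category.{v} C]

/-- representable presheaf on `Cᵒᵖ` vs corepresentable functor on `C` -/
def yonedaOpIso (X : C) :
    yoneda.obj (op X) ≅ unopUnop C ⋙ coyoneda.obj (op X) :=
  NatIso.ofComponents (fun d => (opEquiv d.unop (op X)).toIso) (by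
    intro d d' f
    ext g
    rfl)

lemma fwd (F : C ⥤ Type v) [F.IsCorepresentable] : IsIndObject (unopUnop C ⋙ F) := by
  have e : yoneda.obj (op F.coreprX) ≅ unopUnop C ⋙ F :=
    yonedaOpIso F.coreprX ≪≫ Functor.isoWhiskerLeft (unopUnop C) F.coreprW
  exact IsIndObject.map e.hom (isIndObject_yoneda (op F.coreprX))


lemma bwd (F : C ⥤ Type v) [HasLimitsOfSize.{v, v} C] (P : IndObjectPresentation (unopUnop C ⋙ F))
    [PreservesLimitsOfSize.{v, v} F] : F.IsCorepresentable := by
  rw [← Functor.Elements.hasInitial_iff_isCorepresentable]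
  haveI : HasProducts.{v} F.Elements := fun J => inferInstance
  haveI : HasWideEqualizers.{v} F.Elements := fun J => inferInstance
  let B : P.I → F.Elements :=
    fun i => ⟨(P.F.obj i).unop, (P.ι.app i).app (op (P.F.obj i)) (𝟙 _)⟩
  have hB : ∀ A : F.Elements, ∃ i, Nonempty (B i ⟶ A) := by
    rintro ⟨Y, y⟩
    have hc := isColimitOfPreserves ((evaluation Cᵒᵖᵒᵖ (Type v)).obj (op (op Y))) P.isColimit
    obtain ⟨i, g, hg⟩ := Types.jointly_surjective_of_isColimit hc y
    refine ⟨i, ⟨⟨Quiver.Hom.unop g, ?_⟩⟩⟩
    have hnat := types_congr_hom ((P.ι.app i).naturality (Quiver.Hom.op g)) (𝟙 _)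
    simp only [types_comp_apply] at hnat
    have h1 : (ConcreteCategory.hom (((P.F ⋙ yoneda).obj i).map (Quiver.Hom.op g)))
        (𝟙 (P.F.obj i)) = g := Category.comp_id g
    rw [h1] at hnat
    exact hnat.symm.trans hg
  obtain ⟨T, hT⟩ := has_weakly_initial_of_weakly_initial_set_and_hasProducts hB
  exact hasInitial_of_weakly_initial_and_hasWideEqualizers hT

theorem main
    {C : Type u} [Category.{v} C] [HasLimitsOfSize.{v, v} C] (F : C ⥤ Type v) :
    F.IsCorepresentable ↔
      IsIndObject (unopUnop C ⋙ F) ∧ PreservesLimitsOfSize.{v, v} F := by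
  constructor
  · intro h
    exact ⟨fwd F, inferInstance⟩
  · rintro ⟨⟨⟨P⟩⟩, h2⟩
    exact bwd F P

end

/-- Let `C` be a category with `v`-small hom-sets admitting all `v`-small limits, and `F : C ⥤ Type v` a
functor. Then `F` is corepresentable if and only if it is pro-representable (viewed as a presheaf on
`Cᵒᵖ` it is an ind-object, i.e. a small filtered colimit of corepresentable functors) and preserves
all `v`-small limits. -/
theorem result
    {C : Type u} [Category.{v} C] [HasLimitsOfSize.{v, v} C] (F : C ⥤ Type v) :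
    F.IsCorepresentable ↔
      IsIndObject (unopUnop C ⋙ F) ∧ PreservesLimitsOfSize.{v, v} F := by
  exact Groth.Agent.S6137.main F

end Groth.Agent.S6137
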