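import Groth.Statements.S6139

set_option autoImplicit false
open CategoryTheory CategoryTheory.Limits
universe v u
open SGA4

namespace Groth.Agent.S6139

/-- For an object `X` of a category `C`, the empty sieve on `X` is covering for the canonical topology
of `C` (the finest topology for which every representable presheaf is a sheaf) if and only if `X` is
a strict initial object: `X` is initial and every morphism with target `X` is an isomorphism. (The
source phrases the first condition as: for some topology coarser than the canonical one the
associated sheaf of `h_X` is initial; that sheaf is initial exactly when the empty sieve covers `X`,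
and coverage by the empty sieve passes to the finer canonical topology.) -/
theorem result
    {C : Type u} [Category.{v} C] (X : C) :
    (⊥ : Sieve X) ∈ Sheaf.canonicalTopology C X ↔
      (Nonempty (IsInitial X) ∧ ∀ (Y : C) (f : Y ⟶ X), IsIso f) := by
  have key : ∀ (Y : C), (⊥ : Sieve Y) ∈ Sheaf.canonicalTopology C Y → Nonempty (Limits.IsInitial Y) := by
    intro Y hY
    have hs : ∀ Z : C, Presieve.IsSheafFor (yoneda.obj Z) ((⊥ : Sieve Y) : Presieve Y) :=
      fun Z => Sheaf.isSheaf_yoneda_obj Z _ hY
    have huniq : ∀ Z : C, ∃! t : Y ⟶ Z, True := by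
      intro Z
      obtain ⟨t, _, huniq⟩ := hs Z (fun W g hg => False.elim hg)
        (fun W1 W2 W3 g1 g2 f1 f2 h1 => False.elim h1)
      exact ⟨t, trivial, fun m _ => huniq m (fun W g hg => False.elim hg)⟩
    exact ⟨Limits.IsInitial.ofUniqueHom (fun Z => (huniq Z).choose)
      (fun Z m => (huniq Z).choose_spec.2 m trivial)⟩
  constructor
  · intro h
    refine ⟨key X h, fun Y f => ?_⟩
    have hY : (⊥ : Sieve Y) ∈ Sheaf.canonicalTopology C Y := by
      have := (Sheaf.canonicalTopology C).pullback_stable f h
      simpa using this
    obtain ⟨hX⟩ := key X h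
    obtain ⟨hY'⟩ := key Y hY
    exact ⟨hX.to Y, hY'.hom_ext _ _, hX.hom_ext _ _⟩
  · rintro ⟨⟨hX⟩, hiso⟩
    apply Sheaf.mem_finestTopology_of_forall_isSheafFor
    rintro P ⟨Z, rfl⟩ Y f
    have : IsIso f := hiso Y f
    have hY : Limits.IsInitial Y := hX.ofIso (asIso f).symm
    intro x hx
    refine ⟨hY.to Z, fun W g hg => ?_, fun m _ => hY.hom_ext _ _⟩
    exact False.elim (by simpa using hg)

end Groth.Agent.S6139
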