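import Groth.Statements.S6142
import Groth.Agent.Lib.Helper5.ToposFinEps6

set_option autoImplicit false
open CategoryTheory
universe u
open SGA4

namespace Groth.Agent.S6142

/-- Let `u : C ⥤ C'` be a continuous and cocontinuous functor between small sites whose topologies are
subcanonical. If the left adjoint `u_!` of the restriction functor `u^*` on sheaves of sets is full
and faithful, then `u` is full and faithful. -/
theorem result
    {C : Type u} [SmallCategory C] {C' : Type u} [SmallCategory C']
    (J : GrothendieckTopology C) (K : GrothendieckTopology C') [J.Subcanonical] [K.Subcanonical]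
    (u : C ⥤ C') [u.IsContinuous J K] [u.IsCocontinuous J K]
    (h : (u.sheafPullback (Type u) J K).Full ∧ (u.sheafPullback (Type u) J K).Faithful) :
    u.Full ∧ u.Faithful := by
  obtain ⟨hfull, hfaith⟩ := h
  let F := u.sheafPullback (Type u) J K
  let adj := u.sheafAdjunctionContinuous (Type u) J K
  let iso : ∀ X : C, F.obj (ToposFin.eps J X) ≅ ToposFin.eps K (u.obj X) := fun X =>
    Groth.Agent.Helper5.ToposFin.mapEpsIso F _ adj X (u.obj X)
      (fun H => Equiv.refl _) (fun g s => rfl)
  have hnat : ∀ {X X' : C} (f : X ⟶ X'),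
      F.map (Groth.Agent.Helper5.ToposFin.epsMap J f) ≫ (iso X').hom =
        (iso X).hom ≫ Groth.Agent.Helper5.ToposFin.epsMap K (u.map f) := by
    intro X X' f
    exact Groth.Agent.Helper5.ToposFin.mapEpsIso_hom_naturality F _ adj f (u.map f)
      (fun H => Equiv.refl _) (fun g s => rfl) (fun H => Equiv.refl _) (fun g s => rfl)
      (fun H s => rfl)
  have hfaith' : ∀ {X X' : C} (f f' : X ⟶ X'), u.map f = u.map f' → f = f' := by
    intro X X' f f' hff
    apply (Groth.Agent.Helper5.ToposFin.epsMap_bijective (J := J) X X').1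
    show Groth.Agent.Helper5.ToposFin.epsMap J f = Groth.Agent.Helper5.ToposFin.epsMap J f'
    apply F.map_injective
    rw [← cancel_mono (iso X').hom, hnat, hnat, hff]
  refine ⟨⟨?_⟩, ⟨fun {X X'} f f' hff => hfaith' f f' hff⟩⟩
  intro X X' g
  obtain ⟨b, hb⟩ := F.map_surjective ((iso X).hom ≫
    Groth.Agent.Helper5.ToposFin.epsMap K g ≫ (iso X').inv)
  obtain ⟨f, hf⟩ := (Groth.Agent.Helper5.ToposFin.epsMap_bijective (J := J) X X').2 b
  have hf' : Groth.Agent.Helper5.ToposFin.epsMap J f = b := hf
  refine ⟨f, ?_⟩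
  apply (Groth.Agent.Helper5.ToposFin.epsMap_bijective (J := K) (u.obj X) (u.obj X')).1
  show Groth.Agent.Helper5.ToposFin.epsMap K (u.map f) = Groth.Agent.Helper5.ToposFin.epsMap K g
  rw [← cancel_epi (iso X).hom, ← hnat, hf', hb]
  simp

end Groth.Agent.S6142
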