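import Groth.Statements.S6144
import Mathlib.CategoryTheory.Limits.EpiMono
import Mathlib.Logic.Small.Set
import Mathlib.CategoryTheory.Limits.Shapes.Diagonal

set_option autoImplicit false
open CategoryTheory CategoryTheory.Limits
universe w v u
open SGA4

namespace Groth.Agent.S6144

/-- Let `E` be a category with `v`-small hom-sets and pullbacks, admitting a detecting family of objects
indexed by a `v`-small type (maps out of the family jointly reflect isomorphisms). Then every
detecting family `Y : I → E`, indexed by an arbitrary type, contains a detecting subfamily indexed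
by a `v`-small subset of `I`. -/
theorem result
    {E : Type u} [Category.{v} E] [HasPullbacks E] {κ : Type v} (G : κ → E)
    (hG : (ObjectProperty.ofObj G).IsDetecting) {I : Type w} (Y : I → E)
    (hY : (ObjectProperty.ofObj Y).IsDetecting) :
    ∃ J : Set I, Small.{v} J ∧ (ObjectProperty.ofObj (fun j : J => Y j)).IsDetecting := by
  classical
  let T := Σ (l : κ) (k : κ), {w : G l ⟶ G k // ∃ (i : I) (s : G l ⟶ Y i) (t : Y i ⟶ G k), s ≫ t = w}
  let ι : T → I := fun x => x.2.2.2.choose
  refine ⟨Set.range ι, small_range ι, ?_⟩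
  have step1 : ∀ (k : κ) {A : E} (f : A ⟶ G k) [Mono f],
      (∀ j ∈ Set.range ι, ∀ t : Y j ⟶ G k, ∃ t', t' ≫ f = t) → IsIso f := by
    intro k A f _ hf
    apply hY
    rintro _ ⟨i⟩ t
    suffices ∃ t', t' ≫ f = t by
      obtain ⟨t', ht'⟩ := this
      exact ⟨t', ht', fun y hy => (cancel_mono f).1 (hy.trans ht'.symm)⟩
    have hiso : IsIso (pullback.fst t f) := by
      apply hG
      rintro _ ⟨l⟩ s
      suffices ∃ s', s' ≫ pullback.fst t f = s by
        obtain ⟨s', hs'⟩ := this
        exact ⟨s', hs', fun y hy => (cancel_mono (pullback.fst t f)).1 (hy.trans hs'.symm)⟩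
      let x : T := ⟨l, k, s ≫ t, i, s, t, rfl⟩
      obtain ⟨s2, t2, h2⟩ := x.2.2.2.choose_spec
      obtain ⟨t2', ht2'⟩ := hf (ι x) ⟨x, rfl⟩ t2
      refine ⟨pullback.lift s (s2 ≫ t2') ?_, pullback.lift_fst _ _ _⟩
      rw [Category.assoc, ht2', h2]
    exact ⟨inv (pullback.fst t f) ≫ pullback.snd t f, by
      rw [Category.assoc, ← pullback.condition, IsIso.inv_hom_id_assoc]⟩
  have step2 : ∀ {A B : E} (f : A ⟶ B) [Mono f],
      (∀ j ∈ Set.range ι, ∀ t : Y j ⟶ B, ∃ t', t' ≫ f = t) → IsIso f := by
    intro A B f _ hf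
    apply hG
    rintro _ ⟨k⟩ h
    have : IsIso (pullback.fst h f) := step1 k _ (fun j hj t => by
      obtain ⟨t', ht'⟩ := hf j hj (t ≫ h)
      exact ⟨pullback.lift t t' ht'.symm, pullback.lift_fst _ _ _⟩)
    refine ⟨inv (pullback.fst h f) ≫ pullback.snd h f, ?_, fun y hy => ?_⟩
    · simp [← pullback.condition]
    · rw [← cancel_mono f, hy]; simp [← pullback.condition]
  intro A B f hf
  have hf' : ∀ j ∈ Set.range ι, ∀ t : Y j ⟶ B, ∃! t', t' ≫ f = t :=
    fun j hj t => hf _ ⟨⟨j, hj⟩⟩ t
  have hmono : Mono f := by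
    have hc := pullbackIsPullback f f
    rw [mono_iff_isIso_fst hc]
    have h3 : IsIso (pullback.diagonal f) := by
      apply step2
      intro j hj t
      refine ⟨t ≫ pullback.fst f f, ?_⟩
      have heq : t ≫ pullback.fst f f = t ≫ pullback.snd f f := by
        obtain ⟨t0, _, huniq⟩ := hf' j hj (t ≫ pullback.fst f f ≫ f)
        rw [huniq (t ≫ pullback.fst f f) (by simp), huniq (t ≫ pullback.snd f f)
          (by simp [pullback.condition])]
      apply pullback.hom_ext
      · simp
      · simp [heq]
    have h4 : IsIso (pullback.diagonal f ≫ pullback.fst f f) := by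
      have : pullback.diagonal f ≫ pullback.fst f f = 𝟙 _ := by simp
      rw [this]; infer_instance
    exact IsIso.of_isIso_comp_left (pullback.diagonal f) (pullback.fst f f)
  exact step2 f (fun j hj t => (hf' j hj t).exists)

end Groth.Agent.S6144
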