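import Groth.Statements.S6151
import Groth.Agent.Lib.Helper24.CechRes3
import Groth.Agent.Lib.Helper24.CechAcyc

set_option autoImplicit false
universe u
open CategoryTheory
open CohSite

namespace Groth.Agent.S6151

open CategoryTheory.Limits Simplicial Opposite Groth.Agent.Helper24.CechRes Groth.Agent.Helper24.CechAcyc

open CategoryTheory.Limits in
/-- Abelian sheaves on the topos of sheaves of sets on a small site: if F is flasque (totally acyclic:
H^q(K, F) = 0 for all sheaves of sets K and q > 0), then for every epimorphism of sheaves of sets K'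
-> K the Cech cohomology groups H^q(K'/K, F), computed from the complex H^0(K', F) -> H^0(K' x_K K',
F) -> ..., vanish for all q > 0. (An epimorphic family (X_i -> X) is replaced here by the single
epimorphism from its coproduct, which has the same Cech complex.) -/
theorem result {C : Type u} [SmallCategory C] {J : GrothendieckTopology C}
    (F : Sheaf J AddCommGrpCat.{u}) (hF : CohCx.IsTotallyAcyclic F) {K' K : Sheaf J (Type u)} (f : K' ⟶ K) [Epi f]
    (q : ℕ) : IsZero ((CohCx.cechNerveCx F f).homology (q + 1)) := by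
  rw [← HomologicalComplex.exactAt_iff_isZero_homology,
    HomologicalComplex.exactAt_iff' _ q (q + 1) (q + 1 + 1) (by simp) (by simp),
    ShortComplex.ab_exact_iff]
  intro φ hφ
  obtain ⟨hz, hex, hepi⟩ := KK_zero_exact f
  let T : Sheaf J AddCommGrpCat.{u} → Prop := fun Z =>
    ∃ L : Sheaf J (Type u), Z = (Sheaf.composeAndSheafify J AddCommGrpCat.free.{u}).obj L
  have hacyc : Acyc T F := by
    rintro Z ⟨L, rfl⟩ p
    exact hF L p
  obtain ⟨ψ, hψ⟩ := exists_cobound (KK f) _ _ hz hex hepi (KK_exact_succ f) T ⟨K, rfl⟩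
    (fun n => ⟨(Arrow.mk f).cechNerve.obj (op ⦋n⦌), rfl⟩) q F hacyc φ
    ((cechNerveCx_d_apply f F (q + 1) φ).symm.trans hφ)
  exact ⟨ψ, (cechNerveCx_d_apply f F q ψ).trans hψ⟩

end Groth.Agent.S6151
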