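import Groth.Statements.S6161
import Groth.Agent.Lib.Helper24.CechRes2

set_option autoImplicit false
universe u
open CategoryTheory
open CohSite

namespace Groth.Agent.S6161

open CategoryTheory.Limits Simplicial Opposite Groth.Agent.Helper24.CechRes

open CategoryTheory.Limits in
/-- Case A = Z; topos of sheaves of sets on a small site: for an epimorphism K' -> K of sheaves of sets,
the chain complex of free abelian sheaves ... -> Z[K' x_K K'] -> Z[K'] (alternating sums of the face
maps of the Cech nerve), augmented to Z[K], is a resolution of Z[K]: the augmentation is a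
quasi-isomorphism to Z[K] placed in degree 0. (An epimorphic family (U_i -> X) is replaced here by
the single epimorphism from its coproduct, which gives the same complex.) -/
theorem result {C : Type u} [SmallCategory C] (J : GrothendieckTopology C)
    {K' K : Sheaf J (Type u)} (f : K' ⟶ K) [Epi f] :
    QuasiIso ((AlgebraicTopology.AlternatingFaceMapComplex.ε (C := Sheaf J AddCommGrpCat.{u})).app
      (((SimplicialObject.Augmented.whiskering _ _).obj (Sheaf.composeAndSheafify J AddCommGrpCat.free.{u})).obj
        (Arrow.mk f).augmentedCechNerve)) := by
  constructor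
  intro n
  cases n with
  | zero =>
    rw [ChainComplex.quasiIsoAt₀_iff, ShortComplex.quasiIso_iff_of_zeros']
    · dsimp
      have hepi : Epi ((presheafToSheaf J AddCommGrpCat.{u}).map ((GG J).map (bb f))) := by
        have := epi_bb f
        exact inferInstanceAs (Epi ((Sheaf.composeAndSheafify J AddCommGrpCat.free.{u}).map (bb f)))
      refine (ShortComplex.exact_and_epi_g_iff_of_iso ?_).2
        ⟨(S0_exact f).map (presheafToSheaf J AddCommGrpCat.{u}), hepi⟩
      refine ShortComplex.isoMk (Iso.refl _) (Iso.refl _) (Iso.refl _) ?_ ?_
      · exact (Category.id_comp _).trans ((KK_d f 0).symm.trans (Category.comp_id _).symm)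
      · refine (Category.id_comp _).trans (Eq.trans ?_ (Category.comp_id _).symm)
        dsimp [AlgebraicTopology.AlternatingFaceMapComplex.ε]
        refine Eq.symm (Eq.trans (ChainComplex.toSingle₀Equiv_symm_apply_f_zero _ _) ?_)
        exact Category.comp_id ((Sheaf.composeAndSheafify J AddCommGrpCat.free.{u}).map (bb f))
    all_goals rfl
  | succ n =>
    rw [quasiIsoAt_iff_exactAt']
    · rw [HomologicalComplex.exactAt_iff' _ (n + 1 + 1) (n + 1) n (by simp) (by simp)]
      exact KK_exact_succ f n
    · apply ChainComplex.exactAt_succ_single_obj

end Groth.Agent.S6161
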