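import Groth.Statements.S6164
import Mathlib
import Groth.Agent.Lib.Helper24.GSSSite2
import Groth.Agent.Lib.Helper24.SieveCech

set_option autoImplicit false
universe u
open CategoryTheory
open CohSite

namespace Groth.Agent.S6164


lemma W_functorInclusion {C : Type u} [SmallCategory C] (J : GrothendieckTopology C) {X : C}
    (R : Sieve X) (hR : R ∈ J X) : J.W (A := Type u) R.functorInclusion := by
  intro G hG
  have hG' : Presieve.IsSheaf J G := (isSheaf_iff_isSheaf_of_type J G).1 hG
  have h := (Presieve.isSheafFor_iff_yonedaSheafCondition (P := G) (S := R)).1 (hG' R hR)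
  constructor
  · intro g₁ g₂ h12
    obtain ⟨g, -, hg⟩ := h (R.functorInclusion ≫ g₁)
    rw [hg g₁ rfl, hg g₂ h12.symm]
  · intro f
    obtain ⟨g, hg, -⟩ := h f
    exact ⟨g, hg⟩

open CategoryTheory.Limits in

open CategoryTheory.Limits in
/-- Existence form of the spectral sequence of a covering; abelian sheaves on a small site with fibre
products: for a covering family (U_i -> X) and an abelian sheaf M there is a bounded E_2 spectral
sequence of abelian groups with E_2^{p,q} isomorphic to the Cech cohomology group H^p((U_i -> X),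
H^q(M)) of the family with coefficients in the presheaf V |-> H^q(V, M), for p, q >= 0 and zero
otherwise, with abutment data whose filtrations are finite on H^n(X, M) (n >= 0; zero for n < 0).
The E_2 identifications and abutment isomorphisms are asserted to exist only, not pinned to the
canonical maps, so edge maps are not part of this statement. -/
theorem result {C : Type u} [SmallCategory C] [HasPullbacks C]
    (J : GrothendieckTopology C) (M : Sheaf J AddCommGrpCat.{u}) {X : C} {ι : Type u} (Y : ι → Over X)
    (hY : Sieve.ofArrows (fun i => (Y i).left) (fun i => (Y i).hom) ∈ J X) :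
    ∃ (E : E₂CohomologicalSpectralSequence AddCommGrpCat.{u})
      (a : SpSeq.Abutment E (fun n : ℤ =>
        if 0 ≤ n then AddCommGrpCat.of (CohSite.HU M n.toNat X) else AddCommGrpCat.of PUnit.{u + 1})),
      (∀ n, a.IsFinite n) ∧ SpSeq.IsBounded E ∧
      ∀ p q : ℤ, Nonempty ((E.page 2 le_rfl).X (p, q) ≅
        (if 0 ≤ p ∧ 0 ≤ q then CohCx.cechH (M.cohomologyPresheaf q.toNat) Y p.toNat
         else AddCommGrpCat.of PUnit.{u + 1})) := by
  open Groth.Agent.Helper24.GSS Groth.Agent.Helper24.SieveCoh Groth.Agent.Helper24.SieveCech in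
  have hz : Limits.IsZero (AddCommGrpCat.of PUnit.{u + 1}) :=
    AddCommGrpCat.isZero_of_subsingleton _
  have hW : J.W (Functor.whiskerRight (R Y).functorInclusion AddCommGrpCat.free.{u}) :=
    W_whiskerRight_free J _ (W_functorInclusion J (R Y) hY)
  haveI : IsIso ((presheafToSheaf J AddCommGrpCat.{u}).map
      (Functor.whiskerRight (R Y).functorInclusion AddCommGrpCat.free.{u})) := (J.W_iff _).1 hW
  let eW : (shBot J).obj (ZT (R Y).functor) ≅ CohCx.freeSheaf J X :=
    shBotSheafifyIso J ((R Y).functor ⋙ AddCommGrpCat.free.{u}) ≪≫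
      asIso ((presheafToSheaf J AddCommGrpCat.{u}).map
        (Functor.whiskerRight (R Y).functorInclusion AddCommGrpCat.free.{u}))
  refine exists_presheafExt_spectralSequence J (ZT (R Y).functor) M _ _ ?_ ?_ ?_ ?_
  · intro n
    have hn : (0 : ℤ) ≤ (n : ℤ) := by positivity
    simp only [if_pos hn, Int.toNat_natCast]
    exact nonempty_ext_iso_of_iso eW M n
  · intro n hn
    simp only [if_neg (not_le.2 hn)]
    exact hz
  · intro p q
    have hpq : (0 : ℤ) ≤ (p : ℤ) ∧ (0 : ℤ) ≤ (q : ℤ) := ⟨by positivity, by positivity⟩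
    simp only [if_pos hpq, Int.toNat_natCast]
    obtain ⟨e⟩ := Groth.Agent.Helper24.SieveCech.main Y (M.cohomologyPresheaf q) p
    exact ⟨e.symm⟩
  · intro p q hpq
    have : ¬ ((0 : ℤ) ≤ p ∧ (0 : ℤ) ≤ q) := fun h => by lia
    simp only [if_neg this]
    exact hz

end Groth.Agent.S6164
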