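import Groth.Statements.S6166
import Mathlib
import Groth.Agent.Lib.Helper24.SieveCoh
import Groth.Agent.Lib.Helper24.ShGrpPull

set_option autoImplicit false
universe u
open CategoryTheory
open CohSite

namespace Groth.Agent.S6166


open CategoryTheory.Limits Opposite
open Groth.Agent.Helper24.CechH Groth.Agent.Helper24.CechEdgeLib Groth.Agent.Helper24.CechInj
  Groth.Agent.Helper24.CechEv Groth.Agent.Helper24

section Gen
variable {C : Type u} [SmallCategory C] (J : GrothendieckTopology C)

/-- dimension shifting along an arbitrary short exact sequence, degree one -/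
lemma H1_zero_of_ses {S : ShortComplex (Sheaf J AddCommGrpCat.{u})} (hS : S.ShortExact) (U : C)
    (h2 : Subsingleton (CohSite.HU S.X₂ 1 U))
    (hsurj : Function.Surjective (S.g.hom.app (op U)).hom) :
    Subsingleton (CohSite.HU S.X₁ 1 U) := by
  have ex := (ShortComplex.ab_exact_iff _).1
    ((extDelta (CohCx.freeSheaf J U)).exact₁ _ hS 0 1 rfl)
  refine subsingleton_of_forall_eq 0 fun x => ?_
  obtain ⟨v, hv⟩ := ex x (Subsingleton.elim (α := CohSite.HU S.X₂ 1 U) _ _)
  obtain ⟨q, rfl⟩ := (CechEdge.sectH0 J U S.X₃).surjective v
  obtain ⟨s, rfl⟩ := hsurj q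
  rw [← sectH0_naturality] at hv
  rw [← hv]
  have := congrArg (fun m => m.hom (CechEdge.sectH0 J U S.X₂ s))
    ((extDelta (CohCx.freeSheaf J U)).comp_δ _ hS 0 1 rfl)
  exact this

/-- dimension shifting along an arbitrary short exact sequence, higher degree -/
lemma Hsucc_zero_of_ses {S : ShortComplex (Sheaf J AddCommGrpCat.{u})} (hS : S.ShortExact) (U : C)
    (p : ℕ) (h2 : Subsingleton (CohSite.HU S.X₂ (p+2) U))
    (h3 : Subsingleton (CohSite.HU S.X₃ (p+1) U)) :
    Subsingleton (CohSite.HU S.X₁ (p+2) U) := by
  have ex := (ShortComplex.ab_exact_iff _).1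
    ((extDelta (CohCx.freeSheaf J U)).exact₁ _ hS (p+1) (p+2) rfl)
  refine subsingleton_of_forall_eq 0 fun x => ?_
  obtain ⟨v, hv⟩ := ex x (Subsingleton.elim (α := CohSite.HU S.X₂ (p+2) U) _ _)
  rw [← hv, Subsingleton.elim (α := CohSite.HU S.X₃ (p+1) U) v 0]
  exact map_zero _

end Gen

section Push
variable {C D : Type u} [SmallCategory C] [SmallCategory D]
    (J : GrothendieckTopology C) (K : GrothendieckTopology D) (u : D ⥤ C) [u.IsContinuous K J]

lemma push_preservesFiniteLimits :
    PreservesFiniteLimits (CohSite.push J K u) := by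
  have : PreservesLimitsOfSize.{u, u} (CohSite.push J K u) :=
    (u.sheafAdjunctionContinuous AddCommGrpCat.{u} K J).rightAdjoint_preservesLimits
  infer_instance

lemma push_injective [PreservesFiniteLimits (u.sheafPullback (Type u) K J)]
    (Q : Sheaf J AddCommGrpCat.{u}) [Injective Q] : Injective ((CohSite.push J K u).obj Q) := by
  have : PreservesFiniteLimits (u.sheafPullback AddCommGrpCat.{u} K J) :=
    Groth.Agent.Helper24.ShGrp.pullA_preservesFiniteLimits J K u
  exact Injective.injective_of_adjoint (u.sheafAdjunctionContinuous AddCommGrpCat.{u} K J) Q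

/-- the pushed-forward short exact sequence `u_*F → u_*I → u_*(I/F)` -/
lemma push_ses_shortExact (F : Sheaf J AddCommGrpCat.{u})
    (hF : ∀ (U : C), Subsingleton (CohSite.HU F 1 U)) :
    ((sesS (Injective.ι F)).map (CohSite.push J K u)).ShortExact := by
  have := push_preservesFiniteLimits J K u
  have hS := sesS_shortExact (Injective.ι F)
  have hm : Mono ((sesS (Injective.ι F)).map (CohSite.push J K u)).f := by
    have := hS.mono_f
    exact inferInstanceAs (Mono ((CohSite.push J K u).map (sesS (Injective.ι F)).f))
  have he : Epi ((sesS (Injective.ι F)).map (CohSite.push J K u)).g := by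
    have : Sheaf.IsLocallySurjective ((CohSite.push J K u).map (cokernel.π (Injective.ι F))) := by
      apply Presheaf.isLocallySurjective_of_surjective
      intro V
      exact SieveCoh.surj_of_H1 J (u.obj V.unop) (hF _)
    exact Sheaf.epi_of_isLocallySurjective ((CohSite.push J K u).map (cokernel.π (Injective.ι F)))
  exact { exact := hS.exact.map_of_mono_of_preservesKernel _ hS.mono_f inferInstance
          mono_f := hm
          epi_g := he }

theorem main [PreservesFiniteLimits (u.sheafPullback (Type u) K J)] :
    ∀ (q : ℕ) (F : Sheaf J AddCommGrpCat.{u}),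
    (∀ (U : C) (q : ℕ), Subsingleton (CohSite.HU F (q + 1) U)) → ∀ (V : D),
    Subsingleton (CohSite.HU ((CohSite.push J K u).obj F) (q + 1) V)
  | 0, F, hF, V => by
    have hS := push_ses_shortExact J K u F (fun U => hF U 0)
    have hI : Injective ((sesS (Injective.ι F)).map (CohSite.push J K u)).X₂ :=
      push_injective J K u (Injective.under F)
    refine H1_zero_of_ses K hS V ?_ ?_
    · exact Abelian.Ext.subsingleton_of_injective _ _ 0
    · exact SieveCoh.surj_of_H1 J (u.obj V) (hF _ 0)
  | q+1, F, hF, V => by
    have hS := push_ses_shortExact J K u F (fun U => hF U 0)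
    have hI : Injective ((sesS (Injective.ι F)).map (CohSite.push J K u)).X₂ :=
      push_injective J K u (Injective.under F)
    refine Hsucc_zero_of_ses K hS V q ?_ ?_
    · exact Abelian.Ext.subsingleton_of_injective _ _ (q+1)
    · exact main q (cokernel (Injective.ι F)) (SieveCoh.cacyc_coker J hF) V

end Push

open CategoryTheory.Limits in

open CategoryTheory.Limits in
/-- Let u : D -> C be a continuous functor between small sites with exact pullback on sheaves of sets (a
morphism of topoi), and take the topologically generating families to be all objects of C, resp. of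
D, so that the inverse image of the second lies in the first. For an abelian sheaf F on C: if H^q(U,
F) = 0 for all objects U of C and all q > 0, then H^q(V, u_* F) = 0 for all objects V of D and all q
> 0, where u_* F = F o u. -/
theorem result {C D : Type u} [SmallCategory C] [SmallCategory D]
    (J : GrothendieckTopology C) (K : GrothendieckTopology D) (u : D ⥤ C) [u.IsContinuous K J]
    [PreservesFiniteLimits (u.sheafPullback (Type u) K J)] (F : Sheaf J AddCommGrpCat.{u})
    (hF : ∀ (U : C) (q : ℕ), Subsingleton (CohSite.HU F (q + 1) U)) (V : D) (q : ℕ) :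
    Subsingleton (CohSite.HU ((CohSite.push J K u).obj F) (q + 1) V) := by
  exact main J K u q F hF V

end Groth.Agent.S6166
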