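import Groth.Statements.S6173
import Mathlib

set_option autoImplicit false
universe u
open CategoryTheory
open SGA4

namespace Groth.Agent.S6173

/-- Second assertion (topos of sheaves on a small site (C, J); E/X_i the induced topoi, modelled by the
sites (C/X_i, J/X_i); 'enough points' = a small conservative family of points, equivalently all
fibre functors together are conservative): if (X_i) is a family of objects covering the final object
and every E/X_i has enough points, then E has enough points. (The first assertion, that E/X inherits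
enough points from E, is Mathlib's instance.) -/
theorem result {C : Type u} [SmallCategory C] (J : GrothendieckTopology C) {ι : Type u}
    (X : ι → C) (hX : J.CoversTop X) (h : ∀ i, GrothendieckTopology.HasEnoughPoints.{u} (J.over (X i))) :
    GrothendieckTopology.HasEnoughPoints.{u} J := by
  classical
  have hex : ∀ i, ∃ (P : ObjectProperty (GrothendieckTopology.Point.{u} (J.over (X i)))),
      ObjectProperty.Small.{u} P ∧ P.IsConservativeFamilyOfPoints := fun i =>
    (h i).exists_objectProperty
  choose P hPs hPc using hex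
  let Q : ObjectProperty (GrothendieckTopology.Point.{u} J) := ObjectProperty.ofObj
    (fun (ψ : Σ i, (P i).FullSubcategory) => ψ.2.obj.map (Over.forget (X ψ.1)) J)
  have hQs : ObjectProperty.Small.{u} Q := by
    have : ∀ i, Small.{u} (P i).FullSubcategory := fun i => by
      have := hPs i
      infer_instance
    infer_instance
  refine ⟨Q, hQs, ObjectProperty.IsConservativeFamilyOfPoints.mk' ?_⟩
  intro Y S hS
  refine J.transitive (hX Y) S ?_
  intro W g hg
  obtain ⟨i, ⟨a⟩⟩ := hg
  let W' : Over (X i) := Over.mk a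
  suffices hmem : (Sieve.overEquiv W').symm (S.pullback g) ∈ (J.over (X i)) W' by
    rwa [GrothendieckTopology.mem_over_iff, OrderIso.apply_symm_apply] at hmem
  obtain ⟨κ, Z, b, hb⟩ := ((Sieve.overEquiv W').symm (S.pullback g)).exists_eq_ofArrows
  rw [hb]
  have := hPs i
  rw [(hPc i).jointly_reflect_ofArrows_mem_of_small]
  intro Φ x
  let p := CategoryOfElements.π Φ.obj.fiber ⋙ Over.forget (X i)
  let Ψ : GrothendieckTopology.Point.{u} J := Φ.obj.map (Over.forget (X i)) J
  have hΨ : Q Ψ := ObjectProperty.ofObj.mk (⟨i, Φ⟩ : Σ i, (P i).FullSubcategory)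
  let u₀ : Φ.obj.fiber.Elements := Φ.obj.fiber.elementsMk W' x
  let ξ : Ψ.fiber.obj Y :=
    GrothendieckTopology.Point.ofIsCofiltered.fiberMk (p := p) (U := u₀) g
  obtain ⟨Y', g', hg', y, hy⟩ := hS ⟨Ψ, hΨ⟩ ξ
  obtain ⟨v₀, c, rfl⟩ := GrothendieckTopology.Point.ofIsCofiltered.fiberMk_jointly_surjective
    (p := p) y
  have hy' : GrothendieckTopology.Point.ofIsCofiltered.fiberMk.{u} (p := p) (U := v₀) (c ≫ g') =
      GrothendieckTopology.Point.ofIsCofiltered.fiberMk.{u} (p := p) (U := u₀) g :=
    (GrothendieckTopology.Point.ofIsCofiltered.fiber_map_fiberMk p c g').symm.trans hy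
  -- common refinement
  let t₀ := IsCofiltered.min v₀ u₀
  let q₁ : t₀ ⟶ v₀ := IsCofiltered.minToLeft v₀ u₀
  let q₂ : t₀ ⟶ u₀ := IsCofiltered.minToRight v₀ u₀
  have h1 : GrothendieckTopology.Point.ofIsCofiltered.fiberMk.{u} (p := p) (U := t₀)
      (p.map q₁ ≫ c ≫ g') =
      GrothendieckTopology.Point.ofIsCofiltered.fiberMk.{u} (p := p) (U := t₀) (p.map q₂ ≫ g) := by
    rw [GrothendieckTopology.Point.ofIsCofiltered.fiberMk_map_comp,
      GrothendieckTopology.Point.ofIsCofiltered.fiberMk_map_comp]
    exact hy'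
  obtain ⟨t, r, hr⟩ := GrothendieckTopology.Point.ofIsCofiltered.exists_of_fiberMk_eq_fiberMk h1
  let q : t ⟶ u₀ := r ≫ q₂
  have hq2 : Φ.obj.fiber.map q.1 t.2 = x := q.2
  have hmemS : ((Sieve.overEquiv W').symm (S.pullback g)) q.1 := by
    rw [Sieve.overEquiv_symm_iff]
    change S (q.1.left ≫ g)
    have e : q.1.left ≫ g = (p.map r ≫ p.map q₁ ≫ c) ≫ g' := by
      have : q.1.left = p.map r ≫ p.map q₂ := by
        rw [← Functor.map_comp]
        rfl
      rw [this]
      exact (Category.assoc _ _ _).trans (hr.symm.trans (by simp only [Category.assoc]))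
    rw [e]
    exact S.downward_closed hg' _
  rw [hb] at hmemS
  obtain ⟨T, r', _, ⟨k⟩, hk⟩ := hmemS
  refine ⟨k, Φ.obj.fiber.map r' t.2, ?_⟩
  rw [← hq2, ← hk]
  simp

end Groth.Agent.S6173
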