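import Groth.Statements.S6194
import Groth.Agent.Lib.Helper5.RPF5
import Groth.Agent.S0914

set_option autoImplicit false
universe u
open CategoryTheory CategoryTheory.Limits AlgebraicGeometry
attribute [local instance] HasDerivedCategory.standard
open KSix

namespace Groth.Agent.S6194

/-- Let X be a scheme such that, at every point x, every module over the local ring of X at x has finite
tor dimension (for instance a regular scheme), and let E ∈ D(O_X), given by a cochain complex F,
have bounded cohomology. Then E is pseudo-coherent if and only if E is perfect. (The published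
statement is for a ringed topos with enough points; this row is the case of schemes.) -/
theorem result {X : Scheme.{u}}
    (hX : ∀ (x : X) (M : Type u) [AddCommGroup M] [Module (X.presheaf.stalk x) M], DRing.HasFiniteTorDim (X.presheaf.stalk x) M)
    (F : CochainComplex X.Modules ℤ) (c d : ℤ) [(DCoh.toD X F).IsGE c] [(DCoh.toD X F).IsLE d] :
    (∀ m : ℤ, DCoh.IsPseudoCoherentD m (DCoh.toD X F)) ↔ DCoh.IsPerfect (DCoh.toD X F) := by
  constructor
  · intro hpc
    refine Groth.Agent.Helper5.RPF.isPerfect_of_pseudoCoherent_of_finiteTorDim hX F c d ?_ hpc
    intro i hi
    rw [HomologicalComplex.exactAt_iff_isZero_homology]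
    refine IsZero.of_iso ?_ (Groth.Agent.Helper5.LDer.HDQIso F i).symm
    rcases hi with hi | hi
    · exact DerivedCategory.isZero_of_isGE (DCoh.toD X F) c i hi
    · exact DerivedCategory.isZero_of_isLE (DCoh.toD X F) d i hi
  · intro h
    exact ((Groth.Agent.S0914.result _).mp h).1

end Groth.Agent.S6194
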