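import Groth.Statements.S6239
import Mathlib

set_option autoImplicit false
universe u
open CategoryTheory CategoryTheory.Limits AlgebraicGeometry
attribute [local instance] HasDerivedCategory.standard
open KSix

namespace Groth.Agent.S6239

/-- Let f : X ⟶ Y be a morphism with X quasi-compact and F a cochain complex of O_X-modules which is
perfect relative to f (pseudo-coherent relative to f in chart form, and locally on X of finite
stalkwise tor amplitude over the local rings of Y). Then F has finite perfect amplitude relative to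
f: one interval [a, b] works at every point of X. -/
theorem result {X Y : Scheme.{u}} [CompactSpace X] (f : X ⟶ Y)
    (F : CochainComplex X.Modules ℤ) (hF : DerSch.IsPerfectRel f F) :
    DerSch.HasFinitePerfAmplitudeRel f F := by
  obtain ⟨hpc, hloc⟩ := hF
  have mono : ∀ (a b a' b' : ℤ) (x : X), a' ≤ a → b ≤ b' →
      DerSch.HasTorAmplitudeAt f a b F x → DerSch.HasTorAmplitudeAt f a' b' F x := by
    intro a b a' b' x ha hb h
    obtain ⟨E, hv, hfl, hiso⟩ := h
    refine ⟨E, fun i hi => hv i ?_, hfl, hiso⟩
    rcases hi with hi | hi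
    · exact Or.inl (lt_of_lt_of_le hi ha)
    · exact Or.inr (lt_of_le_of_lt hb hi)
  choose V a b hxV hV using hloc
  obtain ⟨t, ht⟩ := isCompact_univ.elim_finite_subcover (fun x : X => ((V x : X.Opens) : Set X))
    (fun x => (V x).isOpen) (fun x _ => Set.mem_iUnion.mpr ⟨x, hxV x⟩)
  refine ⟨-(∑ x ∈ t, |a x|), ∑ x ∈ t, |b x|, hpc, fun y => ?_⟩
  obtain ⟨x, hxt, hyx⟩ : ∃ x ∈ t, y ∈ ((V x : X.Opens) : Set X) := by
    have := ht (Set.mem_univ y)
    simpa using this
  refine mono (a x) (b x) _ _ y ?_ ?_ (hV x y hyx)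
  · have h1 : |a x| ≤ ∑ x ∈ t, |a x| :=
      Finset.single_le_sum (f := fun x => |a x|) (fun i _ => abs_nonneg _) hxt
    have h2 : -|a x| ≤ a x := neg_abs_le (a x)
    linarith
  · have h1 : |b x| ≤ ∑ x ∈ t, |b x| :=
      Finset.single_le_sum (f := fun x => |b x|) (fun i _ => abs_nonneg _) hxt
    have h2 : b x ≤ |b x| := le_abs_self (b x)
    linarith

end Groth.Agent.S6239
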