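import Groth.Statements.S6263
import Mathlib

set_option autoImplicit false
universe u
open CAlg

namespace Groth.Agent.S6263
open TensorProduct

/-- For a ring map R → S and a finite S-module N which is flat as an R-module, generalizations lift
along the map from the support of N (a subset of Spec S) to Spec R: if p ≤ p' are primes of R and q'
is a prime of S in the support of N whose inverse image in R is p', then some prime q ≤ q' of S lies
in the support of N and has inverse image p. -/
theorem result {R S : Type u} [CommRing R] [CommRing S] [Algebra R S] (N : Type u) [AddCommGroup N] [Module S N] [Module R N] [IsScalarTower R S N] [Module.Finite S N] [Module.Flat R N] (p p' : Ideal R) [p.IsPrime] [p'.IsPrime] (hle : p ≤ p') (q' : PrimeSpectrum S) (hq' : q' ∈ Module.support S N) (hover : q'.asIdeal.under R = p') : ∃ q : PrimeSpectrum S, q ≤ q' ∧ q ∈ Module.support S N ∧ q.asIdeal.under R = p := by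
  classical
  let K := p.ResidueField
  -- Step (a)
  have hpq' : p.map (algebraMap R S) ≤ q'.asIdeal := by
    rw [Ideal.map_le_iff_le_comap]
    intro r hr
    have : r ∈ q'.asIdeal.under R := by rw [hover]; exact hle hr
    exact this
  have h1 : q' ∈ Module.support S (N ⧸ (p.map (algebraMap R S)) • (⊤ : Submodule S N)) := by
    rw [Module.support_quotient]
    exact ⟨hq', hpq'⟩
  obtain ⟨nb, hnb⟩ := Module.mem_support_iff_exists_annihilator.1 h1
  obtain ⟨n, rfl⟩ := Submodule.Quotient.mk_surjective _ nb
  -- the map j₀
  let j₀ : N →ₗ[S] N ⊗[R] K :=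
    { toFun := fun x => x ⊗ₜ[R] (1 : K)
      map_add' := fun x y => TensorProduct.add_tmul x y 1
      map_smul' := fun s x => by simp [TensorProduct.smul_tmul'] }
  have hker : ∀ x : N, j₀ x = 0 → x ∈ (p.map (algebraMap R S)) • (⊤ : Submodule S N) := by
    intro x hx
    let ι : (R ⧸ p) →ₗ[R] K := (IsScalarTower.toAlgHom R (R ⧸ p) K).toLinearMap
    have hι : Function.Injective ι := p.injective_algebraMap_quotient_residueField
    have hinj : Function.Injective (LinearMap.lTensor N ι) :=
      Module.Flat.lTensor_preserves_injective_linearMap ι hι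
    have h2 : (LinearMap.lTensor N ι) (x ⊗ₜ[R] (1 : R ⧸ p)) = 0 := by
      rw [LinearMap.lTensor_tmul]
      have : ι 1 = 1 := map_one (IsScalarTower.toAlgHom R (R ⧸ p) K)
      rw [this]
      exact hx
    have h3 : x ⊗ₜ[R] (1 : R ⧸ p) = 0 := hinj (by rw [h2, map_zero])
    have h4 : (Submodule.Quotient.mk x : N ⧸ (p • ⊤ : Submodule R N)) = 0 := by
      have := congrArg (TensorProduct.tensorQuotEquivQuotSMul N p) h3
      rw [← map_one (Ideal.Quotient.mk p), TensorProduct.tensorQuotEquivQuotSMul_tmul_mk,
        one_smul, map_zero] at this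
      exact this
    rw [Submodule.Quotient.mk_eq_zero] at h4
    refine Submodule.smul_induction_on h4 ?_ ?_
    · intro r hr m _
      rw [← algebraMap_smul S r m]
      exact Submodule.smul_mem_smul (Ideal.mem_map_of_mem _ hr) Submodule.mem_top
    · intro a b ha hb
      exact Submodule.add_mem _ ha hb
  let v := j₀ n
  let a := (Submodule.span S {v}).annihilator
  have haq' : a ≤ q'.asIdeal := by
    intro s hs
    apply hnb
    rw [Submodule.mem_annihilator_span_singleton] at hs ⊢
    rw [← Submodule.Quotient.mk_smul, Submodule.Quotient.mk_eq_zero]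
    apply hker
    rw [map_smul]
    exact hs
  obtain ⟨q, hqmin, hqle⟩ := Ideal.exists_minimalPrimes_le haq'
  have hqprime : q.IsPrime := hqmin.1.1
  have haq : a ≤ q := hqmin.1.2
  refine ⟨⟨q, hqprime⟩, hqle, ?_, ?_⟩
  · rw [Module.mem_support_iff_of_finite]
    intro s hs
    apply haq
    rw [Submodule.mem_annihilator_span_singleton]
    change s • j₀ n = 0
    rw [← map_smul, Module.mem_annihilator.1 hs n, map_zero]
  · change q.comap (algebraMap R S) = p
    ext r
    rw [Ideal.mem_comap]
    constructor
    · intro hr
      by_contra hrp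
      have hunit : IsUnit (algebraMap R K r) := by
        rw [isUnit_iff_ne_zero]
        intro h0
        exact hrp (Ideal.algebraMap_residueField_eq_zero.1 h0)
      obtain ⟨u, hu⟩ := hunit
      let ψ : N ⊗[R] K →ₗ[R] N ⊗[R] K := LinearMap.lTensor N (LinearMap.mulLeft R (↑u⁻¹ : K))
      have hψ : ∀ w : N ⊗[R] K, ψ (r • w) = w := by
        intro w
        induction w using TensorProduct.induction_on with
        | zero => simp
        | add x y hx hy => rw [smul_add, map_add, hx, hy]
        | tmul x k =>
          rw [← TensorProduct.tmul_smul, LinearMap.lTensor_tmul, LinearMap.mulLeft_apply,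
            Algebra.smul_def, ← hu, ← mul_assoc, Units.inv_mul, one_mul]
      have hreg : IsSMulRegular (Submodule.span S {v}) (algebraMap R S r) := by
        intro x y hxy
        apply Subtype.ext
        have h5 : (algebraMap R S r) • (x : N ⊗[R] K) = (algebraMap R S r) • (y : N ⊗[R] K) :=
          congrArg Subtype.val hxy
        rw [algebraMap_smul, algebraMap_smul] at h5
        rw [← hψ x, ← hψ y, h5]
      exact hreg.notMem_of_mem_minimalPrimes hqmin hr
    · intro hr
      apply haq
      rw [Submodule.mem_annihilator_span_singleton, algebraMap_smul]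
      change r • (n ⊗ₜ[R] (1 : K)) = 0
      rw [← TensorProduct.tmul_smul, Algebra.smul_def, mul_one,
        Ideal.algebraMap_residueField_eq_zero.2 hr, TensorProduct.tmul_zero]

end Groth.Agent.S6263
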