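import Groth.Statements.S6264
import Mathlib

set_option autoImplicit false
universe u
open CAlg

namespace Groth.Agent.S6264

/-- common core: if every prime of `S` whose contraction is inside `p` is contained in `q`,
then `S_p` is the localization of `S` at `q`. -/
theorem core {R S : Type u} [CommRing R] [CommRing S] [Algebra R S] (p : Ideal R) [p.IsPrime]
    (q : Ideal S) [q.IsPrime] [q.LiesOver p]
    (h : ∀ q' : Ideal S, q'.IsPrime → q'.under R ≤ p → q' ≤ q) :
    IsLocalization.AtPrime (Localization (Algebra.algebraMapSubmonoid S p.primeCompl)) q := by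
  set M := Algebra.algebraMapSubmonoid S p.primeCompl with hM
  have hle : M ≤ q.primeCompl := by
    rintro _ ⟨r, hr, rfl⟩ hmem
    apply hr
    rw [q.over_def p]
    exact hmem
  refine IsLocalization.of_le M q.primeCompl hle ?_
  intro t ht
  by_contra hnu
  obtain ⟨m, hm, htm⟩ := exists_max_ideal_of_mem_nonunits hnu
  set q'' := m.comap (algebraMap S (Localization M)) with hq''
  have hprime : q''.IsPrime := Ideal.comap_isPrime _ _
  have hdisj : ∀ s ∈ M, s ∉ q'' := by
    intro s hs hsq
    exact hm.ne_top (Ideal.eq_top_of_isUnit_mem m hsq (IsLocalization.map_units _ ⟨s, hs⟩))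
  have hunder : q''.under R ≤ p := by
    intro r hr
    by_contra hrp
    exact hdisj _ ⟨r, hrp, rfl⟩ hr
  exact ht (h q'' hprime hunder htm)

/-- Let R → S be a ring map with the going-up property and p a prime of R such that exactly one prime q
of S lies over p. Then the localization S_p of S at the image of R - p is a localization of S at q,
i.e. S_p = S_q. -/
theorem result {R S : Type u} [CommRing R] [CommRing S] [Algebra R S] [Algebra.HasGoingUp R S] (p : Ideal R) [p.IsPrime] (q : Ideal S) [q.IsPrime] [q.LiesOver p] (huniq : ∀ q' : Ideal S, q'.IsPrime → q'.under R = p → q' = q) : IsLocalization.AtPrime (Localization (Algebra.algebraMapSubmonoid S p.primeCompl)) q := by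
  apply core p q
  intro q'' hprime hunder
  haveI : q''.LiesOver (q''.under R) := ⟨rfl⟩
  obtain ⟨Q, hQ, hQp, hQo⟩ := Ideal.exists_ideal_ge_liesOver_of_le (p := q''.under R) (q := p) q''
    hunder
  have : Q = q := huniq Q hQp (hQo.over.symm)
  rw [← this]
  exact hQ

end Groth.Agent.S6264
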