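import Mathlib
import Groth.Statements.S6308

set_option autoImplicit false
universe u
open scoped TensorProduct
open CAlg

namespace Groth.Agent.S6308

/-- Let R be a ring and φ : M → N a map of R-modules with N finite. For a prime p, the localization φ_p
: M_p → N_p is surjective if and only if φ ⊗ κ(p) : M ⊗ κ(p) → N ⊗ κ(p) is surjective; the set U of
such primes is open in Spec(R); and for every f ∈ R with D(f) ⊆ U the map M_f → N_f is surjective. -/
theorem result {R : Type u} [CommRing R] {M N : Type u} [AddCommGroup M] [Module R M] [AddCommGroup N] [Module R N] [Module.Finite R N] (φ : M →ₗ[R] N) : (∀ p : PrimeSpectrum R, Function.Surjective (LocalizedModule.map p.asIdeal.primeCompl φ) ↔ Function.Surjective (φ.lTensor p.asIdeal.ResidueField)) ∧ IsOpen {p : PrimeSpectrum R | Function.Surjective (LocalizedModule.map p.asIdeal.primeCompl φ)} ∧ (∀ f : R, (↑(PrimeSpectrum.basicOpen f) : Set (PrimeSpectrum R)) ⊆ {p : PrimeSpectrum R | Function.Surjective (LocalizedModule.map p.asIdeal.primeCompl φ)} → Function.Surjective (LocalizedModule.map (Submonoid.powers f) φ)) := by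
  classical
  set C := N ⧸ LinearMap.range φ with hC
  have key1 : ∀ (S : Submonoid R), Function.Surjective (LocalizedModule.map S φ) ↔
      Subsingleton (LocalizedModule S C) :=
    fun S => LinearMap.localizedMap_surjective_iff_subsingleton_localized_coker S φ
  have hsupp : ∀ p : PrimeSpectrum R, Function.Surjective (LocalizedModule.map p.asIdeal.primeCompl φ) ↔
      p ∉ Module.support R C := by
    intro p
    rw [key1, Module.notMem_support_iff]
  have key2 : ∀ p : PrimeSpectrum R, Function.Surjective (φ.lTensor p.asIdeal.ResidueField) ↔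
      Subsingleton (p.asIdeal.ResidueField ⊗[R] C) := by
    intro p
    have hex : Function.Exact (φ.lTensor p.asIdeal.ResidueField)
        ((LinearMap.range φ).mkQ.lTensor p.asIdeal.ResidueField) :=
      lTensor_exact _ (LinearMap.exact_map_mkQ_range φ) (Submodule.mkQ_surjective _)
    have hs : Function.Surjective ((LinearMap.range φ).mkQ.lTensor p.asIdeal.ResidueField) :=
      LinearMap.lTensor_surjective _ (Submodule.mkQ_surjective _)
    constructor
    · intro h
      refine ⟨fun a b => ?_⟩
      obtain ⟨a, rfl⟩ := hs a
      obtain ⟨b, rfl⟩ := hs b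
      obtain ⟨a, rfl⟩ := h a
      obtain ⟨b, rfl⟩ := h b
      rw [(hex _).2 ⟨a, rfl⟩, (hex _).2 ⟨b, rfl⟩]
    · intro h y
      have : (LinearMap.range φ).mkQ.lTensor p.asIdeal.ResidueField y = 0 := Subsingleton.elim _ _
      exact (hex y).1 this
  refine ⟨fun p => ?_, ?_, fun f hf => ?_⟩
  · rw [hsupp, key2, Module.mem_support_iff_nontrivial_residueField_tensorProduct,
      not_nontrivial_iff_subsingleton]
  · have : {p : PrimeSpectrum R | Function.Surjective (LocalizedModule.map p.asIdeal.primeCompl φ)} =
        (Module.support R C)ᶜ := by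
      ext p
      exact hsupp p
    rw [this, isOpen_compl_iff, Module.support_eq_zeroLocus]
    exact PrimeSpectrum.isClosed_zeroLocus _
  · rw [key1]
    show Subsingleton (LocalizedModule.Away f C)
    rw [LocalizedModule.subsingleton_iff_support_subset]
    intro p hp
    by_contra hpf
    have hpD : p ∈ (↑(PrimeSpectrum.basicOpen f) : Set (PrimeSpectrum R)) := by
      rw [PrimeSpectrum.mem_zeroLocus, Set.singleton_subset_iff] at hpf
      exact hpf
    exact (hsupp p).1 (hf hpD) hp

end Groth.Agent.S6308
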