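import Groth.Statements.S6266
import Mathlib
import Groth.Agent.S6308
import Groth.Agent.Lib.Helper12.RedConst

set_option autoImplicit false
universe u
open scoped TensorProduct
open CAlg

namespace Groth.Agent.S6266
open TensorProduct PrimeSpectrum
/-- Choose elements of `M` whose images form a basis of the fibre. -/
theorem exists_fibre_basis (R : Type u) [CommRing R] (M : Type u) [AddCommGroup M] [Module R M]
    [Module.Finite R M] (K : Type u) [Field K] [Algebra R K] :
    ∃ x : Fin (Module.finrank K (K ⊗[R] M)) → M,
      Function.Surjective ((Fintype.linearCombination R x).lTensor K) := by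
  classical
  let s : Set (K ⊗[R] M) := Set.range (fun m : M => (1 : K) ⊗ₜ[R] m)
  have hs : ⊤ ≤ Submodule.span K s := by
    intro z _
    induction z using TensorProduct.induction_on with
    | zero => exact Submodule.zero_mem _
    | add a b ha hb => exact Submodule.add_mem _ (ha trivial) (hb trivial)
    | tmul k m =>
      have : k ⊗ₜ[R] m = k • ((1 : K) ⊗ₜ[R] m) := by
        rw [TensorProduct.smul_tmul', smul_eq_mul, mul_one]
      rw [this]
      exact Submodule.smul_mem _ _ (Submodule.subset_span ⟨m, rfl⟩)
  let b := Module.Basis.ofSpan hs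
  have hsub := Module.Basis.ofSpan_subset hs
  let _ : Fintype ((linearIndepOn_empty K id).extend (Set.empty_subset s)) :=
    FiniteDimensional.fintypeBasisIndex b
  have hcard : Module.finrank K (K ⊗[R] M) =
      Fintype.card ((linearIndepOn_empty K id).extend (Set.empty_subset s)) :=
    Module.finrank_eq_card_basis b
  let e : Fin (Module.finrank K (K ⊗[R] M)) ≃
      ((linearIndepOn_empty K id).extend (Set.empty_subset s)) :=
    (Fintype.equivFinOfCardEq hcard.symm).symm
  have hx : ∀ i, ∃ m : M, (1 : K) ⊗ₜ[R] m = b (e i) := fun i => hsub ⟨e i, rfl⟩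
  choose x hx using hx
  refine ⟨x, ?_⟩
  have hrange : LinearMap.range ((Fintype.linearCombination R x).baseChange K) = ⊤ := by
    rw [eq_top_iff, ← b.span_eq, Submodule.span_le]
    rintro _ ⟨j, rfl⟩
    refine ⟨(1 : K) ⊗ₜ[R] (Pi.single (e.symm j) (1 : R)), ?_⟩
    rw [LinearMap.baseChange_tmul, Fintype.linearCombination_apply_single, one_smul, hx,
      Equiv.apply_symm_apply]
  intro z
  have : z ∈ LinearMap.range ((Fintype.linearCombination R x).baseChange K) := by
    rw [hrange]; trivial
  obtain ⟨y, hy⟩ := this
  exact ⟨y, hy⟩

theorem key (R : Type u) [CommRing R] [IsReduced R] (M : Type u) [AddCommGroup M] [Module R M]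
    [Module.Finite R M]
    (hlc : IsLocallyConstant (fun p : PrimeSpectrum R =>
      Module.finrank p.asIdeal.ResidueField (p.asIdeal.ResidueField ⊗[R] M)))
    (p : PrimeSpectrum R) :
    ∃ f : R, f ∉ p.asIdeal ∧
      Module.Free (Localization.Away f) (LocalizedModule (Submonoid.powers f) M) := by
  classical
  set c := Module.finrank p.asIdeal.ResidueField (p.asIdeal.ResidueField ⊗[R] M) with hc
  obtain ⟨x, hx⟩ := exists_fibre_basis R M p.asIdeal.ResidueField
  set φ := Fintype.linearCombination R x with hφ
  obtain ⟨h1, h2, h3⟩ := Groth.Agent.S6308.result φ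
  have hpU : p ∈ {p : PrimeSpectrum R | Function.Surjective (LocalizedModule.map p.asIdeal.primeCompl φ)} :=
    (h1 p).2 hx
  have hW : IsOpen ((fun p : PrimeSpectrum R =>
      Module.finrank p.asIdeal.ResidueField (p.asIdeal.ResidueField ⊗[R] M)) ⁻¹' {c}) :=
    hlc.isOpen_fiber c
  have hpUW : p ∈ {p : PrimeSpectrum R | Function.Surjective (LocalizedModule.map p.asIdeal.primeCompl φ)} ∩
      ((fun p : PrimeSpectrum R =>
      Module.finrank p.asIdeal.ResidueField (p.asIdeal.ResidueField ⊗[R] M)) ⁻¹' {c}) := ⟨hpU, rfl⟩
  obtain ⟨_, ⟨f, rfl⟩, hpf, hfsub⟩ := isTopologicalBasis_basic_opens.exists_subset_of_mem_open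
    hpUW (h2.inter hW)
  refine ⟨f, hpf, ?_⟩
  have hsurj : Function.Surjective (LocalizedModule.map (Submonoid.powers f) φ) :=
    h3 f (fun q hq => (hfsub hq).1)
  -- the map π' : (Fin c → S) → M_f
  let S := Localization.Away f
  let C := LocalizedModule (Submonoid.powers f) M
  let y : Fin c → C := fun j => LocalizedModule.mkLinearMap (Submonoid.powers f) M (x j)
  let π : (Fin c → S) →ₗ[S] C := Fintype.linearCombination S y
  have hπ : Function.Surjective π := by
    intro z
    obtain ⟨w, rfl⟩ := hsurj z
    induction w using LocalizedModule.induction_on with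
    | h v s =>
      refine ⟨fun j => Localization.mk (v j) s, ?_⟩
      rw [LocalizedModule.map_mk]
      simp only [π, Fintype.linearCombination_apply, y, LocalizedModule.mkLinearMap_apply, hφ]
      have e : ∀ m : M, LocalizedModule.mk m s =
          (Localization.mk 1 s : Localization.Away f) •
            LocalizedModule.mkLinearMap (Submonoid.powers f) M m := by
        intro m
        rw [LocalizedModule.mkLinearMap_apply, LocalizedModule.mk_smul_mk, one_smul, mul_one]
      rw [e, map_sum, Finset.smul_sum]
      refine Finset.sum_congr rfl fun i _ => ?_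
      rw [LocalizedModule.mkLinearMap_apply, LocalizedModule.mk_smul_mk, LocalizedModule.mk_smul_mk,
        one_smul]
  have hSred : IsReduced S := inferInstance
  have H : ∀ q : PrimeSpectrum S, ∃ (K : Type u) (_ : Field K) (_ : Algebra S K),
      RingHom.ker (algebraMap S K) ≤ q.asIdeal ∧ Module.finrank K (K ⊗[S] C) = c := by
    intro q
    let p₀ : PrimeSpectrum R := PrimeSpectrum.comap (algebraMap R S) q
    have hfu : IsUnit (algebraMap R S f) := IsLocalization.Away.algebraMap_isUnit f
    have hfp₀ : f ∉ p₀.asIdeal := by
      intro hf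
      have : algebraMap R S f ∈ q.asIdeal := hf
      exact q.isPrime.ne_top (Ideal.eq_top_of_isUnit_mem _ this hfu)
    have hc₀ : Module.finrank p₀.asIdeal.ResidueField (p₀.asIdeal.ResidueField ⊗[R] M) = c :=
      (hfsub (show p₀ ∈ (basicOpen f : Set (PrimeSpectrum R)) from hfp₀)).2
    let K := p₀.asIdeal.ResidueField
    have hunit : IsUnit (algebraMap R K f) := by
      rw [isUnit_iff_ne_zero]
      intro h0
      exact hfp₀ (Ideal.algebraMap_residueField_eq_zero.1 h0)
    letI algSK : Algebra S K := (IsLocalization.Away.lift f hunit).toAlgebra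
    haveI : IsScalarTower R S K := IsScalarTower.of_algebraMap_eq fun r =>
      (IsLocalization.Away.lift_eq f hunit r).symm
    refine ⟨K, inferInstance, algSK, ?_, ?_⟩
    · intro s hs
      rw [RingHom.mem_ker] at hs
      obtain ⟨r, t, rfl⟩ := IsLocalization.exists_mk'_eq (Submonoid.powers f) s
      have hspec := IsLocalization.mk'_spec S r t
      have h5 : algebraMap R K r = 0 := by
        have := congrArg (algebraMap S K) hspec
        rw [map_mul, hs, zero_mul, ← IsScalarTower.algebraMap_apply] at this
        exact this.symm
      have h6 : algebraMap R S r ∈ q.asIdeal := by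
        have : r ∈ p₀.asIdeal := Ideal.algebraMap_residueField_eq_zero.1 h5
        exact this
      rw [← hspec] at h6
      rcases q.isPrime.mem_or_mem h6 with h7 | h7
      · exact h7
      · exfalso
        have htu : IsUnit (algebraMap R S (t : R)) := IsLocalization.map_units S t
        exact q.isPrime.ne_top (Ideal.eq_top_of_isUnit_mem _ h7 htu)
    · have hbc : IsBaseChange S (LocalizedModule.mkLinearMap (Submonoid.powers f) M) :=
        IsLocalizedModule.isBaseChange (Submonoid.powers f) S _
      let e : K ⊗[S] C ≃ₗ[K] K ⊗[R] M :=
        (AlgebraTensorModule.congr (LinearEquiv.refl K K) hbc.equiv.symm) ≪≫ₗ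
          AlgebraTensorModule.cancelBaseChange R S K K M
      rw [e.finrank_eq]
      exact hc₀
  have hπinj : Function.Injective π :=
    Groth.Agent.Helper12.RedConst.injective_of_fibres π hπ H
  exact Module.Free.of_equiv (LinearEquiv.ofBijective π ⟨hπinj, hπ⟩)

theorem fp_of_locConst (R : Type u) [CommRing R] [IsReduced R] (M : Type u) [AddCommGroup M]
    [Module R M] [Module.Finite R M]
    (hlc : IsLocallyConstant (fun p : PrimeSpectrum R =>
      Module.finrank p.asIdeal.ResidueField (p.asIdeal.ResidueField ⊗[R] M))) :
    Module.FinitePresentation R M := by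
  classical
  let s : Set R := {f | Module.Free (Localization.Away f) (LocalizedModule (Submonoid.powers f) M)}
  have hs : Ideal.span s = ⊤ := by
    by_contra hne
    obtain ⟨m, hm, hle⟩ := Ideal.exists_le_maximal _ hne
    obtain ⟨f, hfm, hfs⟩ := key R M hlc ⟨m, hm.isPrime⟩
    exact hfm (hle (Ideal.subset_span hfs))
  refine Module.FinitePresentation.of_localizationSpan s hs ?_
  rintro ⟨g, hg⟩
  have : Module.Free (Localization.Away g) (LocalizedModule (Submonoid.powers g) M) := hg
  exact Module.finitePresentation_of_projective _ _


/-- Let R be a reduced ring and M an R-module. Then M is a finite projective R-module if and only if M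
is finitely generated and the function on Spec R sending a prime p to the dimension of κ(p) ⊗ M over
the residue field κ(p) is locally constant for the Zariski topology. -/
theorem result (R : Type u) [CommRing R] [IsReduced R] (M : Type u) [AddCommGroup M] [Module R M] : (Module.Finite R M ∧ Module.Projective R M) ↔ (Module.Finite R M ∧ IsLocallyConstant (fun p : PrimeSpectrum R => Module.finrank p.asIdeal.ResidueField (p.asIdeal.ResidueField ⊗[R] M))) := by
  constructor
  · rintro ⟨hfin, hproj⟩
    refine ⟨hfin, ?_⟩
    have hfp : Module.FinitePresentation R M := Module.finitePresentation_of_projective R M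
    have h := Module.isLocallyConstant_rankAtStalk (R := R) (M := M)
    have e : (fun p : PrimeSpectrum R => Module.finrank p.asIdeal.ResidueField
        (p.asIdeal.ResidueField ⊗[R] M)) = Module.rankAtStalk (R := R) M := by
      funext p
      exact (Module.rankAtStalk_eq p).symm
    rw [e]
    exact h
  · rintro ⟨hfin, hlc⟩
    refine ⟨hfin, ?_⟩
    have hfp : Module.FinitePresentation R M := fp_of_locConst R M hlc
    exact Groth.Agent.Helper12.RedConst.projective_of_isLocallyConstant hlc

end Groth.Agent.S6266
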