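import Groth.Statements.S6269
import Mathlib

set_option autoImplicit false
universe u
open CAlg

namespace Groth.Agent.S6269

open TensorProduct

theorem sq {R : Type u} [CommRing R] {A B N N' : Type u} [AddCommGroup A] [Module R A]
    [AddCommGroup B] [Module R B] [AddCommGroup N] [Module R N] [AddCommGroup N'] [Module R N']
    (f : A →ₗ[R] B) (i : N →ₗ[R] N') (x : A ⊗[R] N) :
    i.lTensor B (f.rTensor N x) = f.rTensor N' (i.lTensor A x) := by
  rw [← LinearMap.comp_apply, ← LinearMap.comp_apply, LinearMap.lTensor_comp_rTensor,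
    LinearMap.rTensor_comp_lTensor]

theorem flat_left {R : Type u} [CommRing R] {M₁ M₂ : Type u} [AddCommGroup M₁] [Module R M₁]
    [AddCommGroup M₂] [Module R M₂] (f : M₁ →ₗ[R] M₂)
    (hf : CAlgX.UniversallyInjective R f) [Module.Flat R M₂] : Module.Flat R M₁ := by
  rw [Module.Flat.iff_lTensor_preserves_injective_linearMap]
  intro N N' _ _ _ _ i hi
  have h1 : Function.Injective ((f.rTensor N') ∘ₗ (i.lTensor M₁)) := by
    rw [LinearMap.rTensor_comp_lTensor, ← LinearMap.lTensor_comp_rTensor, LinearMap.coe_comp]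
    exact (Module.Flat.lTensor_preserves_injective_linearMap i hi).comp (hf N)
  rw [LinearMap.coe_comp] at h1
  exact Function.Injective.of_comp h1

theorem flat_right {R : Type u} [CommRing R] {M₁ M₂ M₃ : Type u} [AddCommGroup M₁] [Module R M₁]
    [AddCommGroup M₂] [Module R M₂] [AddCommGroup M₃] [Module R M₃] (f : M₁ →ₗ[R] M₂)
    (g : M₂ →ₗ[R] M₃) (hexact : Function.Exact f g) (hg : Function.Surjective g)
    (hf : CAlgX.UniversallyInjective R f) [Module.Flat R M₂] : Module.Flat R M₃ := by
  rw [Module.Flat.iff_lTensor_preserves_injective_linearMap]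
  intro N N' _ _ _ _ i hi
  rw [injective_iff_map_eq_zero]
  intro x hx
  obtain ⟨y, rfl⟩ := LinearMap.rTensor_surjective N hg x
  have hα₂ := Module.Flat.lTensor_preserves_injective_linearMap (M := M₂) i hi
  rw [sq] at hx
  obtain ⟨z', hz'⟩ := (rTensor_exact N' hexact hg _).1 hx
  let π := (LinearMap.range i).mkQ
  have hπ : Function.Exact i π := LinearMap.exact_map_mkQ_range i
  have hπs : Function.Surjective π := Submodule.mkQ_surjective _
  have h2 : π.lTensor M₁ z' = 0 := by
    apply hf
    rw [← sq, hz', map_zero]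
    rw [← LinearMap.comp_apply, ← LinearMap.lTensor_comp]
    have : π ∘ₗ i = 0 := hπ.linearMap_comp_eq_zero
    rw [this, LinearMap.lTensor_zero, LinearMap.zero_apply]
  obtain ⟨z, rfl⟩ := (lTensor_exact M₁ hπ hπs _).1 h2
  rw [← sq] at hz'
  have h3 := hα₂ hz'
  rw [← h3, ← LinearMap.comp_apply, ← LinearMap.rTensor_comp]
  have : g ∘ₗ f = 0 := hexact.linearMap_comp_eq_zero
  rw [this, LinearMap.rTensor_zero, LinearMap.zero_apply]

/-- Let 0 → M₁ → M₂ → M₃ → 0 be a universally exact sequence of R-modules (a short exact sequence whose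
first map is universally injective) with M₂ flat. Then M₁ and M₃ are flat. -/
theorem result {R : Type u} [CommRing R] {M₁ M₂ M₃ : Type u} [AddCommGroup M₁] [Module R M₁] [AddCommGroup M₂] [Module R M₂] [AddCommGroup M₃] [Module R M₃] (f : M₁ →ₗ[R] M₂) (g : M₂ →ₗ[R] M₃) (hexact : Function.Exact f g) (hg : Function.Surjective g) (hf : CAlgX.UniversallyInjective R f) [Module.Flat R M₂] : Module.Flat R M₁ ∧ Module.Flat R M₃ := by
  exact ⟨flat_left f hf, flat_right f g hexact hg hf⟩

end Groth.Agent.S6269
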