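import Groth.Statements.S6305
import Groth.Agent.S6269

set_option autoImplicit false
universe u
open CAlg

namespace Groth.Agent.S6305

open TensorProduct

theorem chase {R : Type u} [CommRing R] {M₁ M₂ M : Type u} [AddCommGroup M₁] [Module R M₁]
    [AddCommGroup M₂] [Module R M₂] [AddCommGroup M] [Module R M] [Module.Flat R M]
    (f : M₁ →ₗ[R] M₂) (g : M₂ →ₗ[R] M) (hf : Function.Injective f) (hexact : Function.Exact f g)
    (hg : Function.Surjective g) {F Q : Type u}
    [AddCommGroup F] [Module R F] [AddCommGroup Q] [Module R Q] [Module.Flat R F]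
    (p : F →ₗ[R] Q)
    (hp : Function.Surjective p) : Function.Injective (f.rTensor Q) := by
  let j := (LinearMap.ker p).subtype
  have hj : Function.Injective j := Submodule.injective_subtype _
  have hjp : Function.Exact j p := LinearMap.exact_subtype_ker_map _
  have hfF : Function.Injective (f.rTensor F) :=
    Module.Flat.rTensor_preserves_injective_linearMap f hf
  have hjM : Function.Injective (j.lTensor M) :=
    Module.Flat.lTensor_preserves_injective_linearMap j hj
  rw [injective_iff_map_eq_zero]
  intro x hx
  obtain ⟨xF, rfl⟩ := LinearMap.lTensor_surjective M₁ hp x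
  rw [← Groth.Agent.S6269.sq] at hx
  obtain ⟨yK, hyK⟩ := (lTensor_exact M₂ hjp hp _).1 hx
  have h1 : g.rTensor (LinearMap.ker p) yK = 0 := by
    apply hjM
    rw [map_zero, Groth.Agent.S6269.sq, hyK, ← LinearMap.comp_apply, ← LinearMap.rTensor_comp]
    have : g ∘ₗ f = 0 := hexact.linearMap_comp_eq_zero
    rw [this, LinearMap.rTensor_zero, LinearMap.zero_apply]
  obtain ⟨zK, rfl⟩ := (rTensor_exact (LinearMap.ker p) hexact hg _).1 h1
  rw [Groth.Agent.S6269.sq] at hyK
  have h2 := hfF hyK
  rw [← h2, ← LinearMap.comp_apply, ← LinearMap.lTensor_comp]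
  have : p ∘ₗ j = 0 := hjp.linearMap_comp_eq_zero
  rw [this, LinearMap.lTensor_zero, LinearMap.zero_apply]

theorem univInj_of_flat {R : Type u} [CommRing R] {M₁ M₂ M : Type u} [AddCommGroup M₁] [Module R M₁]
    [AddCommGroup M₂] [Module R M₂] [AddCommGroup M] [Module R M] [Module.Flat R M]
    (f : M₁ →ₗ[R] M₂) (g : M₂ →ₗ[R] M) (hf : Function.Injective f) (hexact : Function.Exact f g)
    (hg : Function.Surjective g) : CAlgX.UniversallyInjective R f := by
  intro Q _ _
  exact chase f g hf hexact hg
    (Finsupp.linearCombination R (id : Q → Q)) (Finsupp.linearCombination_id_surjective R Q)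

theorem flat_of_forall {R : Type u} [CommRing R] (M : Type u) [AddCommGroup M] [Module R M]
    (h : CAlgX.UniversallyInjective R (M := ↥(LinearMap.ker (Finsupp.linearCombination R (id : M → M))))
      (LinearMap.ker (Finsupp.linearCombination R (id : M → M))).subtype) : Module.Flat R M :=
  Groth.Agent.S6269.flat_right (M₁ := ↥(LinearMap.ker (Finsupp.linearCombination R (id : M → M))))
    (LinearMap.ker (Finsupp.linearCombination R (id : M → M))).subtype
    (Finsupp.linearCombination R (id : M → M))
    (LinearMap.exact_subtype_ker_map _) (Finsupp.linearCombination_id_surjective R M) h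

/-- An R-module M is flat exactly when every short exact sequence 0 → M₁ → M₂ → M → 0 of R-modules is
universally exact, i.e. its first map M₁ → M₂ is universally injective. -/
theorem result {R : Type u} [CommRing R] (M : Type u) [AddCommGroup M] [Module R M] : Module.Flat R M ↔ ∀ (M₁ M₂ : Type u) [AddCommGroup M₁] [Module R M₁] [AddCommGroup M₂] [Module R M₂] (f : M₁ →ₗ[R] M₂) (g : M₂ →ₗ[R] M), Function.Injective f → Function.Exact f g → Function.Surjective g → CAlgX.UniversallyInjective R f := by
  constructor
  · intro h M₁ M₂ _ _ _ _ f g hf hexact hg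
    exact univInj_of_flat f g hf hexact hg
  · intro h
    have h1 := h (↥(LinearMap.ker (Finsupp.linearCombination R (id : M → M)))) (M →₀ R)
      (LinearMap.ker (Finsupp.linearCombination R (id : M → M))).subtype
      (Finsupp.linearCombination R (id : M → M)) (Submodule.injective_subtype _)
      (LinearMap.exact_subtype_ker_map _) (Finsupp.linearCombination_id_surjective R M)
    exact flat_of_forall M h1

end Groth.Agent.S6305
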