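import Groth.Statements.S6267
import Groth.Agent.S6305

set_option autoImplicit false
universe u
open CAlg

namespace Groth.Agent.S6267

open TensorProduct

theorem inj_of_bot {R : Type u} [CommRing R] {M M' : Type u} [AddCommGroup M] [Module R M]
    [AddCommGroup M'] [Module R M'] (f : M →ₗ[R] M')
    (h : Function.Injective (f.rTensor (R ⧸ (⊥ : Ideal R)))) : Function.Injective f := by
  let e : R ≃ₗ[R] (R ⧸ (⊥ : Ideal R)) := (Submodule.quotEquivOfEqBot (⊥ : Ideal R) rfl).symm
  have h1 : Function.Injective (f.rTensor R) := by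
    have hcomp : Function.Injective ((f.rTensor (R ⧸ (⊥ : Ideal R))) ∘ₗ (e.toLinearMap.lTensor M)) := by
      rw [LinearMap.coe_comp]
      exact h.comp (e.lTensor M).injective
    rw [LinearMap.rTensor_comp_lTensor, ← LinearMap.lTensor_comp_rTensor, LinearMap.coe_comp] at hcomp
    exact Function.Injective.of_comp hcomp
  intro x y hxy
  have : f.rTensor R (x ⊗ₜ 1) = f.rTensor R (y ⊗ₜ 1) := by simp [hxy]
  have h2 := h1 this
  have h3 := congrArg (TensorProduct.rid R M) h2
  simpa using h3

theorem flat_coker {R : Type u} [CommRing R] {M M' : Type u} [AddCommGroup M] [Module R M]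
    [AddCommGroup M'] [Module R M'] [Module.Flat R M'] (f : M →ₗ[R] M')
    (h : ∀ I : Ideal R, I.FG → Function.Injective (f.rTensor (R ⧸ I))) :
    Module.Flat R (M' ⧸ LinearMap.range f) := by
  rw [Module.Flat.iff_lTensor_injective]
  intro I hI
  let g := (LinearMap.range f).mkQ
  have hexact : Function.Exact f g := LinearMap.exact_map_mkQ_range f
  have hg : Function.Surjective g := Submodule.mkQ_surjective _
  let ι : I →ₗ[R] R := I.subtype
  let π : R →ₗ[R] R ⧸ I := I.mkQ
  have hιπ : Function.Exact ι π := LinearMap.exact_subtype_mkQ I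
  have hπ : Function.Surjective π := Submodule.mkQ_surjective _
  rw [injective_iff_map_eq_zero]
  intro c hc
  obtain ⟨m', rfl⟩ := LinearMap.rTensor_surjective I hg c
  change ι.lTensor _ (g.rTensor I m') = 0 at hc
  rw [Groth.Agent.S6269.sq] at hc
  obtain ⟨m, hm⟩ := (rTensor_exact R hexact hg _).1 hc
  have h1 : π.lTensor M m = 0 := by
    apply h I hI
    rw [map_zero, ← Groth.Agent.S6269.sq, hm, ← LinearMap.comp_apply, ← LinearMap.lTensor_comp]
    have : π ∘ₗ ι = 0 := hιπ.linearMap_comp_eq_zero
    rw [this, LinearMap.lTensor_zero, LinearMap.zero_apply]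
  obtain ⟨n, rfl⟩ := (lTensor_exact M hιπ hπ _).1 h1
  rw [← Groth.Agent.S6269.sq] at hm
  have h2 := Module.Flat.lTensor_preserves_injective_linearMap (M := M') ι I.injective_subtype hm
  rw [← h2, ← LinearMap.comp_apply, ← LinearMap.rTensor_comp]
  have : g ∘ₗ f = 0 := hexact.linearMap_comp_eq_zero
  rw [this, LinearMap.rTensor_zero, LinearMap.zero_apply]

/-- Let R be a ring and f : M → M' a map of R-modules with M' flat. Then f is universally injective
exactly when, for each finitely generated ideal I of R, the induced map M ⊗ R/I → M' ⊗ R/I (that is,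
M/IM → M'/IM') is injective. -/
theorem result {R : Type u} [CommRing R] {M M' : Type u} [AddCommGroup M] [Module R M] [AddCommGroup M'] [Module R M'] [Module.Flat R M'] (f : M →ₗ[R] M') : CAlgX.UniversallyInjective R f ↔ ∀ I : Ideal R, I.FG → Function.Injective (f.rTensor (R ⧸ I)) := by
  constructor
  · intro h I _
    exact h _
  · intro h
    have hflat := flat_coker f h
    exact Groth.Agent.S6305.univInj_of_flat f (LinearMap.range f).mkQ
      (inj_of_bot f (h ⊥ Submodule.fg_bot)) (LinearMap.exact_map_mkQ_range f)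
      (Submodule.mkQ_surjective _)

end Groth.Agent.S6267
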