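import Groth.Statements.S6268
import Mathlib

set_option autoImplicit false
universe u
open CAlg

namespace Groth.Agent.S6268

open TensorProduct

theorem one_tmul_inj {R S : Type u} [CommRing R] [CommRing S] [Algebra R S]
    (hS : CAlgX.UniversallyInjective R (Algebra.linearMap R S)) (M : Type u) [AddCommGroup M]
    [Module R M] (m : M) (h : (1 : S) ⊗ₜ[R] m = 0) : m = 0 := by
  have h1 : (Algebra.linearMap R S).rTensor M ((1 : R) ⊗ₜ[R] m) = 0 := by
    simpa using h
  have h2 := hS M (by rw [h1, map_zero] : (Algebra.linearMap R S).rTensor M ((1 : R) ⊗ₜ[R] m) =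
    (Algebra.linearMap R S).rTensor M 0)
  have h3 := congrArg (TensorProduct.lid R M) h2
  simpa using h3

/-- Suppose the structure map R → S of an R-algebra S is universally injective as an R-linear map. Then
tensoring with S detects injectivity and surjectivity of R-linear maps (and hence reflects
isomorphisms): for an R-linear g : M → N, if S ⊗ g is injective then so is g, and if S ⊗ g is
surjective then so is g. -/
theorem result {R S : Type u} [CommRing R] [CommRing S] [Algebra R S] (hS : CAlgX.UniversallyInjective R (Algebra.linearMap R S)) {M N : Type u} [AddCommGroup M] [Module R M] [AddCommGroup N] [Module R N] (g : M →ₗ[R] N) : (Function.Injective (g.lTensor S) → Function.Injective g) ∧ (Function.Surjective (g.lTensor S) → Function.Surjective g) := by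
  constructor
  · intro h
    rw [injective_iff_map_eq_zero]
    intro m hm
    apply one_tmul_inj hS M
    apply h
    rw [map_zero, LinearMap.lTensor_tmul, hm, TensorProduct.tmul_zero]
  · intro h
    rw [← LinearMap.range_eq_top, ← Submodule.Quotient.subsingleton_iff]
    constructor
    intro a b
    have key : ∀ c : N ⧸ LinearMap.range g, c = 0 := by
      intro c
      apply one_tmul_inj hS _
      obtain ⟨n, rfl⟩ := Submodule.mkQ_surjective _ c
      have hex : Function.Exact (g.lTensor S) ((LinearMap.range g).mkQ.lTensor S) :=
        lTensor_exact S (LinearMap.exact_map_mkQ_range g) (Submodule.mkQ_surjective _)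
      obtain ⟨y, hy⟩ := h ((1 : S) ⊗ₜ[R] n)
      have := (hex ((1 : S) ⊗ₜ[R] n)).2 ⟨y, hy⟩
      simpa using this
    rw [key a, key b]

end Groth.Agent.S6268
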