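import Groth.Statements.S6270
import Mathlib

set_option autoImplicit false
universe u
open scoped TensorProduct
open CAlg

namespace Groth.Agent.S6270
open scoped TensorProduct

theorem ker_inf_smul_le {R : Type u} [CommRing R] (I : Ideal R) {E M : Type u} [AddCommGroup E]
    [Module R E] [AddCommGroup M] [Module R M] [Module.Flat R M] (π : E →ₗ[R] M)
    (hπ : Function.Surjective π) :
    LinearMap.ker π ⊓ I • (⊤ : Submodule R E) ≤ I • LinearMap.ker π := by
  rintro x ⟨hx1, hx2⟩
  set μE : I ⊗[R] E →ₗ[R] E := TensorProduct.lift ((LinearMap.lsmul R E).comp I.subtype) with hμE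
  set μM : I ⊗[R] M →ₗ[R] M := TensorProduct.lift ((LinearMap.lsmul R M).comp I.subtype) with hμM
  have hinj : Function.Injective μM := by
    have h1 := (TensorProduct.lid R M).injective.comp
      ((Module.Flat.iff_rTensor_injective' (R := R) (M := M)).1 inferInstance I)
    have h2 : μM = (TensorProduct.lid R M).toLinearMap ∘ₗ (LinearMap.rTensor M I.subtype) := by
      rw [hμM, LinearMap.lid_comp_rTensor]
    rw [h2]
    exact h1
  have hnat : ∀ t, μM (LinearMap.lTensor I π t) = π (μE t) := by
    intro t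
    induction t using TensorProduct.induction_on with
    | zero => simp
    | tmul a e => simp [hμE, hμM]
    | add x y hx hy => simp only [map_add, hx, hy]
  obtain ⟨t, ht⟩ : ∃ t, μE t = x := by
    refine Submodule.smul_induction_on hx2 ?_ ?_
    · intro r hr e _
      exact ⟨⟨r, hr⟩ ⊗ₜ e, by simp [hμE]⟩
    · rintro _ _ ⟨t1, rfl⟩ ⟨t2, rfl⟩
      exact ⟨t1 + t2, map_add _ _ _⟩
  have h0 : LinearMap.lTensor I π t = 0 := by
    apply hinj
    rw [hnat, ht, map_zero]
    exact hx1
  have hex : Function.Exact (LinearMap.lTensor I (LinearMap.ker π).subtype) (LinearMap.lTensor I π) :=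
    lTensor_exact I (LinearMap.exact_subtype_ker_map π) hπ
  obtain ⟨t', rfl⟩ := (hex t).1 h0
  rw [← ht]
  clear ht h0
  induction t' using TensorProduct.induction_on with
  | zero => simp
  | tmul a k =>
    simp only [LinearMap.lTensor_tmul, Submodule.subtype_apply, hμE, TensorProduct.lift.tmul,
      LinearMap.comp_apply, LinearMap.lsmul_apply]
    exact Submodule.smul_mem_smul a.2 k.2
  | add x y hx hy =>
    simp only [map_add]
    exact Submodule.add_mem _ hx hy


theorem baseB {R : Type u} [CommRing R] (I : Ideal R) {E M : Type u} [AddCommGroup E]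
    [Module R E] [AddCommGroup M] [Module R M] [Module.Flat R M]
    (hproj : Module.Projective (R ⧸ I) ((R ⧸ I) ⊗[R] M))
    (π : E →ₗ[R] M)
    (hπ : Function.Surjective π) (hK : I • LinearMap.ker π = ⊥) :
    ∃ σ : M →ₗ[R] E, π ∘ₗ σ = LinearMap.id := by
  set K := LinearMap.ker π with hKdef
  -- section of the base change
  have hsurj : Function.Surjective (π.baseChange (R ⧸ I)) := by
    rw [LinearMap.baseChange_eq_ltensor]
    exact LinearMap.lTensor_surjective _ hπ
  obtain ⟨sb, hsb⟩ := Module.projective_lifting_property (π.baseChange (R ⧸ I)) LinearMap.id hsurj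
  set fb : K →ₗ[R] (R ⧸ I) ⊗[R] E := (TensorProduct.mk R (R ⧸ I) E 1) ∘ₗ K.subtype with hfb
  set gb : (R ⧸ I) ⊗[R] E →ₗ[R] (R ⧸ I) ⊗[R] M := LinearMap.lTensor (R ⧸ I) π with hgb
  have hone : ∀ z : (R ⧸ I) ⊗[R] K, ∃ v, z = 1 ⊗ₜ v := by
    intro z
    induction z using TensorProduct.induction_on with
    | zero => exact ⟨0, by simp⟩
    | tmul a v =>
      obtain ⟨r, rfl⟩ := Ideal.Quotient.mk_surjective a
      refine ⟨r • v, ?_⟩
      rw [TensorProduct.tmul_smul, TensorProduct.smul_tmul']
      congr 1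
      simp [Algebra.smul_def]
    | add x y hx hy =>
      obtain ⟨v, rfl⟩ := hx
      obtain ⟨w, rfl⟩ := hy
      exact ⟨v + w, by rw [TensorProduct.tmul_add]⟩
  have hex : Function.Exact fb gb := by
    have hex0 : Function.Exact (LinearMap.lTensor (R ⧸ I) K.subtype) gb :=
      lTensor_exact (R ⧸ I) (LinearMap.exact_subtype_ker_map π) hπ
    intro y
    rw [hex0 y]
    constructor
    · rintro ⟨z, rfl⟩
      obtain ⟨v, rfl⟩ := hone z
      exact ⟨v, by simp [hfb]⟩
    · rintro ⟨v, rfl⟩
      exact ⟨1 ⊗ₜ v, by simp [hfb]⟩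
  have hfb_inj : Function.Injective fb := by
    rw [← LinearMap.ker_eq_bot, LinearMap.ker_eq_bot']
    intro k hk
    have h1 : (k : E) ∈ I • (⊤ : Submodule R E) := by
      have := congrArg (TensorProduct.quotTensorEquivQuotSMul E I) hk
      simp only [hfb, LinearMap.comp_apply, Submodule.subtype_apply, TensorProduct.mk_apply,
        map_zero] at this
      rw [← map_one (Ideal.Quotient.mk I), TensorProduct.quotTensorEquivQuotSMul_mk_tmul] at this
      simpa [Submodule.Quotient.mk_eq_zero] using this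
    have h2 : (k : E) ∈ I • K := ker_inf_smul_le I π hπ ⟨k.2, h1⟩
    rw [hK] at h2
    exact Subtype.ext h2
  have hgb_surj : Function.Surjective gb := LinearMap.lTensor_surjective _ hπ
  have hsec : ∃ l, gb ∘ₗ l = LinearMap.id := by
    refine ⟨sb.restrictScalars R, ?_⟩
    apply LinearMap.ext
    intro x
    have := LinearMap.congr_fun hsb x
    simpa [hgb, LinearMap.baseChange_eq_ltensor] using this
  obtain ⟨l, hl⟩ := ((hex.split_tfae hfb_inj hgb_surj).out 0 1).1 hsec
  have hret : ∃ ρ, ρ ∘ₗ K.subtype = LinearMap.id := by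
    refine ⟨l ∘ₗ (TensorProduct.mk R (R ⧸ I) E 1), ?_⟩
    rw [LinearMap.comp_assoc]
    exact hl
  exact (((LinearMap.exact_subtype_ker_map π).split_tfae K.injective_subtype hπ).out 1 0).1 hret


theorem indP {R : Type u} [CommRing R] (I : Ideal R) {M : Type u} 
    [AddCommGroup M] [Module R M] [Module.Flat R M]
    (hproj : Module.Projective (R ⧸ I) ((R ⧸ I) ⊗[R] M)) (n : ℕ) :
    ∀ (E : Type u) [AddCommGroup E] [Module R E] (π : E →ₗ[R] M),
    Function.Surjective π → I ^ n • LinearMap.ker π = ⊥ →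
    ∃ σ : M →ₗ[R] E, π ∘ₗ σ = LinearMap.id := by
  induction n with
  | zero =>
    intro E _ _ π hπ hK
    have hK' : LinearMap.ker π = ⊥ := by simpa using hK
    refine ⟨(LinearEquiv.ofBijective π ⟨LinearMap.ker_eq_bot.1 hK', hπ⟩).symm.toLinearMap, ?_⟩
    ext m
    exact (LinearEquiv.ofBijective π ⟨LinearMap.ker_eq_bot.1 hK', hπ⟩).apply_symm_apply m
  | succ n ih =>
    intro E _ _ π hπ hK
    set N := LinearMap.ker π with hN
    set N' := I ^ n • N with hN'
    have hle : N' ≤ LinearMap.ker π := Submodule.smul_le_right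
    set πb : E ⧸ N' →ₗ[R] M := N'.liftQ π hle with hπb
    have hπb_surj : Function.Surjective πb := by
      intro m
      obtain ⟨e, rfl⟩ := hπ m
      exact ⟨N'.mkQ e, by simp [hπb]⟩
    have hkerb : I ^ n • LinearMap.ker πb = ⊥ := by
      rw [hπb, Submodule.ker_liftQ, ← Submodule.map_smul'', ← hN, ← hN', Submodule.mkQ_map_self]
    obtain ⟨σ₁, hσ₁⟩ := ih (E ⧸ N') πb hπb_surj hkerb
    have hσ₁' : ∀ m, πb (σ₁ m) = m := fun m => LinearMap.congr_fun hσ₁ m
    set E' : Submodule R E := (LinearMap.range σ₁).comap N'.mkQ with hE'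
    set π' : E' →ₗ[R] M := π ∘ₗ E'.subtype with hπ'
    have hπ'_surj : Function.Surjective π' := by
      intro m
      obtain ⟨e, he⟩ := N'.mkQ_surjective (σ₁ m)
      refine ⟨⟨e, ⟨m, he.symm⟩⟩, ?_⟩
      have : π e = πb (N'.mkQ e) := by simp [hπb]
      simp only [hπ', LinearMap.comp_apply, Submodule.subtype_apply]
      rw [this, he, hσ₁']
    have hker' : ∀ x ∈ LinearMap.ker π', (x : E) ∈ N' := by
      rintro ⟨x, m, hm⟩ hx
      have hx' : π x = 0 := hx
      have : π x = πb (N'.mkQ x) := by simp [hπb]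
      rw [this, ← hm, hσ₁'] at hx'
      rw [hx', map_zero] at hm
      have : N'.mkQ x = 0 := hm.symm
      simpa [Submodule.Quotient.mk_eq_zero] using this
    have hK' : I • LinearMap.ker π' = ⊥ := by
      rw [eq_bot_iff, Submodule.smul_le]
      intro r hr x hx
      rw [Submodule.mem_bot]
      apply Subtype.ext
      have h1 : r • (x : E) ∈ I • N' := Submodule.smul_mem_smul hr (hker' x hx)
      rw [hN', ← Submodule.mul_smul, ← pow_succ', hK] at h1
      simpa using h1
    obtain ⟨σ', hσ'⟩ := baseB I hproj π' hπ'_surj hK'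
    refine ⟨E'.subtype ∘ₗ σ', ?_⟩
    rw [← LinearMap.comp_assoc]
    exact hσ'

theorem main {R : Type u} [CommRing R] (I : Ideal R) (hI : IsNilpotent I) (M : Type u) [AddCommGroup M] [Module R M] [Module.Flat R M] (hproj : Module.Projective (R ⧸ I) ((R ⧸ I) ⊗[R] M)) : Module.Projective R M := by
  obtain ⟨n, hn⟩ := hI
  obtain ⟨σ, hσ⟩ := indP I hproj n (M →₀ R) (Finsupp.linearCombination R id)
    (Finsupp.linearCombination_id_surjective R M) (by rw [hn]; simp)
  exact Module.Projective.of_split σ _ hσ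



/-- Let R be a ring, I ⊆ R a nilpotent ideal and M an R-module. If M is flat over R and M/IM (that is,
R/I ⊗ M) is a projective R/I-module, then M is a projective R-module. -/
theorem result {R : Type u} [CommRing R] (I : Ideal R) (hI : IsNilpotent I) (M : Type u) [AddCommGroup M] [Module R M] [Module.Flat R M] (hproj : Module.Projective (R ⧸ I) ((R ⧸ I) ⊗[R] M)) : Module.Projective R M := by
  exact main I hI M hproj

end Groth.Agent.S6270
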