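import Groth.Statements.S6271
import Mathlib

set_option autoImplicit false
universe u
open scoped TensorProduct
open CAlg

namespace Groth.Agent.S6271
open scoped TensorProduct

theorem matrix_nilp {R : Type u} [CommRing R] (I : Ideal R) (hI : ∀ x ∈ I, IsNilpotent x)
    {n : ℕ} (M : Matrix (Fin n) (Fin n) R) (hM : ∀ i j, M i j ∈ I) : IsNilpotent M := by
  classical
  set J : Ideal R := Ideal.span (Set.range fun p : Fin n × Fin n => M p.1 p.2) with hJ
  have hfg : J.FG := ⟨(Finset.univ.image fun p : Fin n × Fin n => M p.1 p.2), by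
    simp [hJ]⟩
  have hle : J ≤ nilradical R := by
    rw [hJ, Ideal.span_le]
    rintro _ ⟨p, rfl⟩
    exact hI _ (hM _ _)
  obtain ⟨k, hk⟩ := (Ideal.FG.isNilpotent_iff_le_nilradical hfg).2 hle
  have key : ∀ k : ℕ, ∀ i j, (M ^ k) i j ∈ J ^ k := by
    intro k
    induction k with
    | zero => intro i j; simp
    | succ k ih =>
      intro i j
      have e1 : M ^ (k+1) = M ^ k * M := pow_succ _ _
      have e2 : J ^ (k+1) = J ^ k * J := pow_succ _ _
      rw [e1, e2, Matrix.mul_apply]
      refine Ideal.sum_mem _ fun l _ => Ideal.mul_mem_mul (ih i l) ?_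
      exact Ideal.subset_span ⟨(l, j), rfl⟩
  refine ⟨k, ?_⟩
  ext i j
  have := key k i j
  rw [hk] at this
  simpa using this


theorem main2 {R : Type u} [CommRing R] (I : Ideal R) (Pb : Type u) [AddCommGroup Pb] [Module (R ⧸ I) Pb] 
    (n : ℕ) (f : (Fin n → R ⧸ I) →ₗ[R ⧸ I] Pb) (s : Pb →ₗ[R ⧸ I] (Fin n → R ⧸ I))
    (hs : f ∘ₗ s = LinearMap.id)
    (E : Matrix (Fin n) (Fin n) R) (hE : IsIdempotentElem E)
    (hEe : (Ideal.Quotient.mk I).mapMatrix E = LinearMap.toMatrix' (s ∘ₗ f)) :
    ∃ (P : Type u) (_ : AddCommGroup P) (_ : Module R P), Module.Projective R P ∧ Module.Finite R P ∧ Nonempty (((R ⧸ I) ⊗[R] P) ≃ₗ[R ⧸ I] Pb) := by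
  classical
  let _ : Module R Pb := Module.compHom Pb (Ideal.Quotient.mk I)
  have : IsScalarTower R (R ⧸ I) Pb := IsScalarTower.of_algebraMap_smul fun r x => rfl
  set L : (Fin n → R) →ₗ[R] (Fin n → R) := Matrix.toLin' E with hL
  have hLL : ∀ v, L (L v) = L v := by
    intro v
    rw [hL, ← LinearMap.comp_apply, ← Matrix.toLin'_mul, hE.eq]
  set md : (Fin n → R) →ₗ[R] (Fin n → R ⧸ I) := (Algebra.linearMap R (R ⧸ I)).compLeft (Fin n) with hmd
  have hmdL : ∀ v, md (L v) = s (f (md v)) := by
    intro v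
    have h1 : s ∘ₗ f = Matrix.toLin' ((Ideal.Quotient.mk I).mapMatrix E) := by
      rw [hEe, Matrix.toLin'_toMatrix']
    have h2 : s (f (md v)) = (s ∘ₗ f) (md v) := rfl
    rw [h2, h1]
    ext i
    simp only [hmd, hL, Matrix.toLin'_apply, LinearMap.compLeft_apply, Function.comp_apply,
      Algebra.linearMap_apply, Ideal.Quotient.algebraMap_eq, RingHom.mapMatrix_apply]
    rw [RingHom.map_mulVec]
    rfl
  refine ⟨LinearMap.range L, inferInstance, inferInstance, ?_, ?_, ?_⟩
  · refine Module.Projective.of_split (LinearMap.range L).subtype L.rangeRestrict ?_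
    ext ⟨v, w, rfl⟩
    simp [hLL]
  · infer_instance
  · set g : LinearMap.range L →ₗ[R] Pb := (f.restrictScalars R) ∘ₗ md ∘ₗ (LinearMap.range L).subtype with hg
    set G : (R ⧸ I) ⊗[R] (LinearMap.range L) →ₗ[R ⧸ I] Pb := LinearMap.liftBaseChange (R ⧸ I) g with hG
    have hone : ∀ z : (R ⧸ I) ⊗[R] (LinearMap.range L), ∃ v, z = 1 ⊗ₜ v := by
      intro z
      induction z using TensorProduct.induction_on with
      | zero => exact ⟨0, by simp⟩
      | tmul a v =>
        obtain ⟨r, rfl⟩ := Ideal.Quotient.mk_surjective a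
        refine ⟨r • v, ?_⟩
        rw [TensorProduct.tmul_smul, TensorProduct.smul_tmul']
        congr 1
        simp [Algebra.smul_def]
      | add x y hx hy =>
        obtain ⟨v, rfl⟩ := hx
        obtain ⟨w, rfl⟩ := hy
        exact ⟨v + w, by rw [TensorProduct.tmul_add]⟩
    refine ⟨LinearEquiv.ofBijective G ⟨?_, ?_⟩⟩
    · rw [← LinearMap.ker_eq_bot, LinearMap.ker_eq_bot']
      intro z hz
      obtain ⟨⟨v, hv⟩, rfl⟩ := hone z
      have hLv : L v = v := by
        obtain ⟨w, rfl⟩ := hv
        exact hLL w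
      have h0 : f (md v) = 0 := by
        simpa [hG, hg] using hz
      have h1 : md v = 0 := by
        rw [← hLv, hmdL, h0, map_zero]
      have h2 : ∀ j, v j ∈ I := by
        intro j
        have := congr_fun h1 j
        simpa [hmd, Ideal.Quotient.eq_zero_iff_mem] using this
      have h3 : (⟨v, hv⟩ : LinearMap.range L) = ∑ j, v j • L.rangeRestrict (Pi.single j 1) := by
        apply Subtype.ext
        simp only [Submodule.coe_sum, Submodule.coe_smul]
        conv_lhs => rw [← hLv, pi_eq_sum_univ' v]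
        simp only [map_sum, map_smul]
        rfl
      rw [h3, TensorProduct.tmul_sum]
      refine Finset.sum_eq_zero fun j _ => ?_
      rw [TensorProduct.tmul_smul, TensorProduct.smul_tmul']
      have : (v j • (1 : R ⧸ I)) = 0 := by
        rw [Algebra.smul_def, mul_one, Ideal.Quotient.algebraMap_eq, Ideal.Quotient.eq_zero_iff_mem]
        exact h2 j
      rw [this, TensorProduct.zero_tmul]
    · intro y
      obtain ⟨v, hv⟩ : ∃ v, md v = s y := by
        refine ⟨fun i => Quotient.out (s y i), ?_⟩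
        ext i
        simp [hmd]
      refine ⟨1 ⊗ₜ L.rangeRestrict v, ?_⟩
      have : G (1 ⊗ₜ L.rangeRestrict v) = f (md (L v)) := by
        simp [hG, hg]
      rw [this, hmdL, hv]
      have h4 : ∀ y, f (s y) = y := fun y => LinearMap.congr_fun hs y
      rw [h4, h4]



/-- Let R be a ring, I ⊆ R a locally nilpotent ideal (every element of I is nilpotent) and P̄ a finite
projective R/I-module. Then there is a finite projective R-module P such that P/IP (that is, R/I ⊗
P) is isomorphic to P̄ as an R/I-module. -/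
theorem result {R : Type u} [CommRing R] (I : Ideal R) (hI : ∀ x ∈ I, IsNilpotent x) (Pb : Type u) [AddCommGroup Pb] [Module (R ⧸ I) Pb] [Module.Projective (R ⧸ I) Pb] [Module.Finite (R ⧸ I) Pb] : ∃ (P : Type u) (_ : AddCommGroup P) (_ : Module R P), Module.Projective R P ∧ Module.Finite R P ∧ Nonempty (((R ⧸ I) ⊗[R] P) ≃ₗ[R ⧸ I] Pb) := by
  classical
  obtain ⟨n, f, hf⟩ := Module.Finite.exists_fin' (R ⧸ I) Pb
  obtain ⟨s, hs⟩ := Module.projective_lifting_property f LinearMap.id hf
  set e : Matrix (Fin n) (Fin n) (R ⧸ I) := LinearMap.toMatrix' (s ∘ₗ f) with he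
  have he_idem : IsIdempotentElem e := by
    unfold IsIdempotentElem
    rw [he, ← LinearMap.toMatrix'_comp]
    congr 1
    rw [LinearMap.comp_assoc, ← LinearMap.comp_assoc f s, hs, LinearMap.id_comp]
  set φ : Matrix (Fin n) (Fin n) R →+* Matrix (Fin n) (Fin n) (R ⧸ I) :=
    (Ideal.Quotient.mk I).mapMatrix with hφ
  have hker : ∀ x ∈ RingHom.ker φ, IsNilpotent x := by
    intro M hM
    apply matrix_nilp I hI
    intro i j
    rw [RingHom.mem_ker] at hM
    have := congr_fun (congr_fun hM i) j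
    simpa [hφ, Ideal.Quotient.eq_zero_iff_mem] using this
  have hrange : e ∈ φ.range := by
    refine ⟨Matrix.of fun i j => (Quotient.out (e i j) : R), ?_⟩
    ext i j
    simp [hφ]
  obtain ⟨E, hE, hEe⟩ := exists_isIdempotentElem_eq_of_ker_isNilpotent φ hker e hrange he_idem
  exact main2 I Pb n f s hs E hE hEe

end Groth.Agent.S6271
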