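import Groth.Statements.S6272
import Mathlib

set_option autoImplicit false
universe u
open scoped TensorProduct
open CAlg

namespace Groth.Agent.S6272
open scoped TensorProduct

theorem exists_one_tmul {R : Type u} [CommRing R] (I : Ideal R) {E : Type u} [AddCommGroup E]
    [Module R E] (z : (R ⧸ I) ⊗[R] E) : ∃ v : E, z = 1 ⊗ₜ v := by
  induction z using TensorProduct.induction_on with
  | zero => exact ⟨0, by simp⟩
  | tmul a v =>
    obtain ⟨r, rfl⟩ := Ideal.Quotient.mk_surjective a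
    refine ⟨r • v, ?_⟩
    rw [TensorProduct.tmul_smul, TensorProduct.smul_tmul']
    congr 1
    simp [Algebra.smul_def]
  | add x y hx hy =>
    obtain ⟨v, rfl⟩ := hx
    obtain ⟨w, rfl⟩ := hy
    exact ⟨v + w, by rw [TensorProduct.tmul_add]⟩

theorem one_tmul_eq_zero_iff {R : Type u} [CommRing R] (I : Ideal R) {E : Type u} [AddCommGroup E]
    [Module R E] (e : E) : ((1 : R ⧸ I) ⊗ₜ[R] e = 0) ↔ e ∈ I • (⊤ : Submodule R E) := by
  rw [← (TensorProduct.quotTensorEquivQuotSMul E I).map_eq_zero_iff,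
    ← map_one (Ideal.Quotient.mk I), TensorProduct.quotTensorEquivQuotSMul_mk_tmul]
  simp [Submodule.Quotient.mk_eq_zero]

theorem lemmaA {R : Type u} [CommRing R] (I : Ideal R) {E P : Type u} [AddCommGroup E]
    [Module R E] [AddCommGroup P] [Module R P]
    (hproj : Module.Projective (R ⧸ I) ((R ⧸ I) ⊗[R] P))
    (π : E →ₗ[R] P) (hπ : Function.Surjective π) :
    ∃ E' : Submodule R E, (∀ p, ∃ e ∈ E', π e = p) ∧
      ∀ e ∈ E', π e = 0 → e ∈ I • (⊤ : Submodule R E) := by
  have hsurj : Function.Surjective (π.baseChange (R ⧸ I)) := by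
    rw [LinearMap.baseChange_eq_ltensor]
    exact LinearMap.lTensor_surjective _ hπ
  obtain ⟨t, ht⟩ := Module.projective_lifting_property (π.baseChange (R ⧸ I)) LinearMap.id hsurj
  have ht' : ∀ x, (π.baseChange (R ⧸ I)) (t x) = x := fun x => LinearMap.congr_fun ht x
  set d : E →ₗ[R] (R ⧸ I) ⊗[R] E :=
    (TensorProduct.mk R (R ⧸ I) E 1) -
      (t.restrictScalars R) ∘ₗ (TensorProduct.mk R (R ⧸ I) P 1) ∘ₗ π with hd
  have hd' : ∀ e, d e = 1 ⊗ₜ e - t (1 ⊗ₜ π e) := fun e => rfl
  refine ⟨LinearMap.ker d, ?_, ?_⟩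
  · intro p
    obtain ⟨e₀, he₀⟩ := exists_one_tmul I (t (1 ⊗ₜ p))
    have h1 : (1 : R ⧸ I) ⊗ₜ[R] (π e₀ - p) = 0 := by
      have := ht' (1 ⊗ₜ p)
      rw [he₀, LinearMap.baseChange_tmul] at this
      rw [TensorProduct.tmul_sub, this, sub_self]
    rw [one_tmul_eq_zero_iff] at h1
    have h2 : I • (⊤ : Submodule R P) = (I • (⊤ : Submodule R E)).map π := by
      rw [Submodule.map_smul'', Submodule.map_top, LinearMap.range_eq_top.2 hπ]
    rw [h2] at h1
    obtain ⟨i, hi, hi'⟩ := h1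
    refine ⟨e₀ - i, ?_, ?_⟩
    · rw [LinearMap.mem_ker, hd', map_sub, hi', sub_sub_cancel, TensorProduct.tmul_sub,
        (one_tmul_eq_zero_iff I i).2 hi, sub_zero, ← he₀, sub_self]
    · rw [map_sub, hi', sub_sub_cancel]
  · intro e he h0
    rw [LinearMap.mem_ker, hd', h0, TensorProduct.tmul_zero, map_zero, sub_zero] at he
    exact (one_tmul_eq_zero_iff I e).1 he

theorem finsupp_mem {R : Type u} [CommRing R] (I : Ideal R) {P : Type u} (x : P →₀ R)
    (hx : x ∈ I • (⊤ : Submodule R (P →₀ R))) (i : P) : x i ∈ I := by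
  refine Submodule.smul_induction_on hx ?_ ?_
  · intro r hr e _
    simpa using I.mul_mem_right _ hr
  · intro a b ha hb
    simpa using I.add_mem ha hb

theorem main {R : Type u} [CommRing R] (I J : Ideal R) (hIJ : I ⊓ J = ⊥) (P : Type u) [AddCommGroup P] [Module R P] (hI : Module.Projective (R ⧸ I) ((R ⧸ I) ⊗[R] P)) (hJ : Module.Projective (R ⧸ J) ((R ⧸ J) ⊗[R] P)) : Module.Projective R P := by
  set π : (P →₀ R) →ₗ[R] P := Finsupp.linearCombination R id with hπdef
  have hπ : Function.Surjective π := Finsupp.linearCombination_id_surjective R P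
  obtain ⟨E', hE'1, hE'2⟩ := lemmaA I hI π hπ
  set π' : E' →ₗ[R] P := π ∘ₗ E'.subtype with hπ'
  have hπ'surj : Function.Surjective π' := by
    intro p
    obtain ⟨e, he, hep⟩ := hE'1 p
    exact ⟨⟨e, he⟩, hep⟩
  obtain ⟨E'', hE''1, hE''2⟩ := lemmaA (E := E') (P := P) J hJ π' hπ'surj
  set G : Submodule R (P →₀ R) := E''.map E'.subtype with hG
  set π'' : G →ₗ[R] P := π ∘ₗ G.subtype with hπ''
  have hbij : Function.Bijective π'' := by
    constructor
    · rw [injective_iff_map_eq_zero]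
      rintro ⟨_, x, hxE'', rfl⟩ hx
      have hx' : π' x = 0 := hx
      have h1 : (x : P →₀ R) ∈ I • (⊤ : Submodule R (P →₀ R)) := hE'2 _ x.2 hx'
      have h2 : x ∈ J • (⊤ : Submodule R E') := hE''2 _ hxE'' hx'
      rw [Submodule.mem_smul_top_iff] at h2
      have h3 : (x : P →₀ R) ∈ J • (⊤ : Submodule R (P →₀ R)) :=
        Submodule.smul_mono le_rfl le_top h2
      have h4 : (x : P →₀ R) = 0 := by
        ext i
        have : (x : P →₀ R) i ∈ I ⊓ J := ⟨finsupp_mem I _ h1 i, finsupp_mem J _ h3 i⟩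
        rw [hIJ] at this
        simpa using this
      exact Subtype.ext h4
    · intro p
      obtain ⟨e, he, hep⟩ := hE''1 p
      exact ⟨⟨(e : P →₀ R), ⟨e, he, rfl⟩⟩, hep⟩
  set eq := LinearEquiv.ofBijective π'' hbij with heq
  refine Module.Projective.of_split (G.subtype ∘ₗ eq.symm.toLinearMap) π ?_
  ext p
  have : π'' (eq.symm p) = p := eq.apply_symm_apply p
  simpa [hπ''] using this



/-- Over a ring R, take two ideals I and J meeting in zero (I ∩ J = 0) and an R-module P. If the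
R/I-module P/IP (that is, R/I ⊗ P) and the R/J-module P/JP (that is, R/J ⊗ P) are both projective,
then P itself is projective over R. -/
theorem result {R : Type u} [CommRing R] (I J : Ideal R) (hIJ : I ⊓ J = ⊥) (P : Type u) [AddCommGroup P] [Module R P] (hI : Module.Projective (R ⧸ I) ((R ⧸ I) ⊗[R] P)) (hJ : Module.Projective (R ⧸ J) ((R ⧸ J) ⊗[R] P)) : Module.Projective R P := by
  exact main I J hIJ P hI hJ

end Groth.Agent.S6272
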