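import Groth.Statements.S6273
import Mathlib

set_option autoImplicit false
universe u
open CAlg

namespace Groth.Agent.S6273

/-- Let R be a ring, S ⊆ R a multiplicative subset and A = S⁻¹R. If the image of Spec(A) → Spec(R) is
closed, then the localization map R → A is surjective; in particular A is isomorphic to R/I for the
ideal I = ker(R → A). -/
theorem result {R : Type u} [CommRing R] (S : Submonoid R) (A : Type u) [CommRing A] [Algebra R A] [IsLocalization S A] (hcl : IsClosed (Set.range (PrimeSpectrum.comap (algebraMap R A)))) : Function.Surjective (algebraMap R A) := by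
  have hrange : Set.range (PrimeSpectrum.comap (algebraMap R A)) =
      PrimeSpectrum.zeroLocus (RingHom.ker (algebraMap R A)) := by
    rw [← PrimeSpectrum.closure_range_comap, hcl.closure_eq]
  -- every element of S is invertible modulo the kernel
  have hunit : ∀ s ∈ S, ∃ r : R, algebraMap R A r * algebraMap R A s = 1 := by
    intro s hs
    have htop : Ideal.span {s} ⊔ RingHom.ker (algebraMap R A) = ⊤ := by
      by_contra hne
      obtain ⟨m, hm, hle⟩ := Ideal.exists_le_maximal _ hne
      have hmp : m.IsPrime := hm.isPrime
      have hmem : (⟨m, hmp⟩ : PrimeSpectrum R) ∈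
          PrimeSpectrum.zeroLocus (RingHom.ker (algebraMap R A) : Set R) := by
        intro x hx
        exact hle (Ideal.mem_sup_right hx)
      rw [← hrange] at hmem
      obtain ⟨q, hq⟩ := hmem
      have hsm : s ∈ m := hle (Ideal.mem_sup_left (Ideal.subset_span rfl))
      have hsq : algebraMap R A s ∈ q.asIdeal := by
        have : s ∈ (PrimeSpectrum.comap (algebraMap R A) q).asIdeal := by
          rw [hq]; exact hsm
        exact this
      have hu : IsUnit (algebraMap R A s) := IsLocalization.map_units A ⟨s, hs⟩
      exact q.2.ne_top (Ideal.eq_top_of_isUnit_mem _ hsq hu)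
    have h1 : (1 : R) ∈ Ideal.span {s} ⊔ RingHom.ker (algebraMap R A) := by
      rw [htop]; trivial
    obtain ⟨x, hx, y, hy, hxy⟩ := Submodule.mem_sup.mp h1
    obtain ⟨r, rfl⟩ := Ideal.mem_span_singleton'.mp hx
    refine ⟨r, ?_⟩
    have := congrArg (algebraMap R A) hxy
    rw [map_add, map_mul, map_one, (RingHom.mem_ker).mp hy, add_zero] at this
    exact this
  intro a
  obtain ⟨x, s, rfl⟩ := IsLocalization.exists_mk'_eq S a
  obtain ⟨r, hr⟩ := hunit s.1 s.2
  refine ⟨x * r, ?_⟩
  rw [map_mul, IsLocalization.eq_mk'_iff_mul_eq, mul_assoc, hr, mul_one]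

end Groth.Agent.S6273
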