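import Groth.Statements.S6274
import Mathlib

set_option autoImplicit false
universe u
open CAlg

namespace Groth.Agent.S6274

/-- Step 1: the range is `D(g)` for some `g ∈ S`. -/
theorem step1 {R : Type u} [CommRing R] (S : Submonoid R) (A : Type u) [CommRing A] [Algebra R A] [IsLocalization S A] (hcl : IsClosed (Set.range (PrimeSpectrum.comap (algebraMap R A)))) (h : TopologicalSpace.NoetherianSpace (PrimeSpectrum R) ∨ S.FG) :
    ∃ g ∈ S, Set.range (PrimeSpectrum.comap (algebraMap R A)) = (PrimeSpectrum.basicOpen g : Set (PrimeSpectrum R)) := by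
  classical
  have hZ := PrimeSpectrum.localization_comap_range A S
  set Z := Set.range (PrimeSpectrum.comap (algebraMap R A)) with hZdef
  rcases h with h | h
  · -- Noetherian space
    have hc : IsCompact Zᶜ ∧ IsOpen Zᶜ := ⟨TopologicalSpace.NoetherianSpace.isCompact _, hcl.isOpen_compl⟩
    obtain ⟨I, ⟨T, hT⟩, hI⟩ := PrimeSpectrum.isCompact_isOpen_iff_ideal.1 hc
    have hZI : Z = PrimeSpectrum.zeroLocus (I : Set R) := by
      rw [← compl_compl Z, ← hI, compl_compl]
    -- each generator is nilpotent in A
    have hnil : ∀ t ∈ T, ∃ s ∈ S, ∃ n : ℕ, s * t ^ n = 0 := by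
      intro t ht
      have htI : t ∈ I := hT ▸ Ideal.subset_span ht
      have h1 : IsNilpotent (algebraMap R A t) := by
        rw [nilpotent_iff_mem_prime]
        intro J hJ
        have : PrimeSpectrum.comap (algebraMap R A) ⟨J, hJ⟩ ∈ Z := ⟨_, rfl⟩
        rw [hZI] at this
        exact this htI
      obtain ⟨n, hn⟩ := h1
      rw [← map_pow, IsLocalization.map_eq_zero_iff S] at hn
      obtain ⟨s, hs⟩ := hn
      exact ⟨s, s.2, n, hs⟩
    choose! s hsS n hn using hnil
    refine ⟨∏ t ∈ T, s t, Submonoid.prod_mem _ fun t ht => hsS t ht, ?_⟩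
    ext p
    constructor
    · intro hp
      rw [hZ] at hp
      have : (∏ t ∈ T, s t) ∉ p.asIdeal := fun hmem =>
        Set.disjoint_left.1 hp (Submonoid.prod_mem _ fun t ht => hsS t ht) hmem
      exact this
    · intro hp
      rw [hZI, ← hT, PrimeSpectrum.zeroLocus_span]
      intro t ht
      have hp' : (∏ t ∈ T, s t) ∉ p.asIdeal := hp
      have h1 : s t ∉ p.asIdeal := by
        intro hmem
        apply hp'
        rw [← Finset.mul_prod_erase T s ht]
        exact Ideal.mul_mem_right _ _ hmem
      have h2 : s t * t ^ n t ∈ p.asIdeal := by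
        rw [hn t ht]; exact Ideal.zero_mem _
      rcases p.2.mem_or_mem h2 with h3 | h3
      · exact absurd h3 h1
      · exact p.2.mem_of_pow_mem _ h3
  · -- S finitely generated
    obtain ⟨T, hT⟩ := h
    refine ⟨∏ t ∈ T, t, ?_, ?_⟩
    · exact Submonoid.prod_mem _ fun t ht => hT ▸ Submonoid.subset_closure ht
    · ext p
      rw [hZ]
      constructor
      · intro hp
        have : (∏ t ∈ T, t) ∉ p.asIdeal := fun hmem =>
          Set.disjoint_left.1 hp (Submonoid.prod_mem _ fun t ht => hT ▸ Submonoid.subset_closure ht) hmem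
        exact this
      · intro hp
        have hp' : (∏ t ∈ T, t) ∉ p.asIdeal := hp
        rw [Set.mem_ofPred_eq, Set.disjoint_left]
        intro x hxS hxp
        have hnot : ∀ t ∈ T, t ∉ p.asIdeal := by
          intro t ht hmem
          apply hp'
          rw [← Finset.mul_prod_erase T (fun t => t) ht]
          exact Ideal.mul_mem_right _ _ hmem
        have : x ∈ p.asIdeal.primeCompl := by
          have hle : S ≤ p.asIdeal.primeCompl := by
            rw [← hT, Submonoid.closure_le]
            intro t ht
            exact hnot t ht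
          exact hle hxS
        exact this hxp


theorem main {R : Type u} [CommRing R] (S : Submonoid R) (A : Type u) [CommRing A] [Algebra R A] [IsLocalization S A] (hcl : IsClosed (Set.range (PrimeSpectrum.comap (algebraMap R A)))) (h : TopologicalSpace.NoetherianSpace (PrimeSpectrum R) ∨ S.FG) : ∃ (R' : Type u) (_ : CommRing R') (e : R ≃+* A × R'), ∀ x : R, (e x).1 = algebraMap R A x := by
  obtain ⟨g, hgS, hg⟩ := step1 S A hcl h
  have hZ := PrimeSpectrum.localization_comap_range A S
  have hclopen : IsClopen (PrimeSpectrum.basicOpen g : Set (PrimeSpectrum R)) :=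
    ⟨hg ▸ hcl, (PrimeSpectrum.basicOpen g).2⟩
  obtain ⟨e, he, hge⟩ := PrimeSpectrum.isClopen_iff.1 hclopen
  -- every s ∈ S divides e
  have hdiv : ∀ s ∈ S, ∃ a, e = a * s := by
    intro s hs
    have hsub : (PrimeSpectrum.basicOpen e : Set (PrimeSpectrum R)) ⊆ PrimeSpectrum.basicOpen s := by
      rw [← hge, ← hg, hZ]
      intro p hp
      exact fun hmem => Set.disjoint_left.1 hp hs hmem
    have hle : PrimeSpectrum.basicOpen e ≤ PrimeSpectrum.basicOpen s := hsub
    rw [PrimeSpectrum.basicOpen_le_basicOpen_iff] at hle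
    obtain ⟨n, hn⟩ := hle
    rw [Ideal.mem_span_singleton] at hn
    obtain ⟨a, ha⟩ := hn
    have hen : e ^ n = e ∨ n = 0 := by
      rcases n with _ | n
      · right; rfl
      · left; exact he.pow_succ_eq n
    rcases hen with hen | hen
    · exact ⟨a, by rw [← hen, ha, mul_comm]⟩
    · subst hen
      rw [pow_zero] at ha
      exact ⟨e * a, by rw [mul_assoc, mul_comm a s, ← ha, mul_one]⟩
  -- algebraMap e = 1
  have he1 : algebraMap R A e = 1 := by
    have hidem : IsIdempotentElem (algebraMap R A e) := he.map _
    have hunit : IsUnit (algebraMap R A e) := by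
      by_contra hnu
      obtain ⟨J, hJ, hmem⟩ := exists_max_ideal_of_mem_nonunits hnu
      have hJp : J.IsPrime := hJ.isPrime
      have : PrimeSpectrum.comap (algebraMap R A) ⟨J, hJp⟩ ∈ Set.range (PrimeSpectrum.comap (algebraMap R A)) := ⟨_, rfl⟩
      rw [hg, hge] at this
      exact this hmem
    obtain ⟨u, hu⟩ := hunit
    have := hidem.eq
    rw [← hu] at this ⊢
    have h2 : (u : A) * u * ↑u⁻¹ = u * ↑u⁻¹ := by rw [this]
    simpa using h2
  -- kernel
  have hker : ∀ x, algebraMap R A x = 0 → e * x = 0 := by
    intro x hx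
    rw [IsLocalization.map_eq_zero_iff S] at hx
    obtain ⟨s, hs⟩ := hx
    obtain ⟨a, ha⟩ := hdiv s s.2
    rw [ha, mul_assoc, hs, mul_zero]
  -- surjectivity of R → A
  have hsurjA : Function.Surjective (algebraMap R A) := by
    intro α
    obtain ⟨x, s, rfl⟩ := IsLocalization.exists_mk'_eq S α
    obtain ⟨a, ha⟩ := hdiv s s.2
    refine ⟨a * x, ?_⟩
    rw [IsLocalization.eq_mk'_iff_mul_eq, ← map_mul, mul_assoc, mul_comm x, ← mul_assoc, ← ha,
      map_mul, he1, one_mul]
  set F : R →+* A × (R ⧸ Ideal.span {e}) := RingHom.prod (algebraMap R A) (Ideal.Quotient.mk _) with hF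
  have hbij : Function.Bijective F := by
    constructor
    · rw [injective_iff_map_eq_zero]
      intro x hx
      have h1 : algebraMap R A x = 0 := congrArg Prod.fst hx
      have h2 : Ideal.Quotient.mk (Ideal.span {e}) x = 0 := congrArg Prod.snd hx
      rw [Ideal.Quotient.eq_zero_iff_mem, Ideal.mem_span_singleton] at h2
      obtain ⟨y, rfl⟩ := h2
      have := hker _ h1
      rw [← mul_assoc, he.eq] at this
      exact this
    · rintro ⟨α, β⟩
      obtain ⟨a, rfl⟩ := hsurjA α
      obtain ⟨b, rfl⟩ := Ideal.Quotient.mk_surjective β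
      refine ⟨e * a + (1 - e) * b, ?_⟩
      apply Prod.ext
      · change algebraMap R A (e * a + (1 - e) * b) = algebraMap R A a
        simp only [map_add, map_mul, map_sub, map_one, he1]
        ring
      · change Ideal.Quotient.mk (Ideal.span {e}) (e * a + (1 - e) * b) = Ideal.Quotient.mk _ b
        rw [Ideal.Quotient.eq, Ideal.mem_span_singleton]
        exact ⟨a - b, by ring⟩
  exact ⟨R ⧸ Ideal.span {e}, inferInstance, RingEquiv.ofBijective F hbij, fun x => rfl⟩



/-- Let R be a ring, S ⊆ R a multiplicative subset and A = S⁻¹R, and assume the image of Spec(A) →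
Spec(R) is closed. If Spec(R) is a Noetherian topological space (which holds when R is Noetherian)
or S is finitely generated as a monoid, then R is isomorphic to A × R' for some ring R', by an
isomorphism whose first component is the localization map R → A. -/
theorem result {R : Type u} [CommRing R] (S : Submonoid R) (A : Type u) [CommRing A] [Algebra R A] [IsLocalization S A] (hcl : IsClosed (Set.range (PrimeSpectrum.comap (algebraMap R A)))) (h : TopologicalSpace.NoetherianSpace (PrimeSpectrum R) ∨ S.FG) : ∃ (R' : Type u) (_ : CommRing R') (e : R ≃+* A × R'), ∀ x : R, (e x).1 = algebraMap R A x := by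
  exact main S A hcl h

end Groth.Agent.S6274
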