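import Groth.Statements.S6275
import Mathlib

set_option autoImplicit false
universe u
open CAlg

namespace Groth.Agent.S6275

/-- Let R be a Noetherian ring and p ⊆ R a prime. Then there is f ∈ R, f ∉ p, such that R_f → R_p is
injective; equivalently every x ∈ R mapping to zero in R_p maps to zero in R_f. (The cases of a
domain and of a reduced ring with finitely many minimal primes are not included here.) -/
theorem result {R : Type u} [CommRing R] [IsNoetherianRing R] (p : Ideal R) [p.IsPrime] : ∃ f : R, f ∉ p ∧ ∀ x : R, algebraMap R (Localization.AtPrime p) x = 0 → algebraMap R (Localization.Away f) x = 0 := by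
  classical
  set K : Ideal R := RingHom.ker (algebraMap R (Localization.AtPrime p)) with hK
  obtain ⟨S, hS⟩ := (IsNoetherian.noetherian K : K.FG)
  have hex : ∀ y : R, ∃ s : R, s ∉ p ∧ (y ∈ S → s * y = 0) := by
    intro y
    by_cases hy : y ∈ S
    · have hyK : y ∈ K := by rw [← hS]; exact Submodule.subset_span hy
      rw [hK, RingHom.mem_ker, IsLocalization.map_eq_zero_iff p.primeCompl] at hyK
      obtain ⟨m, hm⟩ := hyK
      exact ⟨m.1, m.2, fun _ => hm⟩
    · exact ⟨1, fun h => (Ideal.IsPrime.ne_top inferInstance) ((Ideal.eq_top_iff_one p).2 h),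
        fun h => absurd h hy⟩
  choose s hs1 hs2 using hex
  refine ⟨∏ y ∈ S, s y, ?_, ?_⟩
  · intro hmem
    obtain ⟨y, _, hy⟩ := (Ideal.IsPrime.prod_mem_iff (hp := inferInstance)).1 hmem
    exact hs1 y hy
  · intro x hx
    have hxK : x ∈ K := hx
    rw [IsLocalization.map_eq_zero_iff (Submonoid.powers (∏ y ∈ S, s y))]
    refine ⟨⟨∏ y ∈ S, s y, Submonoid.mem_powers _⟩, ?_⟩
    simp only
    rw [← hS] at hxK
    clear hx
    induction hxK using Submodule.span_induction with
    | mem y hy =>
      rw [← Finset.mul_prod_erase S s hy, mul_comm (s y), mul_assoc, hs2 y hy, mul_zero]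
    | zero => simp
    | add a b _ _ ha hb => rw [mul_add, ha, hb, add_zero]
    | smul r a _ ha => rw [smul_eq_mul, mul_left_comm, ha, mul_zero]

end Groth.Agent.S6275
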