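import Mathlib
import Groth.Statements.S6276

set_option autoImplicit false
universe u
open scoped TensorProduct
open CAlg

namespace Groth.Agent.S6276

/-- Let k be a field, R a Noetherian k-algebra and K/k a finitely generated field extension. Then K ⊗ₖ R
is a Noetherian ring. -/
theorem result (k : Type u) [Field k] (R : Type u) [CommRing R] [Algebra k R] [IsNoetherianRing R] (K : Type u) [Field K] [Algebra k K] (hK : ∃ s : Finset K, IntermediateField.adjoin k (s : Set K) = ⊤) : IsNoetherianRing (K ⊗[k] R) := by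
  classical
  obtain ⟨s, hs⟩ := hK
  let B0 : Subalgebra k K := Algebra.adjoin k (s : Set K)
  -- K is the fraction field of B0
  have : IsFractionRing B0 K := by
    refine IsFractionRing.of_field B0 K (fun z => ?_)
    have hz : z ∈ IntermediateField.adjoin k (s : Set K) := by rw [hs]; trivial
    obtain ⟨r, hr, t, ht, e⟩ := IntermediateField.mem_adjoin_iff_div.1 hz
    exact ⟨⟨r, hr⟩, ⟨t, ht⟩, e⟩
  -- B0 is of finite type over k
  have : Algebra.FiniteType k B0 :=
    (Subalgebra.fg_iff_finiteType B0).1 (Subalgebra.fg_adjoin_finset s)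
  -- R ⊗ B0 is Noetherian
  have : Algebra.FiniteType R (R ⊗[k] B0) := inferInstance
  have h1 : IsNoetherianRing (R ⊗[k] B0) := Algebra.FiniteType.isNoetherianRing R (R ⊗[k] B0)
  have h2 : IsNoetherianRing (B0 ⊗[k] R) :=
    isNoetherianRing_of_ringEquiv (R ⊗[k] B0) (Algebra.TensorProduct.comm k R B0).toRingEquiv
  -- K ⊗ R is a localization of B0 ⊗ R
  let alg : Algebra (B0 ⊗[k] R) (K ⊗[k] R) :=
    (Algebra.TensorProduct.map (IsScalarTower.toAlgHom k B0 K) (AlgHom.id k R)).toRingHom.toAlgebra
  have ist : IsScalarTower B0 (B0 ⊗[k] R) (K ⊗[k] R) := by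
    refine IsScalarTower.of_algebraMap_eq' (R := B0) (S := B0 ⊗[k] R) (A := K ⊗[k] R) ?_
    ext x
    show algebraMap B0 (K ⊗[k] R) x =
      (Algebra.TensorProduct.map (IsScalarTower.toAlgHom k B0 K) (AlgHom.id k R))
        (algebraMap B0 (B0 ⊗[k] R) x)
    rw [Algebra.TensorProduct.algebraMap_apply, Algebra.TensorProduct.map_tmul]
    simp
    rfl
  have hloc : IsLocalization (Algebra.algebraMapSubmonoid (B0 ⊗[k] R) (nonZeroDivisors B0))
      (K ⊗[k] R) := by
    refine @IsLocalization.tensorProduct_tensorProduct k R _ _ _ B0 _ _ (nonZeroDivisors B0) K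
      _ _ _ _ _ alg ?_ ?_
    · exact ist
    · ext x
      show (Algebra.TensorProduct.map (IsScalarTower.toAlgHom k B0 K) (AlgHom.id k R))
        ((1 : B0) ⊗ₜ[k] x) = (1 : K) ⊗ₜ[k] x
      rw [Algebra.TensorProduct.map_tmul]
      simp
  exact IsLocalization.isNoetherianRing
    (Algebra.algebraMapSubmonoid (B0 ⊗[k] R) (nonZeroDivisors B0)) (K ⊗[k] R) h2

end Groth.Agent.S6276
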