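import Groth.Statements.S6278
import Mathlib

set_option autoImplicit false
universe u
open CAlg

namespace Groth.Agent.S6278

theorem main (R : Type u) [CommRing R]
    (hR : ∀ (p : Ideal R) [p.IsPrime],
      IsDomain (Localization.AtPrime p) ∧ IsIntegrallyClosed (Localization.AtPrime p)) :
    IsIntegrallyClosedIn R (FractionRing R) := by
  rw [isIntegrallyClosedIn_iff]
  refine ⟨IsLocalization.injective (FractionRing R) le_rfl, ?_⟩
  intro x hx
  set I : Ideal R := (LinearMap.range (Algebra.linearMap R (FractionRing R))).comap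
    (LinearMap.toSpanSingleton R (FractionRing R) x) with hI
  have hmem : ∀ r, r ∈ I ↔ ∃ y, algebraMap R (FractionRing R) y = r • x := by
    intro r
    simp [hI]
  suffices h : I = ⊤ by
    have h1 : (1 : R) ∈ I := by rw [h]; trivial
    obtain ⟨y, hy⟩ := (hmem 1).1 h1
    exact ⟨y, by rw [hy, one_smul]⟩
  by_contra hne
  obtain ⟨m, hm, hIm⟩ := Ideal.exists_le_maximal I hne
  have : m.IsPrime := hm.isPrime
  obtain ⟨hdom, hic⟩ := hR m
  set Rp := Localization.AtPrime m with hRp
  set K := FractionRing Rp with hK
  -- the map Q(R) → K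
  set g : R →+* K := (algebraMap Rp K).comp (algebraMap R Rp) with hg
  have hunit : ∀ y : nonZeroDivisors R, IsUnit (g y) := by
    intro y
    apply IsUnit.mk0
    simp only [hg, RingHom.comp_apply]
    rw [Ne, map_eq_zero_iff _ (IsFractionRing.injective Rp K)]
    intro h0
    rw [IsLocalization.map_eq_zero_iff m.primeCompl] at h0
    obtain ⟨t, ht⟩ := h0
    have : (t : R) = 0 := by
      have := y.2
      rw [mem_nonZeroDivisors_iff] at this
      exact this.2 _ ht
    exact t.2 (this ▸ m.zero_mem)
  set φ : FractionRing R →+* K := IsLocalization.lift hunit with hφ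
  have hφalg : ∀ r : R, φ (algebraMap R (FractionRing R) r) = g r := fun r => IsLocalization.lift_eq hunit r
  -- φ x is integral over Rp
  have hint : IsIntegral Rp (φ x) := by
    obtain ⟨p, hp, hpx⟩ := hx
    refine ⟨p.map (algebraMap R Rp), hp.map _, ?_⟩
    rw [Polynomial.eval₂_map]
    have : (algebraMap Rp K).comp (algebraMap R Rp) = φ.comp (algebraMap R (FractionRing R)) := by
      ext r
      simp [hφalg, hg]
    rw [this, ← Polynomial.hom_eval₂, hpx, map_zero]
  obtain ⟨c, hc⟩ := IsIntegrallyClosed.isIntegral_iff.1 hint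
  obtain ⟨a, b, hab⟩ := IsLocalization.exists_mk'_eq (nonZeroDivisors R) x
  have h1 : x * algebraMap R (FractionRing R) b = algebraMap R (FractionRing R) a := by
    rw [← hab, IsLocalization.mk'_spec]
  have h2 : c * algebraMap R Rp b = algebraMap R Rp a := by
    apply IsFractionRing.injective Rp K
    rw [map_mul, hc]
    have := congrArg φ h1
    rw [map_mul, hφalg, hφalg] at this
    exact this
  obtain ⟨c', s, hcs⟩ := IsLocalization.exists_mk'_eq m.primeCompl c
  have h3 : algebraMap R Rp (c' * b) = algebraMap R Rp (s * a) := by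
    rw [map_mul, map_mul, ← h2, ← hcs, ← mul_assoc, mul_comm (algebraMap R Rp s), IsLocalization.mk'_spec]
  obtain ⟨t, ht⟩ := (IsLocalization.eq_iff_exists m.primeCompl Rp).1 h3
  have h4 : ((t : R) * s) ∈ I := by
    rw [hmem]
    refine ⟨t * c', ?_⟩
    have hbu : IsUnit (algebraMap R (FractionRing R) b) := IsLocalization.map_units _ b
    apply hbu.mul_right_cancel
    rw [Algebra.smul_def, mul_assoc, h1, ← map_mul, ← map_mul]
    congr 1
    linear_combination ht
  have h5 : ((t : R) * s) ∉ m := by
    intro h
    rcases Ideal.IsPrime.mem_or_mem ‹m.IsPrime› h with h | h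
    · exact t.2 h
    · exact s.2 h
  exact h5 (hIm h4)



/-- A normal ring R (all localizations at primes are integrally closed domains) is integrally closed in
its total ring of fractions. -/
theorem result (R : Type u) [CommRing R] (hR : EGA4.IsNormalRing R) : IsIntegrallyClosedIn R (FractionRing R) := by
  exact main R hR

end Groth.Agent.S6278
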