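import Groth.Statements.S6279
import Mathlib

set_option autoImplicit false
universe u
open CAlg

namespace Groth.Agent.S6279

/-- A finite product of normal rings is normal (a ring is normal when every localization at a prime is
an integrally closed domain). -/
theorem result {ι : Type u} [Finite ι] (A : ι → Type u) [∀ i, CommRing (A i)] (hA : ∀ i, EGA4.IsNormalRing (A i)) : EGA4.IsNormalRing (∀ i, A i) := by
  classical
  intro P hP
  obtain ⟨⟨i, p⟩, hp⟩ := (PrimeSpectrum.sigmaToPi_bijective A).surjective ⟨P, hP⟩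
  have hP_eq : P = Ideal.comap (Pi.evalRingHom A i) p.asIdeal := by
    have := congrArg PrimeSpectrum.asIdeal hp
    rw [PrimeSpectrum.sigmaToPi_apply] at this
    exact this.symm
  haveI := p.2
  obtain ⟨hdom, hic⟩ := hA i p.asIdeal
  letI : Algebra (∀ i, A i) (Localization.AtPrime p.asIdeal) :=
    ((algebraMap (A i) (Localization.AtPrime p.asIdeal)).comp (Pi.evalRingHom A i)).toAlgebra
  have halg : ∀ b : (∀ i, A i), algebraMap (∀ i, A i) (Localization.AtPrime p.asIdeal) b =
      algebraMap (A i) (Localization.AtPrime p.asIdeal) (b i) := fun b => rfl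
  have hmem : ∀ b : (∀ i, A i), b ∈ P ↔ b i ∈ p.asIdeal := by
    intro b; rw [hP_eq]; rfl
  have hloc : IsLocalization.AtPrime (Localization.AtPrime p.asIdeal) P := by
    refine ⟨?_, ?_, ?_⟩
    · rintro ⟨y, hy⟩
      rw [halg]
      have hy' : y i ∉ p.asIdeal := fun h => hy ((hmem y).mpr h)
      exact IsLocalization.map_units (Localization.AtPrime p.asIdeal)
        (⟨y i, hy'⟩ : p.asIdeal.primeCompl)
    · intro z
      obtain ⟨⟨a, s⟩, hz⟩ := IsLocalization.surj p.asIdeal.primeCompl z
      have hs' : (Pi.single i (s : A i) : ∀ i, A i) ∉ P := by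
        rw [hmem, Pi.single_eq_same]; exact s.2
      refine ⟨⟨Pi.single i a, ⟨Pi.single i (s : A i), hs'⟩⟩, ?_⟩
      simp only [halg, Pi.single_eq_same]
      exact hz
    · intro x y hxy
      rw [halg, halg] at hxy
      obtain ⟨c, hc⟩ := IsLocalization.exists_of_eq (M := p.asIdeal.primeCompl) hxy
      have hc' : (Pi.single i (c : A i) : ∀ i, A i) ∉ P := by
        rw [hmem, Pi.single_eq_same]; exact c.2
      refine ⟨⟨Pi.single i (c : A i), hc'⟩, ?_⟩
      funext j
      by_cases hj : j = i
      · subst hj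
        simpa using hc
      · simp [Pi.single_eq_of_ne hj]
  let e : Localization.AtPrime P ≃ₐ[∀ i, A i] Localization.AtPrime p.asIdeal :=
    IsLocalization.algEquiv P.primeCompl _ _
  exact ⟨e.toRingEquiv.toMulEquiv.isDomain _, IsIntegrallyClosed.of_equiv e.symm.toRingEquiv⟩

end Groth.Agent.S6279
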