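import Groth.Statements.S6281
import Mathlib

set_option autoImplicit false
universe u
open CAlg

namespace Groth.Agent.S6281

open TensorProduct

theorem sq {R S : Type u} [CommRing R] [CommRing S] [Algebra R S] (M : Type u) [AddCommGroup M]
    [Module S M] [Module R M] [IsScalarTower R S M] {N P : Type u} [AddCommGroup N] [Module R N]
    [AddCommGroup P] [Module R P] (f : N →ₗ[R] P) (x : M ⊗[S] (S ⊗[R] N)) :
    AlgebraTensorModule.cancelBaseChange R S S M P ((f.baseChange S).lTensor M x) =
      f.lTensor M (AlgebraTensorModule.cancelBaseChange R S S M N x) := by
  induction x using TensorProduct.induction_on with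
  | zero => simp
  | add a b ha hb => simp only [map_add, ha, hb]
  | tmul m y =>
    induction y using TensorProduct.induction_on with
    | zero => simp
    | add a b ha hb => simp only [TensorProduct.tmul_add, map_add, ha, hb]
    | tmul s n => simp

/-- For an R-algebra S and an S-module M, flatness of S over R follows once M is both flat over R and
faithfully flat over S. -/
theorem result {R S : Type u} [CommRing R] [CommRing S] [Algebra R S] (M : Type u) [AddCommGroup M] [Module S M] [Module R M] [IsScalarTower R S M] [Module.Flat R M] [Module.FaithfullyFlat S M] : Module.Flat R S := by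
  rw [Module.Flat.iff_lTensor_preserves_injective_linearMap]
  intro N P _ _ _ _ f hf
  have h1 : Function.Injective (f.lTensor M) :=
    Module.Flat.lTensor_preserves_injective_linearMap f hf
  have h2 : Function.Injective ((f.baseChange S).lTensor M) := by
    rw [injective_iff_map_eq_zero]
    intro x hx
    have h3 := sq M f x
    rw [hx, map_zero] at h3
    have h4 := h1 (by rw [← h3, map_zero] :
      f.lTensor M (AlgebraTensorModule.cancelBaseChange R S S M N x) = f.lTensor M 0)
    exact (AlgebraTensorModule.cancelBaseChange R S S M N).injective (by rw [h4, map_zero])
  rw [Module.FaithfullyFlat.lTensor_injective_iff_injective S M] at h2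
  exact h2

end Groth.Agent.S6281
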