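import Groth.Statements.S6282
import Mathlib

set_option autoImplicit false
universe u
open scoped TensorProduct
open CAlg

namespace Groth.Agent.S6282

open TensorProduct

theorem sq {R S S' : Type u} [CommRing R] [CommRing S] [CommRing S'] [Algebra R S] [Algebra R S']
    [Algebra S S'] [IsScalarTower R S S'] (M : Type u) [AddCommGroup M] [Module S M] [Module R M]
    [IsScalarTower R S M] {N N' : Type u} [AddCommGroup N] [Module R N]
    [AddCommGroup N'] [Module R N'] (i : N →ₗ[R] N') (x : (S' ⊗[S] M) ⊗[R] N) :
    AlgebraTensorModule.assoc R S S' S' M N' (i.lTensor (S' ⊗[S] M) x) =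
      (AlgebraTensorModule.lTensor S M i).lTensor S' (AlgebraTensorModule.assoc R S S' S' M N x) := by
  induction x using TensorProduct.induction_on with
  | zero => simp
  | add a b ha hb => simp only [map_add, ha, hb]
  | tmul y n =>
    induction y using TensorProduct.induction_on with
    | zero => simp
    | add a b ha hb => simp only [TensorProduct.add_tmul, map_add, ha, hb]
    | tmul s m => simp

theorem part1 {R S S' : Type u} [CommRing R] [CommRing S] [CommRing S'] [Algebra R S] [Algebra R S']
    [Algebra S S'] [IsScalarTower R S S'] (M : Type u) [AddCommGroup M] [Module S M] [Module R M]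
    [IsScalarTower R S M] [Module.Flat S S'] (hM : Module.Flat R M) :
    Module.Flat R (S' ⊗[S] M) := by
  rw [Module.Flat.iff_lTensor_preserves_injective_linearMap]
  intro N N' _ _ _ _ i hi
  have h1 : Function.Injective (AlgebraTensorModule.lTensor S M i) :=
    Module.Flat.lTensor_preserves_injective_linearMap i hi
  have h2 : Function.Injective ((AlgebraTensorModule.lTensor S M i).lTensor S') :=
    Module.Flat.lTensor_preserves_injective_linearMap _ h1
  rw [injective_iff_map_eq_zero]
  intro x hx
  have h3 := sq M i x
  rw [hx, map_zero] at h3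
  have h4 := h2 (by rw [← h3, map_zero] :
    (AlgebraTensorModule.lTensor S M i).lTensor S' (AlgebraTensorModule.assoc R S S' S' M N x) =
      (AlgebraTensorModule.lTensor S M i).lTensor S' 0)
  exact (AlgebraTensorModule.assoc R S S' S' M N).injective (by rw [h4, map_zero])

theorem part2 {R S S' : Type u} [CommRing R] [CommRing S] [CommRing S'] [Algebra R S] [Algebra R S']
    [Algebra S S'] [IsScalarTower R S S'] (M : Type u) [AddCommGroup M] [Module S M] [Module R M]
    [IsScalarTower R S M] [Module.FaithfullyFlat S S'] (hM : Module.Flat R (S' ⊗[S] M)) :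
    Module.Flat R M := by
  rw [Module.Flat.iff_lTensor_preserves_injective_linearMap]
  intro N N' _ _ _ _ i hi
  have h1 : Function.Injective (i.lTensor (S' ⊗[S] M)) :=
    Module.Flat.lTensor_preserves_injective_linearMap i hi
  have h2 : Function.Injective ((AlgebraTensorModule.lTensor S M i).lTensor S') := by
    rw [injective_iff_map_eq_zero]
    intro y hy
    obtain ⟨x, rfl⟩ := (AlgebraTensorModule.assoc R S S' S' M N).surjective y
    rw [← sq] at hy
    have h3 := (AlgebraTensorModule.assoc R S S' S' M N').injective
      (by rw [hy, map_zero] : AlgebraTensorModule.assoc R S S' S' M N' (i.lTensor (S' ⊗[S] M) x) =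
        AlgebraTensorModule.assoc R S S' S' M N' 0)
    have h4 := h1 (by rw [h3, map_zero] : i.lTensor (S' ⊗[S] M) x = i.lTensor (S' ⊗[S] M) 0)
    rw [h4, map_zero]
  rw [Module.FaithfullyFlat.lTensor_injective_iff_injective S S'] at h2
  exact h2

/-- Let S → S' be a homomorphism of R-algebras, M an S-module, and M' = S' ⊗_S M with its induced
R-module structure. (1) When S' is flat over S, R-flatness of M passes to M'. (2) When S' is
faithfully flat over S, M is R-flat exactly when M' is. -/
theorem result {R S S' : Type u} [CommRing R] [CommRing S] [CommRing S'] [Algebra R S] [Algebra R S'] [Algebra S S'] [IsScalarTower R S S'] (M : Type u) [AddCommGroup M] [Module S M] [Module R M] [IsScalarTower R S M] : ([Module.Flat S S'] → Module.Flat R M → Module.Flat R (S' ⊗[S] M)) ∧ ([Module.FaithfullyFlat S S'] → (Module.Flat R M ↔ Module.Flat R (S' ⊗[S] M))) := by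
  refine ⟨fun hM => part1 M hM, ⟨fun hM => part1 M hM, fun hM => part2 M hM⟩⟩

end Groth.Agent.S6282
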