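import Groth.Statements.S6283
import Mathlib

set_option autoImplicit false
universe u
open scoped TensorProduct
open CAlg

namespace Groth.Agent.S6283

open TensorProduct

theorem rid_mem {R S : Type u} [CommRing R] [CommRing S] [Algebra R S] (K : Ideal R)
    (y : S ⊗[R] K) :
    TensorProduct.rid R S (K.subtype.lTensor S y) ∈ K.map (algebraMap R S) := by
  induction y using TensorProduct.induction_on with
  | zero => simp
  | tmul s k =>
    simp only [LinearMap.lTensor_tmul, Submodule.subtype_apply, TensorProduct.rid_tmul]
    rw [Algebra.smul_def]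
    exact Ideal.mul_mem_right _ _ (Ideal.mem_map_of_mem _ k.2)
  | add a b ha hb =>
    rw [map_add, map_add]
    exact Ideal.add_mem _ ha hb

theorem key {R S : Type u} [CommRing R] [CommRing S] [Algebra R S] [Module.Flat R S] {N : Type u}
    [AddCommGroup N] [Module R N] (ψ : R →ₗ[R] N) (s : S) :
    s ⊗ₜ[R] ψ 1 = 0 ↔ s ∈ Ideal.map (algebraMap R S) (LinearMap.ker ψ) := by
  constructor
  · intro h
    have hex := Module.Flat.lTensor_exact S (LinearMap.exact_subtype_ker_map ψ)
    have h0 : ψ.lTensor S (s ⊗ₜ[R] (1 : R)) = 0 := by
      rw [LinearMap.lTensor_tmul, h]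
    obtain ⟨y, hy⟩ := (hex _).1 h0
    have := rid_mem (LinearMap.ker ψ) y
    rw [hy, TensorProduct.rid_tmul, one_smul] at this
    exact this
  · intro h
    let J : Ideal S :=
      { carrier := {t | t ⊗ₜ[R] ψ 1 = 0}
        add_mem' := by
          intro a b ha hb
          simp only [Set.mem_setOf_eq] at *
          rw [TensorProduct.add_tmul, ha, hb, add_zero]
        zero_mem' := by simp
        smul_mem' := by
          intro c x hx
          simp only [Set.mem_setOf_eq] at *
          rw [smul_eq_mul, ← smul_eq_mul, ← TensorProduct.smul_tmul', hx, smul_zero] }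
    have hle : Ideal.map (algebraMap R S) (LinearMap.ker ψ) ≤ J := by
      rw [Ideal.map_le_iff_le_comap]
      intro k hk
      change algebraMap R S k ⊗ₜ[R] ψ 1 = 0
      rw [Algebra.algebraMap_eq_smul_one, TensorProduct.smul_tmul, ← map_smul, smul_eq_mul,
        mul_one, LinearMap.mem_ker.1 hk, TensorProduct.tmul_zero]
    exact hle h

/-- Let R → S be a flat ring map, M an R-module and m ∈ M. Then Ann_R(m)S = Ann_S(1 ⊗ m), the
annihilator in S of the element 1 ⊗ m of S ⊗_R M. If moreover M is a finite R-module then Ann_R(M)S
= Ann_S(S ⊗_R M). -/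
theorem result {R S : Type u} [CommRing R] [CommRing S] [Algebra R S] [Module.Flat R S] (M : Type u) [AddCommGroup M] [Module R M] : (∀ m : M, ((Submodule.span R {m}).annihilator).map (algebraMap R S) = (Submodule.span S {(1 : S) ⊗ₜ[R] m}).annihilator) ∧ (Module.Finite R M → (Module.annihilator R M).map (algebraMap R S) = Module.annihilator S (S ⊗[R] M)) := by
  constructor
  · intro m
    ext s
    rw [Submodule.mem_annihilator_span_singleton, TensorProduct.smul_tmul', smul_eq_mul, mul_one]
    have hker : (LinearMap.ker (LinearMap.toSpanSingleton R M m) : Ideal R) =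
        (Submodule.span R {m}).annihilator := by
      ext r
      rw [Submodule.mem_annihilator_span_singleton, LinearMap.mem_ker,
        LinearMap.toSpanSingleton_apply]
    rw [← hker, ← key (LinearMap.toSpanSingleton R M m) s, LinearMap.toSpanSingleton_apply, one_smul]
  · intro hfin
    obtain ⟨n, g, hg⟩ := Module.Finite.exists_fin (R := R) (M := M)
    let ψ : R →ₗ[R] (Fin n → M) := LinearMap.pi fun i => LinearMap.toSpanSingleton R M (g i)
    have hker : (LinearMap.ker ψ : Ideal R) = Module.annihilator R M := by
      ext r
      rw [← Submodule.annihilator_top, ← hg, Submodule.mem_annihilator_span, LinearMap.mem_ker]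
      constructor
      · intro h x
        obtain ⟨y, ⟨i, rfl⟩⟩ := x
        have := congrFun h i
        simpa [ψ] using this
      · intro h
        ext i
        simpa [ψ] using h ⟨g i, Set.mem_range_self i⟩
    ext s
    rw [← hker, ← key ψ s]
    have hspan : Submodule.span S (TensorProduct.mk R S M 1 '' Set.range g) = ⊤ := by
      rw [← Submodule.baseChange_span, hg, Submodule.baseChange_top]
    rw [← Submodule.annihilator_top, ← hspan, Submodule.mem_annihilator_span]
    constructor
    · intro h
      have h1 := congrArg (TensorProduct.piRight R R S (fun _ : Fin n => M)) h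
      rw [map_zero, TensorProduct.piRight_apply, TensorProduct.piRightHom_tmul] at h1
      rintro ⟨x, ⟨y, ⟨i, rfl⟩, rfl⟩⟩
      have := congrFun h1 i
      simpa [ψ, TensorProduct.smul_tmul'] using this
    · intro h
      apply (TensorProduct.piRight R R S (fun _ : Fin n => M)).injective
      rw [map_zero, TensorProduct.piRight_apply, TensorProduct.piRightHom_tmul]
      ext i
      have := h ⟨(1 : S) ⊗ₜ[R] g i, ⟨g i, Set.mem_range_self i, rfl⟩⟩
      simpa [ψ, TensorProduct.smul_tmul'] using this

end Groth.Agent.S6283
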