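import Groth.Statements.S6284
import Mathlib

set_option autoImplicit false
universe u
open scoped TensorProduct
open CAlg

namespace Groth.Agent.S6284

open TensorProduct

theorem field_tensor_nontrivial_iff {R : Type u} [CommRing R] (M : Type u) [AddCommGroup M]
    [Module R M] [Module.Finite R M] (K : Type u) [Field K] [Algebra R K]
    (p : PrimeSpectrum R) (hker : RingHom.ker (algebraMap R K) = p.asIdeal) :
    Nontrivial (K ⊗[R] M) ↔ p ∈ Module.support R M := by
  rw [Module.mem_support_iff_nontrivial_residueField_tensorProduct]
  let σ : p.asIdeal.ResidueField →+* K := Ideal.ResidueField.lift p.asIdeal (algebraMap R K)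
    (le_of_eq hker.symm) (by
      intro x hx
      simp only [Submonoid.mem_comap, IsUnit.mem_submonoid_iff]
      rw [isUnit_iff_ne_zero]
      intro h0
      apply hx
      rw [← hker]
      exact h0)
  letI : Algebra p.asIdeal.ResidueField K := σ.toAlgebra
  haveI : IsScalarTower R p.asIdeal.ResidueField K := IsScalarTower.of_algebraMap_eq (fun r => by
    change _ = σ (algebraMap R p.asIdeal.ResidueField r)
    rw [Ideal.ResidueField.lift_algebraMap])
  let e := AlgebraTensorModule.cancelBaseChange R p.asIdeal.ResidueField K K M
  rw [← e.nontrivial_congr]
  constructor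
  · intro h
    by_contra hn
    rw [not_nontrivial_iff_subsingleton] at hn
    have : Subsingleton (K ⊗[p.asIdeal.ResidueField] (p.asIdeal.ResidueField ⊗[R] M)) := by
      infer_instance
    exact not_subsingleton _ this
  · intro h
    infer_instance

/-- Let R → R' be a ring map and M a finite R-module. Then the support of R' ⊗_R M is the inverse image
of the support of M under Spec(R') → Spec(R). -/
theorem result {R R' : Type u} [CommRing R] [CommRing R'] [Algebra R R'] (M : Type u) [AddCommGroup M] [Module R M] [Module.Finite R M] : Module.support R' (R' ⊗[R] M) = PrimeSpectrum.comap (algebraMap R R') ⁻¹' Module.support R M := by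
  ext q
  rw [Set.mem_preimage, Module.mem_support_iff_nontrivial_residueField_tensorProduct]
  let K := q.asIdeal.ResidueField
  have hker : RingHom.ker (algebraMap R K) = (PrimeSpectrum.comap (algebraMap R R') q).asIdeal := by
    ext r
    rw [RingHom.mem_ker, IsScalarTower.algebraMap_apply R R' K, Ideal.algebraMap_residueField_eq_zero]
    rfl
  rw [← field_tensor_nontrivial_iff M K _ hker]
  exact (AlgebraTensorModule.cancelBaseChange R R' K K M).nontrivial_congr

end Groth.Agent.S6284
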