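import Groth.Statements.S6297
import Mathlib
import Groth.Agent.Lib.Helper22.MT1

set_option autoImplicit false
universe u
open CAlg

namespace Groth.Agent.S6297
open Matrix

theorem minors_aux {R : Type u} [CommRing R] {n m : ℕ} (A : Matrix (Fin n) (Fin m) R) : (∀ f ∈ CAlgX.minorIdeal A m, ∃ B : Matrix (Fin m) (Fin n) R, B * A = f • (1 : Matrix (Fin m) (Fin m) R)) ∧ (∀ (f : R) (B : Matrix (Fin m) (Fin n) R), B * A = f • (1 : Matrix (Fin m) (Fin m) R) → f ^ m ∈ CAlgX.minorIdeal A m) := by
  classical
  constructor
  · intro f hf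
    unfold CAlgX.minorIdeal at hf
    induction hf using Submodule.span_induction with
    | mem x hx =>
      obtain ⟨⟨g, h⟩, rfl⟩ := hx
      by_cases hh : Function.Injective h
      · let σ : Equiv.Perm (Fin m) := Equiv.ofBijective h (Finite.injective_iff_bijective.mp hh)
        have h1 : (A.submatrix g h).det = (Equiv.Perm.sign σ : ℤ) * (A.submatrix g id).det := by
          have := Matrix.det_permute' σ (A.submatrix g id)
          rw [← this]
          rfl
        let G : Matrix (Fin m) (Fin n) R := (1 : Matrix (Fin n) (Fin n) R).submatrix g id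
        have hG : G * A = A.submatrix g id := by
          ext i j
          simp [G, Matrix.mul_apply, Matrix.one_apply]
        refine ⟨((Equiv.Perm.sign σ : ℤ) : R) • ((A.submatrix g id).adjugate * G), ?_⟩
        rw [Matrix.smul_mul, Matrix.mul_assoc, hG, Matrix.adjugate_mul, smul_smul]
        simp only [h1]
      · refine ⟨0, ?_⟩
        have : (A.submatrix g h).det = 0 := by
          rw [Function.Injective] at hh
          push Not at hh
          obtain ⟨i, j, hij, hne⟩ := hh
          apply Matrix.det_zero_of_column_eq hne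
          intro k
          simp [hij]
        simp [this]
    | zero => exact ⟨0, by simp⟩
    | add x y _ _ hx hy =>
      obtain ⟨B₁, h₁⟩ := hx
      obtain ⟨B₂, h₂⟩ := hy
      exact ⟨B₁ + B₂, by rw [Matrix.add_mul, h₁, h₂, add_smul]⟩
    | smul r x _ hx =>
      obtain ⟨B₁, h₁⟩ := hx
      exact ⟨r • B₁, by rw [Matrix.smul_mul, h₁, smul_smul, smul_eq_mul]⟩
  · intro f B hB
    have h1 : (B * A).det = f ^ m := by
      rw [hB, Matrix.det_smul, Matrix.det_one, mul_one, Fintype.card_fin]
    have h2 : (B * A).det = (Aᵀ * Bᵀ).det := by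
      rw [← Matrix.transpose_mul, Matrix.det_transpose]
    rw [← h1, h2, Groth.Agent.Helper22.MT.det_mul_eq_sum_fun]
    refine Ideal.sum_mem _ fun g _ => Ideal.mul_mem_right _ _ ?_
    have h3 : (Aᵀ.submatrix id g).det = (A.submatrix g id).det := by
      rw [← Matrix.det_transpose]
      rfl
    rw [h3]
    exact Ideal.subset_span ⟨(g, id), rfl⟩


/-- Let R be a ring, m ≤ n, A an n × m matrix over R and J the ideal generated by the m × m minors of A.
(1) For every f ∈ J there is an m × n matrix B with BA = f · 1. (2) If BA = f · 1 for some m × n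
matrix B, then f^m ∈ J. -/
theorem result {R : Type u} [CommRing R] {n m : ℕ} (hmn : m ≤ n) (A : Matrix (Fin n) (Fin m) R) : (∀ f ∈ CAlgX.minorIdeal A m, ∃ B : Matrix (Fin m) (Fin n) R, B * A = f • (1 : Matrix (Fin m) (Fin m) R)) ∧ (∀ (f : R) (B : Matrix (Fin m) (Fin n) R), B * A = f • (1 : Matrix (Fin m) (Fin m) R) → f ^ m ∈ CAlgX.minorIdeal A m) := by
  exact minors_aux A
end Groth.Agent.S6297
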