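import Groth.Statements.S6285
import Mathlib
import Groth.Agent.S6297

set_option autoImplicit false
universe u
open CAlg

namespace Groth.Agent.S6285
open Matrix PrimeSpectrum

/-- For a ring R and an R-module M of finite presentation, the support Supp(M) is closed in Spec(R), and
its complement in Spec(R) is quasi-compact. -/
theorem result (R : Type u) [CommRing R] (M : Type u) [AddCommGroup M] [Module R M] [Module.FinitePresentation R M] : IsClosed (Module.support R M) ∧ IsCompact (Module.support R M)ᶜ := by
  classical
  have hfin : Module.Finite R M := inferInstance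
  have hsupp : Module.support R M = zeroLocus (Module.annihilator R M : Set R) :=
    Module.support_eq_zeroLocus
  refine ⟨by rw [hsupp]; exact isClosed_zeroLocus _, ?_⟩
  obtain ⟨n, m, fM, g, hfM, hex⟩ := Module.FinitePresentation.exists_fin' R M
  let G : Matrix (Fin n) (Fin m) R := LinearMap.toMatrix' g
  have hG : Matrix.toLin' G = g := Matrix.toLin'_toMatrix' g
  let A : Matrix (Fin m) (Fin n) R := Gᵀ
  let J := CAlgX.minorIdeal A n
  obtain ⟨haux1, haux2⟩ := Groth.Agent.S6297.minors_aux A
  have hJfg : J.FG := Submodule.fg_span (Set.finite_range _)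
  have h1 : J ≤ Module.annihilator R M := by
    intro f hf
    obtain ⟨B, hB⟩ := haux1 f hf
    rw [Module.mem_annihilator]
    intro y
    obtain ⟨x, rfl⟩ := hfM y
    have h2 : G * Bᵀ = f • (1 : Matrix (Fin n) (Fin n) R) := by
      have := congrArg Matrix.transpose hB
      rw [Matrix.transpose_mul, Matrix.transpose_smul, Matrix.transpose_one] at this
      exact this
    have h3 : g (Matrix.toLin' Bᵀ x) = f • x := by
      rw [← hG, ← LinearMap.comp_apply, ← Matrix.toLin'_mul, h2]
      simp
    rw [← map_smul, ← h3]
    exact hex.apply_apply_eq_zero _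
  have h2 : Module.annihilator R M ≤ J.radical := by
    intro r hr
    rw [Module.mem_annihilator] at hr
    have h3 : ∀ i : Fin n, ∃ b : Fin m → R, g b = r • (Pi.single i (1 : R) : Fin n → R) := by
      intro i
      have : fM (r • (Pi.single i (1 : R) : Fin n → R)) = 0 := by
        rw [map_smul]; exact hr _
      exact (hex _).1 this
    choose b hb using h3
    let Bt : Matrix (Fin m) (Fin n) R := Matrix.of (fun j i => b i j)
    have h4 : G * Bt = r • (1 : Matrix (Fin n) (Fin n) R) := by
      ext k i
      have := congrFun (hb i) k
      rw [← hG, Matrix.toLin'_apply] at this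
      simp only [Matrix.mul_apply, Matrix.smul_apply, Matrix.one_apply, smul_eq_mul, Bt,
        Matrix.of_apply]
      simp only [Matrix.mulVec, dotProduct, Pi.smul_apply, Pi.single_apply, smul_eq_mul] at this
      rw [this]
    have h5 : Btᵀ * A = r • (1 : Matrix (Fin n) (Fin n) R) := by
      have := congrArg Matrix.transpose h4
      rw [Matrix.transpose_mul, Matrix.transpose_smul, Matrix.transpose_one] at this
      exact this
    exact ⟨n, haux2 r Btᵀ h5⟩
  have h3 : Module.support R M = zeroLocus (J : Set R) := by
    rw [hsupp]
    apply le_antisymm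
    · exact zeroLocus_anti_mono h1
    · rw [← zeroLocus_radical]
      exact zeroLocus_anti_mono h2
  rw [h3]
  exact (isCompact_isOpen_iff_ideal.2 ⟨J, hJfg, rfl⟩).1

end Groth.Agent.S6285
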