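import Groth.Statements.S6286
import Mathlib
-- import your own Groth.Agent.* helpers here

set_option autoImplicit false
universe u
open scoped TensorProduct
open CAlg

namespace Groth.Agent.S6286

section
open scoped TensorProduct

variable (k : Type u) [Field k] (R S : Type u) [CommRing R] [Algebra k R] [CommRing S]
  [Algebra k S]

/-- base change to the residue field -/
noncomputable def Φ (p : PrimeSpectrum R) :
    R ⊗[k] S →ₐ[k] p.asIdeal.ResidueField ⊗[k] S :=
  Algebra.TensorProduct.map (IsScalarTower.toAlgHom k R p.asIdeal.ResidueField) (AlgHom.id k S)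

theorem Φ_tmul (p : PrimeSpectrum R) (r : R) (s : S) :
    Φ k R S p (r ⊗ₜ s) = algebraMap R p.asIdeal.ResidueField r ⊗ₜ s := by
  simp [Φ]

theorem crit (p : PrimeSpectrum R) (g : R ⊗[k] S) :
    (∃ q : PrimeSpectrum (R ⊗[k] S), g ∉ q.asIdeal ∧
      q.asIdeal.comap (algebraMap R (R ⊗[k] S)) = p.asIdeal) ↔ ¬ IsNilpotent (Φ k R S p g) := by
  constructor
  · rintro ⟨q, hgq, hqp⟩ hnil
    let χ : p.asIdeal.ResidueField ⊗[k] S →ₐ[k] q.asIdeal.ResidueField :=
      Algebra.TensorProduct.productMap
        (Ideal.ResidueField.mapₐ p.asIdeal q.asIdeal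
          (Algebra.TensorProduct.includeLeft : R →ₐ[k] R ⊗[k] S) hqp.symm)
        ((IsScalarTower.toAlgHom k (R ⊗[k] S) q.asIdeal.ResidueField).comp
          (Algebra.TensorProduct.includeRight : S →ₐ[k] R ⊗[k] S))
    have hχ : χ.comp (Φ k R S p) = IsScalarTower.toAlgHom k (R ⊗[k] S) q.asIdeal.ResidueField := by
      apply Algebra.TensorProduct.ext'
      intro r s
      simp only [AlgHom.comp_apply, Φ_tmul, χ, Algebra.TensorProduct.productMap_apply_tmul,
        Ideal.ResidueField.mapₐ_apply, Ideal.ResidueField.map_algebraMap,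
        IsScalarTower.coe_toAlgHom', Algebra.TensorProduct.includeRight_apply]
      rw [← map_mul]
      congr 1
      simp
    have h2 : χ (Φ k R S p g) = 0 := (hnil.map χ).eq_zero
    have h3 : algebraMap (R ⊗[k] S) q.asIdeal.ResidueField g = 0 := by
      rw [← h2]
      exact (congrArg (fun φ => φ g) hχ).symm
    exact hgq (Ideal.algebraMap_residueField_eq_zero.mp h3)
  · intro hnil
    have hnr : Φ k R S p g ∉ nilradical (p.asIdeal.ResidueField ⊗[k] S) := hnil
    rw [nilradical_eq_sInf, Ideal.mem_sInf] at hnr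
    push Not at hnr
    obtain ⟨Q, hQ, hgQ⟩ := hnr
    have hQ' : Q.IsPrime := hQ
    refine ⟨⟨Q.comap (Φ k R S p).toRingHom, Ideal.comap_isPrime _ _⟩, hgQ, ?_⟩
    ext x
    simp only [Ideal.mem_comap, AlgHom.toRingHom_eq_coe, RingHom.coe_coe,
      Algebra.TensorProduct.algebraMap_apply, Algebra.algebraMap_self, RingHom.id_apply, Φ_tmul]
    constructor
    · intro hx
      by_contra hxp
      have hne : algebraMap R p.asIdeal.ResidueField x ≠ 0 :=
        fun h => hxp (Ideal.algebraMap_residueField_eq_zero.mp h)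
      have hu : IsUnit (algebraMap R p.asIdeal.ResidueField x ⊗ₜ[k] (1 : S)) := by
        have := (isUnit_iff_ne_zero.mpr hne).map
          (Algebra.TensorProduct.includeLeft :
            p.asIdeal.ResidueField →ₐ[k] p.asIdeal.ResidueField ⊗[k] S)
        simpa using this
      exact hQ'.ne_top (Ideal.eq_top_of_isUnit_mem _ hx hu)
    · intro hx
      rw [Ideal.algebraMap_residueField_eq_zero.mpr hx, TensorProduct.zero_tmul]
      exact Q.zero_mem

theorem main (S' : Subalgebra k S) (f : R ⊗[k] S') (p : PrimeSpectrum R) :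
    (∃ q : PrimeSpectrum (R ⊗[k] S), Algebra.TensorProduct.map (AlgHom.id k R) S'.val f ∉ q.asIdeal ∧ q.asIdeal.comap (algebraMap R (R ⊗[k] S)) = p.asIdeal) ↔ (∃ q' : PrimeSpectrum (R ⊗[k] S'), f ∉ q'.asIdeal ∧ q'.asIdeal.comap (algebraMap R (R ⊗[k] S')) = p.asIdeal) := by
  rw [crit k R S p, crit k R S' p]
  let J : p.asIdeal.ResidueField ⊗[k] S' →ₐ[k] p.asIdeal.ResidueField ⊗[k] S :=
    Algebra.TensorProduct.map (AlgHom.id k p.asIdeal.ResidueField) S'.val
  have hJ : Function.Injective J := by
    have h1 : Function.Injective (LinearMap.lTensor p.asIdeal.ResidueField S'.val.toLinearMap) :=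
      Module.Flat.lTensor_preserves_injective_linearMap _ Subtype.val_injective
    have h2 : ∀ x, J x = LinearMap.lTensor p.asIdeal.ResidueField S'.val.toLinearMap x := by
      intro x
      induction x using TensorProduct.induction_on with
      | zero => simp
      | tmul a b => simp [J]
      | add x y hx hy => rw [map_add, map_add, hx, hy]
    intro x y hxy
    apply h1
    rw [← h2, ← h2, hxy]
  have hcomm : (Φ k R S p).comp (Algebra.TensorProduct.map (AlgHom.id k R) S'.val) =
      J.comp (Φ k R S' p) := by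
    apply Algebra.TensorProduct.ext'
    intro r s
    simp [Φ_tmul, J]
  have hc : Φ k R S p (Algebra.TensorProduct.map (AlgHom.id k R) S'.val f) =
      J (Φ k R S' p f) := congrArg (fun φ => φ f) hcomm
  rw [hc]
  exact not_congr (IsNilpotent.map_iff hJ)

end

/-- Let k be a field, R and S k-algebras, S' ⊆ S a k-subalgebra and f ∈ R ⊗ₖ S', with image f again in R
⊗ₖ S. Then the images in Spec(R) of Spec((R ⊗ₖ S)_f) and of Spec((R ⊗ₖ S')_f) coincide: a prime p of
R is the contraction of a prime of R ⊗ₖ S not containing f if and only if it is the contraction of a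
prime of R ⊗ₖ S' not containing f. -/
theorem result (k : Type u) [Field k] (R S : Type u) [CommRing R] [Algebra k R] [CommRing S] [Algebra k S] (S' : Subalgebra k S) (f : R ⊗[k] S') (p : PrimeSpectrum R) : (∃ q : PrimeSpectrum (R ⊗[k] S), Algebra.TensorProduct.map (AlgHom.id k R) S'.val f ∉ q.asIdeal ∧ q.asIdeal.comap (algebraMap R (R ⊗[k] S)) = p.asIdeal) ↔ (∃ q' : PrimeSpectrum (R ⊗[k] S'), f ∉ q'.asIdeal ∧ q'.asIdeal.comap (algebraMap R (R ⊗[k] S')) = p.asIdeal) := by
  exact Groth.Agent.S6286.main k R S S' f p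

end Groth.Agent.S6286
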