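import Groth.Statements.S6289
import Mathlib

set_option autoImplicit false
universe u
open CAlg

namespace Groth.Agent.S6289

/-- Key step: if `a * c = b` in `A'` with `a, b` in the subring, then one of them divides the
other inside the subring. -/
theorem key (A' : Type u) [CommRing A'] [IsDomain A'] [ValuationRing A']
    (A : ValuationSubring (IsLocalRing.ResidueField A'))
    (a b : A.toSubring.comap (IsLocalRing.residue A')) (c : A') (hc : (a : A') * c = b) :
    ∃ c' : A.toSubring.comap (IsLocalRing.residue A'), a * c' = b ∨ b * c' = a := by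
  by_cases hcA : IsLocalRing.residue A' c ∈ A
  · refine ⟨⟨c, hcA⟩, Or.inl ?_⟩
    ext
    exact hc
  · have hinv : (IsLocalRing.residue A' c)⁻¹ ∈ A := (A.mem_or_inv_mem _).resolve_left hcA
    have hne : IsLocalRing.residue A' c ≠ 0 := by
      intro h0
      exact hcA (h0 ▸ A.zero_mem)
    have hu : IsUnit c := (IsLocalRing.residue_ne_zero_iff_isUnit c).mp hne
    obtain ⟨u, rfl⟩ := hu
    have hres : IsLocalRing.residue A' (↑u⁻¹ : A') = (IsLocalRing.residue A' (u : A'))⁻¹ := by
      have h1 : IsLocalRing.residue A' (↑u⁻¹ : A') * IsLocalRing.residue A' (u : A') = 1 := by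
        rw [← map_mul, Units.inv_mul, map_one]
      exact eq_inv_of_mul_eq_one_left h1
    refine ⟨⟨(↑u⁻¹ : A'), ?_⟩, Or.inr ?_⟩
    · show IsLocalRing.residue A' (↑u⁻¹ : A') ∈ A
      rw [hres]; exact hinv
    · ext
      show (b : A') * ↑u⁻¹ = a
      rw [← hc, mul_assoc, Units.mul_inv, mul_one]

/-- Let A' be a valuation ring with residue field K and A ⊆ K a valuation ring with fraction field K.
Then the subring C of A' consisting of the elements whose residue class lies in A is a valuation
ring. -/
theorem result (A' : Type u) [CommRing A'] [IsDomain A'] [ValuationRing A'] (A : ValuationSubring (IsLocalRing.ResidueField A')) : ValuationRing (A.toSubring.comap (IsLocalRing.residue A')) := by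
  refine { cond' := fun a b => ?_ }
  obtain ⟨c, hc | hc⟩ := ValuationRing.cond (a : A') (b : A')
  · exact key A' A a b c hc
  · obtain ⟨c', h | h⟩ := key A' A b a c hc
    · exact ⟨c', Or.inr h⟩
    · exact ⟨c', Or.inl h⟩

end Groth.Agent.S6289
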