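import Groth.Statements.S6292
import Mathlib

set_option autoImplicit false
universe u
open CAlg

namespace Groth.Agent.S6292

theorem aux {R : Type u} [CommRing R] (m : Ideal R) [m.IsMaximal] (hm : m.FG) (n : ℕ) :
    ∀ (M : Type u) [AddCommGroup M] [Module R M] [Module.Finite R M],
      m ^ n ≤ Module.annihilator R M → IsNoetherian R M ∧ IsArtinian R M := by
  induction n with
  | zero =>
    intro M _ _ _ h
    rw [pow_zero, Ideal.one_eq_top, top_le_iff, Module.annihilator_eq_top_iff] at h
    exact ⟨inferInstance, inferInstance⟩
  | succ n ih =>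
    intro M _ _ hfin h
    let N : Submodule R M := m • ⊤
    have hNfin : Module.Finite R N := .of_fg (.smul hm hfin.1)
    have hN : m ^ n ≤ Module.annihilator R N := by
      rwa [← Submodule.annihilator_top, Submodule.le_annihilator_iff, pow_succ,
        Submodule.mul_smul, ← Submodule.le_annihilator_iff] at h
    obtain ⟨h1, h2⟩ := ih N hN
    have hQ : Module.IsTorsionBySet R (M ⧸ N) m := by
      rw [Module.isTorsionBySet_quotient_iff]
      exact fun x r hr => Submodule.smul_mem_smul hr trivial
    have hss : IsSemisimpleModule R (M ⧸ N) := by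
      let _ := hQ.module
      let _ : Field (R ⧸ m) := Ideal.Quotient.field m
      exact (hQ.isSemisimpleModule_iff).1 inferInstance
    have hQfin : Module.Finite R (M ⧸ N) := inferInstance
    have h3 : IsNoetherian R (M ⧸ N) := (IsSemisimpleModule.finite_tfae.out 0 1).1 hQfin
    have h4 : IsArtinian R (M ⧸ N) := (IsSemisimpleModule.finite_tfae.out 0 2).1 hQfin
    exact ⟨(isNoetherian_iff_submodule_quotient N).2 ⟨h1, h3⟩,
      (isArtinian_iff_submodule_quotient N).2 ⟨h2, h4⟩⟩

/-- Let R be a ring and m ⊆ R a finitely generated maximal ideal (for instance R Noetherian). If M is a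
finite R-module with mⁿM = 0 for some n, then M has finite length. -/
theorem result {R : Type u} [CommRing R] (m : Ideal R) [m.IsMaximal] (hm : m.FG) (M : Type u) [AddCommGroup M] [Module R M] [Module.Finite R M] (n : ℕ) (hn : m ^ n • (⊤ : Submodule R M) = ⊥) : IsFiniteLength R M := by
  have h : m ^ n ≤ Module.annihilator R M := by
    rwa [← Submodule.annihilator_top, Submodule.le_annihilator_iff]
  obtain ⟨h1, h2⟩ := aux m hm n M h
  exact isFiniteLength_iff_isNoetherian_isArtinian.2 ⟨h1, h2⟩

end Groth.Agent.S6292
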