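import Groth.Statements.S6294
import Mathlib

set_option autoImplicit false
universe u
open CAlg

namespace Groth.Agent.S6294

/-- Let R be a ring with finitely many minimal primes q₁, …, q_t, and assume that the zerodivisors of R
are precisely the elements of q₁ ∪ … ∪ q_t. Then Q(R), the total ring of fractions of R, equals
R_{q₁} × … × R_{q_t}: the diagonal map R → ∏ R_{q_i} is a localization of R at its non-zerodivisors. -/
theorem result {R : Type u} [CommRing R] {ι : Type} [Fintype ι] (q : ι → Ideal R) [∀ i, (q i).IsPrime] (hinj : Function.Injective q) (hmin : ∀ P : Ideal R, P ∈ minimalPrimes R ↔ P ∈ Set.range q) (hzd : ∀ x : R, x ∈ nonZeroDivisors R ↔ ∀ i, x ∉ q i) : IsLocalization (nonZeroDivisors R) (∀ i, Localization.AtPrime (q i)) := by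
  classical
  have hq : ∀ i, q i ∈ minimalPrimes R := fun i => (hmin _).mpr ⟨i, rfl⟩
  have hne : ∀ i j, j ≠ i → ∃ x ∈ q j, x ∉ q i := by
    intro i j hji
    by_contra hcon
    push Not at hcon
    have hle : q j ≤ q i := fun x hx => hcon x hx
    have : q i ≤ q j := (hq i).2 ⟨inferInstance, bot_le⟩ hle
    exact hji (hinj (le_antisymm hle this))
  have hnil : ∀ j (x : R), x ∈ q j →
      IsNilpotent (algebraMap R (Localization.AtPrime (q j)) x) := by
    intro j x hx
    have h := IsLocalization.AtPrime.radical_map_of_mem_minimalPrimes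
      (A := Localization.AtPrime (q j)) (q j) ⊥ (hq j)
    have hx' : algebraMap R (Localization.AtPrime (q j)) x ∈
        (q j).map (algebraMap R (Localization.AtPrime (q j))) := Ideal.mem_map_of_mem _ hx
    rw [← h, Ideal.map_bot] at hx'
    obtain ⟨n, hn⟩ := hx'
    exact ⟨n, by simpa using hn⟩
  have hE : ∀ i, ∃ e : R, e ∉ q i ∧
      ∀ j, j ≠ i → algebraMap R (Localization.AtPrime (q j)) e = 0 := by
    intro i
    have key : ¬ ((Finset.univ.erase i).inf
        (fun j => RingHom.ker (algebraMap R (Localization.AtPrime (q j)))) ≤ q i) := by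
      rw [Ideal.IsPrime.inf_le' (inferInstance : (q i).IsPrime)]
      rintro ⟨j, hj, hle⟩
      obtain ⟨x, hxj, hxi⟩ := hne i j (Finset.ne_of_mem_erase hj)
      obtain ⟨n, hn⟩ := hnil j x hxj
      have : x ^ n ∈ RingHom.ker (algebraMap R (Localization.AtPrime (q j))) := by
        rw [RingHom.mem_ker, map_pow, hn]
      exact hxi (Ideal.IsPrime.mem_of_pow_mem inferInstance n (hle this))
    obtain ⟨e, he, hei⟩ := SetLike.not_le_iff_exists.mp key
    refine ⟨e, hei, fun j hj => ?_⟩
    exact Submodule.mem_finsetInf.mp he j (Finset.mem_erase.mpr ⟨hj, Finset.mem_univ _⟩)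
  choose e he1 he2 using hE
  have he3 : ∀ i j, j ≠ i → e j ∈ q i := by
    intro i j hji
    by_contra hcon
    have hu : IsUnit (algebraMap R (Localization.AtPrime (q i)) (e j)) :=
      IsLocalization.map_units (Localization.AtPrime (q i)) (⟨e j, hcon⟩ : (q i).primeCompl)
    rw [he2 j i (Ne.symm hji)] at hu
    exact not_isUnit_zero hu
  have hsum : ∀ (t : ι → R), (∀ i, t i ∉ q i) → ∀ i, ∑ j, t j * e j ∉ q i := by
    intro t ht i hmem
    rw [← Finset.add_sum_erase Finset.univ _ (Finset.mem_univ i)] at hmem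
    have h2 : ∑ j ∈ Finset.univ.erase i, t j * e j ∈ q i :=
      Ideal.sum_mem _ (fun j hj => Ideal.mul_mem_left _ _ (he3 i j (Finset.ne_of_mem_erase hj)))
    have h3 : t i * e i ∈ q i := (Ideal.add_mem_iff_left _ h2).mp hmem
    rcases Ideal.IsPrime.mem_or_mem inferInstance h3 with h | h
    · exact ht i h
    · exact he1 i h
  have hφsum : ∀ (t : ι → R) i, algebraMap R (Localization.AtPrime (q i)) (∑ j, t j * e j) =
      algebraMap R (Localization.AtPrime (q i)) (t i) *
        algebraMap R (Localization.AtPrime (q i)) (e i) := by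
    intro t i
    rw [map_sum, Finset.sum_eq_single i]
    · rw [map_mul]
    · intro j _ hji
      rw [map_mul, he2 j i (Ne.symm hji), mul_zero]
    · intro h; exact absurd (Finset.mem_univ i) h
  have hnzd : ∀ (t : ι → R), (∀ i, t i ∉ q i) → ∑ j, t j * e j ∈ nonZeroDivisors R :=
    fun t ht => (hzd _).mpr (hsum t ht)
  rw [isLocalization_iff]
  refine ⟨?_, ?_, ?_⟩
  · rintro ⟨y, hy⟩
    rw [Pi.isUnit_iff]
    intro i
    have hyi : y ∉ q i := (hzd y).mp hy i
    exact IsLocalization.map_units (Localization.AtPrime (q i)) (⟨y, hyi⟩ : (q i).primeCompl)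
  · intro z
    have hz : ∀ i, ∃ x : R × (q i).primeCompl,
        z i * algebraMap R (Localization.AtPrime (q i)) x.2 =
          algebraMap R (Localization.AtPrime (q i)) x.1 :=
      fun i => IsLocalization.surj (q i).primeCompl (z i)
    choose x hx using hz
    refine ⟨⟨∑ j, (x j).1 * e j, ⟨∑ j, ((x j).2 : R) * e j, hnzd _ (fun i => (x i).2.2)⟩⟩, ?_⟩
    funext i
    show z i * algebraMap R (Localization.AtPrime (q i)) (∑ j, ((x j).2 : R) * e j) =
      algebraMap R (Localization.AtPrime (q i)) (∑ j, (x j).1 * e j)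
    rw [hφsum (fun j => ((x j).2 : R)) i, hφsum (fun j => (x j).1) i, ← mul_assoc, hx i]
  · intro x y hxy
    have hd : ∀ i, ∃ c : (q i).primeCompl, (c : R) * x = c * y := by
      intro i
      have := congrFun hxy i
      exact IsLocalization.exists_of_eq (M := (q i).primeCompl)
        (S := Localization.AtPrime (q i)) this
    choose c hc using hd
    refine ⟨⟨∑ j, (c j : R) * e j, hnzd _ (fun i => (c i).2)⟩, ?_⟩
    show (∑ j, (c j : R) * e j) * x = (∑ j, (c j : R) * e j) * y
    rw [Finset.sum_mul, Finset.sum_mul]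
    refine Finset.sum_congr rfl (fun j _ => ?_)
    rw [mul_right_comm, hc j, mul_right_comm]

end Groth.Agent.S6294
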