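import Groth.Statements.S6295
import Mathlib

set_option autoImplicit false
universe u
open CAlg

namespace Groth.Agent.S6295

/-- Let R be a reduced ring. Then every localization R_p at a minimal prime p is a field and the map R →
∏_{p minimal} R_p is injective (so R is a subring of a product of fields); moreover the set of
zerodivisors of R is the union of the minimal primes. -/
theorem result (R : Type u) [CommRing R] [IsReduced R] : (∀ p : PrimeSpectrum R, p.asIdeal ∈ minimalPrimes R → IsField (Localization.AtPrime p.asIdeal)) ∧ Function.Injective (algebraMap R (∀ p : {p : PrimeSpectrum R // p.asIdeal ∈ minimalPrimes R}, Localization.AtPrime p.1.asIdeal)) ∧ (∀ x : R, x ∉ nonZeroDivisors R ↔ ∃ p ∈ minimalPrimes R, x ∈ p) := by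
  have hsInf : sInf (minimalPrimes R) = (⊥ : Ideal R) := by
    have := Ideal.sInf_minimalPrimes (I := (⊥ : Ideal R))
    rw [Ideal.radical_bot_of_isReduced] at this
    exact this
  refine ⟨?_, ?_, ?_⟩
  · intro p hp
    have h1 := IsLocalization.AtPrime.radical_map_of_mem_minimalPrimes
      (A := Localization.AtPrime p.asIdeal) p.asIdeal ⊥ hp
    rw [Ideal.map_bot, IsLocalization.AtPrime.map_eq_maximalIdeal p.asIdeal] at h1
    rw [IsLocalRing.isField_iff_maximalIdeal_eq, ← h1]
    exact Ideal.radical_bot_of_isReduced
  · rw [injective_iff_map_eq_zero]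
    intro x hx
    have hmem : x ∈ sInf (minimalPrimes R) := by
      rw [Ideal.mem_sInf]
      intro q hq
      haveI : q.IsPrime := hq.1.1
      have h1 := congrFun hx ⟨⟨q, hq.1.1⟩, hq⟩
      rw [Pi.algebraMap_apply, Pi.zero_apply] at h1
      obtain ⟨s, hs⟩ := (IsLocalization.map_eq_zero_iff q.primeCompl _ x).mp h1
      have : (s : R) * x ∈ q := by rw [hs]; exact q.zero_mem
      exact (hq.1.1.mem_or_mem this).resolve_left s.2
    rw [hsInf] at hmem
    exact hmem
  · intro x
    constructor
    · intro hx
      rw [mem_nonZeroDivisors_iff_right] at hx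
      push Not at hx
      obtain ⟨y, hy, hy0⟩ := hx
      have : y ∉ sInf (minimalPrimes R) := by rw [hsInf]; exact hy0
      rw [Ideal.mem_sInf] at this
      push Not at this
      obtain ⟨q, hq, hyq⟩ := this
      refine ⟨q, hq, ?_⟩
      have : y * x ∈ q := by rw [hy]; exact q.zero_mem
      exact (hq.1.1.mem_or_mem this).resolve_left hyq
    · rintro ⟨q, hq, hxq⟩
      exact notMem_nonZeroDivisors_of_mem_mem_minimalPrimes hxq hq

end Groth.Agent.S6295
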