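import Groth.Statements.S6298
import Mathlib

set_option autoImplicit false
universe u
open CAlg

namespace Groth.Agent.S6298

theorem aux {R : Type u} [CommRing R] (x : R) (I : Ideal R) :
    ∀ (n : ℕ) (s : Finset (Ideal R)), s.card = n → (∀ p ∈ s, p.IsPrime) →
      (∀ p ∈ s, ∃ y ∈ I, x + y ∉ p) → ∃ y ∈ I, ∀ p ∈ s, x + y ∉ p := by
  classical
  intro n
  induction n with
  | zero =>
    intro s hs _ _
    rw [Finset.card_eq_zero] at hs
    subst hs
    exact ⟨0, I.zero_mem, by simp⟩
  | succ n ih =>
    intro s hs hprime h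
    have hne : s.Nonempty := by
      rw [← Finset.card_pos]; omega
    obtain ⟨p, hp⟩ := s.exists_minimal hne
    have hps : p ∈ s := hp.1
    have hpmin : ∀ q ∈ s, q ≤ p → q = p := fun q hq hqp => le_antisymm hqp (hp.2 hq hqp)
    have hpprime := hprime p hps
    obtain ⟨y, hyI, hy⟩ := ih (s.erase p) (by rw [Finset.card_erase_of_mem hps, hs]; rfl)
      (fun q hq => hprime q (Finset.mem_of_mem_erase hq))
      (fun q hq => h q (Finset.mem_of_mem_erase hq))
    by_cases hxy : x + y ∈ p
    · have hIp : ¬ I ≤ p := by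
        intro hIp
        obtain ⟨y', hy'I, hy'⟩ := h p hps
        apply hy'
        have : x + y' = (x + y) + (y' - y) := by ring
        rw [this]
        exact p.add_mem hxy (p.sub_mem (hIp hy'I) (hIp hyI))
      obtain ⟨z, hzI, hzp⟩ := SetLike.not_le_iff_exists.1 hIp
      have hw : ∀ q : Ideal R, ∃ w : R, (q ∈ s.erase p → w ∈ q ∧ w ∉ p) := by
        intro q
        by_cases hq : q ∈ s.erase p
        · have hqp : ¬ q ≤ p := fun hqp =>
            (Finset.ne_of_mem_erase hq) (hpmin q (Finset.mem_of_mem_erase hq) hqp)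
          obtain ⟨w, hwq, hwp⟩ := SetLike.not_le_iff_exists.1 hqp
          exact ⟨w, fun _ => ⟨hwq, hwp⟩⟩
        · exact ⟨0, fun h => absurd h hq⟩
      choose w hw using hw
      have hprod : ∏ q ∈ s.erase p, w q ∉ p := by
        intro hmem
        obtain ⟨q, hq, hwq⟩ := (Ideal.IsPrime.prod_mem_iff (hp := hpprime)).1 hmem
        exact (hw q hq).2 hwq
      refine ⟨y + z * ∏ q ∈ s.erase p, w q, I.add_mem hyI (I.mul_mem_right _ hzI), ?_⟩
      intro q hq
      by_cases hqp : q = p
      · subst hqp
        intro hmem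
        have h2 : z * ∏ q' ∈ s.erase q, w q' ∈ q := by
          have : z * ∏ q' ∈ s.erase q, w q' = (x + (y + z * ∏ q' ∈ s.erase q, w q')) - (x + y) := by ring
          rw [this]
          exact q.sub_mem hmem hxy
        rcases hpprime.mem_or_mem h2 with h3 | h3
        · exact hzp h3
        · exact hprod h3
      · have hq' : q ∈ s.erase p := Finset.mem_erase.2 ⟨hqp, hq⟩
        intro hmem
        apply hy q hq'
        have hmemq : z * ∏ q' ∈ s.erase p, w q' ∈ q := by
          apply q.mul_mem_left
          rw [← Finset.mul_prod_erase _ _ hq']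
          exact q.mul_mem_right _ (hw q hq').1
        have : x + y = (x + (y + z * ∏ q' ∈ s.erase p, w q')) - z * ∏ q' ∈ s.erase p, w q' := by ring
        rw [this]
        exact q.sub_mem hmem hmemq
    · refine ⟨y, hyI, ?_⟩
      intro q hq
      by_cases hqp : q = p
      · subst hqp; exact hxy
      · exact hy q (Finset.mem_erase.2 ⟨hqp, hq⟩)

/-- Let R be a ring, x ∈ R, I ⊆ R an ideal and p₁, …, p_r prime ideals such that for each i the coset x
+ I is not contained in p_i. Then there is y ∈ I with x + y ∉ p_i for all i. -/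
theorem result {R : Type u} [CommRing R] (x : R) (I : Ideal R) {r : ℕ} (p : Fin r → Ideal R) [∀ i, (p i).IsPrime] (h : ∀ i, ∃ y ∈ I, x + y ∉ p i) : ∃ y ∈ I, ∀ i, x + y ∉ p i := by
  classical
  obtain ⟨y, hyI, hy⟩ := aux x I _ (Finset.univ.image p) rfl
    (by
      intro q hq
      obtain ⟨i, _, rfl⟩ := Finset.mem_image.1 hq
      infer_instance)
    (by
      intro q hq
      obtain ⟨i, _, rfl⟩ := Finset.mem_image.1 hq
      exact h i)
  exact ⟨y, hyI, fun i => hy (p i) (Finset.mem_image.2 ⟨i, Finset.mem_univ _, rfl⟩)⟩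

end Groth.Agent.S6298
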