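import Groth.Statements.S6300
import Mathlib

set_option autoImplicit false
universe u
open CAlg

namespace Groth.Agent.S6300
open Polynomial

section
attribute [local instance] Polynomial.algebra

/-- Core: if `f ∈ K[X]` is integral over `R[X]` then `f` has coefficients in `R`. -/
theorem core_mem {R : Type u} [CommRing R] [IsDomain R] [IsIntegrallyClosed R]
    (f : (FractionRing R)[X]) (hf : IsIntegral R[X] f) :
    ∃ g : R[X], g.map (algebraMap R (FractionRing R)) = f := by
  classical
  obtain ⟨P, hP, hPf⟩ := hf
  set K := FractionRing R with hK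
  set ι : R[X] →+* K[X] := algebraMap R[X] K[X] with hι
  have hιmap : ∀ a : R[X], ι a = a.map (algebraMap R K) := fun a => rfl
  set d := P.natDegree with hd
  -- bound
  set N := max f.natDegree ((Finset.range (d + 1)).sup fun k => (P.coeff k).natDegree) + 1 with hN
  have hNf : f.natDegree < N := by
    rw [hN]; exact Nat.lt_succ_of_le (le_max_left _ _)
  have hNa : ∀ k ≤ d, (P.coeff k).natDegree < N := by
    intro k hk
    rw [hN]
    refine Nat.lt_succ_of_le (le_trans ?_ (le_max_right _ _))
    exact Finset.le_sup (f := fun k => (P.coeff k).natDegree) (Finset.mem_range.2 (Nat.lt_succ_of_le hk))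
  -- q₀
  set q₀ : R[X] := P.eval (X ^ N) with hq₀
  have hq₀monic : q₀.Monic := by
    rw [hq₀, eval_eq_sum_range, ← hd, Finset.sum_range_succ, hP.coeff_natDegree, one_mul, add_comm,
      ← pow_mul]
    apply Polynomial.monic_X_pow_add
    refine lt_of_le_of_lt (degree_sum_le _ _) ?_
    rw [Finset.sup_lt_iff (by exact WithBot.bot_lt_coe _)]
    intro k hk
    have hkd : k < d := Finset.mem_range.1 hk
    refine lt_of_le_of_lt (degree_mul_le _ _) ?_
    rw [← pow_mul]
    refine lt_of_le_of_lt (add_le_add degree_le_natDegree (degree_X_pow_le _)) ?_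
    have h1 := hNa k hkd.le
    have : (P.coeff k).natDegree + N * k < N * d := by
      calc (P.coeff k).natDegree + N * k < N + N * k := by omega
        _ = N * (k + 1) := by ring
        _ ≤ N * d := Nat.mul_le_mul_left _ hkd
    exact_mod_cast this
  -- g
  set g : K[X] := X ^ N - f with hg
  have hgmonic : g.Monic := by
    rw [hg]
    exact Polynomial.monic_X_pow_sub (lt_of_le_of_lt degree_le_natDegree (by exact_mod_cast hNf))
  have hdvd : g ∣ q₀.map (algebraMap R K) := by
    have h1 := Polynomial.sub_dvd_eval_sub (X ^ N : K[X]) f (P.map ι)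
    have h2 : (P.map ι).eval f = 0 := by rw [eval_map]; exact hPf
    have h3 : (P.map ι).eval (X ^ N) = q₀.map (algebraMap R K) := by
      rw [eval_map, hq₀, ← hιmap]
      have : (X ^ N : K[X]) = ι (X ^ N) := by rw [hιmap]; simp
      rw [this]
      conv_rhs => rw [← eval₂_id, Polynomial.hom_eval₂, RingHom.comp_id]
    rw [h2, h3, sub_zero] at h1
    exact h1
  obtain ⟨g', hg'⟩ := IsIntegrallyClosed.eq_map_mul_C_of_dvd K hq₀monic hdvd
  rw [hgmonic.leadingCoeff, C_1, mul_one] at hg'
  refine ⟨X ^ N - g', ?_⟩
  rw [Polynomial.map_sub, hg', hg]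
  simp

theorem polynomial_isIntegrallyClosed (R : Type u) [CommRing R] [IsDomain R] [IsIntegrallyClosed R] :
    IsIntegrallyClosed R[X] := by
  have hinj : Function.Injective (algebraMap R[X] (FractionRing R)[X]) :=
    Polynomial.map_injective _ (IsFractionRing.injective R (FractionRing R))
  haveI : FaithfulSMul R[X] (FractionRing R)[X] := (faithfulSMul_iff_algebraMap_injective _ _).2 hinj
  haveI : IsIntegrallyClosedIn R[X] (FractionRing R)[X] := by
    rw [isIntegrallyClosedIn_iff]
    refine ⟨hinj, fun {x} hx => ?_⟩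
    obtain ⟨g, hg⟩ := core_mem x hx
    exact ⟨g, hg⟩
  exact IsIntegrallyClosed.of_isIntegrallyClosed_of_isIntegrallyClosedIn (R := R[X]) (S := (FractionRing R)[X])

theorem main (R : Type u) [CommRing R]
    (hR : ∀ (p : Ideal R) [p.IsPrime],
      IsDomain (Localization.AtPrime p) ∧ IsIntegrallyClosed (Localization.AtPrime p)) :
    ∀ (q : Ideal R[X]) [q.IsPrime],
      IsDomain (Localization.AtPrime q) ∧ IsIntegrallyClosed (Localization.AtPrime q) := by
  intro q hq
  set p : Ideal R := q.comap (C : R →+* R[X]) with hp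
  haveI : p.IsPrime := Ideal.comap_isPrime _ _
  obtain ⟨hdom, hic⟩ := hR p
  set Rp := Localization.AtPrime p with hRp
  haveI : IsIntegrallyClosed Rp[X] := polynomial_isIntegrallyClosed Rp
  set M₁ : Submonoid R[X] := p.primeCompl.map (C : R →+* R[X]) with hM₁
  haveI : IsLocalization M₁ Rp[X] := Polynomial.isLocalization p.primeCompl Rp
  have hle : M₁ ≤ q.primeCompl := by
    rintro _ ⟨s, hs, rfl⟩
    exact fun h => hs h
  set Tq := Localization.AtPrime q with hTq
  have hunits : ∀ y : M₁, IsUnit (algebraMap R[X] Tq y) := fun y =>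
    IsLocalization.map_units Tq (⟨y.1, hle y.2⟩ : q.primeCompl)
  letI : Algebra Rp[X] Tq := (IsLocalization.lift (M := M₁) (g := algebraMap R[X] Tq) hunits).toAlgebra
  haveI : IsScalarTower R[X] Rp[X] Tq := IsScalarTower.of_algebraMap_eq fun x =>
    (IsLocalization.lift_eq (M := M₁) hunits x).symm
  haveI : IsLocalization (q.primeCompl.map (algebraMap R[X] Rp[X])) Tq :=
    IsLocalization.isLocalization_of_submonoid_le Rp[X] Tq M₁ q.primeCompl hle
  have hM : q.primeCompl.map (algebraMap R[X] Rp[X]) ≤ nonZeroDivisors Rp[X] := by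
    rintro _ ⟨t, ht, rfl⟩
    apply mem_nonZeroDivisors_of_ne_zero
    intro h0
    rw [IsLocalization.map_eq_zero_iff M₁] at h0
    obtain ⟨⟨_, s, hs, rfl⟩, hm⟩ := h0
    have : C s * t ∈ q := by
      have : C s * t = 0 := hm
      rw [this]; exact q.zero_mem
    rcases hq.mem_or_mem this with h | h
    · exact hs h
    · exact ht h
  exact ⟨IsLocalization.isDomain_of_le_nonZeroDivisors Tq hM,
    isIntegrallyClosed_of_isLocalization Tq (q.primeCompl.map (algebraMap R[X] Rp[X])) hM⟩


end


/-- Let R be a normal ring (every localization at a prime is an integrally closed domain). Then R[x] is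
a normal ring. -/
theorem result (R : Type u) [CommRing R] (hR : EGA4.IsNormalRing R) : EGA4.IsNormalRing (Polynomial R) := by
  exact main R hR

end Groth.Agent.S6300
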