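import Groth.Statements.S6301
import Mathlib

set_option autoImplicit false
universe u
open CAlg

namespace Groth.Agent.S6301

/-- An R-module M is flat exactly when, for every finitely presented R-module P and every surjective
R-module map N → M, the induced map Hom_R(P, N) → Hom_R(P, M) is surjective (modules P, N taken in
the same universe). -/
theorem result {R : Type u} [CommRing R] (M : Type u) [AddCommGroup M] [Module R M] : Module.Flat R M ↔ ∀ (P : Type u) [AddCommGroup P] [Module R P], Module.FinitePresentation R P → ∀ (N : Type u) [AddCommGroup N] [Module R N] (g : N →ₗ[R] M), Function.Surjective g → ∀ h : P →ₗ[R] M, ∃ h' : P →ₗ[R] N, g.comp h' = h := by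
  constructor
  · intro hM P _ _ hP N _ _ g hg h
    obtain ⟨k, h₂, h₃, rfl⟩ := Module.Flat.exists_factorization_of_finitePresentation h
    obtain ⟨h', hh'⟩ := Module.projective_lifting_property g h₃ hg
    exact ⟨h' ∘ₗ h₂, by rw [← LinearMap.comp_assoc, hh']⟩
  · intro H
    classical
    rw [Module.Flat.iff_forall_isTrivialRelation]
    intro l f x hfx
    rw [Module.isTrivialRelation_iff_vanishesTrivially]
    let K : Submodule R (Fin l → R) := Submodule.span R {f}
    let X : (Fin l → R) →ₗ[R] M := Fintype.linearCombination R x
    have hXf : X f = 0 := by
      simp only [X, Fintype.linearCombination_apply]; exact hfx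
    have hK : K ≤ LinearMap.ker X := by
      rw [Submodule.span_le]
      intro y hy
      rw [Set.mem_singleton_iff] at hy
      rw [hy]; exact hXf
    let h : ((Fin l → R) ⧸ K) →ₗ[R] M := K.liftQ X hK
    have hP : Module.FinitePresentation R ((Fin l → R) ⧸ K) :=
      Module.finitePresentation_of_surjective K.mkQ K.mkQ_surjective
        (by rw [Submodule.ker_mkQ]; exact Submodule.fg_span_singleton f)
    have hg : Function.Surjective (Finsupp.linearCombination R (id : M → M)) := by
      intro m
      exact ⟨Finsupp.single m 1, by simp⟩
    obtain ⟨h', hh'⟩ := H _ hP (M →₀ R) (Finsupp.linearCombination R id) hg h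
    let w : Fin l → (M →₀ R) := fun i => h' (K.mkQ (Pi.single i 1))
    let S : Finset M := Finset.univ.biUnion (fun i => (w i).support)
    refine TensorProduct.VanishesTrivially.of_fintype (κ := S) (fun i s => w i s) (fun s => s) ?_ ?_
    · intro i
      have h1 : x i = Finsupp.linearCombination R id (w i) := by
        have := LinearMap.congr_fun hh' (K.mkQ (Pi.single i 1))
        simp only [LinearMap.comp_apply] at this
        rw [this]
        simp [h, X, Fintype.linearCombination_apply]
      rw [h1, Finsupp.linearCombination_apply, Finsupp.sum]
      have hsub : (w i).support ⊆ S := by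
        intro m hm
        exact Finset.mem_biUnion.mpr ⟨i, Finset.mem_univ _, hm⟩
      rw [Finset.sum_subset hsub (fun m _ hm => by
        rw [Finsupp.notMem_support_iff] at hm; simp [hm])]
      rw [← Finset.sum_coe_sort S]
      rfl
    · intro s
      have h2 : ∑ i, f i • w i = 0 := by
        simp only [w, ← map_smul, ← map_sum]
        have : ∑ i, f i • (Pi.single i (1 : R) : Fin l → R) = f := by
          ext j
          simp [Finset.sum_apply, Pi.single_apply]
        rw [this]
        have : K.mkQ f = 0 := by
          rw [Submodule.mkQ_apply, Submodule.Quotient.mk_eq_zero]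
          exact Submodule.mem_span_singleton_self f
        rw [this, map_zero]
      have := DFunLike.congr_fun h2 (s : M)
      simp only [Finsupp.coe_finsetSum, Finset.sum_apply, Finsupp.coe_smul, Pi.smul_apply, smul_eq_mul, Finsupp.coe_zero, Pi.zero_apply] at this
      simp only [smul_eq_mul]
      rw [← this]
      exact Finset.sum_congr rfl (fun i _ => mul_comm _ _)

end Groth.Agent.S6301
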