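import Groth.Statements.S6303
import Mathlib

set_option autoImplicit false
universe u
open CAlg

namespace Groth.Agent.S6303

open TensorProduct

theorem tmul_mk_eq_zero {R : Type u} [CommRing R] (I : Ideal R) (M : Type u) [AddCommGroup M]
    [Module R M] (x : M) (hx : x ∈ I • (⊤ : Submodule R M)) :
    x ⊗ₜ[R] (Submodule.Quotient.mk (1 : R) : R ⧸ I) = 0 := by
  refine Submodule.smul_induction_on hx ?_ ?_
  · intro a ha m _
    rw [TensorProduct.smul_tmul, ← Submodule.Quotient.mk_smul, smul_eq_mul, mul_one,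
      (Submodule.Quotient.mk_eq_zero I).2 ha, TensorProduct.tmul_zero]
  · intro a b ha hb
    rw [TensorProduct.add_tmul, ha, hb, add_zero]

theorem rid_mem {R : Type u} [CommRing R] (K : Ideal R) (M : Type u) [AddCommGroup M]
    [Module R M] (y : M ⊗[R] K) :
    TensorProduct.rid R M (K.subtype.lTensor M y) ∈ K • (⊤ : Submodule R M) := by
  induction y using TensorProduct.induction_on with
  | zero => simp
  | tmul m a =>
    simp only [LinearMap.lTensor_tmul, Submodule.subtype_apply, TensorProduct.rid_tmul]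
    exact Submodule.smul_mem_smul a.2 trivial
  | add a b ha hb =>
    rw [map_add, map_add]
    exact Submodule.add_mem _ ha hb

/-- Let R be a ring, I, J ⊆ R ideals and M a flat R-module. Then IM ∩ JM = (I ∩ J)M. -/
theorem result {R : Type u} [CommRing R] (I J : Ideal R) (M : Type u) [AddCommGroup M] [Module R M] [Module.Flat R M] : (I • (⊤ : Submodule R M)) ⊓ (J • ⊤) = (I ⊓ J) • (⊤ : Submodule R M) := by
  apply le_antisymm
  · rintro x ⟨hxI, hxJ⟩
    let φ : R →ₗ[R] (R ⧸ I) × (R ⧸ J) := LinearMap.prod I.mkQ J.mkQ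
    have hker : Function.Exact (I ⊓ J).subtype φ := by
      rw [LinearMap.exact_iff, Submodule.range_subtype]
      ext r
      simp [φ]
    have hex := Module.Flat.lTensor_exact M hker
    have h0 : φ.lTensor M (x ⊗ₜ[R] (1 : R)) = 0 := by
      apply (TensorProduct.prodRight R R M (R ⧸ I) (R ⧸ J)).injective
      rw [map_zero, LinearMap.lTensor_tmul, TensorProduct.prodRight_tmul]
      have h1 := tmul_mk_eq_zero I M x hxI
      have h2 := tmul_mk_eq_zero J M x hxJ
      change (x ⊗ₜ[R] (Submodule.Quotient.mk (1 : R) : R ⧸ I),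
        x ⊗ₜ[R] (Submodule.Quotient.mk (1 : R) : R ⧸ J)) = 0
      rw [h1, h2]
      rfl
    obtain ⟨y, hy⟩ := (hex _).1 h0
    have := rid_mem (I ⊓ J) M y
    rw [hy, TensorProduct.rid_tmul, one_smul] at this
    exact this
  · exact le_inf (Submodule.smul_mono_left inf_le_left) (Submodule.smul_mono_left inf_le_right)

end Groth.Agent.S6303
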