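import Groth.Statements.S6304
import Groth.Agent.S6305

set_option autoImplicit false
universe u
open CAlg

namespace Groth.Agent.S6304

/-- In a short exact sequence 0 → M' → M → M'' → 0 of R-modules whose right-hand term M'' is flat, the
middle term M is flat when M' is, and M' is flat when M is. -/
theorem result {R : Type u} [CommRing R] {M' M M'' : Type u} [AddCommGroup M'] [Module R M'] [AddCommGroup M] [Module R M] [AddCommGroup M''] [Module R M''] (f : M' →ₗ[R] M) (g : M →ₗ[R] M'') (hf : Function.Injective f) (hexact : Function.Exact f g) (hg : Function.Surjective g) [Module.Flat R M''] : (Module.Flat R M' → Module.Flat R M) ∧ (Module.Flat R M → Module.Flat R M') := by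
  have hu := Groth.Agent.S6305.univInj_of_flat f g hf hexact hg
  constructor
  · intro hM'
    rw [Module.Flat.iff_lTensor_preserves_injective_linearMap]
    intro N N' _ _ _ _ i hi
    rw [injective_iff_map_eq_zero]
    intro x hx
    have h1 : g.rTensor N x = 0 := by
      apply Module.Flat.lTensor_preserves_injective_linearMap (M := M'') i hi
      rw [map_zero, Groth.Agent.S6269.sq, hx, map_zero]
    obtain ⟨y, rfl⟩ := (rTensor_exact N hexact hg _).1 h1
    rw [Groth.Agent.S6269.sq] at hx
    have h2 : i.lTensor M' y = 0 := hu N' (by rw [hx, map_zero])
    have h3 : y = 0 := Module.Flat.lTensor_preserves_injective_linearMap (M := M') i hi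
      (by rw [h2, map_zero])
    rw [h3, map_zero]
  · intro hM
    exact Groth.Agent.S6269.flat_left f hu

end Groth.Agent.S6304
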