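import Groth.Statements.S6307
import Mathlib

set_option autoImplicit false
universe u
open CAlg

namespace Groth.Agent.S6307

/-- Let R be a ring, J ⊆ R a principal ideal and I ⊆ J an ideal. Then I = J · (I : J). -/
theorem result {R : Type u} [CommRing R] (I J : Ideal R) (hJ : J.IsPrincipal) (hIJ : I ≤ J) : I = J * I.colon J := by
  obtain ⟨a, ha⟩ := hJ.principal
  have ha' : J = Ideal.span {a} := ha
  apply le_antisymm
  · intro x hx
    have hxJ := hIJ hx
    rw [ha', Ideal.mem_span_singleton'] at hxJ
    obtain ⟨y, rfl⟩ := hxJ
    rw [mul_comm y a]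
    refine Ideal.mul_mem_mul ?_ ?_
    · rw [ha']; exact Ideal.mem_span_singleton_self a
    · rw [Submodule.mem_colon]
      intro j hj
      have hj' : j ∈ Ideal.span {a} := by rw [← ha']; exact hj
      rw [Ideal.mem_span_singleton'] at hj'
      obtain ⟨z, rfl⟩ := hj'
      have : y • (z * a) = z * (y * a) := by simp [smul_eq_mul]; ring
      rw [this]
      exact I.mul_mem_left z hx
  · rw [Ideal.mul_le]
    intro j hj r hr
    rw [Submodule.mem_colon] at hr
    have := hr j hj
    rw [smul_eq_mul, mul_comm] at this
    exact this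

end Groth.Agent.S6307
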