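import Groth.Statements.S6309
import Mathlib

set_option autoImplicit false
universe u
open scoped TensorProduct
open CAlg

namespace Groth.Agent.S6309
open scoped TensorProduct

section
variable {R : Type u} [CommRing R] (p : Ideal R) [p.IsPrime]

local notation "Rp" => Localization.AtPrime p
local notation "κ" => p.ResidueField

noncomputable def theta (P : Type u) [AddCommGroup P] [Module R P] :
    κ ⊗[R] P → κ ⊗[Rp] (LocalizedModule p.primeCompl P) := fun z =>
  (LinearEquiv.lTensor κ ((IsLocalizedModule.isBaseChange p.primeCompl Rp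
    (LocalizedModule.mkLinearMap p.primeCompl P)).equiv))
    ((TensorProduct.AlgebraTensorModule.cancelBaseChange R Rp κ κ P).symm z)

theorem theta_bij (P : Type u) [AddCommGroup P] [Module R P] : Function.Bijective (theta p P) := by
  unfold theta
  exact (LinearEquiv.bijective _).comp (LinearEquiv.bijective _)

theorem theta_add (P : Type u) [AddCommGroup P] [Module R P] (x y) :
    theta p P (x + y) = theta p P x + theta p P y := by
  unfold theta
  simp only [map_add]

theorem theta_tmul (P : Type u) [AddCommGroup P] [Module R P] (a : κ) (x : P) :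
    theta p P (a ⊗ₜ x) = a ⊗ₜ (LocalizedModule.mkLinearMap p.primeCompl P x) := by
  unfold theta
  simp [IsBaseChange.equiv_tmul]

theorem theta_nat {P₁ P₂ : Type u} [AddCommGroup P₁] [Module R P₁] [AddCommGroup P₂] [Module R P₂]
    (φ : P₁ →ₗ[R] P₂) (z : κ ⊗[R] P₁) :
    theta p P₂ (φ.lTensor κ z) = ((LocalizedModule.map p.primeCompl φ).lTensor κ) (theta p P₁ z) := by
  induction z using TensorProduct.induction_on with
  | zero => 
    have h0 : ∀ (P : Type u) [AddCommGroup P] [Module R P], theta p P 0 = 0 := by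
      intro P _ _
      have := theta_add p P 0 0
      simpa using this
    simp [h0]
  | tmul a x =>
    simp [theta_tmul]
  | add x y hx hy =>
    simp only [map_add, theta_add, hx, hy]

theorem inj_of_inj {P₁ P₂ : Type u} [AddCommGroup P₁] [Module R P₁] [AddCommGroup P₂] [Module R P₂]
    (φ : P₁ →ₗ[R] P₂) (h : Function.Injective (φ.lTensor κ)) :
    Function.Injective ((LocalizedModule.map p.primeCompl φ).lTensor κ) := by
  intro x y hxy
  obtain ⟨x, rfl⟩ := (theta_bij p P₁).2 x
  obtain ⟨y, rfl⟩ := (theta_bij p P₁).2 y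
  rw [← theta_nat, ← theta_nat] at hxy
  rw [h ((theta_bij p P₂).1 hxy)]

theorem hard {P₁ P₂ : Type u} [AddCommGroup P₁] [Module R P₁] [AddCommGroup P₂] [Module R P₂]
    [Module.Finite R P₁] [Module.Projective R P₁] [Module.Finite R P₂] [Module.Projective R P₂]
    (φ : P₁ →ₗ[R] P₂) (h : Function.Injective (φ.lTensor κ)) :
    ∃ (l : P₂ →ₗ[R] P₁) (g : R), g ∉ p ∧ l ∘ₗ φ = g • LinearMap.id := by
  have h1 := inj_of_inj p φ h
  set S := p.primeCompl with hS
  set φp : LocalizedModule S P₁ →ₗ[Rp] LocalizedModule S P₂ := LocalizedModule.map S φ with hφp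
  haveI : Module.Free Rp (LocalizedModule S P₂) := Module.free_of_flat_of_isLocalRing
  obtain ⟨l', hl'⟩ := (IsLocalRing.split_injective_iff_lTensor_residueField_injective φp).2 h1
  set mk₁ := LocalizedModule.mkLinearMap S P₁ with hmk₁
  set mk₂ := LocalizedModule.mkLinearMap S P₂ with hmk₂
  haveI : Module.FinitePresentation R P₂ := Module.finitePresentation_of_projective R P₂
  obtain ⟨h', s, hs⟩ := Module.FinitePresentation.exists_lift_of_isLocalizedModule S mk₁
    ((l'.restrictScalars R) ∘ₗ mk₂)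
  have hnat : mk₂ ∘ₗ φ = (φp.restrictScalars R) ∘ₗ mk₁ := by
    ext x
    simp [hmk₁, hmk₂, hφp, LocalizedModule.map_mk]
  have hl'' : ∀ x, l' (φp x) = x := fun x => LinearMap.congr_fun hl' x
  have H : mk₁ ∘ₗ (h' ∘ₗ φ) = mk₁ ∘ₗ ((s : R) • LinearMap.id) := by
    rw [← LinearMap.comp_assoc, hs]
    ext x
    have := LinearMap.congr_fun hnat x
    simp only [LinearMap.comp_apply] at this
    simp only [LinearMap.comp_apply, LinearMap.smul_apply, LinearMap.restrictScalars_apply, this,
      hl'', LinearMap.id_apply, map_smul]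
    rfl
  obtain ⟨t, ht⟩ := Module.Finite.exists_smul_of_comp_eq_of_isLocalizedModule S mk₁ _ _ H
  refine ⟨(t : R) • h', (t : R) * s, ?_, ?_⟩
  · exact (t * s).2
  · rw [LinearMap.smul_comp, mul_smul]
    exact ht

end

theorem easy {R : Type u} [CommRing R] (p : Ideal R) [p.IsPrime]
    {P₁ P₂ : Type u} [AddCommGroup P₁] [Module R P₁] [AddCommGroup P₂] [Module R P₂]
    (φ : P₁ →ₗ[R] P₂) (l : P₂ →ₗ[R] P₁) (g : R) (hg : g ∉ p) (hl : l ∘ₗ φ = g • LinearMap.id) :
    Function.Injective (φ.lTensor p.ResidueField) := by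
  have h1 : (l.lTensor p.ResidueField) ∘ₗ (φ.lTensor p.ResidueField) = g • LinearMap.id := by
    rw [← LinearMap.lTensor_comp, hl, LinearMap.lTensor_smul, LinearMap.lTensor_id]
  have hg' : algebraMap R p.ResidueField g ≠ 0 := by
    rw [Ne, Ideal.algebraMap_residueField_eq_zero]
    exact hg
  intro x y hxy
  have h2 := congrArg (l.lTensor p.ResidueField) hxy
  rw [← LinearMap.comp_apply, ← LinearMap.comp_apply, h1] at h2
  simp only [LinearMap.smul_apply, LinearMap.id_apply] at h2
  rw [← algebraMap_smul p.ResidueField g x, ← algebraMap_smul p.ResidueField g y] at h2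
  exact smul_right_injective _ hg' h2

/-- the ideal of `g` such that `g • id` factors through `φ` on the left -/
def J {R : Type u} [CommRing R]
    {P₁ P₂ : Type u} [AddCommGroup P₁] [Module R P₁] [AddCommGroup P₂] [Module R P₂]
    (φ : P₁ →ₗ[R] P₂) : Ideal R where
  carrier := {g | ∃ l : P₂ →ₗ[R] P₁, l ∘ₗ φ = g • LinearMap.id}
  add_mem' := by
    rintro a b ⟨l₁, h₁⟩ ⟨l₂, h₂⟩
    exact ⟨l₁ + l₂, by rw [LinearMap.add_comp, h₁, h₂, add_smul]⟩
  zero_mem' := ⟨0, by simp⟩
  smul_mem' := by
    rintro c a ⟨l, h⟩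
    exact ⟨c • l, by rw [LinearMap.smul_comp, h, smul_eq_mul, mul_smul]⟩

theorem mem_J {R : Type u} [CommRing R]
    {P₁ P₂ : Type u} [AddCommGroup P₁] [Module R P₁] [AddCommGroup P₂] [Module R P₂]
    (φ : P₁ →ₗ[R] P₂) (g : R) : g ∈ J φ ↔ ∃ l : P₂ →ₗ[R] P₁, l ∘ₗ φ = g • LinearMap.id := Iff.rfl


theorem main {R : Type u} [CommRing R] {P₁ P₂ : Type u} [AddCommGroup P₁] [Module R P₁] [AddCommGroup P₂] [Module R P₂] [Module.Finite R P₁] [Module.Projective R P₁] [Module.Finite R P₂] [Module.Projective R P₂] (φ : P₁ →ₗ[R] P₂) : IsOpen {p : PrimeSpectrum R | Function.Injective (φ.lTensor p.asIdeal.ResidueField)} ∧ ∀ f : R, (↑(PrimeSpectrum.basicOpen f) : Set (PrimeSpectrum R)) ⊆ {p : PrimeSpectrum R | Function.Injective (φ.lTensor p.asIdeal.ResidueField)} → Function.Injective (LocalizedModule.map (Submonoid.powers f) φ) ∧ Module.Finite (Localization.Away f) (LocalizedModule (Submonoid.powers f) (P₂ ⧸ LinearMap.range φ)) ∧ Module.Projective (Localization.Away f) (LocalizedModule (Submonoid.powers f) (P₂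 ⧸ LinearMap.range φ)) := by
  have hU : {p : PrimeSpectrum R | Function.Injective (φ.lTensor p.asIdeal.ResidueField)} =
      (PrimeSpectrum.zeroLocus (J φ : Set R))ᶜ := by
    ext p
    simp only [Set.mem_ofPred_eq, Set.mem_compl_iff, PrimeSpectrum.mem_zeroLocus]
    constructor
    · intro h hle
      obtain ⟨l, g, hg, hl⟩ := hard p.asIdeal φ h
      exact hg (hle ⟨l, hl⟩)
    · intro h
      rw [Set.not_subset] at h
      obtain ⟨g, ⟨l, hl⟩, hg⟩ := h
      exact easy p.asIdeal φ l g hg hl
  rw [hU]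
  refine ⟨(PrimeSpectrum.isClosed_zeroLocus _).isOpen_compl, fun f hf => ?_⟩
  -- f ∈ radical J
  have hrad : f ∈ (J φ).radical := by
    rw [Ideal.radical_eq_sInf, Ideal.mem_sInf]
    rintro q ⟨hJq, hq⟩
    by_contra hfq
    have : (⟨q, hq⟩ : PrimeSpectrum R) ∈ (PrimeSpectrum.zeroLocus (J φ : Set R))ᶜ := hf hfq
    exact this hJq
  obtain ⟨N, l, hl⟩ := hrad
  set S := Submonoid.powers f with hS
  set A := Localization.Away f with hA
  set Φ : LocalizedModule S P₁ →ₗ[Localization S] LocalizedModule S P₂ := LocalizedModule.map S φ with hΦ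
  set Λ₀ : LocalizedModule S P₂ →ₗ[Localization S] LocalizedModule S P₁ := LocalizedModule.map S l with hΛ₀
  have hu : IsUnit (algebraMap R (Localization S) (f ^ N)) :=
    IsLocalization.map_units (Localization S) (⟨f ^ N, N, rfl⟩ : S)
  have hcomp : ∀ x, Λ₀ (Φ x) = (algebraMap R (Localization S) (f ^ N)) • x := by
    intro x
    induction x using LocalizedModule.induction_on with
    | h m s =>
      simp only [hΦ, hΛ₀, LocalizedModule.map_mk]
      have := LinearMap.congr_fun hl m
      simp only [LinearMap.comp_apply, LinearMap.smul_apply, LinearMap.id_apply] at this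
      rw [this, algebraMap_smul, LocalizedModule.smul'_mk]
  set Λ : LocalizedModule S P₂ →ₗ[Localization S] LocalizedModule S P₁ := (↑hu.unit⁻¹ : Localization S) • Λ₀ with hΛ
  have hΛΦ : Λ ∘ₗ Φ = LinearMap.id := by
    ext x
    simp only [hΛ, LinearMap.comp_apply, LinearMap.smul_apply, hcomp, LinearMap.id_apply]
    rw [smul_smul]
    have : (↑hu.unit⁻¹ : Localization S) * algebraMap R (Localization S) (f ^ N) = 1 := by
      exact hu.val_inv_mul
    rw [this, one_smul]
  have hinj : Function.Injective Φ :=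
    Function.HasLeftInverse.injective ⟨Λ, fun x => LinearMap.congr_fun hΛΦ x⟩
  set G : LocalizedModule S P₂ →ₗ[Localization S] LocalizedModule S (P₂ ⧸ LinearMap.range φ) :=
    LocalizedModule.map S (LinearMap.range φ).mkQ with hG
  have hGsurj : Function.Surjective G :=
    LocalizedModule.map_surjective S _ (Submodule.mkQ_surjective _)
  have hex : Function.Exact Φ G :=
    LocalizedModule.map_exact S φ (LinearMap.range φ).mkQ (LinearMap.exact_map_mkQ_range φ)
  have hsplit : Function.Injective Φ ∧ ∃ σ, G ∘ₗ σ = LinearMap.id := by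
    have h10 := (hex.split_tfae').out 1 0
    exact h10.1 ⟨hGsurj, Λ, hΛΦ⟩
  obtain ⟨-, σ, hσ⟩ := hsplit
  refine ⟨hinj, Module.Finite.of_surjective G hGsurj, Module.Projective.of_split σ G hσ⟩



/-- Let R be a ring and φ : P₁ → P₂ a map of finite projective R-modules. The set U of primes p of R
such that φ ⊗ κ(p) is injective is open, and for every f ∈ R with D(f) ⊆ U the map (P₁)_f → (P₂)_f
is injective and Coker(φ)_f is a finite projective module over R_f. -/
theorem result {R : Type u} [CommRing R] {P₁ P₂ : Type u} [AddCommGroup P₁] [Module R P₁] [AddCommGroup P₂] [Module R P₂] [Module.Finite R P₁] [Module.Projective R P₁] [Module.Finite R P₂] [Module.Projective R P₂] (φ : P₁ →ₗ[R] P₂) : IsOpen {p : PrimeSpectrum R | Function.Injective (φ.lTensor p.asIdeal.ResidueField)} ∧ ∀ f : R, (↑(PrimeSpectrum.basicOpen f) : Set (PrimeSpectrum R)) ⊆ {p : PrimeSpectrum R | Function.Injective (φ.lTensor p.asIdeal.ResidueField)} → Function.Injective (LocalizedModule.map (Submonoid.powers f) φ) ∧ Module.Finite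 (Localization.Away f) (LocalizedModule (Submonoid.powers f) (P₂ ⧸ LinearMap.range φ)) ∧ Module.Projective (Localization.Away f) (LocalizedModule (Submonoid.powers f) (P₂ ⧸ LinearMap.range φ)) := by
  exact main φ

end Groth.Agent.S6309
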