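import Mathlib
import Groth.Statements.S6310

set_option autoImplicit false
universe u
open CAlg

namespace Groth.Agent.S6310

open Polynomial in
/-- A monic polynomial with lower coefficients in `I` evaluates at `s` to `s ^ n + i` with `i ∈ I`. -/
theorem eval_monic_sub_pow_mem {R : Type u} [CommRing R] (I : Ideal R) (p : R[X]) (hp : p.Monic)
    (hc : ∀ k, p.coeff k ∈ I ^ (p.natDegree - k)) (s : R) :
    p.eval s - s ^ p.natDegree ∈ I := by
  rw [Polynomial.eval_eq_sum_range, Finset.sum_range_succ, hp.coeff_natDegree, one_mul,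
    add_sub_cancel_right]
  refine Ideal.sum_mem _ (fun k hk => ?_)
  rw [Finset.mem_range] at hk
  refine Ideal.mul_mem_right _ _ ?_
  have h1 : p.natDegree - k ≠ 0 := by omega
  exact Ideal.pow_le_self h1 (hc k)

/-- If a finite module `C` satisfies `s C ⊆ I C`, then some `s ^ n + i` with `i ∈ I` kills `C`. -/
theorem exists_add_mem_kills {R : Type u} [CommRing R] (I : Ideal R) (C : Type u) [AddCommGroup C]
    [Module R C] [Module.Finite R C] (s : R)
    (hs : ∀ c : C, s • c ∈ I • (⊤ : Submodule R C)) :
    ∃ (n : ℕ) (i : R), i ∈ I ∧ ∀ c : C, (s ^ n + i) • c = 0 := by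
  let g : Module.End R C := algebraMap R (Module.End R C) s
  have hg : LinearMap.range g ≤ I • (⊤ : Submodule R C) := by
    rintro _ ⟨c, rfl⟩
    exact hs c
  obtain ⟨p, hmonic, -, hcoeff, hzero⟩ :=
    LinearMap.exists_monic_and_natDegree_eq_and_coeff_mem_pow_and_aeval_eq_zero R g I hg
  refine ⟨p.natDegree, p.eval s - s ^ p.natDegree,
    eval_monic_sub_pow_mem I p hmonic hcoeff s, fun c => ?_⟩
  rw [add_sub_cancel]
  have h1 : Polynomial.aeval g p = algebraMap R (Module.End R C) (p.eval s) := by
    rw [Polynomial.aeval_algebraMap_apply, Polynomial.coe_aeval_eq_eval]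
  rw [h1] at hzero
  have := congrArg (fun e : Module.End R C => e c) hzero
  simpa using this

/-- Let R be a ring, S ⊆ R a multiplicative subset, I ⊆ R an ideal and M a finite R-module. If x₁, …,
x_r ∈ M have images generating S⁻¹(M/IM) as an S⁻¹R-module, then there is f ∈ S + I (f = s + i with
s ∈ S, i ∈ I) such that x₁, …, x_r generate M_f as an R_f-module. -/
theorem result {R : Type u} [CommRing R] (S : Submonoid R) (I : Ideal R) (M : Type u) [AddCommGroup M] [Module R M] [Module.Finite R M] {r : ℕ} (x : Fin r → M) (hx : Submodule.span (Localization S) (Set.range fun j => LocalizedModule.mkLinearMap S (M ⧸ (I • (⊤ : Submodule R M))) (Submodule.Quotient.mk (x j))) = ⊤) : ∃ (s : R) (i : R), s ∈ S ∧ i ∈ I ∧ Submodule.span (Localization.Away (s + i)) (Set.range fun j => LocalizedModule.mkLinearMap (Submonoid.powers (s + i)) M (x j)) = ⊤ := by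
  classical
  set N : Submodule R M := Submodule.span R (Set.range x) with hN
  set Mbar := M ⧸ (I • (⊤ : Submodule R M)) with hMbar
  set N' : Submodule R Mbar := Submodule.span R (Set.range fun j => (Submodule.Quotient.mk (x j) : Mbar))
    with hN'
  -- Step 1: every element of the localization of `M/IM` is, up to `S`, in the image of `N'`
  have step1 : ∀ y : LocalizedModule S Mbar, ∃ s ∈ S, ∃ n ∈ N',
      s • y = LocalizedModule.mkLinearMap S Mbar n := by
    intro y
    have hy : y ∈ Submodule.span (Localization S) (Set.range fun j =>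
        LocalizedModule.mkLinearMap S (M ⧸ (I • (⊤ : Submodule R M))) (Submodule.Quotient.mk (x j))) := by
      rw [hx]; trivial
    induction hy using Submodule.span_induction with
    | mem y hy =>
      obtain ⟨j, rfl⟩ := hy
      exact ⟨1, S.one_mem, _, Submodule.subset_span ⟨j, rfl⟩, by rw [one_smul]⟩
    | zero => exact ⟨1, S.one_mem, 0, N'.zero_mem, by simp⟩
    | add y z _ _ hy hz =>
      obtain ⟨s, hs, n, hn, e⟩ := hy
      obtain ⟨t, ht, m, hm, e'⟩ := hz
      refine ⟨s * t, S.mul_mem hs ht, t • n + s • m,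
        N'.add_mem (N'.smul_mem _ hn) (N'.smul_mem _ hm), ?_⟩
      have h1 : (s * t) • y = t • (s • y) := by rw [← mul_smul, mul_comm]
      have h2 : (s * t) • z = s • (t • z) := by rw [← mul_smul]
      rw [smul_add, h1, h2, e, e', map_add, map_smul, map_smul]
    | smul a y _ hy =>
      obtain ⟨s, hs, n, hn, e⟩ := hy
      induction a using Localization.induction_on with
      | H a =>
        obtain ⟨r, u⟩ := a
        refine ⟨(u : R) * s, S.mul_mem u.2 hs, r • n, N'.smul_mem _ hn, ?_⟩
        have h2 : (u : R) • Localization.mk r u = algebraMap R (Localization S) r := by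
          rw [Localization.smul_mk, ← Localization.mk_one_eq_algebraMap, Localization.mk_eq_mk_iff,
            Localization.r_iff_exists]
          exact ⟨1, by simp [mul_comm]⟩
        have h1 : ((u : R) * s) • (Localization.mk r u • y) =
            ((u : R) • Localization.mk r u) • (s • y) := by
          rw [mul_smul, smul_comm s (Localization.mk r u) y, smul_assoc]
        rw [h1, e]
        rw [h2, algebraMap_smul, map_smul]
  -- Step 2
  have step2 : ∀ m : M, ∃ s ∈ S, s • m ∈ N ⊔ I • (⊤ : Submodule R M) := by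
    intro m
    obtain ⟨s, hs, n, hn, e⟩ := step1 (LocalizedModule.mkLinearMap S Mbar (Submodule.Quotient.mk m))
    rw [← map_smul, ← sub_eq_zero, ← map_sub,
      IsLocalizedModule.eq_zero_iff S (LocalizedModule.mkLinearMap S Mbar)] at e
    obtain ⟨u, hu⟩ := e
    have hn' : N' = N.map (I • (⊤ : Submodule R M)).mkQ := by
      rw [hN', hN, Submodule.map_span, ← Set.range_comp]
      rfl
    have h3 : (u : R) • n ∈ N' := N'.smul_mem _ hn
    rw [hn'] at h3
    obtain ⟨n₀, hn₀, en₀⟩ := h3
    refine ⟨(u : R) * s, S.mul_mem u.2 hs, ?_⟩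
    have h4 : ((u : R) * s) • m - n₀ ∈ I • (⊤ : Submodule R M) := by
      rw [← Submodule.Quotient.mk_eq_zero, Submodule.Quotient.mk_sub, Submodule.Quotient.mk_smul]
      rw [Submonoid.smul_def, smul_sub] at hu
      rw [mul_smul]
      have en₀' : (Submodule.Quotient.mk n₀ : Mbar) = (u : R) • n := en₀
      rw [en₀']
      exact hu
    have : ((u : R) * s) • m = n₀ + (((u : R) * s) • m - n₀) := by abel
    rw [this]
    exact Submodule.add_mem _ (Submodule.mem_sup_left hn₀) (Submodule.mem_sup_right h4)
  -- Step 3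
  have step3 : ∃ s₀ ∈ S, ∀ m : M, s₀ • m ∈ N ⊔ I • (⊤ : Submodule R M) := by
    obtain ⟨T, hT⟩ := (Module.Finite.fg_top : (⊤ : Submodule R M).FG)
    choose sf hsf hmem using step2
    refine ⟨∏ t ∈ T, sf t, Submonoid.prod_mem _ (fun t _ => hsf t), fun m => ?_⟩
    have hm : m ∈ Submodule.span R (T : Set M) := by rw [hT]; trivial
    induction hm using Submodule.span_induction with
    | mem t ht =>
      rw [← Finset.prod_erase_mul T sf ht, mul_smul]
      exact Submodule.smul_mem _ _ (hmem t)
    | zero => rw [smul_zero]; exact Submodule.zero_mem _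
    | add a b _ _ ha hb => rw [smul_add]; exact Submodule.add_mem _ ha hb
    | smul c a _ ha => rw [smul_comm]; exact Submodule.smul_mem _ _ ha
  obtain ⟨s₀, hs₀, hs₀M⟩ := step3
  -- Step 4
  have step4 : ∀ c : M ⧸ N, s₀ • c ∈ I • (⊤ : Submodule R (M ⧸ N)) := by
    intro c
    obtain ⟨m, rfl⟩ := Submodule.Quotient.mk_surjective _ c
    obtain ⟨n, hn, z, hz, e⟩ := Submodule.mem_sup.1 (hs₀M m)
    rw [← Submodule.Quotient.mk_smul, ← e, Submodule.Quotient.mk_add,
      (Submodule.Quotient.mk_eq_zero N).2 hn, zero_add]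
    have : (Submodule.Quotient.mk z : M ⧸ N) ∈ (I • (⊤ : Submodule R M)).map N.mkQ :=
      Submodule.mem_map_of_mem hz
    rw [Submodule.map_smul''] at this
    exact Submodule.smul_mono le_rfl le_top this
  obtain ⟨n, i, hi, hkill⟩ := exists_add_mem_kills I (M ⧸ N) s₀ step4
  refine ⟨s₀ ^ n, i, pow_mem hs₀ n, hi, ?_⟩
  set f := s₀ ^ n + i with hf
  have hfN : ∀ m : M, f • m ∈ N := by
    intro m
    rw [← Submodule.Quotient.mk_eq_zero, Submodule.Quotient.mk_smul]
    exact hkill _
  rw [eq_top_iff]
  rintro w -
  induction w using LocalizedModule.induction_on with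
  | h m t =>
    have h1 : LocalizedModule.mk m t =
        Localization.mk (1 : R) (⟨f, Submonoid.mem_powers f⟩ * t) •
          LocalizedModule.mkLinearMap (Submonoid.powers f) M (f • m) := by
      rw [LocalizedModule.mkLinearMap_apply, LocalizedModule.mk_smul_mk, one_smul, mul_one,
        LocalizedModule.mk_eq]
      refine ⟨1, ?_⟩
      simp only [one_smul, Submonoid.smul_def, Submonoid.coe_mul, mul_smul]
      rw [smul_comm]
    rw [h1]
    refine Submodule.smul_mem _ _ ?_
    have h2 : LocalizedModule.mkLinearMap (Submonoid.powers f) M (f • m) ∈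
        N.map (LocalizedModule.mkLinearMap (Submonoid.powers f) M) :=
      Submodule.mem_map_of_mem (hfN m)
    rw [hN, Submodule.map_span, ← Set.range_comp] at h2
    exact Submodule.span_le_restrictScalars R (Localization.Away f) _ h2

end Groth.Agent.S6310
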