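import Mathlib
import Groth.Statements.S6311
import Groth.Agent.Lib.Helper5.KZeroSub

set_option autoImplicit false
universe u
open CategoryTheory
open CAlg

namespace Groth.Agent.S6311

open Groth.Agent.Helper5.KZ

/-- finite projective modules -/
abbrev Pfp (R : Type u) [CommRing R] : ObjectProperty (ModuleCat.{u} R) :=
  fun M : ModuleCat.{u} R => Module.Finite R M ∧ Module.Projective R M

theorem clSub_exact' {R : Type u} [CommRing R] {M N L : Type u} [AddCommGroup M] [Module R M]
    [AddCommGroup N] [Module R N] [AddCommGroup L] [Module R L]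
    (hM : Module.Finite R M ∧ Module.Projective R M) (hN : Module.Finite R N ∧ Module.Projective R N)
    (hL : Module.Finite R L ∧ Module.Projective R L)
    (f : M →ₗ[R] N) (g : N →ₗ[R] L) (hfg : Function.Exact f g) (hf : Function.Injective f)
    (hg : Function.Surjective g) :
    KZero.clSub (Pfp R) (ModuleCat.of R N) =
      KZero.clSub (Pfp R) (ModuleCat.of R M) + KZero.clSub (Pfp R) (ModuleCat.of R L) := by
  have hS := ModuleCat.shortComplex_shortExact
    (ModuleCat.shortComplexOfCompEqZero f g hfg.linearMap_comp_eq_zero) hfg hf hg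
  exact clSub_shortExact (Pfp R) _ hS hM hN hL

theorem clSub_equiv' {R : Type u} [CommRing R] {M N : Type u} [AddCommGroup M] [Module R M]
    [AddCommGroup N] [Module R N]
    (hM : Module.Finite R M ∧ Module.Projective R M) (hN : Module.Finite R N ∧ Module.Projective R N)
    (e : M ≃ₗ[R] N) :
    KZero.clSub (Pfp R) (ModuleCat.of R M) = KZero.clSub (Pfp R) (ModuleCat.of R N) :=
  clSub_iso (Pfp R) (Z := ModuleCat.of R PUnit) e.toModuleIso hM hN
    (ModuleCat.isZero_of_subsingleton _)
    ⟨inferInstanceAs (Module.Finite R PUnit.{u+1}), inferInstanceAs (Module.Projective R PUnit.{u+1})⟩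

theorem clSub_pi {R : Type u} [CommRing R] (n : ℕ) :
    KZero.clSub (Pfp R) (ModuleCat.of R (Fin n → R)) =
      n • KZero.clSub (Pfp R) (ModuleCat.of R R) := by
  induction n with
  | zero =>
    rw [zero_smul]
    exact clSub_isZero (Pfp R) (ModuleCat.isZero_of_subsingleton _)
      ⟨inferInstanceAs (Module.Finite R (Fin 0 → R)),
        inferInstanceAs (Module.Projective R (Fin 0 → R))⟩
  | succ n ih =>
    have h1 : Module.Finite R (Fin n → R) ∧ Module.Projective R (Fin n → R) :=
      ⟨inferInstance, inferInstance⟩
    have h2 : Module.Finite R (Fin (n + 1) → R) ∧ Module.Projective R (Fin (n + 1) → R) :=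
      ⟨inferInstance, inferInstance⟩
    have h3 : Module.Finite R R ∧ Module.Projective R R := ⟨inferInstance, inferInstance⟩
    have h4 : Module.Finite R (R × (Fin n → R)) ∧ Module.Projective R (R × (Fin n → R)) :=
      ⟨inferInstance, inferInstance⟩
    have e : (Fin (n + 1) → R) ≃ₗ[R] R × (Fin n → R) := (Fin.consLinearEquiv R (fun _ => R)).symm
    rw [clSub_equiv' h2 h4 e]
    have := clSub_exact' h3 h4 h1 (LinearMap.inl R R (Fin n → R)) (LinearMap.snd R R (Fin n → R))
      (by
        intro x
        constructor
        · intro hx
          exact ⟨x.1, by ext <;> simp_all⟩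
        · rintro ⟨y, rfl⟩
          simp)
      LinearMap.inl_injective LinearMap.snd_surjective
    rw [this, ih, add_smul, one_smul, add_comm]

/-- Let R be a local ring. Then K₀(R), the Grothendieck group of the category of finite projective
R-modules, is isomorphic to ℤ via the rank; precisely, there is an isomorphism K₀(R) ≅ ℤ of abelian
groups sending the class [R] to 1 (such an isomorphism is then unique, K₀(R) being generated by
[R]). -/
theorem result (R : Type u) [CommRing R] [IsLocalRing R] : ∃ e : KZero.K0sub (fun M : ModuleCat.{u} R => Module.Finite R M ∧ Module.Projective R M) ≃+ ℤ, e (KZero.clSub (fun M : ModuleCat.{u} R => Module.Finite R M ∧ Module.Projective R M) (ModuleCat.of R R)) = 1 := by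
  classical
  have hfree : ∀ (M : ModuleCat.{u} R), Pfp R M → Module.Free R M := by
    intro M hM
    have := hM.1
    have := hM.2
    exact Module.free_of_flat_of_isLocalRing
  let rk : KZero.K0sub (Pfp R) →+ ℤ :=
    lift (Pfp R) (fun M => (Module.finrank R M.1 : ℤ)) (by
      intro S h₁ h₂ h₃ hS
      have := hfree _ h₁
      have := hfree _ h₃
      have := h₁.1
      have := h₃.1
      have := h₃.2
      obtain ⟨l, hl⟩ := Module.projective_lifting_property S.g.hom LinearMap.id
        hS.moduleCat_surjective_g
      have hex : Function.Exact S.f.hom S.g.hom :=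
        (CategoryTheory.ShortComplex.ShortExact.moduleCat_exact_iff_function_exact S).1 hS.exact
      let e := (hex.splitSurjectiveEquiv hS.moduleCat_injective_f ⟨l, hl⟩).1
      have h := e.finrank_eq
      rw [Module.finrank_prod] at h
      show (Module.finrank R S.X₂ : ℤ) = (Module.finrank R S.X₁ : ℤ) + (Module.finrank R S.X₃ : ℤ)
      rw [h]
      push_cast
      rfl)
  have hrk : ∀ (M : ModuleCat.{u} R) (h : Pfp R M),
      rk (KZero.clSub (Pfp R) M) = (Module.finrank R M : ℤ) :=
    fun M h => lift_clSub (Pfp R) _ _ M h
  have hR : Pfp R (ModuleCat.of R R) := ⟨inferInstanceAs (Module.Finite R R),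
    inferInstanceAs (Module.Projective R R)⟩
  have hrkR : rk (KZero.clSub (Pfp R) (ModuleCat.of R R)) = 1 := by
    rw [hrk _ hR]
    have : Module.finrank R (ModuleCat.of R R) = 1 := Module.finrank_self R
    rw [this]
    rfl
  have hleft : ∀ x : KZero.K0sub (Pfp R), (rk x) • KZero.clSub (Pfp R) (ModuleCat.of R R) = x := by
    intro x
    induction x using induction_on (P := Pfp R) with
    | zero => simp
    | of X hX =>
      have := hfree X hX
      have := hX.1
      rw [hrk X hX, natCast_zsmul]
      let b := Module.finBasis R X
      have e : X ≃ₗ[R] (Fin (Module.finrank R X) → R) := b.equivFun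
      have h1 : Module.Finite R (Fin (Module.finrank R X) → R) ∧
          Module.Projective R (Fin (Module.finrank R X) → R) := ⟨inferInstance, inferInstance⟩
      have h2 : KZero.clSub (Pfp R) X = KZero.clSub (Pfp R) (ModuleCat.of R X) := rfl
      rw [h2, clSub_equiv' hX h1 e, clSub_pi]
    | neg x hx => rw [map_neg, neg_smul, hx]
    | add x y hx hy => rw [map_add, add_smul, hx, hy]
  refine ⟨{ toFun := rk
            invFun := fun n => n • KZero.clSub (Pfp R) (ModuleCat.of R R)
            left_inv := hleft
            right_inv := fun n => by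
              show rk (n • KZero.clSub (Pfp R) (ModuleCat.of R R)) = n
              rw [map_zsmul, hrkR, smul_eq_mul, mul_one]
            map_add' := rk.map_add }, hrkR⟩

end Groth.Agent.S6311
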