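import Mathlib
import Groth.Statements.S6313
import Groth.Agent.Lib.Helper10.TorSymm

set_option autoImplicit false
universe u
open CategoryTheory
open CAlg

namespace Groth.Agent.S6313

/-- For a ring R and an R-module M, flatness of M over R is equivalent to the vanishing of Tor₁ᴿ(M, R/I)
for every finitely generated ideal I ⊆ R. -/
theorem result (R : Type u) [CommRing R] (M : Type u) [AddCommGroup M] [Module R M] : Module.Flat R M ↔ ∀ I : Ideal R, I.FG → Limits.IsZero (((CategoryTheory.Tor (ModuleCat.{u} R) 1).obj (ModuleCat.of R M)).obj (ModuleCat.of R (R ⧸ I))) := by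
  constructor
  · intro hflat I _
    have : Module.Flat R (ModuleCat.of R M) := hflat
    exact Groth.Agent.Helper18.TorLib.isZero_tor_succ_of_flat_left (ModuleCat.of R M)
      (ModuleCat.of R (R ⧸ I)) 0
  · intro h
    rw [Module.Flat.iff_rTensor_injective]
    intro I hI
    have h1 := (Groth.Agent.Helper10.TorSymm.isZero_tor_symm_iff (ModuleCat.of R M)
      (ModuleCat.of R (R ⧸ I)) 1).1 (h I hI)
    exact (Groth.Agent.Helper18.TorLib.isZero_tor_one_iff_injective (M := M) I.subtype I.mkQ
      (Submodule.injective_subtype _) (LinearMap.exact_subtype_mkQ I)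
      (Submodule.mkQ_surjective _)).1 h1

end Groth.Agent.S6313
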