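import Mathlib
import Groth.Statements.S6315
import Groth.Agent.Lib.Helper6.TorBalance

set_option autoImplicit false
universe u
open CategoryTheory
open CAlg

namespace Groth.Agent.S6315

open Groth.Agent.Helper18.TorLib Groth.Agent.Helper6.TorBalance MonoidalCategory

theorem finite_of_iso {R : Type u} [CommRing R] {X Y : ModuleCat.{u} R} (e : X ≅ Y)
    [Module.Finite R X] : Module.Finite R Y :=
  Module.Finite.equiv e.toLinearEquiv

theorem tor_finite (R : Type u) [CommRing R] [IsNoetherianRing R] (p : ℕ) :
    ∀ (M N : Type u) [AddCommGroup M] [Module R M] [AddCommGroup N] [Module R N]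
      [Module.Finite R M] [Module.Finite R N],
      Module.Finite R (((CategoryTheory.Tor (ModuleCat.{u} R) p).obj (ModuleCat.of R M)).obj
        (ModuleCat.of R N)) := by
  induction p with
  | zero =>
    intro M N _ _ _ _ _ _
    have : Module.Finite R (ModuleCat.of R M ⊗ ModuleCat.of R N : ModuleCat.{u} R) :=
      inferInstanceAs (Module.Finite R (TensorProduct R M N))
    exact finite_of_iso (tor0Iso (ModuleCat.of R M) (ModuleCat.of R N)).symm
  | succ n ih =>
    intro M N _ _ _ _ _ _
    obtain ⟨k, π, hπ⟩ := Module.Finite.exists_fin' R M
    let K := LinearMap.ker π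
    let S : ShortComplex (ModuleCat.{u} R) :=
      ShortComplex.mk (ModuleCat.ofHom K.subtype) (ModuleCat.ofHom π) (by
        ext x
        exact x.2)
    have hS : S.ShortExact := by
      refine ShortComplex.ShortExact.mk' ?_ ?_ ?_
      · rw [ShortComplex.ShortExact.moduleCat_exact_iff_function_exact]
        exact LinearMap.exact_subtype_ker_map π
      · exact (ModuleCat.mono_iff_injective _).2 (Submodule.injective_subtype _)
      · exact (ModuleCat.epi_iff_surjective _).2 hπ
    have hflat : Module.Flat R S.X₂ := inferInstanceAs (Module.Flat R (Fin k → R))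
    have hKfin : Module.Finite R K := inferInstance
    cases n with
    | zero =>
      obtain ⟨e⟩ := tor_one_iso_ker hS (ModuleCat.of R N)
      have : Module.Finite R (TensorProduct R K N) := inferInstance
      have : IsNoetherian R (TensorProduct R K N) := by
        have h := isNoetherian_of_isNoetherianRing_of_finite R (TensorProduct R K N)
        convert h
      have : Module.Finite R (ModuleCat.of R (LinearMap.ker (S.f.hom.rTensor (ModuleCat.of R N)))) :=
        inferInstanceAs (Module.Finite R (LinearMap.ker (K.subtype.rTensor N)))
      exact finite_of_iso e.symm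
    | succ n =>
      have := isIso_torδ hS (ModuleCat.of R N) n
      have h1 : Module.Finite R (((CategoryTheory.Tor (ModuleCat.{u} R) (n + 1)).obj S.X₁).obj
          (ModuleCat.of R N)) := ih K N
      exact finite_of_iso (asIso (torδ hS (ModuleCat.of R N) (n + 1))).symm

/-- Let R be a Noetherian ring and M, N finite R-modules. Then Tor_pᴿ(M, N) is a finite R-module for all
p. -/
theorem result (R : Type u) [CommRing R] [IsNoetherianRing R] (M N : Type u) [AddCommGroup M] [Module R M] [AddCommGroup N] [Module R N] [Module.Finite R M] [Module.Finite R N] (p : ℕ) : Module.Finite R (((CategoryTheory.Tor (ModuleCat.{u} R) p).obj (ModuleCat.of R M)).obj (ModuleCat.of R N)) := by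
  exact tor_finite R p M N

end Groth.Agent.S6315
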