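import Groth.Statements.S6318
import Mathlib

set_option autoImplicit false
universe u
open CategoryTheory
open CAlg

namespace Groth.Agent.S6318

open CategoryTheory.Limits

section
variable {R : Type u} [CommRing R]

theorem exists_cover (X : ModuleCat.{u} R) : ∃ (Q : ModuleCat.{u} R) (π : Q ⟶ X),
    Epi π ∧ Projective Q ∧ (Module.Finite R X → Module.Finite R Q ∧ Module.Free R Q) := by
  by_cases h : Module.Finite R X
  · obtain ⟨n, f, hf⟩ := Module.Finite.exists_fin' R X
    refine ⟨ModuleCat.of R (Fin n → R), ModuleCat.ofHom f, ?_, ?_, fun _ => ⟨?_, ?_⟩⟩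
    · exact (ModuleCat.epi_iff_surjective _).2 hf
    · exact ModuleCat.projective_of_free (Pi.basisFun R (Fin n))
    · show Module.Finite R (Fin n → R)
      infer_instance
    · show Module.Free R (Fin n → R)
      infer_instance
  · exact ⟨Projective.over X, Projective.π X, inferInstance, inferInstance, fun h' => absurd h' h⟩

noncomputable def cov (X : ModuleCat.{u} R) : ModuleCat.{u} R := (exists_cover X).choose

noncomputable def covπ (X : ModuleCat.{u} R) : cov X ⟶ X := (exists_cover X).choose_spec.choose

instance covπ_epi (X : ModuleCat.{u} R) : Epi (covπ X) := (exists_cover X).choose_spec.choose_spec.1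

instance cov_proj (X : ModuleCat.{u} R) : Projective (cov X) := (exists_cover X).choose_spec.choose_spec.2.1

theorem cov_fin (X : ModuleCat.{u} R) (h : Module.Finite R X) :
    Module.Finite R (cov X) ∧ Module.Free R (cov X) :=
  (exists_cover X).choose_spec.choose_spec.2.2 h

noncomputable def syz {X Y : ModuleCat.{u} R} (f : X ⟶ Y) : ModuleCat.{u} R := cov (kernel f)

noncomputable def dd {X Y : ModuleCat.{u} R} (f : X ⟶ Y) : syz f ⟶ X := covπ (kernel f) ≫ kernel.ι f

@[reassoc (attr := simp)]
theorem dd_comp {X Y : ModuleCat.{u} R} (f : X ⟶ Y) : dd f ≫ f = 0 := by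
  simp [dd]

theorem exact_dd_f {X Y : ModuleCat.{u} R} (f : X ⟶ Y) :
    (ShortComplex.mk (dd f) f (dd_comp f)).Exact := by
  let α : ShortComplex.mk (dd f) f (dd_comp f) ⟶ ShortComplex.mk (kernel.ι f) f (by simp) :=
    { τ₁ := covπ _
      τ₂ := 𝟙 _
      τ₃ := 𝟙 _
      comm₁₂ := by simp [dd]
      comm₂₃ := by simp }
  have : Epi α.τ₁ := covπ_epi _
  have : IsIso α.τ₂ := by dsimp [α]; infer_instance
  have : Mono α.τ₃ := by dsimp [α]; infer_instance
  rw [ShortComplex.exact_iff_of_epi_of_isIso_of_mono α]
  apply ShortComplex.exact_of_f_is_kernel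
  apply kernelIsKernel

theorem kernel_finite [IsNoetherianRing R] {X Y : ModuleCat.{u} R} (f : X ⟶ Y) (h : Module.Finite R X) :
    Module.Finite R (kernel f : ModuleCat.{u} R) := by
  have e := (ModuleCat.kernelIsoKer f).toLinearEquiv
  have : IsNoetherian R X := isNoetherian_of_isNoetherianRing_of_finite R X
  have : Module.Finite R (LinearMap.ker f.hom) := inferInstance
  exact Module.Finite.equiv e.symm

theorem syz_fin [IsNoetherianRing R] {X Y : ModuleCat.{u} R} (f : X ⟶ Y) (h : Module.Finite R X) :
    Module.Finite R (syz f) ∧ Module.Free R (syz f) :=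
  cov_fin _ (kernel_finite f h)

noncomputable def ofComplex (Z : ModuleCat.{u} R) : ChainComplex (ModuleCat.{u} R) ℕ :=
  ChainComplex.mk' (cov Z) (syz (covπ Z)) (dd (covπ Z)) (fun f => ⟨_, dd f, by simp⟩)

end

section
variable {R : Type u} [CommRing R]

theorem ofComplex_d_1_0 (Z : ModuleCat.{u} R) :
    (ofComplex Z).d 1 0 = dd (covπ Z) := by
  simp [ofComplex]

set_option backward.isDefEq.respectTransparency.types false in
theorem ofComplex_exactAt_succ (Z : ModuleCat.{u} R) (n : ℕ) :
    (ofComplex Z).ExactAt (n + 1) := by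
  rw [HomologicalComplex.exactAt_iff' _ (n + 1 + 1) (n + 1) n (by simp) (by simp)]
  simp only [HomologicalComplex.sc', HomologicalComplex.shortComplexFunctor', ofComplex,
    ChainComplex.mk', ChainComplex.mk, ChainComplex.of_d]
  match n with
  | 0 => apply exact_dd_f
  | n + 1 => apply exact_dd_f

set_option backward.isDefEq.respectTransparency.types false in
theorem ofComplex_proj (Z : ModuleCat.{u} R) (n : ℕ) : Projective ((ofComplex Z).X n) := by
  obtain (_ | _ | _ | n) := n <;> apply cov_proj

theorem mkAux_fin [IsNoetherianRing R] (Z : ModuleCat.{u} R) (hZ : Module.Finite R Z) (n : ℕ) :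
    let S := ChainComplex.mkAux (cov Z) (syz (covπ Z)) (syz (dd (covπ Z))) (covπ Z |> dd)
      (dd (dd (covπ Z))) (dd_comp _) (fun S => ⟨_, dd S.f, dd_comp _⟩) n
    (Module.Finite R S.X₁ ∧ Module.Free R S.X₁) ∧ (Module.Finite R S.X₂ ∧ Module.Free R S.X₂) ∧
      (Module.Finite R S.X₃ ∧ Module.Free R S.X₃) := by
  induction n with
  | zero =>
    have h0 := cov_fin Z hZ
    have h1 := syz_fin (covπ Z) h0.1
    have h2 := syz_fin (dd (covπ Z)) h1.1
    exact ⟨h2, h1, h0⟩
  | succ n ih =>
    obtain ⟨h1, h2, h3⟩ := ih
    exact ⟨syz_fin _ h1.1, h1, h2⟩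

theorem ofComplex_fin [IsNoetherianRing R] (Z : ModuleCat.{u} R) (hZ : Module.Finite R Z) (n : ℕ) :
    Module.Finite R ((ofComplex Z).X n) ∧ Module.Free R ((ofComplex Z).X n) :=
  (mkAux_fin Z hZ n).2.2

end

section
variable {R : Type u} [CommRing R]

set_option backward.defeqAttrib.useBackward true in
set_option backward.isDefEq.respectTransparency false in
noncomputable def res (Z : ModuleCat.{u} R) : ProjectiveResolution Z where
  complex := ofComplex Z
  projective := ofComplex_proj Z
  π := (ChainComplex.toSingle₀Equiv _ _).symm ⟨covπ Z, by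
          rw [ofComplex_d_1_0, dd_comp]⟩
  quasiIso := ⟨fun n => by
    cases n
    · rw [ChainComplex.quasiIsoAt₀_iff, ShortComplex.quasiIso_iff_of_zeros']
      · dsimp
        refine (ShortComplex.exact_and_epi_g_iff_of_iso ?_).2
          ⟨exact_dd_f (covπ Z), by dsimp; infer_instance⟩
        exact ShortComplex.isoMk (Iso.refl _) (Iso.refl _) (Iso.refl _)
          (by simp [ofComplex]) (by simp)
      all_goals rfl
    · rw [quasiIsoAt_iff_exactAt']
      · apply ofComplex_exactAt_succ
      · apply ChainComplex.exactAt_succ_single_obj⟩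

end

/-- Let R be a Noetherian ring and M a finite R-module. Then M has a resolution … → F₂ → F₁ → F₀ → M → 0
with every Fᵢ finite free; stated as the existence of a projective resolution of M in the category
of R-modules all of whose terms are finite free. -/
theorem result (R : Type u) [CommRing R] [IsNoetherianRing R] (M : Type u) [AddCommGroup M] [Module R M] [Module.Finite R M] : ∃ F : ProjectiveResolution (ModuleCat.of R M), ∀ n : ℕ, Module.Finite R (F.complex.X n) ∧ Module.Free R (F.complex.X n) := by
  exact ⟨res (ModuleCat.of R M), fun n => ofComplex_fin (ModuleCat.of R M) ‹_› n⟩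

end Groth.Agent.S6318
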