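import Mathlib
import Groth.Statements.S6319
import Groth.Agent.Lib.Helper5.KZeroSub

set_option autoImplicit false
universe u
open CategoryTheory
open CAlg

namespace Groth.Agent.S6319

/-- Let R be an Artinian local ring. The length function defines a homomorphism of abelian groups
length_R : K'₀(R) → ℤ on the Grothendieck group of finite R-modules, sending the class of a finite
module M to its (finite) length. -/
theorem result (R : Type u) [CommRing R] [IsArtinianRing R] [IsLocalRing R] : ∃ φ : KZero.K0sub (fun M : ModuleCat.{u} R => Module.Finite R M) →+ ℤ, ∀ (M : ModuleCat.{u} R), Module.Finite R M → (φ (KZero.clSub (fun M : ModuleCat.{u} R => Module.Finite R M) M) : ℤ) = (Module.length R M).toNat := by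
  classical
  have hfin : ∀ (M : ModuleCat.{u} R), Module.Finite R M → Module.length R M ≠ ⊤ := by
    intro M hM
    have : IsArtinian R M := inferInstance
    have : IsNoetherian R M := inferInstance
    exact Module.length_ne_top
  refine ⟨Groth.Agent.Helper5.KZ.lift (fun M : ModuleCat.{u} R => Module.Finite R M)
    (fun M => ((Module.length R M.1).toNat : ℤ)) ?_, fun M hM => ?_⟩
  · intro S h₁ h₂ h₃ hS
    have hadd : Module.length R S.X₂ = Module.length R S.X₁ + Module.length R S.X₃ :=
      Module.length_eq_add_of_exact S.f.hom S.g.hom hS.moduleCat_injective_f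
        hS.moduleCat_surjective_g ((CategoryTheory.ShortComplex.ShortExact.moduleCat_exact_iff_function_exact S).1 hS.exact)
    show ((Module.length R S.X₂).toNat : ℤ) = ((Module.length R S.X₁).toNat : ℤ) +
      ((Module.length R S.X₃).toNat : ℤ)
    rw [hadd, ENat.toNat_add (hfin _ h₁) (hfin _ h₃)]
    push_cast
    rfl
  · exact Groth.Agent.Helper5.KZ.lift_clSub _ _ _ M hM

end Groth.Agent.S6319
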