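import Groth.Statements.S6329
import Mathlib

set_option autoImplicit false
universe u
open CAlg

namespace Groth.Agent.S6329

theorem simple_loc {R : Type u} [CommRing R] (m : Ideal R) [m.IsMaximal] (Q : Type u)
    [AddCommGroup Q] [Module R Q] [IsSimpleModule R Q] :
    Module.length (Localization.AtPrime m) (LocalizedModule m.primeCompl Q) =
      if Module.annihilator R Q = m then 1 else 0 := by
  classical
  split_ifs with hann
  · rw [Module.length_eq_one_iff, isSimpleModule_iff_toSpanSingleton_surjective]
    have hkey : ∀ x : Q, x ≠ 0 → ∀ u ∈ m.primeCompl, u • x ≠ 0 := by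
      intro x hx u hu h0
      apply hu
      have hmem : u ∈ Module.annihilator R Q := by
        rw [Module.mem_annihilator]
        intro y
        obtain ⟨r, rfl⟩ := IsSimpleModule.toSpanSingleton_surjective R hx y
        simp only [LinearMap.toSpanSingleton_apply]
        rw [smul_comm, h0, smul_zero]
      rw [hann] at hmem
      exact hmem
    have hdummy : True := by
      have y : Q := 0
      trivial
    constructor
    · haveI := IsSimpleModule.nontrivial R Q
      obtain ⟨x, hx⟩ := exists_ne (0 : Q)
      refine ⟨LocalizedModule.mk x 1, 0, ?_⟩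
      intro h
      rw [← LocalizedModule.zero_mk 1, LocalizedModule.mk_eq] at h
      obtain ⟨u, hu⟩ := h
      simp only [one_smul, smul_zero] at hu
      exact hkey x hx u u.2 hu
    · intro z hz w
      induction z using LocalizedModule.induction_on with
      | h x s =>
        induction w using LocalizedModule.induction_on with
        | h y t =>
          have hx : x ≠ 0 := by
            rintro rfl
            exact hz (LocalizedModule.zero_mk s)
          obtain ⟨r, rfl⟩ := IsSimpleModule.toSpanSingleton_surjective R hx y
          refine ⟨Localization.mk (r * s) t, ?_⟩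
          simp only [LinearMap.toSpanSingleton_apply]
          rw [LocalizedModule.mk_smul_mk, LocalizedModule.mk_eq]
          refine ⟨1, ?_⟩
          simp only [one_smul, Submonoid.smul_def, Submonoid.coe_mul, smul_smul]
          congr 1
          ring
  · rw [Module.length_eq_zero_iff]
    have hmax : (Module.annihilator R Q).IsMaximal := IsSimpleModule.annihilator_isMaximal
    have : ¬ Module.annihilator R Q ≤ m := by
      intro hle
      exact hann (hmax.eq_of_le (Ideal.IsMaximal.ne_top ‹_›) hle)
    obtain ⟨a, haQ, ham⟩ := Set.not_subset.1 this
    refine ⟨fun z w => ?_⟩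
    have h0 : ∀ z : LocalizedModule m.primeCompl Q, z = 0 := by
      intro z
      induction z using LocalizedModule.induction_on with
      | h x s =>
        rw [← LocalizedModule.zero_mk 1, LocalizedModule.mk_eq]
        refine ⟨⟨a, ham⟩, ?_⟩
        simp only [one_smul, smul_zero, Submonoid.mk_smul]
        exact Module.mem_annihilator.1 haQ x
    rw [h0 z, h0 w]


theorem keyK {R : Type u} [CommRing R] (m : Ideal R) [m.IsMaximal] {M : Type u}
    [AddCommGroup M] [Module R M] (A B : Submodule R M) (hAB : A ⋖ B) :
    Module.length (Localization.AtPrime m) (LocalizedModule m.primeCompl B) =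
      Module.length (Localization.AtPrime m) (LocalizedModule m.primeCompl A) +
        (if A.colon (B : Set M) = m then 1 else 0) := by
  classical
  have hle : A ≤ B := hAB.le
  set A' : Submodule R B := Submodule.comap B.subtype A with hA'
  haveI : IsSimpleModule R (B ⧸ A') := (covBy_iff_quot_is_simple hle).1 hAB
  have hex : Function.Exact (Submodule.inclusion hle) A'.mkQ := by
    intro b
    rw [Submodule.mkQ_apply, Submodule.Quotient.mk_eq_zero, hA', Submodule.mem_comap]
    constructor
    · intro hb
      exact ⟨⟨b, hb⟩, rfl⟩
    · rintro ⟨a, rfl⟩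
      exact a.2
  have hann : Module.annihilator R (B ⧸ A') = A.colon (B : Set M) := by
    ext r
    rw [Module.mem_annihilator, Submodule.mem_colon]
    constructor
    · intro h b hb
      have := h (A'.mkQ ⟨b, hb⟩)
      rw [← map_smul, Submodule.mkQ_apply, Submodule.Quotient.mk_eq_zero] at this
      exact this
    · intro h q
      obtain ⟨b, rfl⟩ := A'.mkQ_surjective q
      rw [← map_smul, Submodule.mkQ_apply, Submodule.Quotient.mk_eq_zero]
      exact h b b.2
  rw [Module.length_eq_add_of_exact
    (LocalizedModule.map m.primeCompl (Submodule.inclusion hle))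
    (LocalizedModule.map m.primeCompl A'.mkQ)
    (LocalizedModule.map_injective _ _ (Submodule.inclusion_injective hle))
    (LocalizedModule.map_surjective _ _ A'.mkQ_surjective)
    (LocalizedModule.map_exact _ _ _ hex), simple_loc m (B ⧸ A'), hann]


theorem main {R : Type u} [CommRing R] (M : Type u) [AddCommGroup M] [Module R M] (s : CompositionSeries (Submodule R M)) (h0 : s.head = ⊥) (h1 : s.last = ⊤) (m : Ideal R) [m.IsMaximal] : ((Finset.univ.filter fun i : Fin s.length => (s i.castSucc).colon (s i.succ : Set M) = m).card : ℕ∞) = Module.length (Localization.AtPrime m) (LocalizedModule m.primeCompl M) := by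
  classical
  set δ : Fin s.length → ℕ∞ := fun i => if (s i.castSucc).colon (s i.succ : Set M) = m then 1 else 0 with hδ
  have claim : ∀ k (hk : k ≤ s.length), ∑ i ∈ Finset.univ.filter (fun i : Fin s.length => i.val < k), δ i =
      Module.length (Localization.AtPrime m) (LocalizedModule m.primeCompl (s ⟨k, Nat.lt_succ_of_le hk⟩)) := by
    intro k
    induction k with
    | zero =>
      intro hk
      have hs0 : s ⟨0, Nat.lt_succ_of_le hk⟩ = ⊥ := h0
      rw [hs0]
      simp only [not_lt_zero, Finset.filter_false, Finset.sum_empty]
      symm
      rw [Module.length_eq_zero_iff]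
      have h0' : ∀ z : LocalizedModule m.primeCompl (⊥ : Submodule R M), z = 0 := by
        intro z
        induction z using LocalizedModule.induction_on with
        | h x t =>
          have : x = 0 := Subsingleton.elim _ _
          rw [this, LocalizedModule.zero_mk]
      exact ⟨fun a b => by rw [h0' a, h0' b]⟩
    | succ k ih =>
      intro hk
      have hk' : k < s.length := hk
      have hfil : Finset.univ.filter (fun i : Fin s.length => i.val < k + 1) =
          insert (⟨k, hk'⟩ : Fin s.length) (Finset.univ.filter (fun i : Fin s.length => i.val < k)) := by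
        ext i
        simp only [Finset.mem_filter, Finset.mem_univ, true_and, Finset.mem_insert, Fin.ext_iff]
        omega
      rw [hfil, Finset.sum_insert (by simp), ih (le_of_lt hk'), add_comm]
      have := keyK m (s (⟨k, hk'⟩ : Fin s.length).castSucc) (s (⟨k, hk'⟩ : Fin s.length).succ) (s.step ⟨k, hk'⟩)
      exact this.symm
  have hfin := claim s.length le_rfl
  have hfil : Finset.univ.filter (fun i : Fin s.length => i.val < s.length) = Finset.univ := by
    ext i
    simp
  rw [hfil] at hfin
  have hlast : s ⟨s.length, Nat.lt_succ_of_le le_rfl⟩ = ⊤ := h1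
  rw [hlast] at hfin
  have hcard : ((Finset.univ.filter fun i : Fin s.length => (s i.castSucc).colon (s i.succ : Set M) = m).card : ℕ∞) = ∑ i, δ i := by
    rw [Finset.card_filter]
    push_cast
    rfl
  rw [hcard, hfin]
  set e : (⊤ : Submodule R M) ≃ₗ[R] M := Submodule.topEquiv with he
  exact (LinearEquiv.ofBijective (LocalizedModule.map m.primeCompl e.toLinearMap)
    ⟨LocalizedModule.map_injective _ _ e.injective, LocalizedModule.map_surjective _ _ e.surjective⟩).length_eq



/-- Let R be a ring, M an R-module and 0 = M₀ ⊂ M₁ ⊂ … ⊂ Mₙ = M a maximal chain of submodules (a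
composition series; each Mᵢ/Mᵢ₋₁ is simple, of the form R/mᵢ with mᵢ = (Mᵢ₋₁ : Mᵢ) maximal). Then
for every maximal ideal m of R the number of indices i with mᵢ = m equals length_{R_m}(M_m). -/
theorem result {R : Type u} [CommRing R] (M : Type u) [AddCommGroup M] [Module R M] (s : CompositionSeries (Submodule R M)) (h0 : s.head = ⊥) (h1 : s.last = ⊤) (m : Ideal R) [m.IsMaximal] : ((Finset.univ.filter fun i : Fin s.length => (s i.castSucc).colon (s i.succ : Set M) = m).card : ℕ∞) = Module.length (Localization.AtPrime m) (LocalizedModule m.primeCompl M) := by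
  exact main M s h0 h1 m

end Groth.Agent.S6329
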