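import Groth.Statements.S6320
import Mathlib
import Groth.Agent.S6329

set_option autoImplicit false
universe u
open CAlg

namespace Groth.Agent.S6320

theorem chain_sum {B : Type u} [CommRing B] {M : Type u} [AddCommGroup M] [Module B M]
    (s : CompositionSeries (Submodule B M)) (h0 : s.head = ⊥) (h1 : s.last = ⊤)
    (lam : Submodule B M → ℕ∞) (δ : Fin s.length → ℕ∞) (hbot : lam ⊥ = 0)
    (hstep : ∀ i : Fin s.length, lam (s i.succ) = lam (s i.castSucc) + δ i) :
    lam ⊤ = ∑ i, δ i := by
  classical
  have claim : ∀ k (hk : k ≤ s.length), ∑ i ∈ Finset.univ.filter (fun i : Fin s.length => i.val < k), δ i =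
      lam (s ⟨k, Nat.lt_succ_of_le hk⟩) := by
    intro k
    induction k with
    | zero =>
      intro hk
      have hs0 : s ⟨0, Nat.lt_succ_of_le hk⟩ = ⊥ := h0
      rw [hs0, hbot]
      simp
    | succ k ih =>
      intro hk
      have hk' : k < s.length := hk
      have hfil : Finset.univ.filter (fun i : Fin s.length => i.val < k + 1) =
          insert (⟨k, hk'⟩ : Fin s.length) (Finset.univ.filter (fun i : Fin s.length => i.val < k)) := by
        ext i
        simp only [Finset.mem_filter, Finset.mem_univ, true_and, Finset.mem_insert, Fin.ext_iff]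
        omega
      rw [hfil, Finset.sum_insert (by simp), ih (le_of_lt hk'), add_comm]
      exact (hstep ⟨k, hk'⟩).symm
  have hfin := claim s.length le_rfl
  have hfil : Finset.univ.filter (fun i : Fin s.length => i.val < s.length) = Finset.univ := by
    ext i
    simp
  rw [hfil] at hfin
  have hlast : s ⟨s.length, Nat.lt_succ_of_le le_rfl⟩ = ⊤ := h1
  rw [hlast] at hfin
  exact hfin.symm

/-- length over `A` of a simple `B`-module with annihilator `n`. -/
theorem length_simple {A B : Type u} [CommRing A] [CommRing B] [Algebra A B]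
    (Q : Type u) [AddCommGroup Q] [Module B Q] [Module A Q] [IsScalarTower A B Q]
    [IsSimpleModule B Q] :
    Module.length A Q = Module.length A (B ⧸ Module.annihilator B Q) := by
  obtain ⟨I, hI, ⟨e⟩⟩ := isSimpleModule_iff_quot_maximal.1 (inferInstance : IsSimpleModule B Q)
  have hann : Module.annihilator B Q = I := by
    rw [e.annihilator_eq, Ideal.annihilator_quotient]
  rw [hann]
  exact (e.restrictScalars A).length_eq


theorem length_quot {A B : Type u} [CommRing A] [CommRing B] [Algebra A B] (n : Ideal B)
    (hmax : (n.comap (algebraMap A B)).IsMaximal)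
    (hfin : Module.Finite (A ⧸ n.comap (algebraMap A B)) (B ⧸ n)) :
    Module.length A (B ⧸ n) = (Module.finrank (A ⧸ n.comap (algebraMap A B)) (B ⧸ n) : ℕ∞) := by
  letI : Field (A ⧸ n.comap (algebraMap A B)) := Ideal.Quotient.field _
  rw [Module.length_eq_of_surjective (S := A) (R := A ⧸ n.comap (algebraMap A B))
    Ideal.Quotient.mk_surjective]
  exact Module.length_eq_finrank _ _


theorem main {A B : Type u} [CommRing A] [IsLocalRing A] [CommRing B] [Algebra A B] [Finite (MaximalSpectrum B)] (hover : ∀ n : MaximalSpectrum B, n.asIdeal.comap (algebraMap A B) = IsLocalRing.maximalIdeal A) (hfin : ∀ n : MaximalSpectrum B, Module.Finite (A ⧸ n.asIdeal.comap (algebraMap A B)) (B ⧸ n.asIdeal)) (M : Type u) [AddCommGroup M] [Module B M] [Module A M] [IsScalarTower A B M] (hM : IsFiniteLength B M) : Module.length A M = ∑ᶠ n : MaximalSpectrum B, (Module.finrank (A ⧸ n.asIdeal.comap (algebraMap A B)) (B ⧸ n.asIdeal) : ℕ∞) * Module.length (Localization.AtPrime n.asIdeal) (LocalizedModule n.asIdeal.primeCompl M) := by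
  classical
  obtain ⟨s, h0, h1⟩ := isFiniteLength_iff_exists_compositionSeries.1 hM
  haveI : Fintype (MaximalSpectrum B) := Fintype.ofFinite _
  rw [finsum_eq_sum_of_fintype]
  set F : Ideal B → ℕ∞ := fun n => (Module.finrank (A ⧸ n.comap (algebraMap A B)) (B ⧸ n) : ℕ∞) with hF
  set nI : Fin s.length → Ideal B := fun i => (s i.castSucc).colon (s i.succ : Set M) with hnI
  have hle : ∀ i : Fin s.length, s i.castSucc ≤ s i.succ := fun i => (s.step i).le
  have hsimple : ∀ i : Fin s.length,
      IsSimpleModule B ((s i.succ) ⧸ (s i.castSucc).comap (s i.succ).subtype) :=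
    fun i => (covBy_iff_quot_is_simple (hle i)).1 (s.step i)
  have hann : ∀ i : Fin s.length,
      Module.annihilator B ((s i.succ) ⧸ (s i.castSucc).comap (s i.succ).subtype) = nI i := by
    intro i
    ext r
    rw [Module.mem_annihilator, hnI, Submodule.mem_colon]
    constructor
    · intro h b hb
      have := h (((s i.castSucc).comap (s i.succ).subtype).mkQ ⟨b, hb⟩)
      rw [← map_smul, Submodule.mkQ_apply, Submodule.Quotient.mk_eq_zero] at this
      exact this
    · intro h q
      obtain ⟨b, rfl⟩ := ((s i.castSucc).comap (s i.succ).subtype).mkQ_surjective q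
      rw [← map_smul, Submodule.mkQ_apply, Submodule.Quotient.mk_eq_zero]
      exact h b b.2
  have hmaxI : ∀ i, (nI i).IsMaximal := by
    intro i
    rw [← hann i]
    haveI := hsimple i
    exact IsSimpleModule.annihilator_isMaximal
  have hstep : ∀ i : Fin s.length, Module.length A (s i.succ) =
      Module.length A (s i.castSucc) + F (nI i) := by
    intro i
    haveI := hsimple i
    have hex : Function.Exact ((Submodule.inclusion (hle i)).restrictScalars A)
        (((s i.castSucc).comap (s i.succ).subtype).mkQ.restrictScalars A) := by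
      intro b
      simp only [LinearMap.coe_restrictScalars]
      rw [Submodule.mkQ_apply, Submodule.Quotient.mk_eq_zero, Submodule.mem_comap]
      constructor
      · intro hb
        exact ⟨⟨b, hb⟩, rfl⟩
      · rintro ⟨a, rfl⟩
        exact a.2
    rw [Module.length_eq_add_of_exact ((Submodule.inclusion (hle i)).restrictScalars A)
      (((s i.castSucc).comap (s i.succ).subtype).mkQ.restrictScalars A)
      (Submodule.inclusion_injective (hle i))
      ((s i.castSucc).comap (s i.succ).subtype).mkQ_surjective hex]
    congr 1
    rw [length_simple (A := A) (B := B), hann i]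
    have hm : ((nI i).comap (algebraMap A B)).IsMaximal := by
      rw [hover ⟨nI i, hmaxI i⟩]
      exact IsLocalRing.maximalIdeal.isMaximal A
    exact length_quot (nI i) hm (hfin ⟨nI i, hmaxI i⟩)
  have h2 := chain_sum s h0 h1 (fun N => Module.length A N) (fun i => F (nI i)) (by
    show Module.length A (⊥ : Submodule B M) = 0
    rw [Module.length_eq_zero_iff]
    infer_instance) hstep
  have h3 : Module.length A (⊤ : Submodule B M) = Module.length A M :=
    ((Submodule.topEquiv (R := B) (M := M)).restrictScalars A).length_eq
  rw [← h3, h2]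
  set N : Fin s.length → MaximalSpectrum B := fun i => ⟨nI i, hmaxI i⟩ with hN
  rw [← Finset.sum_fiberwise Finset.univ N (fun i => F (nI i))]
  refine Finset.sum_congr rfl fun n _ => ?_
  haveI := n.isMaximal
  rw [← Groth.Agent.S6329.result M s h0 h1 n.asIdeal]
  have hconst : ∀ i ∈ Finset.univ.filter (fun i => N i = n), F (nI i) = F n.asIdeal := by
    intro i hi
    have : N i = n := (Finset.mem_filter.1 hi).2
    rw [← this]
  rw [Finset.sum_congr rfl hconst, Finset.sum_const, nsmul_eq_mul, mul_comm]
  have hfilt : Finset.univ.filter (fun i => N i = n) =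
      Finset.univ.filter (fun i : Fin s.length => (s i.castSucc).colon (s i.succ : Set M) = n.asIdeal) := by
    ext i
    simp only [Finset.mem_filter, Finset.mem_univ, true_and, hN, MaximalSpectrum.ext_iff]
    rfl
  rw [hfilt]



/-- Let A be a local ring with maximal ideal m, B a semi-local ring with maximal ideals m₁, …, mₙ and A
→ B a ring map such that each mᵢ lies over m with [κ(mᵢ) : κ(m)] finite. Then for every B-module M
of finite length, length_A(M) = Σᵢ [κ(mᵢ) : κ(m)] · length_{B_{mᵢ}}(M_{mᵢ}); in particular
length_A(M) is finite. -/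
theorem result {A B : Type u} [CommRing A] [IsLocalRing A] [CommRing B] [Algebra A B] [Finite (MaximalSpectrum B)] (hover : ∀ n : MaximalSpectrum B, n.asIdeal.comap (algebraMap A B) = IsLocalRing.maximalIdeal A) (hfin : ∀ n : MaximalSpectrum B, Module.Finite (A ⧸ n.asIdeal.comap (algebraMap A B)) (B ⧸ n.asIdeal)) (M : Type u) [AddCommGroup M] [Module B M] [Module A M] [IsScalarTower A B M] (hM : IsFiniteLength B M) : Module.length A M = ∑ᶠ n : MaximalSpectrum B, (Module.finrank (A ⧸ n.asIdeal.comap (algebraMap A B)) (B ⧸ n.asIdeal) : ℕ∞) * Module.length (Localization.AtPrime n.asIdeal) (LocalizedModule n.asIdeal.primeCompl M) := by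
  exact main hover hfin M hM

end Groth.Agent.S6320
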