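import Groth.Statements.S6321
import Mathlib

set_option autoImplicit false
universe u
open CAlg

namespace Groth.Agent.S6321

section
variable {R : Type u} [CommRing R] {ι : Type u} [Preorder ι] [Nonempty ι] [IsDirected ι (· ≤ ·)] (G : ι → Type u) [∀ i, CommRing (G i)] [∀ i, Algebra R (G i)] (f : ∀ i j, i ≤ j → G i →+* G j) [DirectedSystem G fun i j h => f i j h] (hcompat : ∀ i j (h : i ≤ j), (f i j h).comp (algebraMap R (G i)) = algebraMap R (G j))

local notation "SS" => Ring.DirectLimit G fun i j h => f i j h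
local notation "of'" => Ring.DirectLimit.of G (fun i j h => f i j h)

include hcompat in
theorem of_algebraMap (i j : ι) (r : R) :
    of' j (algebraMap R (G j) r) = of' i (algebraMap R (G i) r) := by
  obtain ⟨k, hik, hjk⟩ := exists_ge_ge i j
  rw [← Ring.DirectLimit.of_f hjk, ← Ring.DirectLimit.of_f hik]
  have h1 := RingHom.congr_fun (hcompat j k hjk) r
  have h2 := RingHom.congr_fun (hcompat i k hik) r
  simp only [RingHom.comp_apply] at h1 h2
  rw [h1, h2]

theorem exists_of_fin {α : Type*} [Finite α] (x : α → SS) :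
    ∃ n, ∃ y : α → G n, ∀ i, of' n (y i) = x i := by
  have h := fun i => Ring.DirectLimit.exists_of (x i)
  choose n y hy using h
  obtain ⟨N, hN⟩ := Finite.exists_le n
  refine ⟨N, fun i => f (n i) N (hN i) (y i), fun i => ?_⟩
  rw [Ring.DirectLimit.of_f, hy]

include hcompat in
theorem flat_colim (hfl : ∀ i, Module.Flat R (G i)) (i₀ : ι) :
    letI : Algebra R SS := ((of' i₀).comp (algebraMap R (G i₀))).toAlgebra
    Module.Flat R SS := by
  letI : Algebra R SS := ((of' i₀).comp (algebraMap R (G i₀))).toAlgebra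
  show Module.Flat R SS
  have hsmul : ∀ (c : R) (z : SS), c • z = of' i₀ (algebraMap R (G i₀) c) * z := fun c z => rfl
  have hsmul' : ∀ (j : ι) (c : R) (z : SS), c • z = of' j (algebraMap R (G j) c) * z := by
    intro j c z
    rw [hsmul, of_algebraMap G f hcompat i₀ j]
  rw [Module.Flat.iff_forall_isTrivialRelation]
  intro l r x hrx
  obtain ⟨n, y, hy⟩ := exists_of_fin G f x
  have hz : of' n (∑ i, algebraMap R (G n) (r i) * y i) = 0 := by
    rw [map_sum, ← hrx]
    refine Finset.sum_congr rfl fun i _ => ?_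
    rw [map_mul, hy, hsmul' n]
  obtain ⟨m, hnm, hm⟩ := Ring.DirectLimit.of.zero_exact hz
  have hrel : ∑ i, r i • (f n m hnm (y i)) = 0 := by
    rw [← hm, map_sum]
    refine Finset.sum_congr rfl fun i _ => ?_
    rw [map_mul, Algebra.smul_def]
    congr 1
    exact (RingHom.congr_fun (hcompat n m hnm) (r i)).symm
  obtain ⟨k, a, w, hxw, haw⟩ := Module.Flat.iff_forall_isTrivialRelation.mp (hfl m) hrel
  refine ⟨k, a, fun j => of' m (w j), ?_, haw⟩
  intro i
  have hxw' : f n m hnm (y i) = ∑ j, a i j • w j := hxw i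
  show x i = ∑ j, a i j • of' m (w j)
  rw [← hy i, ← Ring.DirectLimit.of_f hnm (y i), hxw', map_sum]
  refine Finset.sum_congr rfl fun j _ => ?_
  rw [Algebra.smul_def, map_mul, hsmul' m]

include hcompat in
theorem faithful_colim (hff : ∀ i, Module.FaithfullyFlat R (G i)) (i₀ : ι) :
    letI : Algebra R SS := ((of' i₀).comp (algebraMap R (G i₀))).toAlgebra
    Module.FaithfullyFlat R SS := by
  letI : Algebra R SS := ((of' i₀).comp (algebraMap R (G i₀))).toAlgebra
  show Module.FaithfullyFlat R SS
  haveI : Module.Flat R SS := flat_colim G f hcompat (fun i => inferInstance) i₀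
  have halg : ∀ (j : ι) (c : R), algebraMap R SS c = of' j (algebraMap R (G j) c) := by
    intro j c
    exact (of_algebraMap G f hcompat i₀ j c).symm
  refine ⟨fun m hm htop => ?_⟩
  have h1 : (1 : SS) ∈ m • (⊤ : Submodule R SS) := by rw [htop]; trivial
  rw [Ideal.smul_top_eq_map, Submodule.restrictScalars_mem, Ideal.map, Ideal.span,
    Submodule.mem_span_image_iff_exists_fun] at h1
  obtain ⟨t, htm, c, hc⟩ := h1
  obtain ⟨n, d, hd⟩ := exists_of_fin G f c
  have hz : of' n (∑ i : t, d i * algebraMap R (G n) (i : R) - 1) = 0 := by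
    rw [map_sub, map_sum, map_one, sub_eq_zero, ← hc]
    refine Finset.sum_congr rfl fun i _ => ?_
    rw [map_mul, hd, smul_eq_mul, halg n]
  obtain ⟨k, hnk, hk⟩ := Ring.DirectLimit.of.zero_exact hz
  rw [map_sub, map_sum, map_one, sub_eq_zero] at hk
  have h2 : (1 : G k) ∈ m • (⊤ : Submodule R (G k)) := by
    rw [← hk]
    refine Submodule.sum_mem _ fun i _ => ?_
    rw [map_mul]
    have h3 := RingHom.congr_fun (hcompat n k hnk) (i : R)
    simp only [RingHom.comp_apply] at h3
    rw [h3, mul_comm, ← Algebra.smul_def]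
    exact Submodule.smul_mem_smul (htm i.2) trivial
  have h4 : m • (⊤ : Submodule R (G k)) = ⊤ := by
    rw [Ideal.smul_top_eq_map, Submodule.restrictScalars_eq_top_iff]
    rw [Ideal.smul_top_eq_map, Submodule.restrictScalars_mem] at h2
    exact (Ideal.eq_top_iff_one _).2 h2
  exact (hff k).submodule_ne_top hm h4

end



/-- Let R be a ring and (Sᵢ, φᵢⱼ) a directed system of faithfully flat R-algebras whose transition maps
are R-algebra maps. Then S = colim Sᵢ is a faithfully flat R-algebra: for any index i the composite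
R → Sᵢ → S is faithfully flat. -/
theorem result {R : Type u} [CommRing R] {ι : Type u} [Preorder ι] [Nonempty ι] [IsDirected ι (· ≤ ·)] (G : ι → Type u) [∀ i, CommRing (G i)] [∀ i, Algebra R (G i)] (f : ∀ i j, i ≤ j → G i →+* G j) [DirectedSystem G fun i j h => f i j h] (hcompat : ∀ i j (h : i ≤ j), (f i j h).comp (algebraMap R (G i)) = algebraMap R (G j)) (hff : ∀ i, (algebraMap R (G i)).FaithfullyFlat) (i : ι) : ((Ring.DirectLimit.of G (fun i j h => f i j h) i).comp (algebraMap R (G i))).FaithfullyFlat := by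
  exact faithful_colim G f hcompat (fun j => RingHom.faithfullyFlat_algebraMap_iff.1 (hff j)) i

end Groth.Agent.S6321
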