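import Groth.Statements.S6322
import Mathlib

set_option autoImplicit false
universe u
universe v₁ u₁
open CategoryTheory
open CAlg

namespace Groth.Agent.S6322
open CategoryTheory.Limits HomologicalComplex ChainComplex Category

noncomputable section

variable {C : Type u₁} [Category.{v₁} C] [Abelian C]
variable {Z : C} (K : ChainComplex C ℕ) (π : K ⟶ (ChainComplex.single₀ C).obj Z) [QuasiIso π]

include π in
lemma complex_exactAt_succ (n : ℕ) : K.ExactAt (n + 1) := by
  rw [← quasiIsoAt_iff_exactAt' π (n + 1) (exactAt_succ_single_obj _ _)]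
  infer_instance

include π in
lemma exact_succ (n : ℕ) :
    (ShortComplex.mk _ _ (K.d_comp_d (n + 2) (n + 1) n)).Exact :=
  ((HomologicalComplex.exactAt_iff' _ (n + 2) (n + 1) n) (by simp only [ChainComplex.prev]; rfl)
    (by simp)).1 (complex_exactAt_succ K π n)

omit [QuasiIso π] in
@[simp]
theorem π_f_succ (n : ℕ) : π.f (n + 1) = 0 :=
  (isZero_single_obj_X _ _ _ _ (by simp)).eq_of_tgt _ _

omit [QuasiIso π] in
@[reassoc (attr := simp)]
theorem complex_d_comp_π_f_zero :
    K.d 1 0 ≫ π.f 0 = 0 := by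
  rw [← π.comm 1 0, single_obj_d, comp_zero]

@[simp]
noncomputable def cokernelCofork : CokernelCofork (K.d 1 0) :=
  CokernelCofork.ofπ _ (complex_d_comp_π_f_zero K π)

set_option backward.isDefEq.respectTransparency.types false in
set_option backward.defeqAttrib.useBackward true in
noncomputable def isColimitCokernelCofork : IsColimit (cokernelCofork K π) := by
  refine IsColimit.ofIsoColimit (K.opcyclesIsCokernel 1 0 (by simp)) ?_
  refine Cofork.ext (K.isoHomologyι₀.symm ≪≫ isoOfQuasiIsoAt π 0 ≪≫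
    singleObjHomologySelfIso _ _ _) ?_
  rw [← cancel_mono (singleObjHomologySelfIso (ComplexShape.down ℕ) 0 _).inv,
    ← cancel_mono (isoHomologyι₀ _).hom]
  dsimp
  simp only [isoHomologyι₀_inv_naturality_assoc, p_opcyclesMap_assoc, single₀_obj_zero, assoc,
    Iso.hom_inv_id, comp_id, isoHomologyι_inv_hom_id, singleObjHomologySelfIso_inv_homologyι,
    singleObjOpcyclesSelfIso_hom, single₀ObjXSelf, Iso.refl_inv, id_comp]

instance epi_π_zero : Epi (π.f 0) := epi_of_isColimit_cofork (isColimitCokernelCofork K π)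

lemma exact₀ : (ShortComplex.mk _ _ (complex_d_comp_π_f_zero K π)).Exact :=
  ShortComplex.exact_of_g_is_cokernel _ (isColimitCokernelCofork K π)

section lift
variable {Y : C} (P : ChainComplex C ℕ) [∀ n, Projective (P.X n)]
  (ε : P ⟶ (ChainComplex.single₀ C).obj Y) (f : Y ⟶ Z)

set_option backward.isDefEq.respectTransparency false in
def liftFZero : P.X 0 ⟶ K.X 0 :=
  Projective.factorThru (ε.f 0 ≫ f) (π.f 0)

set_option backward.isDefEq.respectTransparency false in
lemma liftFZero_comp : liftFZero K π P ε f ≫ π.f 0 = ε.f 0 ≫ f :=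
  Projective.factorThru_comp _ _

set_option backward.isDefEq.respectTransparency false in
def liftFOne : P.X 1 ⟶ K.X 1 :=
  (exact₀ K π).liftFromProjective (P.d 1 0 ≫ liftFZero K π P ε f) (by
    dsimp
    rw [assoc, liftFZero_comp, ← assoc, complex_d_comp_π_f_zero P ε, zero_comp])

theorem liftFOne_zero_comm :
    liftFOne K π P ε f ≫ K.d 1 0 = P.d 1 0 ≫ liftFZero K π P ε f := by
  apply (exact₀ K π).liftFromProjective_comp

def liftFSucc (n : ℕ)
    (g : P.X n ⟶ K.X n) (g' : P.X (n + 1) ⟶ K.X (n + 1))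
    (w : g' ≫ K.d (n + 1) n = P.d (n + 1) n ≫ g) :
    Σ' g'' : P.X (n + 2) ⟶ K.X (n + 2),
      g'' ≫ K.d (n + 2) (n + 1) = P.d (n + 2) (n + 1) ≫ g' :=
  ⟨(exact_succ K π n).liftFromProjective
    (P.d (n + 2) (n + 1) ≫ g') (by simp [w]),
      (exact_succ K π n).liftFromProjective_comp _ _⟩

def lift : P ⟶ K :=
  ChainComplex.mkHom _ _ (liftFZero K π P ε f) (liftFOne K π P ε f) (liftFOne_zero_comm K π P ε f)
    fun n ⟨g, g', w⟩ => ⟨(liftFSucc K π P n g g' w).1, (liftFSucc K π P n g g' w).2⟩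

theorem lift_commutes : lift K π P ε f ≫ π = ε ≫ (ChainComplex.single₀ C).map f := by
  apply HomologicalComplex.to_single_hom_ext
  simp [lift]
  exact liftFZero_comp K π P ε f

/-- homotopy -/
def liftHomotopyZeroZero (φ : P ⟶ K) (comm : φ ≫ π = 0) : P.X 0 ⟶ K.X 1 :=
  (exact₀ K π).liftFromProjective (φ.f 0) (congr_fun (congr_arg HomologicalComplex.Hom.f comm) 0)

@[reassoc (attr := simp)]
lemma liftHomotopyZeroZero_comp (φ : P ⟶ K) (comm : φ ≫ π = 0) :
    liftHomotopyZeroZero K π P φ comm ≫ K.d 1 0 = φ.f 0 :=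
  (exact₀ K π).liftFromProjective_comp _ _

def liftHomotopyZeroOne (φ : P ⟶ K) (comm : φ ≫ π = 0) :
    P.X 1 ⟶ K.X 2 :=
  (exact_succ K π 0).liftFromProjective (φ.f 1 - P.d 1 0 ≫ liftHomotopyZeroZero K π P φ comm)
    (by rw [Preadditive.sub_comp, assoc, HomologicalComplex.Hom.comm,
              liftHomotopyZeroZero_comp, sub_self])

@[reassoc (attr := simp)]
lemma liftHomotopyZeroOne_comp (φ : P ⟶ K) (comm : φ ≫ π = 0) :
    liftHomotopyZeroOne K π P φ comm ≫ K.d 2 1 =
      φ.f 1 - P.d 1 0 ≫ liftHomotopyZeroZero K π P φ comm :=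
  (exact_succ K π 0).liftFromProjective_comp _ _

def liftHomotopyZeroSucc (φ : P ⟶ K) (n : ℕ) (g : P.X n ⟶ K.X (n + 1))
    (g' : P.X (n + 1) ⟶ K.X (n + 2))
    (w : φ.f (n + 1) = P.d (n + 1) n ≫ g + g' ≫ K.d (n + 2) (n + 1)) :
    P.X (n + 2) ⟶ K.X (n + 3) :=
  (exact_succ K π (n + 1)).liftFromProjective (φ.f (n + 2) - P.d _ _ ≫ g') (by simp [w])

@[reassoc (attr := simp)]
lemma liftHomotopyZeroSucc_comp (φ : P ⟶ K) (n : ℕ) (g : P.X n ⟶ K.X (n + 1))
    (g' : P.X (n + 1) ⟶ K.X (n + 2))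
    (w : φ.f (n + 1) = P.d (n + 1) n ≫ g + g' ≫ K.d (n + 2) (n + 1)) :
    liftHomotopyZeroSucc K π P φ n g g' w ≫ K.d (n + 3) (n + 2) =
      φ.f (n + 2) - P.d _ _ ≫ g' :=
  (exact_succ K π (n + 1)).liftFromProjective_comp _ _

def liftHomotopyZero (φ : P ⟶ K) (comm : φ ≫ π = 0) : Homotopy φ 0 :=
  Homotopy.mkInductive _ (liftHomotopyZeroZero K π P φ comm) (by simp)
    (liftHomotopyZeroOne K π P φ comm) (by simp) fun n ⟨g, g', w⟩ =>
    ⟨liftHomotopyZeroSucc K π P φ n g g' w, by simp⟩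

def liftHomotopy (g h : P ⟶ K) (g_comm : g ≫ π = ε ≫ (ChainComplex.single₀ C).map f)
    (h_comm : h ≫ π = ε ≫ (ChainComplex.single₀ C).map f) : Homotopy g h :=
  Homotopy.equivSubZero.invFun (liftHomotopyZero K π P _ (by simp [g_comm, h_comm]))

end lift

end



/-- Let R be a ring, M → N a map of R-modules, N• → N a resolution (a chain complex with a
quasi-isomorphism onto N placed in degree 0) and … → F₁ → F₀ → M a complex with every Fᵢ free (F• a
chain complex with an augmentation to M in degree 0, exactness not required). Then (1) there is a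
map of complexes F• → N• compatible with M → N through the augmentations, and (2) any two such maps
are homotopic. -/
theorem result (R : Type u) [CommRing R] (M N : ModuleCat.{u} R) (g : M ⟶ N) (F Nc : ChainComplex (ModuleCat.{u} R) ℕ) (hF : ∀ i, Module.Free R (F.X i)) (εF : F ⟶ (ChainComplex.single₀ (ModuleCat.{u} R)).obj M) (εN : Nc ⟶ (ChainComplex.single₀ (ModuleCat.{u} R)).obj N) [QuasiIso εN] : (∃ φ : F ⟶ Nc, φ ≫ εN = εF ≫ (ChainComplex.single₀ (ModuleCat.{u} R)).map g) ∧ ∀ α β : F ⟶ Nc, α ≫ εN = εF ≫ (ChainComplex.single₀ (ModuleCat.{u} R)).map g → β ≫ εN = εF ≫ (ChainComplex.single₀ (ModuleCat.{u} R)).map g → Nonempty (Homotopy α β) := by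
  haveI : ∀ n, Projective (F.X n) := fun n => by
    haveI := hF n
    exact (IsProjective.iff_projective (R := R) (P := F.X n)).1 inferInstance
  refine ⟨⟨lift Nc εN F εF g, lift_commutes Nc εN F εF g⟩, fun α β hα hβ => ?_⟩
  exact ⟨liftHomotopy Nc εN F εF g α β hα hβ⟩

end Groth.Agent.S6322
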