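import Groth.Statements.S6324
import Mathlib

set_option autoImplicit false
universe u
open CAlg

namespace Groth.Agent.S6324
open Polynomial

section
variable {R S : Type u} [CommRing R] [CommRing S] [Algebra R S] (I : Ideal R)

/-- the ring hom from the Rees algebra to `S[X]` -/
noncomputable abbrev φ : ↥(reesAlgebra I) →+* S[X] :=
  (Polynomial.mapRingHom (algebraMap R S)).comp (reesAlgebra I).val.toRingHom

theorem φ_apply (a : reesAlgebra I) : φ (S := S) I a = (a : R[X]).map (algebraMap R S) := rfl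

/-- forward direction -/
theorem fwd (s : S) (p : R[X]) (hp : p.Monic)
    (hc : ∀ j : ℕ, j < p.natDegree → p.coeff j ∈ I ^ (p.natDegree - j))
    (he : Polynomial.eval₂ (algebraMap R S) s p = 0) :
    (φ (S := S) I).IsIntegralElem (C s * X) := by
  classical
  set d := p.natDegree with hd
  have hmem : ∀ j : ℕ, (monomial (d - j) (p.coeff j) : R[X]) ∈ reesAlgebra I := by
    intro j
    by_cases hj : j < d
    · exact reesAlgebra.monomial_mem.2 (hc j hj)
    · have : d - j = 0 := by omega
      rw [this]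
      exact reesAlgebra.monomial_mem.2 (by simp)
  set a : ℕ → reesAlgebra I := fun j => ⟨monomial (d - j) (p.coeff j), hmem j⟩ with ha
  set Q : (reesAlgebra I)[X] := ∑ i : Fin d, C (a i) * X ^ (i : ℕ) with hQ
  refine ⟨X ^ d + Q, Polynomial.monic_X_pow_add (Polynomial.degree_sum_fin_lt _), ?_⟩
  rw [eval₂_add, eval₂_X_pow, hQ, eval₂_finsetSum]
  simp only [eval₂_mul, eval₂_C, eval₂_X_pow, φ_apply, ha, Polynomial.map_monomial]
  -- rewrite everything as a multiple of X^d
  have h1 : ∀ i : Fin d, (monomial (d - (i : ℕ)) (algebraMap R S (p.coeff i)) : S[X]) * (C s * X) ^ (i : ℕ) =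
      C (algebraMap R S (p.coeff i) * s ^ (i : ℕ)) * X ^ d := by
    intro i
    have hi : (i : ℕ) < d := i.2
    rw [← C_mul_X_pow_eq_monomial, mul_pow, ← C_pow]
    have : X ^ (d - (i : ℕ)) * X ^ (i : ℕ) = (X ^ d : S[X]) := by
      rw [← pow_add]; congr 1; omega
    rw [C_mul]
    calc C (algebraMap R S (p.coeff i)) * X ^ (d - (i : ℕ)) * (C (s ^ (i : ℕ)) * X ^ (i : ℕ))
        = C (algebraMap R S (p.coeff i)) * C (s ^ (i : ℕ)) * (X ^ (d - (i : ℕ)) * X ^ (i : ℕ)) := by ring
      _ = _ := by rw [this]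
  rw [Finset.sum_congr rfl (fun i _ => h1 i), ← Finset.sum_mul, mul_pow, ← C_pow]
  have h2 : C (s ^ d) * X ^ d + (∑ i : Fin d, C (algebraMap R S (p.coeff i) * s ^ (i : ℕ))) * X ^ d =
      C (s ^ d + ∑ i : Fin d, algebraMap R S (p.coeff i) * s ^ (i : ℕ)) * X ^ d := by
    rw [C_add, add_mul]
    congr 2
    rw [map_sum]
  rw [h2]
  have h3 : s ^ d + ∑ i : Fin d, algebraMap R S (p.coeff i) * s ^ (i : ℕ) = 0 := by
    rw [← he, eval₂_eq_sum_range, ← hd, Finset.sum_range_succ, hp.coeff_natDegree, map_one, one_mul,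
      add_comm, Finset.sum_range]
  rw [h3, C_0, zero_mul]

/-- backward direction -/
theorem bwd (s : S) (P : (reesAlgebra I)[X]) (hP : P.Monic)
    (he : Polynomial.eval₂ (φ (S := S) I) (C s * X) P = 0) :
    ∃ p : Polynomial R, p.Monic ∧ (∀ j : ℕ, j < p.natDegree → p.coeff j ∈ I ^ (p.natDegree - j)) ∧
      Polynomial.eval₂ (algebraMap R S) s p = 0 := by
  classical
  rcases subsingleton_or_nontrivial R with hR | hR
  · refine ⟨1, monic_one, ?_, ?_⟩
    · intro j hj; simp at hj
    · have : Subsingleton S := by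
        refine ⟨fun a b => ?_⟩
        have h01 : (1 : S) = 0 := by
          rw [← map_one (algebraMap R S), Subsingleton.elim (1 : R) 0, map_zero]
        rw [← mul_one a, ← mul_one b, h01, mul_zero, mul_zero]
      exact Subsingleton.elim _ _
  set d := P.natDegree with hd
  set b : ℕ → R := fun j => ((P.coeff j : reesAlgebra I) : R[X]).coeff (d - j) with hb
  have hbmem : ∀ j, b j ∈ I ^ (d - j) := fun j =>
    (mem_reesAlgebra_iff I _).1 (P.coeff j).2 (d - j)
  set Q : R[X] := ∑ i : Fin d, C (b i) * X ^ (i : ℕ) with hQ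
  have hQdeg : Q.degree < d := Polynomial.degree_sum_fin_lt _
  have hmonic : (X ^ d + Q).Monic := Polynomial.monic_X_pow_add hQdeg
  have hnat : (X ^ d + Q).natDegree = d := by
    rw [natDegree_add_eq_left_of_degree_lt (by rwa [degree_X_pow]), natDegree_X_pow]
  have hcoeff : ∀ j, j < d → (X ^ d + Q).coeff j = b j := by
    intro j hj
    rw [coeff_add, coeff_X_pow, if_neg (by omega), zero_add, hQ, finsetSum_coeff]
    rw [Finset.sum_eq_single (⟨j, hj⟩ : Fin d)]
    · simp
    · intro i _ hij
      rw [coeff_C_mul, coeff_X_pow, if_neg, mul_zero]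
      intro h
      exact hij (Fin.ext h.symm)
    · intro h; exact absurd (Finset.mem_univ _) h
  refine ⟨X ^ d + Q, hmonic, ?_, ?_⟩
  · intro j hj
    rw [hnat] at hj ⊢
    rw [hcoeff j hj]
    exact hbmem j
  · -- evaluate
    have h1 : eval₂ (algebraMap R S) s (X ^ d + Q) =
        s ^ d + ∑ i : Fin d, algebraMap R S (b i) * s ^ (i : ℕ) := by
      rw [eval₂_add, eval₂_X_pow, hQ, eval₂_finsetSum]
      simp only [eval₂_mul, eval₂_C, eval₂_X_pow]
    have h2 : (Polynomial.eval₂ (φ (S := S) I) (C s * X) P).coeff d =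
        s ^ d + ∑ i : Fin d, algebraMap R S (b i) * s ^ (i : ℕ) := by
      rw [eval₂_eq_sum_range, ← hd, finsetSum_coeff, Finset.sum_range_succ]
      have hterm : ∀ j, j ≤ d → (φ (S := S) I (P.coeff j) * (C s * X) ^ j).coeff d =
          algebraMap R S (b j) * s ^ j := by
        intro j hj
        rw [mul_pow, ← C_pow, ← mul_assoc, coeff_mul_X_pow', if_pos hj, coeff_mul_C, φ_apply,
          coeff_map]
      rw [hterm d le_rfl, Finset.sum_congr rfl (fun j hj => hterm j (le_of_lt (Finset.mem_range.1 hj))),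
        Finset.sum_range, add_comm]
      congr 1
      have : b d = 1 := by
        simp only [hb, Nat.sub_self]
        rw [hd, hP.coeff_natDegree]
        simp
      rw [this, map_one, one_mul]
    rw [h1, ← h2, he, coeff_zero]

theorem main (s : S) : (∃ p : Polynomial R, p.Monic ∧ (∀ j : ℕ, j < p.natDegree → p.coeff j ∈ I ^ (p.natDegree - j)) ∧
      Polynomial.eval₂ (algebraMap R S) s p = 0) ↔ (φ (S := S) I).IsIntegralElem (C s * X) := by
  constructor
  · rintro ⟨p, hp, hc, he⟩
    exact fwd I s p hp hc he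
  · rintro ⟨P, hP, he⟩
    exact bwd I s P hP he


end


/-- Let R → S be a ring map, I ⊆ R an ideal and A = Σ Iⁿtⁿ ⊆ R[t] the Rees algebra of I. For s ∈ S,
being integral over I is equivalent to s·t ∈ S[t] being integral over A (via A ⊆ R[t] → S[t]). -/
theorem result {R S : Type u} [CommRing R] [CommRing S] [Algebra R S] (I : Ideal R) (s : S) : W4stkalgebra1.IsIntegralOverIdeal I s ↔ ((Polynomial.mapRingHom (algebraMap R S)).comp (reesAlgebra I).val.toRingHom).IsIntegralElem (Polynomial.C s * Polynomial.X) := by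
  exact main I s

end Groth.Agent.S6324
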