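import Groth.Statements.S6325
import Mathlib
import Groth.Agent.S6324

set_option autoImplicit false
universe u
open CAlg

namespace Groth.Agent.S6325
open Polynomial
open Groth.Agent.S6324

theorem main {R S : Type u} [CommRing R] [CommRing S] [Algebra R S] (I : Ideal R) : (∃ N : Submodule R S, ∀ s : S, s ∈ N ↔ W4stkalgebra1.IsIntegralOverIdeal I s) ∧ (∀ s s' : S, IsIntegral R s → W4stkalgebra1.IsIntegralOverIdeal I s' → W4stkalgebra1.IsIntegralOverIdeal I (s * s')) := by
  have key : ∀ s : S, W4stkalgebra1.IsIntegralOverIdeal I s ↔ (φ (S := S) I).IsIntegralElem (C s * X) :=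
    fun s => Groth.Agent.S6324.result I s
  have hC : ∀ r : R, (φ (S := S) I).IsIntegralElem (C (algebraMap R S r)) := by
    intro r
    have : C (algebraMap R S r) = φ (S := S) I (algebraMap R (reesAlgebra I) r) := by
      rw [φ_apply]
      simp
    rw [this]
    exact RingHom.isIntegralElem_map _
  constructor
  · refine ⟨{ carrier := {s | W4stkalgebra1.IsIntegralOverIdeal I s}
              add_mem' := ?_
              zero_mem' := ?_
              smul_mem' := ?_ }, fun s => Iff.rfl⟩
    · intro a b ha hb
      simp only [Set.mem_ofPred_eq] at ha hb ⊢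
      rw [key] at ha hb ⊢
      rw [C_add, add_mul]
      exact RingHom.IsIntegralElem.add _ ha hb
    · simp only [Set.mem_ofPred_eq]
      rw [key, C_0, zero_mul]
      exact RingHom.isIntegralElem_zero _
    · intro r a ha
      simp only [Set.mem_ofPred_eq] at ha ⊢
      rw [key] at ha ⊢
      rw [Algebra.smul_def, C_mul, mul_assoc]
      exact RingHom.IsIntegralElem.mul _ (hC r) ha
  · intro s s' hs hs'
    rw [key] at hs' ⊢
    rw [C_mul, mul_assoc]
    refine RingHom.IsIntegralElem.mul _ ?_ hs'
    obtain ⟨q, hq, hqs⟩ := hs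
    refine ⟨q.map (algebraMap R (reesAlgebra I)), hq.map _, ?_⟩
    rw [eval₂_map]
    have : (φ (S := S) I).comp (algebraMap R (reesAlgebra I)) = (C : S →+* S[X]).comp (algebraMap R S) := by
      ext r
      · simp [φ_apply]
    rw [this, ← Polynomial.hom_eval₂, hqs, map_zero]



/-- Let R → S be a ring map and I ⊆ R an ideal. The elements of S integral over I form an R-submodule of
S; moreover, the product s s' is integral over I for any s ∈ S integral over R and any s' ∈ S
integral over I. -/
theorem result {R S : Type u} [CommRing R] [CommRing S] [Algebra R S] (I : Ideal R) : (∃ N : Submodule R S, ∀ s : S, s ∈ N ↔ W4stkalgebra1.IsIntegralOverIdeal I s) ∧ (∀ s s' : S, IsIntegral R s → W4stkalgebra1.IsIntegralOverIdeal I s' → W4stkalgebra1.IsIntegralOverIdeal I (s * s')) := by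
  exact main I

end Groth.Agent.S6325
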