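import Mathlib
import Groth.Statements.S6326

set_option autoImplicit false
universe u
open CategoryTheory CategoryTheory.Limits
open CAlg

namespace Groth.Agent.S6326

/-- finitely generated submodules -/
abbrev FGSub (R : Type u) [CommRing R] (N : Type u) [AddCommGroup N] [Module R N] : Type u :=
  {K : Submodule R N // K.FG}

instance (R : Type u) [CommRing R] (N : Type u) [AddCommGroup N] [Module R N] :
    Nonempty (FGSub R N) := ⟨⟨⊥, Submodule.fg_bot⟩⟩

instance (R : Type u) [CommRing R] (N : Type u) [AddCommGroup N] [Module R N] :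
    IsDirected (FGSub R N) (· ≤ ·) :=
  ⟨fun a b => ⟨⟨a.1 ⊔ b.1, a.2.sup b.2⟩, le_sup_left, le_sup_right⟩⟩

/-- the diagram `K ↦ N/K` -/
noncomputable def quotFunctor (R : Type u) [CommRing R] (N : Type u) [AddCommGroup N] [Module R N] :
    FGSub R N ⥤ ModuleCat.{u} R where
  obj K := ModuleCat.of R (N ⧸ K.1)
  map {K K'} f := ModuleCat.ofHom (Submodule.factor (leOfHom f))
  map_id K := by
    ext x
    rfl
  map_comp f g := by
    ext x
    rfl

/-- Let R be a ring and N an R-module such that whenever M is the colimit of a filtered diagram (Mᵢ) of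
R-modules (indexed by a filtered category in the same universe), the comparison map colim Hom_R(N,
Mᵢ) → Hom_R(N, M) is injective. Then N is finitely generated. (The implication from finite
generation back to this injectivity also holds; only the characterizing direction is stated here.) -/
theorem result (R : Type u) [CommRing R] (N : Type u) [AddCommGroup N] [Module R N] (h : ∀ (J : Type u) [SmallCategory J] [IsFiltered J] (F : J ⥤ ModuleCat.{u} R), Function.Injective (colimit.post F (coyoneda.obj (Opposite.op (ModuleCat.of R N))))) : Module.Finite R N := by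
  classical
  let J := FGSub R N
  let F := quotFunctor R N
  let G := coyoneda.obj (Opposite.op (ModuleCat.of R N))
  have hinj := h J F
  let bot : J := ⟨⊥, Submodule.fg_bot⟩
  let π : ∀ K : J, ModuleCat.of R N ⟶ F.obj K := fun K => ModuleCat.ofHom K.1.mkQ
  -- the composite `N → N/⊥ → colim` vanishes
  have hzero : π bot ≫ colimit.ι F bot = 0 := by
    ext n
    let K : J := ⟨Submodule.span R {n}, Submodule.fg_span_singleton n⟩
    have hle : bot ≤ K := bot_le (a := K.1)
    have hw := colimit.w F (homOfLE hle)
    rw [← hw]
    show (colimit.ι F K).hom ((F.map (homOfLE hle)).hom ((π bot).hom n)) = 0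
    have : (F.map (homOfLE hle)).hom ((π bot).hom n) = 0 := by
      show (Submodule.Quotient.mk n : N ⧸ K.1) = 0
      rw [Submodule.Quotient.mk_eq_zero]
      exact Submodule.mem_span_singleton_self n
    rw [this, map_zero]
  have e1 : colimit.post F G (colimit.ι (F ⋙ G) bot (π bot)) =
      colimit.post F G (colimit.ι (F ⋙ G) bot (0 : ModuleCat.of R N ⟶ F.obj bot)) := by
    have h1 := congrArg (fun f => f (π bot)) (colimit.ι_post F G bot)
    have h2 := congrArg (fun f => f (0 : ModuleCat.of R N ⟶ F.obj bot)) (colimit.ι_post F G bot)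
    simp only [types_comp_apply] at h1 h2
    rw [h1, h2]
    show π bot ≫ colimit.ι F bot = 0 ≫ colimit.ι F bot
    rw [hzero, zero_comp]
  have e2 := hinj e1
  obtain ⟨K, f, g, hk⟩ := (Types.FilteredColimit.colimit_eq_iff _).1 e2
  have hk' : π bot ≫ F.map f = 0 ≫ F.map g := hk
  rw [zero_comp] at hk'
  have htop : K.1 = ⊤ := by
    rw [eq_top_iff]
    intro n _
    have := congrArg (fun φ => φ.hom n) hk'
    have h3 : (Submodule.Quotient.mk n : N ⧸ K.1) = 0 := this
    rw [Submodule.Quotient.mk_eq_zero] at h3
    exact h3
  exact ⟨htop ▸ K.2⟩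

end Groth.Agent.S6326
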