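import Mathlib
import Groth.Statements.S6327
import Groth.Agent.S6326

set_option autoImplicit false
universe u
open CategoryTheory CategoryTheory.Limits
open CAlg

namespace Groth.Agent.S6327

/-- finitely generated submodules of `F` contained in `K` -/
abbrev FGSubLE {R : Type u} [CommRing R] {F : Type u} [AddCommGroup F] [Module R F]
    (K : Submodule R F) : Type u :=
  {L : Submodule R F // L.FG ∧ L ≤ K}

instance {R : Type u} [CommRing R] {F : Type u} [AddCommGroup F] [Module R F]
    (K : Submodule R F) : Nonempty (FGSubLE K) := ⟨⟨⊥, Submodule.fg_bot, bot_le⟩⟩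

instance {R : Type u} [CommRing R] {F : Type u} [AddCommGroup F] [Module R F]
    (K : Submodule R F) : IsDirected (FGSubLE K) (· ≤ ·) :=
  ⟨fun a b => ⟨⟨a.1 ⊔ b.1, a.2.1.sup b.2.1, sup_le a.2.2 b.2.2⟩,
    le_sup_left (a := a.1) (b := b.1), le_sup_right (a := a.1) (b := b.1)⟩⟩

/-- the diagram `L ↦ F/L` -/
noncomputable def quotFunctor {R : Type u} [CommRing R] {F : Type u} [AddCommGroup F] [Module R F]
    (K : Submodule R F) : FGSubLE K ⥤ ModuleCat.{u} R where
  obj L := ModuleCat.of R (F ⧸ L.1)
  map {L L'} f := ModuleCat.ofHom (Submodule.factor (leOfHom f))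
  map_id L := by
    ext x
    rfl
  map_comp f g := by
    ext x
    rfl

/-- A retract of a finitely presented module is finitely presented. -/
theorem fp_of_retract {R : Type u} [CommRing R] {Q N : Type u} [AddCommGroup Q] [Module R Q]
    [AddCommGroup N] [Module R N] [Module.FinitePresentation R Q] (s : N →ₗ[R] Q) (q : Q →ₗ[R] N)
    (h : q ∘ₗ s = LinearMap.id) : Module.FinitePresentation R N := by
  have hsurj : Function.Surjective q := fun x => ⟨s x, LinearMap.congr_fun h x⟩
  refine Module.finitePresentation_of_surjective q hsurj ?_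
  have hker : LinearMap.ker q = LinearMap.range (LinearMap.id - s ∘ₗ q) := by
    ext x
    constructor
    · intro hx
      rw [LinearMap.mem_ker] at hx
      exact ⟨x, by simp [hx]⟩
    · rintro ⟨y, rfl⟩
      rw [LinearMap.mem_ker, LinearMap.sub_apply, map_sub, LinearMap.id_apply, LinearMap.comp_apply]
      have := LinearMap.congr_fun h (q y)
      rw [LinearMap.comp_apply, LinearMap.id_apply] at this
      rw [this, sub_self]
  rw [hker, LinearMap.range_eq_map]
  exact Module.Finite.fg_top.map _

/-- Let R be a ring and N an R-module such that whenever M is the colimit of a filtered diagram (Mᵢ) of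
R-modules (indexed by a filtered category in the same universe), the comparison map colim Hom_R(N,
Mᵢ) → Hom_R(N, M) is bijective. Then N is finitely presented. (The implication from finite
presentation back to this bijectivity also holds; only the characterizing direction is stated here.) -/
theorem result (R : Type u) [CommRing R] (N : Type u) [AddCommGroup N] [Module R N] (h : ∀ (J : Type u) [SmallCategory J] [IsFiltered J] (F : J ⥤ ModuleCat.{u} R), Function.Bijective (colimit.post F (coyoneda.obj (Opposite.op (ModuleCat.of R N))))) : Module.FinitePresentation R N := by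
  classical
  have hfin : Module.Finite R N := Groth.Agent.S6326.result R N (fun J _ _ F => (h J F).1)
  obtain ⟨n, p, hp⟩ := Module.Finite.exists_fin' R N
  let K := LinearMap.ker p
  let J := FGSubLE K
  let F := quotFunctor K
  let G := coyoneda.obj (Opposite.op (ModuleCat.of R N))
  -- the cocone to `N`
  let q : ∀ L : J, F.obj L ⟶ ModuleCat.of R N := fun L =>
    ModuleCat.ofHom (Submodule.liftQ L.1 p L.2.2)
  let c : colimit F ⟶ ModuleCat.of R N :=
    colimit.desc F ⟨ModuleCat.of R N,
      { app := q
        naturality := by
          intro L L' f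
          ext x
          obtain ⟨v, rfl⟩ := Submodule.Quotient.mk_surjective _ x
          rfl }⟩
  have hc : ∀ L : J, colimit.ι F L ≫ c = q L := fun L => colimit.ι_desc _ L
  have hcbij : Function.Bijective c.hom := by
    constructor
    · rw [injective_iff_map_eq_zero]
      intro x hx
      obtain ⟨L, y, rfl⟩ := Concrete.colimit_exists_rep F x
      obtain ⟨v, rfl⟩ := Submodule.Quotient.mk_surjective _ y
      have h1 : (colimit.ι F L ≫ c).hom (Submodule.Quotient.mk v) = 0 := hx
      rw [hc] at h1
      have hv : v ∈ K := h1
      let L' : J := ⟨L.1 ⊔ Submodule.span R {v}, L.2.1.sup (Submodule.fg_span_singleton v),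
        sup_le L.2.2 ((Submodule.span_singleton_le_iff_mem v K).2 hv)⟩
      have hle : L ≤ L' := le_sup_left (a := L.1)
      have hw := colimit.w F (homOfLE hle)
      rw [← hw]
      show (colimit.ι F L').hom ((F.map (homOfLE hle)).hom (Submodule.Quotient.mk v)) = 0
      have : (F.map (homOfLE hle)).hom (Submodule.Quotient.mk v) = 0 := by
        show (Submodule.Quotient.mk v : (Fin n → R) ⧸ L'.1) = 0
        rw [Submodule.Quotient.mk_eq_zero]
        exact Submodule.mem_sup_right (Submodule.mem_span_singleton_self v)
      rw [this, map_zero]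
    · intro y
      obtain ⟨v, rfl⟩ := hp y
      let bot : J := ⟨⊥, Submodule.fg_bot, bot_le⟩
      refine ⟨(colimit.ι F bot).hom (Submodule.Quotient.mk v), ?_⟩
      show (colimit.ι F bot ≫ c).hom (Submodule.Quotient.mk v) = p v
      rw [hc]
      rfl
  have hciso : IsIso c := (ConcreteCategory.isIso_iff_bijective c).2 hcbij
  let d : ModuleCat.of R N ⟶ colimit F := inv c
  obtain ⟨a, ha⟩ := (h J F).2 d
  obtain ⟨L, s, rfl⟩ := Types.jointly_surjective' a
  have h1 := congrArg (fun f => f s) (colimit.ι_post F G L)
  simp only [types_comp_apply] at h1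
  rw [ha] at h1
  have h2 : d = s ≫ colimit.ι F L := h1
  have h3 : s ≫ q L = 𝟙 _ := by
    rw [← hc, ← Category.assoc, ← h2]
    exact IsIso.inv_hom_id c
  have hQ : Module.FinitePresentation R ((Fin n → R) ⧸ L.1) :=
    Module.finitePresentation_of_surjective L.1.mkQ (Submodule.mkQ_surjective _)
      (by rw [Submodule.ker_mkQ]; exact L.2.1)
  have hQ' : Module.FinitePresentation R (F.obj L) := hQ
  exact fp_of_retract s.hom (q L).hom (by
    have := congrArg ModuleCat.Hom.hom h3
    exact this)

end Groth.Agent.S6327
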