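import Groth.Statements.S6328
import Mathlib

set_option autoImplicit false
universe u
open CAlg

namespace Groth.Agent.S6328
noncomputable section

variable (R : Type u) [CommRing R] (M : Type u) [AddCommGroup M] [Module R M]

/-- type synonym for the free module on `M` (avoids instance problems with nested submodules) -/
def FM : Type u := M →₀ R

instance : AddCommGroup (FM R M) := inferInstanceAs (AddCommGroup (M →₀ R))
instance : Module R (FM R M) := inferInstanceAs (Module R (M →₀ R))

def π : FM R M →ₗ[R] M := (Finsupp.linearCombination R id : (M →₀ R) →ₗ[R] M)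

def supp (s : Set M) : Submodule R (FM R M) := (Finsupp.supported R R s : Submodule R (M →₀ R))

theorem supp_mono {s t : Set M} (h : s ⊆ t) : supp R M s ≤ supp R M t :=
  Finsupp.supported_mono (M := R) (R := R) h

def sgl (m : M) : FM R M := (Finsupp.single m 1 : M →₀ R)

theorem sgl_mem (m : M) : sgl R M m ∈ supp R M {m} :=
  Finsupp.single_mem_supported (M := R) R 1 (Set.mem_singleton m)

theorem π_sgl (m : M) : π R M (sgl R M m) = m := by
  change Finsupp.linearCombination R id (Finsupp.single m (1 : R)) = m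
  simp

def suppEquiv (s : Set M) : supp R M s ≃ₗ[R] (s →₀ R) :=
  (Finsupp.supportedEquivFinsupp (M := R) (R := R) s)

def Idx : Type u := {p : Finset M × Submodule R (FM R M) //
  p.2.FG ∧ p.2 ≤ LinearMap.ker (π R M) ∧ p.2 ≤ supp R M (p.1 : Set M)}

instance : Preorder (Idx R M) := Subtype.preorder _

variable {R M}

abbrev A (i : Idx R M) : Submodule R (FM R M) := supp R M (i.1.1 : Set M)

abbrev K' (i : Idx R M) : Submodule R (A i) := i.1.2.comap (A i).subtype

abbrev G (i : Idx R M) : Type u := (A i) ⧸ (K' i)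

theorem A_mono {i j : Idx R M} (h : i ≤ j) : A i ≤ A j :=
  supp_mono R M (by exact_mod_cast h.1)

theorem K_mono {i j : Idx R M} (h : i ≤ j) : i.1.2 ≤ j.1.2 := h.2

def fmap (i j : Idx R M) (h : i ≤ j) : G i →ₗ[R] G j :=
  Submodule.mapQ (K' i) (K' j) (Submodule.inclusion (A_mono h)) (by
    intro x hx
    exact K_mono h hx)

theorem fmap_mk (i j : Idx R M) (h : i ≤ j) (x : A i) :
    fmap i j h (Submodule.Quotient.mk x) = Submodule.Quotient.mk (Submodule.inclusion (A_mono h) x) := rfl

def gmap (i : Idx R M) : G i →ₗ[R] M :=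
  (K' i).liftQ ((π R M) ∘ₗ (A i).subtype) (by
    intro x hx
    exact i.2.2.1 hx)

theorem gmap_mk (i : Idx R M) (x : A i) : gmap i (Submodule.Quotient.mk x) = π R M x := rfl

instance : IsDirected (Idx R M) (· ≤ ·) where
  directed := by
    rintro ⟨⟨s, K⟩, h1, h2, h3⟩ ⟨⟨s', K'⟩, h1', h2', h3'⟩
    classical
    refine ⟨⟨⟨s ∪ s', K ⊔ K'⟩, h1.sup h1', sup_le h2 h2', sup_le ?_ ?_⟩, ⟨?_, le_sup_left⟩, ⟨?_, le_sup_right⟩⟩
    · exact h3.trans (supp_mono R M (by simp))
    · exact h3'.trans (supp_mono R M (by simp))
    · exact Finset.subset_union_left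
    · exact Finset.subset_union_right

instance : Nonempty (Idx R M) := ⟨⟨⟨∅, ⊥⟩, Submodule.fg_bot, bot_le, bot_le⟩⟩

instance : DirectedSystem (G (R := R) (M := M)) fun i j h => fmap i j h where
  map_self := by
    intro i x
    induction x using Submodule.Quotient.induction_on with
    | H x => rfl
  map_map := by
    intro k j i hkj hji x
    induction x using Submodule.Quotient.induction_on with
    | H x => rfl

theorem fp (i : Idx R M) : Module.FinitePresentation R (G i) := by
  classical
  haveI : Module.Finite R (A i) := Module.Finite.equiv (suppEquiv R M (i.1.1 : Set M)).symm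
  haveI : Module.Free R (A i) := Module.Free.of_equiv (suppEquiv R M (i.1.1 : Set M)).symm
  haveI : Module.FinitePresentation R (A i) := Module.finitePresentation_of_projective R _
  refine Module.finitePresentation_of_surjective (K' i).mkQ (K' i).mkQ_surjective ?_
  rw [Submodule.ker_mkQ]
  apply Submodule.fg_of_fg_map_injective (A i).subtype (A i).injective_subtype
  rw [Submodule.map_comap_subtype, inf_eq_right.2 i.2.2.2]
  exact i.2.1

theorem gmap_fmap (i j : Idx R M) (h : i ≤ j) (x : G i) : gmap j (fmap i j h x) = gmap i x := by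
  induction x using Submodule.Quotient.induction_on with
  | H x => rfl

theorem main : ∃ (ι : Type u) (_ : Preorder ι) (_ : IsDirected ι (· ≤ ·)) (_ : Nonempty ι) (_ : DecidableEq ι) (G : ι → Type u) (_ : ∀ i, AddCommGroup (G i)) (_ : ∀ i, Module R (G i)) (f : ∀ i j, i ≤ j → G i →ₗ[R] G j) (_ : DirectedSystem G fun i j h => f i j h), (∀ i, Module.FinitePresentation R (G i)) ∧ Nonempty (Module.DirectLimit G f ≃ₗ[R] M) := by
  classical
  refine ⟨Idx R M, inferInstance, inferInstance, inferInstance, Classical.decEq _, G, inferInstance,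
    inferInstance, fmap, inferInstance, fp, ?_⟩
  set L : Module.DirectLimit G (fmap (R := R) (M := M)) →ₗ[R] M :=
    Module.DirectLimit.lift R (Idx R M) G fmap gmap gmap_fmap with hL
  refine ⟨LinearEquiv.ofBijective L ⟨?_, ?_⟩⟩
  · rw [injective_iff_map_eq_zero]
    intro z hz
    obtain ⟨i, x, rfl⟩ := Module.DirectLimit.exists_of z
    rw [hL, Module.DirectLimit.lift_of] at hz
    obtain ⟨v, rfl⟩ := (K' i).mkQ_surjective x
    have hv : π R M (v : FM R M) = 0 := hz
    -- enlarge the relation module
    let j : Idx R M := ⟨⟨i.1.1, i.1.2 ⊔ Submodule.span R {(v : FM R M)}⟩,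
      i.2.1.sup (Submodule.fg_span_singleton _),
      sup_le i.2.2.1 (by rw [Submodule.span_singleton_le_iff_mem]; exact hv),
      sup_le i.2.2.2 (by rw [Submodule.span_singleton_le_iff_mem]; exact v.2)⟩
    have hij : i ≤ j := ⟨le_rfl, le_sup_left⟩
    rw [← Module.DirectLimit.of_f (hij := hij)]
    have : fmap i j hij ((K' i).mkQ v) = 0 := by
      change Submodule.Quotient.mk (Submodule.inclusion (A_mono hij) v) = 0
      rw [Submodule.Quotient.mk_eq_zero]
      change (v : FM R M) ∈ i.1.2 ⊔ Submodule.span R {(v : FM R M)}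
      exact Submodule.mem_sup_right (Submodule.mem_span_singleton_self _)
    rw [this, map_zero]
  · intro m
    let i : Idx R M := ⟨⟨{m}, ⊥⟩, Submodule.fg_bot, bot_le, bot_le⟩
    have hm : sgl R M m ∈ A i := by
      have := sgl_mem R M m
      simpa [A, i] using this
    refine ⟨Module.DirectLimit.of R (Idx R M) G fmap i (Submodule.Quotient.mk ⟨sgl R M m, hm⟩), ?_⟩
    rw [hL, Module.DirectLimit.lift_of]
    exact π_sgl R M m

end


/-- Every module M over a ring R can be written as the direct limit of a directed system (Mᵢ, μᵢⱼ) of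
finitely presented R-modules. -/
theorem result (R : Type u) [CommRing R] (M : Type u) [AddCommGroup M] [Module R M] : ∃ (ι : Type u) (_ : Preorder ι) (_ : IsDirected ι (· ≤ ·)) (_ : Nonempty ι) (_ : DecidableEq ι) (G : ι → Type u) (_ : ∀ i, AddCommGroup (G i)) (_ : ∀ i, Module R (G i)) (f : ∀ i j, i ≤ j → G i →ₗ[R] G j) (_ : DirectedSystem G fun i j h => f i j h), (∀ i, Module.FinitePresentation R (G i)) ∧ Nonempty (Module.DirectLimit G f ≃ₗ[R] M) := by
  exact main (R := R) (M := M)

end Groth.Agent.S6328
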