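import Mathlib
import Groth.Statements.S6330
import Groth.Agent.S6308

set_option autoImplicit false
universe u
open scoped TensorProduct
open CAlg

namespace Groth.Agent.S6330

/-- Kernel of a split surjection between finite projective modules is finite projective. -/
theorem ker_finite_projective {A : Type u} [CommRing A] {M₁ M₂ : Type u} [AddCommGroup M₁] [Module A M₁]
    [AddCommGroup M₂] [Module A M₂] [Module.Finite A M₁] [Module.Projective A M₁]
    [Module.Projective A M₂] (ψ : M₁ →ₗ[A] M₂) (hψ : Function.Surjective ψ) :
    Module.Finite A (LinearMap.ker ψ) ∧ Module.Projective A (LinearMap.ker ψ) := by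
  obtain ⟨l, hl⟩ := Module.projective_lifting_property ψ LinearMap.id hψ
  let r : M₁ →ₗ[A] LinearMap.ker ψ :=
    LinearMap.codRestrict (LinearMap.ker ψ) (LinearMap.id - l ∘ₗ ψ) (by
      intro x
      rw [LinearMap.mem_ker, LinearMap.sub_apply, map_sub, LinearMap.id_apply, LinearMap.comp_apply]
      have := LinearMap.congr_fun hl (ψ x)
      rw [LinearMap.comp_apply, LinearMap.id_apply] at this
      rw [this, sub_self])
  have hr : r ∘ₗ (LinearMap.ker ψ).subtype = LinearMap.id := by
    ext x
    have hx : ψ x = 0 := x.2
    simp [r, hx]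
  refine ⟨Module.Finite.of_surjective r ?_, Module.Projective.of_split _ r hr⟩
  intro y
  exact ⟨y, LinearMap.congr_fun hr y⟩

/-- Localization commutes with kernels, `LocalizedModule` form with `Localization S`-linear equivalence. -/
theorem nonempty_localizedKerEquiv {R : Type u} [CommRing R] (S : Submonoid R) {M N : Type u}
    [AddCommGroup M] [Module R M] [AddCommGroup N] [Module R N] (φ : M →ₗ[R] N) :
    Nonempty (LocalizedModule S (LinearMap.ker φ) ≃ₗ[Localization S]
      LinearMap.ker (LocalizedModule.map S φ)) := by
  let f := LocalizedModule.mkLinearMap S M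
  let f' := LocalizedModule.mkLinearMap S N
  have h := LinearMap.toKerLocalized_isLocalizedModule (Localization S) S f f' φ
  let e : LinearMap.ker (IsLocalizedModule.map S f f' φ) ≃ₗ[R]
      LinearMap.ker (LocalizedModule.map S φ) :=
    { toFun := fun x => ⟨x.1, x.2⟩
      invFun := fun x => ⟨x.1, x.2⟩
      map_add' := fun _ _ => rfl
      map_smul' := fun _ _ => rfl
      left_inv := fun _ => rfl
      right_inv := fun _ => rfl }
  have h' : IsLocalizedModule S (e.toLinearMap ∘ₗ LinearMap.toKerIsLocalized S f f' φ) :=
    IsLocalizedModule.of_linearEquiv S _ e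
  exact ⟨(IsLocalizedModule.iso S (e.toLinearMap ∘ₗ LinearMap.toKerIsLocalized S f f' φ)).extendScalarsOfIsLocalization S
    (Localization S)⟩

/-- Let R be a ring and φ : P₁ → P₂ a map of finite projective R-modules. The set W of primes p of R
such that φ ⊗ κ(p) is surjective is open, and for every f ∈ R with D(f) ⊆ W the map (P₁)_f → (P₂)_f
is surjective and Ker(φ)_f is a finite projective module over R_f. -/
theorem result {R : Type u} [CommRing R] {P₁ P₂ : Type u} [AddCommGroup P₁] [Module R P₁] [AddCommGroup P₂] [Module R P₂] [Module.Finite R P₁] [Module.Projective R P₁] [Module.Finite R P₂] [Module.Projective R P₂] (φ : P₁ →ₗ[R] P₂) : IsOpen {p : PrimeSpectrum R | Function.Surjective (φ.lTensor p.asIdeal.ResidueField)} ∧ ∀ f : R, (↑(PrimeSpectrum.basicOpen f) : Set (PrimeSpectrum R)) ⊆ {p : PrimeSpectrum R | Function.Surjective (φ.lTensor p.asIdeal.ResidueField)} → Function.Surjective (LocalizedModule.map (Submonoid.powers f) φ) ∧ Module.Finite (Localization.Away f) (LocalizedModule (Submonoid.powers f) (LinearMap.ker φ)) ∧ Module.Projective (Localization.Away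 f) (LocalizedModule (Submonoid.powers f) (LinearMap.ker φ)) := by
  classical
  obtain ⟨h1, h2, h3⟩ := Groth.Agent.S6308.result φ
  have hset : {p : PrimeSpectrum R | Function.Surjective (φ.lTensor p.asIdeal.ResidueField)} =
      {p : PrimeSpectrum R | Function.Surjective (LocalizedModule.map p.asIdeal.primeCompl φ)} := by
    ext p
    exact (h1 p).symm
  rw [hset]
  refine ⟨h2, fun f hf => ?_⟩
  have hsurj := h3 f hf
  obtain ⟨e⟩ := nonempty_localizedKerEquiv (Submonoid.powers f) φ
  obtain ⟨hfin, hproj⟩ := ker_finite_projective (A := Localization.Away f)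
    (LocalizedModule.map (Submonoid.powers f) φ) hsurj
  exact ⟨hsurj, Module.Finite.equiv e.symm, Module.Projective.of_equiv e.symm⟩

end Groth.Agent.S6330
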