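import Groth.Statements.S6331
import Mathlib

set_option autoImplicit false
universe u
open CAlg

namespace Groth.Agent.S6331

/-- Let R be a ring, I ⊆ R an ideal all of whose elements are nilpotent, and n ≥ 1 an integer whose
image in R/I is invertible. Then (1) raising to the n-th power is a bijection of the subset 1 + I of
R onto itself: for every y ∈ I there is exactly one x ∈ I with (1 + x)ⁿ = 1 + y; (2) a unit u of R
has an n-th root in R exactly when the residue class of u has an n-th root in R/I. -/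
theorem result {R : Type u} [CommRing R] (I : Ideal R) (hI : ∀ x ∈ I, IsNilpotent x) (n : ℕ) (hn : 1 ≤ n) (hinv : IsUnit ((n : ℕ) : R ⧸ I)) : (∀ y ∈ I, ∃! x : R, x ∈ I ∧ (1 + x) ^ n = 1 + y) ∧ (∀ u : Rˣ, (∃ v : R, v ^ n = (u : R)) ↔ ∃ w : R ⧸ I, w ^ n = Ideal.Quotient.mk I (u : R)) := by
  have hnunit : IsUnit ((n : ℕ) : R) := by
    obtain ⟨m', hm'⟩ := hinv.exists_right_inv
    obtain ⟨m, rfl⟩ := Ideal.Quotient.mk_surjective m'
    have h1 : (n : R) * m - 1 ∈ I := by
      rw [← Ideal.Quotient.eq_zero_iff_mem, map_sub, map_mul, map_natCast, map_one, hm', sub_self]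
    have h2 : IsUnit ((n : R) * m) := by
      have := (hI _ h1).isUnit_add_one
      simpa using this
    exact isUnit_of_mul_isUnit_left h2
  have part1 : ∀ y ∈ I, ∃! x : R, x ∈ I ∧ (1 + x) ^ n = 1 + y := by
    intro y hy
    let P : Polynomial R := Polynomial.X ^ n - Polynomial.C (1 + y)
    have hP1 : Polynomial.aeval (1 : R) P = -y := by simp [P]
    have hP' : Polynomial.aeval (1 : R) (Polynomial.derivative P) = (n : R) := by
      simp [P, Polynomial.derivative_X_pow]
    obtain ⟨r, ⟨hr1, hr2⟩, hr3⟩ := Polynomial.existsUnique_nilpotent_sub_and_aeval_eq_zero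
      (P := P) (x := (1 : R)) (by rw [hP1]; exact (hI y hy).neg) (by rw [hP']; exact hnunit)
    have hr2' : r ^ n = 1 + y := by simpa [P, sub_eq_zero] using hr2
    have hrI : r - 1 ∈ I := by
      rw [← Ideal.Quotient.eq_zero_iff_mem, map_sub, map_one, sub_eq_zero]
      let Pbar : Polynomial (R ⧸ I) := Polynomial.X ^ n - Polynomial.C 1
      have hu := Polynomial.existsUnique_nilpotent_sub_and_aeval_eq_zero (P := Pbar)
        (x := (1 : R ⧸ I)) (by simp [Pbar]) (by simpa [Pbar, Polynomial.derivative_X_pow] using hinv)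
      apply hu.unique
      · refine ⟨?_, ?_⟩
        · have := hr1.map (Ideal.Quotient.mk I); simpa using this
        · simp only [Pbar, map_sub, map_pow, Polynomial.aeval_X, map_one,
            sub_eq_zero]
          rw [← map_pow, hr2', map_add, map_one, Ideal.Quotient.eq_zero_iff_mem.mpr hy, add_zero]
      · exact ⟨by simp, by simp [Pbar]⟩
    refine ⟨r - 1, ⟨hrI, by rw [add_sub_cancel]; exact hr2'⟩, ?_⟩
    rintro x' ⟨hx'I, hx'⟩
    have := hr3 (1 + x') ⟨by simpa using (hI x' hx'I).neg, by simp [P, hx']⟩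
    rw [← this]; ring
  refine ⟨part1, ?_⟩
  intro u
  constructor
  · rintro ⟨v, hv⟩; exact ⟨Ideal.Quotient.mk I v, by rw [← map_pow, hv]⟩
  · rintro ⟨w, hw⟩
    obtain ⟨v₀, rfl⟩ := Ideal.Quotient.mk_surjective w
    set y : R := (↑u⁻¹ : R) * v₀ ^ n - 1 with hy
    have hyI : y ∈ I := by
      rw [← Ideal.Quotient.eq_zero_iff_mem, hy, map_sub, map_mul, map_pow, hw, ← map_mul,
        Units.inv_mul, map_one, sub_self]
    obtain ⟨x, ⟨hxI, hx⟩, -⟩ := part1 y hyI
    have hxu : IsUnit (1 + x) := (hI x hxI).isUnit_one_add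
    obtain ⟨e, he⟩ := hxu
    refine ⟨v₀ * ↑e⁻¹, ?_⟩
    have h1 : v₀ ^ n = u * (1 + x) ^ n := by
      rw [hx, hy]
      have : (u : R) * (1 + ((↑u⁻¹ : R) * v₀ ^ n - 1)) = ((u : R) * ↑u⁻¹) * v₀ ^ n := by ring
      rw [this, Units.mul_inv, one_mul]
    rw [mul_pow, h1, ← he, mul_assoc, ← mul_pow, Units.mul_inv, one_pow, mul_one]

end Groth.Agent.S6331
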