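import Groth.Statements.S6332
-- import your own Groth.Agent.* helpers here
import Groth.Agent.Lib.Helper25.Misc1

set_option autoImplicit false
universe u
open Fields

namespace Groth.Agent.S6332

open IntermediateField in
/-- Let L/K be a finite Galois extension of fields of characteristic p > 0 whose degree equals the prime
p (equivalently, the Galois group is cyclic of order p). Then there is an element z of L with z ^ p
- z in K which generates L over K. -/
theorem result {K L : Type u} [Field K] [Field L] [Algebra K L] (p : ℕ)
    [Fact p.Prime] [CharP K p] [FiniteDimensional K L] [IsGalois K L]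
    (hdeg : Module.finrank K L = p) :
    ∃ z : L, z ^ p - z ∈ Set.range (algebraMap K L) ∧ K⟮z⟯ = ⊤ := by
  classical
  have hp : p.Prime := Fact.out
  have : CharP L p := charP_of_injective_algebraMap (algebraMap K L).injective p
  have hcard : Nat.card (L ≃ₐ[K] L) = p := by rw [IsGalois.card_aut_eq_finrank, hdeg]
  have : Finite (L ≃ₐ[K] L) := Nat.finite_of_card_ne_zero (by rw [hcard]; exact hp.ne_zero)
  obtain ⟨σ, hσ⟩ : ∃ σ : L ≃ₐ[K] L, σ ≠ 1 := by
    have : Nontrivial (L ≃ₐ[K] L) :=
      Finite.one_lt_card_iff_nontrivial.mp (by rw [hcard]; exact hp.one_lt)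
    exact exists_ne 1
  have hgen := zpowers_eq_top_of_prime_card hcard hσ
  have hfix : ∀ x : L, σ x = x → x ∈ Set.range (algebraMap K L) := by
    intro x hx
    rw [IsGalois.mem_range_algebraMap_iff_fixed]
    intro τ
    have hτ : τ ∈ Subgroup.zpowers σ := by rw [hgen]; trivial
    have hle : Subgroup.zpowers σ ≤ MulAction.stabilizer (L ≃ₐ[K] L) x := by
      rw [Subgroup.zpowers_le]
      exact hx
    exact hle hτ
  have : CharP (Module.End K L) p :=
    charP_of_injective_ringHom (algebraMap K (Module.End K L)).injective p
  have hσp : σ ^ p = 1 := by rw [← hcard]; exact pow_card_eq_one'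
  have hlin : ∀ n : ℕ, (σ.toLinearMap : Module.End K L) ^ n = (σ ^ n).toLinearMap := by
    intro n
    induction n with
    | zero =>
      ext x
      simp
    | succ n ih =>
      rw [pow_succ, ih, pow_succ]
      ext x
      simp [Module.End.mul_apply, AlgEquiv.mul_apply]
  obtain ⟨N, hNdef⟩ : ∃ N : Module.End K L, N = σ.toLinearMap - 1 := ⟨_, rfl⟩
  have hN : ∀ x, N x = σ x - x := by
    intro x
    rw [hNdef]
    simp
  have hNp : N ^ p = 0 := by
    rw [hNdef, sub_pow_char_of_commute p (Commute.one_right _), one_pow, hlin, hσp]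
    ext x
    simp
  have hex : ∃ z : L, σ z - z = 1 := by
    by_contra hcon
    push Not at hcon
    have hker : ∀ y : L, N y = 0 → (∃ z, y = N z) → y = 0 := by
      rintro y hy ⟨z, rfl⟩
      have h1 : σ (N z) = N z := by
        have h2 := hN (N z)
        rw [hy] at h2
        exact sub_eq_zero.mp h2.symm
      obtain ⟨c, hc⟩ := hfix _ h1
      by_contra hne
      have hc0 : c ≠ 0 := by
        rintro rfl
        rw [map_zero] at hc
        exact hne hc.symm
      apply hcon (c⁻¹ • z)
      rw [← hN, map_smul, ← hc, Algebra.smul_def, ← map_mul, inv_mul_cancel₀ hc0, map_one]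
    have hdown : ∀ j : ℕ, ∀ x : L, (N ^ (j + 1)) x = 0 → N x = 0 := by
      intro j
      induction j with
      | zero =>
        intro x hx
        simpa using hx
      | succ j ih =>
        intro x hx
        apply ih
        apply hker
        · rw [← Module.End.mul_apply, ← pow_succ']
          exact hx
        · exact ⟨(N ^ j) x, by rw [← Module.End.mul_apply, ← pow_succ']⟩
    have hN0 : ∀ x, N x = 0 := by
      intro x
      obtain ⟨j, hj⟩ : ∃ j, p = j + 1 := ⟨p - 1, by have := hp.one_lt; omega⟩
      apply hdown j
      rw [← hj, hNp]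
      rfl
    apply hσ
    ext x
    have h3 := hN0 x
    rw [hN, sub_eq_zero] at h3
    simpa using h3
  obtain ⟨z, hz⟩ := hex
  have hσz : σ z = z + 1 := by rw [← hz]; ring
  refine ⟨z, ?_, ?_⟩
  · apply hfix
    rw [map_sub, map_pow, hσz, add_pow_char, one_pow]
    ring
  · have hzK : z ∉ Set.range (algebraMap K L) := by
      rintro ⟨c, rfl⟩
      have h4 : σ (algebraMap K L c) = algebraMap K L c := σ.commutes c
      rw [hσz] at h4
      exact (one_ne_zero : (1 : L) ≠ 0) (by simpa using h4)
    have := IntermediateField.isSimpleOrder_of_finrank_prime K L (by rw [hdeg]; exact hp)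
    rcases eq_bot_or_eq_top K⟮z⟯ with h5 | h5
    · exfalso
      apply hzK
      rw [← IntermediateField.mem_bot]
      exact IntermediateField.adjoin_simple_eq_bot_iff.mp h5
    · exact h5

end Groth.Agent.S6332
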