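import Groth.Statements.S6333
import Mathlib

set_option autoImplicit false
universe u
open Fields

namespace Groth.Agent.S6333
open scoped IntermediateField.algebraAdjoinAdjoin

/-- For a finitely generated field extension K/k, the algebraic closure of k inside K is a finite
extension of k. -/
theorem result {k K : Type u} [Field k] [Field K] [Algebra k K]
    (hfg : (⊤ : IntermediateField k K).FG) :
    FiniteDimensional k (algebraicClosure k K) := by
  classical
  haveI : Algebra.EssFiniteType k K := IntermediateField.fg_top_iff.mp hfg
  obtain ⟨s, hs⟩ := exists_finset_isTranscendenceBasis k K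
  have hfin : Module.Finite (IntermediateField.adjoin k (s : Set K)) K := by
    apply +allowSynthFailures Algebra.finite_of_essFiniteType_of_isAlgebraic
    · exact .of_comp k _ _
    · convert! hs.isAlgebraic_field <;> simp
  have hxL : AlgebraicIndependent (algebraicClosure k K) ((↑) : s → K) :=
    hs.1.extendScalars (algebraicClosure k K)
  let b := Module.Basis.ofVectorSpace k (algebraicClosure k K)
  have hA : ∀ a : Algebra.adjoin k (s : Set K),
      ∃ p : MvPolynomial s k, MvPolynomial.aeval ((↑) : s → K) p = (a : K) := by
    intro a
    have h1 : Set.range ((↑) : s → K) = (s : Set K) := by ext y; simp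
    have h2 : (a : K) ∈ Algebra.adjoin k (Set.range ((↑) : s → K)) := by rw [h1]; exact a.2
    rw [Algebra.adjoin_range_eq_range_aeval] at h2
    exact h2
  have hlinA : LinearIndependent (Algebra.adjoin k (s : Set K)) (fun i => ((b i : algebraicClosure k K) : K)) := by
    rw [linearIndependent_iff']
    intro t g hg i hi
    choose p hp using hA
    let P : MvPolynomial s (algebraicClosure k K) :=
      ∑ j ∈ t, MvPolynomial.C (b j) * MvPolynomial.map (algebraMap k (algebraicClosure k K)) (p (g j))
    have hP : MvPolynomial.aeval ((↑) : s → K) P = 0 := by
      simp only [P, map_sum, map_mul, MvPolynomial.aeval_C, MvPolynomial.aeval_map_algebraMap, hp]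
      rw [← hg]
      refine Finset.sum_congr rfl (fun j _ => ?_)
      rw [Subalgebra.smul_def, smul_eq_mul, mul_comm]
      rfl
    have hP0 : P = 0 := (injective_iff_map_eq_zero _).mp hxL P hP
    have hp0 : p (g i) = 0 := by
      ext m
      have hm := congrArg (MvPolynomial.coeff m) hP0
      simp only [P, MvPolynomial.coeff_sum, MvPolynomial.coeff_C_mul, MvPolynomial.coeff_map,
        MvPolynomial.coeff_zero] at hm
      have hm' : ∑ j ∈ t, (MvPolynomial.coeff m (p (g j))) • b j = 0 := by
        rw [← hm]
        refine Finset.sum_congr rfl (fun j _ => ?_)
        rw [Algebra.smul_def, mul_comm]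
      have := linearIndependent_iff'.mp b.linearIndependent t
        (fun j => MvPolynomial.coeff m (p (g j))) hm' i hi
      simpa using this
    have := hp (g i)
    rw [hp0, map_zero] at this
    exact Subtype.ext this.symm
  have hlinF : LinearIndependent (IntermediateField.adjoin k (s : Set K))
      (fun i => ((b i : algebraicClosure k K) : K)) :=
    (LinearIndependent.iff_fractionRing (Algebra.adjoin k (s : Set K))
      (IntermediateField.adjoin k (s : Set K))).mp hlinA
  haveI : Finite (Module.Basis.ofVectorSpaceIndex k (algebraicClosure k K)) :=
    hlinF.finite_of_isNoetherian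
  exact Module.Finite.of_basis b

end Groth.Agent.S6333
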