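import Groth.Statements.S6334
import Mathlib

set_option autoImplicit false
universe u
open Fields

namespace Groth.Agent.S6334

section helpers
open IntermediateField Polynomial

lemma restrict_adjoin_simple {F E : Type u} [Field F] [Field E] [Algebra F E] (a₀ : E) (S : Set E) :
    IntermediateField.restrictScalars F (adjoin F⟮a₀⟯ S) = adjoin F (insert a₀ S) := by
  rw [restrictScalars_adjoin_eq_sup, Set.insert_eq, adjoin_union]

lemma image_lt_succ {n : ℕ} {E : Type u} (a₀ : E) (a' : Fin n → E) (i : Fin n) :
    (Fin.cons a₀ a' : Fin (n+1) → E) '' {j | j < i.succ} = insert a₀ (a' '' {j | j < i}) := by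
  ext y
  constructor
  · rintro ⟨j, hj, rfl⟩
    induction j using Fin.cases with
    | zero => left; rfl
    | succ j' =>
      right
      exact ⟨j', Fin.succ_lt_succ_iff.1 hj, by simp⟩
  · rintro (rfl | ⟨j', hj', rfl⟩)
    · exact ⟨0, Fin.succ_pos i, by simp⟩
    · exact ⟨j'.succ, Fin.succ_lt_succ_iff.2 hj', by simp⟩

lemma image_lt_zero {n : ℕ} {E : Type u} (a : Fin (n+1) → E) :
    a '' {j | j < 0} = ∅ := by
  ext y
  simp


/-- an element outside `F` whose `p`-th power lies in `F` -/
lemma exists_pth_root {F E : Type u} [Field F] [Field E] [Algebra F E] (p : ℕ) [Fact p.Prime]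
    [CharP F p] [IsPurelyInseparable F E] (b : E) (hb : b ∉ (algebraMap F E).range) :
    ∃ a₀ : E, a₀ ∉ (algebraMap F E).range ∧ a₀ ^ p ∈ (algebraMap F E).range := by
  have : ExpChar F p := ExpChar.prime Fact.out
  have hex := IsPurelyInseparable.pow_mem F p b
  classical
  have hm0 : Nat.find hex ≠ 0 := by
    intro h0
    have := Nat.find_spec hex
    rw [h0, pow_zero, pow_one] at this
    exact hb this
  refine ⟨b ^ p ^ (Nat.find hex - 1), Nat.find_min hex (by omega), ?_⟩
  rw [← pow_mul, ← pow_succ]
  have : Nat.find hex - 1 + 1 = Nat.find hex := by omega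
  rw [this]
  exact Nat.find_spec hex

lemma finrank_simple {F E : Type u} [Field F] [Field E] [Algebra F E] (p : ℕ) [Fact p.Prime]
    [CharP F p] [IsPurelyInseparable F E] (a₀ : E) (h1 : a₀ ∉ (algebraMap F E).range)
    (h2 : a₀ ^ p ∈ (algebraMap F E).range) : Module.finrank F F⟮a₀⟯ = p := by
  have : ExpChar F p := ExpChar.prime Fact.out
  have hint : IsIntegral F a₀ := IsPurelyInseparable.isIntegral' F a₀
  rw [adjoin.finrank hint]
  obtain ⟨k, y, e⟩ := IsPurelyInseparable.minpoly_eq_X_pow_sub_C F p a₀
  obtain ⟨c, hc⟩ := h2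
  have hdeg : (minpoly F a₀).natDegree = p ^ k := by
    rw [e, natDegree_sub_C, natDegree_X_pow]
  have hp : p.Prime := Fact.out
  have hdvd : minpoly F a₀ ∣ (X ^ p - C c : F[X]) := by
    apply minpoly.dvd
    simp [hc]
  have hne : (X ^ p - C c : F[X]) ≠ 0 := by
    apply Polynomial.X_pow_sub_C_ne_zero hp.pos
  have hle : p ^ k ≤ p := by
    rw [← hdeg]
    have := natDegree_le_of_dvd hdvd hne
    rwa [natDegree_sub_C, natDegree_X_pow] at this
  have hk : k ≤ 1 := by
    by_contra hk
    have : p ^ 2 ≤ p ^ k := Nat.pow_le_pow_right hp.pos (by omega)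
    have h3 : p * p ≤ p := by rw [← sq]; exact le_trans this hle
    have := hp.two_le
    nlinarith
  rw [hdeg]
  interval_cases k
  · exfalso
    rw [pow_zero] at hdeg
    rw [minpoly.natDegree_eq_one_iff] at hdeg
    exact h1 hdeg
  · rw [pow_one]


theorem aux (p : ℕ) [hp : Fact p.Prime] : ∀ (d : ℕ) (F E : Type u) [Field F] [Field E] [Algebra F E]
    [CharP F p] [FiniteDimensional F E] [IsPurelyInseparable F E], Module.finrank F E = d →
    ∃ (n : ℕ) (a : Fin n → E), adjoin F (Set.range a) = ⊤ ∧
      (∀ i : Fin n, a i ^ p ∈ adjoin F (a '' {j | j < i}) ∧ a i ∉ adjoin F (a '' {j | j < i})) ∧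
      Module.finrank F E = p ^ n := by
  intro d
  induction d using Nat.strongRecOn with
  | ind d IH =>
    intro F E _ _ _ _ _ _ hd
    by_cases h : (⊥ : IntermediateField F E) = ⊤
    · refine ⟨0, Fin.elim0, ?_, fun i => i.elim0, ?_⟩
      · rw [Set.range_eq_empty, adjoin_empty, h]
      · rw [← finrank_top', ← h, IntermediateField.finrank_bot, pow_zero]
    · obtain ⟨b, -, hb⟩ := SetLike.exists_of_lt (lt_of_le_of_ne bot_le h :)
      rw [IntermediateField.mem_bot] at hb
      have hb' : b ∉ (algebraMap F E).range := fun ⟨c, hc⟩ => hb ⟨c, hc⟩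
      obtain ⟨a₀, h1, h2⟩ := exists_pth_root p b hb'
      have hfr := finrank_simple p a₀ h1 h2
      have hmul := Module.finrank_mul_finrank F F⟮a₀⟯ E
      rw [hfr, hd] at hmul
      have hpos : 0 < Module.finrank F⟮a₀⟯ E := Module.finrank_pos
      have hlt : Module.finrank F⟮a₀⟯ E < d := by
        have := hp.out.two_le
        nlinarith
      have : CharP F⟮a₀⟯ p := charP_of_injective_algebraMap (algebraMap F F⟮a₀⟯).injective p
      obtain ⟨n', a', g1, g2, g3⟩ := IH _ hlt F⟮a₀⟯ E rfl
      refine ⟨n' + 1, Fin.cons a₀ a', ?_, ?_, ?_⟩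
      · rw [Fin.range_cons, ← restrict_adjoin_simple, g1, IntermediateField.restrictScalars_top]
      · intro i
        induction i using Fin.cases with
        | zero =>
          rw [image_lt_zero, adjoin_empty, Fin.cons_zero, IntermediateField.mem_bot,
            IntermediateField.mem_bot]
          exact ⟨h2, h1⟩
        | succ i' =>
          rw [image_lt_succ, ← restrict_adjoin_simple, Fin.cons_succ,
            IntermediateField.mem_restrictScalars, IntermediateField.mem_restrictScalars]
          exact g2 i'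
      · rw [hd, ← hmul, g3, pow_succ, mul_comm]


theorem main6334 {F E : Type u} [Field F] [Field E] [Algebra F E] (p : ℕ)
    [Fact p.Prime] [CharP F p] [FiniteDimensional F E] [IsPurelyInseparable F E] :
    ∃ (n : ℕ) (a : Fin n → E), adjoin F (Set.range a) = ⊤ ∧
      (∀ i : Fin n, a i ^ p ∈ adjoin F (a '' {j | j < i}) ∧ a i ∉ adjoin F (a '' {j | j < i})) ∧
      Module.finrank F E = p ^ n :=
  aux p _ F E rfl


end helpers

open IntermediateField in
/-- Let E/F be a finite purely inseparable extension of fields of characteristic p > 0. Then there are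
elements a_1, ..., a_n of E generating E over F such that for each i the p-th power of a_i lies in
F(a_1, ..., a_{i-1}) while a_i itself does not (so each step adjoins a p-th root and has degree p);
in particular [E : F] = p ^ n. -/
theorem result {F E : Type u} [Field F] [Field E] [Algebra F E] (p : ℕ)
    [Fact p.Prime] [CharP F p] [FiniteDimensional F E] [IsPurelyInseparable F E] :
    ∃ (n : ℕ) (a : Fin n → E), adjoin F (Set.range a) = ⊤ ∧
      (∀ i : Fin n, a i ^ p ∈ adjoin F (a '' {j | j < i}) ∧ a i ∉ adjoin F (a '' {j | j < i})) ∧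
      Module.finrank F E = p ^ n := by
  exact main6334 p

end Groth.Agent.S6334
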