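import Groth.Statements.S6335
import Mathlib

set_option autoImplicit false
universe u
open Fields

namespace Groth.Agent.S6335

/-- Let K be a field of characteristic p > 0, L/K a separable algebraic extension and a an element of L.
If a is a root of a polynomial P over K which is separable (pairwise distinct roots in an algebraic
closure) and all of whose coefficients are p-th powers in K, then a is a p-th power in L. (Part (1),
the case where P is the minimal polynomial of a, is a special case.) -/
theorem result {K L : Type u} [Field K] [Field L] [Algebra K L]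
    (p : ℕ) [Fact p.Prime] [CharP K p] [Algebra.IsSeparable K L] (a : L) (P : Polynomial K)
    (hroot : Polynomial.aeval a P = 0) (hsep : P.Separable) (hcoeff : ∀ i : ℕ, ∃ b : K, b ^ p = P.coeff i) :
    ∃ c : L, c ^ p = a := by
  classical
  haveI : CharP L p := charP_of_injective_algebraMap (algebraMap K L).injective p
  let E : Subfield L := (frobenius L p).fieldRange
  haveI : CharP E p := (RingHom.charP_iff_charP (algebraMap E L) p).mpr inferInstance
  haveI : ExpChar E p := ExpChar.prime (Fact.out)
  -- L is purely inseparable over E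
  haveI : IsPurelyInseparable E L := by
    rw [isPurelyInseparable_iff_pow_mem E p]
    intro x
    refine ⟨1, ?_⟩
    rw [pow_one]
    exact ⟨⟨x ^ p, ⟨x, rfl⟩⟩, rfl⟩
  -- lift P to E[X]
  have hlift : P.map (algebraMap K L) ∈ Polynomial.lifts (algebraMap E L) := by
    rw [Polynomial.lifts_iff_coeff_lifts]
    intro n
    obtain ⟨b, hb⟩ := hcoeff n
    rw [Polynomial.coeff_map, ← hb, map_pow]
    exact ⟨⟨(algebraMap K L b) ^ p, ⟨algebraMap K L b, rfl⟩⟩, rfl⟩
  obtain ⟨PE, hPE⟩ := (Polynomial.mem_lifts _).mp hlift
  have hPEsep : PE.Separable := by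
    rw [← Polynomial.separable_map (algebraMap E L), hPE, Polynomial.separable_map]
    exact hsep
  have hPEroot : Polynomial.aeval a PE = 0 := by
    rw [Polynomial.aeval_def, Polynomial.eval₂_eq_eval_map, hPE, ← Polynomial.eval₂_eq_eval_map,
      ← Polynomial.aeval_def]
    exact hroot
  have hasep : IsSeparable E a := hPEsep.of_dvd (minpoly.dvd E a hPEroot)
  obtain ⟨⟨y, hy⟩, hya⟩ := IsPurelyInseparable.inseparable E a hasep
  obtain ⟨c, hc⟩ := hy
  refine ⟨c, ?_⟩
  rw [← hya]
  exact hc

end Groth.Agent.S6335
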