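import Groth.Statements.S6336
import Mathlib

set_option autoImplicit false
universe u
open Fields

namespace Groth.Agent.S6336

open IntermediateField Polynomial in
/-- With an added hypothesis: let L/K be a finite extension of degree e generated by a single element a
whose e-th power lies in K, and assume that the polynomial X ^ e - 1 splits into linear factors over
K (so every e-th root of unity of any extension of K already lies in K; this holds when K contains a
primitive e-th root of unity, and when e is a power of the characteristic). Then every intermediate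
field of L/K is generated by a ^ d for some divisor d of e. (The published statement has no
hypothesis on roots of unity; for K the rationals and a a primitive 8-th root of unity, e = 4 and a
^ 4 = -1, the intermediate field generated by a + a⁻¹, a square root of 2, is none of K(a), K(a ^
2), K(a ^ 4); the published proof uses that the e-th roots of unity met are fixed by the
automorphisms it constructs, which the splitting hypothesis guarantees.) -/
theorem result {K L : Type u} [Field K] [Field L] [Algebra K L]
    [FiniteDimensional K L] (a : L) (ha : K⟮a⟯ = ⊤)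
    (hpow : a ^ Module.finrank K L ∈ Set.range (algebraMap K L))
    (hroots : (X ^ Module.finrank K L - 1 : K[X]).Splits) (L' : IntermediateField K L) :
    ∃ d : ℕ, d ∣ Module.finrank K L ∧ L' = K⟮a ^ d⟯ := by
  classical
  have he_pos : 0 < Module.finrank K L := Module.finrank_pos
  obtain ⟨b, hb⟩ := hpow
  by_cases ha0 : a = 0
  · refine ⟨1, one_dvd _, ?_⟩
    have hbot : (⊥ : IntermediateField K L) = ⊤ := by
      rw [← ha, ha0, IntermediateField.adjoin_zero]
    rw [pow_one, ha]
    exact eq_top_iff.mpr (hbot ▸ bot_le)
  -- main case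
  have hint : IsIntegral L' a := Algebra.IsIntegral.isIntegral a
  have hfm : (minpoly L' a).Monic := minpoly.monic hint
  have htop : L'⟮a⟯ = ⊤ := IntermediateField.adjoin_eq_top_of_adjoin_eq_top (F := K) (E := L') ha
  have hd : (minpoly L' a).natDegree = Module.finrank L' L := by
    rw [← IntermediateField.adjoin.finrank hint, htop, IntermediateField.finrank_top']
  have hdvd : (minpoly L' a).natDegree ∣ Module.finrank K L := by
    rw [hd]
    exact ⟨Module.finrank K L', by rw [mul_comm, Module.finrank_mul_finrank]⟩
  have hdpos : 0 < (minpoly L' a).natDegree := minpoly.natDegree_pos hint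
  refine ⟨(minpoly L' a).natDegree, hdvd, ?_⟩
  -- g := X^e - C b over L'
  have hg_root : aeval a (X ^ Module.finrank K L - C (algebraMap K L' b) : L'[X]) = 0 := by
    simp only [map_sub, map_pow, aeval_X, aeval_C]
    rw [← IsScalarTower.algebraMap_apply K L' L, hb, sub_self]
  have hf_dvd : minpoly L' a ∣ (X ^ Module.finrank K L - C (algebraMap K L' b) : L'[X]) :=
    minpoly.dvd L' a hg_root
  have hg_map : (X ^ Module.finrank K L - C (algebraMap K L' b) : L'[X]).map (algebraMap L' L) =
      (X ^ Module.finrank K L - C (a ^ Module.finrank K L) : L[X]) := by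
    simp only [Polynomial.map_sub, Polynomial.map_pow, map_X, map_C]
    rw [← IsScalarTower.algebraMap_apply K L' L, hb]
  have hfL_dvd : (minpoly L' a).map (algebraMap L' L) ∣
      (X ^ Module.finrank K L - C (a ^ Module.finrank K L) : L[X]) := by
    rw [← hg_map]; exact Polynomial.map_dvd _ hf_dvd
  have hgL_ne : (X ^ Module.finrank K L - C (a ^ Module.finrank K L) : L[X]) ≠ 0 :=
    X_pow_sub_C_ne_zero he_pos _
  have hgL_splits : (X ^ Module.finrank K L - C (a ^ Module.finrank K L) : L[X]).Splits := by
    have h1 : ((X ^ Module.finrank K L - 1 : K[X]).map (algebraMap K L)).Splits := hroots.map _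
    have h2 := h1.comp_of_natDegree_le_one_of_invertible (g := C a⁻¹ * X)
      ((natDegree_C_mul_le _ _).trans natDegree_X_le) (by
        rw [leadingCoeff_mul, leadingCoeff_C, leadingCoeff_X, mul_one]
        exact invertibleOfNonzero (inv_ne_zero ha0))
    have h3 : (X ^ Module.finrank K L - C (a ^ Module.finrank K L) : L[X]) =
        C (a ^ Module.finrank K L) *
          ((X ^ Module.finrank K L - 1 : K[X]).map (algebraMap K L)).comp (C a⁻¹ * X) := by
      simp only [Polynomial.map_sub, Polynomial.map_pow, map_X, Polynomial.map_one, sub_comp,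
        pow_comp, X_comp, one_comp, mul_pow, ← C_pow]
      rw [mul_sub, ← mul_assoc, ← C_mul, ← mul_pow, mul_inv_cancel₀ ha0, one_pow, C_1, one_mul,
        mul_one]
    rw [h3]
    exact h2.C_mul _
  have hfL_splits : ((minpoly L' a).map (algebraMap L' L)).Splits :=
    hgL_splits.of_dvd hgL_ne hfL_dvd
  have hfL_monic : ((minpoly L' a).map (algebraMap L' L)).Monic := hfm.map _
  -- roots of fL are ζ a with ζ ∈ K nonzero
  have hroot : ∀ r ∈ ((minpoly L' a).map (algebraMap L' L)).roots,
      ∃ z : K, z ≠ 0 ∧ r = algebraMap K L z * a := by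
    intro r hr
    have hr0 : ((minpoly L' a).map (algebraMap L' L)).IsRoot r :=
      (mem_roots hfL_monic.ne_zero).mp hr
    have hrg : (X ^ Module.finrank K L - C (a ^ Module.finrank K L) : L[X]).IsRoot r :=
      hr0.dvd hfL_dvd
    have hre : r ^ Module.finrank K L = a ^ Module.finrank K L := by
      simpa [sub_eq_zero] using hrg
    have hr_ne : r ≠ 0 := by
      intro h
      rw [h, zero_pow he_pos.ne'] at hre
      exact ha0 (pow_eq_zero_iff he_pos.ne' |>.mp hre.symm)
    have hroot1 : ((X ^ Module.finrank K L - 1 : K[X]).map (algebraMap K L)).IsRoot (r / a) := by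
      simp [div_pow, hre, div_self (pow_ne_zero _ ha0)]
    obtain ⟨z, hz⟩ := hroots.mem_range_of_isRoot (X_pow_sub_C_ne_zero he_pos 1) hroot1
    refine ⟨z, ?_, ?_⟩
    · intro hz0
      rw [hz0, map_zero] at hz
      exact hr_ne (by
        have := hz.symm
        rwa [div_eq_zero_iff, or_iff_left ha0] at this)
    · rw [hz]; field_simp
  -- product of roots
  have hmul : ∀ s : Multiset L, (∀ r ∈ s, ∃ z : K, z ≠ 0 ∧ r = algebraMap K L z * a) →
      ∃ z : K, z ≠ 0 ∧ s.prod = algebraMap K L z * a ^ (Multiset.card s) := by
    intro s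
    induction s using Multiset.induction_on with
    | empty => intro _; exact ⟨1, one_ne_zero, by simp⟩
    | cons r s ih =>
      intro h
      obtain ⟨z₁, hz₁0, hz₁⟩ := h r (Multiset.mem_cons_self r s)
      obtain ⟨z₂, hz₂0, hz₂⟩ := ih (fun r' hr' => h r' (Multiset.mem_cons_of_mem hr'))
      refine ⟨z₁ * z₂, mul_ne_zero hz₁0 hz₂0, ?_⟩
      rw [Multiset.prod_cons, Multiset.card_cons, hz₁, hz₂, map_mul, pow_succ]
      ring
  obtain ⟨z, hz0, hz⟩ := hmul _ hroot
  rw [← hfL_splits.natDegree_eq_card_roots, natDegree_map] at hz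
  have hcoeff : ((minpoly L' a).map (algebraMap L' L)).coeff 0 =
      (-1) ^ (minpoly L' a).natDegree * (algebraMap K L z * a ^ (minpoly L' a).natDegree) := by
    rw [hfL_splits.coeff_zero_eq_prod_roots_of_monic hfL_monic, hz, natDegree_map]
  have hzL : algebraMap K L z ≠ 0 := (_root_.map_ne_zero _).mpr hz0
  have had : a ^ (minpoly L' a).natDegree ∈ L' := by
    have h1 : ((minpoly L' a).map (algebraMap L' L)).coeff 0 =
        algebraMap L' L ((minpoly L' a).coeff 0) := coeff_map _ _
    have hsq : ((-1 : L) ^ (minpoly L' a).natDegree) * (-1) ^ (minpoly L' a).natDegree = 1 := by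
      rw [← mul_pow]; simp
    have h2 : a ^ (minpoly L' a).natDegree =
        ((-1) ^ (minpoly L' a).natDegree * (algebraMap K L z)⁻¹) *
          ((minpoly L' a).map (algebraMap L' L)).coeff 0 := by
      rw [hcoeff]
      calc a ^ (minpoly L' a).natDegree
          = (((-1 : L) ^ (minpoly L' a).natDegree) * (-1) ^ (minpoly L' a).natDegree) *
              ((algebraMap K L z)⁻¹ * algebraMap K L z) * a ^ (minpoly L' a).natDegree := by
            rw [hsq, inv_mul_cancel₀ hzL, one_mul, one_mul]
        _ = _ := by ring
    rw [h2, h1]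
    exact L'.mul_mem (L'.mul_mem (pow_mem (neg_mem (one_mem _)) _)
      (L'.inv_mem (L'.algebraMap_mem z))) (SetLike.coe_mem _)
  have hle : K⟮a ^ (minpoly L' a).natDegree⟯ ≤ L' :=
    IntermediateField.adjoin_simple_le_iff.mpr had
  -- degree comparison
  symm
  apply IntermediateField.eq_of_le_of_finrank_le' hle
  rw [← hd]
  have hintM : IsIntegral K⟮a ^ (minpoly L' a).natDegree⟯ a := Algebra.IsIntegral.isIntegral a
  have htopM : K⟮a ^ (minpoly L' a).natDegree⟯⟮a⟯ = ⊤ :=
    IntermediateField.adjoin_eq_top_of_adjoin_eq_top (F := K)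
      (E := K⟮a ^ (minpoly L' a).natDegree⟯) ha
  rw [← IntermediateField.finrank_top' (F := K⟮a ^ (minpoly L' a).natDegree⟯) (E := L), ← htopM,
    IntermediateField.adjoin.finrank hintM]
  have hmem : a ^ (minpoly L' a).natDegree ∈ K⟮a ^ (minpoly L' a).natDegree⟯ :=
    IntermediateField.mem_adjoin_simple_self K _
  have hroot2 : aeval a (X ^ (minpoly L' a).natDegree -
      C (⟨a ^ (minpoly L' a).natDegree, hmem⟩ : K⟮a ^ (minpoly L' a).natDegree⟯) :
        (K⟮a ^ (minpoly L' a).natDegree⟯)[X]) = 0 := by
    simp only [map_sub, map_pow, aeval_X, aeval_C]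
    exact sub_self _
  calc (minpoly K⟮a ^ (minpoly L' a).natDegree⟯ a).natDegree
      ≤ (X ^ (minpoly L' a).natDegree -
          C (⟨a ^ (minpoly L' a).natDegree, hmem⟩ : K⟮a ^ (minpoly L' a).natDegree⟯) :
            (K⟮a ^ (minpoly L' a).natDegree⟯)[X]).natDegree :=
        natDegree_le_of_dvd (minpoly.dvd _ a hroot2) (X_pow_sub_C_ne_zero hdpos _)
    _ = (minpoly L' a).natDegree := natDegree_X_pow_sub_C

end Groth.Agent.S6336
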