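import Groth.Statements.S6341
import Groth.Agent.S6340

set_option autoImplicit false
universe u
open CAlg

namespace Groth.Agent.S6341
open scoped TensorProduct

/-- The colimit of a directed system of Mittag-Leffler modules with universally injective transition
maps is Mittag-Leffler. -/
theorem result (R : Type u) [CommRing R] {ι : Type u}
    [Preorder ι] [IsDirected ι (· ≤ ·)] [DecidableEq ι] (G : ι → Type u) [∀ i, AddCommGroup (G i)]
    [∀ i, Module R (G i)] (f : ∀ i j, i ≤ j → G i →ₗ[R] G j) [DirectedSystem G fun i j h => f i j h]
    (hf : ∀ i j (h : i ≤ j), CAlgX.UniversallyInjective R (f i j h))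
    (hG : ∀ i, CAlg.IsMittagLeffler R (G i)) :
    CAlg.IsMittagLeffler R (Module.DirectLimit G f) := by
  rcases isEmpty_or_nonempty ι with hι | hι
  · intro κ Q _ _
    have : Subsingleton (Module.DirectLimit G f) := by
      have := Module.DirectLimit.unique (R := R) (G := G) (f := f)
      infer_instance
    intro a b _
    have hsub : Subsingleton (Module.DirectLimit G f ⊗[R] (∀ i, Q i)) := by
      refine ⟨fun a b => ?_⟩
      have h0 : ∀ t : Module.DirectLimit G f ⊗[R] (∀ i, Q i), t = 0 := by
        intro t
        induction t using TensorProduct.induction_on with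
        | zero => rfl
        | tmul d q => rw [Subsingleton.elim d 0, TensorProduct.zero_tmul]
        | add x y hx hy => rw [hx, hy, add_zero]
      rw [h0 a, h0 b]
    exact Subsingleton.elim a b
  · have hinj : ∀ (P : Type u) [AddCommGroup P] [Module R P] (i : ι),
        Function.Injective ((Module.DirectLimit.of R ι G f i).rTensor P) := by
      intro P _ _ i
      rw [injective_iff_map_eq_zero]
      intro x hx
      have h1 := congrArg (TensorProduct.directLimitLeft f P) hx
      rw [TensorProduct.directLimitLeft_rTensor_of, map_zero] at h1
      obtain ⟨j, hij, hj⟩ := Module.DirectLimit.of.zero_exact h1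
      exact hf i j hij P (hj.trans (map_zero _).symm)
    have hrep : ∀ (P : Type u) [AddCommGroup P] [Module R P]
        (t : Module.DirectLimit G f ⊗[R] P), ∃ i x,
          (Module.DirectLimit.of R ι G f i).rTensor P x = t := by
      intro P _ _ t
      obtain ⟨i, x, hx⟩ := Module.DirectLimit.exists_of (TensorProduct.directLimitLeft f P t)
      refine ⟨i, x, (TensorProduct.directLimitLeft f P).injective ?_⟩
      rw [TensorProduct.directLimitLeft_rTensor_of, hx]
    intro κ Q _ _
    rw [injective_iff_map_eq_zero]
    intro t ht
    obtain ⟨i, x, rfl⟩ := hrep _ t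
    have hx : TensorProduct.piRightHom R R (G i) Q x = 0 := by
      funext α
      apply hinj (Q α) i
      rw [← Groth.Agent.S6340.piRightHom_natural, ht]
      simp
    have := hG i κ Q (hx.trans (map_zero _).symm)
    rw [this, map_zero]

end Groth.Agent.S6341
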