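import Groth.Statements.S6342
import Mathlib

set_option autoImplicit false
universe u
open CAlg

namespace Groth.Agent.S6342
open scoped TensorProduct

/-- Let R → S be a ring map such that S is Mittag-Leffler as an R-module, and let M be an S-module which
is flat and Mittag-Leffler over S. Then M is Mittag-Leffler as an R-module. -/
theorem result (R S : Type u) [CommRing R] [CommRing S] [Algebra R S]
    (M : Type u) [AddCommGroup M] [Module S M] [Module R M] [IsScalarTower R S M]
    (hS : CAlg.IsMittagLeffler R S) [Module.Flat S M] (hM : CAlg.IsMittagLeffler S M) :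
    CAlg.IsMittagLeffler R M := by
  intro ι Q _ _
  rw [injective_iff_map_eq_zero]
  intro x hx
  let P : ι → Type u := fun i => S ⊗[R] Q i
  let e₁ := (TensorProduct.AlgebraTensorModule.cancelBaseChange R S S M (∀ i, Q i)).symm
  let φ : (S ⊗[R] (∀ i, Q i)) →ₗ[S] (∀ i, S ⊗[R] Q i) := TensorProduct.piRightHom R S S Q
  have hφ : Function.Injective φ := by
    have := hS ι Q
    intro a b hab
    apply this
    exact hab
  let ψ : M ⊗[S] (S ⊗[R] (∀ i, Q i)) →ₗ[S] M ⊗[S] (∀ i, S ⊗[R] Q i) := φ.lTensor M
  have hψ : Function.Injective ψ := Module.Flat.lTensor_preserves_injective_linearMap φ hφ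
  let χ : M ⊗[S] (∀ i, P i) →ₗ[S] (∀ i, M ⊗[S] P i) := TensorProduct.piRightHom S S M P
  have hχ : Function.Injective χ := hM ι P
  let e₂ := fun i => TensorProduct.AlgebraTensorModule.cancelBaseChange R S S M (Q i)
  have key : ∀ x i, e₂ i (χ (ψ (e₁ x)) i) = TensorProduct.piRightHom R R M Q x i := by
    intro x i
    induction x using TensorProduct.induction_on with
    | zero => simp
    | tmul m q =>
      simp [e₁, ψ, φ, χ, e₂, P, TensorProduct.piRightHom_tmul]
    | add a b ha hb => simp only [map_add, Pi.add_apply, ha, hb]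
  have h0 : χ (ψ (e₁ x)) = 0 := by
    funext i
    apply (e₂ i).injective
    rw [key, hx]; simp
  have h1 := hχ (h0.trans (map_zero χ).symm)
  have h2 := hψ (h1.trans (map_zero ψ).symm)
  exact e₁.injective (h2.trans (map_zero e₁).symm)

end Groth.Agent.S6342
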