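import Groth.Statements.S6358
import Groth.Agent.S6356

set_option autoImplicit false
universe u
open CAlg

namespace Groth.Agent.S6358

open TensorProduct

/-- A module M over a commutative ring R is Mittag-Leffler exactly when each linear map f from a finite
free module R^n into M is mutually dominated by some linear map g : R^n → Q with Q finitely
presented, meaning that f ⊗ id_N and g ⊗ id_N have the same kernel for every R-module N. -/
theorem result (R : Type u) [CommRing R] (M : Type u)
    [AddCommGroup M] [Module R M] :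
    CAlg.IsMittagLeffler R M ↔
      ∀ (n : ℕ) (f : (Fin n → R) →ₗ[R] M),
        ∃ (Q : Type u) (_ : AddCommGroup Q) (_ : Module R Q) (_ : Module.FinitePresentation R Q)
          (g : (Fin n → R) →ₗ[R] Q),
          ∀ (N : Type u) [AddCommGroup N] [Module R N],
            LinearMap.ker (f.rTensor N) = LinearMap.ker (g.rTensor N) := by
  classical
  constructor
  · intro hML n f
    obtain ⟨j, hj⟩ := Groth.Agent.S6356.dominated_of_ml M hML (Fin n → R) f
    have hQ : Module.FinitePresentation R ((Fin j.n → R) ⧸ j.K) :=
      Module.finitePresentation_of_free_of_surjective j.K.mkQ j.K.mkQ_surjective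
        (by rw [Submodule.ker_mkQ]; exact j.hK)
    refine ⟨(Fin j.n → R) ⧸ j.K, inferInstance, inferInstance, hQ, j.g, ?_⟩
    intro N _ _
    refine le_antisymm (hj N) ?_
    intro y hy
    rw [LinearMap.mem_ker] at hy ⊢
    rw [← j.comm, LinearMap.rTensor_comp, LinearMap.comp_apply, hy, map_zero]
  · intro H ι Qf _ _
    rw [injective_iff_map_eq_zero]
    intro x hx
    obtain ⟨k, m, q, rfl⟩ := TensorProduct.exists_sum_tmul_eq x
    let fP : (Fin k → R) →ₗ[R] M := Fintype.linearCombination R m
    let xP : (Fin k → R) ⊗[R] (∀ i, Qf i) := ∑ j, (Pi.single j (1 : R) : Fin k → R) ⊗ₜ[R] q j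
    have hxP : fP.rTensor _ xP = ∑ j, m j ⊗ₜ[R] q j := by
      simp only [xP, map_sum, LinearMap.rTensor_tmul]
      refine Finset.sum_congr rfl (fun j _ => ?_)
      simp [fP]
    obtain ⟨Q, _, _, hQ, g, hker⟩ := H k fP
    have h1 : ∀ i, TensorProduct.piRightHom R R (Fin k → R) Qf xP i ∈
        LinearMap.ker (g.rTensor (Qf i)) := by
      intro i
      rw [← hker (Qf i), LinearMap.mem_ker, ← Groth.Agent.S6340.piRightHom_natural, hxP, hx]
      rfl
    have h2 : g.rTensor _ xP = 0 := by
      apply Groth.Agent.S6344.ml_of_fp R Q ι Qf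
      rw [map_zero]
      funext i
      rw [Groth.Agent.S6340.piRightHom_natural]
      exact h1 i
    have h3 : xP ∈ LinearMap.ker (fP.rTensor (∀ i, Qf i)) := by
      rw [hker]; exact h2
    rw [← hxP]
    exact h3

end Groth.Agent.S6358
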