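import Groth.Statements.S6343
import Groth.Agent.S6358

set_option autoImplicit false
universe u
open scoped TensorProduct
open CAlg

namespace Groth.Agent.S6343

open TensorProduct

/-- The tensor product of two finitely presented modules is finitely presented. -/
theorem fp_tensor (R : Type u) [CommRing R] (A B : Type u) [AddCommGroup A] [Module R A]
    [AddCommGroup B] [Module R B] [Module.FinitePresentation R A] [Module.FinitePresentation R B] :
    Module.FinitePresentation R (A ⊗[R] B) := by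
  obtain ⟨m, π₁, hπ₁⟩ := Module.Finite.exists_fin' R A
  obtain ⟨n, π₂, hπ₂⟩ := Module.Finite.exists_fin' R B
  have hK₁ : (LinearMap.ker π₁).FG := Module.FinitePresentation.fg_ker π₁ hπ₁
  have hK₂ : (LinearMap.ker π₂).FG := Module.FinitePresentation.fg_ker π₂ hπ₂
  have : Module.Finite R (LinearMap.ker π₁) := Module.Finite.iff_fg.mpr hK₁
  have : Module.Finite R (LinearMap.ker π₂) := Module.Finite.iff_fg.mpr hK₂
  refine Module.finitePresentation_of_free_of_surjective (TensorProduct.map π₁ π₂)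
    (TensorProduct.map_surjective hπ₁ hπ₂) ?_
  rw [TensorProduct.map_ker (LinearMap.exact_subtype_ker_map π₁) hπ₁
    (LinearMap.exact_subtype_ker_map π₂) hπ₂]
  refine Submodule.FG.sup ?_ ?_
  · rw [LinearMap.range_eq_map]
    exact Submodule.FG.map _ (Module.Finite.fg_top)
  · rw [LinearMap.range_eq_map]
    exact Submodule.FG.map _ (Module.Finite.fg_top)

section Dom

variable {R : Type u} [CommRing R]

/-- `a'` kills (after tensoring) whatever `a` kills. -/
def Dom {A M A' : Type u} [AddCommGroup A] [Module R A] [AddCommGroup M] [Module R M]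
    [AddCommGroup A'] [Module R A'] (a : A →ₗ[R] M) (a' : A →ₗ[R] A') : Prop :=
  ∀ (T : Type u) [AddCommGroup T] [Module R T],
    LinearMap.ker (a.rTensor T) ≤ LinearMap.ker (a'.rTensor T)

variable {A M A' : Type u} [AddCommGroup A] [Module R A] [AddCommGroup M] [Module R M]
    [AddCommGroup A'] [Module R A']

theorem Dom.precomp {a : A →ₗ[R] M} {a' : A →ₗ[R] A'} (h : Dom a a') {Z : Type u}
    [AddCommGroup Z] [Module R Z] (ψ : Z →ₗ[R] A) : Dom (a ∘ₗ ψ) (a' ∘ₗ ψ) := by
  intro T _ _ y hy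
  rw [LinearMap.mem_ker] at hy ⊢
  rw [LinearMap.rTensor_comp, LinearMap.comp_apply] at hy ⊢
  exact h T hy

theorem Dom.postcomp {a : A →ₗ[R] M} {a' : A →ₗ[R] A'} (h : Dom a a') {M₂ A'₂ : Type u}
    [AddCommGroup M₂] [Module R M₂] [AddCommGroup A'₂] [Module R A'₂]
    (e : M ≃ₗ[R] M₂) (e' : A' →ₗ[R] A'₂) : Dom (e.toLinearMap ∘ₗ a) (e' ∘ₗ a') := by
  intro T _ _ y hy
  rw [LinearMap.mem_ker] at hy ⊢
  rw [LinearMap.rTensor_comp, LinearMap.comp_apply] at hy ⊢
  have h1 : a.rTensor T y = 0 := by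
    have := congrArg (e.symm.toLinearMap.rTensor T) hy
    rw [← LinearMap.comp_apply, ← LinearMap.rTensor_comp, map_zero] at this
    simpa using this
  rw [LinearMap.mem_ker.mp (h T h1), map_zero]

theorem Dom.trans {A'' : Type u} [AddCommGroup A''] [Module R A''] {a : A →ₗ[R] M}
    {a' : A →ₗ[R] A'} {a'' : A →ₗ[R] A''} (h : Dom a a') (h' : Dom a' a'') : Dom a a'' :=
  fun T _ _ => (h T).trans (h' T)

theorem Dom.rTensor {a : A →ₗ[R] M} {a' : A →ₗ[R] A'} (h : Dom a a') (X : Type u)
    [AddCommGroup X] [Module R X] : Dom (a.rTensor X) (a'.rTensor X) := by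
  intro T _ _ y hy
  rw [LinearMap.mem_ker] at hy ⊢
  have h1 : a.rTensor (X ⊗[R] T) (TensorProduct.assoc R A X T y) = 0 := by
    rw [LinearMap.rTensor_tensor]
    simp [hy]
  have h2 := h (X ⊗[R] T) h1
  rw [LinearMap.mem_ker, LinearMap.rTensor_tensor] at h2
  simpa using h2

theorem Dom.lTensor {a : A →ₗ[R] M} {a' : A →ₗ[R] A'} (h : Dom a a') (X : Type u)
    [AddCommGroup X] [Module R X] : Dom (a.lTensor X) (a'.lTensor X) := by
  have e1 : a.lTensor X = (TensorProduct.comm R M X).toLinearMap ∘ₗ (a.rTensor X) ∘ₗ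
      (TensorProduct.comm R X A).toLinearMap := by
    ext x y; simp
  have e2 : a'.lTensor X = (TensorProduct.comm R A' X).toLinearMap ∘ₗ (a'.rTensor X) ∘ₗ
      (TensorProduct.comm R X A).toLinearMap := by
    ext x y; simp
  rw [e1, e2, ← LinearMap.comp_assoc, ← LinearMap.comp_assoc]
  exact ((h.rTensor X).postcomp _ _).precomp _

end Dom

/-- The tensor product of two Mittag-Leffler modules over a commutative ring is Mittag-Leffler. -/
theorem result (R : Type u) [CommRing R] (M N : Type u) [AddCommGroup M] [Module R M]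
    [AddCommGroup N] [Module R N] (hM : CAlg.IsMittagLeffler R M) (hN : CAlg.IsMittagLeffler R N) :
    CAlg.IsMittagLeffler R (M ⊗[R] N) := by
  classical
  rw [Groth.Agent.S6358.result R (M ⊗[R] N)]
  intro n f
  choose k m q hk using fun i : Fin n => TensorProduct.exists_sum_tmul_eq (f (Pi.single i 1))
  let I := Σ i : Fin n, Fin (k i)
  let a : (I → R) →ₗ[R] M := Fintype.linearCombination R (fun p : I => m p.1 p.2)
  let b : (I → R) →ₗ[R] N := Fintype.linearCombination R (fun p : I => q p.1 p.2)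
  let φ : (Fin n → R) →ₗ[R] (I → R) ⊗[R] (I → R) :=
    Fintype.linearCombination R (fun i => ∑ l : Fin (k i),
      (Pi.single (⟨i, l⟩ : I) (1 : R) : I → R) ⊗ₜ[R] (Pi.single (⟨i, l⟩ : I) (1 : R) : I → R))
  have hf : f = TensorProduct.map a b ∘ₗ φ := by
    refine LinearMap.pi_ext' (fun i => ?_)
    ext
    simp only [LinearMap.coe_comp, LinearMap.coe_single, Function.comp_apply, φ,
      Fintype.linearCombination_apply_single, one_smul, map_sum, TensorProduct.map_tmul]
    rw [hk i]
    refine Finset.sum_congr rfl (fun l _ => ?_)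
    simp [a, b, Fintype.linearCombination_apply_single]
  obtain ⟨ja, hja⟩ := Groth.Agent.S6356.dominated_of_ml M hM (I → R) a
  obtain ⟨jb, hjb⟩ := Groth.Agent.S6356.dominated_of_ml N hN (I → R) b
  have hA₁ : Module.FinitePresentation R ((Fin ja.n → R) ⧸ ja.K) :=
    Module.finitePresentation_of_free_of_surjective ja.K.mkQ ja.K.mkQ_surjective
      (by rw [Submodule.ker_mkQ]; exact ja.hK)
  have hB₁ : Module.FinitePresentation R ((Fin jb.n → R) ⧸ jb.K) :=
    Module.finitePresentation_of_free_of_surjective jb.K.mkQ jb.K.mkQ_surjective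
      (by rw [Submodule.ker_mkQ]; exact jb.hK)
  have hQ := fp_tensor R ((Fin ja.n → R) ⧸ ja.K) ((Fin jb.n → R) ⧸ jb.K)
  refine ⟨((Fin ja.n → R) ⧸ ja.K) ⊗[R] ((Fin jb.n → R) ⧸ jb.K), inferInstance, inferInstance,
    hQ, TensorProduct.map ja.g jb.g ∘ₗ φ, ?_⟩
  have d1 : Dom a ja.g := hja
  have d2 : Dom b jb.g := hjb
  have d3 : Dom (TensorProduct.map a b) (TensorProduct.map ja.g jb.g) := by
    have s1 := (d1.rTensor N).precomp (b.lTensor (I → R))
    have s3 := (d2.lTensor ((Fin ja.n → R) ⧸ ja.K)).precomp (ja.g.rTensor (I → R))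
    rw [LinearMap.rTensor_comp_lTensor, LinearMap.rTensor_comp_lTensor] at s1
    rw [LinearMap.lTensor_comp_rTensor, LinearMap.lTensor_comp_rTensor] at s3
    exact s1.trans s3
  intro T _ _
  refine le_antisymm ?_ ?_
  · rw [hf]
    exact d3.precomp φ T
  · intro y hy
    rw [LinearMap.mem_ker] at hy ⊢
    have h2 : f = TensorProduct.map ja.h jb.h ∘ₗ (TensorProduct.map ja.g jb.g ∘ₗ φ) := by
      rw [← LinearMap.comp_assoc, ← TensorProduct.map_comp, ja.comm, jb.comm]
      exact hf
    rw [h2, LinearMap.rTensor_comp, LinearMap.comp_apply, hy, map_zero]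

end Groth.Agent.S6343
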