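import Groth.Statements.S6345
import Groth.Agent.S6344

set_option autoImplicit false
universe u
open CAlg

namespace Groth.Agent.S6345
open scoped TensorProduct

/-- Let I be a finitely generated ideal of a commutative ring R and M an R/I-module. Then M is
Mittag-Leffler over R if and only if it is Mittag-Leffler over R/I. -/
theorem result (R : Type u) [CommRing R] (I : Ideal R) (hI : I.FG)
    (M : Type u) [AddCommGroup M] [Module (R ⧸ I) M] [Module R M] [IsScalarTower R (R ⧸ I) M] :
    CAlg.IsMittagLeffler R M ↔ CAlg.IsMittagLeffler (R ⧸ I) M := by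
  constructor
  · intro hM ι Q _ _
    letI : ∀ i, Module R (Q i) := fun i => Module.compHom (Q i) (Ideal.Quotient.mk I)
    haveI : ∀ i, IsScalarTower R (R ⧸ I) (Q i) := fun i => ⟨fun r s q => by
      change (r • s) • q = (Ideal.Quotient.mk I r) • (s • q)
      rw [Algebra.smul_def, mul_smul]; rfl⟩
    have hsurj : Function.Surjective (algebraMap R (R ⧸ I)) := Ideal.Quotient.mk_surjective
    haveI : ∀ i, TensorProduct.CompatibleSMul R (R ⧸ I) M (Q i) :=
      fun i => .of_algebraMap_surjective _ _ hsurj
    haveI : TensorProduct.CompatibleSMul R (R ⧸ I) M (∀ i, Q i) :=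
      .of_algebraMap_surjective _ _ hsurj
    let E := TensorProduct.equivOfCompatibleSMul R (R ⧸ I) (R ⧸ I) M (∀ i, Q i)
    let E' := fun i => TensorProduct.equivOfCompatibleSMul R (R ⧸ I) (R ⧸ I) M (Q i)
    have key : ∀ y i, E' i (TensorProduct.piRightHom (R ⧸ I) (R ⧸ I) M Q y i)
        = TensorProduct.piRightHom R R M Q (E y) i := by
      intro y i
      induction y using TensorProduct.induction_on with
      | zero => simp
      | tmul m q => rfl
      | add a b ha hb => simp only [map_add, Pi.add_apply, ha, hb]
    rw [injective_iff_map_eq_zero]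
    intro y hy
    have h1 : TensorProduct.piRightHom R R M Q (E y) = 0 := by
      funext i
      rw [← key, hy]; simp
    have h2 := hM ι Q (h1.trans (map_zero _).symm)
    exact E.injective (h2.trans (map_zero E).symm)
  · intro hM
    haveI : Algebra.FinitePresentation R (R ⧸ I) := Algebra.FinitePresentation.quotient hI
    haveI : Module.FinitePresentation R (R ⧸ I) :=
      Module.FinitePresentation.of_finite_of_finitePresentation R (R ⧸ I)
    exact Groth.Agent.S6344.core R (R ⧸ I) M hM

end Groth.Agent.S6345
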