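import Groth.Statements.S6346
import Groth.Agent.S6358

set_option autoImplicit false
universe u
open scoped TensorProduct
open CAlg

namespace Groth.Agent.S6346

open TensorProduct

theorem piRightHom_comm {R : Type u} [CommRing R] (M : Type u) [AddCommGroup M] [Module R M]
    {ι : Type u} (Q : ι → Type u) [∀ i, AddCommGroup (Q i)] [∀ i, Module R (Q i)]
    (z : (∀ i, Q i) ⊗[R] M) (α : ι) :
    TensorProduct.piRightHom R R M Q (TensorProduct.comm R (∀ i, Q i) M z) α =
      TensorProduct.comm R (Q α) M ((LinearMap.proj α : (∀ i, Q i) →ₗ[R] Q α).rTensor M z) := by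
  induction z using TensorProduct.induction_on with
  | zero => simp
  | tmul q m => simp [TensorProduct.piRightHom_tmul]
  | add a b ha hb => simp only [map_add, Pi.add_apply, ha, hb]

theorem fwd (R : Type u) [CommRing R] (M : Type u) [AddCommGroup M] [Module R M]
    [Module.Flat R M] (hML : CAlg.IsMittagLeffler R M) (n : ℕ) (x : (Fin n → R) ⊗[R] M) :
    ∃ F' : Submodule R (Fin n → R),
      x ∈ LinearMap.range (F'.subtype.rTensor M) ∧
      ∀ F'' : Submodule R (Fin n → R), x ∈ LinearMap.range (F''.subtype.rTensor M) → F' ≤ F'' := by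
  classical
  let 𝓕 : Set (Submodule R (Fin n → R)) := {F'' | x ∈ LinearMap.range (F''.subtype.rTensor M)}
  let F' : Submodule R (Fin n → R) := sInf 𝓕
  refine ⟨F', ?_, fun F'' h => sInf_le h⟩
  let Q : 𝓕 → Type u := fun α => (Fin n → R) ⧸ α.1
  let Φ : (Fin n → R) →ₗ[R] (∀ α : 𝓕, Q α) := LinearMap.pi (fun α => α.1.mkQ)
  have hex : Function.Exact F'.subtype Φ := by
    intro v
    constructor
    · intro hv
      refine ⟨⟨v, ?_⟩, rfl⟩
      rw [Submodule.mem_sInf]
      intro α hα
      have := congrFun hv ⟨α, hα⟩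
      exact (Submodule.Quotient.mk_eq_zero α).mp this
    · rintro ⟨w, rfl⟩
      funext α
      exact (Submodule.Quotient.mk_eq_zero α.1).mpr ((Submodule.mem_sInf.mp w.2) α.1 α.2)
  have hex' := Module.Flat.rTensor_exact M hex
  apply (hex' x).mp
  apply (TensorProduct.comm R _ M).injective
  apply hML 𝓕 Q
  rw [map_zero, map_zero]
  funext α
  rw [piRightHom_comm, ← LinearMap.comp_apply, ← LinearMap.rTensor_comp]
  have h1 : (LinearMap.proj α : (∀ α : 𝓕, Q α) →ₗ[R] Q α) ∘ₗ Φ = α.1.mkQ := by
    ext v; simp [Φ]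
  rw [h1]
  obtain ⟨w, hw⟩ := α.2
  rw [← hw, ← LinearMap.comp_apply, ← LinearMap.rTensor_comp]
  have h2 : α.1.mkQ ∘ₗ α.1.subtype = 0 := by
    ext v
    simp
  rw [h2, LinearMap.rTensor_zero]
  simp

theorem ext_comp {R : Type u} [CommRing R] {n : ℕ} {X : Type u} [AddCommGroup X] [Module R X]
    {z z' : (Fin n → R) ⊗[R] X}
    (h : ∀ i, Groth.Agent.S6356.comp X i z = Groth.Agent.S6356.comp X i z') : z = z' := by
  rw [Groth.Agent.S6356.eq_sum z, Groth.Agent.S6356.eq_sum z']
  exact Finset.sum_congr rfl (fun i _ => by rw [h i])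

theorem bwd (R : Type u) [CommRing R] (M : Type u) [AddCommGroup M] [Module R M]
    [Module.Flat R M]
    (H : ∀ (n : ℕ) (x : (Fin n → R) ⊗[R] M), ∃ F' : Submodule R (Fin n → R),
      x ∈ LinearMap.range (F'.subtype.rTensor M) ∧
      ∀ F'' : Submodule R (Fin n → R), x ∈ LinearMap.range (F''.subtype.rTensor M) → F' ≤ F'') :
    CAlg.IsMittagLeffler R M := by
  classical
  rw [Groth.Agent.S6358.result R M]
  intro n f
  let e : Fin n → (Fin n → R) := fun i => Pi.single i 1
  let x : (Fin n → R) ⊗[R] M := ∑ i, e i ⊗ₜ[R] f (e i)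
  have hcx : ∀ i, Groth.Agent.S6356.comp M i x = f (e i) := by
    intro i
    simp only [x, map_sum, Groth.Agent.S6356.comp_tmul]
    rw [Finset.sum_eq_single i]
    · simp [e]
    · intro i' _ hi'
      simp [e, hi'.symm]
    · intro h; exact absurd (Finset.mem_univ i) h
  obtain ⟨F', hxF', hmin⟩ := H n x
  obtain ⟨w, hw⟩ := hxF'
  obtain ⟨m, a, u, rfl⟩ := TensorProduct.exists_sum_tmul_eq w
  have hx : x = ∑ j, (a j : Fin n → R) ⊗ₜ[R] u j := by
    rw [← hw]; simp
  have hfe : ∀ i, f (e i) = ∑ j, (a j : Fin n → R) i • u j := by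
    intro i
    rw [← hcx i, hx]
    simp only [map_sum, Groth.Agent.S6356.comp_tmul]
  let A : (Fin n → R) →ₗ[R] (Fin m → R) :=
    LinearMap.pi (fun j => Fintype.linearCombination R (fun i => (a j : Fin n → R) i))
  let U : (Fin m → R) →ₗ[R] M := Fintype.linearCombination R u
  have hA : ∀ i j, A (e i) j = (a j : Fin n → R) i := by
    intro i j
    simp [A, e, Fintype.linearCombination_apply_single]
  have hUA : U ∘ₗ A = f := by
    refine LinearMap.pi_ext' (fun i => ?_)
    ext
    simp only [LinearMap.coe_comp, LinearMap.coe_single, Function.comp_apply]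
    change U (A (e i)) = f (e i)
    rw [hfe i]
    simp only [U, Fintype.linearCombination_apply, hA]
  refine ⟨Fin m → R, inferInstance, inferInstance, inferInstance, A, ?_⟩
  intro T _ _
  refine le_antisymm ?_ ?_
  · intro y hy
    rw [LinearMap.mem_ker] at hy ⊢
    let t : Fin n → T := fun i => Groth.Agent.S6356.comp T i y
    have hy_eq : y = ∑ i, e i ⊗ₜ[R] t i := Groth.Agent.S6356.eq_sum y
    have h1 : ∑ i, t i ⊗ₜ[R] f (e i) = (0 : T ⊗[R] M) := by
      have := congrArg (TensorProduct.comm R M T) hy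
      rw [hy_eq] at this
      simpa using this
    have hinj : Function.Injective ((Submodule.span R (Set.range t)).subtype.rTensor M) :=
      Module.Flat.rTensor_preserves_injective_linearMap _ (Submodule.injective_subtype _)
    obtain ⟨k, c, m', hc1, hc2⟩ :=
      TensorProduct.vanishesTrivially_of_sum_tmul_eq_zero_of_rTensor_injective R hinj h1
    let bl : Fin k → (Fin n → R) := fun l i => c i l
    let FB : Submodule R (Fin n → R) := Submodule.span R (Set.range bl)
    have hxFB : x ∈ LinearMap.range (FB.subtype.rTensor M) := by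
      refine ⟨∑ l, (⟨bl l, Submodule.subset_span ⟨l, rfl⟩⟩ : FB) ⊗ₜ[R] m' l, ?_⟩
      apply ext_comp
      intro i
      rw [hcx i]
      simp only [map_sum, LinearMap.rTensor_tmul, Submodule.coe_subtype,
        Groth.Agent.S6356.comp_tmul]
      exact (hc1 i).symm
    have hle := hmin FB hxFB
    have hd' : ∀ j, ∃ d : Fin k → R, ∑ l, d l • bl l = (a j : Fin n → R) :=
      fun j => (Submodule.mem_span_range_iff_exists_fun R).mp (hle (a j).2)
    choose d hd using hd'
    apply ext_comp
    intro j
    rw [map_zero, hy_eq]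
    simp only [map_sum, LinearMap.rTensor_tmul, Groth.Agent.S6356.comp_tmul, hA]
    have haj : ∀ i, (a j : Fin n → R) i = ∑ l, d j l * c i l := by
      intro i
      rw [← hd j]
      simp [bl]
    simp only [haj, Finset.sum_smul, mul_smul]
    rw [Finset.sum_comm]
    refine Finset.sum_eq_zero (fun l _ => ?_)
    rw [← Finset.smul_sum, hc2 l, smul_zero]
  · intro y hy
    rw [LinearMap.mem_ker] at hy ⊢
    rw [← hUA, LinearMap.rTensor_comp, LinearMap.comp_apply, hy, map_zero]

/-- Let M be a flat module over a commutative ring R. Then M is Mittag-Leffler exactly when, for each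
finite free module F = R^n and each element x of F ⊗ M there is a smallest submodule F' of F such
that x lies in the image of F' ⊗ M → F ⊗ M. -/
theorem result (R : Type u) [CommRing R] (M : Type u)
    [AddCommGroup M] [Module R M] [Module.Flat R M] :
    CAlg.IsMittagLeffler R M ↔
      ∀ (n : ℕ) (x : (Fin n → R) ⊗[R] M), ∃ F' : Submodule R (Fin n → R),
        x ∈ LinearMap.range (F'.subtype.rTensor M) ∧
        ∀ F'' : Submodule R (Fin n → R), x ∈ LinearMap.range (F''.subtype.rTensor M) → F' ≤ F'' := by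
  exact ⟨fun h n x => fwd R M h n x, fun H => bwd R M H⟩

end Groth.Agent.S6346
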