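import Groth.Statements.S6347
import Groth.Agent.S6344

set_option autoImplicit false
universe u
open CAlg

namespace Groth.Agent.S6347

open scoped TensorProduct

theorem K' (R : Type u) [CommRing R] [IsNoetherianRing R] (A : Type u) (P : Type u)
    [AddCommGroup P] [Module R P] :
    Function.Injective (TensorProduct.piRightHom R R P (fun _ : A => R)) := by
  rw [injective_iff_map_eq_zero]
  intro x hx
  obtain ⟨J, hJ, y, rfl⟩ := Submodule.exists_fg_le_eq_rTensor_subtype x
  have : Module.Finite R J := Module.Finite.iff_fg.mpr hJ
  have : Module.FinitePresentation R J := Module.finitePresentation_of_finite R J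
  have hy : TensorProduct.piRightHom R R J (fun _ : A => R) y = 0 := by
    funext a
    have h1 := congrFun hx a
    rw [Groth.Agent.S6340.piRightHom_natural] at h1
    exact Module.Flat.rTensor_preserves_injective_linearMap (M := R) J.subtype
      J.subtype_injective (h1.trans (map_zero _).symm)
  have := Groth.Agent.S6344.ml_of_fp R J A (fun _ => R) (hy.trans (map_zero _).symm)
  rw [this, map_zero]

theorem flat_pi (R : Type u) [CommRing R] [IsNoetherianRing R] (A : Type u) :
    Module.Flat R (A → R) := by
  rw [Module.Flat.iff_rTensor_injective']
  intro I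
  rw [injective_iff_map_eq_zero]
  intro y hy
  have h1 : TensorProduct.piRightHom R R I (fun _ : A => R) y = 0 := by
    funext a
    have h2 := congrFun (congrArg (TensorProduct.piRightHom R R R (fun _ : A => R)) hy) a
    rw [map_zero, Groth.Agent.S6340.piRightHom_natural] at h2
    exact Module.Flat.rTensor_preserves_injective_linearMap (M := R) I.subtype
      I.subtype_injective (h2.trans (map_zero _).symm)
  exact K' R A I (h1.trans (map_zero _).symm)

theorem ml_pi (R : Type u) [CommRing R] [IsNoetherianRing R] (A : Type u) :
    CAlg.IsMittagLeffler R (A → R) := by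
  intro κ Q _ _
  rw [injective_iff_map_eq_zero]
  intro t ht
  have key : ∀ (t : (A → R) ⊗[R] (∀ k, Q k)) (a : A) (k : κ),
      (TensorProduct.rid R (∀ k, Q k) (TensorProduct.piRightHom R R (∀ k, Q k) (fun _ : A => R)
        (TensorProduct.comm R _ _ t) a)) k
      = TensorProduct.rid R (Q k) (TensorProduct.piRightHom R R (Q k) (fun _ : A => R)
        (TensorProduct.comm R _ _ (TensorProduct.piRightHom R R (A → R) Q t k)) a) := by
    intro t a k
    induction t using TensorProduct.induction_on with
    | zero => simp
    | tmul r q => simp [TensorProduct.piRightHom_tmul]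
    | add x y hx hy => simp only [map_add, Pi.add_apply, hx, hy]
  have h1 : TensorProduct.piRightHom R R (∀ k, Q k) (fun _ : A => R)
      (TensorProduct.comm R _ _ t) = 0 := by
    funext a
    apply (TensorProduct.rid R (∀ k, Q k)).injective
    funext k
    rw [key, ht]
    simp
  have h2 := K' R A (∀ k, Q k) (h1.trans (map_zero _).symm)
  exact (TensorProduct.comm R _ _).injective (h2.trans (map_zero _).symm)

/-- Over a Noetherian ring R, the product module R^A (functions from any set A to R) is flat and
Mittag-Leffler. -/
theorem result (R : Type u) [CommRing R] [IsNoetherianRing R]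
    (A : Type u) : Module.Flat R (A → R) ∧ CAlg.IsMittagLeffler R (A → R) := by
  exact ⟨flat_pi R A, ml_pi R A⟩

end Groth.Agent.S6347
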