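import Groth.Statements.S6348
import Mathlib

set_option autoImplicit false
universe u
open scoped TensorProduct
open CAlg

namespace Groth.Agent.S6348

open TensorProduct

/-- the comparison `(S ⊗ M) ⊗[S] P ≃ M ⊗[R] P` as an additive equivalence -/
noncomputable def phi (R S : Type u) [CommRing R] [CommRing S] [Algebra R S] (M : Type u)
    [AddCommGroup M] [Module R M] (P : Type u) [AddCommGroup P] [Module S P] [Module R P]
    [IsScalarTower R S P] : (S ⊗[R] M) ⊗[S] P ≃+ M ⊗[R] P :=
  ((TensorProduct.comm S (S ⊗[R] M) P).toAddEquiv.trans
    (TensorProduct.AlgebraTensorModule.cancelBaseChange R S S P M).toAddEquiv).trans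
    (TensorProduct.comm R P M).toAddEquiv

theorem phi_tmul (R S : Type u) [CommRing R] [CommRing S] [Algebra R S] (M : Type u)
    [AddCommGroup M] [Module R M] (P : Type u) [AddCommGroup P] [Module S P] [Module R P]
    [IsScalarTower R S P] (s : S) (m : M) (p : P) :
    phi R S M P ((s ⊗ₜ[R] m) ⊗ₜ[S] p) = m ⊗ₜ[R] (s • p) := by
  simp [phi]

theorem aux (R S : Type u) [CommRing R] [CommRing S] [Algebra R S] (M : Type u)
    [AddCommGroup M] [Module R M] (hM : CAlg.IsMittagLeffler R M) :
    CAlg.IsMittagLeffler S (S ⊗[R] M) := by
  intro ι Q _ _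
  letI : ∀ i, Module R (Q i) := fun i => Module.compHom (Q i) (algebraMap R S)
  haveI : ∀ i, IsScalarTower R S (Q i) := fun i =>
    IsScalarTower.of_algebraMap_smul (fun r x => rfl)
  have hsq : ∀ x : (S ⊗[R] M) ⊗[S] (∀ i, Q i), ∀ i,
      phi R S M (Q i) (TensorProduct.piRightHom S S (S ⊗[R] M) Q x i) =
      TensorProduct.piRightHom R R M Q (phi R S M (∀ i, Q i) x) i := by
    intro x i
    induction x using TensorProduct.induction_on with
    | zero => simp
    | add a b ha hb => simp only [map_add, Pi.add_apply, ha, hb]
    | tmul y q =>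
      induction y using TensorProduct.induction_on with
      | zero => simp
      | add a b ha hb => simp only [TensorProduct.add_tmul, map_add, Pi.add_apply, ha, hb]
      | tmul s m =>
        rw [phi_tmul]
        simp only [TensorProduct.piRightHom_tmul, phi_tmul, Pi.smul_apply]
  rw [injective_iff_map_eq_zero]
  intro x hx
  apply (phi R S M (∀ i, Q i)).injective
  rw [map_zero]
  apply hM ι Q
  rw [map_zero]
  ext i
  rw [← hsq, hx]
  simp

/-- For a ring map R → S and a Mittag-Leffler R-module M, the S-module S ⊗_R M is Mittag-Leffler. (The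
companion parts on flat modules, projective modules and direct sums of countably generated modules
are standard base-change facts.) -/
theorem result (R S : Type u) [CommRing R] [CommRing S] [Algebra R S] (M : Type u)
    [AddCommGroup M] [Module R M] (hM : CAlg.IsMittagLeffler R M) :
    CAlg.IsMittagLeffler S (S ⊗[R] M) := by
  exact aux R S M hM

end Groth.Agent.S6348
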