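import Mathlib
import Groth.Statements.S6351

set_option autoImplicit false
universe u
open scoped TensorProduct
open CAlg

namespace Groth.Agent.S6351

section Aux
variable {R : Type u} [CommRing R] (I : Ideal R) {M : Type u} [AddCommGroup M] [Module R M]

/-- Nakayama for nilpotent ideals, spanning form -/
lemma eq_top_of_sup_smul (hI : IsNilpotent I) (N : Submodule R M)
    (h : N ⊔ I • (⊤ : Submodule R M) = ⊤) : N = ⊤ := by
  obtain ⟨n, hn⟩ := hI
  have key : ∀ k : ℕ, N ⊔ (I ^ k) • (⊤ : Submodule R M) = ⊤ := by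
    intro k
    induction k with
    | zero => simp
    | succ k ih =>
      refine eq_top_iff.2 ?_
      refine le_of_eq_of_le h.symm ?_
      refine sup_le le_sup_left ?_
      calc I • (⊤ : Submodule R M) = I • (N ⊔ (I ^ k) • (⊤ : Submodule R M)) := by rw [ih]
        _ = I • N ⊔ I • ((I ^ k) • (⊤ : Submodule R M)) := Submodule.smul_sup _ _ _
        _ ≤ N ⊔ (I ^ (k + 1)) • (⊤ : Submodule R M) := by
          refine sup_le_sup Submodule.smul_le_right ?_
          rw [← Submodule.mul_smul, pow_succ']
  have := key n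
  rw [hn] at this
  simpa using this

/-- Nakayama for nilpotent ideals, vanishing form -/
lemma eq_bot_of_le_smul (hI : IsNilpotent I) (K : Submodule R M) (h : K ≤ I • K) : K = ⊥ := by
  obtain ⟨n, hn⟩ := hI
  have key : ∀ k : ℕ, K ≤ (I ^ k) • K := by
    intro k
    induction k with
    | zero => simp
    | succ k ih =>
      calc K ≤ I • K := h
        _ ≤ I • ((I ^ k) • K) := Submodule.smul_mono le_rfl ih
        _ = (I ^ (k + 1)) • K := by rw [← Submodule.mul_smul, pow_succ']
  have := key n
  rw [hn] at this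
  simpa using this

end Aux

/-- Let I be a nilpotent ideal of a commutative ring R and M an R-module with Tor_1^R(R/I, M) = 0, i.e.
I ⊗_R M → M injective. If a family of elements of M maps to a basis of the R/I-module M/IM = R/I ⊗
M, then it is a basis of M over R. -/
theorem result (R : Type u) [CommRing R] (I : Ideal R)
    (hI : IsNilpotent I) (M : Type u) [AddCommGroup M] [Module R M]
    (htor : Function.Injective ((Submodule.subtype I).rTensor M)) {A : Type u} (x : A → M)
    (hli : LinearIndependent (R ⧸ I) (fun a => (1 : R ⧸ I) ⊗ₜ[R] x a))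
    (hsp : Submodule.span (R ⧸ I) (Set.range fun a => (1 : R ⧸ I) ⊗ₜ[R] x a) = ⊤) :
    LinearIndependent R x ∧ Submodule.span R (Set.range x) = ⊤ := by
  classical
  -- Part 1: span
  have hker1 : ∀ m : M, (1 : R ⧸ I) ⊗ₜ[R] m = 0 → m ∈ I • (⊤ : Submodule R M) := by
    intro m hm
    have := congrArg (TensorProduct.quotTensorEquivQuotSMul M I) hm
    rw [TensorProduct.quotTensorEquivQuotSMul_mk_one_tmul, map_zero,
      Submodule.Quotient.mk_eq_zero] at this
    exact this
  have hspan : Submodule.span R (Set.range x) = ⊤ := by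
    apply eq_top_of_sup_smul I hI
    rw [eq_top_iff]
    intro m _
    let q : M →ₗ[R] (R ⧸ I) ⊗[R] M := TensorProduct.mk R (R ⧸ I) M 1
    have hm : q m ∈ (Submodule.span (R ⧸ I)
        (Set.range fun a => (1 : R ⧸ I) ⊗ₜ[R] x a)).restrictScalars R := by
      rw [hsp]; trivial
    rw [Submodule.restrictScalars_span R (R ⧸ I) Ideal.Quotient.mk_surjective] at hm
    have hr : (Set.range fun a => (1 : R ⧸ I) ⊗ₜ[R] x a) = q '' (Set.range x) := by
      ext t; constructor
      · rintro ⟨a, rfl⟩; exact ⟨x a, ⟨a, rfl⟩, rfl⟩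
      · rintro ⟨_, ⟨a, rfl⟩, rfl⟩; exact ⟨a, rfl⟩
    rw [hr, ← Submodule.map_span] at hm
    obtain ⟨n, hn, hnm⟩ := hm
    have h0 : (1 : R ⧸ I) ⊗ₜ[R] (m - n) = 0 := by
      have : q (m - n) = 0 := by rw [map_sub, hnm, sub_self]
      exact this
    have := hker1 _ h0
    have hmn : m = n + (m - n) := by abel
    rw [hmn]
    exact Submodule.add_mem_sup hn this
  refine ⟨?_, hspan⟩
  -- Part 2: linear independence
  rw [linearIndependent_iff_ker]
  set φ : (A →₀ R) →ₗ[R] M := Finsupp.linearCombination R x with hφ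
  apply eq_bot_of_le_smul I hI
  intro k hk
  rw [LinearMap.mem_ker] at hk
  -- (a) coefficients lie in I
  have hcoef : ∀ a, k a ∈ I := by
    have hl := (linearIndependent_iff.1 hli) (k.mapRange (Ideal.Quotient.mk I) (map_zero _)) (by
      rw [Finsupp.linearCombination_apply, Finsupp.sum_mapRange_index (by intro a; simp)]
      have : (1 : R ⧸ I) ⊗ₜ[R] φ k = 0 := by rw [hk, TensorProduct.tmul_zero]
      rw [← this, hφ, Finsupp.linearCombination_apply, Finsupp.sum, Finsupp.sum,
        TensorProduct.tmul_sum]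
      refine Finset.sum_congr rfl (fun a _ => ?_)
      rw [TensorProduct.smul_tmul', TensorProduct.tmul_smul, ← TensorProduct.smul_tmul',
        TensorProduct.smul_tmul', smul_eq_mul, mul_one, ← Ideal.Quotient.algebraMap_eq,
        Algebra.algebraMap_eq_smul_one, TensorProduct.smul_tmul'])
    intro a
    have := DFunLike.congr_fun hl a
    rw [Finsupp.mapRange_apply, Finsupp.zero_apply, Ideal.Quotient.eq_zero_iff_mem] at this
    exact this
  -- (b), (c)
  have hφsurj : Function.Surjective φ := by
    rw [← LinearMap.range_eq_top, hφ, Finsupp.range_linearCombination, hspan]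
  have hex : Function.Exact (LinearMap.ker φ).subtype φ := LinearMap.exact_subtype_ker_map φ
  let t' : ↥I ⊗[R] (A →₀ R) := k.support.sum fun a => (⟨k a, hcoef a⟩ : ↥I) ⊗ₜ[R] Finsupp.single a 1
  have ht' : (LinearMap.lTensor ↥I φ) t' = 0 := by
    apply htor
    rw [map_zero]
    simp only [t', map_sum, LinearMap.lTensor_tmul, LinearMap.rTensor_tmul, Submodule.subtype_apply,
      hφ, Finsupp.linearCombination_single, one_smul]
    have : ∀ a ∈ k.support, (k a ⊗ₜ[R] x a : R ⊗[R] M) = (1 : R) ⊗ₜ[R] (k a • x a) := by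
      intro a _
      rw [TensorProduct.tmul_smul, TensorProduct.smul_tmul', smul_eq_mul, mul_one]
    rw [Finset.sum_congr rfl this, ← TensorProduct.tmul_sum]
    have h2 : k.support.sum (fun a => k a • x a) = φ k := by
      rw [hφ, Finsupp.linearCombination_apply, Finsupp.sum]
    rw [h2, hk, TensorProduct.tmul_zero]
  obtain ⟨u, hu⟩ := (@lTensor_exact R (↥(LinearMap.ker φ)) (A →₀ R) M _ _ _ _ _ _ _ (LinearMap.ker φ).subtype φ ↥I _ _ hex hφsurj t').1 ht'
  -- multiplication map
  let μ : ↥I ⊗[R] (A →₀ R) →ₗ[R] (A →₀ R) :=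
    (TensorProduct.lid R (A →₀ R)).toLinearMap ∘ₗ (LinearMap.rTensor (A →₀ R) I.subtype)
  have hμ : ∀ v : ↥I ⊗[R] ↥(LinearMap.ker φ),
      μ (LinearMap.lTensor ↥I (LinearMap.ker φ).subtype v) ∈ I • LinearMap.ker φ := by
    intro v
    induction v using TensorProduct.induction_on with
    | zero => simp
    | tmul i κ =>
      simp only [μ, LinearMap.lTensor_tmul, LinearMap.coe_comp, Function.comp_apply,
        LinearMap.rTensor_tmul, Submodule.subtype_apply, LinearEquiv.coe_coe, TensorProduct.lid_tmul]
      exact Submodule.smul_mem_smul i.2 κ.2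
    | add v w hv hw =>
      rw [map_add, map_add]
      exact add_mem hv hw
  have hkμ : μ t' = k := by
    simp only [t', map_sum, μ, LinearMap.coe_comp, Function.comp_apply,
      LinearMap.rTensor_tmul, Submodule.subtype_apply, LinearEquiv.coe_coe, TensorProduct.lid_tmul]
    conv_rhs => rw [← Finsupp.sum_single k]
    rw [Finsupp.sum]
    refine Finset.sum_congr rfl (fun a _ => ?_)
    rw [Finsupp.smul_single, smul_eq_mul, mul_one]
  rw [← hkμ, ← hu]
  exact hμ u

end Groth.Agent.S6351
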