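import Groth.Statements.S6353
import Mathlib

set_option autoImplicit false
universe u
open CAlg

namespace Groth.Agent.S6353

open PrimeSpectrum

theorem part_a {R : Type u} [CommRing R] (I : Ideal R) (hI : I.Pure) :
    StableUnderGeneralization (zeroLocus (I : Set R)) := by
  intro x y hyx hx
  have hle : y.asIdeal ≤ x.asIdeal := (PrimeSpectrum.asIdeal_le_asIdeal y x).mpr
    ((PrimeSpectrum.le_iff_specializes y x).mpr hyx)
  rw [mem_zeroLocus] at hx ⊢
  intro z hz
  obtain ⟨w, hw, hzw⟩ := Ideal.exists_eq_mul_of_pure (I := I) hz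
  have h0 : z * (1 - w) = 0 := by rw [mul_sub, mul_one, ← hzw, sub_self]
  have h1 : z * (1 - w) ∈ y.asIdeal := h0 ▸ y.asIdeal.zero_mem
  rcases y.2.mem_or_mem h1 with h | h
  · exact h
  · exfalso
    have h2 : 1 - w ∈ x.asIdeal := hle h
    have h3 : w ∈ x.asIdeal := hx hw
    exact x.2.ne_top ((Ideal.eq_top_iff_one _).mpr (by simpa using add_mem h2 h3))

/-- The ideal `{x | x ∈ x J}`. -/
def II {R : Type u} [CommRing R] (J : Ideal R) : Ideal R where
  carrier := {x | ∃ b ∈ J, x * b = x}
  zero_mem' := ⟨0, J.zero_mem, by simp⟩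
  add_mem' := by
    rintro x y ⟨a, ha, hxa⟩ ⟨b, hb, hyb⟩
    refine ⟨a + b - a * b, J.sub_mem (J.add_mem ha hb) (J.mul_mem_left _ hb), ?_⟩
    calc (x + y) * (a + b - a * b)
        = x * a + (x * b - (x * a) * b) + (y * b) + (y * a - (y * b) * a) := by ring
      _ = x + y := by rw [hxa, hyb]; ring
  smul_mem' := by
    rintro r x ⟨a, ha, hxa⟩
    refine ⟨a, ha, ?_⟩
    rw [smul_eq_mul, mul_assoc, hxa]

theorem part_b {R : Type u} [CommRing R] (Z : Set (PrimeSpectrum R)) (hZ : IsClosed Z)
    (hgen : StableUnderGeneralization Z) :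
    ∃ I : Ideal R, I.Pure ∧ zeroLocus (I : Set R) = Z := by
  obtain ⟨J, rfl⟩ := (isClosed_iff_zeroLocus_ideal Z).mp hZ
  -- maximal ideals containing J lie in Z, and so do all primes below them
  have hmax : ∀ q : PrimeSpectrum R, q.asIdeal ⊔ J ≠ ⊤ → J ≤ q.asIdeal := by
    intro q hq
    obtain ⟨m, hm, hle⟩ := Ideal.exists_le_maximal _ hq
    let mm : PrimeSpectrum R := ⟨m, hm.isPrime⟩
    have hmZ : mm ∈ zeroLocus (J : Set R) := by
      rw [mem_zeroLocus]; exact fun x hx => hle (Submodule.mem_sup_right hx)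
    have hqm : q ⤳ mm := (PrimeSpectrum.le_iff_specializes q mm).mp
      ((PrimeSpectrum.asIdeal_le_asIdeal q mm).mp (le_sup_left.trans hle))
    have := hgen hqm hmZ
    rwa [mem_zeroLocus] at this
  have hIJ : II J ≤ J := by
    rintro x ⟨b, hb, hxb⟩
    rw [← hxb]; exact J.mul_mem_left _ hb
  have hV : zeroLocus ((II J : Ideal R) : Set R) = zeroLocus (J : Set R) := by
    apply Set.Subset.antisymm
    · intro p hp
      by_contra hpJ
      rw [mem_zeroLocus] at hp hpJ
      have hpJ' : ¬ J ≤ p.asIdeal := hpJ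
      have htop : p.asIdeal ⊔ J = ⊤ := by
        by_contra h; exact hpJ' (hmax p h)
      obtain ⟨π, hπ, a, ha, hsum⟩ := Submodule.mem_sup.mp ((Ideal.eq_top_iff_one _).mp htop)
      have hap : a ∉ p.asIdeal := by
        intro h
        exact p.2.ne_top ((Ideal.eq_top_iff_one _).mpr (hsum ▸ add_mem hπ h))
      -- the multiplicative set a^n (1 + b)
      let S : Submonoid R :=
        { carrier := {s | ∃ n : ℕ, ∃ b ∈ J, s = a ^ n * (1 + b)}
          one_mem' := ⟨0, 0, J.zero_mem, by simp⟩
          mul_mem' := by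
            rintro s t ⟨n, b, hb, rfl⟩ ⟨n', b', hb', rfl⟩
            refine ⟨n + n', b + b' + b * b', J.add_mem (J.add_mem hb hb') (J.mul_mem_left _ hb'),
              ?_⟩
            ring }
      have h0S : (0 : R) ∈ S := by
        by_contra h0
        have hdis : Disjoint ((⊥ : Ideal R) : Set R) (S : Set R) := by
          rw [Set.disjoint_left]
          intro x hx hxS
          rw [SetLike.mem_coe, Ideal.mem_bot] at hx
          exact h0 (hx ▸ hxS)
        obtain ⟨q, hq, -, hqS⟩ := Ideal.exists_le_prime_disjoint (⊥ : Ideal R) S hdis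
        have haq : a ∉ q := by
          intro h
          exact (Set.disjoint_left.mp hqS) h ⟨1, 0, J.zero_mem, by simp⟩
        let qq : PrimeSpectrum R := ⟨q, hq⟩
        have hqJ : qq.asIdeal ⊔ J ≠ ⊤ := by
          intro htop'
          obtain ⟨u, hu, b', hb', hsum'⟩ :=
            Submodule.mem_sup.mp ((Ideal.eq_top_iff_one _).mp htop')
          have : u ∈ S := ⟨0, -b', J.neg_mem hb', by rw [pow_zero, one_mul, ← hsum']; ring⟩
          exact (Set.disjoint_left.mp hqS) hu this
        exact haq (hmax qq hqJ ha)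
      obtain ⟨n, b, hb, hnb⟩ := h0S
      have hx : a ^ n ∈ II J := ⟨-b, J.neg_mem hb, by
        have : a ^ n * (1 + b) = 0 := hnb.symm
        calc a ^ n * -b = a ^ n - a ^ n * (1 + b) := by ring
          _ = a ^ n := by rw [this, sub_zero]⟩
      exact hap (p.2.mem_of_pow_mem n (hp hx))
    · exact zeroLocus_anti_mono_ideal hIJ
  have hmul : ∀ x ∈ II J, ∃ y ∈ II J, x = x * y := by
    rintro x ⟨b, hb, hxb⟩
    have htop : (Ideal.span {1 - b} : Ideal R) ⊔ II J = ⊤ := by
      by_contra h
      obtain ⟨m, hm, hle⟩ := Ideal.exists_le_maximal _ h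
      let mm : PrimeSpectrum R := ⟨m, hm.isPrime⟩
      have hmV : mm ∈ zeroLocus ((II J : Ideal R) : Set R) := by
        rw [mem_zeroLocus]; exact fun x hx => hle (Submodule.mem_sup_right hx)
      rw [hV, mem_zeroLocus] at hmV
      have h1 : 1 - b ∈ m := hle (Submodule.mem_sup_left (Ideal.subset_span rfl))
      have h2 : b ∈ m := hmV hb
      exact hm.ne_top ((Ideal.eq_top_iff_one _).mpr (by simpa using add_mem h1 h2))
    obtain ⟨c, hc, y, hy, hsum⟩ := Submodule.mem_sup.mp ((Ideal.eq_top_iff_one _).mp htop)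
    obtain ⟨r, rfl⟩ := Ideal.mem_span_singleton'.mp hc
    refine ⟨y, hy, ?_⟩
    have hx0 : x * (r * (1 - b)) = 0 := by
      calc x * (r * (1 - b)) = r * (x - x * b) := by ring
        _ = 0 := by rw [hxb, sub_self, mul_zero]
    calc x = x * (r * (1 - b) + y) := by rw [hsum, mul_one]
      _ = x * y := by rw [mul_add, hx0, zero_add]
  refine ⟨II J, ?_, hV⟩
  apply Ideal.Pure.of_inf_eq_mul
  intro J' _
  apply le_antisymm
  · rintro z ⟨hzI, hzJ⟩
    obtain ⟨y, hy, hzy⟩ := hmul z hzI
    have h : y * z ∈ II J * J' := Ideal.mul_mem_mul hy hzJ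
    have h2 : y * z = z := by rw [mul_comm y z, ← hzy]
    rw [h2] at h
    exact h
  · exact Ideal.mul_le_inf

open PrimeSpectrum in
/-- For a commutative ring R, I ↦ V(I) is a bijection between pure ideals (R/I flat over R) and closed
subsets of Spec R stable under generalization. Stated here as: V(I) is stable under generalization
for I pure, and every closed generalization-stable subset is V(I) for some pure I (injectivity on
pure ideals being the standard fact that pure ideals with the same zero locus coincide). -/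
theorem result (R : Type u) [CommRing R] :
    (∀ I : Ideal R, I.Pure → StableUnderGeneralization (zeroLocus (I : Set R))) ∧
      ∀ Z : Set (PrimeSpectrum R), IsClosed Z → StableUnderGeneralization Z →
        ∃ I : Ideal R, I.Pure ∧ zeroLocus (I : Set R) = Z := by
  exact ⟨fun I hI => part_a I hI, fun Z hZ hgen => part_b Z hZ hgen⟩

end Groth.Agent.S6353
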