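import Groth.Statements.S6354
import Mathlib

set_option autoImplicit false
universe u
open CAlg

namespace Groth.Agent.S6354

open PrimeSpectrum

theorem pure_span_idem {R : Type u} [CommRing R] {e : R} (he : IsIdempotentElem e) :
    (Ideal.span {e}).Pure := by
  have hfg : (Ideal.span {e}).FG := Submodule.fg_span_singleton e
  exact Ideal.Pure.of_isIdempotentElem hfg
    ((Ideal.isIdempotentElem_iff_of_fg _ hfg).mpr ⟨e, he, rfl⟩)

open PrimeSpectrum in
/-- For an ideal I of a commutative ring R these four conditions are equivalent: (1) I is finitely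
generated and pure; (2) I = (e) for some idempotent e; (3) I is pure with V(I) open in Spec R; (4)
R/I is projective as an R-module. -/
theorem result (R : Type u) [CommRing R] (I : Ideal R) :
    List.TFAE [I.Pure ∧ I.FG, ∃ e : R, IsIdempotentElem e ∧ I = Ideal.span {e},
      I.Pure ∧ IsOpen (zeroLocus (I : Set R)), Module.Projective R (R ⧸ I)] := by
  tfae_have 1 → 2 := by
    rintro ⟨hp, hfg⟩
    have := hp
    exact (I.isIdempotentElem_iff_of_fg hfg).mp I.isIdempotentElem_of_pure
  tfae_have 2 → 1 := by
    rintro ⟨e, he, rfl⟩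
    exact ⟨pure_span_idem he, Submodule.fg_span_singleton e⟩
  tfae_have 2 → 3 := by
    rintro ⟨e, he, rfl⟩
    refine ⟨pure_span_idem he, ?_⟩
    rw [zeroLocus_span, zeroLocus_eq_basicOpen_of_mul_add e (1 - e)
      (by rw [mul_sub, mul_one, he.eq, sub_self]) (by ring)]
    exact (basicOpen (1 - e)).2
  tfae_have 3 → 2 := by
    rintro ⟨hp, hopen⟩
    have hclopen : IsClopen (zeroLocus (I : Set R)) := ⟨isClosed_zeroLocus _, hopen⟩
    obtain ⟨e, f, mul, add, heq⟩ := isClopen_iff_mul_add_zeroLocus.mp hclopen
    have he : IsIdempotentElem e := by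
      have : e = e * (e + f) := by rw [add, mul_one]
      rw [mul_add, mul] at this
      rw [IsIdempotentElem]
      simpa using this.symm
    refine ⟨e, he, ?_⟩
    have := hp
    have := pure_span_idem he
    rw [← Ideal.zeroLocus_inj_of_pure, heq, zeroLocus_span]
  tfae_have 2 → 4 := by
    rintro ⟨e, he, rfl⟩
    have hker : (Ideal.span {e} : Ideal R) ≤ LinearMap.ker (LinearMap.mulLeft R (1 - e)) := by
      intro x hx
      obtain ⟨c, rfl⟩ := Ideal.mem_span_singleton'.mp hx
      rw [LinearMap.mem_ker, LinearMap.mulLeft_apply]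
      calc (1 - e) * (c * e) = c * (e - e * e) := by ring
        _ = 0 := by rw [he.eq, sub_self, mul_zero]
    let i : (R ⧸ Ideal.span {e}) →ₗ[R] R :=
      Submodule.liftQ (Ideal.span {e}) (LinearMap.mulLeft R (1 - e)) hker
    refine Module.Projective.of_split i (Submodule.mkQ (Ideal.span {e})) ?_
    refine LinearMap.ext fun x => ?_
    obtain ⟨x, rfl⟩ := Submodule.mkQ_surjective _ x
    have h1 : i (Submodule.mkQ (Ideal.span {e}) x) = (1 - e) * x := rfl
    rw [LinearMap.comp_apply, h1, LinearMap.id_apply, ← sub_eq_zero, ← map_sub,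
      Submodule.mkQ_apply, Submodule.Quotient.mk_eq_zero]
    have : (1 - e) * x - x = -x * e := by ring
    rw [this]
    exact Ideal.mul_mem_left _ _ (Ideal.subset_span rfl)
  tfae_have 4 → 1 := by
    intro hproj
    refine ⟨inferInstance, ?_⟩
    obtain ⟨s, hs⟩ := Module.projective_lifting_property (Submodule.mkQ I)
      (LinearMap.id : (R ⧸ I) →ₗ[R] (R ⧸ I)) (Submodule.mkQ_surjective I)
    let e' : R := s 1
    have he' : Submodule.mkQ I e' = 1 := LinearMap.congr_fun hs 1
    have h1 : 1 - e' ∈ I := by
      rw [← Submodule.Quotient.mk_eq_zero, Submodule.Quotient.mk_sub]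
      rw [← Submodule.mkQ_apply, ← Submodule.mkQ_apply, he']
      exact sub_self _
    have h2 : I = Ideal.span {1 - e'} := by
      apply le_antisymm
      · intro x hx
        have hxe : x * e' = 0 := by
          have : x • s 1 = s (x • (1 : R ⧸ I)) := (map_smul s x 1).symm
          have h0 : x • (1 : R ⧸ I) = 0 := by
            rw [Algebra.smul_def, mul_one]
            exact Ideal.Quotient.eq_zero_iff_mem.mpr hx
          rw [h0, map_zero] at this
          exact this
        have : x = x * (1 - e') := by rw [mul_sub, mul_one, hxe, sub_zero]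
        rw [this]
        exact Ideal.mul_mem_left _ _ (Ideal.subset_span rfl)
      · rw [Ideal.span_le]
        rintro _ rfl
        exact h1
    rw [h2]
    exact Submodule.fg_span_singleton _
  tfae_finish

end Groth.Agent.S6354
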