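import Groth.Statements.S6355
import Mathlib

set_option autoImplicit false
universe u
open CAlg

namespace Groth.Agent.S6355
section helpers
open Opposite
set_option linter.unusedSectionVars false
set_option autoImplicit false
open Module PrimeSpectrum

section dir1
variable {R : Type u} [CommRing R] (M : Type u) [AddCommGroup M] [Module R M]
  [Module.Finite R M] [Module.Flat R M]

attribute [local instance] Module.free_of_flat_of_isLocalRing

/-- local generators -/
theorem exists_gens (p : PrimeSpectrum R) :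
    ∃ (φ : (Fin (rankAtStalk M p) →₀ R) →ₗ[R] M) (a : R), a ∉ p.asIdeal ∧
      Function.Surjective (LocalizedModule.map (Submonoid.powers a) φ) := by
  let Rₚ := Localization.AtPrime p.asIdeal
  let n := rankAtStalk M p
  let f : (Fin n →₀ R) →ₗ[R] Fin n →₀ Rₚ := Finsupp.mapRange.linearMap (Algebra.linearMap R Rₚ)
  let g : M →ₗ[R] LocalizedModule.AtPrime p.asIdeal M := LocalizedModule.mkLinearMap p.asIdeal.primeCompl M
  obtain ⟨φ, -, -, hφps⟩ := exists_localizedMap_surjective_of_surjective p.asIdeal.primeCompl f g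
    ((finBasis Rₚ (LocalizedModule.AtPrime p.asIdeal M)).repr.restrictScalars R).symm.surjective
  obtain ⟨a, hap, hφas⟩ := by
    refine exists_localizedMap_away_surjective_of_localizedMap_atPrime_surjective p.asIdeal φ ?_
    simpa [LocalizedModule.coe_map_eq f g]
  exact ⟨φ, a, hap, hφas⟩




omit [Module.Finite R M] [Module.Flat R M] in
theorem surj_at_of_surj_away {n : ℕ} (φ : (Fin n →₀ R) →ₗ[R] M) (a : R)
    (hφ : Function.Surjective (LocalizedModule.map (Submonoid.powers a) φ))
    (S : Submonoid R) (hS : a ∈ S) :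
    Function.Surjective (LocalizedModule.map S φ) := by
  rw [LinearMap.localizedMap_surjective_iff_subsingleton_localized_coker] at hφ ⊢
  rw [LocalizedModule.subsingleton_iff] at hφ ⊢
  intro m
  obtain ⟨r, ⟨k, rfl⟩, hr⟩ := hφ m
  exact ⟨a ^ k, S.pow_mem hS k, hr⟩

omit [Module.Finite R M] [Module.Flat R M] in
theorem rank_le_of_surj {n : ℕ} (φ : (Fin n →₀ R) →ₗ[R] M) (a : R)
    (hφ : Function.Surjective (LocalizedModule.map (Submonoid.powers a) φ))
    (q : PrimeSpectrum R) (hq : a ∉ q.asIdeal) : rankAtStalk M q ≤ n := by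
  have hs := surj_at_of_surj_away M φ a hφ q.asIdeal.primeCompl hq
  have : Nontrivial R := q.nontrivial
  have h1 := LinearMap.finrank_le_finrank_of_surjective hs
  have h2 : rankAtStalk (R := R) (Fin n →₀ R) q = n := by
    simp
  unfold rankAtStalk at h2 ⊢
  rw [← h2]
  exact h1

theorem isOpen_rank_le (n : ℕ) : IsOpen {q : PrimeSpectrum R | rankAtStalk M q ≤ n} := by
  rw [isOpen_iff_forall_mem_open]
  intro p hp
  obtain ⟨φ, a, hap, hφ⟩ := exists_gens M p
  refine ⟨basicOpen a, ?_, (basicOpen a).2, hap⟩
  intro q hq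
  exact (rank_le_of_surj M φ a hφ q hq).trans hp




variable (H : ∀ Z : Set (PrimeSpectrum R), IsClosed Z → StableUnderGeneralization Z → IsOpen Z)

include H in
theorem isOpen_rank_gt (n : ℕ) : IsOpen {q : PrimeSpectrum R | n < rankAtStalk M q} := by
  apply H
  · have := (isOpen_rank_le (R := R) M n).isClosed_compl
    convert this using 1
    ext q
    simp
  · intro q q' hqq' hq
    have hle : q' ≤ q := (PrimeSpectrum.le_iff_specializes q' q).2 hqq'
    rw [Set.mem_ofPred_eq] at hq ⊢
    rwa [rankAtStalk_eq_of_le_of_finite_of_flat M hle]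

include H in
theorem isOpen_rank_eq (n : ℕ) : IsOpen {q : PrimeSpectrum R | rankAtStalk M q = n} := by
  cases n with
  | zero =>
    convert isOpen_rank_le (R := R) M 0 using 1
    ext q; simp
  | succ k =>
    convert (isOpen_rank_le (R := R) M (k+1)).inter (isOpen_rank_gt M H k) using 1
    ext q
    simp only [Set.mem_ofPred_eq, Set.mem_inter_iff]
    omega

include H in
theorem exists_free_away (p : PrimeSpectrum R) :
    ∃ a ∉ p.asIdeal, Module.Free (Localization.Away a) (LocalizedModule.Away a M) := by
  obtain ⟨φ, a₁, ha₁, hφ⟩ := exists_gens M p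
  have hU := isOpen_rank_eq M H (rankAtStalk M p)
  obtain ⟨_, ⟨a₂, rfl⟩, hpa₂, ha₂U⟩ :=
    PrimeSpectrum.isTopologicalBasis_basic_opens.isOpen_iff.mp hU p rfl
  let a := a₁ * a₂
  have hap : a ∉ p.asIdeal := fun h => (p.2.mem_or_mem h).elim ha₁ hpa₂
  have hφa : Function.Surjective (LocalizedModule.map (Submonoid.powers a) φ) := by
    rw [LinearMap.localizedMap_surjective_iff_subsingleton_localized_coker] at hφ ⊢
    rw [LocalizedModule.subsingleton_iff] at hφ ⊢
    intro m
    obtain ⟨r, ⟨k, rfl⟩, hr⟩ := hφ m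
    refine ⟨a ^ k, ⟨k, rfl⟩, ?_⟩
    simp only [a, mul_pow]
    rw [mul_comm, mul_smul, hr, smul_zero]
  have : Module.Free (Localization.Away a) (LocalizedModule.Away a (Fin (rankAtStalk M p) →₀ R)) :=
    Module.Free.of_equiv (IsLocalizedModule.isBaseChange (Submonoid.powers a) (Localization.Away a)
      (LocalizedModule.mkLinearMap (Submonoid.powers a) (Fin (rankAtStalk M p) →₀ R))).equiv
  let φₐ : LocalizedModule.Away a (Fin (rankAtStalk M p) →₀ R) →ₗ[Localization.Away a]
      LocalizedModule.Away a M := LocalizedModule.map (Submonoid.powers a) φ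
  have hbij : Function.Bijective φₐ :=
    @bijective_of_surjective_of_rankAtStalk_eq (Localization.Away a) _
      (LocalizedModule.Away a (Fin (rankAtStalk M p) →₀ R)) (LocalizedModule.Away a M)
      _ _ _ _ _ _ _ _ φₐ hφa <| fun m _ ↦ ?_
  · exact ⟨a, hap, Module.Free.of_equiv <| LinearEquiv.ofBijective φₐ hbij⟩
  have hmem : PrimeSpectrum.comap (algebraMap R (Localization.Away a)) ⟨m, inferInstance⟩ ∈
      (basicOpen a₂ : Set (PrimeSpectrum R)) := by
    intro h
    have h1 : a ∈ (PrimeSpectrum.comap (algebraMap R (Localization.Away a)) ⟨m, inferInstance⟩).asIdeal :=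
      Ideal.mul_mem_left _ a₁ h
    have h2 : algebraMap R (Localization.Away a) a ∈ m := h1
    exact (inferInstance : m.IsPrime).ne_top (Ideal.eq_top_of_isUnit_mem _ h2
      (IsLocalization.Away.algebraMap_isUnit a))
  have h3 := ha₂U hmem
  rw [Set.mem_ofPred_eq] at h3
  have : Nontrivial R := p.nontrivial
  simp [rankAtStalk_isBaseChange (LocalizedModule.isBaseChange (Submonoid.powers a) _), h3]




include H in
theorem dir1 : Module.Projective R M := by
  have hfp : Module.FinitePresentation R M := by
    let s : Set R := {a | Module.Free (Localization.Away a) (LocalizedModule.Away a M)}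
    have hs : Ideal.span s = ⊤ := by
      by_contra hne
      obtain ⟨m, hm, hle⟩ := Ideal.exists_le_maximal _ hne
      obtain ⟨a, ha, hfree⟩ := exists_free_away M H ⟨m, hm.isPrime⟩
      exact ha (hle (Ideal.subset_span hfree))
    refine Module.FinitePresentation.of_localizationSpan s hs (fun g => ?_)
    have : Module.Free (Localization.Away g.1) (LocalizedModule.Away g.1 M) := g.2
    exact Module.finitePresentation_of_projective _ _
  exact Module.Flat.projective_of_finitePresentation

end dir1


section dir2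
variable {R : Type u} [CommRing R]

/-- the pure ideal attached to `J` -/
def pureIdeal (J : Ideal R) : Ideal R where
  carrier := {x | ∃ a ∈ J, x = x * a}
  zero_mem' := ⟨0, J.zero_mem, by simp⟩
  add_mem' := by
    rintro x y ⟨a, ha, hx⟩ ⟨b, hb, hy⟩
    refine ⟨a + b - a * b, J.sub_mem (J.add_mem ha hb) (J.mul_mem_left _ hb), ?_⟩
    linear_combination (1 - b) * hx + (1 - a) * hy
  smul_mem' := by
    rintro c x ⟨a, ha, hx⟩
    refine ⟨a, ha, ?_⟩
    simp only [smul_eq_mul]
    rw [mul_assoc, ← hx]

theorem mem_pureIdeal {J : Ideal R} {x : R} : x ∈ pureIdeal J ↔ ∃ a ∈ J, x = x * a := Iff.rfl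

theorem pureIdeal_le (J : Ideal R) : pureIdeal J ≤ J := by
  rintro x ⟨a, ha, hx⟩
  rw [hx]
  exact J.mul_mem_left _ ha

/-- the multiplicative set `(R ∖ p)(1 + J)` -/
def mulSet (p : Ideal R) [p.IsPrime] (J : Ideal R) : Submonoid R where
  carrier := {t | ∃ s a, s ∉ p ∧ a ∈ J ∧ t = s * (1 + a)}
  one_mem' := ⟨1, 0, p.one_notMem, J.zero_mem, by simp⟩
  mul_mem' := by
    rintro t t' ⟨s, a, hs, ha, rfl⟩ ⟨s', a', hs', ha', rfl⟩
    refine ⟨s * s', a + a' + a * a', fun h => (‹p.IsPrime›.mem_or_mem h).elim hs hs',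
      J.add_mem (J.add_mem ha ha') (J.mul_mem_left _ ha'), by ring⟩

theorem zeroLocus_pureIdeal (Z : Set (PrimeSpectrum R)) (hc : IsClosed Z)
    (hg : StableUnderGeneralization Z) :
    zeroLocus (pureIdeal (vanishingIdeal Z) : Set R) = Z := by
  have hZ : zeroLocus (vanishingIdeal Z : Set R) = Z := by
    rw [zeroLocus_vanishingIdeal_eq_closure, hc.closure_eq]
  apply subset_antisymm
  · intro p hp
    by_contra hpZ
    have hIp : pureIdeal (vanishingIdeal Z) ≤ p.asIdeal := hp
    have hdisj : Disjoint ((⊥ : Ideal R) : Set R) (mulSet p.asIdeal (vanishingIdeal Z)) := by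
      rw [Set.disjoint_left]
      rintro x hx ⟨s, a, hs, ha, rfl⟩
      have h0 : s * (1 + a) = 0 := hx
      apply hs
      apply hIp
      refine ⟨-a, (vanishingIdeal Z).neg_mem ha, ?_⟩
      linear_combination h0
    obtain ⟨q, hq, -, hqd⟩ := Ideal.exists_le_prime_disjoint _ _ hdisj
    have hqp : q ≤ p.asIdeal := by
      intro x hx
      by_contra hxp
      exact Set.disjoint_left.1 hqd hx ⟨x, 0, hxp, (vanishingIdeal Z).zero_mem, by simp⟩
    have hne : q ⊔ vanishingIdeal Z ≠ ⊤ := by
      intro htop
      have h1 : (1 : R) ∈ q ⊔ vanishingIdeal Z := by rw [htop]; trivial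
      obtain ⟨x, hx, a, ha, hxa⟩ := Submodule.mem_sup.1 h1
      refine Set.disjoint_left.1 hqd hx ⟨1, -a, p.asIdeal.one_notMem, (vanishingIdeal Z).neg_mem ha, ?_⟩
      linear_combination hxa
    obtain ⟨m, hm, hle⟩ := Ideal.exists_le_maximal _ hne
    have hmZ : (⟨m, hm.isPrime⟩ : PrimeSpectrum R) ∈ Z := by
      rw [← hZ]
      exact fun x hx => hle (Ideal.mem_sup_right hx)
    have hqZ : (⟨q, hq⟩ : PrimeSpectrum R) ∈ Z := by
      refine hg ?_ hmZ
      rw [← PrimeSpectrum.le_iff_specializes]
      exact fun x hx => hle (Ideal.mem_sup_left hx)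
    apply hpZ
    refine hc.stableUnderSpecialization ?_ hqZ
    rw [← PrimeSpectrum.le_iff_specializes]
    exact hqp
  · rw [← hZ]
    intro p hp
    rw [hZ]
    exact fun x hx => hp (pureIdeal_le _ hx)




theorem exists_mul_of_zeroLocus (J : Ideal R)
    (hZ : zeroLocus (pureIdeal J : Set R) = zeroLocus (J : Set R)) :
    ∀ x ∈ pureIdeal J, ∃ y ∈ pureIdeal J, x = x * y := by
  have hrad : J ≤ (pureIdeal J).radical := by
    rw [← PrimeSpectrum.zeroLocus_subset_zeroLocus_iff, hZ]
  rintro x ⟨a, ha, hx⟩
  obtain ⟨n, hn⟩ := hrad ha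
  refine ⟨a ^ n, hn, ?_⟩
  induction n with
  | zero => simp
  | succ k ih =>
    have hk : x = x * a ^ k := by
      clear hn ih
      induction k with
      | zero => simp
      | succ j ihj => rw [pow_succ, ← mul_assoc, ← ihj, ← hx]
    rw [pow_succ, ← mul_assoc, ← hk, ← hx]

theorem pure_of_exists_mul (I : Ideal R) (h : ∀ x ∈ I, ∃ y ∈ I, x = x * y) : I.Pure := by
  refine Ideal.Pure.of_inf_eq_mul I (fun K _ => le_antisymm ?_ Ideal.mul_le_inf)
  rintro x ⟨hxI, hxK⟩
  obtain ⟨y, hy, hxy⟩ := h x hxI
  have h1 : y * x ∈ I * K := Ideal.mul_mem_mul hy hxK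
  rwa [mul_comm y x, ← hxy] at h1

theorem isOpen_zeroLocus_of_projective (I : Ideal R) [Module.Projective R (R ⧸ I)] :
    IsOpen (zeroLocus (I : Set R)) := by
  obtain ⟨s, hs⟩ := Module.projective_lifting_property (Submodule.mkQ I) LinearMap.id
    (Submodule.mkQ_surjective I)
  set e : R := s 1 with he
  have h1 : 1 - e ∈ I := by
    have : Submodule.mkQ I e = 1 := by
      have := LinearMap.congr_fun hs 1
      simpa using this
    rw [← Submodule.Quotient.mk_eq_zero, Submodule.Quotient.mk_sub]
    have h2 : Submodule.Quotient.mk (p := I) e = 1 := this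
    rw [h2]
    exact sub_self _
  have h2 : ∀ x ∈ I, x * e = 0 := by
    intro x hx
    have : x • e = s (x • (1 : R ⧸ I)) := by rw [map_smul]
    rw [smul_eq_mul] at this
    rw [this]
    have h3 : x • (1 : R ⧸ I) = 0 := by
      have : x • (1 : R ⧸ I) = Submodule.Quotient.mk (p := I) (x • (1 : R)) := rfl
      rw [this, Submodule.Quotient.mk_eq_zero]
      simpa using hx
    rw [h3, map_zero]
  have : zeroLocus (I : Set R) = (basicOpen e : Set (PrimeSpectrum R)) := by
    ext p
    constructor
    · intro hp hep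
      have hp' : I ≤ p.asIdeal := hp
      apply p.asIdeal.one_notMem
      have := p.asIdeal.add_mem (hp' h1) hep
      simpa using this
    · intro hep x hx
      have := h2 x hx
      have h4 : x * e ∈ p.asIdeal := by rw [this]; exact p.asIdeal.zero_mem
      exact (p.2.mem_or_mem h4).resolve_right hep
  rw [this]
  exact (basicOpen e).2

theorem dir2 (H : ∀ (M : Type u) [AddCommGroup M] [Module R M], Module.Finite R M → Module.Flat R M →
      Module.Projective R M)
    (Z : Set (PrimeSpectrum R)) (hc : IsClosed Z) (hg : StableUnderGeneralization Z) : IsOpen Z := by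
  have hZ := zeroLocus_pureIdeal Z hc hg
  have hZ' : zeroLocus (vanishingIdeal Z : Set R) = Z := by
    rw [zeroLocus_vanishingIdeal_eq_closure, hc.closure_eq]
  have hpure : (pureIdeal (vanishingIdeal Z)).Pure :=
    pure_of_exists_mul _ (exists_mul_of_zeroLocus _ (by rw [hZ, hZ']))
  have : Module.Projective R (R ⧸ pureIdeal (vanishingIdeal Z)) := H _ inferInstance hpure
  rw [← hZ]
  exact isOpen_zeroLocus_of_projective _

end dir2

theorem main6355 (R : Type u) [CommRing R] :
    (∀ Z : Set (PrimeSpectrum R), IsClosed Z → StableUnderGeneralization Z → IsOpen Z) ↔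
      ∀ (M : Type u) [AddCommGroup M] [Module R M], Module.Finite R M → Module.Flat R M →
        Module.Projective R M := by
  constructor
  · intro H M _ _ hfin hflat
    exact dir1 M H
  · intro H Z hc hg
    exact dir2 H Z hc hg


end helpers

/-- For a commutative ring R the following are equivalent: (1) every subset of Spec R which is closed
and stable under generalization is open; (2) every finite flat R-module is finite locally free, i.e.
(for finite modules) projective. -/
theorem result (R : Type u) [CommRing R] :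
    (∀ Z : Set (PrimeSpectrum R), IsClosed Z → StableUnderGeneralization Z → IsOpen Z) ↔
      ∀ (M : Type u) [AddCommGroup M] [Module R M], Module.Finite R M → Module.Flat R M →
        Module.Projective R M := by
  exact main6355 R

end Groth.Agent.S6355
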