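import Groth.Statements.S6357
import Groth.Agent.S6358

set_option autoImplicit false
universe u
open CAlg

namespace Groth.Agent.S6357

open TensorProduct

section compJ

variable {R : Type u} [CommRing R] {J : Type}

/-- The `j`-th component of a tensor in `R^J ⊗ X`. -/
noncomputable def compJ (X : Type u) [AddCommGroup X] [Module R X] (j : J) :
    (J → R) ⊗[R] X →ₗ[R] X :=
  (TensorProduct.lid R X).toLinearMap ∘ₗ
    (LinearMap.proj j : (J → R) →ₗ[R] R).rTensor X

theorem compJ_tmul {X : Type u} [AddCommGroup X] [Module R X] (j : J) (r : J → R) (x : X) :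
    compJ X j (r ⊗ₜ[R] x) = r j • x := by
  simp [compJ]

end compJ

/-- If `g` kills, after every tensoring, whatever `f` kills, with the source finitely generated and
the target of `f` finitely presented, then `g` factors through `f`. -/
theorem factor_of_dom {R : Type u} [CommRing R] {A B C : Type u} [AddCommGroup A] [Module R A]
    [AddCommGroup B] [Module R B] [AddCommGroup C] [Module R C] [Module.Finite R A]
    [Module.FinitePresentation R B] (f : A →ₗ[R] B) (g : A →ₗ[R] C)
    (h : ∀ (T : Type u) [AddCommGroup T] [Module R T],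
      LinearMap.ker (f.rTensor T) ≤ LinearMap.ker (g.rTensor T)) :
    ∃ φ : B →ₗ[R] C, g = φ ∘ₗ f := by
  classical
  obtain ⟨n, πB, hπB⟩ := Module.Finite.exists_fin' R B
  have hK : (LinearMap.ker πB).FG := Module.FinitePresentation.fg_ker πB hπB
  obtain ⟨m, rel, hrel⟩ := Submodule.fg_iff_exists_fin_generating_family.mp hK
  obtain ⟨p, a, ha⟩ := Module.Finite.exists_fin (R := R) (M := A)
  choose φ hφ using fun s => hπB (f (a s))
  let b : Fin n → B := fun l => πB (Pi.single l 1)
  have hπB_eq : ∀ v : Fin n → R, πB v = ∑ l, v l • b l := by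
    intro v
    conv_lhs => rw [pi_eq_sum_univ' v]
    simp [b, map_sum]
  let col : Fin n → (Fin m ⊕ Fin p → R) := fun l => Sum.elim (fun k => rel k l) (fun s => φ s l)
  let Ψ : (Fin n → R) →ₗ[R] (Fin m ⊕ Fin p → R) := Fintype.linearCombination R col
  let ε : Fin m ⊕ Fin p → (Fin m ⊕ Fin p → R) := fun j => Pi.single j 1
  let q := (LinearMap.range Ψ).mkQ
  let y : A ⊗[R] ((Fin m ⊕ Fin p → R) ⧸ LinearMap.range Ψ) :=
    ∑ s, a s ⊗ₜ[R] q (ε (Sum.inr s))
  have hcol : ∀ l, col l = ∑ k, rel k l • ε (Sum.inl k) + ∑ s, φ s l • ε (Sum.inr s) := by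
    intro l
    conv_lhs => rw [pi_eq_sum_univ' (col l)]
    rw [Fintype.sum_sum_type]
    simp [col, ε]
  have hq : ∀ l, q (∑ s, φ s l • ε (Sum.inr s)) = - q (∑ k, rel k l • ε (Sum.inl k)) := by
    intro l
    rw [eq_neg_iff_add_eq_zero, ← map_add, add_comm, ← hcol l]
    exact (Submodule.Quotient.mk_eq_zero _).mpr
      ⟨Pi.single l 1, by simp [Ψ, Fintype.linearCombination_apply_single]⟩
  have hy : f.rTensor _ y = 0 := by
    simp only [y, map_sum, LinearMap.rTensor_tmul, ← hφ, hπB_eq, TensorProduct.sum_tmul,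
      TensorProduct.smul_tmul]
    rw [Finset.sum_comm]
    simp only [← TensorProduct.tmul_sum, ← map_smul, ← map_sum, hq, TensorProduct.tmul_neg,
      Finset.sum_neg_distrib, neg_eq_zero]
    simp only [map_sum, map_smul, TensorProduct.tmul_sum, TensorProduct.tmul_smul]
    rw [Finset.sum_comm]
    refine Finset.sum_eq_zero (fun k _ => ?_)
    simp only [TensorProduct.smul_tmul', ← TensorProduct.sum_tmul, ← hπB_eq]
    have hk : rel k ∈ LinearMap.ker πB := hrel ▸ Submodule.subset_span ⟨k, rfl⟩
    rw [LinearMap.mem_ker.mp hk, TensorProduct.zero_tmul]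
  have hgy : g.rTensor _ y = 0 := h _ hy
  let z : (Fin m ⊕ Fin p → R) ⊗[R] C := ∑ s, ε (Sum.inr s) ⊗ₜ[R] g (a s)
  have hz : q.rTensor C z = 0 := by
    have := congrArg (TensorProduct.comm R C _) hgy
    simpa [y, z] using this
  have hex : Function.Exact Ψ q := LinearMap.exact_map_mkQ_range Ψ
  obtain ⟨z', hz'⟩ := (rTensor_exact C hex (Submodule.mkQ_surjective _) z).mp hz
  let x : Fin n → C := fun l => Groth.Agent.S6356.comp C l z'
  have hz'eq : z' = ∑ l, (Pi.single l (1 : R) : Fin n → R) ⊗ₜ[R] x l :=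
    Groth.Agent.S6356.eq_sum z'
  have hzeq : z = ∑ l, col l ⊗ₜ[R] x l := by
    rw [← hz', hz'eq]
    simp [Ψ, Fintype.linearCombination_apply_single]
  have hk : ∀ k, ∑ l, rel k l • x l = 0 := by
    intro k
    have := congrArg (compJ C (Sum.inl k)) hzeq
    simp only [z, map_sum, compJ_tmul, col, ε, Sum.elim_inl] at this
    rw [← this]
    refine Finset.sum_eq_zero (fun s _ => ?_)
    simp
  have hs : ∀ s, ∑ l, φ s l • x l = g (a s) := by
    intro s
    have := congrArg (compJ C (Sum.inr s)) hzeq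
    simp only [z, map_sum, compJ_tmul, col, ε, Sum.elim_inr] at this
    rw [← this, Finset.sum_eq_single s]
    · simp
    · intro s' _ hs'
      simp [hs'.symm]
    · intro hh; exact absurd (Finset.mem_univ s) hh
  let ht : (Fin n → R) →ₗ[R] C := Fintype.linearCombination R x
  have hle : LinearMap.ker πB ≤ LinearMap.ker ht := by
    rw [← hrel, Submodule.span_le]
    rintro _ ⟨k, rfl⟩
    simpa [ht, Fintype.linearCombination_apply] using hk k
  let φ' : B →ₗ[R] C := (LinearMap.ker πB).liftQ ht hle ∘ₗ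
    (πB.quotKerEquivOfSurjective hπB).symm.toLinearMap
  have hφ' : ∀ v, φ' (πB v) = ht v := by
    intro v
    have : (πB.quotKerEquivOfSurjective hπB).symm (πB v) = (LinearMap.ker πB).mkQ v := by
      rw [LinearEquiv.symm_apply_eq]
      rfl
    simp only [φ', LinearMap.coe_comp, LinearEquiv.coe_coe, Function.comp_apply, this]
    rfl
  refine ⟨φ', ?_⟩
  apply LinearMap.ext_on ha
  rintro _ ⟨s, rfl⟩
  rw [LinearMap.comp_apply, ← hφ s, hφ', ← hs s]
  simp [ht, Fintype.linearCombination_apply]

section DL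

variable {R : Type u} [CommRing R] {ι : Type u} [Preorder ι] [IsDirected ι (· ≤ ·)] [Nonempty ι]
  [DecidableEq ι] (G : ι → Type u) [∀ i, AddCommGroup (G i)] [∀ i, Module R (G i)]
  (f : ∀ i j, i ≤ j → G i →ₗ[R] G j) [DirectedSystem G fun i j h => f i j h]

omit [Nonempty ι] in
/-- A tensor over `G i` dying in the direct limit dies at a finite stage. -/
theorem tensor_zero_exact {i : ι} (T : Type u) [AddCommGroup T] [Module R T] (z : G i ⊗[R] T)
    (hz : (Module.DirectLimit.of R ι G f i).rTensor T z = 0) :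
    ∃ (k : ι) (hik : i ≤ k), (f i k hik).rTensor T z = 0 := by
  have := congrArg (TensorProduct.directLimitLeft f T) hz
  rw [TensorProduct.directLimitLeft_rTensor_of, map_zero] at this
  exact Module.DirectLimit.of.zero_exact this

theorem fwd [∀ i, Module.FinitePresentation R (G i)]
    (hML : CAlg.IsMittagLeffler R (Module.DirectLimit G f)) (i : ι) :
    ∃ (j : ι) (hij : i ≤ j), ∀ (k : ι) (hik : i ≤ k),
      ∃ h : G k →ₗ[R] G j, f i j hij = h ∘ₗ f i k hik := by
  have key : ∃ (j : ι) (hij : i ≤ j), ∀ (T : Type u) [AddCommGroup T] [Module R T],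
      LinearMap.ker ((Module.DirectLimit.of R ι G f i).rTensor T) ≤
        LinearMap.ker ((f i j hij).rTensor T) := by
    by_contra hcon
    push Not at hcon
    have hcon' : ∀ j : {j // i ≤ j}, ∃ (T : ModuleCat.{u} R) (y : G i ⊗[R] T),
        (Module.DirectLimit.of R ι G f i).rTensor T y = 0 ∧ (f i j.1 j.2).rTensor T y ≠ 0 := by
      intro j
      obtain ⟨T, iT1, iT2, hT⟩ := hcon j.1 j.2
      rw [SetLike.not_le_iff_exists] at hT
      obtain ⟨y, hy1, hy2⟩ := hT
      exact ⟨ModuleCat.of R T, y, hy1, hy2⟩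
    choose T y hy1 hy2 using hcon'
    obtain ⟨yy, hyy⟩ := Groth.Agent.S6340.piRightHom_surjective_of_finite (R := R) (N := G i)
      (fun j => T j) y
    have h1 : (Module.DirectLimit.of R ι G f i).rTensor _ yy = 0 := by
      apply hML {j // i ≤ j} (fun j => T j)
      rw [map_zero]
      funext j
      rw [Groth.Agent.S6340.piRightHom_natural, hyy]
      exact hy1 j
    obtain ⟨k, hik, hk⟩ := tensor_zero_exact G f _ yy h1
    apply hy2 ⟨k, hik⟩
    have h3 := Groth.Agent.S6340.piRightHom_natural (f i k hik) (fun j => T j) yy ⟨k, hik⟩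
    rw [hk, map_zero, hyy] at h3
    exact h3.symm
  obtain ⟨j, hij, hj⟩ := key
  refine ⟨j, hij, fun k hik => ?_⟩
  obtain ⟨h, hh⟩ := factor_of_dom (f i k hik) (f i j hij) (by
    intro T _ _ y hy
    apply hj T
    rw [LinearMap.mem_ker] at hy ⊢
    have : Module.DirectLimit.of R ι G f i = Module.DirectLimit.of R ι G f k ∘ₗ f i k hik := by
      ext x; simp
    rw [this, LinearMap.rTensor_comp, LinearMap.comp_apply, hy, map_zero])
  exact ⟨h, hh⟩

theorem bwd [∀ i, Module.FinitePresentation R (G i)]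
    (H : ∀ i, ∃ (j : ι) (hij : i ≤ j), ∀ (k : ι) (hik : i ≤ k),
      ∃ h : G k →ₗ[R] G j, f i j hij = h ∘ₗ f i k hik) :
    CAlg.IsMittagLeffler R (Module.DirectLimit G f) := by
  classical
  rw [Groth.Agent.S6358.result R (Module.DirectLimit G f)]
  intro n φ
  choose il xl hxl using fun l : Fin n =>
    Module.DirectLimit.exists_of (φ (Pi.single l 1))
  obtain ⟨i₀, hi₀⟩ := Finset.exists_le (Finset.univ.image il)
  have hle : ∀ l, il l ≤ i₀ := fun l => hi₀ _ (Finset.mem_image_of_mem il (Finset.mem_univ l))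
  let a : (Fin n → R) →ₗ[R] G i₀ :=
    Fintype.linearCombination R (fun l => f (il l) i₀ (hle l) (xl l))
  have ha : Module.DirectLimit.of R ι G f i₀ ∘ₗ a = φ := by
    refine LinearMap.pi_ext' (fun l => ?_)
    ext
    simp only [LinearMap.coe_comp, LinearMap.coe_single, Function.comp_apply, a,
      Fintype.linearCombination_apply_single, one_smul, Module.DirectLimit.of_f]
    exact hxl l
  obtain ⟨j, hij, Hj⟩ := H i₀
  refine ⟨G j, inferInstance, inferInstance, inferInstance, f i₀ j hij ∘ₗ a, ?_⟩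
  intro T _ _
  refine le_antisymm ?_ ?_
  · intro y hy
    rw [LinearMap.mem_ker] at hy ⊢
    rw [← ha, LinearMap.rTensor_comp, LinearMap.comp_apply] at hy
    obtain ⟨k, hik, hk⟩ := tensor_zero_exact G f T _ hy
    obtain ⟨h, hh⟩ := Hj k hik
    rw [LinearMap.rTensor_comp, LinearMap.comp_apply, hh, LinearMap.rTensor_comp,
      LinearMap.comp_apply, hk, map_zero]
  · intro y hy
    rw [LinearMap.mem_ker] at hy ⊢
    have : φ = Module.DirectLimit.of R ι G f j ∘ₗ (f i₀ j hij ∘ₗ a) := by
      rw [← ha]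
      ext x; simp
    rw [this, LinearMap.rTensor_comp, LinearMap.comp_apply, hy, map_zero]

end DL

/-- Given finitely presented R-modules G_i forming a directed system over a nonempty directed index set,
with transition maps f_ij and colimit M, the module M is Mittag-Leffler exactly when every index i
admits some j ≥ i for which f_ij factors through f_ik whenever k ≥ i. -/
theorem result (R : Type u) [CommRing R] {ι : Type u}
    [Preorder ι] [IsDirected ι (· ≤ ·)] [Nonempty ι] [DecidableEq ι] (G : ι → Type u)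
    [∀ i, AddCommGroup (G i)] [∀ i, Module R (G i)] [∀ i, Module.FinitePresentation R (G i)]
    (f : ∀ i j, i ≤ j → G i →ₗ[R] G j) [DirectedSystem G fun i j h => f i j h] :
    CAlg.IsMittagLeffler R (Module.DirectLimit G f) ↔
      ∀ i, ∃ (j : ι) (hij : i ≤ j), ∀ (k : ι) (hik : i ≤ k),
        ∃ h : G k →ₗ[R] G j, f i j hij = h ∘ₗ f i k hik := by
  exact ⟨fun h i => fwd G f h i, fun H => bwd G f H⟩

end Groth.Agent.S6357
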