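import Groth.Statements.S6362
import Mathlib

set_option autoImplicit false
universe u
open scoped TensorProduct
open Fields

namespace Groth.Agent.S6362

section
variable {F K L : Type u} [Field F] [Field K] [Field L]
  [Algebra F K] [Algebra F L]

/-- The `L`-algebra map `L ⊗ K → L` attached to `σ`. -/
noncomputable def ev (σ : K →ₐ[F] L) : L ⊗[F] K →ₐ[L] L :=
  Algebra.TensorProduct.lift (AlgHom.id L L) σ (fun a b => Commute.all a (σ b))

@[simp] lemma ev_tmul (σ : K →ₐ[F] L) (l : L) (a : K) : ev σ (l ⊗ₜ[F] a) = l * σ a := by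
  simp [ev]

/-- The `L`-linear map `L ⊗ K → ∏_σ L`. -/
noncomputable def Ψ : L ⊗[F] K →ₗ[L] ((K →ₐ[F] L) → L) :=
  LinearMap.pi (fun σ => (ev σ).toLinearMap)

@[simp] lemma Ψ_apply (x : L ⊗[F] K) (σ : K →ₐ[F] L) : Ψ x σ = ev σ x := rfl

variable [FiniteDimensional F K]

theorem Ψ_surjective : Function.Surjective (Ψ : L ⊗[F] K →ₗ[L] ((K →ₐ[F] L) → L)) := by
  classical
  rw [← LinearMap.range_eq_top]
  by_contra hne
  have hlt : LinearMap.range (Ψ : L ⊗[F] K →ₗ[L] ((K →ₐ[F] L) → L)) < ⊤ := lt_top_iff_ne_top.mpr hne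
  obtain ⟨g, hg0, hle⟩ := Submodule.exists_le_ker_of_lt_top _ hlt
  apply hg0
  -- coefficients
  have hli := linearIndependent_algHom_toLinearMap F K L
  rw [Fintype.linearIndependent_iff] at hli
  have hc : ∀ σ : K →ₐ[F] L, g (fun τ => if σ = τ then 1 else 0) = 0 := by
    apply hli (fun σ => g (fun τ => if σ = τ then 1 else 0))
    ext a
    have hmem : Ψ ((1 : L) ⊗ₜ[F] a) ∈ LinearMap.ker g := hle ⟨_, rfl⟩
    rw [LinearMap.mem_ker, LinearMap.pi_apply_eq_sum_univ] at hmem
    simp only [Ψ_apply, ev_tmul, one_mul, smul_eq_mul] at hmem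
    rw [LinearMap.sum_apply, LinearMap.zero_apply]
    refine Eq.trans ?_ hmem
    refine Finset.sum_congr rfl (fun σ _ => ?_)
    rw [LinearMap.smul_apply, AlgHom.toLinearMap_apply, smul_eq_mul, mul_comm]
  apply LinearMap.ext
  intro x
  rw [LinearMap.pi_apply_eq_sum_univ]
  simp [hc]

theorem Ψ_bijective [Algebra.IsSeparable F K] [IsAlgClosed L] :
    Function.Bijective (Ψ : L ⊗[F] K →ₗ[L] ((K →ₐ[F] L) → L)) := by
  have hdim : Module.finrank L (L ⊗[F] K) = Module.finrank L ((K →ₐ[F] L) → L) := by
    rw [Module.finrank_baseChange, Module.finrank_fintype_fun_eq_card, AlgHom.card]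
  exact ⟨(LinearMap.injective_iff_surjective_of_finrank_eq_finrank hdim).mpr Ψ_surjective,
    Ψ_surjective⟩

end


/-- Let K/F be a finite separable extension and L/F an extension with L algebraically closed. Then the
L-algebra map K ⊗_F L → ∏_σ L, indexed by the F-algebra maps σ : K → L and sending a ⊗ b to (σ(a)
b)_σ, is an isomorphism; stated as bijectivity of that map. -/
theorem result {F K L : Type u} [Field F] [Field K] [Field L]
    [Algebra F K] [Algebra F L] [FiniteDimensional F K] [Algebra.IsSeparable F K] [IsAlgClosed L] :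
    Function.Bijective (fun x : K ⊗[F] L => fun σ : K →ₐ[F] L =>
      Algebra.TensorProduct.lift σ (AlgHom.id F L) (fun a b => Commute.all (σ a) b) x) := by
  have hcomp : (fun x : K ⊗[F] L => fun σ : K →ₐ[F] L =>
      Algebra.TensorProduct.lift σ (AlgHom.id F L) (fun a b => Commute.all (σ a) b) x) =
      (fun y => Ψ y) ∘ (TensorProduct.comm F K L) := by
    funext x σ
    induction x using TensorProduct.induction_on with
    | zero => simp
    | tmul a l => simp [mul_comm]
    | add x y hx hy =>
      simp only [map_add, Function.comp_apply, Pi.add_apply] at hx hy ⊢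
      rw [hx, hy]
  rw [hcomp]
  exact Ψ_bijective.comp (TensorProduct.comm F K L).bijective

end Groth.Agent.S6362
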