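import Groth.Statements.S6363
import Mathlib

set_option autoImplicit false
universe u
open scoped TensorProduct
open Fields

namespace Groth.Agent.S6363

/-- For a finite field extension L/K and a normal closure M of L/K, some K-algebra homomorphism from the
n-fold tensor power L ⊗_K ⋯ ⊗_K L to M is surjective, where n = [L : K]_s is the separable degree
(so n ≤ [L : K]). -/
theorem result {K L M : Type u} [Field K] [Field L] [Field M]
    [Algebra K L] [Algebra K M] [Algebra L M] [IsScalarTower K L M] [FiniteDimensional K L]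
    [IsNormalClosure K L M] :
    ∃ f : (⨂[K] _ : Fin (Field.finSepDegree K L), L) →ₐ[K] M, Function.Surjective f := by
  classical
  haveI hnormal : Normal K M := IsNormalClosure.normal (F := K) (K := L) (L := M)
  haveI halg : Algebra.IsAlgebraic K M := inferInstance
  have hn : Field.finSepDegree K L = Nat.card (L →ₐ[K] M) :=
    Field.finSepDegree_eq_of_adjoin_splits K L M (S := Set.univ)
      (IntermediateField.adjoin_univ K L)
      (fun s _ => ⟨Algebra.IsIntegral.isIntegral s, IsNormalClosure.splits s⟩)
  haveI : Fintype (L →ₐ[K] M) := minpoly.AlgHom.fintype K L M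
  haveI : Finite (L →ₐ[K] M) := inferInstance
  let σ : (L →ₐ[K] M) ≃ Fin (Field.finSepDegree K L) := Finite.equivFinOfCardEq hn.symm
  let g : MultilinearMap K (fun _ : Fin (Field.finSepDegree K L) => L) M :=
    (MultilinearMap.mkPiAlgebra K (Fin (Field.finSepDegree K L)) M).compLinearMap
      (fun i => (σ.symm i).toLinearMap)
  have hg : ∀ x : Fin (Field.finSepDegree K L) → L, g x = ∏ i, (σ.symm i) (x i) := by
    intro x
    simp [g, MultilinearMap.compLinearMap_apply, MultilinearMap.mkPiAlgebra_apply]
  have hone : g 1 = 1 := by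
    rw [hg]
    simp
  have hmul : ∀ x y, g (x * y) = g x * g y := by
    intro x y
    rw [hg, hg, hg, ← Finset.prod_mul_distrib]
    simp
  let f : (⨂[K] _ : Fin (Field.finSepDegree K L), L) →ₐ[K] M :=
    PiTensorProduct.liftAlgHom g hone hmul
  have hf_single : ∀ (τ : L →ₐ[K] M) (a : L),
      f (PiTensorProduct.singleAlgHom (σ τ) a) = τ a := by
    intro τ a
    have h1 : f (PiTensorProduct.singleAlgHom (R := K) (A := fun _ : Fin (Field.finSepDegree K L) => L) (σ τ) a)
        = g (Pi.mulSingle (σ τ) a) := by
      simp [f, PiTensorProduct.singleAlgHom_apply, PiTensorProduct.liftAlgHom_apply]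
    rw [h1, hg, Finset.prod_eq_single (σ τ)]
    · simp
    · intro j _ hj
      rw [Pi.mulSingle_eq_of_ne hj, map_one]
    · intro h
      exact absurd (Finset.mem_univ _) h
  let S : Set M := {y | ∃ (τ : L →ₐ[K] M) (a : L), τ a = y}
  have hS : IntermediateField.adjoin K S = ⊤ := by
    have h1 := (Algebra.IsAlgebraic.isNormalClosure_iff (F := K) (K := L) (L := M)).mp inferInstance
    rw [eq_top_iff, ← h1.2]
    refine normalClosure_le_iff.mpr (fun τ => ?_)
    rintro _ ⟨a, rfl⟩
    exact IntermediateField.subset_adjoin K S ⟨τ, a, rfl⟩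
  have hsub : (IntermediateField.adjoin K S).toSubalgebra = Algebra.adjoin K S :=
    IntermediateField.adjoin_toSubalgebra S
  have hle : Algebra.adjoin K S ≤ f.range := Algebra.adjoin_le (by
    rintro _ ⟨τ, a, rfl⟩
    exact ⟨PiTensorProduct.singleAlgHom (σ τ) a, hf_single τ a⟩)
  refine ⟨f, ?_⟩
  rw [← AlgHom.range_eq_top, eq_top_iff]
  calc (⊤ : Subalgebra K M) = (⊤ : IntermediateField K M).toSubalgebra :=
        (IntermediateField.top_toSubalgebra).symm
    _ = Algebra.adjoin K S := by rw [← hS, hsub]
    _ ≤ f.range := hle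

end Groth.Agent.S6363
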