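import Groth.Statements.S6364
import Mathlib

set_option autoImplicit false
universe u
open Fields

namespace Groth.Agent.S6364

open Matrix Polynomial in
theorem charmatrix_blockDiagonal {R : Type*} [CommRing R] {n o : Type*} [Fintype n] [DecidableEq n]
    [Fintype o] [DecidableEq o] (M : o → Matrix n n R) :
    charmatrix (blockDiagonal M) = blockDiagonal fun k => charmatrix (M k) := by
  ext ⟨i, k⟩ ⟨j, k'⟩
  by_cases hk : k = k'
  · subst hk
    by_cases hij : i = j
    · subst hij
      simp [charmatrix_apply, blockDiagonal_apply]
    · have : (i, k) ≠ (j, k) := fun h => hij (Prod.ext_iff.1 h).1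
      simp [charmatrix_apply, blockDiagonal_apply, hij, this]
  · have : (i, k) ≠ (j, k') := fun h => hk (Prod.ext_iff.1 h).2
    simp [charmatrix_apply, blockDiagonal_apply, hk, this]

open Matrix Polynomial in
theorem charpoly_blockDiagonal_const {R : Type*} [CommRing R] {n o : Type*} [Fintype n] [DecidableEq n]
    [Fintype o] [DecidableEq o] (N : Matrix n n R) :
    (blockDiagonal fun _ : o => N).charpoly = N.charpoly ^ Fintype.card o := by
  rw [Matrix.charpoly, charmatrix_blockDiagonal, det_blockDiagonal]
  simp [Matrix.charpoly]

open IntermediateField in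
/-- Let L/K be a finite extension and a ∈ L with minimal polynomial P over K. Then P ^ e, with e = [L :
K(a)], is the characteristic polynomial of multiplication by a (the K-linear map x ↦ a x on L), and
e · deg P = [L : K]. -/
theorem result {K L : Type u} [Field K] [Field L] [Algebra K L] [FiniteDimensional K L]
    (a : L) :
    (Algebra.lmul K L a).charpoly = minpoly K a ^ Module.finrank K⟮a⟯ L ∧
      Module.finrank K⟮a⟯ L * (minpoly K a).natDegree = Module.finrank K L := by
  classical
  have hint : IsIntegral K a := Algebra.IsIntegral.isIntegral a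
  let pb := IntermediateField.adjoin.powerBasis hint
  let c := Module.Free.chooseBasis K⟮a⟯ L
  have h2 : Module.finrank K⟮a⟯ L * (minpoly K a).natDegree = Module.finrank K L := by
    rw [← IntermediateField.adjoin.finrank hint, mul_comm]
    exact Module.finrank_mul_finrank K K⟮a⟯ L
  refine ⟨?_, h2⟩
  rw [← LinearMap.charpoly_toMatrix _ (pb.basis.smulTower c)]
  have h1 : LinearMap.toMatrix (pb.basis.smulTower c) (pb.basis.smulTower c) (Algebra.lmul K L a) =
      Algebra.leftMulMatrix (pb.basis.smulTower c) (algebraMap K⟮a⟯ L pb.gen) := by
    rw [Algebra.leftMulMatrix_apply]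
    rfl
  rw [h1, Algebra.smulTower_leftMulMatrix_algebraMap, charpoly_blockDiagonal_const,
    charpoly_leftMulMatrix, Module.finrank_eq_card_chooseBasisIndex]
  congr 1
  exact IntermediateField.minpoly_gen K a

end Groth.Agent.S6364
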