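import Groth.Statements.S6367
import Mathlib

set_option autoImplicit false
universe u
open CAlg

namespace Groth.Agent.S6367

/-- Let 0 → M₁ → M₂ → M₃ → 0 be a short exact sequence of R-modules (f injective, g surjective, image of
f = kernel of g). If M₁ and M₃ are coherent — finitely generated with every finitely generated
submodule finitely presented — then so is M₂. -/
theorem result (R : Type u) [CommRing R] {M₁ M₂ M₃ : Type u}
    [AddCommGroup M₁] [Module R M₁] [AddCommGroup M₂] [Module R M₂] [AddCommGroup M₃] [Module R M₃]
    (f : M₁ →ₗ[R] M₂) (g : M₂ →ₗ[R] M₃) (hf : Function.Injective f) (hg : Function.Surjective g)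
    (hfg : LinearMap.range f = LinearMap.ker g)
    (h₁ : (Module.Finite R M₁ ∧ ∀ N : Submodule R M₁, N.FG → Module.FinitePresentation R N))
    (h₃ : (Module.Finite R M₃ ∧ ∀ N : Submodule R M₃, N.FG → Module.FinitePresentation R N)) :
    (Module.Finite R M₂ ∧ ∀ N : Submodule R M₂, N.FG → Module.FinitePresentation R N) := by
  obtain ⟨hfin₁, hc₁⟩ := h₁
  obtain ⟨hfin₃, hc₃⟩ := h₃
  constructor
  · refine ⟨?_⟩
    apply Submodule.fg_of_fg_map_of_fg_inf_ker g
    · rw [Submodule.map_top, LinearMap.range_eq_top.mpr hg]; exact Module.Finite.fg_top
    · rw [top_inf_eq, ← hfg, ← Submodule.map_top]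
      exact (Module.Finite.fg_top).map f
  · intro N hN
    have hNfin : Module.Finite R N := Module.Finite.iff_fg.mpr hN
    have hfp₃ : Module.FinitePresentation R (N.map g) := hc₃ _ (hN.map g)
    let l : N →ₗ[R] N.map g := g.submoduleMap N
    have hl : Function.Surjective l := g.submoduleMap_surjective N
    have hker : (LinearMap.ker l).FG := Module.FinitePresentation.fg_ker l hl
    -- the submodule of M₁ corresponding to the kernel
    let N₁ : Submodule R M₁ := N.comap f
    let e₀ : N₁ →ₗ[R] LinearMap.ker l :=
      LinearMap.codRestrict (LinearMap.ker l)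
        (LinearMap.codRestrict N (f ∘ₗ N₁.subtype) (fun x => x.2))
        (fun x => by
          rw [LinearMap.mem_ker]
          apply Subtype.ext
          have : g (f x.1) = 0 := by
            have : f x.1 ∈ LinearMap.ker g := hfg ▸ LinearMap.mem_range_self f x.1
            exact this
          simpa [l] using this)
    have he₀ : Function.Bijective e₀ := by
      constructor
      · intro x y hxy
        have := congrArg (fun z : LinearMap.ker l => ((z : N) : M₂)) hxy
        simp only [e₀, LinearMap.codRestrict_apply, LinearMap.comp_apply, Submodule.subtype_apply]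
          at this
        exact Subtype.ext (hf this)
      · intro z
        have hz : g ((z : N) : M₂) = 0 := by
          have h1 : l (z : N) = 0 := z.2
          have h2 := congrArg Subtype.val h1
          exact h2
        have hz' : ((z : N) : M₂) ∈ LinearMap.range f := by rw [hfg]; exact hz
        obtain ⟨x, hx⟩ := hz'
        refine ⟨⟨x, ?_⟩, ?_⟩
        · change f x ∈ N
          rw [hx]; exact (z : N).2
        · apply Subtype.ext; apply Subtype.ext
          simpa [e₀] using hx
    let e : N₁ ≃ₗ[R] LinearMap.ker l := LinearEquiv.ofBijective e₀ he₀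
    have hN₁ : N₁.FG := by
      have : Module.Finite R (LinearMap.ker l) := Module.Finite.iff_fg.mpr hker
      exact Module.Finite.iff_fg.mp (Module.Finite.equiv e.symm)
    have hfp₁ : Module.FinitePresentation R N₁ := hc₁ N₁ hN₁
    have : Module.FinitePresentation R (LinearMap.ker l) := Module.FinitePresentation.of_equiv e
    exact Module.finitePresentation_of_ker l hl

end Groth.Agent.S6367
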