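import Groth.Statements.S6366
import Groth.Agent.S6367

set_option autoImplicit false
universe u
open CAlg

namespace Groth.Agent.S6366

/-- Coherent module (local abbreviation). -/
def Coh (R : Type u) [CommRing R] (M : Type u) [AddCommGroup M] [Module R M] : Prop :=
  Module.Finite R M ∧ ∀ N : Submodule R M, N.FG → Module.FinitePresentation R N

theorem coh_of_equiv {R : Type u} [CommRing R] {M M' : Type u} [AddCommGroup M] [Module R M]
    [AddCommGroup M'] [Module R M'] (e : M ≃ₗ[R] M') (h : Coh R M) : Coh R M' := by
  obtain ⟨h1, h2⟩ := h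
  refine ⟨Module.Finite.equiv e, fun K' hK' => ?_⟩
  have := h2 (K'.map e.symm.toLinearMap) (hK'.map _)
  exact Module.FinitePresentation.of_equiv (e.symm.submoduleMap K').symm

theorem coh_punit (R : Type u) [CommRing R] : Coh R PUnit.{u+1} :=
  ⟨inferInstance, fun _ _ => inferInstance⟩

theorem coh_prod {R : Type u} [CommRing R] {M M' : Type u} [AddCommGroup M] [Module R M]
    [AddCommGroup M'] [Module R M'] (h : Coh R M) (h' : Coh R M') : Coh R (M × M') :=
  Groth.Agent.S6367.result R (LinearMap.inl R M M') (LinearMap.snd R M M')
    LinearMap.inl_injective LinearMap.snd_surjective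
    (by
      ext x
      simp only [LinearMap.mem_range, LinearMap.inl_apply, LinearMap.mem_ker, LinearMap.snd_apply]
      constructor
      · rintro ⟨y, rfl⟩; rfl
      · intro hx; exact ⟨x.1, Prod.ext rfl hx.symm⟩) h h'

theorem coh_fin (R : Type u) [CommRing R]
    (hR : ∀ I : Ideal R, I.FG → Module.FinitePresentation R I) (n : ℕ) : Coh R (Fin n → R) := by
  have hRR : Coh R R := ⟨inferInstance, hR⟩
  exact Module.pi_induction' (ι := Fin n) R (fun N _ _ => Coh R N) (fun N _ _ => Coh R N)
    (fun e h => coh_of_equiv e h) (fun e h => coh_of_equiv e h) (coh_punit R)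
    (fun h h' => coh_prod h h') (fun _ : Fin n => R) (fun _ => hRR)

theorem coh_quot {R : Type u} [CommRing R] {F : Type u} [AddCommGroup F] [Module R F]
    (hF : Coh R F) (K : Submodule R F) (hK : K.FG) : Coh R (F ⧸ K) := by
  obtain ⟨h1, h2⟩ := hF
  refine ⟨inferInstance, fun N hN => ?_⟩
  let N'' : Submodule R F := N.comap K.mkQ
  have hKN : K ≤ N'' := by
    intro x hx
    change K.mkQ x ∈ N
    rw [Submodule.mkQ_apply, (Submodule.Quotient.mk_eq_zero K).mpr hx]
    exact N.zero_mem
  have hmap : N''.map K.mkQ = N := Submodule.map_comap_eq_of_surjective K.mkQ_surjective N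
  have hN'' : N''.FG := by
    apply Submodule.fg_of_fg_map_of_fg_inf_ker K.mkQ
    · rw [hmap]; exact hN
    · rw [Submodule.ker_mkQ, inf_eq_right.mpr hKN]; exact hK
  have hfp : Module.FinitePresentation R N'' := h2 N'' hN''
  let l : N'' →ₗ[R] N := LinearMap.codRestrict N (K.mkQ ∘ₗ N''.subtype) (fun x => x.2)
  have hl : Function.Surjective l := by
    rintro ⟨y, hy⟩
    obtain ⟨x, rfl⟩ := K.mkQ_surjective y
    exact ⟨⟨x, hy⟩, rfl⟩
  have hker : (LinearMap.ker l).FG := by
    have : LinearMap.ker l = K.comap N''.subtype := by
      ext x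
      simp only [LinearMap.mem_ker, Submodule.mem_comap, Submodule.subtype_apply]
      rw [← Submodule.Quotient.mk_eq_zero K]
      constructor
      · intro h; exact congrArg Subtype.val h
      · intro h; exact Subtype.ext h
    rw [this]
    have : Module.Finite R K := Module.Finite.iff_fg.mpr hK
    exact Module.Finite.iff_fg.mp
      (Module.Finite.equiv (Submodule.comapSubtypeEquivOfLe hKN).symm)
  exact Module.finitePresentation_of_surjective l hl hker

/-- Let R be a coherent ring, i.e. every finitely generated ideal of R is finitely presented. Then an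
R-module is coherent (finitely generated, and every finitely generated submodule is finitely
presented) if and only if it is finitely presented. -/
theorem result (R : Type u) [CommRing R]
    (hR : ∀ I : Ideal R, I.FG → Module.FinitePresentation R I) (M : Type u) [AddCommGroup M] [Module R M] :
    (Module.Finite R M ∧ ∀ N : Submodule R M, N.FG → Module.FinitePresentation R N) ↔ Module.FinitePresentation R M := by
  constructor
  · rintro ⟨h1, h2⟩
    have := h2 ⊤ Module.Finite.fg_top
    exact Module.FinitePresentation.of_equiv (Submodule.topEquiv (R := R) (M := M))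
  · intro hM
    obtain ⟨n, K, φ, hK⟩ := Module.FinitePresentation.exists_fin R M
    exact coh_of_equiv φ.symm (coh_quot (coh_fin R hR n) K hK)

end Groth.Agent.S6366
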