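import Groth.Statements.S6368
import Mathlib

set_option autoImplicit false
universe u
open scoped TensorProduct
open CAlg

namespace Groth.Agent.S6368

/-- Let R → S be faithfully flat and M an R-module. If the S-module S ⊗_R M is countably generated then
M is countably generated. -/
theorem result (R S : Type u) [CommRing R] [CommRing S] [Algebra R S]
    [Module.FaithfullyFlat R S] (M : Type u) [AddCommGroup M] [Module R M]
    (h : CAlg.IsCountablyGenerated S (S ⊗[R] M)) : CAlg.IsCountablyGenerated R M := by
  classical
  obtain ⟨s, hs, hspan⟩ := h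
  choose F hF using fun x : S ⊗[R] M => TensorProduct.exists_finset x
  let T : Set M := ⋃ x ∈ s, ((F x).image Prod.snd : Set M)
  have hT : T.Countable :=
    Set.Countable.biUnion hs (fun x _ => Finset.countable_toSet _)
  refine ⟨T, hT, ?_⟩
  let N : Submodule R M := Submodule.span R T
  change N = ⊤
  have hsurj : Function.Surjective N.subtype := by
    rw [← Module.FaithfullyFlat.lTensor_surjective_iff_surjective R S]
    -- the range of the base change, as an `S`-submodule
    let g : S ⊗[R] N →ₗ[S] S ⊗[R] M := N.subtype.baseChange S
    have hg : LinearMap.range g = ⊤ := by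
      rw [eq_top_iff, ← hspan, Submodule.span_le]
      intro x hx
      rw [hF x]
      refine Submodule.sum_mem _ (fun i hi => ?_)
      have hi2 : i.2 ∈ N := by
        apply Submodule.subset_span
        refine Set.mem_biUnion hx ?_
        exact Finset.mem_coe.mpr (Finset.mem_image_of_mem Prod.snd hi)
      exact ⟨i.1 ⊗ₜ[R] ⟨i.2, hi2⟩, by simp [g]⟩
    intro y
    have : y ∈ LinearMap.range g := hg ▸ Submodule.mem_top
    obtain ⟨z, hz⟩ := this
    exact ⟨z, hz⟩
  rw [eq_top_iff]
  intro m _
  obtain ⟨n, hn⟩ := hsurj m
  rw [← hn]
  exact n.2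

end Groth.Agent.S6368
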