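import Groth.Statements.S6371
import Mathlib

set_option autoImplicit false
universe u
open CAlg

namespace Groth.Agent.S6371

open TensorProduct

section

variable (R S : Type u) [CommRing R] [CommRing S] [Algebra R S] (M : Submonoid R)
  (Rp Sp : Type u) [CommRing Rp] [CommRing Sp] [Algebra R Rp] [IsLocalization M Rp]
  [Algebra S Sp] [Algebra R Sp] [IsScalarTower R S Sp]
  [IsLocalization (Algebra.algebraMapSubmonoid S M) Sp]
  [Algebra Rp Sp] [IsScalarTower R Rp Sp]

include M in
theorem epi_iff : Algebra.IsEpi Rp Sp ↔ ∀ x : Sp, (1 : Sp) ⊗ₜ[R] x = x ⊗ₜ[R] (1 : Sp) := by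
  rw [Algebra.isEpi_iff_forall_one_tmul_eq]
  let e := IsLocalization.moduleTensorEquiv M Rp Sp Sp
  have he : ∀ x y : Sp, e (x ⊗ₜ[Rp] y) = x ⊗ₜ[R] y := fun x y => rfl
  constructor
  · intro h x
    have := congrArg e (h x)
    rwa [he, he] at this
  · intro h x
    apply e.injective
    rw [he, he]
    exact h x

/-- The canonical map `S → Sp` as an `R`-linear map. -/
noncomputable def f : S →ₗ[R] Sp := (IsScalarTower.toAlgHom R S Sp).toLinearMap

instance : IsLocalizedModule M (f R S Sp) := by
  unfold f
  infer_instance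

instance : IsLocalizedModule M (TensorProduct.map (f R S Sp) (f R S Sp)) := inferInstance

include M in
theorem forward [Algebra.IsEpi R S] : Algebra.IsEpi Rp Sp := by
  rw [epi_iff R M Rp Sp]
  intro x
  obtain ⟨⟨s, t⟩, hst⟩ := IsLocalization.surj (Algebra.algebraMapSubmonoid S M) x
  obtain ⟨r, hr, hrt⟩ := t.2
  have h1 : r • x = f R S Sp s := by
    change r • x = algebraMap S Sp s
    rw [← hst, Algebra.smul_def, IsScalarTower.algebraMap_apply R S Sp, mul_comm]
    change _ = x * algebraMap S Sp t.1
    rw [← hrt]
  have h2 := congrArg (TensorProduct.map (f R S Sp) (f R S Sp))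
    ((Algebra.isEpi_iff_forall_one_tmul_eq R S).mp inferInstance s)
  simp only [TensorProduct.map_tmul] at h2
  have hf1 : f R S Sp 1 = 1 := map_one (IsScalarTower.toAlgHom R S Sp)
  rw [hf1, ← h1] at h2
  have h3 : (⟨r, hr⟩ : M) • ((1 : Sp) ⊗ₜ[R] x) = (⟨r, hr⟩ : M) • (x ⊗ₜ[R] (1 : Sp)) := by
    change r • ((1 : Sp) ⊗ₜ[R] x) = r • (x ⊗ₜ[R] (1 : Sp))
    rw [← tmul_smul, h2, smul_tmul']
  exact (IsLocalizedModule.smul_inj (TensorProduct.map (f R S Sp) (f R S Sp)) _ _ _).mp h3

end

theorem backward (R S : Type u) [CommRing R] [CommRing S] [Algebra R S]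
    (h : ∀ (p : Ideal R) [p.IsMaximal],
      Algebra.IsEpi (Localization.AtPrime p)
        (Localization (Algebra.algebraMapSubmonoid S p.primeCompl))) :
    Algebra.IsEpi R S := by
  rw [Algebra.isEpi_iff_forall_one_tmul_eq]
  intro s
  apply Module.eq_of_localization_maximal
    (fun p _ => Localization (Algebra.algebraMapSubmonoid S p.primeCompl) ⊗[R]
      Localization (Algebra.algebraMapSubmonoid S p.primeCompl))
    (fun p _ => TensorProduct.map
      (f R S (Localization (Algebra.algebraMapSubmonoid S p.primeCompl)))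
      (f R S (Localization (Algebra.algebraMapSubmonoid S p.primeCompl))))
  intro p hp
  have h1 := (epi_iff R p.primeCompl (Localization.AtPrime p)
    (Localization (Algebra.algebraMapSubmonoid S p.primeCompl))).mp (h p)
  simp only [TensorProduct.map_tmul]
  have hf1 : f R S (Localization (Algebra.algebraMapSubmonoid S p.primeCompl)) 1 = 1 :=
    map_one (IsScalarTower.toAlgHom R S _)
  rw [hf1]
  exact h1 _

/-- A ring map R → S is an epimorphism of rings if and only if for every prime p of R the localized map
R_p → S_p is an epimorphism, where S_p is S localized at the image of R ∖ p. -/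
theorem result (R S : Type u) [CommRing R] [CommRing S] [Algebra R S] :
    Algebra.IsEpi R S ↔ ∀ (p : Ideal R) [p.IsPrime],
      Algebra.IsEpi (Localization.AtPrime p) (Localization (Algebra.algebraMapSubmonoid S p.primeCompl)) := by
  constructor
  · intro h p _
    exact forward R S p.primeCompl (Localization.AtPrime p)
      (Localization (Algebra.algebraMapSubmonoid S p.primeCompl))
  · intro h
    exact backward R S (fun p _ => h p)

end Groth.Agent.S6371
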