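import Groth.Statements.S6372
import Mathlib

set_option autoImplicit false
universe u
open CAlg

namespace Groth.Agent.S6372

open TensorProduct in
theorem aux (R S : Type u) [CommRing R] [CommRing S] [Algebra R S]
    [Module.FaithfullyFlat R S] [Algebra.IsEpi R S] : Function.Bijective (Algebra.linearMap R S) := by
  rw [← Module.FaithfullyFlat.lTensor_bijective_iff_bijective R S]
  have hsurj : Function.Surjective ((Algebra.linearMap R S).lTensor S) := by
    intro x
    induction x using TensorProduct.induction_on with
    | zero => exact ⟨0, by simp⟩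
    | tmul s t =>
      refine ⟨(s * t) ⊗ₜ 1, ?_⟩
      simp only [LinearMap.lTensor_tmul, Algebra.linearMap_apply, map_one]
      calc (s * t) ⊗ₜ[R] (1 : S) = (s ⊗ₜ[R] (1 : S)) * (t ⊗ₜ[R] (1 : S)) := by simp
        _ = (s ⊗ₜ[R] (1 : S)) * ((1 : S) ⊗ₜ[R] t) := by
            rw [(Algebra.isEpi_iff_forall_one_tmul_eq R S).1 inferInstance t]
        _ = s ⊗ₜ[R] t := by simp
    | add a b ha hb =>
      obtain ⟨a', rfl⟩ := ha
      obtain ⟨b', rfl⟩ := hb
      exact ⟨a' + b', map_add _ _ _⟩
  refine ⟨?_, hsurj⟩
  have hcomp : (LinearMap.mul' R S) ∘ₗ ((Algebra.linearMap R S).lTensor S) =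
      (TensorProduct.rid R S).toLinearMap := by
    ext s
    simp
  have : Function.Injective ((LinearMap.mul' R S) ∘ₗ ((Algebra.linearMap R S).lTensor S)) := by
    rw [hcomp]
    exact (TensorProduct.rid R S).injective
  exact Function.Injective.of_comp this

/-- A faithfully flat epimorphism of rings is an isomorphism: if R → S is faithfully flat and an
epimorphism in the category of rings then it is bijective. -/
theorem result (R S : Type u) [CommRing R] [CommRing S] [Algebra R S]
    [Module.FaithfullyFlat R S] [Algebra.IsEpi R S] : Function.Bijective (algebraMap R S) := by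
  exact aux R S

end Groth.Agent.S6372
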