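import Groth.Statements.S6374
import Mathlib

set_option autoImplicit false
universe u
open CAlg

namespace Groth.Agent.S6374

open TensorProduct

/-- Base change of an epimorphism is an epimorphism. -/
theorem isEpi_baseChange (R S A : Type*) [CommRing R] [CommRing S] [CommRing A] [Algebra R S]
    [Algebra R A] [Algebra.IsEpi R S] : Algebra.IsEpi A (A ⊗[R] S) := by
  rw [Algebra.isEpi_iff_forall_one_tmul_eq]
  let Φ : S ⊗[R] S →ₗ[R] (A ⊗[R] S) ⊗[A] (A ⊗[R] S) :=
    TensorProduct.lift (LinearMap.mk₂ R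
      (fun s t => ((1 : A) ⊗ₜ[R] s) ⊗ₜ[A] ((1 : A) ⊗ₜ[R] t))
      (fun s s' t => by simp only [tmul_add, add_tmul])
      (fun r s t => by
        simp only [tmul_smul]
        exact (smul_tmul' r _ _).symm)
      (fun s t t' => by simp only [tmul_add])
      (fun r s t => by
        simp only [tmul_smul]))
  have key : ∀ s : S, ((1 : A) ⊗ₜ[R] (1 : S)) ⊗ₜ[A] ((1 : A) ⊗ₜ[R] s) =
      ((1 : A) ⊗ₜ[R] s) ⊗ₜ[A] ((1 : A) ⊗ₜ[R] (1 : S)) := by
    intro s
    have h := (Algebra.isEpi_iff_forall_one_tmul_eq R S).mp inferInstance s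
    have := congrArg Φ h
    simpa [Φ] using this
  intro x
  induction x using TensorProduct.induction_on with
  | zero => simp
  | tmul a s =>
    have h1 : a ⊗ₜ[R] s = a • ((1 : A) ⊗ₜ[R] s) := by
      rw [smul_tmul', smul_eq_mul, mul_one]
    rw [h1]
    calc (1 : A ⊗[R] S) ⊗ₜ[A] (a • ((1 : A) ⊗ₜ[R] s))
        = a • ((1 : A ⊗[R] S) ⊗ₜ[A] ((1 : A) ⊗ₜ[R] s)) := tmul_smul _ _ _
      _ = a • (((1 : A) ⊗ₜ[R] s) ⊗ₜ[A] (1 : A ⊗[R] S)) := by
          rw [Algebra.TensorProduct.one_def, key s]
      _ = (a • ((1 : A) ⊗ₜ[R] s)) ⊗ₜ[A] (1 : A ⊗[R] S) := smul_tmul' _ _ _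
  | add x y hx hy => rw [tmul_add, add_tmul, hx, hy]

/-- An epimorphism from a field is either zero or an isomorphism. -/
theorem field_epi (K A : Type*) [Field K] [CommRing A] [Algebra K A] [Algebra.IsEpi K A] :
    Subsingleton A ∨ Function.Bijective (algebraMap K A) := by
  rcases subsingleton_or_nontrivial A with h | h
  · exact Or.inl h
  · right
    refine ⟨(algebraMap K A).injective, ?_⟩
    intro a
    have h1 : ¬ ∀ φ : Module.Dual K A, φ (1 : A) = 0 := by
      rw [Module.forall_dual_apply_eq_zero_iff]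
      exact one_ne_zero
    push Not at h1
    obtain ⟨f, hf⟩ := h1
    let g : A ⊗[K] A →ₗ[K] A := (TensorProduct.lid K A).toLinearMap ∘ₗ (f.rTensor A)
    have h2 := congrArg g ((Algebra.isEpi_iff_forall_one_tmul_eq K A).mp inferInstance a)
    simp only [g, LinearMap.coe_comp, LinearEquiv.coe_coe, Function.comp_apply,
      LinearMap.rTensor_tmul, TensorProduct.lid_tmul] at h2
    refine ⟨(f 1)⁻¹ * f a, ?_⟩
    rw [Algebra.algebraMap_eq_smul_one, mul_smul, ← h2, smul_smul, inv_mul_cancel₀ hf, one_smul]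

theorem subsingleton_spec_of (K A : Type*) [Field K] [CommRing A] [Algebra K A]
    (h : Subsingleton A ∨ Function.Bijective (algebraMap K A)) :
    Subsingleton (PrimeSpectrum A) := by
  rcases h with h | h
  · infer_instance
  · exact (PrimeSpectrum.comapEquiv (RingEquiv.ofBijective (algebraMap K A) h)).symm.subsingleton

/-- For an epimorphism of rings R → S, the induced map Spec S → Spec R is injective and induces trivial
residue field extensions; stated in the form the proof gives: for every prime p of R the fibre ring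
S ⊗_R κ(p) is either zero or κ(p) → S ⊗_R κ(p) is bijective, together with injectivity of Spec S →
Spec R. -/
theorem result (R S : Type u) [CommRing R] [CommRing S] [Algebra R S]
    [Algebra.IsEpi R S] :
    Function.Injective (PrimeSpectrum.comap (algebraMap R S)) ∧
      ∀ (p : Ideal R) [p.IsPrime],
        Subsingleton (p.Fiber S) ∨ Function.Bijective (algebraMap p.ResidueField (p.Fiber S)) := by
  have hfib : ∀ (p : Ideal R) [p.IsPrime],
      Subsingleton (p.Fiber S) ∨ Function.Bijective (algebraMap p.ResidueField (p.Fiber S)) := by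
    intro p _
    have : Algebra.IsEpi p.ResidueField (p.Fiber S) := isEpi_baseChange R S p.ResidueField
    exact field_epi p.ResidueField (p.Fiber S)
  refine ⟨?_, hfib⟩
  intro q1 q2 h12
  let p : PrimeSpectrum R := PrimeSpectrum.comap (algebraMap R S) q1
  have : Subsingleton (PrimeSpectrum (p.asIdeal.Fiber S)) :=
    subsingleton_spec_of p.asIdeal.ResidueField _ (hfib p.asIdeal)
  let e := PrimeSpectrum.preimageEquivFiber R S p
  let x1 : PrimeSpectrum.comap (algebraMap R S) ⁻¹' {p} := ⟨q1, rfl⟩
  let x2 : PrimeSpectrum.comap (algebraMap R S) ⁻¹' {p} := ⟨q2, h12.symm⟩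
  have : x1 = x2 := e.injective (Subsingleton.elim _ _)
  exact congrArg Subtype.val this

end Groth.Agent.S6374
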