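import Groth.Statements.S6376
import Mathlib

set_option autoImplicit false
universe u
open CAlg

namespace Groth.Agent.S6376

open TensorProduct in
theorem aux1 (R S : Type u) [CommRing R] [CommRing S] [Algebra R S] [h : Algebra.IsEpi R S]
    (N₁ N₂ : Type u) [AddCommGroup N₁] [Module S N₁] [Module R N₁] [IsScalarTower R S N₁]
    [AddCommGroup N₂] [Module S N₂] [Module R N₂] [IsScalarTower R S N₂] (φ : N₁ →ₗ[R] N₂)
    (s : S) (x : N₁) : φ (s • x) = s • φ x := by
  have h1 : (1 : S) ⊗ₜ[R] (s • x) = s ⊗ₜ[R] x := by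
    apply (TensorProduct.lid' R S N₁).injective
    simp
  let ψ : S ⊗[R] N₁ →ₗ[R] N₂ := TensorProduct.lift
    { toFun := fun a =>
        { toFun := fun m => a • φ m
          map_add' := by intros; simp [smul_add]
          map_smul' := by intro r m; simp only [map_smul, RingHom.id_apply]; rw [smul_comm] }
      map_add' := by intros; ext; simp [add_smul]
      map_smul' := by intros; ext; simp }
  have := congrArg ψ h1
  simpa [ψ] using this

open TensorProduct in
theorem aux2 (R S : Type u) [CommRing R] [CommRing S] [Algebra R S]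
    (h : ∀ (N₁ N₂ : Type u) [AddCommGroup N₁] [Module S N₁] [Module R N₁] [IsScalarTower R S N₁]
        [AddCommGroup N₂] [Module S N₂] [Module R N₂] [IsScalarTower R S N₂] (φ : N₁ →ₗ[R] N₂),
        ∀ (s : S) (x : N₁), φ (s • x) = s • φ x) : Algebra.IsEpi R S := by
  rw [Algebra.isEpi_iff_forall_one_tmul_eq]
  intro a
  let φ : S →ₗ[R] S ⊗[R] S :=
    { toFun := fun x => (1 : S) ⊗ₜ[R] x
      map_add' := by intros; simp [TensorProduct.tmul_add]
      map_smul' := by intros; simp }
  have := h S (S ⊗[R] S) φ a 1
  simpa [φ, TensorProduct.smul_tmul'] using this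

/-- A ring map R → S is an epimorphism if and only if for all S-modules N₁, N₂ every R-linear map N₁ →
N₂ is S-linear, i.e. restriction of scalars from S-modules to R-modules is fully faithful. -/
theorem result (R S : Type u) [CommRing R] [CommRing S] [Algebra R S] :
    Algebra.IsEpi R S ↔
      ∀ (N₁ N₂ : Type u) [AddCommGroup N₁] [Module S N₁] [Module R N₁] [IsScalarTower R S N₁]
        [AddCommGroup N₂] [Module S N₂] [Module R N₂] [IsScalarTower R S N₂] (φ : N₁ →ₗ[R] N₂),
        ∀ (s : S) (x : N₁), φ (s • x) = s • φ x := by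
  constructor
  · intro h N₁ N₂ _ _ _ _ _ _ _ _ φ s x
    exact aux1 R S N₁ N₂ φ s x
  · intro h
    exact aux2 R S h

end Groth.Agent.S6376
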