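import Mathlib
import Groth.Statements.S6378
import Groth.Agent.Lib.Helper18.Tor.Low

set_option autoImplicit false
universe u
open CategoryTheory
open CAlg

namespace Groth.Agent.S6378

open Groth.Agent.Helper18.TorLib Limits

theorem aux (R : Type u) [CommRing R] [IsLocalRing R]
    (M : Type u) [AddCommGroup M] [Module R M]
    (h : Limits.IsZero (((CategoryTheory.Tor (ModuleCat.{u} R) 1).obj
      (ModuleCat.of R (IsLocalRing.ResidueField R))).obj (ModuleCat.of R M))) :
    ∀ (N : Type u) [AddCommGroup N] [Module R N], IsFiniteLength R N →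
      Limits.IsZero (((CategoryTheory.Tor (ModuleCat.{u} R) 1).obj (ModuleCat.of R N)).obj
        (ModuleCat.of R M)) := by
  intro N _ _ hN
  induction hN with
  | of_subsingleton =>
    rename_i N' _ _ _
    have : Module.Flat R (ModuleCat.of R N') := inferInstanceAs (Module.Flat R N')
    exact isZero_tor_succ_of_flat_left (ModuleCat.of R N') (ModuleCat.of R M) 0
  | of_simple_quotient hN' ih =>
    rename_i N' _ _ K hsimple
    let S : ShortComplex (ModuleCat.{u} R) :=
      ShortComplex.mk (ModuleCat.ofHom K.subtype) (ModuleCat.ofHom K.mkQ) (by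
        ext x
        exact (Submodule.Quotient.mk_eq_zero K).2 x.2)
    have hS : S.ShortExact := by
      refine ShortComplex.ShortExact.mk' ?_ ?_ ?_
      · rw [ShortComplex.ShortExact.moduleCat_exact_iff_function_exact]
        exact LinearMap.exact_subtype_mkQ K
      · exact (ModuleCat.mono_iff_injective _).2 (Submodule.injective_subtype _)
      · exact (ModuleCat.epi_iff_surjective _).2 (Submodule.mkQ_surjective _)
    have hex := tor_exact₂ hS (ModuleCat.of R M) 1
    refine hex.isZero_of_both_isZero ih ?_
    obtain ⟨I, hI, ⟨e⟩⟩ := isSimpleModule_iff_quot_maximal.1 hsimple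
    have hIm : I = IsLocalRing.maximalIdeal R := IsLocalRing.eq_maximalIdeal hI
    subst hIm
    let e' : S.X₃ ≅ ModuleCat.of R (IsLocalRing.ResidueField R) := e.toModuleIso
    exact h.of_iso (((CategoryTheory.Tor (ModuleCat.{u} R) 1).mapIso e').app (ModuleCat.of R M))

/-- Let (R, m, κ) be a local ring and M an R-module with Tor_1^R(κ, M) = 0. Then Tor_1^R(N, M) = 0 for
every finite length R-module N. -/
theorem result (R : Type u) [CommRing R] [IsLocalRing R]
    (M : Type u) [AddCommGroup M] [Module R M]
    (h : Limits.IsZero (((CategoryTheory.Tor (ModuleCat.{u} R) 1).obj (ModuleCat.of R (IsLocalRing.ResidueField R))).obj (ModuleCat.of R M)))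
    (N : Type u) [AddCommGroup N] [Module R N] (hN : IsFiniteLength R N) :
    Limits.IsZero (((CategoryTheory.Tor (ModuleCat.{u} R) 1).obj (ModuleCat.of R N)).obj (ModuleCat.of R M)) := by
  exact aux R M h N hN

end Groth.Agent.S6378
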