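import Groth.Statements.S6379
import Mathlib

set_option autoImplicit false
universe u
open scoped TensorProduct
open CAlg

namespace Groth.Agent.S6379

section helpers
open TensorProduct

section
variable (R : Type u) [CommRing R] (M : Type u) [AddCommGroup M] [Module R M]
  (F : Type u) [AddCommGroup F] [Module R F]

lemma range_rTensor_mono {F₁ F₂ : Submodule R F} (h : F₁ ≤ F₂) :
    LinearMap.range (F₁.subtype.rTensor M) ≤ LinearMap.range (F₂.subtype.rTensor M) := by
  have : F₁.subtype = F₂.subtype ∘ₗ Submodule.inclusion h := rfl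
  rw [this, LinearMap.rTensor_comp]
  exact LinearMap.range_comp_le_range _ _

lemma exists_fg_sub (F₀ : Submodule R F) (z : F₀ ⊗[R] M) :
    ∃ F₁ : Submodule R F, F₁ ≤ F₀ ∧ F₁.FG ∧
      (F₀.subtype.rTensor M) z ∈ LinearMap.range (F₁.subtype.rTensor M) := by
  induction z using TensorProduct.induction_on with
  | zero => exact ⟨⊥, bot_le, Submodule.fg_bot, by simp⟩
  | tmul f m =>
    refine ⟨Submodule.span R {(f : F)}, ?_, Submodule.fg_span_singleton _, ?_⟩
    · rw [Submodule.span_singleton_le_iff_mem]; exact f.2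
    · refine ⟨(⟨(f : F), Submodule.mem_span_singleton_self _⟩ : Submodule.span R {(f : F)}) ⊗ₜ m, ?_⟩
      simp
  | add z₁ z₂ h₁ h₂ =>
    obtain ⟨F₁, hF₁, hfg₁, hz₁⟩ := h₁
    obtain ⟨F₂, hF₂, hfg₂, hz₂⟩ := h₂
    refine ⟨F₁ ⊔ F₂, sup_le hF₁ hF₂, hfg₁.sup hfg₂, ?_⟩
    rw [map_add]
    exact Submodule.add_mem _ (range_rTensor_mono R M F le_sup_left hz₁)
      (range_rTensor_mono R M F le_sup_right hz₂)

theorem main6379 [Module.Flat R M] (hM : CAlg.IsMittagLeffler R M) (x : F ⊗[R] M) :
    ∃ F' : Submodule R F, F'.FG ∧ x ∈ LinearMap.range (F'.subtype.rTensor M) ∧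
      ∀ F'' : Submodule R F, x ∈ LinearMap.range (F''.subtype.rTensor M) → F' ≤ F'' := by
  let 𝒮 : Set (Submodule R F) := {F'' | x ∈ LinearMap.range (F''.subtype.rTensor M)}
  let Q : 𝒮 → Type u := fun i => F ⧸ (i : Submodule R F)
  let π : F →ₗ[R] (∀ i : 𝒮, Q i) := LinearMap.pi (fun i => (i : Submodule R F).mkQ)
  let F₀ : Submodule R F := LinearMap.ker π
  have hmin : ∀ F'' : Submodule R F, x ∈ LinearMap.range (F''.subtype.rTensor M) → F₀ ≤ F'' := by
    intro F'' hF'' v hv
    have h1 : π v = 0 := hv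
    have h2 := congrFun h1 (⟨F'', hF''⟩ : 𝒮)
    simp only [π, LinearMap.pi_apply, Pi.zero_apply] at h2
    rwa [Submodule.mkQ_apply, Submodule.Quotient.mk_eq_zero] at h2
  -- x lies in the image of F₀ ⊗ M
  have hx₀ : x ∈ LinearMap.range (F₀.subtype.rTensor M) := by
    have hex := Module.Flat.rTensor_exact M (LinearMap.exact_subtype_ker_map π)
    rw [← hex.linearMap_ker_eq, LinearMap.mem_ker]
    -- use ML
    have hinj := hM 𝒮 Q
    apply (TensorProduct.comm R (∀ i : 𝒮, Q i) M).injective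
    apply hinj
    rw [map_zero, map_zero]
    funext i
    have key : (LinearMap.proj i ∘ₗ TensorProduct.piRightHom R R M Q ∘ₗ
        (TensorProduct.comm R (∀ i : 𝒮, Q i) M).toLinearMap ∘ₗ π.rTensor M) =
        (TensorProduct.comm R (Q i) M).toLinearMap ∘ₗ (i : Submodule R F).mkQ.rTensor M := by
      apply TensorProduct.ext'
      intro f m
      simp [π, TensorProduct.piRightHom_tmul]
      rfl
    have h3 := DFunLike.congr_fun key x
    simp only [LinearMap.comp_apply, LinearMap.proj_apply, LinearEquiv.coe_coe] at h3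
    rw [Pi.zero_apply, h3]
    obtain ⟨z, hz⟩ := i.2
    rw [← hz, ← LinearMap.comp_apply, ← LinearMap.rTensor_comp]
    have : (i : Submodule R F).mkQ ∘ₗ (i : Submodule R F).subtype = 0 := by
      ext v; simp
    rw [this, LinearMap.rTensor_zero, LinearMap.zero_apply, map_zero]
  obtain ⟨z, hz⟩ := hx₀
  obtain ⟨F₁, hF₁, hfg, hz₁⟩ := exists_fg_sub R M F F₀ z
  rw [hz] at hz₁
  have heq : F₀ = F₁ := le_antisymm (hmin F₁ hz₁) hF₁
  exact ⟨F₀, heq ▸ hfg, ⟨z, hz⟩, hmin⟩

end

end helpers

/-- Let M be a flat Mittag-Leffler module over a commutative ring R, F an R-module and x ∈ F ⊗_R M. Then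
among the submodules F' of F with x in the image of F' ⊗ M → F ⊗ M there is a smallest one, and it
is a finitely generated module. -/
theorem result (R : Type u) [CommRing R] (M : Type u)
    [AddCommGroup M] [Module R M] [Module.Flat R M] (hM : CAlg.IsMittagLeffler R M)
    (F : Type u) [AddCommGroup F] [Module R F] (x : F ⊗[R] M) :
    ∃ F' : Submodule R F, F'.FG ∧ x ∈ LinearMap.range (F'.subtype.rTensor M) ∧
      ∀ F'' : Submodule R F, x ∈ LinearMap.range (F''.subtype.rTensor M) → F' ≤ F'' := by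
  exact main6379 R M F hM x

end Groth.Agent.S6379
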