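import Mathlib
import Groth.Statements.S6380

set_option autoImplicit false
universe u
open scoped TensorProduct
open CAlg

namespace Groth.Agent.S6380

/-- Given a linear map f : P → M of R-modules with P finitely presented, an R-module Q and an element x
of P ⊗ Q in the kernel of f ⊗ id_Q, one can factor f as h ∘ f' through some finitely presented
module P' (with f' : P → P' and h : P' → M) so that already f' ⊗ id_Q sends x to zero. -/
theorem result (R : Type u) [CommRing R] {P M Q : Type u}
    [AddCommGroup P] [Module R P] [Module.FinitePresentation R P] [AddCommGroup M] [Module R M]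
    [AddCommGroup Q] [Module R Q] (f : P →ₗ[R] M) (x : P ⊗[R] Q) (hx : f.rTensor Q x = 0) :
    ∃ (P' : Type u) (_ : AddCommGroup P') (_ : Module R P') (_ : Module.FinitePresentation R P')
      (f' : P →ₗ[R] P') (h : P' →ₗ[R] M), f = h ∘ₗ f' ∧ f'.rTensor Q x = 0 := by
  classical
  obtain ⟨n, p, q, rfl⟩ := TensorProduct.exists_sum_tmul_eq x
  -- Step b: a finitely generated submodule of `M` in which the image already vanishes
  set M₀ : Submodule R M := Submodule.span R (Set.range (fun i => f (p i))) with hM₀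
  have hM₀fg : M₀.FG := Submodule.fg_span (Set.finite_range _)
  have hmem₀ : ∀ i, f (p i) ∈ M₀ := fun i => Submodule.subset_span ⟨i, rfl⟩
  let z₀ : M₀ ⊗[R] Q := ∑ i, (⟨f (p i), hmem₀ i⟩ : M₀) ⊗ₜ[R] q i
  have hz₀ : M₀.subtype.rTensor Q z₀ = M₀.subtype.rTensor Q 0 := by
    rw [map_zero, ← hx]
    simp only [z₀, map_sum, LinearMap.rTensor_tmul, Submodule.subtype_apply]
  obtain ⟨M₁, hM₁fg, hle, hz₁⟩ := hM₀fg.exists_rTensor_fg_inclusion_eq hz₀
  rw [map_zero] at hz₁
  have hmem₁ : ∀ i, f (p i) ∈ M₁ := fun i => hle (hmem₀ i)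
  obtain ⟨l, t, ht⟩ := Submodule.fg_iff_exists_fin_generating_family.1 hM₁fg
  have htmem : ∀ i, t i ∈ M₁ := fun i => ht ▸ Submodule.subset_span ⟨i, rfl⟩
  -- Step d: spanning family of `M₁`
  let m : Fin n ⊕ Fin l → M₁ := Sum.elim (fun i => ⟨f (p i), hmem₁ i⟩) (fun i => ⟨t i, htmem i⟩)
  let nn : Fin n ⊕ Fin l → Q := Sum.elim q (fun _ => 0)
  have hmspan : Submodule.span R (Set.range m) = ⊤ := by
    rw [eq_top_iff]
    rintro ⟨y, hy⟩ -
    have hy' : y ∈ Submodule.span R (Set.range t) := by rw [ht]; exact hy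
    have key : ∀ y ∈ Submodule.span R (Set.range t), ∀ hy : y ∈ M₁,
        (⟨y, hy⟩ : M₁) ∈ Submodule.span R (Set.range m) := by
      intro y hy
      induction hy using Submodule.span_induction with
      | mem y h =>
        obtain ⟨i, rfl⟩ := h
        intro _
        exact Submodule.subset_span ⟨Sum.inr i, rfl⟩
      | zero =>
        intro _
        exact Submodule.zero_mem _
      | add a b ha hb iha ihb =>
        intro _
        have ha' : a ∈ M₁ := ht ▸ ha
        have hb' : b ∈ M₁ := ht ▸ hb
        exact Submodule.add_mem _ (iha ha') (ihb hb')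
      | smul c a ha iha =>
        intro _
        have ha' : a ∈ M₁ := ht ▸ ha
        exact Submodule.smul_mem _ c (iha ha')
    exact key y hy' hy
  have hsum : ∑ i, m i ⊗ₜ[R] nn i = (0 : M₁ ⊗[R] Q) := by
    rw [Fintype.sum_sum_type]
    simp only [m, nn, Sum.elim_inl, Sum.elim_inr, TensorProduct.tmul_zero, Finset.sum_const_zero,
      add_zero]
    rw [← hz₁]
    simp only [z₀, map_sum, LinearMap.rTensor_tmul]
    rfl
  obtain ⟨k, a, y, hay, ham⟩ := TensorProduct.vanishesTrivially_of_sum_tmul_eq_zero R hmspan hsum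
  -- Step f: the finitely presented module `P'`
  let e : Fin n ⊕ Fin l → P × (Fin l → R) :=
    Sum.elim (fun i => (p i, 0)) (fun i => (0, Pi.single i 1))
  let r : Fin k → P × (Fin l → R) := fun j => ∑ i, a i j • e i
  let L : Submodule R (P × (Fin l → R)) := Submodule.span R (Set.range r)
  have hLfg : L.FG := Submodule.fg_span (Set.finite_range _)
  let h₀ : P × (Fin l → R) →ₗ[R] M :=
    f ∘ₗ LinearMap.fst R P (Fin l → R) +
      (Fintype.linearCombination R t) ∘ₗ LinearMap.snd R P (Fin l → R)
  have h₀e : ∀ i, h₀ (e i) = (m i : M) := by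
    rintro (i | i)
    · simp [h₀, e, m]
    · simp [h₀, e, m, Fintype.linearCombination_apply_single]
  have hL : L ≤ LinearMap.ker h₀ := by
    rw [Submodule.span_le]
    rintro _ ⟨j, rfl⟩
    rw [SetLike.mem_coe, LinearMap.mem_ker]
    simp only [r, map_sum, map_smul, h₀e]
    have := congrArg (Submodule.subtype M₁) (ham j)
    simpa using this
  have hP' : Module.FinitePresentation R ((P × (Fin l → R)) ⧸ L) :=
    Module.finitePresentation_of_surjective L.mkQ (Submodule.mkQ_surjective _)
      (by rw [Submodule.ker_mkQ]; exact hLfg)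
  refine ⟨(P × (Fin l → R)) ⧸ L, inferInstance, inferInstance, hP',
    L.mkQ ∘ₗ LinearMap.inl R P (Fin l → R), L.liftQ h₀ hL, ?_, ?_⟩
  · ext x
    simp [h₀]
  · have hvan : TensorProduct.VanishesTrivially R (fun i => L.mkQ (e i)) nn := by
      refine ⟨k, a, y, hay, fun j => ?_⟩
      have h1 : ∑ i, a i j • L.mkQ (e i) = L.mkQ (r j) := by
        simp only [r, map_sum, map_smul]
      show ∑ i, a i j • L.mkQ (e i) = 0
      rw [h1]
      exact (Submodule.Quotient.mk_eq_zero L).2 (Submodule.subset_span ⟨j, rfl⟩)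
    have h2 := TensorProduct.sum_tmul_eq_zero_of_vanishesTrivially R hvan
    rw [Fintype.sum_sum_type] at h2
    simp only [nn, Sum.elim_inl, Sum.elim_inr, TensorProduct.tmul_zero, Finset.sum_const_zero,
      add_zero] at h2
    rw [map_sum]
    simp only [LinearMap.rTensor_tmul]
    exact h2

end Groth.Agent.S6380
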