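import Groth.Statements.S6382
import Groth.Agent.Lib.Helper1.LocalCriterion

set_option autoImplicit false
universe u
open CAlg

namespace Groth.Agent.S6382

open TensorProduct IsLocalRing Function

theorem flat_tensor_of_flat (R S S' M : Type u) [CommRing R] [CommRing S] [CommRing S']
    [Algebra R S] [Algebra S S'] [Algebra R S'] [IsScalarTower R S S'] [Module.Flat S S']
    [AddCommGroup M] [Module S M] [Module R M] [IsScalarTower R S M] [Module.Flat R M] :
    Module.Flat R (S' ⊗[S] M) := by
  rw [Module.Flat.iff_lTensor_preserves_injective_linearMap]
  intro N N' _ _ _ _ f hf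
  have key : ∀ x, AlgebraTensorModule.assoc R S S' S' M N' (f.lTensor (S' ⊗[S] M) x) =
      (AlgebraTensorModule.lTensor S M f).lTensor S' (AlgebraTensorModule.assoc R S S' S' M N x) := by
    intro x
    induction x using TensorProduct.induction_on with
    | zero => simp
    | add x y hx hy => simp only [map_add, hx, hy]
    | tmul y n =>
      induction y using TensorProduct.induction_on with
      | zero => simp
      | add y z hy hz => simp only [add_tmul, map_add, hy, hz]
      | tmul s m => simp
  have h1 : Injective (AlgebraTensorModule.lTensor S M f) := by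
    rw [AlgebraTensorModule.coe_lTensor]
    exact Module.Flat.lTensor_preserves_injective_linearMap f hf
  have h2 : Injective ((AlgebraTensorModule.lTensor S M f).lTensor S') :=
    Module.Flat.lTensor_preserves_injective_linearMap _ h1
  intro x y hxy
  apply (AlgebraTensorModule.assoc R S S' S' M N).injective
  apply h2
  rw [← key, ← key, hxy]

/-- Consider a commutative square of local rings and local homomorphisms R → S, R → R', S → S', R' → S',
and a finite S-module M. Assume the maps R → R' and S → S' are flat, M is flat over R, the maximal
ideal of R generates the maximal ideal of R', and R', S' are Noetherian. Then M' = M ⊗_S S' (any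
base change of M along S → S') is flat over R'. -/
theorem result (R S R' S' : Type u) [CommRing R] [CommRing S]
    [CommRing R'] [CommRing S'] [IsLocalRing R] [IsLocalRing S] [IsLocalRing R'] [IsLocalRing S']
    [Algebra R S] [Algebra R R'] [Algebra S S'] [Algebra R' S'] [Algebra R S']
    [IsScalarTower R S S'] [IsScalarTower R R' S']
    [IsLocalHom (algebraMap R S)] [IsLocalHom (algebraMap R R')] [IsLocalHom (algebraMap S S')]
    [IsLocalHom (algebraMap R' S')] [Module.Flat R R'] [Module.Flat S S']
    [IsNoetherianRing R'] [IsNoetherianRing S']
    (hm : (IsLocalRing.maximalIdeal R).map (algebraMap R R') = IsLocalRing.maximalIdeal R')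
    (M : Type u) [AddCommGroup M] [Module S M] [Module R M] [IsScalarTower R S M] [Module.Finite S M]
    [Module.Flat R M]
    (M' : Type u) [AddCommGroup M'] [Module S' M'] [Module S M'] [IsScalarTower S S' M'] [Module R' M']
    [IsScalarTower R' S' M'] (j : M →ₗ[S] M') (hj : IsBaseChange S' j) :
    Module.Flat R' M' := by
  classical
  let _ : Module R M' := Module.compHom M' (algebraMap R R')
  have hsmul : ∀ (r : R) (x : M'), r • x = algebraMap R R' r • x := fun r x => rfl
  have : IsScalarTower R R' M' := ⟨fun r r' x => by
    rw [hsmul, Algebra.smul_def, mul_smul]⟩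
  have : IsScalarTower R S' M' := IsScalarTower.of_algebraMap_smul fun r x => by
    rw [hsmul, IsScalarTower.algebraMap_apply R R' S', algebraMap_smul]
  have : Module.Flat R (S' ⊗[S] M) := flat_tensor_of_flat R S S' M
  have hflatR : Module.Flat R M' :=
    Module.Flat.of_linearEquiv (hj.equiv.restrictScalars R).symm
  have H1 := Groth.Agent.Helper1.rTensor_map_subtype_injective_of_flat (R := R) (S := R') (M := M')
    (maximalIdeal R)
  rw [hm] at H1
  have : Module.Finite S' M' := Module.Finite.equiv hj.equiv
  let _ : Field (R' ⧸ maximalIdeal R') := Ideal.Quotient.field _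
  have : Module.Flat (R' ⧸ maximalIdeal R') ((R' ⧸ maximalIdeal R') ⊗[R'] M') := inferInstance
  refine Groth.Agent.Helper1.flat_of_flat_quotient_pow (S := S') (maximalIdeal R') ?_ ?_
  · rw [IsLocalRing.jacobson_eq_maximalIdeal ⊥ bot_ne_top]
    exact ((IsLocalRing.local_hom_TFAE (algebraMap R' S')).out 0 2).mp ‹IsLocalHom (algebraMap R' S')›
  · intro n _
    exact Groth.Agent.Helper1.flat_quotient_pow (maximalIdeal R') H1 n

end Groth.Agent.S6382
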