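import Groth.Statements.S6386
import Mathlib

set_option autoImplicit false
universe u
open CAlg

namespace Groth.Agent.S6386
section helpers
open Opposite
set_option linter.unusedSectionVars false

open Cardinal

variable (A B : Type u) [CommRing A] [CommRing B] [Algebra A B]

/-- witnesses for relations among elements of `S` -/
noncomputable def wit [Module.Flat A B] (S : Subalgebra A B) : (List (A × S)) × ℕ → B := fun p =>
  by
    classical
    exact
      if h : (∑ i : Fin p.1.length, (p.1.get i).1 • ((p.1.get i).2 : B)) = 0 then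
        let t := (Module.Flat.iff_forall_isTrivialRelation.mp ‹Module.Flat A B› h)
        if hj : p.2 < t.choose then t.choose_spec.choose_spec.choose ⟨p.2, hj⟩ else 0
      else 0

noncomputable def next [Module.Flat A B] (S : Subalgebra A B) : Subalgebra A B :=
  Algebra.adjoin A ((S : Set B) ∪ Set.range (wit A B S))

lemma le_next [Module.Flat A B] (S : Subalgebra A B) : S ≤ next A B S := by
  intro x hx
  exact Algebra.subset_adjoin (Or.inl hx)

lemma next_spec [Module.Flat A B] (S : Subalgebra A B) {l : ℕ} (f : Fin l → A) (x : Fin l → B)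
    (hx : ∀ i, x i ∈ S) (h : ∑ i, f i • x i = 0) :
    ∃ (k : ℕ) (a : Fin l → Fin k → A) (y : Fin k → B),
      (∀ j, y j ∈ next A B S) ∧ (∀ i, x i = ∑ j, a i j • y j) ∧ ∀ j, ∑ i, f i * a i j = 0 := by
  classical
  -- the list
  let L : List (A × S) := List.ofFn fun i : Fin l => (f i, (⟨x i, hx i⟩ : S))
  have hlen : L.length = l := List.length_ofFn
  have hL : (∑ i : Fin L.length, (L.get i).1 • ((L.get i).2 : B)) = 0 := by
    rw [← h]
    refine Fintype.sum_equiv (finCongr hlen) _ _ ?_
    intro i
    simp [L]
    rfl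
  set t := (Module.Flat.iff_forall_isTrivialRelation.mp ‹Module.Flat A B› hL) with ht
  obtain ⟨h1, h2⟩ := t.choose_spec.choose_spec.choose_spec
  refine ⟨t.choose, fun i => t.choose_spec.choose (finCongr hlen.symm i),
    t.choose_spec.choose_spec.choose, ?_, ?_, ?_⟩
  · intro j
    apply Algebra.subset_adjoin
    right
    refine ⟨(L, j.1), ?_⟩
    simp only [wit]
    rw [dif_pos hL, dif_pos j.2]
  · intro i
    have := h1 (finCongr hlen.symm i)
    simpa [L] using this
  · intro j
    refine Eq.trans ?_ (h2 j)
    refine (Fintype.sum_equiv (finCongr hlen) _ _ ?_).symm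
    intro i
    simp [L]
    rfl


lemma card_next [Module.Flat A B] (S : Subalgebra A B)
    (hS : Cardinal.mk S ≤ max (Cardinal.mk A) Cardinal.aleph0) :
    Cardinal.mk (next A B S) ≤ max (Cardinal.mk A) Cardinal.aleph0 := by
  set κ := max (Cardinal.mk A) Cardinal.aleph0 with hκdef
  have hκ : ℵ₀ ≤ κ := le_max_right _ _
  have hA : #A ≤ κ := le_max_left _ _
  have hmul : κ * κ = κ := Cardinal.mul_eq_self hκ
  have hadd : κ + κ = κ := Cardinal.add_eq_self hκ
  have h1 : #(A × S) ≤ κ := by
    rw [Cardinal.mk_prod, Cardinal.lift_id, Cardinal.lift_id]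
    calc #A * #S ≤ κ * κ := mul_le_mul' hA hS
      _ = κ := hmul
  have h2 : #(List (A × S)) ≤ κ := by
    refine (Cardinal.mk_list_le_max _).trans ?_
    exact max_le hκ h1
  have h3 : #(List (A × S) × ℕ) ≤ κ := by
    simp only [Cardinal.mk_prod, Cardinal.lift_uzero, Cardinal.mk_nat, Cardinal.lift_aleph0]
    calc #(List (A × S)) * ℵ₀ ≤ κ * κ := mul_le_mul' h2 hκ
      _ = κ := hmul
  have h4 : #(Set.range (wit A B S)) ≤ κ := Cardinal.mk_range_le.trans h3
  have h5 : #(((S : Set B) ∪ Set.range (wit A B S) : Set B)) ≤ κ := by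
    refine (Cardinal.mk_union_le _ _).trans ?_
    calc #(S : Set B) + #(Set.range (wit A B S)) ≤ κ + κ := add_le_add hS h4
      _ = κ := hadd
  refine (Algebra.cardinalMk_adjoin_le A _).trans ?_
  exact sup_le (sup_le hA h5) hκ

noncomputable def chain [Module.Flat A B] (E : Subalgebra A B) : ℕ → Subalgebra A B
  | 0 => E
  | (n+1) => next A B (chain E n)

lemma chain_mono [Module.Flat A B] (E : Subalgebra A B) : Monotone (chain A B E) :=
  monotone_nat_of_le_succ fun n => le_next A B _

lemma card_chain [Module.Flat A B] (E : Subalgebra A B)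
    (hE : Cardinal.mk E ≤ max (Cardinal.mk A) Cardinal.aleph0) (n : ℕ) :
    Cardinal.mk (chain A B E n) ≤ max (Cardinal.mk A) Cardinal.aleph0 := by
  induction n with
  | zero => exact hE
  | succ n ih => exact card_next A B _ ih

theorem main6386 [Module.Flat A B] (E : Subalgebra A B)
    (hE : Cardinal.mk E ≤ max (Cardinal.mk A) Cardinal.aleph0) :
    ∃ B' : Subalgebra A B, E ≤ B' ∧ Module.Flat A B' ∧
      Cardinal.mk B' ≤ max (Cardinal.mk A) Cardinal.aleph0 := by
  classical
  have hdir : Directed (· ≤ ·) (chain A B E) := (chain_mono A B E).directed_le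
  refine ⟨⨆ n, chain A B E n, le_iSup (chain A B E) 0, ?_, ?_⟩
  · rw [Module.Flat.iff_forall_isTrivialRelation]
    intro l f x h
    have hmem : ∀ i, ∃ n, (x i : B) ∈ chain A B E n := by
      intro i
      have := (x i).2
      rw [← SetLike.mem_coe, Subalgebra.coe_iSup_of_directed hdir, Set.mem_iUnion] at this
      exact this
    choose n hn using hmem
    let N := Finset.univ.sup n
    have hN : ∀ i, (x i : B) ∈ chain A B E N := fun i =>
      chain_mono A B E (Finset.le_sup (Finset.mem_univ i)) (hn i)
    have h' : ∑ i, f i • (x i : B) = 0 := by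
      have := congrArg (Subtype.val) h
      simpa using this
    obtain ⟨k, a, y, hy, hxy, hfa⟩ := next_spec A B (chain A B E N) f (fun i => (x i : B)) hN h'
    have hy' : ∀ j, y j ∈ ⨆ n, chain A B E n := fun j =>
      (le_iSup (chain A B E) (N+1)) (hy j)
    refine ⟨k, a, fun j => ⟨y j, hy' j⟩, ?_, hfa⟩
    intro i
    apply Subtype.ext
    rw [hxy i]
    simp
  · set κ := max (Cardinal.mk A) Cardinal.aleph0 with hκdef
    have hκ : ℵ₀ ≤ κ := le_max_right _ _
    have hcoe : ((⨆ n, chain A B E n : Subalgebra A B) : Set B) = ⋃ n, (chain A B E n : Set B) :=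
      Subalgebra.coe_iSup_of_directed hdir
    have : #(⨆ n, chain A B E n : Subalgebra A B) = #(⋃ n, (chain A B E n : Set B)) := by
      change #((⨆ n, chain A B E n : Subalgebra A B) : Set B) = _
      rw [hcoe]
    rw [this]
    have hle := Cardinal.mk_iUnion_le_sum_mk_lift (f := fun n => (chain A B E n : Set B))
    rw [Cardinal.lift_uzero] at hle
    refine hle.trans ?_
    refine (Cardinal.sum_le_sum _ (fun _ => κ) (fun n => card_chain A B E hE n)).trans ?_
    simp only [Cardinal.sum_const, Cardinal.lift_uzero, Cardinal.mk_nat, Cardinal.lift_aleph0,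
      Cardinal.lift_id]
    calc ℵ₀ * κ ≤ κ * κ := mul_le_mul' hκ le_rfl
      _ = κ := Cardinal.mul_eq_self hκ


end helpers

/-- The key step of its proof: let A be a ring, κ = max(|A|, ℵ₀), and B a flat A-algebra. Then every
A-subalgebra E ⊆ B with at most κ elements lies inside a flat A-subalgebra B' ⊆ B with at most κ
elements. Consequently B is the filtered colimit (union) of its flat A-subalgebras of cardinality at
most κ. -/
theorem result (A B : Type u) [CommRing A] [CommRing B] [Algebra A B]
    [Module.Flat A B] (E : Subalgebra A B) (hE : Cardinal.mk E ≤ max (Cardinal.mk A) Cardinal.aleph0) :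
    ∃ B' : Subalgebra A B, E ≤ B' ∧ Module.Flat A B' ∧ Cardinal.mk B' ≤ max (Cardinal.mk A) Cardinal.aleph0 := by
  exact main6386 A B E hE

end Groth.Agent.S6386
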