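import Mathlib
import Groth.Statements.S6388

set_option autoImplicit false
universe u
open CAlg

namespace Groth.Agent.S6388

/-- Let f : M → N and g : M → M' be maps of R-modules and let N' be their pushout, realised as the
quotient of M' × N by the submodule of elements (g x, -f x). Then g dominates f — for every module Q
the kernel of f ⊗ id_Q is contained in the kernel of g ⊗ id_Q — if and only if the canonical map M'
→ N' is universally injective. -/
theorem result (R : Type u) [CommRing R] {M N M' : Type u}
    [AddCommGroup M] [Module R M] [AddCommGroup N] [Module R N] [AddCommGroup M'] [Module R M']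
    (f : M →ₗ[R] N) (g : M →ₗ[R] M') :
    (∀ (Q : Type u) [AddCommGroup Q] [Module R Q], LinearMap.ker (f.rTensor Q) ≤ LinearMap.ker (g.rTensor Q)) ↔
      CAlgX.UniversallyInjective R
        ((LinearMap.range (g.prod (-f))).mkQ ∘ₗ LinearMap.inl R M' N) := by
  classical
  set h : M →ₗ[R] M' × N := g.prod (-f) with hh
  set P : Submodule R (M' × N) := LinearMap.range h with hP
  have hfst : (LinearMap.fst R M' N) ∘ₗ h = g := by ext x; rfl
  have hsnd : (LinearMap.snd R M' N) ∘ₗ h = -f := by ext x; rfl
  have hfi : (LinearMap.fst R M' N) ∘ₗ (LinearMap.inl R M' N) = LinearMap.id := by ext x; rfl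
  have hsi : (LinearMap.snd R M' N) ∘ₗ (LinearMap.inl R M' N) = 0 := by ext x; rfl
  constructor
  · intro H Q _ _
    rw [injective_iff_map_eq_zero]
    intro m' hm'
    have hex : Function.Exact (h.rTensor Q) (P.mkQ.rTensor Q) :=
      rTensor_exact Q (LinearMap.exact_map_mkQ_range h) (Submodule.mkQ_surjective _)
    rw [LinearMap.rTensor_comp, LinearMap.comp_apply] at hm'
    obtain ⟨t, ht⟩ := (hex _).1 hm'
    have h1 : g.rTensor Q t = m' := by
      have := congrArg ((LinearMap.fst R M' N).rTensor Q) ht
      rw [← LinearMap.comp_apply, ← LinearMap.rTensor_comp, hfst, ← LinearMap.comp_apply,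
        ← LinearMap.rTensor_comp, hfi, LinearMap.rTensor_id, LinearMap.id_apply] at this
      exact this
    have h2 : f.rTensor Q t = 0 := by
      have := congrArg ((LinearMap.snd R M' N).rTensor Q) ht
      rw [← LinearMap.comp_apply, ← LinearMap.rTensor_comp, hsnd, ← LinearMap.comp_apply,
        ← LinearMap.rTensor_comp, hsi, LinearMap.rTensor_zero, LinearMap.zero_apply,
        LinearMap.rTensor_neg, LinearMap.neg_apply, neg_eq_zero] at this
      exact this
    have h3 : g.rTensor Q t = 0 := H Q h2
    rw [← h1, h3]
  · intro H Q _ _ t ht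
    rw [LinearMap.mem_ker] at ht ⊢
    apply H Q
    rw [map_zero, ← LinearMap.comp_apply, ← LinearMap.rTensor_comp]
    have hcomp : (P.mkQ ∘ₗ LinearMap.inl R M' N) ∘ₗ g = (P.mkQ ∘ₗ LinearMap.inr R M' N) ∘ₗ f := by
      ext x
      simp only [LinearMap.comp_apply, LinearMap.inl_apply, LinearMap.inr_apply,
        Submodule.mkQ_apply]
      rw [Submodule.Quotient.eq]
      refine ⟨x, ?_⟩
      simp [hh]
    rw [hcomp, LinearMap.rTensor_comp, LinearMap.comp_apply, ht, map_zero]

end Groth.Agent.S6388
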