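import Groth.Statements.S6392
import Mathlib
import Groth.Agent.S6357

set_option autoImplicit false
universe u
open CAlg

namespace Groth.Agent.S6392

/-- Suppose M is the colimit of finitely presented R-modules G_i along a directed system over a nonempty
directed index set (transition maps f_ij), and M is both Mittag-Leffler and countably generated.
Then some countable directed subset I' of the indices already computes M: the canonical map from the
colimit of the G_i with i ∈ I' to M is bijective. -/
theorem result (R : Type u) [CommRing R]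
    {ι : Type u} [Preorder ι] [IsDirected ι (· ≤ ·)] [Nonempty ι] [DecidableEq ι] (G : ι → Type u)
    [∀ i, AddCommGroup (G i)] [∀ i, Module R (G i)] [∀ i, Module.FinitePresentation R (G i)]
    (f : ∀ i j, i ≤ j → G i →ₗ[R] G j) [DirectedSystem G fun i j h => f i j h]
    (hML : CAlg.IsMittagLeffler R (Module.DirectLimit G f))
    (hc : CAlg.IsCountablyGenerated R (Module.DirectLimit G f)) :
    ∃ I' : Set ι, I'.Countable ∧ DirectedOn (· ≤ ·) I' ∧
      Function.Bijective (Module.DirectLimit.lift R I' (fun i : I' => G i.1)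
        (fun (i j : I') (h : i ≤ j) => f i.1 j.1 h)
        (fun i : I' => Module.DirectLimit.of R ι G f i.1)
        (fun (i j : I') (h : i ≤ j) (x : G i.1) => Module.DirectLimit.of_f)) := by
  classical
  -- ML indices
  have hJ : ∀ i, ∃ j, ∃ hij : i ≤ j, ∀ y : G i,
      Module.DirectLimit.of R ι G f i y = 0 → f i j hij y = 0 := by
    intro i
    obtain ⟨j, hij, H⟩ := Groth.Agent.S6357.fwd G f hML i
    refine ⟨j, hij, fun y hy => ?_⟩
    obtain ⟨k, hik, hk⟩ := Module.DirectLimit.of.zero_exact hy
    obtain ⟨h, hh⟩ := H k hik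
    rw [hh, LinearMap.comp_apply, hk, map_zero]
  choose J hJle hJ0 using hJ
  -- generators
  obtain ⟨s, hs, hspan⟩ := hc
  have hs' : (insert 0 s).Countable := hs.insert 0
  obtain ⟨g, hg⟩ := hs'.exists_eq_range (Set.insert_nonempty 0 s)
  have hM : ∀ n, ∃ m, ∃ y : G m, Module.DirectLimit.of R ι G f m y = g n :=
    fun n => Module.DirectLimit.exists_of (g n)
  choose m y hy using hM
  -- the sequence
  let next : ℕ → ι → ι := fun n i => Classical.choose (exists_ge_ge (J i) (m n))
  have hnext1 : ∀ n i, J i ≤ next n i :=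
    fun n i => (Classical.choose_spec (exists_ge_ge (J i) (m n))).1
  have hnext2 : ∀ n i, m n ≤ next n i :=
    fun n i => (Classical.choose_spec (exists_ge_ge (J i) (m n))).2
  let i : ℕ → ι := fun n => Nat.rec (Classical.arbitrary ι) (fun n prev => next n prev) n
  have hi_succ : ∀ n, i (n + 1) = next n (i n) := fun n => rfl
  have hstep : ∀ n, J (i n) ≤ i (n + 1) := fun n => by rw [hi_succ]; exact hnext1 n (i n)
  have hstep' : ∀ n, m n ≤ i (n + 1) := fun n => by rw [hi_succ]; exact hnext2 n (i n)
  have hmono : Monotone i :=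
    monotone_nat_of_le_succ (fun n => (hJle (i n)).trans (hstep n))
  have hdir : DirectedOn (· ≤ ·) (Set.range i) := by
    rintro _ ⟨p, rfl⟩ _ ⟨q, rfl⟩
    exact ⟨i (max p q), ⟨_, rfl⟩, hmono (le_max_left p q), hmono (le_max_right p q)⟩
  refine ⟨Set.range i, Set.countable_range i, hdir, ?_, ?_⟩
  · -- injective
    haveI : Nonempty (Set.range i) := ⟨⟨i 0, 0, rfl⟩⟩
    haveI : IsDirected (Set.range i) (· ≤ ·) := ⟨fun a b => by
      obtain ⟨c, hc, hac, hbc⟩ := hdir a.1 a.2 b.1 b.2
      exact ⟨⟨c, hc⟩, hac, hbc⟩⟩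
    rw [injective_iff_map_eq_zero]
    intro z hz
    obtain ⟨⟨_, p, rfl⟩, w, rfl⟩ := Module.DirectLimit.exists_of z
    rw [Module.DirectLimit.lift_of] at hz
    have h1 : f (i p) (J (i p)) (hJle (i p)) w = 0 := hJ0 (i p) w hz
    have h2 : f (i p) (i (p + 1)) ((hJle (i p)).trans (hstep p)) w = 0 := by
      rw [← DirectedSystem.map_map' f (hJle (i p)) (hstep p) w, h1, map_zero]
    have hle : (⟨i p, p, rfl⟩ : Set.range i) ≤ ⟨i (p + 1), p + 1, rfl⟩ :=
      (hJle (i p)).trans (hstep p)
    rw [← Module.DirectLimit.of_f (hij := hle)]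
    show Module.DirectLimit.of R (Set.range i) (fun a : Set.range i => G a.1)
      (fun (a b : Set.range i) (h : a ≤ b) => f a.1 b.1 h) ⟨i (p + 1), p + 1, rfl⟩
      (f (i p) (i (p + 1)) ((hJle (i p)).trans (hstep p)) w) = 0
    rw [h2, map_zero]
  · -- surjective
    rw [← LinearMap.range_eq_top, eq_top_iff, ← hspan, Submodule.span_le]
    intro x hx
    have hx' : x ∈ Set.range g := by rw [← hg]; exact Set.mem_insert_of_mem 0 hx
    obtain ⟨n, rfl⟩ := hx'
    refine ⟨Module.DirectLimit.of R (Set.range i) (fun a : Set.range i => G a.1)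
      (fun (a b : Set.range i) (h : a ≤ b) => f a.1 b.1 h) ⟨i (n + 1), n + 1, rfl⟩
      (f (m n) (i (n + 1)) (hstep' n) (y n)), ?_⟩
    rw [Module.DirectLimit.lift_of]
    show Module.DirectLimit.of R ι G f (i (n + 1)) (f (m n) (i (n + 1)) (hstep' n) (y n)) = g n
    rw [Module.DirectLimit.of_f, hy]

end Groth.Agent.S6392
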