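import Groth.Statements.S6394
import Groth.Agent.S6395

set_option autoImplicit false
open CategoryTheory
universe v u
open FibCat

namespace Groth.Agent.S6394

open CategoryTheory Functor

theorem fibered_of_equiv {C : Type u} [Category.{v} C] {𝒳 𝒴 : BasedCategory.{v, max u v} C}
    (F : 𝒳 ⥤ᵇ 𝒴) (G : 𝒴 ⥤ᵇ 𝒳) (η : BasedFunctor.comp F G ≅ BasedFunctor.id 𝒳)
    (ε : BasedFunctor.comp G F ≅ BasedFunctor.id 𝒴) [h : 𝒳.p.IsFibered] : 𝒴.p.IsFibered := by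
  have := S6395.isEquivalence F G η ε
  apply Functor.IsFibered.of_exists_isStronglyCartesian
  intro b' R f
  obtain ⟨b₀, e, he⟩ := S6395.ess_surj F G ε b'
  have hb₀ : 𝒳.p.obj b₀ = 𝒴.p.obj b' := by
    rw [← F.w_obj]; exact IsHomLift.domain_eq 𝒴.p (𝟙 _) e.hom
  obtain ⟨a, φ, hφ⟩ := IsPreFibered.exists_isCartesian 𝒳.p hb₀ f
  have h1 : 𝒳.p.IsStronglyCartesian f φ := inferInstance
  have h2 : 𝒴.p.IsStronglyCartesian f (F.map φ) :=
    S6395.general F (S6395.ess_surj F G ε) f φ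
  have h3 : 𝒴.p.IsStronglyCartesian (𝟙 (𝒴.p.obj b')) e.hom := inferInstance
  refine ⟨F.obj a, F.map φ ≫ e.hom, ?_⟩
  have := IsStronglyCartesian.comp (p := 𝒴.p) (f := f) (g := 𝟙 _) (φ := F.map φ) (ψ := e.hom)
  simpa using this

/-- If `F : 𝒳 ⟶ 𝒴` is an equivalence in the 2-category of categories over `C`, then `𝒳` is fibred over
`C` if and only if `𝒴` is. -/
theorem result {C : Type u} [Category.{v} C] {𝒳 𝒴 : BasedCategory.{v, max u v} C} (F : 𝒳 ⥤ᵇ 𝒴) (hF : FibCat.IsEquivOver F) :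
    𝒳.p.IsFibered ↔ 𝒴.p.IsFibered := by
  obtain ⟨G, ⟨η⟩, ⟨ε⟩⟩ := hF
  constructor
  · intro h
    exact fibered_of_equiv F G η ε
  · intro h
    exact fibered_of_equiv G F ε η

end Groth.Agent.S6394
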