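import Groth.Statements.S6398
import Groth.Agent.S6397

set_option autoImplicit false
open CategoryTheory
universe v u
open FibCat

namespace Groth.Agent.S6398

/-- A functor `G` over `C` between categories fibred in groupoids is an equivalence of categories if and
only if each induced functor of fibre categories `𝒳_U ⥤ 𝒴_U` is an equivalence of categories. -/
theorem result {C : Type u} [Category.{v} C] {𝒳 𝒴 : BasedCategory.{v, max u v} C} (G : 𝒳 ⥤ᵇ 𝒴) (h𝒳 : FibCat.IsFibGrpd 𝒳.p) (h𝒴 : FibCat.IsFibGrpd 𝒴.p) :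
    G.toFunctor.IsEquivalence ↔ ∀ U : C, (FibCat.fiberFunctor G U).IsEquivalence := by
  constructor
  · intro hG U
    obtain ⟨hfull, hfaith⟩ :=
      ((Groth.Agent.S6397.result G h𝒳 h𝒴).mp ⟨inferInstance, inferInstance⟩) U
    have hess : (FibCat.fiberFunctor G U).EssSurj := by
      constructor
      intro y
      obtain ⟨y, hy⟩ := y
      subst hy
      obtain ⟨x, ⟨α⟩⟩ : ∃ x, Nonempty (G.obj x ≅ y) :=
        ⟨G.toFunctor.objPreimage y, ⟨G.toFunctor.objObjPreimageIso y⟩⟩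
      let f' : 𝒴.p.obj y ⟶ 𝒳.p.obj x := 𝒴.p.map α.inv ≫ eqToHom (G.w_obj x)
      have hα : 𝒴.p.IsHomLift f' α.inv := by dsimp only [f']; infer_instance
      obtain ⟨x', φ, hφ⟩ := h𝒳.exists_lift (x := x) f'
      have hx' : 𝒳.p.obj x' = 𝒴.p.obj y := IsHomLift.domain_eq 𝒳.p f' φ
      have hGφ : 𝒴.p.IsHomLift f' (G.map φ) := inferInstance
      have hβ : 𝒴.p.IsHomLift (𝟙 (𝒴.p.obj y)) (G.map φ ≫ α.hom) := by
        let g : 𝒳.p.obj x ⟶ 𝒴.p.obj y := eqToHom (G.w_obj x).symm ≫ 𝒴.p.map α.hom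
        have hg : 𝒴.p.IsHomLift g α.hom := by dsimp only [g]; infer_instance
        have hfg : f' ≫ g = 𝟙 _ := by
          simp only [f', g, Category.assoc, eqToHom_trans_assoc, eqToHom_refl, Category.id_comp,
            ← Functor.map_comp, Iso.inv_hom_id]
          exact 𝒴.p.map_id y
        rw [← hfg]; infer_instance
      let X' : 𝒳.p.Fiber (𝒴.p.obj y) := Functor.Fiber.mk hx'
      let β' : (FibCat.fiberFunctor G (𝒴.p.obj y)).obj X' ⟶ (⟨y, rfl⟩ : 𝒴.p.Fiber (𝒴.p.obj y)) :=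
        ⟨G.map φ ≫ α.hom, hβ⟩
      haveI : IsGroupoid (𝒴.p.Fiber (𝒴.p.obj y)) := ((Groth.Agent.S6393.result 𝒴.p).mp h𝒴).2 _
      haveI : IsIso β' := IsGroupoid.all_isIso β'
      exact ⟨X', ⟨asIso β'⟩⟩
    exact { faithful := hfaith, full := hfull, essSurj := hess }
  · intro hfib
    obtain ⟨hfull, hfaith⟩ := (Groth.Agent.S6397.result G h𝒳 h𝒴).mpr
      (fun U => ⟨inferInstance, inferInstance⟩)
    have hess : G.toFunctor.EssSurj := by
      constructor
      intro y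
      let y' : 𝒴.p.Fiber (𝒴.p.obj y) := Functor.Fiber.mk rfl
      obtain ⟨x', ⟨e⟩⟩ := Functor.EssSurj.mem_essImage (F := FibCat.fiberFunctor G (𝒴.p.obj y)) y'
      exact ⟨x'.1, ⟨Functor.Fiber.fiberInclusion.mapIso e⟩⟩
    exact { faithful := hfaith, full := hfull, essSurj := hess }

end Groth.Agent.S6398
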