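import Groth.Statements.S6404
import Groth.Agent.S6403
import Groth.Agent.S6393

set_option autoImplicit false
open CategoryTheory
universe v u
open FibCat

namespace Groth.Agent.S6404

open Functor

/-- Every morphism of `C` over itself is strongly cartesian. -/
theorem sc_self {C : Type u} [Category.{v} C] {a b R S : C} (f : R ⟶ S) (g : a ⟶ b)
    (h : (𝟭 C).IsHomLift f g) : (𝟭 C).IsStronglyCartesian f g := by
  obtain ⟨⟩ := h
  refine { toIsHomLift := inferInstance, universal_property' := ?_ }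
  intro a' g' φ' hφ'
  have h1 : φ' = g' ≫ g := by
    have := IsHomLift.fac' (𝟭 C) (g' ≫ (𝟭 C).map g) φ'
    simpa using this
  refine ⟨g', ⟨?_, h1.symm⟩, ?_⟩
  · exact (inferInstance : (𝟭 C).IsHomLift ((𝟭 C).map g') g')
  · rintro χ ⟨h2, h3⟩
    have := IsHomLift.fac' (𝟭 C) g' χ
    simpa using this

theorem preserves {C : Type u} [Category.{v} C] (𝒳 : BasedCategory.{v, max u v} C) :
    FibCat.PreservesStronglyCartesian (FibCat.toSelf 𝒳) := by
  intro R S f a b φ hφ
  apply sc_self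
  have : 𝒳.p.IsHomLift f φ := hφ.toIsHomLift
  exact BasedFunctor.preserves_isHomLift (FibCat.toSelf 𝒳) f φ

/-- The inertia of a category fibred in groupoids over `C` is fibred in groupoids over `C`. -/
theorem result {C : Type u} [Category.{v} C] {𝒳 : BasedCategory.{v, max u v} C} (h𝒳 : FibCat.IsFibGrpd 𝒳.p) :
    FibCat.IsFibGrpd (FibCat.inertia (FibCat.toSelf 𝒳)).p := by
  have hfib : 𝒳.p.IsFibered := ((Groth.Agent.S6393.result 𝒳.p).mp h𝒳).1
  refine ⟨?_, ?_⟩
  · intro x V f
    obtain ⟨y, φ, h0, h1⟩ := Groth.Agent.S6403.exists_lift (FibCat.toSelf 𝒳) (preserves 𝒳) x f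
    exact ⟨y, φ, h0⟩
  · intro y x φ
    exact Groth.Agent.S6403.sc_of_hom (FibCat.toSelf 𝒳) φ _ (h𝒳.isStronglyCartesian φ.hom)

end Groth.Agent.S6404
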