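import Groth.Statements.S6405
import Groth.Agent.S6395
import Groth.Agent.S6393

set_option autoImplicit false
open CategoryTheory
universe v u
open FibCat

namespace Groth.Agent.S6405

/-- (2) ⇒ (1): if `𝒳` is fibred in groupoids over `C` and the canonical functor `I_𝒳 ⟶ 𝒳` from its
inertia is an equivalence over `C`, then `𝒳` is fibred in setoids. (The published statement is an
equivalence; this row states only that the inertia condition implies that `𝒳` is fibred in setoids.) -/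
theorem result {C : Type u} [Category.{v} C] {𝒳 : BasedCategory.{v, max u v} C} (h𝒳 : FibCat.IsFibGrpd 𝒳.p)
    (h : FibCat.IsEquivOver (FibCat.inertiaToBase (FibCat.toSelf 𝒳))) : FibCat.IsFibSetoid 𝒳.p := by
  obtain ⟨Q, ⟨η⟩, ⟨ε⟩⟩ := h
  haveI hE : (inertiaToBase (toSelf 𝒳)).toFunctor.IsEquivalence :=
    Groth.Agent.S6395.isEquivalence (inertiaToBase (toSelf 𝒳)) Q η ε
  -- every automorphism over an identity is trivial
  have key : ∀ (x : 𝒳.obj) (α : x ≅ x), 𝒳.p.map α.hom = 𝟙 (𝒳.p.obj x) → α.hom = 𝟙 x := by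
    intro x α hα
    let X₁ : (inertia (toSelf 𝒳)).obj := ⟨x, α, hα⟩
    let X₂ : (inertia (toSelf 𝒳)).obj := ⟨x, Iso.refl x, 𝒳.p.map_id x⟩
    obtain ⟨m, hm⟩ := (inertiaToBase (toSelf 𝒳)).toFunctor.map_surjective
      (X := X₁) (Y := X₂) (𝟙 x)
    have hm' : m.hom = 𝟙 x := hm
    have hc : α.hom ≫ m.hom = m.hom ≫ 𝟙 x := m.comm
    rw [hm', Category.comp_id, Category.comp_id] at hc
    exact hc
  refine ⟨h𝒳, fun U a b => ⟨fun φ ψ => ?_⟩⟩
  haveI : IsGroupoid (𝒳.p.Fiber U) := ((Groth.Agent.S6393.result 𝒳.p).mp h𝒳).2 U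
  haveI : IsIso ψ := IsGroupoid.all_isIso ψ
  haveI : IsIso φ := IsGroupoid.all_isIso φ
  let α : a ≅ a := asIso φ ≪≫ (asIso ψ).symm
  have hα : 𝒳.p.map (Functor.Fiber.fiberInclusion.mapIso α).hom = 𝟙 (𝒳.p.obj a.1) := by
    have h1 : 𝒳.p.IsHomLift (𝟙 U) (Functor.Fiber.fiberInclusion.map α.hom) := inferInstance
    have h2 := IsHomLift.fac' 𝒳.p (𝟙 U) (Functor.Fiber.fiberInclusion.map α.hom)
    rw [Functor.mapIso_hom, h2]
    simp
    rfl
  have h3 := key a.1 (Functor.Fiber.fiberInclusion.mapIso α) hα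
  have h4 : α.hom = 𝟙 a := Functor.Fiber.hom_ext h3
  have h5 : φ ≫ inv ψ = 𝟙 a := h4
  calc φ = (φ ≫ inv ψ) ≫ ψ := by simp
    _ = ψ := by rw [h5, Category.id_comp]

end Groth.Agent.S6405
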