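import Groth.Statements.S6408
import Mathlib

set_option autoImplicit false
open CategoryTheory
universe v u
open FibCat

namespace Groth.Agent.S6408

/-- Between categories fibred in sets over `C` the only 2-morphisms over `C` are identities. -/
theorem result {C : Type u} [Category.{v} C] {𝒳 𝒴 : BasedCategory.{v, max u v} C} (h𝒳 : FibCat.IsFibSet 𝒳.p) (h𝒴 : FibCat.IsFibSet 𝒴.p) {F G : 𝒳 ⥤ᵇ 𝒴} (α : F ⟶ G) :
    ∃ h : F = G, α = eqToHom h := by
  obtain ⟨-, hdisc⟩ := h𝒴
  have hobj : ∀ x : 𝒳.obj, F.obj x = G.obj x := by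
    intro x
    haveI := hdisc (𝒳.p.obj x)
    let a : 𝒴.p.Fiber (𝒳.p.obj x) := ⟨F.obj x, F.w_obj x⟩
    let b : 𝒴.p.Fiber (𝒳.p.obj x) := ⟨G.obj x, G.w_obj x⟩
    let m : a ⟶ b := ⟨α.toNatTrans.app x, α.isHomLift' x⟩
    have := IsDiscrete.eq_of_hom m
    exact congrArg Subtype.val this
  have happ : ∀ x : 𝒳.obj, α.toNatTrans.app x = eqToHom (hobj x) := by
    intro x
    haveI := hdisc (𝒳.p.obj x)
    let a : 𝒴.p.Fiber (𝒳.p.obj x) := ⟨F.obj x, F.w_obj x⟩
    let b : 𝒴.p.Fiber (𝒳.p.obj x) := ⟨G.obj x, G.w_obj x⟩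
    let m : a ⟶ b := ⟨α.toNatTrans.app x, α.isHomLift' x⟩
    have hab : a = b := IsDiscrete.eq_of_hom m
    have hm : m = eqToHom hab := Subsingleton.elim _ _
    have h1 : Functor.Fiber.fiberInclusion.map m = eqToHom (hobj x) := by
      rw [hm, eqToHom_map]
      rfl
    exact h1
  have hF : F.toFunctor = G.toFunctor := by
    refine CategoryTheory.Functor.ext hobj (fun x y f => ?_)
    have := α.toNatTrans.naturality f
    rw [happ, happ] at this
    rw [← Category.assoc, ← this, Category.assoc, eqToHom_trans, eqToHom_refl, Category.comp_id]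
  have hFG : F = G := by
    cases F; cases G
    simp only [BasedFunctor.mk.injEq]
    exact hF
  refine ⟨hFG, ?_⟩
  subst hFG
  apply BasedNatTrans.ext
  ext x
  rw [happ x]
  simp

end Groth.Agent.S6408
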