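import Mathlib
import Groth.Statements.S6412
import Groth.Agent.Lib.Helper19.DiagLib
-- import your own Groth.Agent.* helpers here

set_option autoImplicit false
open CategoryTheory CategoryTheory.Limits
universe v u
open FibCat

namespace Groth.Agent.S6412

open Groth.Agent.Helper19.FibLib Groth.Agent.Helper19.DiagLib in

/-- For `C` with binary products and fibre products and `𝒮` fibred in groupoids over `C`, the diagonal
`𝒮 ⟶ 𝒮 ×_C 𝒮` is representable if and only if every functor `C/U ⟶ 𝒮` over `C` is representable.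
(Representability of each base change to a slice `C/V` is taken as a category over `C`; for
categories fibred in groupoids this agrees with representability over `C/V`.) -/
theorem result {C : Type u} [Category.{v} C] [HasBinaryProducts C] [HasPullbacks C] {𝒮 : BasedCategory.{v, max u v} C} (h𝒮 : FibCat.IsFibGrpd 𝒮.p) :
    FibCat.IsRepresentable1 (FibCat.diag (FibCat.toSelf 𝒮)) ↔ ∀ (U : C) (G : FibCat.overCat U ⥤ᵇ 𝒮), FibCat.IsRepresentable1 G := by
  have R1 : ∀ {𝒜 ℬ : BasedCategory.{v, max u v} C} (e : 𝒜 ⥤ᵇ ℬ), IsEquivOver e →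
      IsRepresentable 𝒜 → IsRepresentable ℬ := by
    intro 𝒜 ℬ e he h
    obtain ⟨U, F, hF⟩ := h
    obtain ⟨e', he', -⟩ := IsEquivOver.exists_inv he
    exact ⟨U, BasedFunctor.comp e' F, IsEquivOver.comp he' hF⟩
  have R2 : ∀ U : C, IsRepresentable (overCat U) := fun U => ⟨U, BasedFunctor.id _, isEquivOver_id _⟩
  have R3 : ∀ {𝒜 ℬ 𝒵 : BasedCategory.{v, max u v} C} (f : 𝒜 ⥤ᵇ 𝒵) (g : ℬ ⥤ᵇ 𝒵),
      IsRepresentable 𝒜 → IsRepresentable ℬ → IsRepresentable 𝒵 → IsRepresentable (fp f g) :=
    fun f g hA hB hZ => isRepresentable_fp f g hA hB hZ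
  have R4 : ∀ (V U : C) (F : overCat V ⥤ᵇ selfOver C) (G : overCat U ⥤ᵇ selfOver C),
      ∃ (W : C) (E : overCat W ⥤ᵇ fp F G), IsEquivOver E :=
    fun V U F G => exists_equiv_fp_selfOver_prod V U F G
  constructor
  · intro hd U x V y
    exact generic_charts_of_diag IsRepresentable R1 R4 𝒮 hd x y
  · intro hc U y
    exact generic_diag_of_charts IsRepresentable R1 R2 R3 R4 𝒮 hc y

end Groth.Agent.S6412
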