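import Groth.Statements.S6413
import Groth.Agent.S6393

set_option autoImplicit false
open CategoryTheory
universe v₄ u₄ v₃ u₃ v₂ u₂ v u
open FibCat

namespace Groth.Agent.S6413

open Functor Limits

section
variable {C : Type u} [Category.{v} C] {𝒳 : BasedCategory.{v₂, u₂} C}
  {𝒵 : BasedCategory.{v₃, u₃} C} {𝒮 : BasedCategory.{v₄, u₄} C}
  (F : 𝒳 ⥤ᵇ 𝒮) (G : 𝒵 ⥤ᵇ 𝒮)

theorem isHomLift_fst {x y : (fp F G).obj} (φ : x ⟶ y) {R S : C} (f : R ⟶ S)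
    [(fp F G).p.IsHomLift f φ] : 𝒳.p.IsHomLift f φ.hom.fst := by
  show 𝒳.p.IsHomLift f ((fpFst F G).map φ)
  infer_instance

theorem isHomLift_of_snd {x y : (fp F G).obj} (φ : x ⟶ y) {R S : C} (f : R ⟶ S)
    (h : 𝒵.p.IsHomLift f φ.hom.snd) : (fp F G).p.IsHomLift f φ := by
  have : 𝒵.p.IsHomLift f ((fpSnd F G).map φ) := h
  exact BasedFunctor.isHomLift_map (fpSnd F G) f φ

theorem isHomLift_fst_of_snd {x y : (fp F G).obj} (φ : x ⟶ y) {R S : C} (f : R ⟶ S)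
    (h : 𝒵.p.IsHomLift f φ.hom.snd) : 𝒳.p.IsHomLift f φ.hom.fst := by
  have := isHomLift_of_snd F G φ f h
  exact isHomLift_fst F G φ f

/-- The second projection of a 2-fibre product `𝒳 ×_𝒮 𝒵` is fibred in groupoids when `𝒳`, `𝒮`
are fibred in groupoids over `C`. -/
theorem fibGrpd_snd (h𝒳 : IsFibGrpd 𝒳.p) (h𝒮 : IsFibGrpd 𝒮.p) :
    IsFibGrpd (fpSnd F G).toFunctor := by
  have hfib𝒳 : 𝒳.p.IsFibered := ((Groth.Agent.S6393.result 𝒳.p).mp h𝒳).1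
  have sc𝒮 : ∀ {R S : C} (f : R ⟶ S) {a b : 𝒮.obj} (φ : a ⟶ b), 𝒮.p.IsHomLift f φ →
      𝒮.p.IsStronglyCartesian f φ :=
    fun f _ _ φ h => Groth.Agent.S6393.sc_of_lift 𝒮.p f φ h (h𝒮.isStronglyCartesian φ)
  have sc𝒳 : ∀ {R S : C} (f : R ⟶ S) {a b : 𝒳.obj} (φ : a ⟶ b), 𝒳.p.IsHomLift f φ →
      𝒳.p.IsStronglyCartesian f φ :=
    fun f _ _ φ h => Groth.Agent.S6393.sc_of_lift 𝒳.p f φ h (h𝒳.isStronglyCartesian φ)
  refine ⟨?_, ?_⟩
  · intro x B g₀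
    obtain ⟨g, hg₀⟩ : ∃ g : B ⟶ x.obj.snd, g = g₀ := ⟨g₀, rfl⟩
    have ha : 𝒳.p.obj x.obj.fst = 𝒵.p.obj x.obj.snd := ((fpSnd F G).w_obj x).symm
    obtain ⟨f, hf⟩ : ∃ f : 𝒵.p.obj B ⟶ 𝒵.p.obj x.obj.snd, f = 𝒵.p.map g := ⟨_, rfl⟩
    let φ := IsPreFibered.pullbackMap (p := 𝒳.p) ha f
    have hφ : 𝒳.p.IsStronglyCartesian f φ := inferInstance
    have hFφ : 𝒮.p.IsHomLift f (F.map φ) := inferInstance
    have hx : 𝒮.p.IsHomLift (𝟙 (𝒵.p.obj x.obj.snd)) x.obj.iso.hom := by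
      rw [← ha]; exact x.property
    have hg : 𝒵.p.IsHomLift f g := by rw [hf]; infer_instance
    have hGg : 𝒮.p.IsStronglyCartesian f (G.map g) := sc𝒮 f _ inferInstance
    have hcomp : 𝒮.p.IsStronglyCartesian f (F.map φ ≫ x.obj.iso.hom) := sc𝒮 f _ inferInstance
    have hff : f = (Iso.refl (𝒵.p.obj B)).hom ≫ f := by simp
    let κ := IsStronglyCartesian.domainIsoOfBaseIso 𝒮.p hff (G.map g) (F.map φ ≫ x.obj.iso.hom)
    have hκ : 𝒮.p.IsHomLift (𝟙 (𝒵.p.obj B)) κ.hom := by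
      have : 𝒮.p.IsHomLift (Iso.refl (𝒵.p.obj B)).hom κ.hom := inferInstance
      exact this
    have hκfac : κ.hom ≫ G.map g = F.map φ ≫ x.obj.iso.hom :=
      IsStronglyCartesian.fac 𝒮.p f (G.map g) hff (F.map φ ≫ x.obj.iso.hom)
    have e : 𝒳.p.obj (IsPreFibered.pullbackObj (p := 𝒳.p) ha f) = 𝒵.p.obj B :=
      IsPreFibered.pullbackObj_proj ha f
    have hκ' : 𝒮.p.IsHomLift (𝟙 (𝒳.p.obj (IsPreFibered.pullbackObj (p := 𝒳.p) ha f))) κ.hom := by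
      rw [e]; exact hκ
    let y : (fp F G).obj :=
      ⟨{ fst := IsPreFibered.pullbackObj (p := 𝒳.p) ha f
         snd := B
         iso := κ }, hκ'⟩
    let Φ : y ⟶ x := ObjectProperty.homMk { fst := φ, snd := g, w := hκfac.symm }
    refine ⟨y, Φ, ?_⟩
    have : (fpSnd F G).toFunctor.IsHomLift ((fpSnd F G).toFunctor.map Φ) Φ := inferInstance
    rw [← hg₀]
    exact this
  · intro y x Φ
    refine { toIsHomLift := inferInstance, universal_property' := ?_ }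
    intro z h₀ Ψ hΨ
    obtain ⟨h, hh₀⟩ : ∃ h : z.obj.snd ⟶ y.obj.snd, h = h₀ := ⟨h₀, rfl⟩
    have hΨ1 : Ψ.hom.snd = h ≫ Φ.hom.snd := by
      have := IsHomLift.fac' (fpSnd F G).toFunctor (h₀ ≫ (fpSnd F G).toFunctor.map Φ) Ψ
      rw [hh₀]
      have this2 : (fpSnd F G).toFunctor.map Ψ = h₀ ≫ (fpSnd F G).toFunctor.map Φ := by
        simpa using this
      exact this2
    have hb : 𝒳.p.IsStronglyCartesian (𝒵.p.map Φ.hom.snd) Φ.hom.fst :=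
      sc𝒳 _ _ (isHomLift_fst_of_snd F G Φ _ inferInstance)
    have hΨ2 : 𝒳.p.IsHomLift (𝒵.p.map Ψ.hom.snd) Ψ.hom.fst :=
      isHomLift_fst_of_snd F G Ψ _ inferInstance
    have hfac : 𝒵.p.map Ψ.hom.snd = 𝒵.p.map h ≫ 𝒵.p.map Φ.hom.snd := by
      rw [hΨ1, Functor.map_comp]
    let e := IsStronglyCartesian.map 𝒳.p (𝒵.p.map Φ.hom.snd) Φ.hom.fst hfac Ψ.hom.fst
    have he : 𝒳.p.IsHomLift (𝒵.p.map h) e := inferInstance
    have hefac : e ≫ Φ.hom.fst = Ψ.hom.fst := IsStronglyCartesian.fac _ _ _ _ _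
    have hz : 𝒮.p.IsHomLift (𝟙 (𝒵.p.obj z.obj.snd)) z.obj.iso.hom := by
      have ha : 𝒳.p.obj z.obj.fst = 𝒵.p.obj z.obj.snd := ((fpSnd F G).w_obj z).symm
      rw [← ha]; exact z.property
    have hy : 𝒮.p.IsHomLift (𝟙 (𝒵.p.obj y.obj.snd)) y.obj.iso.hom := by
      have ha : 𝒳.p.obj y.obj.fst = 𝒵.p.obj y.obj.snd := ((fpSnd F G).w_obj y).symm
      rw [← ha]; exact y.property
    have hGb : 𝒮.p.IsStronglyCartesian (𝒵.p.map Φ.hom.snd) (G.map Φ.hom.snd) :=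
      sc𝒮 _ _ inferInstance
    have hw : F.map e ≫ y.obj.iso.hom = z.obj.iso.hom ≫ G.map h := by
      have hh : 𝒵.p.IsHomLift (𝒵.p.map h) h := inferInstance
      have hl : 𝒮.p.IsHomLift (𝒵.p.map h) (F.map e ≫ y.obj.iso.hom) := inferInstance
      have hr : 𝒮.p.IsHomLift (𝒵.p.map h) (z.obj.iso.hom ≫ G.map h) := inferInstance
      apply IsStronglyCartesian.ext 𝒮.p (𝒵.p.map Φ.hom.snd) (G.map Φ.hom.snd) (𝒵.p.map h)
      have w1 := Φ.hom.w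
      have w2 := Ψ.hom.w
      rw [Category.assoc, Category.assoc, ← G.map_comp, ← hΨ1]
      change F.map e ≫ y.obj.iso.hom ≫ G.toFunctor.map Φ.hom.snd = _
      rw [← w1, ← Category.assoc]
      rw [← F.toFunctor.map_comp, hefac, w2]
    let χ : z ⟶ y := ObjectProperty.homMk { fst := e, snd := h, w := hw }
    refine ⟨χ, ⟨?_, ?_⟩, ?_⟩
    · have : (fpSnd F G).toFunctor.IsHomLift ((fpSnd F G).toFunctor.map χ) χ := inferInstance
      rw [← hh₀]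
      exact this
    · apply ObjectProperty.hom_ext
      apply CategoricalPullback.hom_ext
      · exact hefac
      · exact hΨ1.symm
    · rintro χ' ⟨hχ'1, hχ'2⟩
      have h1 : χ'.hom.snd = h := by
        have := IsHomLift.fac' (fpSnd F G).toFunctor h₀ χ'
        rw [hh₀]
        have this2 : (fpSnd F G).toFunctor.map χ' = h₀ := by simpa using this
        exact this2
      apply ObjectProperty.hom_ext
      apply CategoricalPullback.hom_ext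
      · have : 𝒳.p.IsHomLift (𝒵.p.map h) χ'.hom.fst := by
          have := isHomLift_fst_of_snd F G χ' (𝒵.p.map χ'.hom.snd) inferInstance
          rw [← h1]; exact this
        refine IsStronglyCartesian.map_uniq 𝒳.p (𝒵.p.map Φ.hom.snd) Φ.hom.fst hfac Ψ.hom.fst
          χ'.hom.fst ?_
        rw [← hχ'2]; rfl
      · exact h1

end


/-- For `𝒳, 𝒴` fibred in groupoids over `C` and `F : 𝒳 ⟶ 𝒴` over `C`, the projection `𝒳 ×_{F, 𝒴, id} 𝒴 ⟶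
𝒴` is a category fibred in groupoids over `𝒴`. -/
theorem result {C : Type u} [Category.{v} C] {𝒳 𝒴 : BasedCategory.{v, max u v} C} (h𝒳 : FibCat.IsFibGrpd 𝒳.p) (h𝒴 : FibCat.IsFibGrpd 𝒴.p) (F : 𝒳 ⥤ᵇ 𝒴) :
    FibCat.IsFibGrpd (FibCat.fpSnd F (BasedFunctor.id 𝒴)).toFunctor := by
  exact fibGrpd_snd F (BasedFunctor.id 𝒴) h𝒳 h𝒴

end Groth.Agent.S6413
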