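import Groth.Statements.S6415
import Groth.Agent.S6414

set_option autoImplicit false
open CategoryTheory
universe v₁ u₁ v₂ u₂ v₃ u₃
open FibCat

namespace Groth.Agent.S6415

theorem aux {𝒜 : Type u₁} [Category.{v₁} 𝒜] {ℬ : Type u₂} [Category.{v₂} ℬ] {𝒞 : Type u₃}
    [Category.{v₃} 𝒞] (F : 𝒜 ⥤ ℬ) (G : ℬ ⥤ 𝒞) [F.IsFibered] [G.IsFibered] {a : 𝒜} {S : ℬ}
    (ha : F.obj a = S) {T : 𝒞} (hS : G.obj S = T) {R : 𝒞} (f : R ⟶ T) :
    ∃ (b : 𝒜) (φ : b ⟶ a), (F ⋙ G).IsStronglyCartesian f φ := by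
  obtain ⟨b₁, ψ, hψ⟩ := IsPreFibered.exists_isCartesian G hS f
  have h1 : G.IsStronglyCartesian f ψ := inferInstance
  obtain ⟨b, φ, hφ⟩ := IsPreFibered.exists_isCartesian F ha ψ
  have h2 : F.IsStronglyCartesian ψ φ := inferInstance
  refine ⟨b, φ, ?_⟩
  obtain ⟨⟩ := (inferInstance : F.IsHomLift ψ φ)
  obtain ⟨⟩ := (inferInstance : G.IsHomLift f (F.map φ))
  exact Groth.Agent.S6414.result F G φ

/-- The composite of two fibred functors is fibred. -/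
theorem result {𝒜 : Type u₁} [Category.{v₁} 𝒜] {ℬ : Type u₂} [Category.{v₂} ℬ] {𝒞 : Type u₃} [Category.{v₃} 𝒞] (F : 𝒜 ⥤ ℬ) (G : ℬ ⥤ 𝒞) [F.IsFibered] [G.IsFibered] : (F ⋙ G).IsFibered := by
  apply Functor.IsFibered.of_exists_isStronglyCartesian
  intro a R f
  exact aux F G rfl rfl f

end Groth.Agent.S6415
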