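import Groth.Statements.S6417
import Mathlib

set_option autoImplicit false
open CategoryTheory CategoryTheory.Limits
universe v₁ u₁ v₂ u₂
open FibCat

namespace Groth.Agent.S6417

/-- For `p : 𝒮 ⥤ C`, a strongly cartesian `φ : x ⟶ y`, any `ψ : z ⟶ y`, and a strongly cartesian `a : w
⟶ z` lying over the second projection of `p x ×_{p y} p z`, the object `w` is a fibre product `x ×_y
z`: there is `b : w ⟶ x` over the first projection with `(b, a)` a pullback square. -/
theorem result {𝒮 : Type u₁} [Category.{v₁} 𝒮] {C : Type u₂} [Category.{v₂} C] (p : 𝒮 ⥤ C) {x y z w : 𝒮} (φ : x ⟶ y) (ψ : z ⟶ y)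
    [p.IsStronglyCartesian (p.map φ) φ] [HasPullback (p.map φ) (p.map ψ)] (a : w ⟶ z)
    [p.IsStronglyCartesian (pullback.snd (p.map φ) (p.map ψ)) a] :
    ∃ b : w ⟶ x, p.IsHomLift (pullback.fst (p.map φ) (p.map ψ)) b ∧ IsPullback b a φ ψ := by
  have hcond : pullback.fst (p.map φ) (p.map ψ) ≫ p.map φ
      = pullback.snd (p.map φ) (p.map ψ) ≫ p.map ψ := pullback.condition
  have hlift : p.IsHomLift (pullback.fst (p.map φ) (p.map ψ) ≫ p.map φ) (a ≫ ψ) := by
    rw [hcond]; infer_instance
  let b : w ⟶ x := Functor.IsStronglyCartesian.map p (p.map φ) φ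
    (g := pullback.fst (p.map φ) (p.map ψ)) rfl (a ≫ ψ)
  have hb : b ≫ φ = a ≫ ψ := Functor.IsStronglyCartesian.fac _ _ _ _ _
  have hbl : p.IsHomLift (pullback.fst (p.map φ) (p.map ψ)) b := inferInstance
  have hw : p.obj w = pullback (p.map φ) (p.map ψ) :=
    IsHomLift.domain_eq p (pullback.snd (p.map φ) (p.map ψ)) a
  have hpb : p.map b = eqToHom hw ≫ pullback.fst (p.map φ) (p.map ψ) := by
    have := IsHomLift.fac' p (pullback.fst (p.map φ) (p.map ψ)) b
    simpa using this
  have hpa : p.map a = eqToHom hw ≫ pullback.snd (p.map φ) (p.map ψ) := by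
    have := IsHomLift.fac' p (pullback.snd (p.map φ) (p.map ψ)) a
    simpa using this
  refine ⟨b, hbl, ⟨⟨hb⟩, ⟨?_⟩⟩⟩
  refine PullbackCone.IsLimit.mk _ (fun s => ?_) (fun s => ?_) (fun s => ?_) (fun s m h1 h2 => ?_)
  · exact Functor.IsStronglyCartesian.map p (pullback.snd (p.map φ) (p.map ψ)) a
      (g := pullback.lift (p.map s.fst) (p.map s.snd)
        (by rw [← p.map_comp, s.condition, p.map_comp]))
      (f' := p.map s.snd) (by rw [pullback.lift_snd]) s.snd
  · set l := pullback.lift (p.map s.fst) (p.map s.snd)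
        (by rw [← p.map_comp, s.condition, p.map_comp]) with hl
    set χ := Functor.IsStronglyCartesian.map p (pullback.snd (p.map φ) (p.map ψ)) a
      (g := l) (f' := p.map s.snd) (by rw [pullback.lift_snd]) s.snd with hχ
    have hχa : χ ≫ a = s.snd := Functor.IsStronglyCartesian.fac _ _ _ _ _
    have hχl : p.IsHomLift l χ := inferInstance
    have h3 : p.IsHomLift (p.map s.fst) (χ ≫ b) := by
      have : p.IsHomLift (l ≫ pullback.fst (p.map φ) (p.map ψ)) (χ ≫ b) := inferInstance
      rwa [pullback.lift_fst] at this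
    apply Functor.IsStronglyCartesian.ext p (p.map φ) φ (p.map s.fst)
    rw [Category.assoc, hb, ← Category.assoc, hχa, s.condition]
  · exact Functor.IsStronglyCartesian.fac _ _ _ _ _
  · have hm : p.IsHomLift (pullback.lift (p.map s.fst) (p.map s.snd)
        (by rw [← p.map_comp, s.condition, p.map_comp])) m := by
      apply IsHomLift.of_fac' p _ m rfl hw
      rw [eqToHom_refl, Category.id_comp]
      have : p.map m ≫ eqToHom hw = pullback.lift (p.map s.fst) (p.map s.snd)
          (by rw [← p.map_comp, s.condition, p.map_comp]) := by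
        apply pullback.hom_ext
        · rw [Category.assoc, ← hpb, ← p.map_comp, h1, pullback.lift_fst]
        · rw [Category.assoc, ← hpa, ← p.map_comp, h2, pullback.lift_snd]
      rw [← this, Category.assoc, eqToHom_trans, eqToHom_refl, Category.comp_id]
    exact Functor.IsStronglyCartesian.map_uniq p (pullback.snd (p.map φ) (p.map ψ)) a _ s.snd m h2

end Groth.Agent.S6417
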