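import Groth.Statements.S6418
import Groth.Agent.S6393

set_option autoImplicit false
open CategoryTheory
universe v₁ u₁ v₂ u₂
open FibCat

namespace Groth.Agent.S6418

theorem over_ext {T : Type u₂} [Category.{v₂} T] {U : T} {X Y : Over U} (h : X.left = Y.left)
    (h' : X.hom = eqToHom h ≫ Y.hom) : X = Y := by
  obtain ⟨l, r, hom⟩ := X
  obtain ⟨l', r', hom'⟩ := Y
  obtain rfl : r = r' := Subsingleton.elim _ _
  change l = l' at h
  subst h
  simp only [eqToHom_refl, Category.id_comp] at h'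
  subst h'
  rfl

theorem sc_map_of_sc {𝒮 : Type u₁} [Category.{v₁} 𝒮] {C : Type u₂} [Category.{v₂} C] (p : 𝒮 ⥤ C)
    {a b : 𝒮} {R T : C} (f : R ⟶ T) (φ : a ⟶ b) (hs : p.IsStronglyCartesian f φ) :
    p.IsStronglyCartesian (p.map φ) φ := by
  obtain ⟨⟩ := hs.toIsHomLift
  exact hs

section
variable {𝒮 : Type u₁} [Category.{v₁} 𝒮] {C : Type u₂} [Category.{v₂} C] {U : C}
  (p' : 𝒮 ⥤ Over U)

theorem L1' {a' a : 𝒮} (g : p'.obj a' ⟶ p'.obj a) (χ : a' ⟶ a)
    (γ : (p' ⋙ Over.forget U).obj a' ⟶ (p' ⋙ Over.forget U).obj a) (hγ : g.left = γ)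
    (hq : (p' ⋙ Over.forget U).IsHomLift γ χ) : p'.IsHomLift g χ := by
  have h1 : γ = (p' ⋙ Over.forget U).map χ :=
    IsHomLift.eq_of_isHomLift (p' ⋙ Over.forget U) γ χ
  have h2 : g = p'.map χ := Over.OverMorphism.ext (hγ.trans h1)
  rw [h2]
  infer_instance

theorem L2 {a' a : 𝒮} {R' R : Over U} (g : R' ⟶ R) (χ : a' ⟶ a) (h : p'.IsHomLift g χ) :
    (p' ⋙ Over.forget U).IsHomLift g.left χ := by
  obtain ⟨⟩ := h
  exact inferInstanceAs ((p' ⋙ Over.forget U).IsHomLift ((p' ⋙ Over.forget U).map χ) χ)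

theorem claimA {a b : 𝒮} (φ : b ⟶ a)
    (hφ : (p' ⋙ Over.forget U).IsStronglyCartesian ((p' ⋙ Over.forget U).map φ) φ) :
    p'.IsStronglyCartesian (p'.map φ) φ := by
  refine { toIsHomLift := inferInstance, universal_property' := ?_ }
  intro a' g φ' hφ'
  obtain ⟨γ, hγ⟩ : ∃ γ : (p' ⋙ Over.forget U).obj a' ⟶ (p' ⋙ Over.forget U).obj b,
    g.left = γ := ⟨g.left, rfl⟩
  have h1 : (p' ⋙ Over.forget U).IsHomLift (γ ≫ (p' ⋙ Over.forget U).map φ) φ' := by
    subst hγ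
    exact L2 p' (g ≫ p'.map φ) φ' hφ'
  let χ := Functor.IsStronglyCartesian.map (p' ⋙ Over.forget U) ((p' ⋙ Over.forget U).map φ) φ
    (g := γ) rfl φ'
  have hχ : χ ≫ φ = φ' := Functor.IsStronglyCartesian.fac _ _ _ _ _
  have hχl : (p' ⋙ Over.forget U).IsHomLift γ χ := inferInstance
  refine ⟨χ, ⟨L1' p' g χ γ hγ hχl, hχ⟩, ?_⟩
  rintro χ' ⟨h1', h2'⟩
  have : (p' ⋙ Over.forget U).IsHomLift γ χ' := by
    subst hγ
    exact L2 p' g χ' h1'
  exact Functor.IsStronglyCartesian.map_uniq (p' ⋙ Over.forget U) ((p' ⋙ Over.forget U).map φ) φ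
    rfl φ' χ' h2'

theorem claimB {a b : 𝒮} {R : Over U} (f : R ⟶ p'.obj a) (φ : b ⟶ a)
    (γ : R.left ⟶ (p' ⋙ Over.forget U).obj a) (hγ : f.left = γ)
    (hq : (p' ⋙ Over.forget U).IsHomLift γ φ) : p'.IsHomLift f φ := by
  have hb : (p' ⋙ Over.forget U).obj b = R.left :=
    IsHomLift.domain_eq (p' ⋙ Over.forget U) γ φ
  have hb' : (p'.obj b).left = R.left := hb
  have hfac := IsHomLift.fac' (p' ⋙ Over.forget U) γ φ
  have h3 : (p'.map φ).left = eqToHom hb' ≫ f.left := by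
    have h4 : (p'.map φ).left = (p' ⋙ Over.forget U).map φ := rfl
    rw [h4, hfac, hγ]
    simp
  have hobj : p'.obj b = R := by
    apply over_ext (h := hb')
    have h1 : (p'.obj b).hom = (p'.map φ).left ≫ (p'.obj a).hom := (Over.w (p'.map φ)).symm
    have h2 : f.left ≫ (p'.obj a).hom = R.hom := Over.w f
    rw [h1, h3, Category.assoc, h2]
  subst hobj
  refine L1' p' f φ γ hγ hq

end

/-- If `p' : 𝒮 ⥤ C/U` composed with the forgetful functor `C/U ⥤ C` is a fibred category, then so is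
`p'`. -/
theorem result {𝒮 : Type u₁} [Category.{v₁} 𝒮] {C : Type u₂} [Category.{v₂} C] {U : C} (p' : 𝒮 ⥤ Over U) [(p' ⋙ Over.forget U).IsFibered] : p'.IsFibered := by
  apply Functor.IsFibered.of_exists_isStronglyCartesian
  intro a R f
  obtain ⟨γ, hγ⟩ : ∃ γ : R.left ⟶ (p' ⋙ Over.forget U).obj a, f.left = γ := ⟨f.left, rfl⟩
  obtain ⟨b, φ, hφ⟩ := IsPreFibered.exists_isCartesian (p' ⋙ Over.forget U) (a := a) rfl γ
  have hsc : (p' ⋙ Over.forget U).IsStronglyCartesian γ φ := inferInstance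
  have hlift : p'.IsHomLift f φ := claimB p' f φ γ hγ inferInstance
  have hA := claimA p' φ (sc_map_of_sc _ γ φ hsc)
  exact ⟨b, φ, Groth.Agent.S6393.sc_of_lift p' f φ hlift hA⟩

end Groth.Agent.S6418
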