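import Groth.Statements.S6421
import Groth.Agent.S6420

set_option autoImplicit false
open CategoryTheory CategoryTheory.Limits
universe v u
open FibCat

namespace Groth.Agent.S6421

/-- For a 2-commutative morphism of cospans of categories whose outer functors `X ⥤ A`, `Y ⥤ B` are
fully faithful and whose middle functor `Z ⥤ C` is faithful, the induced functor `X ×_Z Y ⥤ A ×_C B`
is fully faithful. -/
theorem result {X Y Z A B C : Type u} [Category.{v} X] [Category.{v} Y] [Category.{v} Z] [Category.{v} A] [Category.{v} B] [Category.{v} C] {H : X ⥤ Z} {I : Y ⥤ Z} {F : A ⥤ C} {G : B ⥤ C} (ψ : CatCospanTransform H I F G) [ψ.left.Full] [ψ.left.Faithful] [ψ.right.Full] [ψ.right.Faithful] [ψ.base.Faithful] :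
    (FibCat.categoricalPullbackMap ψ).Full ∧ (FibCat.categoricalPullbackMap ψ).Faithful := by
  refine ⟨⟨fun {x y} m => ?_⟩, Groth.Agent.S6420.result ψ⟩
  have hw := m.w
  obtain ⟨mf, hmf⟩ : ∃ mf : ψ.left.obj x.fst ⟶ ψ.left.obj y.fst, mf = m.fst := ⟨m.fst, rfl⟩
  obtain ⟨mg, hmg⟩ : ∃ mg : ψ.right.obj x.snd ⟶ ψ.right.obj y.snd, mg = m.snd := ⟨m.snd, rfl⟩
  let f : x.fst ⟶ y.fst := ψ.left.preimage mf
  let g : x.snd ⟶ y.snd := ψ.right.preimage mg
  have hf' : ψ.left.map f = mf := ψ.left.map_preimage _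
  have hg' : ψ.right.map g = mg := ψ.right.map_preimage _
  let sqL : H ⋙ ψ.base ≅ ψ.left ⋙ F := ψ.squareLeft.iso
  let sqR : I ⋙ ψ.base ≅ ψ.right ⋙ G := ψ.squareRight.iso
  have hw' : F.map mf ≫ sqL.inv.app y.fst ≫ ψ.base.map y.iso.hom ≫ sqR.hom.app y.snd
      = (sqL.inv.app x.fst ≫ ψ.base.map x.iso.hom ≫ sqR.hom.app x.snd) ≫ G.map mg := by
    rw [hmf, hmg]
    simp [FibCat.categoricalPullbackMap] at hw
    exact hw
  have natL' : sqL.inv.app x.fst ≫ ψ.base.map (H.map f) = F.map (ψ.left.map f) ≫ sqL.inv.app y.fst :=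
    (sqL.inv.naturality f).symm
  have natR : ψ.base.map (I.map g) ≫ sqR.hom.app y.snd
      = sqR.hom.app x.snd ≫ G.map (ψ.right.map g) := sqR.hom.naturality g
  have w : H.map f ≫ y.iso.hom = x.iso.hom ≫ I.map g := by
    apply ψ.base.map_injective
    rw [Functor.map_comp, Functor.map_comp]
    rw [← cancel_mono (sqR.hom.app y.snd), ← cancel_epi (sqL.inv.app x.fst)]
    calc sqL.inv.app x.fst ≫ (ψ.base.map (H.map f) ≫ ψ.base.map y.iso.hom) ≫ sqR.hom.app y.snd
        = (sqL.inv.app x.fst ≫ ψ.base.map (H.map f)) ≫ ψ.base.map y.iso.hom ≫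
            sqR.hom.app y.snd := by simp only [Category.assoc]
      _ = (F.map mf ≫ sqL.inv.app y.fst) ≫ ψ.base.map y.iso.hom ≫ sqR.hom.app y.snd := by
          rw [natL', hf']
      _ = (sqL.inv.app x.fst ≫ ψ.base.map x.iso.hom ≫ sqR.hom.app x.snd) ≫ G.map mg := by
          rw [Category.assoc, hw']
      _ = sqL.inv.app x.fst ≫ ψ.base.map x.iso.hom ≫
            (ψ.base.map (I.map g) ≫ sqR.hom.app y.snd) := by
          rw [natR, hg']; simp only [Category.assoc]
      _ = sqL.inv.app x.fst ≫ (ψ.base.map x.iso.hom ≫ ψ.base.map (I.map g)) ≫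
            sqR.hom.app y.snd := by simp only [Category.assoc]
  refine ⟨⟨f, g, w⟩, ?_⟩
  apply Limits.CategoricalPullback.Hom.ext
  · exact hf'.trans hmf
  · exact hg'.trans hmg

end Groth.Agent.S6421
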