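import Groth.Statements.S6422
import Groth.Agent.S6421

set_option autoImplicit false
open CategoryTheory CategoryTheory.Limits
universe v u
open FibCat

namespace Groth.Agent.S6422

/-- For a 2-commutative morphism of cospans of categories whose outer functors `X ⥤ A`, `Y ⥤ B` are
equivalences and whose middle functor `Z ⥤ C` is fully faithful, the induced functor `X ×_Z Y ⥤ A
×_C B` is an equivalence of categories. -/
theorem result {X Y Z A B C : Type u} [Category.{v} X] [Category.{v} Y] [Category.{v} Z] [Category.{v} A] [Category.{v} B] [Category.{v} C] {H : X ⥤ Z} {I : Y ⥤ Z} {F : A ⥤ C} {G : B ⥤ C} (ψ : CatCospanTransform H I F G) [ψ.left.IsEquivalence] [ψ.right.IsEquivalence] [ψ.base.Full] [ψ.base.Faithful] :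
    (FibCat.categoricalPullbackMap ψ).IsEquivalence := by
  obtain ⟨hfull, hfaith⟩ := Groth.Agent.S6421.result ψ
  refine { faithful := hfaith, full := hfull, essSurj := ⟨fun t => ?_⟩ }
  let sqL : H ⋙ ψ.base ≅ ψ.left ⋙ F := ψ.squareLeft.iso
  let sqR : I ⋙ ψ.base ≅ ψ.right ⋙ G := ψ.squareRight.iso
  let x : X := ψ.left.objPreimage t.fst
  let y : Y := ψ.right.objPreimage t.snd
  let e₁ : ψ.left.obj x ≅ t.fst := ψ.left.objObjPreimageIso t.fst
  let e₂ : ψ.right.obj y ≅ t.snd := ψ.right.objObjPreimageIso t.snd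
  let θ' : ψ.base.obj (H.obj x) ≅ ψ.base.obj (I.obj y) :=
    sqL.app x ≪≫ F.mapIso e₁ ≪≫ t.iso ≪≫ G.mapIso e₂.symm ≪≫ (sqR.app y).symm
  let φ : H.obj x ≅ I.obj y := ψ.base.preimageIso θ'
  have hφ : ψ.base.map φ.hom = θ'.hom := by simp [φ]
  let s : Limits.CategoricalPullback H I := ⟨x, y, φ⟩
  have hiso : ((FibCat.categoricalPullbackMap ψ).obj s).iso.hom
      = sqL.inv.app x ≫ ψ.base.map φ.hom ≫ sqR.hom.app y := by
    simp [FibCat.categoricalPullbackMap, s, sqL, sqR]
    rfl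
  have hw : F.map e₁.hom ≫ t.iso.hom
      = (sqL.inv.app x ≫ θ'.hom ≫ sqR.hom.app y) ≫ G.map e₂.hom := by
    simp [θ']
  refine ⟨s, ⟨Limits.CategoricalPullback.mkIso e₁ e₂ ?_⟩⟩
  rw [hiso, hφ]
  exact hw

end Groth.Agent.S6422
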