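import Mathlib
import Groth.Statements.S6423

set_option autoImplicit false
open CategoryTheory CategoryTheory.Limits
universe v u
open CatLim

namespace Groth.Agent.S6423

section
open Classical

variable {C : Type u} [Category.{v} C] {J : Type} [SmallCategory J] (F : J ⥤ C)

/-- a partial "weak limit" over the finite set `S` of objects: jointly monic projections, through
which every cone factors. -/
def Good (S : Finset J) : Prop :=
  ∃ (P : C) (π : ∀ j, j ∈ S → (P ⟶ F.obj j)),
    (∀ (X : C) (a b : X ⟶ P), (∀ j (hj : j ∈ S), a ≫ π j hj = b ≫ π j hj) → a = b) ∧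
    (∀ (s : Cone F), ∃ a : s.pt ⟶ P, ∀ j (hj : j ∈ S), a ≫ π j hj = s.π.app j)

theorem good_singleton (j₀ : J) : Good F {j₀} := by
  refine ⟨F.obj j₀, fun j hj => eqToHom (by rw [Finset.mem_singleton.1 hj]), ?_, ?_⟩
  · intro X a b h
    simpa using h j₀ (Finset.mem_singleton_self j₀)
  · intro s
    refine ⟨s.π.app j₀, ?_⟩
    intro j hj
    obtain rfl := Finset.mem_singleton.1 hj
    simp

theorem good_insert_out {S : Finset J} (hS : Good F S) {j k : J} (hj : j ∈ S)
    (u : j ⟶ k) : Good F (insert k S) := by
  obtain ⟨P, π, hmono, hlift⟩ := hS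
  refine ⟨P, fun i hi => if h : i ∈ S then π i h else
    π j hj ≫ F.map u ≫ eqToHom (by rw [(Finset.mem_insert.1 hi).resolve_right h]), ?_, ?_⟩
  · intro X a b h
    apply hmono
    intro i hi
    have := h i (Finset.mem_insert_of_mem hi)
    simpa [hi] using this
  · intro s
    obtain ⟨a, ha⟩ := hlift s
    refine ⟨a, ?_⟩
    intro i hi
    by_cases h : i ∈ S
    · simp only [h, dif_pos]; exact ha i h
    · obtain rfl := (Finset.mem_insert.1 hi).resolve_right h
      simp only [h, dif_neg, not_false_eq_true, eqToHom_refl, Category.comp_id]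
      rw [← Category.assoc, ha j hj, Cone.w]

theorem good_insert_in [HasPullbacks C] {S : Finset J} (hS : Good F S) {j k : J} (hj : j ∈ S)
    (hk : k ∉ S) (u : k ⟶ j) : Good F (insert k S) := by
  obtain ⟨P, π, hmono, hlift⟩ := hS
  refine ⟨pullback (π j hj) (F.map u), fun i hi => if h : i ∈ S then pullback.fst _ _ ≫ π i h else
    pullback.snd _ _ ≫ eqToHom (by rw [(Finset.mem_insert.1 hi).resolve_right h]), ?_, ?_⟩
  · intro X a b h
    apply pullback.hom_ext
    · apply hmono
      intro i hi
      have := h i (Finset.mem_insert_of_mem hi)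
      simpa [hi] using this
    · have := h k (Finset.mem_insert_self k S)
      simpa [hk] using this
  · intro s
    obtain ⟨a, ha⟩ := hlift s
    refine ⟨pullback.lift a (s.π.app k) (by rw [ha j hj, Cone.w]), ?_⟩
    intro i hi
    by_cases h : i ∈ S
    · simp only [h, dif_pos]
      rw [← Category.assoc, pullback.lift_fst]; exact ha i h
    · obtain rfl := (Finset.mem_insert.1 hi).resolve_right h
      simp only [h, dif_neg, not_false_eq_true, eqToHom_refl, Category.comp_id]
      rw [pullback.lift_snd]

theorem good_univ [HasPullbacks C] [Fintype J] [IsConnected J] : Good F Finset.univ := by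
  have key : ∀ n : ℕ, ∀ S : Finset J, S.Nonempty → Good F S → (Finset.univ \ S).card = n →
      Good F Finset.univ := by
    intro n
    induction n with
    | zero =>
      intro S _ hS hcard
      have : S = Finset.univ := by
        rw [Finset.card_eq_zero, Finset.sdiff_eq_empty_iff_subset] at hcard
        exact Finset.univ_subset_iff.1 hcard
      rw [← this]; exact hS
    | succ n ih =>
      intro S hne hS hcard
      have hex : ∃ (j k : J), j ∈ S ∧ k ∉ S ∧ (Nonempty (j ⟶ k) ∨ Nonempty (k ⟶ j)) := by
        by_contra hcon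
        obtain ⟨j₀, hj₀⟩ := hne
        have hall : ∀ j, j ∈ (S : Set J) := induct_on_objects (S : Set J) hj₀ (by
          intro j₁ j₂ f
          constructor
          · intro h1
            by_contra h2
            exact hcon ⟨j₁, j₂, h1, h2, Or.inl ⟨f⟩⟩
          · intro h2
            by_contra h1
            exact hcon ⟨j₂, j₁, h2, h1, Or.inr ⟨f⟩⟩)
        have : S = Finset.univ := Finset.eq_univ_iff_forall.2 hall
        rw [this] at hcard
        simp at hcard
      obtain ⟨j, k, hj, hk, hjk⟩ := hex
      have hgood : Good F (insert k S) := by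
        rcases hjk with ⟨⟨u⟩⟩ | ⟨⟨u⟩⟩
        · exact good_insert_out F hS hj u
        · exact good_insert_in F hS hj hk u
      apply ih (insert k S) (Finset.insert_nonempty _ _) hgood
      rw [Finset.sdiff_insert, Finset.card_erase_of_mem (by simp [hk]), hcard]
      rfl
  obtain ⟨j₀⟩ : Nonempty J := IsConnected.is_nonempty
  exact key _ {j₀} (Finset.singleton_nonempty j₀) (good_singleton F j₀) rfl

theorem exists_joint_equalizer [HasEqualizers C] {P : C} (π : ∀ j, P ⟶ F.obj j)
    (L : List (Σ j k : J, j ⟶ k)) :
    ∃ (E : C) (e : E ⟶ P), Mono e ∧ (∀ u ∈ L, e ≫ π u.1 ≫ F.map u.2.2 = e ≫ π u.2.1) ∧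
      (∀ (X : C) (a : X ⟶ P), (∀ u ∈ L, a ≫ π u.1 ≫ F.map u.2.2 = a ≫ π u.2.1) →
        ∃ b : X ⟶ E, b ≫ e = a) := by
  induction L with
  | nil => exact ⟨P, 𝟙 P, inferInstance, by simp, fun X a _ => ⟨a, by simp⟩⟩
  | cons u L ih =>
    obtain ⟨E, e, he, h1, h2⟩ := ih
    refine ⟨equalizer (e ≫ π u.1 ≫ F.map u.2.2) (e ≫ π u.2.1), equalizer.ι _ _ ≫ e,
      mono_comp _ _, ?_, ?_⟩
    · intro w hw
      rcases List.mem_cons.1 hw with rfl | hw
      · simpa using equalizer.condition _ _
      · simp only [Category.assoc]; rw [h1 w hw]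
    · intro X a ha
      obtain ⟨b, hb⟩ := h2 X a (fun w hw => ha w (List.mem_cons_of_mem _ hw))
      refine ⟨equalizer.lift b ?_, ?_⟩
      · have := ha u List.mem_cons_self
        rw [← hb] at this
        simpa [Category.assoc] using this
      · rw [← Category.assoc, equalizer.lift_ι, hb]

end

/-- (2) ⇒ (1): a category with equalizers and fibre products has all finite connected limits. -/
theorem result {C : Type u} [Category.{v} C] [HasEqualizers C] [HasPullbacks C]
    (J : Type) [SmallCategory J] [FinCategory J] [IsConnected J] : HasLimitsOfShape J C := by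
  classical
  constructor
  intro F
  obtain ⟨P, π, hmono, hlift⟩ := good_univ F
  have hfin : Fintype (Σ j k : J, j ⟶ k) := inferInstance
  obtain ⟨E, e, he, h1, h2⟩ := exists_joint_equalizer F (fun j => π j (Finset.mem_univ j))
    (Finset.univ : Finset (Σ j k : J, j ⟶ k)).toList
  refine HasLimit.mk ⟨⟨E, ⟨fun j => e ≫ π j (Finset.mem_univ j), ?_⟩⟩, ?_⟩
  · intro j k u
    have := h1 ⟨j, k, u⟩ (by simp)
    simpa using this.symm
  · refine ⟨fun s => (h2 s.pt (hlift s).choose (fun u _ => ?_)).choose, ?_, ?_⟩
    · have hc := (hlift s).choose_spec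
      rw [← Category.assoc, hc u.1 (Finset.mem_univ _), hc u.2.1 (Finset.mem_univ _), Cone.w]
    · intro s j
      have hb := (h2 s.pt (hlift s).choose (fun u _ => by
        have hc := (hlift s).choose_spec
        rw [← Category.assoc, hc u.1 (Finset.mem_univ _), hc u.2.1 (Finset.mem_univ _),
          Cone.w])).choose_spec
      have hc := (hlift s).choose_spec
      show _ ≫ e ≫ π j _ = _
      rw [← Category.assoc, hb, hc]
    · intro s m hm
      have hb := (h2 s.pt (hlift s).choose (fun u _ => by
        have hc := (hlift s).choose_spec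
        rw [← Category.assoc, hc u.1 (Finset.mem_univ _), hc u.2.1 (Finset.mem_univ _),
          Cone.w])).choose_spec
      have hc := (hlift s).choose_spec
      rw [← cancel_mono e, hb]
      apply hmono
      intro j hj
      rw [hc j hj, Category.assoc]
      exact hm j

end Groth.Agent.S6423
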