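import Groth.Statements.S6424
import Mathlib

set_option autoImplicit false
open CategoryTheory CategoryTheory.Limits
universe v u
open CatLim

namespace Groth.Agent.S6424

section
variable {C : Type u} [Category.{v} C] [HasBinaryProducts C]

theorem hasProduct_fin_succ : ∀ (n : ℕ) (f : Fin (n + 1) → C), HasProduct f
  | 0 => fun f => by
    have h1 : Subsingleton (Fin (0 + 1)) := (inferInstance : Subsingleton (Fin 1))
    have h2 : Nonempty (Fin (0 + 1)) := ⟨0⟩
    exact hasProduct_unique f
  | n + 1 => fun f =>
    have := hasProduct_fin_succ n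
    HasLimit.mk ⟨_, extendFanIsLimit f (limit.isLimit _) (limit.isLimit _)⟩

theorem hasLimitsOfShape_fin_succ (n : ℕ) : HasLimitsOfShape (Discrete (Fin (n + 1))) C :=
  ⟨fun K => by
    let that : (Discrete.functor fun n => K.obj ⟨n⟩) ≅ K := Discrete.natIso fun ⟨_⟩ => Iso.refl _
    rw [← hasLimit_iff_of_iso that]
    apply hasProduct_fin_succ⟩

theorem hasLimitsOfShape_discrete_of_nonempty (ι : Type) [Fintype ι] [Nonempty ι] :
    HasLimitsOfShape (Discrete ι) C := by
  have hpos : 0 < Fintype.card ι := Fintype.card_pos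
  obtain ⟨n, hn⟩ : ∃ n, Fintype.card ι = n + 1 := ⟨Fintype.card ι - 1, by omega⟩
  have e : Fin (n + 1) ≃ ι := (Fintype.equivFinOfCardEq hn).symm
  have := hasLimitsOfShape_fin_succ (C := C) n
  exact hasLimitsOfShape_of_equivalence (Discrete.equivalence e)

end


/-- (2) ⇒ (1): a category with products of pairs and equalizers has all finite nonempty limits. -/
theorem result {C : Type u} [Category.{v} C] [HasBinaryProducts C] [HasEqualizers C]
    (J : Type) [SmallCategory J] [FinCategory J] [Nonempty J] : HasLimitsOfShape J C := by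
  classical
  have : HasLimitsOfShape (Discrete J) C := hasLimitsOfShape_discrete_of_nonempty J
  have : Nonempty (Σ p : J × J, p.1 ⟶ p.2) := by
    obtain ⟨j⟩ := (inferInstance : Nonempty J)
    exact ⟨⟨(j, j), 𝟙 j⟩⟩
  have : HasLimitsOfShape (Discrete (Σ p : J × J, p.1 ⟶ p.2)) C :=
    hasLimitsOfShape_discrete_of_nonempty _
  exact ⟨fun F => hasLimit_of_equalizer_and_product F⟩

end Groth.Agent.S6424
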