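import Groth.Statements.S6425
import Mathlib

set_option autoImplicit false
open CategoryTheory CategoryTheory.Limits
universe v
open CatLim

namespace Groth.Agent.S6425

/-- Over an index category in which any two objects map to a common object, the comparison map `colim (M
× N) → colim M × colim N` for diagrams of sets is surjective. -/
theorem result {I : Type v} [SmallCategory I]
    (hI : ∀ x y : I, ∃ (z : I) (_ : x ⟶ z) (_ : y ⟶ z), True) (M N : I ⥤ Type v) :
    Function.Surjective (prodComparison (colim : (I ⥤ Type v) ⥤ Type v) M N) := by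
  intro t
  obtain ⟨i, m, hm⟩ := Types.jointly_surjective' ((prod.fst : colim.obj M ⨯ colim.obj N ⟶ colim.obj M) t)
  obtain ⟨j, n, hn⟩ := Types.jointly_surjective' ((prod.snd : colim.obj M ⨯ colim.obj N ⟶ colim.obj N) t)
  obtain ⟨z, u, w, -⟩ := hI i j
  -- natural transformations out of the corepresentable functor
  let α : coyoneda.obj (Opposite.op z) ⟶ M := coyonedaEquiv.symm (M.map u m)
  let β : coyoneda.obj (Opposite.op z) ⟶ N := coyonedaEquiv.symm (N.map w n)
  have hα : α.app z (𝟙 z) = M.map u m := coyonedaEquiv.apply_symm_apply (M.map u m)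
  have hβ : β.app z (𝟙 z) = N.map w n := coyonedaEquiv.apply_symm_apply (N.map w n)
  let p : (M ⨯ N).obj z := (prod.lift α β).app z (𝟙 z)
  have hp1 : (prod.fst : M ⨯ N ⟶ M).app z p = M.map u m := by
    have h := congrArg (fun γ => γ.app z (𝟙 z)) (prod.lift_fst α β)
    simp only [NatTrans.comp_app, types_comp_apply] at h
    rw [← hα]; exact h
  have hp2 : (prod.snd : M ⨯ N ⟶ N).app z p = N.map w n := by
    have h := congrArg (fun γ => γ.app z (𝟙 z)) (prod.lift_snd α β)
    simp only [NatTrans.comp_app, types_comp_apply] at h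
    rw [← hβ]; exact h
  refine ⟨colimit.ι (M ⨯ N) z p, ?_⟩
  apply Types.limit_ext
  rintro ⟨_ | _⟩
  · show (prod.fst : colim.obj M ⨯ colim.obj N ⟶ colim.obj M)
      (prodComparison colim M N (colimit.ι (M ⨯ N) z p)) = (prod.fst : _ ⟶ colim.obj M) t
    have h1 : (prodComparison colim M N ≫ prod.fst) (colimit.ι (M ⨯ N) z p) =
        colimit.ι M z ((prod.fst : M ⨯ N ⟶ M).app z p) := by
      rw [prodComparison_fst]
      show (colimit.ι (M ⨯ N) z ≫ colimMap (prod.fst : M ⨯ N ⟶ M)) p = _
      rw [ι_colimMap]; rfl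
    rw [types_comp_apply] at h1
    rw [h1, hp1, ← hm]
    have h2 := congrArg (fun f : M.obj i ⟶ colimit M => f m) (colimit.w M u)
    simpa only [types_comp_apply] using h2
  · show (prod.snd : colim.obj M ⨯ colim.obj N ⟶ colim.obj N)
      (prodComparison colim M N (colimit.ι (M ⨯ N) z p)) = (prod.snd : _ ⟶ colim.obj N) t
    have h1 : (prodComparison colim M N ≫ prod.snd) (colimit.ι (M ⨯ N) z p) =
        colimit.ι N z ((prod.snd : M ⨯ N ⟶ N).app z p) := by
      rw [prodComparison_snd]
      show (colimit.ι (M ⨯ N) z ≫ colimMap (prod.snd : M ⨯ N ⟶ N)) p = _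
      rw [ι_colimMap]; rfl
    rw [types_comp_apply] at h1
    rw [h1, hp2, ← hn]
    have h2 := congrArg (fun f : N.obj j ⟶ colimit N => f n) (colimit.w N w)
    simpa only [types_comp_apply] using h2

end Groth.Agent.S6425
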