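import Groth.Statements.S6426
import Mathlib

set_option autoImplicit false
open CategoryTheory CategoryTheory.Limits
universe v
open CatLim

namespace Groth.Agent.S6426

/-- Over a nonempty index category in which any two objects map to a common object, the set-theoretic
colimit of a diagram of abelian groups surjects onto its colimit in abelian groups. (The published
statement does not require the index category to be nonempty; this row assumes it, because for the
empty index category the colimit of sets is empty while the colimit of abelian groups is the zero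
group.) -/
theorem result {I : Type v} [SmallCategory I] [Nonempty I]
    (hI : ∀ x y : I, ∃ (z : I) (_ : x ⟶ z) (_ : y ⟶ z), True) (M : I ⥤ AddCommGrpCat.{v}) :
    Function.Surjective (colimit.post M (forget AddCommGrpCat.{v})) := by
  classical
  -- the subgroup of elements coming from some `M i`
  let T : AddSubgroup ↑(colimit M) :=
    { carrier := {x | ∃ (i : I) (m : M.obj i), (colimit.ι M i).hom m = x}
      zero_mem' := by
        obtain ⟨i⟩ := (inferInstance : Nonempty I)
        exact ⟨i, 0, map_zero _⟩
      add_mem' := by
        rintro x y ⟨i, m, rfl⟩ ⟨j, n, rfl⟩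
        obtain ⟨z, u, w, -⟩ := hI i j
        refine ⟨z, (M.map u).hom m + (M.map w).hom n, ?_⟩
        rw [map_add]
        have h1 : (colimit.ι M z).hom ((M.map u).hom m) = (colimit.ι M i).hom m := by
          rw [← colimit.w M u]; rfl
        have h2 : (colimit.ι M z).hom ((M.map w).hom n) = (colimit.ι M j).hom n := by
          rw [← colimit.w M w]; rfl
        rw [h1, h2]
      neg_mem' := by
        rintro x ⟨i, m, rfl⟩
        exact ⟨i, -m, map_neg _ _⟩ }
  have hT : T = ⊤ := by
    let π : colimit M ⟶ AddCommGrpCat.of (↑(colimit M) ⧸ T) :=
      AddCommGrpCat.ofHom (QuotientAddGroup.mk' T)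
    have hπ : π = 0 := by
      apply colimit.hom_ext
      intro i
      ext m
      show (QuotientAddGroup.mk' T) ((colimit.ι M i).hom m) = 0
      rw [QuotientAddGroup.mk'_apply, QuotientAddGroup.eq_zero_iff]
      exact ⟨i, m, rfl⟩
    rw [eq_top_iff]
    intro x _
    have : (QuotientAddGroup.mk' T) x = 0 := by
      have := congrArg (fun f => f.hom x) hπ
      exact this
    rwa [QuotientAddGroup.mk'_apply, QuotientAddGroup.eq_zero_iff] at this
  intro x
  have hx : (x : ↑(colimit M)) ∈ T := by rw [hT]; trivial
  obtain ⟨i, m, hm⟩ := hx
  refine ⟨colimit.ι (M ⋙ forget AddCommGrpCat.{v}) i m, ?_⟩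
  have h := congrArg (fun f => f m) (colimit.ι_post M (forget AddCommGrpCat.{v}) i)
  simp only [types_comp_apply] at h
  rw [h]
  exact hm

end Groth.Agent.S6426
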