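import Groth.Statements.S6427
import Mathlib

set_option autoImplicit false
open CategoryTheory CategoryTheory.Limits
universe v
open CatLim

namespace Groth.Agent.S6427

/-- Over an index category in which every pair of morphisms with common source can be completed to a
commutative square, colimits of sets preserve injective morphisms of diagrams. -/
theorem result {I : Type v} [SmallCategory I]
    (hI : ∀ ⦃x y z : I⦄ (f : x ⟶ y) (g : x ⟶ z), ∃ (w : I) (f' : y ⟶ w) (g' : z ⟶ w), f ≫ f' = g ≫ g')
    {M N : I ⥤ Type v} (φ : M ⟶ N) (hφ : ∀ i, Function.Injective (φ.app i)) :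
    Function.Injective (colimMap φ) := by
  have key : ∀ (F : I ⥤ Type v) (p q : Σ j, F.obj j), Relation.EqvGen F.ColimitTypeRel p q →
      ∃ (k : I) (f : p.1 ⟶ k) (g : q.1 ⟶ k), F.map f p.2 = F.map g q.2 := by
    intro F p q h
    induction h with
    | rel p q h =>
      obtain ⟨f, hf⟩ := h
      exact ⟨q.1, f, 𝟙 _, by simp [hf]⟩
    | refl p => exact ⟨p.1, 𝟙 _, 𝟙 _, rfl⟩
    | symm p q _ ih =>
      obtain ⟨k, f, g, h⟩ := ih
      exact ⟨k, g, f, h.symm⟩
    | trans p q r _ _ ih1 ih2 =>
      obtain ⟨k, f, g, h⟩ := ih1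
      obtain ⟨k', g', h', h2⟩ := ih2
      obtain ⟨w, a, b, hab⟩ := hI g g'
      refine ⟨w, f ≫ a, h' ≫ b, ?_⟩
      rw [Functor.map_comp_apply, Functor.map_comp_apply, h, ← h2,
        ← Functor.map_comp_apply, ← Functor.map_comp_apply, hab]
  intro a b hab
  obtain ⟨i, x, rfl⟩ := Types.jointly_surjective' a
  obtain ⟨j, y, rfl⟩ := Types.jointly_surjective' b
  have h1 : colimit.ι N i (φ.app i x) = colimit.ι N j (φ.app j y) := by
    have e1 : colimMap φ (colimit.ι M i x) = colimit.ι N i (φ.app i x) :=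
      colimit.ι_map_apply φ i x
    have e2 : colimMap φ (colimit.ι M j y) = colimit.ι N j (φ.app j y) :=
      colimit.ι_map_apply φ j y
    rw [← e1, ← e2]
    exact hab
  obtain ⟨k, f, g, h⟩ := key N _ _ (Types.colimit_eq h1)
  dsimp at f g h
  rw [← NatTrans.naturality_apply, ← NatTrans.naturality_apply] at h
  exact Types.colimit_sound' f g (hφ k h)

end Groth.Agent.S6427
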