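import Mathlib
import Groth.Statements.S6428

set_option autoImplicit false
open CategoryTheory CategoryTheory.Limits
universe v₁ u₁ v₂ u₂ v₃ u₃
open CatLim

namespace Groth.Agent.S6428

section Aux
variable {I : Type u₁} [Category.{v₁} I] {I' : Type u₂} [Category.{v₂} I'] (F : I ⥤ I')

/-- the functor from a fibre to a structured-arrow category determined by a morphism -/
def Phi {x' z' : I'} (g : x' ⟶ z') : F.Fiber z' ⥤ StructuredArrow x' F where
  obj a := StructuredArrow.mk (g ≫ eqToHom a.2.symm)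
  map {a b} f := StructuredArrow.homMk f.1 (by
    have := f.2
    have e := IsHomLift.fac' F (𝟙 z') f.1
    dsimp
    rw [e]
    simp)
  map_id a := by
    apply StructuredArrow.hom_ext
    rfl
  map_comp f g := by
    apply StructuredArrow.hom_ext
    rfl

theorem final_of_fibers
    (h1 : ∀ x' : I', IsConnected (F.Fiber x'))
    (h2 : ∀ ⦃x' y' : I'⦄ (α' : x' ⟶ y'), ∃ (x y : I) (hx : F.obj x = x') (hy : F.obj y = y')
      (α : x ⟶ y), F.map α = eqToHom hx ≫ α' ≫ eqToHom hy.symm) : F.Final := by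
  refine ⟨fun x' => ?_⟩
  have := h1 x'
  obtain ⟨x0⟩ := (h1 x').is_nonempty
  have : Nonempty (StructuredArrow x' F) := ⟨(Phi F (𝟙 x')).obj x0⟩
  suffices H : ∀ A : StructuredArrow x' F, Zigzag A ((Phi F (𝟙 x')).obj x0) from
    zigzag_isConnected (fun A B => (H A).trans (H B).symm)
  intro A
  obtain ⟨x, y2, hx, hy, α, hα⟩ := h2 A.hom
  have e0 : A = (Phi F A.hom).obj ⟨A.right, rfl⟩ := by
    obtain ⟨l, r, g⟩ := A
    cases l
    dsimp [Phi, StructuredArrow.mk]
    congr 1
    simp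
  have z1 : Zigzag ((Phi F A.hom).obj ⟨A.right, rfl⟩) ((Phi F A.hom).obj ⟨y2, hy⟩) := by
    have := h1 (F.obj A.right)
    exact zigzag_obj_of_zigzag _ (isPreconnected_zigzag _ _)
  have z2 : Zigzag ((Phi F (𝟙 x')).obj ⟨x, hx⟩) ((Phi F A.hom).obj ⟨y2, hy⟩) := by
    refine Relation.ReflTransGen.single (Or.inl ⟨StructuredArrow.homMk α ?_⟩)
    dsimp [Phi]
    rw [hα]
    simp
  have z3 : Zigzag ((Phi F (𝟙 x')).obj ⟨x, hx⟩) ((Phi F (𝟙 x')).obj x0) :=
    zigzag_obj_of_zigzag _ (isPreconnected_zigzag _ _)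
  rw [e0]
  exact z1.trans (z2.symm.trans z3)

end Aux

/-- If `F : I ⥤ I'` has connected fibre categories and is surjective on morphisms, then for every
diagram `M : I' ⥤ C` the colimit of `F ⋙ M` exists if and only if that of `M` does, and the
canonical comparison between them is then an isomorphism. -/
theorem result {I : Type u₁} [Category.{v₁} I] {I' : Type u₂} [Category.{v₂} I'] {C : Type u₃} [Category.{v₃} C] (F : I ⥤ I')
    (h1 : ∀ x' : I', IsConnected (F.Fiber x'))
    (h2 : ∀ ⦃x' y' : I'⦄ (α' : x' ⟶ y'), ∃ (x y : I) (hx : F.obj x = x') (hy : F.obj y = y') (α : x ⟶ y), F.map α = eqToHom hx ≫ α' ≫ eqToHom hy.symm)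
    (M : I' ⥤ C) :
    (HasColimit (F ⋙ M) ↔ HasColimit M) ∧ ∀ [HasColimit (F ⋙ M)] [HasColimit M], IsIso (colimit.pre M F) := by
  have : F.Final := final_of_fibers F h1 h2
  refine ⟨⟨fun _ => Functor.Final.hasColimit_of_comp F, fun _ => inferInstance⟩, ?_⟩
  intro _ _
  infer_instance

end Groth.Agent.S6428
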