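import Groth.Statements.S6429
import Mathlib

set_option autoImplicit false
open CategoryTheory CategoryTheory.MonoidalCategory
universe v u
open MonCat

namespace Groth.Agent.S6429

/-- An object `X` of a monoidal category is invertible (some `X'` has `X ⊗ X' ≅ 𝟙` and `X' ⊗ X ≅ 𝟙`) if
and only if tensoring on the left by `X` is an equivalence, if and only if tensoring on the right by
`X` is an equivalence. -/
theorem result {C : Type u} [Category.{v} C] [MonoidalCategory C] (X : C) :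
    ((tensorLeft X).IsEquivalence ↔ ∃ X' : C, Nonempty (X ⊗ X' ≅ 𝟙_ C) ∧ Nonempty (X' ⊗ X ≅ 𝟙_ C)) ∧
      ((tensorRight X).IsEquivalence ↔ ∃ X' : C, Nonempty (X ⊗ X' ≅ 𝟙_ C) ∧ Nonempty (X' ⊗ X ≅ 𝟙_ C)) := by
  constructor
  · constructor
    · intro hE
      have e : (tensorLeft X).obj ((tensorLeft X).objPreimage (𝟙_ C)) ≅ 𝟙_ C :=
        (tensorLeft X).objObjPreimageIso (𝟙_ C)
      refine ⟨(tensorLeft X).objPreimage (𝟙_ C), ⟨e⟩, ⟨?_⟩⟩
      apply (tensorLeft X).preimageIso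
      exact (α_ X _ X).symm ≪≫ (whiskerRightIso e X) ≪≫ λ_ X ≪≫ (ρ_ X).symm
    · rintro ⟨X', ⟨e⟩, ⟨e'⟩⟩
      let η : 𝟭 C ≅ tensorLeft X ⋙ tensorLeft X' :=
        (leftUnitorNatIso C).symm ≪≫ (tensoringLeft C).mapIso e'.symm ≪≫ tensorLeftTensor X' X
      let ε : tensorLeft X' ⋙ tensorLeft X ≅ 𝟭 C :=
        (tensorLeftTensor X X').symm ≪≫ (tensoringLeft C).mapIso e ≪≫ leftUnitorNatIso C
      exact (CategoryTheory.Equivalence.mk (tensorLeft X) (tensorLeft X') η ε).isEquivalence_functor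
  · constructor
    · intro hE
      have e' : (tensorRight X).obj ((tensorRight X).objPreimage (𝟙_ C)) ≅ 𝟙_ C :=
        (tensorRight X).objObjPreimageIso (𝟙_ C)
      refine ⟨(tensorRight X).objPreimage (𝟙_ C), ⟨?_⟩, ⟨e'⟩⟩
      apply (tensorRight X).preimageIso
      exact α_ X _ X ≪≫ (whiskerLeftIso X e') ≪≫ ρ_ X ≪≫ (λ_ X).symm
    · rintro ⟨X', ⟨e⟩, ⟨e'⟩⟩
      let η : 𝟭 C ≅ tensorRight X ⋙ tensorRight X' :=
        (rightUnitorNatIso C).symm ≪≫ (tensoringRight C).mapIso e.symm ≪≫ tensorRightTensor X X'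
      let ε : tensorRight X' ⋙ tensorRight X ≅ 𝟭 C :=
        (tensorRightTensor X' X).symm ≪≫ (tensoringRight C).mapIso e' ≪≫ rightUnitorNatIso C
      exact (CategoryTheory.Equivalence.mk (tensorRight X) (tensorRight X') η ε).isEquivalence_functor

end Groth.Agent.S6429
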