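import Groth.Statements.S6430
import Groth.Agent.S6418
import Groth.Agent.S6416

set_option autoImplicit false
open CategoryTheory
universe v₂ u₂ v u
open FibCat

namespace Groth.Agent.S6430

section
variable {C : Type u} [Category.{v} C] {𝒮 : Type u₂} [Category.{v₂} 𝒮] (p : 𝒮 ⥤ C)

theorem Q1 {a' a : FibCat.cartSub p} (m : a' ⟶ a) {R S : C} (f : R ⟶ S)
    (h : p.IsHomLift f m.1) : (FibCat.cartSubProj p).IsHomLift f m :=
  Groth.Agent.S6416.comp_lift (wideSubcategoryInclusion (FibCat.cartMor p)) p m m.1 f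
    (IsHomLift.map (p := wideSubcategoryInclusion (FibCat.cartMor p)) m) h

theorem Q2 {a' a : FibCat.cartSub p} (m : a' ⟶ a) {R S : C} (f : R ⟶ S)
    (h : (FibCat.cartSubProj p).IsHomLift f m) : p.IsHomLift f m.1 := by
  obtain ⟨⟩ := h
  exact (IsHomLift.map (p := p) m.1)

end

/-- For a fibred category `p : 𝒮 ⥤ C`, the wide subcategory of `𝒮` on the strongly cartesian morphisms
is fibred in groupoids over `C`. -/
theorem result {C : Type u} [Category.{v} C] {𝒮 : Type u₂} [Category.{v₂} 𝒮] (p : 𝒮 ⥤ C) [p.IsFibered] :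
    FibCat.IsFibGrpd (FibCat.cartSubProj p) := by
  refine { exists_lift := ?_, isStronglyCartesian := ?_ }
  · intro x V f
    obtain ⟨γ, hγ⟩ : ∃ γ : V ⟶ p.obj x.obj, γ = f := ⟨f, rfl⟩
    obtain ⟨y, φ, hφ⟩ := IsPreFibered.exists_isCartesian p (a := x.obj) rfl γ
    have hsc : p.IsStronglyCartesian γ φ := inferInstance
    have hm : FibCat.cartMor p φ := Groth.Agent.S6418.sc_map_of_sc p γ φ hsc
    refine ⟨⟨y⟩, ⟨φ, hm⟩, ?_⟩
    subst hγ
    exact Q1 p ⟨φ, hm⟩ γ inferInstance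
  · intro y x m
    refine { toIsHomLift := inferInstance, universal_property' := ?_ }
    intro a' g m' hm'
    obtain ⟨γ, hγ⟩ : ∃ γ : p.obj a'.obj ⟶ p.obj y.obj, γ = g := ⟨g, rfl⟩
    have hsc : p.IsStronglyCartesian (p.map m.1) m.1 := m.2
    have h1 : p.IsHomLift (γ ≫ p.map m.1) m'.1 := by
      subst hγ
      exact Q2 p _ _ hm'
    let χ := Functor.IsStronglyCartesian.map p (p.map m.1) m.1 (g := γ) rfl m'.1
    have hχ : χ ≫ m.1 = m'.1 := Functor.IsStronglyCartesian.fac _ _ _ _ _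
    have hχl : p.IsHomLift γ χ := inferInstance
    have hm'sc : p.IsStronglyCartesian (γ ≫ p.map m.1) (χ ≫ m.1) := by
      rw [hχ]
      exact Groth.Agent.S6393.sc_of_lift p _ m'.1 h1 m'.2
    have hχsc : p.IsStronglyCartesian γ χ :=
      Functor.IsStronglyCartesian.of_comp p (f := γ) (g := p.map m.1) (φ := χ) (ψ := m.1)
    have hχm : FibCat.cartMor p χ := Groth.Agent.S6418.sc_map_of_sc p γ χ hχsc
    refine ⟨⟨χ, hχm⟩, ⟨?_, ?_⟩, ?_⟩
    · subst hγ
      exact Q1 p ⟨χ, hχm⟩ γ hχl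
    · ext
      exact hχ
    · rintro χ' ⟨h1', h2'⟩
      ext
      have : p.IsHomLift γ χ'.1 := by
        subst hγ
        exact Q2 p _ _ h1'
      exact Functor.IsStronglyCartesian.map_uniq p (p.map m.1) m.1 rfl m'.1 χ'.1
        (congrArg (fun t => t.1) h2')

end Groth.Agent.S6430
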