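import Groth.Statements.S6431
import Groth.Agent.Lib.Helper10.SplitFib
import Groth.Agent.Lib.Helper10.EquivOver
import Groth.Agent.Lib.Helper19.FibLib

set_option autoImplicit false
open CategoryTheory
universe v u
open FibCat

namespace Groth.Agent.S6431

/-- Every fibred category over `C` is equivalent over `C` to a split one, namely to the Grothendieck
construction of a strict functor `Cᵒᵖ ⥤ Cat`. -/
theorem result {C : Type u} [Category.{v} C] (𝒳 : BasedCategory.{v, max u v} C) [𝒳.p.IsFibered] :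
    ∃ (F : Cᵒᵖ ⥤ Cat.{v, max u v}) (E : 𝒳 ⥤ᵇ BasedCategory.ofFunctor (Pseudofunctor.CoGrothendieck.forget F.toPseudofunctor')),
      FibCat.IsEquivOver E := by
  let GB : BasedCategory.ofFunctor (Pseudofunctor.CoGrothendieck.forget
      (Groth.Agent.Helper10.SplitFib.splitFunctor 𝒳.p).toPseudofunctor') ⥤ᵇ 𝒳 :=
    ⟨Groth.Agent.Helper10.SplitFib.G (p := 𝒳.p), Groth.Agent.Helper10.SplitFib.G_comp_p⟩
  have : GB.toFunctor.Full := Groth.Agent.Helper10.SplitFib.G_full
  have : GB.toFunctor.Faithful := Groth.Agent.Helper10.SplitFib.G_faithful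
  have hG : IsEquivOver GB := Groth.Agent.Helper10.isEquivOver_of_ff_ess GB
    (fun x => Groth.Agent.Helper10.SplitFib.G_ess x)
  obtain ⟨E, hE, -, -⟩ := Groth.Agent.Helper19.FibLib.IsEquivOver.exists_inv hG
  exact ⟨Groth.Agent.Helper10.SplitFib.splitFunctor 𝒳.p, E, hE⟩

end Groth.Agent.S6431
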