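import Groth.Statements.S6432
import Groth.Agent.Lib.Helper10.SplitFib
import Groth.Agent.Lib.Helper10.EquivOver
import Groth.Agent.Lib.Helper19.FibLib

set_option autoImplicit false
open CategoryTheory
universe v u
open FibCat

namespace Groth.Agent.S6432

/-- Every category fibred in groupoids over `C` is equivalent over `C` to the Grothendieck construction
of a strict functor `Cᵒᵖ ⥤ Cat` with groupoid values. -/
theorem result {C : Type u} [Category.{v} C] (𝒳 : BasedCategory.{v, max u v} C) (h𝒳 : FibCat.IsFibGrpd 𝒳.p) :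
    ∃ (F : Cᵒᵖ ⥤ Cat.{v, max u v}) (_ : ∀ U : Cᵒᵖ, IsGroupoid (F.obj U))
      (E : 𝒳 ⥤ᵇ BasedCategory.ofFunctor (Pseudofunctor.CoGrothendieck.forget F.toPseudofunctor')),
      FibCat.IsEquivOver E := by
  have hfib : 𝒳.p.IsFibered := Groth.Agent.Helper19.FibLib.isFibered_of_isFibGrpd h𝒳
  let GB : BasedCategory.ofFunctor (Pseudofunctor.CoGrothendieck.forget
      (Groth.Agent.Helper10.SplitFib.splitFunctor 𝒳.p).toPseudofunctor') ⥤ᵇ 𝒳 :=
    ⟨Groth.Agent.Helper10.SplitFib.G (p := 𝒳.p), Groth.Agent.Helper10.SplitFib.G_comp_p⟩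
  have : GB.toFunctor.Full := Groth.Agent.Helper10.SplitFib.G_full
  have : GB.toFunctor.Faithful := Groth.Agent.Helper10.SplitFib.G_faithful
  have hG : IsEquivOver GB := Groth.Agent.Helper10.isEquivOver_of_ff_ess GB
    (fun x => Groth.Agent.Helper10.SplitFib.G_ess x)
  obtain ⟨E, hE, -, -⟩ := Groth.Agent.Helper19.FibLib.IsEquivOver.exists_inv hG
  refine ⟨Groth.Agent.Helper10.SplitFib.splitFunctor 𝒳.p, ?_, E, hE⟩
  intro U
  constructor
  intro o o' f
  obtain ⟨f', hf'⟩ : ∃ f' : @Quiver.Hom (Groth.Agent.Helper10.SplitFib.FO 𝒳.p U.unop) _ o o',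
    f' = f := ⟨f, rfl⟩
  have h1 : IsIso f'.φ := Groth.Agent.Helper19.FibLib.isIso_of_isHomLift h𝒳 (𝟙 U.unop) f'.φ
  have h2 : IsIso f' := Groth.Agent.Helper10.SplitFib.isIso_of_isIso_φ f'
  rw [← hf']
  exact h2

end Groth.Agent.S6432
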