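import Groth.Statements.S6433
import Mathlib

set_option autoImplicit false
open CategoryTheory
universe v u v' u'
open CatLoc

namespace Groth.Agent.S6433

/-- For a left multiplicative system `W` and a localization functor `L`, any finite family of morphisms
`L X_i ⟶ L Y` admits a common denominator: some `s : Y ⟶ Y'` in `W` and morphisms `f_i : X_i ⟶ Y'`
with `g_i = L(s)⁻¹ L(f_i)`. -/
theorem result {C : Type u} [Category.{v} C] {D : Type u'} [Category.{v'} D] (W : MorphismProperty C) (L : C ⥤ D) [L.IsLocalization W] [W.HasLeftCalculusOfFractions]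
    {ι : Type} [Finite ι] (X : ι → C) (Y : C) (g : ∀ i, L.obj (X i) ⟶ L.obj Y) :
    ∃ (Y' : C) (s : Y ⟶ Y') (_ : W s) (f : ∀ i, X i ⟶ Y'), ∀ i, g i ≫ L.map s = L.map (f i) := by
  suffices H : ∀ (ι : Type) [Finite ι], ∀ (X : ι → C) (g : ∀ i, L.obj (X i) ⟶ L.obj Y),
      ∃ (Y' : C) (s : Y ⟶ Y') (_ : W s) (f : ∀ i, X i ⟶ Y'),
        ∀ i, g i ≫ L.map s = L.map (f i) from H ι X g
  intro ι _
  refine Finite.induction_empty_option (P := fun ι => ∀ (X : ι → C)
    (g : ∀ i, L.obj (X i) ⟶ L.obj Y), ∃ (Y' : C) (s : Y ⟶ Y') (_ : W s) (f : ∀ i, X i ⟶ Y'),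
        ∀ i, g i ≫ L.map s = L.map (f i)) ?_ ?_ ?_ ι
  · intro α β e h X g
    obtain ⟨Y', s, hs, f, hf⟩ := h (fun a => X (e a)) (fun a => g (e a))
    have : ∀ b, ∃ fb : X b ⟶ Y', g b ≫ L.map s = L.map fb := by
      intro b
      obtain ⟨a, rfl⟩ := e.surjective b
      exact ⟨f a, hf a⟩
    choose f' hf' using this
    exact ⟨Y', s, hs, f', hf'⟩
  · intro X g
    exact ⟨Y, 𝟙 Y, W.id_mem Y, fun i => i.elim, fun i => i.elim⟩
  · intro α _ ih X g
    obtain ⟨Y₁, s₁, hs₁, f, hf⟩ := ih (fun a => X (some a)) (fun a => g (some a))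
    obtain ⟨z, hz⟩ := Localization.exists_leftFraction L W (g none)
    obtain ⟨ψ, hψ⟩ := (MorphismProperty.RightFraction.mk s₁ hs₁ z.s).exists_leftFraction
    dsimp at hψ
    refine ⟨ψ.Y', z.s ≫ ψ.s, W.comp_mem _ _ z.hs ψ.hs,
      fun o => match o with
        | none => z.f ≫ ψ.s
        | some a => f a ≫ ψ.f, ?_⟩
    intro o
    cases o with
    | none =>
      dsimp
      rw [hz, L.map_comp, ← Category.assoc,
        MorphismProperty.LeftFraction.map_comp_map_s, ← L.map_comp]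
    | some a =>
      dsimp
      rw [hψ, L.map_comp, ← Category.assoc, hf a, ← L.map_comp]

end Groth.Agent.S6433
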