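import Groth.Statements.S6435
import Mathlib

set_option autoImplicit false
open CategoryTheory
universe v u v' u'
open CatLoc

namespace Groth.Agent.S6435

/-- For a multiplicative system `W` (left and right calculus of fractions) with localization functor
`L`, a morphism `f` becomes an isomorphism under `L` if and only if `g ∘ f ∈ W` and `f ∘ h ∈ W` for
some `g, h`. -/
theorem result {C : Type u} [Category.{v} C] {D : Type u'} [Category.{v'} D] (W : MorphismProperty C) (L : C ⥤ D) [L.IsLocalization W] [W.HasLeftCalculusOfFractions] [W.HasRightCalculusOfFractions]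
    {X Y : C} (f : X ⟶ Y) :
    IsIso (L.map f) ↔ ∃ (Z Z' : C) (g : Y ⟶ Z) (h : Z' ⟶ X), W (f ≫ g) ∧ W (h ≫ f) := by
  constructor
  · intro hf
    obtain ⟨z, hz⟩ := Localization.exists_leftFraction L W (inv (L.map f))
    have h1 : L.map z.s = L.map (f ≫ z.f) := by
      have := MorphismProperty.LeftFraction.map_comp_map_s z L (Localization.inverts L W)
      rw [← hz] at this
      rw [L.map_comp, ← this, IsIso.hom_inv_id_assoc]
    obtain ⟨Z, t, ht, fac⟩ := (MorphismProperty.map_eq_iff_postcomp L W _ _).1 h1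
    obtain ⟨z', hz'⟩ := Localization.exists_rightFraction L W (inv (L.map f))
    have h2 : L.map z'.s = L.map (z'.f ≫ f) := by
      have := MorphismProperty.RightFraction.map_s_comp_map z' L (Localization.inverts L W)
      rw [← hz'] at this
      rw [L.map_comp, ← this, Category.assoc, IsIso.inv_hom_id, Category.comp_id]
    obtain ⟨Z', t', ht', fac'⟩ := (MorphismProperty.map_eq_iff_precomp L W _ _).1 h2
    refine ⟨Z, Z', z.f ≫ t, t' ≫ z'.f, ?_, ?_⟩
    · rw [← Category.assoc, ← fac]
      exact W.comp_mem _ _ z.hs ht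
    · rw [Category.assoc, ← fac']
      exact W.comp_mem _ _ ht' z'.hs
  · rintro ⟨Z, Z', g, h, hg, hh⟩
    have h1 : IsIso (L.map f ≫ L.map g) := by
      rw [← L.map_comp]; exact Localization.inverts L W _ hg
    have h2 : IsIso (L.map h ≫ L.map f) := by
      rw [← L.map_comp]; exact Localization.inverts L W _ hh
    have hr : L.map f ≫ (L.map g ≫ inv (L.map f ≫ L.map g)) = 𝟙 _ := by
      rw [← Category.assoc, IsIso.hom_inv_id]
    have hl : (inv (L.map h ≫ L.map f) ≫ L.map h) ≫ L.map f = 𝟙 _ := by
      rw [Category.assoc, IsIso.inv_hom_id]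
    have hlr : inv (L.map h ≫ L.map f) ≫ L.map h = L.map g ≫ inv (L.map f ≫ L.map g) := by
      calc inv (L.map h ≫ L.map f) ≫ L.map h
          = (inv (L.map h ≫ L.map f) ≫ L.map h) ≫ (L.map f ≫ (L.map g ≫ inv (L.map f ≫ L.map g))) := by
            rw [hr, Category.comp_id]
        _ = ((inv (L.map h ≫ L.map f) ≫ L.map h) ≫ L.map f) ≫ (L.map g ≫ inv (L.map f ≫ L.map g)) := by
            simp only [Category.assoc]
        _ = L.map g ≫ inv (L.map f ≫ L.map g) := by rw [hl, Category.id_comp]
    exact ⟨L.map g ≫ inv (L.map f ≫ L.map g), hr, by rw [← hlr]; exact hl⟩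

end Groth.Agent.S6435
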