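import Mathlib
import Groth.Statements.S6437

set_option autoImplicit false
open CategoryTheory CategoryTheory.Limits
universe v
open CatLim

namespace Groth.Agent.S6437

section Aux
variable {I : Type v} [SmallCategory I]

/-- Equality in a colimit of sets over a category where spans can be completed. -/
theorem colimit_eq_iff
    (h1 : ∀ ⦃w x y : I⦄ (a : w ⟶ x) (b : w ⟶ y), ∃ (z : I) (c : x ⟶ z) (d : y ⟶ z), a ≫ c = b ≫ d)
    (F : I ⥤ Type v) {i i' : I} (x : F.obj i) (x' : F.obj i') :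
    colimit.ι F i x = colimit.ι F i' x' ↔
      ∃ (k : I) (f : i ⟶ k) (g : i' ⟶ k), F.map f x = F.map g x' := by
  constructor
  · intro h
    have h0 := Types.colimit_eq h
    let R : (Σ j, F.obj j) → (Σ j, F.obj j) → Prop := fun p q =>
      ∃ (k : I) (f : p.1 ⟶ k) (g : q.1 ⟶ k), F.map f p.2 = F.map g q.2
    have hR : Equivalence R := by
      refine ⟨fun p => ⟨p.1, 𝟙 _, 𝟙 _, rfl⟩, ?_, ?_⟩
      · rintro p q ⟨k, f, g, e⟩
        exact ⟨k, g, f, e.symm⟩
      · rintro p q r ⟨k, f, g, e⟩ ⟨k', f', g', e'⟩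
        obtain ⟨z, c, d, hcd⟩ := h1 g f'
        refine ⟨z, f ≫ c, g' ≫ d, ?_⟩
        rw [Functor.map_comp_apply, Functor.map_comp_apply, e, ← e',
          ← Functor.map_comp_apply, ← Functor.map_comp_apply, hcd]
    have h2 : R ⟨i, x⟩ ⟨i', x'⟩ := by
      refine (hR.eqvGen_iff).1 (Relation.EqvGen.mono (r := F.ColimitTypeRel) (p := R) ?_ _ _ h0)
      rintro p q ⟨f, e⟩
      refine ⟨q.1, f, 𝟙 _, ?_⟩
      rw [Functor.map_id_apply, e]
    exact h2
  · rintro ⟨k, f, g, h⟩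
    exact Types.colimit_sound' f g h

/-- Two objects have a common target. -/
def Conn (x y : I) : Prop := ∃ z : I, Nonempty (x ⟶ z) ∧ Nonempty (y ⟶ z)

omit [SmallCategory I] in
lemma dummy : True := trivial

lemma Conn.refl (x : I) : Conn x x := ⟨x, ⟨𝟙 _⟩, ⟨𝟙 _⟩⟩
lemma Conn.symm {x y : I} (h : Conn x y) : Conn y x := by
  obtain ⟨z, a, b⟩ := h; exact ⟨z, b, a⟩
lemma Conn.trans
    (h1 : ∀ ⦃w x y : I⦄ (a : w ⟶ x) (b : w ⟶ y), ∃ (z : I) (c : x ⟶ z) (d : y ⟶ z), a ≫ c = b ≫ d)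
    {x y z : I} (h : Conn x y) (h' : Conn y z) : Conn x z := by
  obtain ⟨k, ⟨a⟩, ⟨b⟩⟩ := h
  obtain ⟨k', ⟨a'⟩, ⟨b'⟩⟩ := h'
  obtain ⟨w, c, d, -⟩ := h1 b a'
  exact ⟨w, ⟨a ≫ c⟩, ⟨b' ≫ d⟩⟩
lemma Conn.of_hom {x y : I} (f : x ⟶ y) : Conn x y := ⟨y, ⟨f⟩, ⟨𝟙 _⟩⟩

/-- joint upper bound of a finite nonempty family of pairwise connected objects -/
lemma exists_upper
    (h1 : ∀ ⦃w x y : I⦄ (a : w ⟶ x) (b : w ⟶ y), ∃ (z : I) (c : x ⟶ z) (d : y ⟶ z), a ≫ c = b ≫ d)
    {α : Type} (obj : α → I) (hc : ∀ a b, Conn (obj a) (obj b))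
    (s : Finset α) (hs : s.Nonempty) : ∃ S : I, ∀ a ∈ s, Nonempty (obj a ⟶ S) := by
  classical
  induction hs using Finset.Nonempty.cons_induction with
  | singleton a => exact ⟨obj a, fun b hb => by rw [Finset.mem_singleton.1 hb]; exact ⟨𝟙 _⟩⟩
  | cons a s ha hs ih =>
    obtain ⟨S, hS⟩ := ih
    obtain ⟨b, hb⟩ := hs
    obtain ⟨t⟩ := hS b hb
    obtain ⟨z, ⟨p⟩, ⟨q⟩⟩ := hc a b
    obtain ⟨w, c, d, -⟩ := h1 t q
    refine ⟨w, fun x hx => ?_⟩
    rw [Finset.mem_cons] at hx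
    rcases hx with rfl | hx
    · exact ⟨p ≫ d⟩
    · obtain ⟨t'⟩ := hS x hx
      exact ⟨t' ≫ c⟩

/-- cocone over a finite connected diagram -/
lemma exists_cocone
    (h1 : ∀ ⦃w x y : I⦄ (a : w ⟶ x) (b : w ⟶ y), ∃ (z : I) (c : x ⟶ z) (d : y ⟶ z), a ≫ c = b ≫ d)
    (h2 : ∀ ⦃x y : I⦄ (a b : x ⟶ y), ∃ (z : I) (c : y ⟶ z), a ≫ c = b ≫ c)
    {α β : Type} [Fintype α] [Nonempty α] [Fintype β] (obj : α → I)
    (hc : ∀ a b, Conn (obj a) (obj b))
    (src tgt : β → α) (mor : ∀ b, obj (src b) ⟶ obj (tgt b)) :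
    ∃ (S : I) (T : ∀ a, obj a ⟶ S), ∀ b, mor b ≫ T (tgt b) = T (src b) := by
  classical
  suffices H : ∀ t : Finset β, ∃ (S : I) (T : ∀ a, obj a ⟶ S),
      ∀ b ∈ t, mor b ≫ T (tgt b) = T (src b) by
    obtain ⟨S, T, hT⟩ := H Finset.univ
    exact ⟨S, T, fun b => hT b (Finset.mem_univ _)⟩
  intro t
  induction t using Finset.induction_on with
  | empty =>
    obtain ⟨S, hS⟩ := exists_upper h1 obj hc Finset.univ Finset.univ_nonempty
    exact ⟨S, fun a => (hS a (Finset.mem_univ _)).some, by simp⟩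
  | insert b t hb ih =>
    obtain ⟨S, T, hT⟩ := ih
    obtain ⟨S', c, hc'⟩ := h2 (mor b ≫ T (tgt b)) (T (src b))
    refine ⟨S', fun a => T a ≫ c, fun b' hb' => ?_⟩
    rw [Finset.mem_insert] at hb'
    rcases hb' with rfl | hb'
    · simpa using hc'
    · rw [← Category.assoc, hT b' hb']

end Aux

section Aux2
variable {I : Type v} [SmallCategory I]

lemma inj_cocone
    (h1 : ∀ ⦃w x y : I⦄ (a : w ⟶ x) (b : w ⟶ y), ∃ (z : I) (c : x ⟶ z) (d : y ⟶ z), a ≫ c = b ≫ d)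
    (h2 : ∀ ⦃x y : I⦄ (a b : x ⟶ y), ∃ (z : I) (c : y ⟶ z), a ≫ c = b ≫ c)
    {J : Type} [Fintype J] [Nonempty J] (i i' : I) (k : J → I)
    (f : ∀ j, i ⟶ k j) (g : ∀ j, i' ⟶ k j) :
    ∃ (S : I) (f0 : i ⟶ S) (g0 : i' ⟶ S) (t : ∀ j, k j ⟶ S),
      ∀ j, f j ≫ t j = f0 ∧ g j ≫ t j = g0 := by
  classical
  let obj : Bool ⊕ J → I := Sum.elim (fun b => bif b then i' else i) k
  let src : J ⊕ J → Bool ⊕ J := Sum.elim (fun _ => Sum.inl false) (fun _ => Sum.inl true)
  let tgt : J ⊕ J → Bool ⊕ J := Sum.elim (fun j => Sum.inr j) (fun j => Sum.inr j)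
  let mor : ∀ b, obj (src b) ⟶ obj (tgt b) := fun b =>
    match b with
    | Sum.inl j => f j
    | Sum.inr j => g j
  have hci : ∀ a, Conn i (obj a) := by
    obtain ⟨j0⟩ := ‹Nonempty J›
    rintro (b | j)
    · cases b
      · exact Conn.refl _
      · exact Conn.trans h1 (Conn.of_hom (f j0)) (Conn.of_hom (g j0)).symm
    · exact Conn.of_hom (f j)
  have hc : ∀ a b, Conn (obj a) (obj b) := fun a b => Conn.trans h1 (hci a).symm (hci b)
  obtain ⟨S, T, hT⟩ := exists_cocone h1 h2 obj hc src tgt mor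
  refine ⟨S, T (Sum.inl false), T (Sum.inl true), fun j => T (Sum.inr j), fun j => ⟨?_, ?_⟩⟩
  · exact hT (Sum.inl j)
  · exact hT (Sum.inr j)

lemma surj_cocone
    (h1 : ∀ ⦃w x y : I⦄ (a : w ⟶ x) (b : w ⟶ y), ∃ (z : I) (c : x ⟶ z) (d : y ⟶ z), a ≫ c = b ≫ d)
    (h2 : ∀ ⦃x y : I⦄ (a b : x ⟶ y), ∃ (z : I) (c : y ⟶ z), a ≫ c = b ≫ c)
    {J : Type} [SmallCategory J] [FinCategory J] [IsConnected J] (i : J → I)
    (k : ∀ {j j' : J} (_ : j ⟶ j'), I)
    (f : ∀ {j j' : J} (u : j ⟶ j'), i j ⟶ k u) (g : ∀ {j j' : J} (u : j ⟶ j'), i j' ⟶ k u) :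
    ∃ (S : I) (h : ∀ j, i j ⟶ S) (t : ∀ {j j' : J} (u : j ⟶ j'), k u ⟶ S),
      ∀ {j j' : J} (u : j ⟶ j'), f u ≫ t u = h j ∧ g u ≫ t u = h j' := by
  classical
  let M := Σ j : J, Σ j' : J, (j ⟶ j')
  let obj : J ⊕ M → I := Sum.elim i (fun m => k m.2.2)
  let src : M ⊕ M → J ⊕ M := Sum.elim (fun m => Sum.inl m.1) (fun m => Sum.inl m.2.1)
  let tgt : M ⊕ M → J ⊕ M := Sum.elim (fun m => Sum.inr m) (fun m => Sum.inr m)
  let mor : ∀ b, obj (src b) ⟶ obj (tgt b) := fun b =>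
    match b with
    | Sum.inl m => f m.2.2
    | Sum.inr m => g m.2.2
  have j0 : J := Classical.arbitrary J
  have hcJ : ∀ j, Conn (i j0) (i j) := by
    intro j
    refine induct_on_objects {j | Conn (i j0) (i j)} (j₀ := j0) (Conn.refl _) ?_ j
    intro j₁ j₂ u
    have h12 : Conn (i j₁) (i j₂) :=
      Conn.trans h1 (Conn.of_hom (f u)) (Conn.of_hom (g u)).symm
    exact ⟨fun h => Conn.trans h1 h h12, fun h => Conn.trans h1 h h12.symm⟩
  have hci : ∀ a, Conn (i j0) (obj a) := by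
    rintro (j | m)
    · exact hcJ j
    · exact Conn.trans h1 (hcJ m.1) (Conn.of_hom (f m.2.2))
  have hc : ∀ a b, Conn (obj a) (obj b) := fun a b => Conn.trans h1 (hci a).symm (hci b)
  have : Nonempty (J ⊕ M) := ⟨Sum.inl j0⟩
  obtain ⟨S, T, hT⟩ := exists_cocone h1 h2 obj hc src tgt mor
  refine ⟨S, fun j => T (Sum.inl j), fun {j j'} u => T (Sum.inr ⟨j, j', u⟩), fun {j j'} u => ⟨?_, ?_⟩⟩
  · exact hT (Sum.inl ⟨j, j', u⟩)
  · exact hT (Sum.inr ⟨j, j', u⟩)

end Aux2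

/-- Over an index category in which spans can be completed to commutative squares and parallel pairs can
be coequalized (a disjoint union of filtered categories), colimits of sets commute with finite
connected limits. -/
theorem result {I : Type v} [SmallCategory I]
    (h1 : ∀ ⦃w x y : I⦄ (a : w ⟶ x) (b : w ⟶ y), ∃ (z : I) (c : x ⟶ z) (d : y ⟶ z), a ≫ c = b ≫ d)
    (h2 : ∀ ⦃x y : I⦄ (a b : x ⟶ y), ∃ (z : I) (c : y ⟶ z), a ≫ c = b ≫ c)
    (J : Type) [SmallCategory J] [FinCategory J] [IsConnected J] :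
    PreservesLimitsOfShape J (colim : (I ⥤ Type v) ⥤ Type v) := by
  classical
  refine ⟨fun {K} => ?_⟩
  apply preservesLimit_of_preserves_limit_cone (limit.isLimit K)
  have hlim : ∀ i : I, IsLimit (((evaluation I (Type v)).obj i).mapCone (limit.cone K)) :=
    fun i => isLimitOfPreserves _ (limit.isLimit K)
  have hbij := fun i => (Types.isLimit_iff_bijective_sectionOfCone _).1 ⟨hlim i⟩
  -- injectivity / surjectivity at each object
  have hinj : ∀ (i : I) (a b : (limit K).obj i),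
      (∀ j, ((limit.π K j).app i) a = ((limit.π K j).app i) b) → a = b := by
    intro i a b hab
    apply (hbij i).1
    apply Subtype.ext
    funext j
    exact hab j
  have hsurj : ∀ (i : I) (x : ∀ j, (K.obj j).obj i),
      (∀ {j j' : J} (u : j ⟶ j'), (K.map u).app i (x j) = x j') →
      ∃ a : (limit K).obj i, ∀ j, ((limit.π K j).app i) a = x j := by
    intro i x hx
    obtain ⟨a, ha⟩ := (hbij i).2 ⟨x, fun {j j'} u => hx u⟩
    exact ⟨a, fun j => congrFun (congrArg Subtype.val ha) j⟩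
  refine ((Types.isLimit_iff_bijective_sectionOfCone _).2 ⟨?_, ?_⟩).some
  · -- injective
    intro x y hxy
    obtain ⟨i, a, rfl⟩ := Types.jointly_surjective' x
    obtain ⟨i', b, rfl⟩ := Types.jointly_surjective' y
    have h : ∀ j, colimit.ι (K.obj j) i (((limit.π K j).app i) a) =
        colimit.ι (K.obj j) i' (((limit.π K j).app i') b) := by
      intro j
      have := congrFun (congrArg Subtype.val hxy) j
      simpa [Types.sectionOfCone] using this
    simp only [colimit_eq_iff h1] at h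
    choose k f g hfg using h
    obtain ⟨S, f0, g0, t, ht⟩ := inj_cocone h1 h2 i i' k f g
    apply Types.colimit_sound' f0 g0
    apply hinj
    intro j
    have e1 := NatTrans.naturality_apply (limit.π K j) f0 a
    have e2 := NatTrans.naturality_apply (limit.π K j) g0 b
    refine (e1.trans ?_).trans e2.symm
    rw [← (ht j).1, ← (ht j).2, Functor.map_comp_apply, Functor.map_comp_apply, hfg j]
  · -- surjective
    rintro ⟨s, hs⟩
    have z := fun j => Types.jointly_surjective' (s j)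
    choose i a ha using z
    have hs' : ∀ {j j' : J} (u : j ⟶ j'),
        colimit.ι (K.obj j') (i j) ((K.map u).app (i j) (a j)) = colimit.ι (K.obj j') (i j') (a j') := by
      intro j j' u
      have := hs u
      rw [← ha j, ← ha j'] at this
      simpa using this
    simp only [colimit_eq_iff h1] at hs'
    choose k f g hfg using @hs'
    obtain ⟨S, h, t, ht⟩ := surj_cocone h1 h2 i (fun {j j'} u => k u) (fun {j j'} u => f u)
      (fun {j j'} u => g u)
    obtain ⟨b, hb⟩ := hsurj S (fun j => (K.obj j).map (h j) (a j)) (by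
      intro j j' u
      refine (NatTrans.naturality_apply (K.map u) (h j) (a j)).trans ?_
      rw [← (ht u).1, ← (ht u).2, Functor.map_comp_apply,
        Functor.map_comp_apply, hfg u])
    refine ⟨colimit.ι (limit K) S b, ?_⟩
    apply Subtype.ext
    funext j
    have : colim.map (limit.π K j) (colimit.ι (limit K) S b) = s j := by
      have e3 : colim.map (limit.π K j) (colimit.ι (limit K) S b) =
          colimit.ι (K.obj j) S ((limit.π K j).app S b) :=
        ConcreteCategory.congr_hom (colimit.ι_map (limit.π K j) S) b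
      rw [e3, hb j, ← ha j]
      exact (Types.colimit_sound (h j) rfl).symm
    simpa [Types.sectionOfCone] using this

end Groth.Agent.S6437
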