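import Mathlib
import Groth.Statements.S6438

set_option autoImplicit false
open CategoryTheory
universe v u
open CatLim

namespace Groth.Agent.S6438

section Construct
variable {n m : ℕ} (src tgt : Fin m → Fin n)

/-- objects of the finite category -/
def JObj (_src _tgt : Fin m → Fin n) : Type := Fin n ⊕ Fin m

instance : Fintype (JObj src tgt) := inferInstanceAs (Fintype (Fin n ⊕ Fin m))

/-- morphisms of the finite category -/
inductive JHom : JObj src tgt → JObj src tgt → Type
  | id (X : JObj src tgt) : JHom X X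
  | s (k : Fin m) (i : Fin n) (h : src k = i) : JHom (Sum.inr k) (Sum.inl i)
  | t (k : Fin m) (i : Fin n) (h : tgt k = i) : JHom (Sum.inr k) (Sum.inl i)

variable {src tgt}

def JHom.comp : ∀ {X Y Z : JObj src tgt}, JHom src tgt X Y → JHom src tgt Y Z → JHom src tgt X Z
  | _, _, _, .id _, g => g
  | _, _, _, .s k i h, .id _ => .s k i h
  | _, _, _, .t k i h, .id _ => .t k i h

def JHom.code : ∀ {X Y : JObj src tgt}, JHom src tgt X Y → Option (Fin m × Bool)
  | _, _, .id _ => none
  | _, _, .s k _ _ => some (k, false)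
  | _, _, .t k _ _ => some (k, true)

lemma JHom.code_inj {X Y : JObj src tgt} (f g : JHom src tgt X Y) (h : f.code = g.code) :
    f = g := by
  cases f <;> cases g <;> simp_all [JHom.code]

instance : SmallCategory (JObj src tgt) where
  Hom := JHom src tgt
  id := JHom.id
  comp := JHom.comp
  id_comp f := by cases f <;> rfl
  comp_id f := by cases f <;> rfl
  assoc f g h := by
    cases f <;> cases g <;> cases h <;> rfl

noncomputable instance : FinCategory (JObj src tgt) where
  fintypeObj := inferInstance
  fintypeHom X Y := by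
    haveI : Finite (X ⟶ Y) :=
      Finite.of_injective (fun f : JHom src tgt X Y => f.code) (fun f g h => JHom.code_inj f g h)
    exact Fintype.ofFinite _

end Construct

section Functor
variable {I : Type u} [Category.{v} I] {n m : ℕ} (e : I ≃ Fin n)
  (gs : Fin m → Σ x y : I, x ⟶ y)

/-- the index category attached to the data -/
abbrev JJ : Type := JObj (fun k => e (gs k).1) (fun k => e (gs k).2.1)

/-- left inclusion with the right type -/
abbrev inlJ (i : Fin n) : JJ e gs := Sum.inl i
/-- right inclusion with the right type -/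
abbrev inrJ (k : Fin m) : JJ e gs := Sum.inr k

/-- the object map -/
def FObj : JObj (fun k => e (gs k).1) (fun k => e (gs k).2.1) → I
  | Sum.inl i => e.symm i
  | Sum.inr k => (gs k).1

/-- the morphism map -/
def FMap : ∀ {X Y : JObj (fun k => e (gs k).1) (fun k => e (gs k).2.1)},
    JHom (fun k => e (gs k).1) (fun k => e (gs k).2.1) X Y → (FObj e gs X ⟶ FObj e gs Y)
  | _, _, .id _ => 𝟙 _
  | _, _, .s k i h => eqToHom (by subst h; simp [FObj])
  | _, _, .t k i h => (gs k).2.2 ≫ eqToHom (by subst h; simp [FObj])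

lemma FMap_comp {X Y Z : JObj (fun k => e (gs k).1) (fun k => e (gs k).2.1)}
    (f : JHom (fun k => e (gs k).1) (fun k => e (gs k).2.1) X Y)
    (g : JHom (fun k => e (gs k).1) (fun k => e (gs k).2.1) Y Z) :
    FMap e gs (JHom.comp f g) = FMap e gs f ≫ FMap e gs g := by
  cases f <;> cases g <;> simp [FMap, JHom.comp]

/-- the functor -/
def F : JObj (fun k => e (gs k).1) (fun k => e (gs k).2.1) ⥤ I where
  obj := FObj e gs
  map f := FMap e gs f
  map_id X := rfl
  map_comp f g := FMap_comp e gs f g

end Functor

section Final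
variable {I : Type u} [Category.{v} I] {n m : ℕ} (e : I ≃ Fin n)
  (gs : Fin m → Σ x y : I, x ⟶ y)

lemma F_obj_inl (i : Fin n) : (F e gs).obj (inlJ e gs i) = e.symm i := rfl
lemma F_obj_inr (k : Fin m) : (F e gs).obj (inrJ e gs k) = (gs k).1 := rfl

/-- canonical objects of the structured arrow category -/
def A (x y : I) (φ : x ⟶ y) : StructuredArrow x (F e gs) :=
  StructuredArrow.mk (S := x) (T := F e gs) (Y := (inlJ e gs (e y)))
    (φ ≫ eqToHom (show y = (F e gs).obj (inlJ e gs (e y)) by
      rw [F_obj_inl, Equiv.symm_apply_apply]))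

lemma mk_eq_of_eq (x : I) {j j' : JObj (fun k => e (gs k).1) (fun k => e (gs k).2.1)}
    (h : j = j') (φ : x ⟶ (F e gs).obj j) :
    (StructuredArrow.mk φ : StructuredArrow x (F e gs)) =
      StructuredArrow.mk (φ ≫ eqToHom (by rw [h])) := by
  subst h; simp

/-- the morphism property used for finality -/
def P : MorphismProperty I := fun x y φ => Zigzag (A e gs x y φ) (A e gs x x (𝟙 x))

lemma P_mult : (P e gs).IsMultiplicative where
  id_mem x := Relation.ReflTransGen.refl
  comp_mem {x y z} φ ψ hφ hψ := by
    have h1 := zigzag_obj_of_zigzag (StructuredArrow.map (T := F e gs) φ) hψ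
    have e1 : (StructuredArrow.map (T := F e gs) φ).obj (A e gs y z ψ) = A e gs x z (φ ≫ ψ) := by
      simp [A]
    have e2 : (StructuredArrow.map (T := F e gs) φ).obj (A e gs y y (𝟙 y)) = A e gs x y φ := by
      simp [A]
    rw [e1, e2] at h1
    exact h1.trans hφ

lemma P_gen (k : Fin m) : P e gs (gs k).2.2 := by
  let T : StructuredArrow (gs k).1 (F e gs) :=
    StructuredArrow.mk (S := (gs k).1) (T := F e gs) (Y := (inrJ e gs k)) (𝟙 (gs k).1)
  have a1 : T ⟶ A e gs (gs k).1 (gs k).2.1 (gs k).2.2 :=
    StructuredArrow.homMk (JHom.t k _ rfl) (by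
      simp [T, A, F, FMap]
      exact Category.id_comp _)
  have a2 : T ⟶ A e gs (gs k).1 (gs k).1 (𝟙 _) :=
    StructuredArrow.homMk (JHom.s k _ rfl) (by
      simp [T, A, F, FMap]
      exact Category.id_comp _)
  exact (Zigzag.of_inv a1).trans (Zigzag.of_hom a2)

theorem F_final
    (hgen : ∀ P : MorphismProperty I, P.IsMultiplicative → (∀ k, P (gs k).2.2) → P = ⊤) :
    (F e gs).Final := by
  have hP : P e gs = ⊤ := hgen _ (P_mult e gs) (P_gen e gs)
  refine ⟨fun x => ?_⟩
  have : Nonempty (StructuredArrow x (F e gs)) := ⟨A e gs x x (𝟙 x)⟩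
  suffices H : ∀ B : StructuredArrow x (F e gs), Zigzag B (A e gs x x (𝟙 x)) from
    zigzag_isConnected (fun B B' => (H B).trans (H B').symm)
  intro B
  have hA : ∀ (y : I) (φ : x ⟶ y), Zigzag (A e gs x y φ) (A e gs x x (𝟙 x)) := by
    intro y φ
    have : P e gs φ := by rw [hP]; trivial
    exact this
  suffices H' : ∀ (j : JJ e gs) (φ : x ⟶ (F e gs).obj j),
      Zigzag (StructuredArrow.mk φ : StructuredArrow x (F e gs)) (A e gs x x (𝟙 x)) by
    rw [StructuredArrow.eq_mk B]
    exact H' _ _
  intro j φ
  rcases j with i | k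
  · -- j = inl i
    have h0 : (inlJ e gs i) = inlJ e gs (e (e.symm i)) := by simp
    have e0 := mk_eq_of_eq e gs x h0 φ
    have e1 : (StructuredArrow.mk φ : StructuredArrow x (F e gs)) = A e gs x (e.symm i) φ := by
      rw [e0]; rfl
    change Zigzag (StructuredArrow.mk φ : StructuredArrow x (F e gs)) _
    rw [e1]
    exact hA _ _
  · -- j = inr k
    have a : (StructuredArrow.mk φ : StructuredArrow x (F e gs)) ⟶ A e gs x (gs k).1 φ :=
      StructuredArrow.homMk (JHom.s k _ rfl) (by
        simp [A, F, FMap]
        rfl)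
    change Zigzag (StructuredArrow.mk φ : StructuredArrow x (F e gs)) _
    exact (Zigzag.of_hom a).trans (hA _ _)

end Final

section Initial
variable {I : Type u} [Category.{v} I] {n m : ℕ} (e : I ≃ Fin n)
  (gs : Fin m → Σ x y : I, x ⟶ y)

/-- canonical objects of the costructured arrow category -/
def A' (y x : I) (φ : y ⟶ x) : CostructuredArrow (F e gs) x :=
  CostructuredArrow.mk (T := x) (S := F e gs) (Y := (inlJ e gs (e y)))
    (eqToHom (show (F e gs).obj (inlJ e gs (e y)) = y by
      rw [F_obj_inl, Equiv.symm_apply_apply]) ≫ φ)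

lemma mk_eq_of_eq' (x : I) {j j' : JObj (fun k => e (gs k).1) (fun k => e (gs k).2.1)}
    (h : j = j') (φ : (F e gs).obj j ⟶ x) :
    (CostructuredArrow.mk φ : CostructuredArrow (F e gs) x) =
      CostructuredArrow.mk (eqToHom (by rw [h]) ≫ φ) := by
  subst h; simp

/-- the morphism property used for initiality -/
def Q : MorphismProperty I := fun y x φ => Zigzag (A' e gs y x φ) (A' e gs x x (𝟙 x))

lemma Q_mult : (Q e gs).IsMultiplicative where
  id_mem x := Relation.ReflTransGen.refl
  comp_mem {x y z} φ ψ hφ hψ := by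
    have h1 := zigzag_obj_of_zigzag (CostructuredArrow.map (S := F e gs) ψ) hφ
    have e1 : (CostructuredArrow.map (S := F e gs) ψ).obj (A' e gs x y φ) =
        A' e gs x z (φ ≫ ψ) := by
      simp [A']
    have e2 : (CostructuredArrow.map (S := F e gs) ψ).obj (A' e gs y y (𝟙 y)) =
        A' e gs y z ψ := by
      simp [A']
    rw [e1, e2] at h1
    exact h1.trans hψ

lemma Q_gen (k : Fin m) : Q e gs (gs k).2.2 := by
  let T : CostructuredArrow (F e gs) (gs k).2.1 :=
    CostructuredArrow.mk (T := (gs k).2.1) (S := F e gs) (Y := (inrJ e gs k)) (gs k).2.2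
  have a1 : T ⟶ A' e gs (gs k).1 (gs k).2.1 (gs k).2.2 :=
    CostructuredArrow.homMk (JHom.s k _ rfl) (by
      simp [T, A', F, FMap]
      exact Category.id_comp _)
  have a2 : T ⟶ A' e gs (gs k).2.1 (gs k).2.1 (𝟙 _) :=
    CostructuredArrow.homMk (JHom.t k _ rfl) (by
      simp [T, A', F, FMap])
  exact (Zigzag.of_inv a1).trans (Zigzag.of_hom a2)

theorem F_initial
    (hgen : ∀ P : MorphismProperty I, P.IsMultiplicative → (∀ k, P (gs k).2.2) → P = ⊤) :
    (F e gs).Initial := by
  have hQ : Q e gs = ⊤ := hgen _ (Q_mult e gs) (Q_gen e gs)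
  refine ⟨fun x => ?_⟩
  have : Nonempty (CostructuredArrow (F e gs) x) := ⟨A' e gs x x (𝟙 x)⟩
  suffices H : ∀ B : CostructuredArrow (F e gs) x, Zigzag B (A' e gs x x (𝟙 x)) from
    zigzag_isConnected (fun B B' => (H B).trans (H B').symm)
  intro B
  have hA : ∀ (y : I) (φ : y ⟶ x), Zigzag (A' e gs y x φ) (A' e gs x x (𝟙 x)) := by
    intro y φ
    have : Q e gs φ := by rw [hQ]; trivial
    exact this
  suffices H' : ∀ (j : JJ e gs) (φ : (F e gs).obj j ⟶ x),
      Zigzag (CostructuredArrow.mk φ : CostructuredArrow (F e gs) x) (A' e gs x x (𝟙 x)) by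
    rw [CostructuredArrow.eq_mk B]
    exact H' _ _
  intro j φ
  rcases j with i | k
  · -- j = inl i
    have h0 : (inlJ e gs i) = inlJ e gs (e (e.symm i)) := by simp
    have e0 := mk_eq_of_eq' e gs x h0 φ
    have e1 : (CostructuredArrow.mk φ : CostructuredArrow (F e gs) x) =
        A' e gs (e.symm i) x φ := by
      rw [e0]; rfl
    change Zigzag (CostructuredArrow.mk φ : CostructuredArrow (F e gs) x) _
    rw [e1]
    exact hA _ _
  · -- j = inr k
    have a : (CostructuredArrow.mk φ : CostructuredArrow (F e gs) x) ⟶ A' e gs (gs k).1 x φ :=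
      CostructuredArrow.homMk (JHom.s k _ rfl) (by
        simp [A', F, FMap]
        exact Category.id_comp _)
    change Zigzag (CostructuredArrow.mk φ : CostructuredArrow (F e gs) x) _
    exact (Zigzag.of_hom a).trans (hA _ _)

end Initial

/-- A category with finitely many objects whose morphisms are generated under composition by finitely
many of them receives a functor from a finite category which is both final and initial, the finite
category being connected (resp. nonempty) exactly when the given one is. (The published statement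
says that limits and colimits of every diagram are computed after restriction along the functor;
this is expressed here through finality and initiality.) -/
theorem result {I : Type u} [Category.{v} I] [Finite I]
    (gen : Finset (Σ x y : I, x ⟶ y))
    (hgen : ∀ P : MorphismProperty I, P.IsMultiplicative → (∀ a ∈ gen, P a.2.2) → P = ⊤) :
    ∃ (J : Type) (_ : SmallCategory J) (_ : FinCategory J) (F : J ⥤ I),
      F.Final ∧ F.Initial ∧ (IsConnected J ↔ IsConnected I) ∧ (Nonempty J ↔ Nonempty I) := by
  classical
  obtain ⟨n, ⟨e⟩⟩ := Finite.exists_equiv_fin I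
  let gs : Fin gen.card → Σ x y : I, x ⟶ y := fun k => (gen.equivFin.symm k).1
  have hgen' : ∀ P : MorphismProperty I, P.IsMultiplicative → (∀ k, P (gs k).2.2) → P = ⊤ := by
    intro P hP h
    refine hgen P hP (fun a ha => ?_)
    have := h (gen.equivFin ⟨a, ha⟩)
    have e1 : gs (gen.equivFin ⟨a, ha⟩) = a := by
      simp only [gs, Equiv.symm_apply_apply]
    rw [e1] at this
    exact this
  have hfin : (F e gs).Final := F_final e gs hgen'
  have hini : (F e gs).Initial := F_initial e gs hgen'
  refine ⟨JJ e gs, inferInstance, inferInstance, F e gs, hfin, hini,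
    Functor.isConnected_iff_of_final (F e gs), ?_⟩
  constructor
  · rintro ⟨j⟩
    exact ⟨(F e gs).obj j⟩
  · rintro ⟨x⟩
    exact ⟨inlJ e gs (e x)⟩

end Groth.Agent.S6438
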