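import Groth.Statements.S6441
import Mathlib

set_option autoImplicit false
open CategoryTheory CategoryTheory.Limits Opposite
universe u
open SiteMisc

namespace Groth.Agent.S6441
section helpers
open Opposite
set_option linter.unusedSectionVars false
open CategoryTheory CategoryTheory.Limits Opposite

variable {C D : Type u} [SmallCategory C] [SmallCategory D]
    (J : GrothendieckTopology C) (K : GrothendieckTopology D) (u : C ⥤ D)

/-- a sheaf has exactly one section over an object covered by the empty sieve -/
lemma sheaf_unique_of_bot (F : Dᵒᵖ ⥤ Type u) (hF : Presheaf.IsSheaf K F) (V : D)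
    (hV : (⊥ : Sieve V) ∈ K V) : Nonempty (Unique (F.obj (op V))) := by
  have hs := (isSheaf_iff_isSheaf_of_type K F).1 hF _ hV
  let x : Presieve.FamilyOfElements F (⊥ : Sieve V).arrows := fun Y f hf => hf.elim
  have hx : x.Compatible := by
    intro Y₁ Y₂ Z g₁ g₂ f₁ f₂ h₁ h₂ w
    exact h₁.elim
  refine ⟨⟨⟨hs.amalgamate x hx⟩, fun a => ?_⟩⟩
  apply hs.isSeparatedFor.ext
  intro Y f hf
  exact hf.elim

lemma locInj (hu : BigSite.IsAlmostCocontinuous u J K) {G H : Dᵒᵖ ⥤ Type u} (φ : G ⟶ H)
    [Presheaf.IsLocallyInjective K φ]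
    (hG : ∀ V : D, (⊥ : Sieve V) ∈ K V → Subsingleton (G.obj (op V))) :
    Presheaf.IsLocallyInjective J (Functor.whiskerLeft u.op φ) where
  equalizerSieve_mem {X} x y h := by
    have h1 : Presheaf.equalizerSieve (F := G) (X := op (u.obj X.unop)) x y ∈ K (u.obj X.unop) :=
      Presheaf.equalizerSieve_mem K φ (X := op (u.obj X.unop)) x y h
    obtain ⟨R', hR', hR⟩ := hu X.unop _ h1
    refine J.superset_covering ?_ hR'
    intro V g hg
    rcases hR g hg with h2 | h2
    · have := hG _ h2
      exact Subsingleton.elim _ _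
    · exact h2

lemma locSurj (hu : BigSite.IsAlmostCocontinuous u J K) {G H : Dᵒᵖ ⥤ Type u} (φ : G ⟶ H)
    [Presheaf.IsLocallySurjective K φ]
    (hG : ∀ V : D, (⊥ : Sieve V) ∈ K V → Nonempty (G.obj (op V)))
    (hH : ∀ V : D, (⊥ : Sieve V) ∈ K V → Subsingleton (H.obj (op V))) :
    Presheaf.IsLocallySurjective J (Functor.whiskerLeft u.op φ) where
  imageSieve_mem {U} s := by
    have h1 : Presheaf.imageSieve φ (U := u.obj U) s ∈ K (u.obj U) :=
      Presheaf.imageSieve_mem K φ (U := op (u.obj U)) s
    obtain ⟨R', hR', hR⟩ := hu U _ h1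
    refine J.superset_covering ?_ hR'
    intro V g hg
    rcases hR g hg with h2 | h2
    · obtain ⟨t⟩ := hG _ h2
      have := hH _ h2
      exact ⟨t, Subsingleton.elim _ _⟩
    · exact h2

theorem main6441 [u.IsContinuous J K]
    (hu : BigSite.IsAlmostCocontinuous u J K) (G : Dᵒᵖ ⥤ Type u)
    (hG : ∀ V : D, (⊥ : Sieve V) ∈ K V → Nonempty (Unique (G.obj (op V)))) :
    IsIso (((sheafificationAdjunction J (Type u)).homEquiv (u.op ⋙ G)
      ((u.sheafPushforwardContinuous (Type u) J K).obj ((presheafToSheaf K (Type u)).obj G))).symm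
        (Functor.whiskerLeft u.op (toSheafify K G))) := by
  have hsh : ∀ V : D, (⊥ : Sieve V) ∈ K V →
      Nonempty (Unique ((sheafify K G).obj (op V))) := fun V hV =>
    sheaf_unique_of_bot K _ ((presheafToSheaf K (Type u)).obj G).property V hV
  have : Presheaf.IsLocallyInjective J (Functor.whiskerLeft u.op (toSheafify K G)) :=
    locInj J K u hu _ (fun V hV => by
      obtain ⟨h⟩ := hG V hV
      infer_instance)
  have : Presheaf.IsLocallySurjective J (Functor.whiskerLeft u.op (toSheafify K G)) :=
    locSurj J K u hu _ (fun V hV => by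
      obtain ⟨h⟩ := hG V hV
      exact ⟨default⟩) (fun V hV => by
      obtain ⟨h⟩ := hsh V hV
      infer_instance)
  have hW : J.W (Functor.whiskerLeft u.op (toSheafify K G)) :=
    J.W_of_isLocallyBijective _
  rw [GrothendieckTopology.W_iff] at hW
  rw [Adjunction.homEquiv_counit]
  have := hW
  refine @IsIso.comp_isIso _ _ _ _ _ _ _ hW ?_
  infer_instance
  

end helpers

/-- For a continuous and almost cocontinuous functor `u` between small sites and a presheaf of sets `G`
taking singleton values on sheaf theoretically empty objects, sheafification commutes with `u^p`: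
the canonical comparison `(u^p G)^# ⟶ u^p(G^#)` is an isomorphism. -/
theorem result {C D : Type u} [SmallCategory C] [SmallCategory D]
    (J : GrothendieckTopology C) (K : GrothendieckTopology D) (u : C ⥤ D) [u.IsContinuous J K]
    (hu : BigSite.IsAlmostCocontinuous u J K) (G : Dᵒᵖ ⥤ Type u)
    (hG : ∀ V : D, (⊥ : Sieve V) ∈ K V → Nonempty (Unique (G.obj (op V)))) :
    IsIso (((sheafificationAdjunction J (Type u)).homEquiv (u.op ⋙ G)
      ((u.sheafPushforwardContinuous (Type u) J K).obj ((presheafToSheaf K (Type u)).obj G))).symm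
        (Functor.whiskerLeft u.op (toSheafify K G))) := by
  exact main6441 J K u hu G hG

end Groth.Agent.S6441
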