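import Groth.Statements.S6440
import Mathlib
import Groth.Agent.S6441

set_option autoImplicit false
open CategoryTheory CategoryTheory.Limits Opposite
universe u
open SiteMisc

namespace Groth.Agent.S6440
section helpers
open Opposite
set_option linter.unusedSectionVars false
open CategoryTheory CategoryTheory.Limits Opposite

variable {C D : Type u} [SmallCategory C] [SmallCategory D]
    (J : GrothendieckTopology C) (K : GrothendieckTopology D) (u : C ⥤ D)

/-- connected colimit of presheaves having unique sections at `V` has unique sections at `V` -/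
lemma unique_colim {I : Type} [SmallCategory I] [IsConnected I] (Fp : I ⥤ (Dᵒᵖ ⥤ Type u))
    (E : Cocone Fp) (hE : IsColimit E) (V : D)
    (hV : ∀ i, Nonempty (Unique ((Fp.obj i).obj (op V)))) :
    Nonempty (Unique (E.pt.obj (op V))) := by
  classical
  have hEV : IsColimit (((evaluation _ _).obj (op V)).mapCocone E) := isColimitOfPreserves _ hE
  let dflt : ∀ i, (Fp.obj i).obj (op V) := fun i => (hV i).some.default
  have hd : ∀ i (a : (Fp.obj i).obj (op V)), a = dflt i := fun i a => (hV i).some.uniq a
  let e : I → E.pt.obj (op V) := fun i => (E.ι.app i).app (op V) (dflt i)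
  have he : ∀ i j, e i = e j := by
    apply constant_of_preserves_morphisms
    intro i j f
    have h1 : E.ι.app i = Fp.map f ≫ E.ι.app j := (E.w f).symm
    change (E.ι.app i).app (op V) (dflt i) = (E.ι.app j).app (op V) (dflt j)
    rw [h1]
    change (E.ι.app j).app (op V) ((Fp.map f).app (op V) (dflt i)) = _
    rw [hd j ((Fp.map f).app (op V) (dflt i))]
  obtain ⟨i₀⟩ := (inferInstance : Nonempty I)
  refine ⟨⟨⟨e i₀⟩, fun x => ?_⟩⟩
  obtain ⟨i, a, rfl⟩ := Types.jointly_surjective_of_isColimit hEV x
  change (E.ι.app i).app (op V) a = e i₀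
  rw [hd i a]
  exact he i i₀


theorem main6440 [u.IsContinuous J K]
    (hu : BigSite.IsAlmostCocontinuous u J K) (I : Type) [SmallCategory I] [FinCategory I]
    [IsConnected I] :
    PreservesColimitsOfShape I (u.sheafPushforwardContinuous (Type u) J K) := by
  constructor
  intro F
  let us := u.sheafPushforwardContinuous (Type u) J K
  let Fp := F ⋙ sheafToPresheaf K (Type u)
  let E : Cocone Fp := colimit.cocone Fp
  have hE : IsColimit E := colimit.isColimit Fp
  let c : Cocone F := Sheaf.sheafifyCocone E
  have hc : IsColimit c := Sheaf.isColimitSheafifyCocone E hE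
  refine preservesColimit_of_preserves_colimit_cocone hc ?_
  let E' : Cocone ((F ⋙ us) ⋙ sheafToPresheaf J (Type u)) :=
    ((Functor.whiskeringLeft _ _ (Type u)).obj u.op).mapCocone E
  have hE' : IsColimit E' := isColimitOfPreserves ((Functor.whiskeringLeft _ _ (Type u)).obj u.op) hE
  let c' : Cocone (F ⋙ us) := Sheaf.sheafifyCocone E'
  have hc' : IsColimit c' := Sheaf.isColimitSheafifyCocone E' hE'
  have hG : ∀ V : D, (⊥ : Sieve V) ∈ K V → Nonempty (Unique (E.pt.obj (op V))) := by
    intro V hV
    apply unique_colim Fp E hE V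
    intro i
    exact Groth.Agent.S6441.sheaf_unique_of_bot K _ (F.obj i).property V hV
  have hiso := Groth.Agent.S6441.result J K u hu E.pt hG
  let φ := ((sheafificationAdjunction J (Type u)).homEquiv (u.op ⋙ E.pt)
      (us.obj ((presheafToSheaf K (Type u)).obj E.pt))).symm
        (Functor.whiskerLeft u.op (toSheafify K E.pt))
  haveI : IsIso φ := hiso
  let ψ : c'.pt ≅ (us.mapCocone c).pt := @asIso _ _ _ _ φ hiso
  refine IsColimit.ofIsoColimit hc' (Cocone.ext ψ ?_)
  intro i
  apply Sheaf.hom_ext
  have key : toSheafify J (u.op ⋙ E.pt) ≫ φ.hom = Functor.whiskerLeft u.op (toSheafify K E.pt) := by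
    have h1 := ((sheafificationAdjunction J (Type u)).homEquiv (u.op ⋙ E.pt)
      (us.obj ((presheafToSheaf K (Type u)).obj E.pt))).apply_symm_apply
        (Functor.whiskerLeft u.op (toSheafify K E.pt))
    rw [Adjunction.homEquiv_unit] at h1
    exact h1
  have e1 : (c'.ι.app i).hom = E'.ι.app i ≫ toSheafify J E'.pt :=
    Sheaf.sheafifyCocone_ι_app_val E' i
  have e2 : (c.ι.app i).hom = E.ι.app i ≫ toSheafify K E.pt :=
    Sheaf.sheafifyCocone_ι_app_val E i
  have e1' : (c'.ι.app i).hom = (Functor.whiskerLeft u.op (E.ι.app i) ≫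
      toSheafify J (u.op ⋙ E.pt) : u.op ⋙ Fp.obj i ⟶ sheafify J (u.op ⋙ E.pt)) := e1
  have e3 : (Functor.whiskerLeft u.op (E.ι.app i) ≫
      toSheafify J (u.op ⋙ E.pt) : u.op ⋙ Fp.obj i ⟶ sheafify J (u.op ⋙ E.pt)) ≫ φ.hom =
      Functor.whiskerLeft u.op (E.ι.app i ≫ toSheafify K E.pt) := by
    rw [Category.assoc, key]
    rfl
  have e4 : (c'.ι.app i).hom ≫ φ.hom = Functor.whiskerLeft u.op (E.ι.app i ≫ toSheafify K E.pt) := by
    rw [← e3]
    exact congrArg (· ≫ φ.hom) e1'
  change (c'.ι.app i).hom ≫ φ.hom = Functor.whiskerLeft u.op (c.ι.app i).hom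
  rw [e2]
  exact e4


end helpers

/-- For a continuous and almost cocontinuous functor `u` between small sites, the functor `u^s` on
sheaves of sets preserves finite connected colimits. -/
theorem result {C D : Type u} [SmallCategory C] [SmallCategory D]
    (J : GrothendieckTopology C) (K : GrothendieckTopology D) (u : C ⥤ D) [u.IsContinuous J K]
    (hu : BigSite.IsAlmostCocontinuous u J K) (I : Type) [SmallCategory I] [FinCategory I] [IsConnected I] :
    PreservesColimitsOfShape I (u.sheafPushforwardContinuous (Type u) J K) := by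
  exact main6440 J K u hu I

end Groth.Agent.S6440
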