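import Mathlib
import Groth.Statements.S6442

set_option autoImplicit false
open CategoryTheory CategoryTheory.Limits Opposite
universe u
open SiteMisc

namespace Groth.Agent.S6442

/-- An object `U` of a site is weakly contractible, i.e. for every covering sieve `S` the sheafified map
`(∐_{V → U ∈ S} h_V)^# ⟶ h_U^#` has a section, if and only if taking sections over `U` turns
epimorphisms of sheaves of sets into surjections. (Coverings are taken as covering sieves; the
coproduct is formed in presheaves and then sheafified.) -/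
theorem result {C : Type u} [SmallCategory C] (J : GrothendieckTopology C) (U : C) :
    (∀ S : Sieve U, S ∈ J U →
      IsSplitEpi ((presheafToSheaf J (Type u)).map
        (Sigma.desc (fun i : (Σ V : C, {f : V ⟶ U // S f}) => yoneda.map i.2.1) :
          (∐ fun i : (Σ V : C, {f : V ⟶ U // S f}) => yoneda.obj i.1) ⟶ yoneda.obj U))) ↔
    ∀ (F G : Sheaf J (Type u)) (φ : F ⟶ G), Epi φ → Function.Surjective (φ.hom.app (op U)) := by
  classical
  let adj := sheafificationAdjunction J (Type u)
  constructor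
  · -- weakly contractible ⇒ sections surjective
    intro hsplit F G φ hφ g
    have hls : Sheaf.IsLocallySurjective φ := (Sheaf.isLocallySurjective_iff_epi φ).2 hφ
    let S : Sieve U := Presheaf.imageSieve φ.hom g
    have hS : S ∈ J U := Presheaf.imageSieve_mem J φ.hom g
    have hex : ∀ i : (Σ V : C, {f : V ⟶ U // S f}),
        ∃ t : F.obj.obj (op i.1), φ.hom.app _ t = G.obj.map i.2.1.op g := fun i => i.2.2
    choose x hx using hex
    let ψ : (∐ fun i : (Σ V : C, {f : V ⟶ U // S f}) => yoneda.obj i.1) ⟶ F.obj :=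
      Sigma.desc (fun i => yonedaEquiv.symm (x i))
    let γ : yoneda.obj U ⟶ G.obj := yonedaEquiv.symm g
    let σ : (∐ fun i : (Σ V : C, {f : V ⟶ U // S f}) => yoneda.obj i.1) ⟶ yoneda.obj U :=
      Sigma.desc (fun i => yoneda.map i.2.1)
    have hcomm : ψ ≫ φ.hom = σ ≫ γ := by
      apply Sigma.hom_ext
      intro i
      rw [Sigma.ι_desc_assoc, Sigma.ι_desc_assoc, yonedaEquiv_symm_naturality_right, hx i,
        yonedaEquiv_symm_naturality_left]
    obtain ⟨se⟩ := (hsplit S hS).exists_splitEpi
    let t : (presheafToSheaf J (Type u)).obj (yoneda.obj U) ⟶ F :=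
      se.section_ ≫ (adj.homEquiv _ F).symm ψ
    have ht : t ≫ φ = (adj.homEquiv _ G).symm γ := by
      have h1 : (adj.homEquiv _ F).symm ψ ≫ φ = (adj.homEquiv _ G).symm (ψ ≫ φ.hom) :=
        (adj.homEquiv_naturality_right_symm ψ φ).symm
      have h2 : (adj.homEquiv _ G).symm (σ ≫ γ) =
          (presheafToSheaf J (Type u)).map σ ≫ (adj.homEquiv _ G).symm γ :=
        adj.homEquiv_naturality_left_symm σ γ
      show (se.section_ ≫ (adj.homEquiv _ F).symm ψ) ≫ φ = _
      rw [Category.assoc, h1, hcomm, h2, ← Category.assoc]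
      have := se.id
      rw [this, Category.id_comp]
    refine ⟨yonedaEquiv (adj.homEquiv _ F t), ?_⟩
    have h3 : adj.homEquiv _ F t ≫ φ.hom = adj.homEquiv _ G (t ≫ φ) :=
      (adj.homEquiv_naturality_right t φ).symm
    rw [← yonedaEquiv_comp, h3, ht, Equiv.apply_symm_apply, Equiv.apply_symm_apply]
  · -- sections surjective ⇒ weakly contractible
    intro hsurj S hS
    let σ : (∐ fun i : (Σ V : C, {f : V ⟶ U // S f}) => yoneda.obj i.1) ⟶ yoneda.obj U :=
      Sigma.desc (fun i => yoneda.map i.2.1)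
    have hσ : Presheaf.IsLocallySurjective J σ := by
      refine ⟨fun {W} h => ?_⟩
      refine J.superset_covering ?_ (J.pullback_stable h hS)
      intro W' k hk
      -- hk : S (k ≫ h)
      refine ⟨(Sigma.ι (fun i : (Σ V : C, {f : V ⟶ U // S f}) => yoneda.obj i.1)
        ⟨W', ⟨k ≫ h, hk⟩⟩).app (op W') (𝟙 W'), ?_⟩
      have : (Sigma.ι (fun i : (Σ V : C, {f : V ⟶ U // S f}) => yoneda.obj i.1)
          ⟨W', ⟨k ≫ h, hk⟩⟩) ≫ σ = yoneda.map (k ≫ h) := Sigma.ι_desc _ _
      have h2 := congrArg (fun τ => τ.app (op W') (𝟙 W')) this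
      simp only [NatTrans.comp_app] at h2
      refine h2.trans ?_
      simp
    have hls : Sheaf.IsLocallySurjective ((presheafToSheaf J (Type u)).map σ) :=
      (Presheaf.isLocallySurjective_presheafToSheaf_map_iff J σ).2 hσ
    have hepi : Epi ((presheafToSheaf J (Type u)).map σ) := inferInstance
    have hsur := hsurj _ _ ((presheafToSheaf J (Type u)).map σ) hepi
    let η : yoneda.obj U ⟶ ((presheafToSheaf J (Type u)).obj (yoneda.obj U)).obj :=
      adj.homEquiv _ _ (𝟙 _)
    obtain ⟨ξ, hξ⟩ := hsur (yonedaEquiv η)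
    let s : (presheafToSheaf J (Type u)).obj (yoneda.obj U) ⟶ (presheafToSheaf J (Type u)).obj
        (∐ fun i : (Σ V : C, {f : V ⟶ U // S f}) => yoneda.obj i.1) :=
      (adj.homEquiv _ _).symm (yonedaEquiv.symm ξ)
    refine IsSplitEpi.mk' ⟨s, ?_⟩
    apply (adj.homEquiv _ _).injective
    have h3 : adj.homEquiv _ _ (s ≫ (presheafToSheaf J (Type u)).map σ) =
        adj.homEquiv _ _ s ≫ ((presheafToSheaf J (Type u)).map σ).hom :=
      adj.homEquiv_naturality_right s _
    rw [h3]
    show adj.homEquiv _ _ ((adj.homEquiv _ _).symm (yonedaEquiv.symm ξ)) ≫ _ = η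
    rw [Equiv.apply_symm_apply, yonedaEquiv_symm_naturality_right, hξ, Equiv.symm_apply_apply]

end Groth.Agent.S6442
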