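import Groth.Statements.S6443
import Groth.Agent.S6410

set_option autoImplicit false
open CategoryTheory
universe v u
open FibCat

namespace Groth.Agent.S6443

open Functor Bicategory

section plain
variable {C : Type u} [Category.{v} C] {A B : C} (K : Over A ⥤ Over B)
  (hK : K ⋙ Over.forget B = Over.forget A)

include hK in
lemma obj_left (a : Over A) : (K.obj a).left = a.left := CategoryTheory.Functor.congr_obj hK a

lemma map_left {a b : Over A} (g : a ⟶ b) :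
    (K.map g).left = eqToHom (obj_left K hK a) ≫ g.left ≫ eqToHom (obj_left K hK b).symm :=
  CategoryTheory.Functor.congr_hom hK g

/-- The morphism attached to a functor over `C` between slices. -/
def mor : A ⟶ B :=
  eqToHom (obj_left K hK (Over.mk (𝟙 A))).symm ≫ (K.obj (Over.mk (𝟙 A))).hom

lemma hom_eq (a : Over A) :
    eqToHom (obj_left K hK a).symm ≫ (K.obj a).hom = a.hom ≫ mor K hK := by
  have h1 := Over.w (K.map (Over.homMk a.hom (by simp) : a ⟶ Over.mk (𝟙 A)))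
  rw [map_left K hK] at h1
  rw [← h1, mor]
  simp

/-- Every functor over `C` between slices is isomorphic to `Over.map` of its morphism. -/
noncomputable def natIso : K ≅ Over.map (mor K hK) :=
  NatIso.ofComponents
    (fun a => Over.isoMk (eqToIso (obj_left K hK a)) (by
      have := hom_eq K hK a
      simp only [eqToIso.hom, Over.map_obj_hom]
      rw [← this]; simp))
    (by
      intro a b g
      apply Over.OverMorphism.ext
      simp only [Over.comp_left, Over.isoMk_hom_left, eqToIso.hom, Over.map_map_left]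
      rw [map_left K hK]
      simp)

lemma natIso_hom_left (a : Over A) :
    ((natIso K hK).hom.app a).left = eqToHom (obj_left K hK a) := by
  simp [natIso]

end plain

section
variable {C : Type u} [Category.{v} C]

/-- `Over.map m` as a functor over `C`. -/
abbrev OverMap {A B : C} (m : A ⟶ B) : overCat A ⥤ᵇ overCat B :=
  ⟨Over.map m, Over.mapForget_eq m⟩

/-- Every functor over `C` between slices is isomorphic over `C` to some `Over.map m`. -/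
lemma exists_iso_overMap {A B : C} (k : overCat A ⥤ᵇ overCat B) :
    ∃ m : A ⟶ B, Nonempty (k ≅ OverMap m) := by
  refine ⟨mor k.toFunctor k.w, ⟨BasedNatIso.mkNatIso (natIso k.toFunctor k.w) ?_⟩⟩
  intro a
  apply IsHomLift.of_fac' (overCat B).p _ _ (k.w_obj a) rfl
  have := natIso_hom_left k.toFunctor k.w a
  have e : (overCat B).p.map ((natIso k.toFunctor k.w).hom.app a) =
      ((natIso k.toFunctor k.w).hom.app a).left := rfl
  rw [e, this]
  simp only [eqToHom_refl, Category.comp_id]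
  exact (Category.comp_id _).symm

/-- If `Over.map m ⋙ Over.map m'` is isomorphic over `C` to the identity then `m ≫ m' = 𝟙`. -/
lemma comp_eq_id {A B : C} (m : A ⟶ B) (m' : B ⟶ A)
    (ν : OverMap m ≫ OverMap m' ≅ 𝟙 (overCat A)) : m ≫ m' = 𝟙 A := by
  obtain ⟨φ, hφ⟩ : ∃ φ : (Over.map m').obj ((Over.map m).obj (Over.mk (𝟙 A))) ⟶ Over.mk (𝟙 A),
      φ = ν.hom.toNatTrans.app (Over.mk (𝟙 A)) := ⟨_, rfl⟩
  have h : (Over.forget A).IsHomLift (𝟙 A) φ := by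
    rw [hφ]; exact ν.hom.isHomLift' (Over.mk (𝟙 A))
  have h1 := IsHomLift.fac' (Over.forget A) (𝟙 A) φ
  have h2 := Over.w φ
  have h3 : φ.left = 𝟙 A := by
    simpa using h1
  rw [h3] at h2
  simpa using h2.symm

end

/-- If a category `𝒮` fibred in groupoids over `C` is represented by `X` via `j : 𝒮 ⟶ C/X` and by `X'`
via `j' : 𝒮 ⟶ C/X'` (equivalences over `C`), then there is an isomorphism `X' ≅ X` under which `j'`
becomes 2-isomorphic to `j` over `C`. -/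
theorem result {C : Type u} [Category.{v} C] {𝒮 : BasedCategory.{v, max u v} C} (h𝒮 : FibCat.IsFibGrpd 𝒮.p)
    {X X' : C} (j : 𝒮 ⥤ᵇ FibCat.overCat X) (j' : 𝒮 ⥤ᵇ FibCat.overCat X') (hj : FibCat.IsEquivOver j) (hj' : FibCat.IsEquivOver j') :
    ∃ e : X' ≅ X, Nonempty (BasedFunctor.comp j' (⟨Over.map e.hom, Over.mapForget_eq e.hom⟩ : FibCat.overCat X' ⥤ᵇ FibCat.overCat X) ≅ j) := by
  obtain ⟨G, ⟨hu⟩, ⟨hc⟩⟩ := hj
  obtain ⟨G', ⟨hu'⟩, ⟨hc'⟩⟩ := hj'
  obtain ⟨m, ⟨hα⟩⟩ := exists_iso_overMap (BasedFunctor.comp G' j)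
  obtain ⟨m', ⟨hα'⟩⟩ := exists_iso_overMap (BasedFunctor.comp G j')
  -- reinterpret in the bicategory of categories over `C`
  let j₁ : 𝒮 ⟶ overCat X := j
  let j₁' : 𝒮 ⟶ overCat X' := j'
  let G₁ : overCat X ⟶ 𝒮 := G
  let G₁' : overCat X' ⟶ 𝒮 := G'
  let M : overCat X' ⟶ overCat X := OverMap m
  let M' : overCat X ⟶ overCat X' := OverMap m'
  let u₁ : j₁ ≫ G₁ ≅ 𝟙 𝒮 := hu
  let c₁ : G₁ ≫ j₁ ≅ 𝟙 (overCat X) := hc
  let u₂ : j₁' ≫ G₁' ≅ 𝟙 𝒮 := hu'
  let c₂ : G₁' ≫ j₁' ≅ 𝟙 (overCat X') := hc'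
  let α : G₁' ≫ j₁ ≅ M := hα
  let α' : G₁ ≫ j₁' ≅ M' := hα'
  let ν : M ≫ M' ≅ 𝟙 (overCat X') :=
    whiskerRightIso α.symm M' ≪≫ whiskerLeftIso (G₁' ≫ j₁) α'.symm ≪≫
      (α_ G₁' j₁ (G₁ ≫ j₁')) ≪≫
      whiskerLeftIso G₁' ((α_ j₁ G₁ j₁').symm ≪≫ whiskerRightIso u₁ j₁' ≪≫ λ_ j₁') ≪≫ c₂
  let ν' : M' ≫ M ≅ 𝟙 (overCat X) :=
    whiskerRightIso α'.symm M ≪≫ whiskerLeftIso (G₁ ≫ j₁') α.symm ≪≫
      (α_ G₁ j₁' (G₁' ≫ j₁)) ≪≫
      whiskerLeftIso G₁ ((α_ j₁' G₁' j₁).symm ≪≫ whiskerRightIso u₂ j₁ ≪≫ λ_ j₁) ≪≫ c₁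
  have h1 : m ≫ m' = 𝟙 X' := comp_eq_id m m' ν
  have h2 : m' ≫ m = 𝟙 X := comp_eq_id m' m ν'
  refine ⟨⟨m, m', h1, h2⟩, ⟨?_⟩⟩
  exact (whiskerLeftIso j₁' α.symm ≪≫ (α_ j₁' G₁' j₁).symm ≪≫ whiskerRightIso u₂ j₁ ≪≫ λ_ j₁ :
    j₁' ≫ M ≅ j₁)

end Groth.Agent.S6443
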