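import Groth.Statements.S6445
import Mathlib

set_option autoImplicit false
open CategoryTheory CategoryTheory.Limits
universe v u
open FibCat

namespace Groth.Agent.S6445

section
variable {A B C D E : Type u} [Category.{v} A] [Category.{v} B] [Category.{v} C] [Category.{v} D]
  [Category.{v} E] (F : A ⥤ B) (G : C ⥤ B) (H : C ⥤ D) (K : E ⥤ D)

/-- The reassociation functor. -/
def Φ : CategoricalPullback (CategoricalPullback.π₂ F G ⋙ H) K ⥤
    CategoricalPullback F (CategoricalPullback.π₁ H K ⋙ G) where
  obj x := { fst := x.fst.fst, snd := { fst := x.fst.snd, snd := x.snd, iso := x.iso },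
             iso := x.fst.iso }
  map {x y} f := { fst := f.fst.fst, snd := { fst := f.fst.snd, snd := f.snd, w := f.w },
                   w := f.fst.w }
  map_id x := by
    apply CategoricalPullback.hom_ext
    · rfl
    · apply CategoricalPullback.hom_ext <;> rfl
  map_comp f g := by
    apply CategoricalPullback.hom_ext
    · rfl
    · apply CategoricalPullback.hom_ext <;> rfl

/-- The inverse reassociation functor. -/
def Ψ : CategoricalPullback F (CategoricalPullback.π₁ H K ⋙ G) ⥤
    CategoricalPullback (CategoricalPullback.π₂ F G ⋙ H) K where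
  obj y := { fst := { fst := y.fst, snd := y.snd.fst, iso := y.iso }, snd := y.snd.snd,
             iso := y.snd.iso }
  map {x y} f := { fst := { fst := f.fst, snd := f.snd.fst, w := f.w }, snd := f.snd.snd,
                   w := f.snd.w }
  map_id x := by
    apply CategoricalPullback.hom_ext
    · apply CategoricalPullback.hom_ext <;> rfl
    · rfl
  map_comp f g := by
    apply CategoricalPullback.hom_ext
    · apply CategoricalPullback.hom_ext <;> rfl
    · rfl

lemma ΦΨ : Φ F G H K ⋙ Ψ F G H K = 𝟭 _ := by
  refine CategoryTheory.Functor.ext (fun x => rfl) (fun x y f => ?_)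
  change _ = 𝟙 _ ≫ f ≫ 𝟙 _
  rw [Category.comp_id, Category.id_comp]
  rfl

lemma ΨΦ : Ψ F G H K ⋙ Φ F G H K = 𝟭 _ := by
  refine CategoryTheory.Functor.ext (fun x => rfl) (fun x y f => ?_)
  change _ = 𝟙 _ ≫ f ≫ 𝟙 _
  rw [Category.comp_id, Category.id_comp]
  rfl

end


/-- Associativity of 2-fibre products of categories: `(A ×_B C) ×_D E` and `A ×_B (C ×_D E)` are
isomorphic categories, by an equivalence whose functor and inverse compose to the identity functors
on both sides and whose functor sends `((a, c, φ), e, ψ)` to an object with components `a`, `c`,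
`e`. (The published statement gives the isomorphism by the formula `((a, c, φ), e, ψ) ↦ (a, (c, e,
ψ), φ)`; this row pins the components `a`, `c`, `e` of the functor on objects and asks the functor
and its inverse to be mutually inverse on the nose.) -/
theorem result {A B C D E : Type u} [Category.{v} A] [Category.{v} B] [Category.{v} C] [Category.{v} D] [Category.{v} E]
    (F : A ⥤ B) (G : C ⥤ B) (H : C ⥤ D) (K : E ⥤ D) :
    ∃ e : CategoricalPullback (CategoricalPullback.π₂ F G ⋙ H) K ≌ CategoricalPullback F (CategoricalPullback.π₁ H K ⋙ G),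
      e.functor ⋙ e.inverse = 𝟭 _ ∧ e.inverse ⋙ e.functor = 𝟭 _ ∧
      ∀ x, (e.functor.obj x).fst = x.fst.fst ∧ (e.functor.obj x).snd.fst = x.fst.snd ∧ (e.functor.obj x).snd.snd = x.snd := by
  refine ⟨CategoryTheory.Equivalence.mk (Φ F G H K) (Ψ F G H K) (eqToIso (ΦΨ F G H K).symm)
    (eqToIso (ΨΦ F G H K)), ΦΨ F G H K, ΨΦ F G H K, fun x => ⟨rfl, rfl, rfl⟩⟩

end Groth.Agent.S6445
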