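import Mathlib
import Groth.Statements.S6447

set_option autoImplicit false
open CategoryTheory CategoryTheory.Limits
universe v u
open FibCat

namespace Groth.Agent.S6447

open CategoricalPullback

section
variable {X Y V : Type u} [Category.{v} X] [Category.{v} Y] [Category.{v} V] (p : X ⥤ Y) (q : V ⥤ Y)

/-- the diagonal of `U = X ×_Y V` over `V` -/
abbrev dU : p ⊡ q ⥤ (π₂ p q) ⊡ (π₂ p q) :=
  (CatCommSqOver.toFunctorToCategoricalPullback (π₂ p q) (π₂ p q) (p ⊡ q)).obj ⟨𝟭 _, 𝟭 _, Iso.refl _⟩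

/-- the diagonal of `X` over `Y` -/
abbrev dX (p : X ⥤ Y) : X ⥤ p ⊡ p :=
  (CatCommSqOver.toFunctorToCategoricalPullback p p X).obj ⟨𝟭 _, 𝟭 _, Iso.refl _⟩

/-- the cospan transformation -/
abbrev psi : CatCospanTransform (π₂ p q) (π₂ p q) p p :=
  ⟨π₁ p q, q, π₁ p q, ⟨(CatCommSq.iso (π₁ p q) (π₂ p q) p q).symm⟩,
    ⟨(CatCommSq.iso (π₁ p q) (π₂ p q) p q).symm⟩⟩

/-- the induced functor `U ×_V U ⟶ X ×_Y X` -/
noncomputable abbrev Phi : (π₂ p q) ⊡ (π₂ p q) ⥤ p ⊡ p := FibCat.categoricalPullbackMap (psi p q)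

theorem Phi_obj_fst (w : (π₂ p q) ⊡ (π₂ p q)) : ((Phi p q).obj w).fst = w.fst.fst := rfl
theorem Phi_obj_snd (w : (π₂ p q) ⊡ (π₂ p q)) : ((Phi p q).obj w).snd = w.snd.fst := rfl

theorem Phi_obj_iso_hom (w : (π₂ p q) ⊡ (π₂ p q)) :
    ((Phi p q).obj w).iso.hom = w.fst.iso.hom ≫ q.map w.iso.hom ≫ w.snd.iso.inv := by
  simp [Phi, FibCat.categoricalPullbackMap]
  rfl

theorem Phi_map_fst {w w' : (π₂ p q) ⊡ (π₂ p q)} (g : w ⟶ w') :
    ((Phi p q).map g).fst = g.fst.fst := rfl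
theorem Phi_map_snd {w w' : (π₂ p q) ⊡ (π₂ p q)} (g : w ⟶ w') :
    ((Phi p q).map g).snd = g.snd.fst := rfl

@[simp] theorem dX_obj_fst (x : X) : ((dX p).obj x).fst = x := rfl
@[simp] theorem dX_obj_snd (x : X) : ((dX p).obj x).snd = x := rfl
@[simp] theorem dX_obj_iso (x : X) : ((dX p).obj x).iso = Iso.refl _ := rfl
@[simp] theorem dX_map_fst {x x' : X} (f : x ⟶ x') : ((dX p).map f).fst = f := rfl
@[simp] theorem dX_map_snd {x x' : X} (f : x ⟶ x') : ((dX p).map f).snd = f := rfl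
@[simp] theorem dU_obj_fst (x : p ⊡ q) : ((dU p q).obj x).fst = x := rfl
@[simp] theorem dU_obj_snd (x : p ⊡ q) : ((dU p q).obj x).snd = x := rfl
@[simp] theorem dU_obj_iso (x : p ⊡ q) : ((dU p q).obj x).iso = Iso.refl _ := rfl
@[simp] theorem dU_map_fst {x x' : p ⊡ q} (f : x ⟶ x') : ((dU p q).map f).fst = f := rfl
@[simp] theorem dU_map_snd {x x' : p ⊡ q} (f : x ⟶ x') : ((dU p q).map f).snd = f := rfl

theorem dU_Phi_iso_hom (u : p ⊡ q) :
    ((Phi p q).obj ((dU p q).obj u)).iso.hom = 𝟙 _ := by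
  rw [Phi_obj_iso_hom]
  show u.iso.hom ≫ q.map (𝟙 u.snd) ≫ u.iso.inv = 𝟙 (p.obj u.fst)
  simp

/-- the filling 2-isomorphism -/
noncomputable def eIso : π₁ p q ⋙ dX p ≅ dU p q ⋙ Phi p q :=
  NatIso.ofComponents (fun u => CategoricalPullback.mkIso (Iso.refl _) (Iso.refl _) (by
      have := dU_Phi_iso_hom p q u
      simp only [Functor.comp_obj] at this ⊢
      rw [this]
      show p.map (𝟙 u.fst) ≫ 𝟙 (p.obj u.fst) = 𝟙 (p.obj u.fst) ≫ p.map (𝟙 u.fst)
      simp))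
    (fun f => by
      apply CategoricalPullback.hom_ext
      · simp [Phi_map_fst]
        exact (Category.comp_id _).trans (Category.id_comp _).symm
      · simp [Phi_map_snd]
        exact (Category.comp_id _).trans (Category.id_comp _).symm)

theorem eIso_hom_app_fst (u : p ⊡ q) : ((eIso p q).hom.app u).fst = 𝟙 _ := rfl
theorem eIso_hom_app_snd (u : p ⊡ q) : ((eIso p q).hom.app u).snd = 𝟙 _ := rfl

/-- the comparison functor -/
noncomputable abbrev K : p ⊡ q ⥤ (dX p) ⊡ (Phi p q) :=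
  (CatCommSqOver.toFunctorToCategoricalPullback (dX p) (Phi p q) (p ⊡ q)).obj
    ⟨π₁ p q, dU p q, eIso p q⟩

@[simp] theorem K_obj_fst (u : p ⊡ q) : ((K p q).obj u).fst = u.fst := rfl
@[simp] theorem K_obj_snd (u : p ⊡ q) : ((K p q).obj u).snd = (dU p q).obj u := rfl
theorem K_obj_iso (u : p ⊡ q) : ((K p q).obj u).iso = (eIso p q).app u := rfl
@[simp] theorem K_map_fst {u u' : p ⊡ q} (h : u ⟶ u') : ((K p q).map h).fst = h.fst := rfl
@[simp] theorem K_map_snd {u u' : p ⊡ q} (h : u ⟶ u') :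
    ((K p q).map h).snd = (dU p q).map h := rfl

instance K_faithful : (K p q).Faithful where
  map_injective {u u'} h h' hh := by
    have := congrArg (fun m => m.snd.fst) hh
    exact this

instance K_full : (K p q).Full where
  map_surjective {u u'} m := by
    have hw := m.w
    have h1 : m.fst ≫ 𝟙 _ = 𝟙 _ ≫ m.snd.fst.fst := congrArg (fun z => z.fst) hw
    have h2 : m.fst ≫ 𝟙 _ = 𝟙 _ ≫ m.snd.snd.fst := congrArg (fun z => z.snd) hw
    have h3 : m.snd.fst.snd ≫ 𝟙 _ = 𝟙 _ ≫ m.snd.snd.snd := m.snd.w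
    rw [Category.comp_id, Category.id_comp] at h1 h2 h3
    have e12 : m.snd.fst = m.snd.snd := by
      apply CategoricalPullback.hom_ext
      · exact h1.symm.trans h2
      · exact h3
    refine ⟨m.snd.fst, ?_⟩
    apply CategoricalPullback.hom_ext
    · exact h1.symm
    · apply CategoricalPullback.hom_ext
      · rfl
      · exact e12


instance K_essSurj : (K p q).EssSurj where
  mem_essImage z := by
    obtain ⟨x, w, ζ⟩ := z
    obtain ⟨a₁, ha₁⟩ : ∃ a₁ : x ≅ w.fst.fst, a₁.hom = ζ.hom.fst := ⟨(π₁ p p).mapIso ζ, rfl⟩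
    obtain ⟨a₂, ha₂⟩ : ∃ a₂ : x ≅ w.snd.fst, a₂.hom = ζ.hom.snd := ⟨(π₂ p p).mapIso ζ, rfl⟩
    have hζ : p.map a₁.hom ≫ (w.fst.iso.hom ≫ q.map w.iso.hom ≫ w.snd.iso.inv) =
        𝟙 _ ≫ p.map a₂.hom := by
      have := ζ.hom.w
      rw [Phi_obj_iso_hom] at this
      rw [ha₁, ha₂]
      exact this
    rw [Category.id_comp] at hζ
    have hζ' : p.map a₂.hom ≫ w.snd.iso.hom =
        p.map a₁.hom ≫ w.fst.iso.hom ≫ q.map w.iso.hom := by
      have h2 : (p.map a₁.hom ≫ w.fst.iso.hom ≫ q.map w.iso.hom) ≫ w.snd.iso.inv =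
          p.map a₂.hom := by
        rw [← hζ]
        simp only [Category.assoc]
      exact ((Iso.comp_inv_eq w.snd.iso).1 h2).symm
    let u : p ⊡ q := ⟨x, w.fst.snd, p.mapIso a₁ ≪≫ w.fst.iso⟩
    let b₁ : u ≅ w.fst := CategoricalPullback.mkIso a₁ (Iso.refl _) (by simp [u])
    let b₂ : u ≅ w.snd := CategoricalPullback.mkIso a₂ w.iso (by
      simp only [u, Iso.trans_hom, Functor.mapIso_hom, Category.assoc]
      exact hζ')
    let c : (dU p q).obj u ≅ w := CategoricalPullback.mkIso b₁ b₂ (by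
      show 𝟙 _ ≫ w.iso.hom = 𝟙 _ ≫ w.iso.hom
      rfl)
    refine ⟨u, ⟨CategoricalPullback.mkIso (Iso.refl _) c ?_⟩⟩
    apply CategoricalPullback.hom_ext
    · show 𝟙 _ ≫ ζ.hom.fst = 𝟙 _ ≫ a₁.hom
      rw [ha₁]
      rfl
    · show 𝟙 _ ≫ ζ.hom.snd = 𝟙 _ ≫ a₂.hom
      rw [ha₂]
      rfl

theorem K_isEquivalence : (K p q).IsEquivalence where


end

/-- For a 2-fibre product `U = X ×_Y V` of categories, the square formed by `U ⟶ X`, the diagonals `U ⟶
U ×_V U`, `X ⟶ X ×_Y X` and the induced functor `U ×_V U ⟶ X ×_Y X` is 2-cartesian. (The filling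
2-isomorphism is the one whose two components at every object are identities; it exists and is
unique with that property.) -/
theorem result {X Y V : Type u} [Category.{v} X] [Category.{v} Y] [Category.{v} V] (p : X ⥤ Y) (q : V ⥤ Y) :
    ∃ e, (∀ u, (e.hom.app u).fst = 𝟙 _ ∧ (e.hom.app u).snd = 𝟙 _) ∧ FibCat.IsTwoCart
      (CategoricalPullback.π₁ p q)
      ((CategoricalPullback.CatCommSqOver.toFunctorToCategoricalPullback (CategoricalPullback.π₂ p q) (CategoricalPullback.π₂ p q) (CategoricalPullback p q)).obj ⟨𝟭 _, 𝟭 _, Iso.refl _⟩)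
      ((CategoricalPullback.CatCommSqOver.toFunctorToCategoricalPullback p p X).obj ⟨𝟭 _, 𝟭 _, Iso.refl _⟩)
      (FibCat.categoricalPullbackMap (⟨CategoricalPullback.π₁ p q, q, CategoricalPullback.π₁ p q, ⟨(CatCommSq.iso (CategoricalPullback.π₁ p q) (CategoricalPullback.π₂ p q) p q).symm⟩, ⟨(CatCommSq.iso (CategoricalPullback.π₁ p q) (CategoricalPullback.π₂ p q) p q).symm⟩⟩ : CatCospanTransform (CategoricalPullback.π₂ p q) (CategoricalPullback.π₂ p q) p p))
      e := by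
  refine ⟨eIso p q, fun u => ⟨rfl, rfl⟩, ?_⟩
  exact K_isEquivalence p q

end Groth.Agent.S6447
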