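import Groth.Statements.S6448
import Mathlib

set_option autoImplicit false
open CategoryTheory
universe v u
open CatLim

namespace Groth.Agent.S6448

/-- In a category where spans complete to commutative squares and parallel pairs are coequalized by a
later arrow, every connected component is filtered (so the category is a disjoint union of filtered
categories). -/
theorem result {I : Type u} [Category.{v} I]
    (h1 : ∀ ⦃w x y : I⦄ (a : w ⟶ x) (b : w ⟶ y), ∃ (z : I) (c : x ⟶ z) (d : y ⟶ z), a ≫ c = b ≫ d)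
    (h2 : ∀ ⦃x y : I⦄ (a b : x ⟶ y), ∃ (z : I) (c : y ⟶ z), a ≫ c = b ≫ c)
    (j : ConnectedComponents I) : IsFiltered j.Component := by
  have key : ∀ x y : I, Zigzag x y → ∃ z, Nonempty (x ⟶ z) ∧ Nonempty (y ⟶ z) := by
    intro x y hxy
    induction hxy with
    | refl => exact ⟨x, ⟨𝟙 x⟩, ⟨𝟙 x⟩⟩
    | tail _ hzag ih =>
      obtain ⟨z, ⟨a⟩, ⟨b'⟩⟩ := ih
      rcases hzag with ⟨⟨f⟩⟩ | ⟨⟨f⟩⟩
      · obtain ⟨t, c1, d1, _⟩ := h1 b' f
        exact ⟨t, ⟨a ≫ c1⟩, ⟨d1⟩⟩
      · exact ⟨z, ⟨a⟩, ⟨f ≫ b'⟩⟩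
  have hne : Nonempty j.Component := inferInstance
  have : IsFilteredOrEmpty j.Component := by
    refine ⟨?_, ?_⟩
    · intro x y
      have hz : Zigzag x.obj y.obj := Quotient.exact (x.property.trans y.property.symm)
      obtain ⟨z, ⟨a⟩, ⟨b⟩⟩ := key _ _ hz
      have hzj : j.objectProperty z := by
        show Quotient.mk'' z = j
        rw [← x.property]
        exact (Quotient.sound (Zigzag.of_hom a)).symm
      exact ⟨⟨z, hzj⟩, ObjectProperty.homMk a, ObjectProperty.homMk b, trivial⟩
    · intro x y f g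
      obtain ⟨z, c, hc⟩ := h2 f.hom g.hom
      have hzj : j.objectProperty z := by
        show Quotient.mk'' z = j
        rw [← y.property]
        exact (Quotient.sound (Zigzag.of_hom c)).symm
      refine ⟨⟨z, hzj⟩, ObjectProperty.homMk c, ?_⟩
      ext
      simpa using hc
  exact {}

end Groth.Agent.S6448
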