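import Groth.Statements.S6457
import Mathlib

set_option autoImplicit false
universe u
open CategoryTheory AlgebraicGeometry
open Cyc

namespace Groth.Agent.S6457

/-- Let f : X → Y be a quasi-compact morphism of schemes and {Z_i} a locally finite collection of closed
subsets of X. Then the closures of the images f(Z_i) form a locally finite collection of closed
subsets of Y. (The published statement takes X and Y locally of finite type over a base; this row
allows arbitrary schemes, only quasi-compactness of f being used.) -/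
theorem result (X Y : Scheme.{u}) (f : X ⟶ Y) [QuasiCompact f] (ι : Type u) (Z : ι → Set X) (hZ : ∀ i, IsClosed (Z i)) (hlf : LocallyFinite Z) : LocallyFinite (fun i => closure (f '' Z i)) := by
  intro y
  -- an affine open neighbourhood of y
  obtain ⟨_, ⟨U, hU, rfl⟩, hyU, -⟩ := (Y.isBasis_affineOpens).exists_subset_of_mem_open
    (Set.mem_univ y) isOpen_univ
  have hUc : IsCompact (U : Set Y) := IsAffineOpen.isCompact hU
  have hpre : IsCompact (f ⁻¹' (U : Set Y)) :=
    QuasiCompact.isCompact_preimage (f := f) _ U.2 hUc
  have hfin := hlf.finite_nonempty_inter_compact hpre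
  refine ⟨(U : Set Y), U.2.mem_nhds hyU, hfin.subset ?_⟩
  intro i hi
  -- closure (f '' Z i) ∩ U nonempty ⇒ f '' Z i ∩ U nonempty
  obtain ⟨z, hz1, hz2⟩ := hi
  have : ((f '' Z i) ∩ (U : Set Y)).Nonempty := by
    have := mem_closure_iff.mp hz1 (U : Set Y) U.2 hz2
    obtain ⟨w, hw1, hw2⟩ := this
    exact ⟨w, hw2, hw1⟩
  obtain ⟨w, ⟨x, hx, rfl⟩, hw⟩ := this
  exact ⟨x, hx, hw⟩

end Groth.Agent.S6457
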