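import Groth.Statements.S6461
import Mathlib
import Groth.Agent.Lib.Helper14.DimFun
import Groth.Agent.Lib.Helper14.LocQuotDim
import Groth.Agent.Lib.Helper14.CMCatenary
import Groth.Agent.Lib.Helper14.LocalDimAlg
import Groth.Agent.Lib.Helper14.ResFieldBridge
-- import your own Groth.Agent.* helpers here

set_option autoImplicit false
universe u
open CategoryTheory AlgebraicGeometry
open Cyc

namespace Groth.Agent.S6461

open Groth.Agent.Helper14 in
/-- In a Noetherian ring with `A_p` CM and `P ≤ p` a minimal prime, `ht (p/P) = ht p`. -/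
theorem height_map_eq_of_CM {A : Type u} [CommRing A] (R : Type u) [CommRing R]
    [Algebra A R] (P p : Ideal A) [P.IsPrime] [p.IsPrime] [IsLocalization.AtPrime R p]
    [LocCoh.IsCohenMacaulayLocalRing R] (hP : P ∈ minimalPrimes A) (hPp : P ≤ p) :
    (p.map (Ideal.Quotient.mk P)).height = p.height := by
  apply le_antisymm (LocalDimAlg.height_map_le P p hPp)
  have hdisj : Disjoint (p.primeCompl : Set A) (P : Set A) := by
    rw [Set.disjoint_left]
    intro x hx hxp
    exact hx (hPp hxp)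
  haveI hPprime : (P.map (algebraMap A R)).IsPrime :=
    IsLocalization.isPrime_of_isPrime_disjoint p.primeCompl R _ inferInstance hdisj
  have h1 := CMCatenary.ringKrullDim_le_quotient_add_height R (P.map (algebraMap A R))
    hPprime.ne_top
  rw [IsLocalization.AtPrime.ringKrullDim_eq_height p R,
    LocQuotDim.ringKrullDim_quotient_map R P p hPp,
    IsLocalization.height_map_of_disjoint p.primeCompl P hdisj,
    Ideal.height_eq_zero_iff.mpr hP] at h1
  simpa using h1

/-- If all local rings of X are Cohen–Macaulay then every x ∈ X has an open neighbourhood U and an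
integer n with δ(ξ) = n for every generic point ξ of an irreducible component of U (every point of U
maximal under specialization). Here a pair (X, δ) with Cyc.IsSetup plays the role of a scheme
locally of finite type over the base (S, δ) (X locally Noetherian with universally catenary local
rings, δ a dimension function). -/
theorem result (X : Scheme.{u}) (δ : X → ℤ) (hX : Cyc.IsSetup X δ) (hCM : ∀ x : X, LocCoh.IsCohenMacaulayLocalRing ↑(X.presheaf.stalk x)) (x : X) : ∃ (U : X.Opens) (n : ℤ), x ∈ U ∧ ∀ ξ : X, ξ ∈ U → (∀ ξ' : X, ξ' ⤳ ξ → ξ' = ξ) → δ ξ = n := by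
  obtain ⟨hN, hUC, hδ⟩ := hX
  haveI := hN
  -- affine Noetherian neighbourhood
  obtain ⟨U₀, hU₀aff, hxU₀⟩ : ∃ U₀ : X.Opens, IsAffineOpen U₀ ∧ x ∈ U₀ := by
    obtain ⟨_, ⟨V, hV : IsAffineOpen V, rfl⟩, hxV, -⟩ :=
      (X.isBasis_affineOpens).exists_subset_of_mem_open (Set.mem_univ x) isOpen_univ
    exact ⟨V, hV, hxV⟩
  haveI hNoeth : IsNoetherianRing Γ(X, U₀) :=
    IsLocallyNoetherian.component_noetherian ⟨U₀, hU₀aff⟩
  set px := hU₀aff.primeIdealOf ⟨x, hxU₀⟩ with hpx
  haveI hpxprime : px.asIdeal.IsPrime := px.isPrime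
  obtain ⟨m, hm⟩ := ENat.ne_top_iff_exists.mp (Ideal.height_ne_top_of_isPrime (I := px.asIdeal))
  have hfx : hU₀aff.fromSpec px = x := hU₀aff.fromSpec_primeIdealOf ⟨x, hxU₀⟩
  -- the bad minimal primes
  have hfin : (minimalPrimes Γ(X, U₀)).Finite := minimalPrimes.finite_of_isNoetherianRing _
  let bad : Set (PrimeSpectrum Γ(X, U₀)) :=
    {P | P.asIdeal ∈ minimalPrimes Γ(X, U₀) ∧ ¬ P ≤ px}
  have hbadfin : bad.Finite := by
    have h1 : (PrimeSpectrum.asIdeal ⁻¹' (minimalPrimes Γ(X, U₀))).Finite :=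
      hfin.preimage (fun a _ b _ h => PrimeSpectrum.ext h)
    exact h1.subset (fun P hP => hP.1)
  let Z : Set X := ⋃ P ∈ bad, closure {hU₀aff.fromSpec P}
  have hZclosed : IsClosed Z := hbadfin.isClosed_biUnion (fun P _ => isClosed_closure)
  have hxZ : x ∉ Z := by
    intro hx
    simp only [Z, Set.mem_iUnion] at hx
    obtain ⟨P, hP, hxP⟩ := hx
    rw [← specializes_iff_mem_closure, ← hfx,
      Groth.Agent.Helper14.ResFieldBridge.specializes_fromSpec_iff] at hxP
    exact hP.2 hxP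
  refine ⟨U₀ ⊓ ⟨Zᶜ, hZclosed.isOpen_compl⟩, δ x + m, ⟨hxU₀, hxZ⟩, ?_⟩
  rintro ξ ⟨hξU₀, hξZ⟩ hξmax
  set pξ := hU₀aff.primeIdealOf ⟨ξ, hξU₀⟩ with hpξ
  haveI hpξprime : pξ.asIdeal.IsPrime := pξ.isPrime
  have hfξ : hU₀aff.fromSpec pξ = ξ := hU₀aff.fromSpec_primeIdealOf ⟨ξ, hξU₀⟩
  have hmin : pξ.asIdeal ∈ minimalPrimes Γ(X, U₀) := by
    refine ⟨⟨pξ.isPrime, bot_le⟩, ?_⟩
    rintro q ⟨hq, -⟩ hqle
    have hQ : (⟨q, hq⟩ : PrimeSpectrum Γ(X, U₀)) ≤ pξ := hqle
    rw [← Groth.Agent.Helper14.ResFieldBridge.specializes_fromSpec_iff hU₀aff, hfξ] at hQ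
    have e := hξmax _ hQ
    rw [← hfξ] at e
    have e' := hU₀aff.fromSpec.isOpenEmbedding.injective e
    rw [← e']
  have hle : pξ ≤ px := by
    by_contra hnot
    apply hξZ
    simp only [Z, Set.mem_iUnion]
    refine ⟨pξ, ⟨hmin, hnot⟩, ?_⟩
    rw [hfξ]
    exact subset_closure rfl
  have hspec : ξ ⤳ x := by
    rw [← hfξ, ← hfx, Groth.Agent.Helper14.ResFieldBridge.specializes_fromSpec_iff]
    exact hle
  obtain ⟨n, hn, hδn⟩ := Groth.Agent.Helper14.DimFun.delta_eq_add_height_sch δ hδ hU₀aff ξ x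
    hξU₀ hxU₀ hspec
  letI := X.presheaf.algebra_section_stalk ⟨x, hxU₀⟩
  haveI := hU₀aff.isLocalization_stalk ⟨x, hxU₀⟩
  haveI := hCM x
  have hh := height_map_eq_of_CM (X.presheaf.stalk x) pξ.asIdeal px.asIdeal hmin hle
  rw [hδn]
  have : (n : ℕ∞) = m := by rw [← hn, hm]; exact hh
  have : n = m := by exact_mod_cast this
  rw [this]

end Groth.Agent.S6461
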