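import Groth.Statements.S6462
import Mathlib
import Groth.Agent.Lib.Helper14.DimClosure
import Groth.Agent.Lib.Helper14.LocQuotDim
-- import your own Groth.Agent.* helpers here

set_option autoImplicit false
universe u
open CategoryTheory AlgebraicGeometry
open Cyc

namespace Groth.Agent.S6462

/-- Assume in addition that X is Jacobson and δ(x) = 0 for every closed point x. For a point ξ of X with
closure Z (an integral closed subscheme whose generic point is ξ) one then has δ(ξ) = dim Z = dim
O_{Z,z} for every closed point z of Z; here Z is the closure of ξ and O_{Z,z} = O_{X,z}/𝔭_ξ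
(Cyc.LocQuot). (The published statement takes X locally of finite type over a Jacobson base with δ
zero on the base's closed points; this row assumes instead that X is Jacobson and δ vanishes on the
closed points of X, which follows from the published hypotheses.) Here a pair (X, δ) with
Cyc.IsSetup plays the role of a scheme locally of finite type over the base (S, δ) (X locally
Noetherian with universally catenary local rings, δ a dimension function). -/
theorem result (X : Scheme.{u}) [JacobsonSpace X] (δ : X → ℤ) (hX : Cyc.IsSetup X δ) (h0 : ∀ x : X, IsClosed ({x} : Set X) → δ x = 0) (ξ : X) : (topologicalKrullDim ↥(closure ({ξ} : Set X)) = ((δ ξ).toNat : WithBot ℕ∞) ∧ 0 ≤ δ ξ) ∧ ∀ (z : X) (h : ξ ⤳ z), IsClosed ({z} : Set X) → ringKrullDim (Cyc.LocQuot z ξ h) = ((δ ξ).toNat : WithBot ℕ∞) := by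
  obtain ⟨hNoeth, hcat, hdim⟩ := hX
  haveI := hNoeth
  have hcl : ∀ y : X, ∃ t, y ⤳ t ∧ IsClosed ({t} : Set X) := fun y => by
    obtain ⟨t, ht1, ht2⟩ := nonempty_inter_closedPoints (X := X) (Z := closure {y})
      ⟨y, subset_closure rfl⟩ isClosed_closure.isLocallyClosed
    exact ⟨t, specializes_iff_mem_closure.mpr ht1, ht2⟩
  have hnonneg : ∀ y, 0 ≤ δ y := fun y => by
    obtain ⟨t, hyt, htc⟩ := hcl y
    by_cases e : y = t
    · rw [e, h0 t htc]
    · have := (hdim y t hyt e).1
      rw [h0 t htc] at this
      exact this.le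
  refine ⟨⟨?_, hnonneg ξ⟩, ?_⟩
  · obtain ⟨t, hξt, htc⟩ := hcl ξ
    have h1 := Groth.Agent.Helper14.DimClosure.dim_closure_of_isDimFun δ hdim ξ t hξt 0
      (fun y _ => hnonneg y) (h0 t htc)
    rw [sub_zero] at h1
    exact h1
  · intro z h hzc
    obtain ⟨U, hU, hzU, -⟩ := exists_isAffineOpen_mem_and_subset (x := z)
      (U := (⊤ : X.Opens)) trivial
    have hξU : ξ ∈ U := h.mem_open U.isOpen hzU
    haveI : IsNoetherianRing Γ(X, U) := IsLocallyNoetherian.component_noetherian ⟨U, hU⟩
    obtain ⟨m, hm, hδm⟩ := Groth.Agent.Helper14.DimFun.delta_eq_add_height_sch δ hdim hU ξ z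
      hξU hzU h
    rw [Groth.Agent.Helper14.LocQuotDim.ringKrullDim_locQuot hU z ξ hzU hξU h, hm, hδm, h0 z hzc]
    simp

end Groth.Agent.S6462
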