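import Groth.Statements.S6463
import Mathlib

set_option autoImplicit false
universe u
open CategoryTheory CategoryTheory.Limits AlgebraicGeometry
open PicF

namespace Groth.Agent.S6463

section helpers

/-- a ring hom from a field which has a section is an isomorphism -/
lemma isIso_appTop_of_section {k : Type u} [Field k] {X : Scheme.{u}}
    (f : X ⟶ Spec (CommRingCat.of k)) [IsIntegral X] [UniversallyClosed f]
    (σ : Spec (CommRingCat.of k) ⟶ X) (hσ : σ ≫ f = 𝟙 (Spec (CommRingCat.of k))) :
    IsIso f.appTop := by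
  have hK : IsField Γ(X, ⊤) := isField_of_universallyClosed k f
  have hcomp : f.appTop ≫ σ.appTop = 𝟙 _ := by
    rw [← Scheme.Hom.comp_appTop, hσ]
    rfl
  -- σ.appTop is bijective
  have hnt : Nontrivial Γ(Spec (CommRingCat.of k), ⊤) :=
    (Scheme.ΓSpecIso (CommRingCat.of k)).commRingCatIsoToRingEquiv.symm.injective.nontrivial
  have hinj : Function.Injective σ.appTop.hom := by
    let _ := hK.toField
    exact RingHom.injective _
  have hsurj : Function.Surjective σ.appTop.hom := by
    intro y
    refine ⟨f.appTop.hom y, ?_⟩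
    have := congrArg (fun φ => φ.hom y) hcomp
    simpa using this
  have hiso : IsIso σ.appTop :=
    (ConcreteCategory.isIso_iff_bijective σ.appTop).2 ⟨hinj, hsurj⟩
  have : f.appTop = inv σ.appTop := by
    rw [← cancel_mono σ.appTop, hcomp, IsIso.inv_hom_id]
  rw [this]
  infer_instance

/-- sections over an affine open of the base -/
lemma isIso_app_snd_of_isAffineOpen {k : Type u} [Field k] {X : Scheme.{u}}
    (f : X ⟶ Spec (CommRingCat.of k)) [QuasiCompact f] [QuasiSeparated f]
    (hf : IsIso f.appTop) (T : Scheme.{u}) (t : T ⟶ Spec (CommRingCat.of k))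
    (V : T.Opens) (hV : IsAffineOpen V) : IsIso ((pullback.snd f t).app V) := by
  have H : IsPullback (pullback.fst f t) (pullback.snd f t) f t := IsPullback.of_hasPullback f t
  have hUST : V ≤ t ⁻¹ᵁ (⊤ : (Spec (CommRingCat.of k)).Opens) := le_top
  have hUSX : (⊤ : X.Opens) ≤ f ⁻¹ᵁ (⊤ : (Spec (CommRingCat.of k)).Opens) := le_top
  have hcX : CompactSpace X := (quasiCompact_iff_compactSpace f).mp inferInstance
  have hqX : QuasiSeparatedSpace X := (quasiSeparated_iff_quasiSeparatedSpace f).mp inferInstance
  have h1 : IsIso (pushoutSection H hUST hUSX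
      (UY := pullback.fst f t ⁻¹ᵁ ⊤ ⊓ pullback.snd f t ⁻¹ᵁ V) rfl) :=
    isIso_pushoutSection_of_isQuasiSeparated_of_flat_right H hUST hUSX rfl
      (isAffineOpen_top _) hV isCompact_univ (isQuasiSeparated_univ)
  have h0 : IsIso (f.appLE ⊤ ⊤ hUSX) := by
    have : f.appLE ⊤ ⊤ hUSX = f.appTop := by
      simp [Scheme.Hom.appLE, Scheme.Hom.appTop]
    rw [this]; exact hf
  have h2 : IsIso (pushout.inr (f.appLE ⊤ ⊤ hUSX) (t.appLE ⊤ V hUST)) := inferInstance
  have hle : pullback.fst f t ⁻¹ᵁ ⊤ ⊓ pullback.snd f t ⁻¹ᵁ V ≤ pullback.snd f t ⁻¹ᵁ V :=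
    inf_le_right
  have hge : pullback.snd f t ⁻¹ᵁ V ≤ pullback.fst f t ⁻¹ᵁ ⊤ ⊓ pullback.snd f t ⁻¹ᵁ V :=
    le_inf le_top le_rfl
  have h3 : pushout.inr (f.appLE ⊤ ⊤ hUSX) (t.appLE ⊤ V hUST) ≫
      pushoutSection H hUST hUSX (UY := pullback.fst f t ⁻¹ᵁ ⊤ ⊓ pullback.snd f t ⁻¹ᵁ V) rfl =
      (pullback.snd f t).appLE V _ hle := pushout.inr_desc _ _ _
  have h4 : IsIso ((pullback.snd f t).appLE V _ hle) := by
    rw [← h3]; infer_instance
  rw [Scheme.Hom.appLE] at h4
  have h5 : IsIso (homOfLE hle) := ⟨homOfLE hge, Subsingleton.elim _ _, Subsingleton.elim _ _⟩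
  have h6 : IsIso ((pullback f t).presheaf.map (homOfLE hle).op) := inferInstance
  exact IsIso.of_isIso_comp_right _ ((pullback f t).presheaf.map (homOfLE hle).op)

theorem main (k : Type u) [Field k] (X : Scheme.{u}) (f : X ⟶ Spec (CommRingCat.of k)) (hX : Curve.IsSmoothProperCurve k X f) (σ : Spec (CommRingCat.of k) ⟶ X) (hσ : σ ≫ f = 𝟙 (Spec (CommRingCat.of k))) (T : Scheme.{u}) (t : T ⟶ Spec (CommRingCat.of k)) : IsIso (pullback.snd f t).c := by
  obtain ⟨hprop, -, hint, -⟩ := hX
  have hf : IsIso f.appTop := isIso_appTop_of_section f σ hσ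
  let φ : T.sheaf ⟶ (TopCat.Sheaf.pushforward CommRingCat (pullback.snd f t).base).obj
      (pullback f t).sheaf := ⟨(pullback.snd f t).c⟩
  suffices h : IsIso φ by
    have := (inferInstance : IsIso ((TopCat.Sheaf.forget CommRingCat T.toTopCat).map φ))
    exact this
  have hB : TopologicalSpace.Opens.IsBasis (Set.range (fun V : T.affineOpens => (V : T.Opens))) := by
    rw [Subtype.range_coe]
    exact T.isBasis_affineOpens
  apply TopCat.Sheaf.isIso_iff_isIso_basis (B := fun V : T.affineOpens => (V : T.Opens)) hB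
  intro V
  exact isIso_app_snd_of_isAffineOpen f hf T t V.1 V.2

end helpers

/-- For a field k and a smooth projective curve X over k that has a k-rational point σ, the conditions
under which the Picard functor is computed through the section are met: f : X → Spec k is flat,
proper and of finite presentation with a section, and O_T → f_{T,*} O_{X_T} is an isomorphism for
every scheme T over k. Only the last assertion is stated (the others are part of the hypotheses or
immediate): for every t : T → Spec k, the sheaf map of the base change X ×_k T → T is an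
isomorphism. Proper replaces projective (they agree for curves over a field). -/
theorem result (k : Type u) [Field k] (X : Scheme.{u}) (f : X ⟶ Spec (CommRingCat.of k)) (hX : Curve.IsSmoothProperCurve k X f) (σ : Spec (CommRingCat.of k) ⟶ X) (hσ : σ ≫ f = 𝟙 (Spec (CommRingCat.of k))) (T : Scheme.{u}) (t : T ⟶ Spec (CommRingCat.of k)) : IsIso (pullback.snd f t).c := by
  exact main k X f hX σ hσ T t

end Groth.Agent.S6463
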