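import Groth.Statements.S6464
import Mathlib

set_option autoImplicit false
universe u v
open CycAlg

namespace Groth.Agent.S6464

section
variable {R : Type u} [CommRing R] {M N : Type v} [AddCommGroup M] [Module R M]
  [AddCommGroup N] [Module R N]

/-- rank-nullity for length -/
theorem length_ker_add_range (φ : M →ₗ[R] N) :
    Module.length R M = Module.length R (LinearMap.ker φ) + Module.length R (LinearMap.range φ) := by
  refine Module.length_eq_add_of_exact (LinearMap.ker φ).subtype φ.rangeRestrict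
    (Submodule.subtype_injective _) φ.surjective_rangeRestrict ?_
  rw [LinearMap.exact_iff]
  ext x
  simp [LinearMap.mem_ker, Subtype.ext_iff]

/-- length of a submodule with a smaller submodule -/
theorem length_of_le (p q : Submodule R M) (hpq : p ≤ q) :
    Module.length R q = Module.length R p + Module.length R (↥q ⧸ p.submoduleOf q) := by
  have h1 := Module.length_eq_add_of_exact (p.submoduleOf q).subtype (p.submoduleOf q).mkQ
    (Submodule.subtype_injective _) (Submodule.mkQ_surjective _)
    (LinearMap.exact_subtype_mkQ (p.submoduleOf q))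
  rw [h1, (Submodule.submoduleOfEquivOfLe hpq).length_eq]

end


/-- Let (M, N, φ, ψ) be a 2-periodic complex over a ring R with M and N of finite length. Then its
cohomology modules have finite length and e_R(M, N, φ, ψ) = length_R(M) − length_R(N). (The case M =
N, where the conclusion reads e_R(M, φ, ψ) = 0, is the special case and is not restated.) -/
theorem result {R : Type u} [CommRing R] {M N : Type v} [AddCommGroup M] [Module R M] [AddCommGroup N] [Module R N] (φ : M →ₗ[R] N) (ψ : N →ₗ[R] M) (h : CycAlg.IsPeriodic φ ψ) (hM : Module.length R M < ⊤) (hN : Module.length R N < ⊤) : CycAlg.FinCoh R φ ψ ∧ CycAlg.herbrand R φ ψ = ((Module.length R M).toNat : ℤ) - ((Module.length R N).toNat : ℤ) := by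
  obtain ⟨h1, h2⟩ := h
  have hle1 : LinearMap.range ψ ≤ LinearMap.ker φ := by
    rintro _ ⟨y, rfl⟩
    exact LinearMap.congr_fun h1 y
  have hle2 : LinearMap.range φ ≤ LinearMap.ker ψ := by
    rintro _ ⟨y, rfl⟩
    exact LinearMap.congr_fun h2 y
  have eM := length_ker_add_range φ
  have eN := length_ker_add_range ψ
  have eK1 := length_of_le _ _ hle1
  have eK2 := length_of_le _ _ hle2
  -- abbreviations
  obtain ⟨a, ha⟩ : ∃ a, Module.length R (LinearMap.range φ) = a := ⟨_, rfl⟩
  obtain ⟨b, hb⟩ : ∃ b, Module.length R (LinearMap.range ψ) = b := ⟨_, rfl⟩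
  obtain ⟨c, hc⟩ : ∃ c, Module.length R (CycAlg.perH φ ψ) = c := ⟨_, rfl⟩
  obtain ⟨d, hd⟩ : ∃ d, Module.length R (CycAlg.perH ψ φ) = d := ⟨_, rfl⟩
  have hc' : Module.length R (↥(LinearMap.ker φ) ⧸ (LinearMap.range ψ).submoduleOf (LinearMap.ker φ)) = c := hc
  have hd' : Module.length R (↥(LinearMap.ker ψ) ⧸ (LinearMap.range φ).submoduleOf (LinearMap.ker ψ)) = d := hd
  rw [hb, hc'] at eK1
  rw [ha, hd'] at eK2
  rw [eK1, ha] at eM
  rw [eK2, hb] at eN
  rw [eM] at hM
  rw [eN] at hN
  have hafin : a ≠ ⊤ := by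
    rintro rfl
    simp at hM
  have hbfin : b ≠ ⊤ := by
    rintro rfl
    simp at hM
  have hcfin : c ≠ ⊤ := by
    rintro rfl
    simp at hM
  have hdfin : d ≠ ⊤ := by
    rintro rfl
    simp at hN
  unfold CycAlg.FinCoh CycAlg.herbrand
  rw [hc, hd, eM, eN]
  lift a to ℕ using hafin
  lift b to ℕ using hbfin
  lift c to ℕ using hcfin
  lift d to ℕ using hdfin
  refine ⟨⟨ENat.natCast_lt_top c, ENat.natCast_lt_top d⟩, ?_⟩
  have e1 : ((b : ℕ∞) + c + a).toNat = b + c + a := by
    rw [← Nat.cast_add, ← Nat.cast_add, ENat.toNat_natCast]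
  have e2 : ((a : ℕ∞) + d + b).toNat = a + d + b := by
    rw [← Nat.cast_add, ← Nat.cast_add, ENat.toNat_natCast]
  rw [e1, e2, ENat.toNat_natCast, ENat.toNat_natCast]
  push_cast
  ring

end Groth.Agent.S6464
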