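import Groth.Statements.S6476
import Groth.Agent.Lib.Helper5.HS2

set_option autoImplicit false
universe u v
open CycAlg

namespace Groth.Agent.S6476

section loc
variable {A : Type u} [CommRing A] [IsNoetherianRing A] {M : Type v} [AddCommGroup M] [Module A M]
  [Module.Finite A M]

/-- localization at a minimal prime of the support has finite length -/
theorem isFiniteLength_localized_of_minimal (p : PrimeSpectrum A)
    (hmin : ∀ q ∈ Module.support A M, q ≤ p → q = p) :
    IsFiniteLength (Localization.AtPrime p.asIdeal) (LocalizedModule p.asIdeal.primeCompl M) := by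
  apply Groth.Agent.Helper5.HS.isFiniteLength_of_support
  intro P hP
  have h1 := Module.support_subset_preimage_comap (R := A) (A := Localization.AtPrime p.asIdeal)
    (M := LocalizedModule p.asIdeal.primeCompl M) hP
  have h2 : PrimeSpectrum.comap (algebraMap A (Localization.AtPrime p.asIdeal)) P ∈
      Module.support A M := by
    rw [Set.mem_preimage, Module.mem_support_iff'] at h1
    obtain ⟨x, hx⟩ := h1
    induction x using LocalizedModule.induction_on with
    | h m s =>
      rw [Module.mem_support_iff']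
      refine ⟨m, fun r hr h0 => hx r hr ?_⟩
      rw [LocalizedModule.smul'_mk, h0, LocalizedModule.zero_mk]
  have h3 : PrimeSpectrum.comap (algebraMap A (Localization.AtPrime p.asIdeal)) P ≤ p := by
    have hd := ((IsLocalization.isPrime_iff_isPrime_disjoint p.asIdeal.primeCompl
      (Localization.AtPrime p.asIdeal) P.asIdeal).1 P.isPrime).2
    intro a ha
    by_contra hap
    exact Set.disjoint_left.1 hd (show a ∈ (p.asIdeal.primeCompl : Set A) from hap) ha
  have h4 := hmin _ h2 h3
  have h5 : P.asIdeal = IsLocalRing.maximalIdeal (Localization.AtPrime p.asIdeal) := by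
    rw [← IsLocalization.map_comap p.asIdeal.primeCompl (Localization.AtPrime p.asIdeal) P.asIdeal,
      ← Localization.AtPrime.map_eq_maximalIdeal]
    congr 1
    exact congrArg PrimeSpectrum.asIdeal h4
  rw [h5]
  infer_instance

end loc

section main
variable {A : Type u} [CommRing A] [IsNoetherianRing A] [IsLocalRing A] {M : Type v}
  [AddCommGroup M] [Module A M] [Module.Finite A M]

theorem finLength_quot_of_injective (hdim : Module.supportDim A M = 1) (θ : M →ₗ[A] M)
    (hθ : Function.Injective θ) : IsFiniteLength A (M ⧸ LinearMap.range θ) := by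
  apply Groth.Agent.Helper5.HS.isFiniteLength_of_support
  intro p hp
  by_contra hpmax
  have hpM : p ∈ Module.support A M :=
    Module.support_subset_of_surjective _ (LinearMap.range θ).mkQ_surjective hp
  have hmin : ∀ q ∈ Module.support A M, q ≤ p → q = p := by
    intro q hq hqp
    by_contra hne
    have hlt : q < p := lt_of_le_of_ne hqp hne
    have hple : p ≤ IsLocalRing.closedPoint A := IsLocalRing.le_maximalIdeal p.isPrime.ne_top
    have hm : IsLocalRing.closedPoint A ∈ Module.support A M := Module.mem_support_mono hple hpM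
    have hlt2 : p < IsLocalRing.closedPoint A := by
      refine lt_of_le_of_ne hple ?_
      rintro rfl
      exact hpmax (IsLocalRing.maximalIdeal.isMaximal A)
    let s : LTSeries (Module.support A M) :=
      RelSeries.fromListIsChain [⟨q, hq⟩, ⟨p, hpM⟩, ⟨IsLocalRing.closedPoint A, hm⟩] (by simp)
        (by
          simp only [List.isChain_cons_cons, List.isChain_singleton, and_true]
          exact ⟨hlt, hlt2⟩)
    have h1 := Order.LTSeries.length_le_krullDim s
    rw [Module.supportDim] at hdim
    rw [hdim] at h1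
    have h2 : s.length = 2 := rfl
    rw [h2] at h1
    norm_cast at h1
  have hfl := isFiniteLength_localized_of_minimal p hmin
  have hart : IsArtinian (Localization.AtPrime p.asIdeal) (LocalizedModule p.asIdeal.primeCompl M) :=
    (isFiniteLength_iff_isNoetherian_isArtinian.1 hfl).2
  have hsurj := IsArtinian.surjective_of_injective_endomorphism
    (LocalizedModule.map p.asIdeal.primeCompl θ) (LocalizedModule.map_injective _ θ hθ)
  rw [Module.mem_support_iff'] at hp
  obtain ⟨x, hx⟩ := hp
  obtain ⟨m, rfl⟩ := Submodule.mkQ_surjective _ x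
  obtain ⟨y, hy⟩ := hsurj (LocalizedModule.mk m 1)
  induction y using LocalizedModule.induction_on with
  | h m' s' =>
    rw [LocalizedModule.map_mk, LocalizedModule.mk_eq] at hy
    obtain ⟨u, hu⟩ := hy
    refine hx ((u : A) * (s' : A)) (p.asIdeal.primeCompl.mul_mem u.2 s'.2) ?_
    rw [← map_smul, Submodule.mkQ_apply, Submodule.Quotient.mk_eq_zero, LinearMap.mem_range]
    refine ⟨(u : A) • m', ?_⟩
    rw [map_smul, mul_smul]
    simpa [Submonoid.smul_def] using hu

end main

/-- Let A be a Noetherian local ring, M a finite A-module of dimension 1, and φ, ψ : M → M injective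
with φ(ψ(M)) = ψ(φ(M)) (e.g. φ, ψ commute). Then length_A(M/φψM) is finite and (M/φψM, φ, ψ) is an
exact (2, 1)-periodic complex; here φ', ψ' denote the endomorphisms of M/φψM induced by φ and ψ, and
exactness says both cohomology modules (CycAlg.perH) are trivial. -/
theorem result {A : Type u} [CommRing A] [IsNoetherianRing A] [IsLocalRing A] {M : Type v} [AddCommGroup M] [Module A M] [Module.Finite A M] (hdim : Module.supportDim A M = 1) (φ ψ : M →ₗ[A] M) (hφ : Function.Injective φ) (hψ : Function.Injective ψ) (hcomm : Submodule.map φ (LinearMap.range ψ) = Submodule.map ψ (LinearMap.range φ)) (φ' ψ' : (M ⧸ LinearMap.range (φ ∘ₗ ψ)) →ₗ[A] (M ⧸ LinearMap.range (φ ∘ₗ ψ))) (hφ' : φ' ∘ₗ (LinearMap.range (φ ∘ₗ ψ)).mkQ = (LinearMap.range (φ ∘ₗ ψ)).mkQ ∘ₗ φ) (hψ' : ψ' ∘ₗ (LinearMap.range (φ ∘ₗ ψ)).mkQ = (LinearMap.range (φ ∘ₗ ψ)).mkQ ∘ₗ ψ) : Module.length A (M ⧸ LinearMap.range (φ ∘ₗ ψ)) < ⊤ ∧ CycAlg.IsPeriodic φ' ψ' ∧ Subsingleton (CycAlg.perH φ' ψ') ∧ Subsingleton (CycAlg.perH ψ' φ') := by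
  have hrange : LinearMap.range (φ ∘ₗ ψ) = Submodule.map φ (LinearMap.range ψ) :=
    LinearMap.range_comp ψ φ
  have hφ'a : ∀ m, φ' (Submodule.Quotient.mk m) = Submodule.Quotient.mk (φ m) :=
    fun m => LinearMap.congr_fun hφ' m
  have hψ'a : ∀ m, ψ' (Submodule.Quotient.mk m) = Submodule.Quotient.mk (ψ m) :=
    fun m => LinearMap.congr_fun hψ' m
  refine ⟨?_, ⟨?_, ?_⟩, ?_, ?_⟩
  · exact lt_top_iff_ne_top.2 (Module.length_ne_top_iff.2
      (finLength_quot_of_injective hdim _ (by
        rw [LinearMap.coe_comp]; exact hφ.comp hψ)))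
  · apply LinearMap.ext
    intro x
    obtain ⟨m, rfl⟩ := Submodule.mkQ_surjective _ x
    rw [LinearMap.comp_apply, Submodule.mkQ_apply, hψ'a, hφ'a, LinearMap.zero_apply,
      Submodule.Quotient.mk_eq_zero]
    exact ⟨m, rfl⟩
  · apply LinearMap.ext
    intro x
    obtain ⟨m, rfl⟩ := Submodule.mkQ_surjective _ x
    rw [LinearMap.comp_apply, Submodule.mkQ_apply, hφ'a, hψ'a, LinearMap.zero_apply,
      Submodule.Quotient.mk_eq_zero, hrange, hcomm]
    exact ⟨φ m, ⟨m, rfl⟩, rfl⟩
  · rw [Submodule.Quotient.subsingleton_iff, Submodule.submoduleOf_eq_top]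
    intro x hx
    obtain ⟨m, rfl⟩ := Submodule.mkQ_surjective _ x
    rw [LinearMap.mem_ker, Submodule.mkQ_apply, hφ'a, Submodule.Quotient.mk_eq_zero] at hx
    obtain ⟨n, hn⟩ := hx
    have h1 : ψ n = m := hφ hn
    exact ⟨Submodule.Quotient.mk n, by rw [hψ'a, h1]; rfl⟩
  · rw [Submodule.Quotient.subsingleton_iff, Submodule.submoduleOf_eq_top]
    intro x hx
    obtain ⟨m, rfl⟩ := Submodule.mkQ_surjective _ x
    rw [LinearMap.mem_ker, Submodule.mkQ_apply, hψ'a, Submodule.Quotient.mk_eq_zero, hrange,
      hcomm] at hx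
    obtain ⟨y, ⟨n, rfl⟩, hn⟩ := hx
    have h1 : φ n = m := hψ hn
    exact ⟨Submodule.Quotient.mk n, by rw [hφ'a, h1]; rfl⟩

end Groth.Agent.S6476
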