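import Groth.Statements.S6484
import Mathlib

set_option autoImplicit false
universe u
open CategoryTheory AlgebraicGeometry
open CategoryTheory.Limits
open Cyc

namespace Groth.Agent.S6484

section helpers

/-- residue field maps of morphisms that are surjective on stalks are surjective -/
lemma residueFieldMap_surjective {X Y : Scheme.{u}} (f : X ⟶ Y) [SurjectiveOnStalks f] (x : X) :
    Function.Surjective (f.residueFieldMap x).hom := by
  intro z
  obtain ⟨w, rfl⟩ := X.residue_surjective x z
  obtain ⟨v, rfl⟩ := f.stalkMap_surjective x w
  refine ⟨Y.residue (f x) v, ?_⟩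
  have := Scheme.residue_residueFieldMap f x
  exact congrArg (fun φ => φ.hom v) this

theorem main6484 (X X' Y : Scheme.{u}) (f : Y ⟶ X) (g : X' ⟶ X) (hcd : Cyc.IsCompletelyDecomposed f) :
    Cyc.IsCompletelyDecomposed (pullback.snd f g) := by
  intro x'
  obtain ⟨y, hy, hsurj⟩ := hcd (g x')
  let a := f.residueFieldMap y
  have hbij : Function.Bijective a.hom := ⟨(a.hom).injective, hsurj⟩
  have hiso : IsIso a := by
    rw [ConcreteCategory.isIso_iff_bijective]
    exact hbij
  let c := X.residueFieldCongr hy
  let b := g.residueFieldMap x'
  let ψ : Y.residueField y ⟶ X'.residueField x' := inv a ≫ c.hom ≫ b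
  let h₁ : Spec (X'.residueField x') ⟶ Y := Spec.map ψ ≫ Y.fromSpecResidueField y
  let h₂ : Spec (X'.residueField x') ⟶ X' := X'.fromSpecResidueField x'
  have hcomm : h₁ ≫ f = h₂ ≫ g := by
    simp only [h₁, h₂, Category.assoc]
    rw [← Scheme.Hom.SpecMap_residueFieldMap_fromSpecResidueField f y,
      ← Scheme.Hom.SpecMap_residueFieldMap_fromSpecResidueField g x']
    rw [← Spec.map_comp_assoc]
    have h1 : f.residueFieldMap y ≫ ψ = c.hom ≫ b := by
      simp only [ψ, a]
      rw [IsIso.hom_inv_id_assoc]
    rw [h1, Spec.map_comp_assoc, Scheme.residueFieldCongr_fromSpecResidueField]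
  let h : Spec (X'.residueField x') ⟶ pullback f g := pullback.lift h₁ h₂ hcomm
  let pt : Spec (X'.residueField x') := default
  have hsnd : h ≫ pullback.snd f g = h₂ := pullback.lift_snd _ _ _
  refine ⟨h pt, ?_, ?_⟩
  · have : (h ≫ pullback.snd f g) pt = h₂ pt := by rw [hsnd]
    rw [Scheme.Hom.comp_apply] at this
    rw [this]
    exact Scheme.fromSpecResidueField_apply x' pt
  · -- residue fields
    have h1 := Scheme.residueFieldMap_comp h (pullback.snd f g) pt
    have h2 := Scheme.Hom.residueFieldMap_congr hsnd pt
    have h3 : Function.Surjective (h₂.residueFieldMap pt).hom := residueFieldMap_surjective h₂ pt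
    have h4 : Function.Surjective ((h ≫ pullback.snd f g).residueFieldMap pt).hom := by
      rw [h2]
      simp only [CommRingCat.hom_comp, RingHom.coe_comp]
      exact h3.comp (ConcreteCategory.bijective_of_isIso _).2
    rw [h1] at h4
    simp only [CommRingCat.hom_comp, RingHom.coe_comp] at h4
    intro z
    obtain ⟨w, hw⟩ := h4 ((h.residueFieldMap pt).hom z)
    refine ⟨w, ?_⟩
    exact (h.residueFieldMap pt).hom.injective hw


end helpers

/-- If f : Y → X is completely decomposed (this prelude's Cyc.IsCompletelyDecomposed: over every point
of X lies a point of Y with trivial residue field extension) and g : X' → X is any morphism of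
schemes, then the base change Y ×_X X' → X' is completely decomposed. Consequently the base change
of an envelope (a proper completely decomposed morphism) is an envelope, properness being preserved
by base change. (The published envelope statement takes X′ → X between schemes locally of finite
type over a base; this row allows any g.) -/
theorem result (X X' Y : Scheme.{u}) (f : Y ⟶ X) (g : X' ⟶ X) (hcd : Cyc.IsCompletelyDecomposed f) : Cyc.IsCompletelyDecomposed (pullback.snd f g) := by
  exact main6484 X X' Y f g hcd

end Groth.Agent.S6484
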