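import Groth.Statements.S6485
import Mathlib

set_option autoImplicit false
universe u
open IntMult

namespace Groth.Agent.S6485

open MvPolynomial Matrix

theorem det_mem_supported {k : Type*} [CommRing k] {σ : Type*} {m : Type*} [Fintype m] [DecidableEq m]
    (S : Set σ) (N : Matrix m m (MvPolynomial σ k)) (h : ∀ i j, N i j ∈ supported k S) :
    N.det ∈ supported k S := by
  rw [Matrix.det_apply]
  refine Subalgebra.sum_mem _ fun τ _ => ?_
  rw [Units.smul_def]
  refine Subalgebra.zsmul_mem _ ?_ _
  exact Subalgebra.prod_mem _ fun i _ => h _ _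

theorem not_mem_vars_of_supported {k : Type*} [CommRing k] {σ : Type*} (S : Set σ) (f : MvPolynomial σ k)
    (hf : f ∈ supported k S) (s : σ) (hs : s ∉ S) : s ∉ f.vars := by
  intro h
  exact hs (mem_supported.1 hf (by exact_mod_cast h))

theorem main.{w} (k : Type u) [Field k] (n : ℕ) : ∀ (σ : Type w) (v : Fin (n+1) × Fin (n+1) → σ),
    Function.Injective v →
    Irreducible (Matrix.of (fun i j => (X (v (i, j)) : MvPolynomial σ k))).det := by
  induction n with
  | zero =>
    intro σ v hv
    rw [Matrix.det_fin_one]
    have := irreducible_mul_X_add (1 : MvPolynomial σ k) 0 (v (0,0)) one_ne_zero (by simp) (by simp)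
      isRelPrime_one_left
    simpa using this
  | succ n ih =>
    intro σ v hv
    classical
    set M : Matrix (Fin (n+2)) (Fin (n+2)) (MvPolynomial σ k) :=
      Matrix.of (fun i j => (X (v (i, j)) : MvPolynomial σ k)) with hM
    set A : MvPolynomial σ k := (M.submatrix Fin.succ Fin.succ).det with hA
    set B : MvPolynomial σ k := ∑ j : Fin (n+1), (-1) ^ ((j.succ : Fin (n+2)) : ℕ) * M 0 j.succ *
      det (M.submatrix Fin.succ (Fin.succ j).succAbove) with hB
    have hdet : M.det = A * X (v (0,0)) + B := by
      rw [Matrix.det_succ_row_zero, Fin.sum_univ_succ]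
      congr 1
      simp [hA, hM, mul_comm]
    have hAirr : Irreducible A := by
      have := ih σ (fun p => v (p.1.succ, p.2.succ)) (by
        intro p q h
        have := hv h
        simp only [Prod.mk.injEq, Fin.succ_inj] at this
        exact Prod.ext this.1 this.2)
      convert this using 2
      ext i j
      simp [hM]
    let S : Set σ := {s | s ≠ v (0,0)}
    have hentry : ∀ i j, (i, j) ≠ ((0 : Fin (n+2)), (0 : Fin (n+2))) → M i j ∈ supported k S := by
      intro i j hij
      simp only [hM, Matrix.of_apply]
      rw [X_mem_supported]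
      exact fun h => hij (hv h)
    have hAS : A ∈ supported k S := by
      apply det_mem_supported
      intro i j
      apply hentry
      simp [Fin.succ_ne_zero]
    have hBS : B ∈ supported k S := by
      refine Subalgebra.sum_mem _ fun j _ => ?_
      refine Subalgebra.mul_mem _ (Subalgebra.mul_mem _ ?_ ?_) ?_
      · exact Subalgebra.pow_mem _ (Subalgebra.neg_mem _ (Subalgebra.one_mem _)) _
      · apply hentry
        simp [Fin.succ_ne_zero]
      · apply det_mem_supported
        intro i j'
        apply hentry
        simp [Fin.succ_ne_zero]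
    have hv00 : v (0,0) ∉ S := by simp [S]
    rw [hdet]
    refine irreducible_mul_X_add A B (v (0,0)) hAirr.ne_zero
      (not_mem_vars_of_supported S A hAS _ hv00) (not_mem_vars_of_supported S B hBS _ hv00) ?_
    rw [hAirr.isRelPrime_iff_not_dvd]
    intro hdvd
    have hdvd' : A ∣ M.det := by
      rw [hdet]
      exact dvd_add (dvd_mul_right _ _) hdvd
    -- evaluation
    let P : Matrix (Fin (n+2)) (Fin (n+2)) k := (Equiv.swap (0 : Fin (n+2)) 1).permMatrix k
    let g : σ → k := fun s => if h : ∃ p, v p = s then P h.choose.1 h.choose.2 else 0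
    have hg : ∀ i j, g (v (i, j)) = P i j := by
      intro i j
      have h : ∃ p, v p = v (i, j) := ⟨_, rfl⟩
      have h2 : h.choose = (i, j) := hv h.choose_spec
      simp only [g, dif_pos h, h2]
    let φ : MvPolynomial σ k →+* k := MvPolynomial.eval g
    have hφM : φ.mapMatrix M = P := by
      ext i j
      simp [φ, hM, hg]
    have h1 : φ M.det = P.det := by
      rw [RingHom.map_det, hφM]
    have h2 : φ A = 0 := by
      rw [hA, RingHom.map_det]
      apply Matrix.det_eq_zero_of_row_eq_zero (0 : Fin (n+1))
      intro j
      simp only [RingHom.mapMatrix_apply, Matrix.map_apply, Matrix.submatrix_apply]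
      have : φ (M (Fin.succ 0) j.succ) = P (Fin.succ 0) j.succ := by
        rw [← hφM]; simp
      rw [this]
      simp only [P, Equiv.Perm.permMatrix, Equiv.toPEquiv_apply, PEquiv.toMatrix_apply]
      have h01 : (Equiv.swap (0 : Fin (n+2)) 1) (Fin.succ 0) = 0 := Equiv.swap_apply_right _ _
      rw [if_neg]
      simp only [Option.mem_def, Option.some.injEq, h01]
      exact fun h => Fin.succ_ne_zero j h.symm
    have h3 : P.det ≠ 0 := by
      simp only [P, Matrix.det_permutation]
      rw [Equiv.Perm.sign_swap (by simp [Fin.ext_iff])]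
      simp
    obtain ⟨c, hc⟩ := hdvd'
    apply h3
    rw [← h1, hc, map_mul, h2, zero_mul]

/-- Let k be a field and n ≥ 1. Then the determinant of the generic matrix (x_{ij})_{1 ≤ i, j ≤ n} is an
irreducible element of the polynomial ring k[x_{ij}] (Mathlib's Matrix.mvPolynomialX is the generic
matrix over MvPolynomial (Fin n × Fin n) k). -/
theorem result (k : Type u) [Field k] (n : ℕ) (hn : 1 ≤ n) : Irreducible (Matrix.mvPolynomialX (Fin n) (Fin n) k).det := by
  obtain ⟨m, rfl⟩ : ∃ m, n = m + 1 := ⟨n - 1, by omega⟩
  have := main k m (Fin (m+1) × Fin (m+1)) id Function.injective_id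
  convert this using 2
  ext i j
  simp [Matrix.mvPolynomialX_apply]

end Groth.Agent.S6485
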