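import Groth.Statements.S6500
import Groth.Agent.Lib.Helper14.LocalDimSch
import Groth.Agent.Lib.Helper3.SmoothRegSch
import Groth.Agent.Lib.Helper11.TorPD
import Groth.Agent.Lib.Lead.Hom3

set_option autoImplicit false
universe u
open CategoryTheory CategoryTheory.Limits AlgebraicGeometry
attribute [local instance] HasDerivedCategory.standard
open IntMult

namespace Groth.Agent.S6500

/-- Let X be a nonsingular variety of dimension n and F, G coherent O_X-modules. The Tor sheaves
Tor_p^{O_X}(F, G), whose stalks are Tor_p^{O_{X,x}}(F_x, G_x), are nonzero only for p ∈ {0, …, n}: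
for every point x and every p > n, Tor_p^{O_{X,x}}(F_x, G_x) = 0. (Coherence of the Tor sheaves and
the support statement are not restated.) Nonsingular variety: X → Spec K smooth, separated,
quasi-compact, X integral, K algebraically closed; n = dim X. -/
theorem result (K : Type u) [Field K] [IsAlgClosed K] (X : Scheme.{u}) (f : X ⟶ Spec (CommRingCat.of K)) [Smooth f] [IsSeparated f] [QuasiCompact f] [IsIntegral X] (n : ℕ) (hn : topologicalKrullDim X = n) (F G : X.Modules) (hF : Coh.IsCoh F) (hG : Coh.IsCoh G) (x : X) (p : ℕ) (hp : n < p) : Subsingleton (DRing.Tor ↑(X.presheaf.stalk x) p ↑(F.presheaf.stalk x) ↑(G.presheaf.stalk x)) := by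
  letI : X.Over (Spec (CommRingCat.of K)) := ⟨f⟩
  haveI : Smooth (X ↘ (Spec (CommRingCat.of K))) := ‹Smooth f›
  haveI hreg : IsRegularLocalRing (X.presheaf.stalk x) :=
    Groth.Agent.Helper3.SmoothRegSch.main K X x
  have hle : ringKrullDim (X.presheaf.stalk x) ≤ (n : WithBot ℕ∞) := by
    rw [← hn, Groth.Agent.Helper14.LocalDimSch.dim_eq_iSup_stalk]
    exact le_iSup (fun y : X => ringKrullDim (X.presheaf.stalk y)) x
  obtain ⟨d, hd⟩ : ∃ d : ℕ, ringKrullDim (X.presheaf.stalk x) = d := by
    have h0 : 0 ≤ ringKrullDim (X.presheaf.stalk x) := ringKrullDim_nonneg_of_nontrivial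
    generalize ringKrullDim (X.presheaf.stalk x) = y at h0 hle
    induction y using WithBot.recBotCoe with
    | bot => simp at h0
    | coe m =>
      induction m using ENat.recTopCoe with
      | top =>
        exfalso
        have : (⊤ : ℕ∞) ≤ (n : ℕ∞) := by exact_mod_cast hle
        simp at this
      | coe d => exact ⟨d, rfl⟩
  have hdn : d ≤ n := by
    rw [hd] at hle
    exact_mod_cast hle
  have hpd := Groth.Agent.Lead.Hom.hasProjectiveDimensionLT_of_isRegularLocalRing hd
    (ModuleCat.of (X.presheaf.stalk x) (F.presheaf.stalk x))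
  exact ModuleCat.subsingleton_of_isZero
    (Groth.Agent.Helper11.DC.isZero_tor_of_hasProjectiveDimensionLT d _ hpd p (by omega) _)

end Groth.Agent.S6500
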