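import Groth.Statements.S6501
import Mathlib

set_option autoImplicit false
universe u
open DPow

namespace Groth.Agent.S6501
open scoped TensorProduct

theorem incl_inj (A : Type u) [CommRing A] [IsAddTorsionFree A] :
    Function.Injective (Algebra.TensorProduct.includeRight : A →ₐ[ℤ] ℚ ⊗[ℤ] A) :=
  Algebra.TensorProduct.includeRight_injective (Int.cast_injective)


theorem cancel_fact {A : Type u} [CommRing A] [IsAddTorsionFree A] (n : ℕ) (hn : n ≠ 0) {a b : A}
    (h : (n : A) * a = n * b) : a = b := by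
  rw [← nsmul_eq_mul, ← nsmul_eq_mul] at h
  exact nsmul_right_injective hn h

theorem unique_dp {A : Type u} [CommRing A] [IsAddTorsionFree A] (I : Ideal A) :
    Subsingleton (DividedPowers I) := by
  refine ⟨fun h1 h2 => ?_⟩
  apply DividedPowers.ext
  intro n x hx
  apply cancel_fact (Nat.factorial n) (Nat.factorial_ne_zero n)
  rw [DividedPowers.factorial_mul_dpow_eq_pow h1 hx, DividedPowers.factorial_mul_dpow_eq_pow h2 hx]

/-- closure: every element of `I` has divided powers in `I`. -/
theorem exists_dp {A : Type u} [CommRing A] (I : Ideal A) (S : Set A) (hS : Ideal.span S = I)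
    (h : ∀ x ∈ S, ∀ n : ℕ, 1 ≤ n → x ^ n ∈ Ideal.span {(Nat.factorial n : A)} * I) :
    ∀ x ∈ I, ∀ n : ℕ, ∃ y : A, (n ≠ 0 → y ∈ I) ∧ (Nat.factorial n : A) * y = x ^ n := by
  intro x hx
  rw [← hS] at hx
  induction hx using Submodule.span_induction with
  | mem x hxS =>
    intro n
    rcases Nat.eq_zero_or_pos n with rfl | hn
    · exact ⟨1, by simp, by simp⟩
    · obtain ⟨y, hy, hyx⟩ := Ideal.mem_span_singleton_mul.1 (h x hxS n hn)
      exact ⟨y, fun _ => hy, hyx⟩
  | zero =>
    intro n
    rcases Nat.eq_zero_or_pos n with rfl | hn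
    · exact ⟨1, by simp, by simp⟩
    · exact ⟨0, fun _ => I.zero_mem, by simp [hn.ne']⟩
  | add x x' _ _ ihx ihx' =>
    intro n
    rcases Nat.eq_zero_or_pos n with rfl | hn
    · exact ⟨1, by simp, by simp⟩
    · rw [add_pow]
      suffices hsuff : ∃ y ∈ I, (Nat.factorial n : A) * y =
          ∑ m ∈ Finset.range (n + 1), x ^ m * x' ^ (n - m) * (n.choose m : A) by
        obtain ⟨y, hy, hyx⟩ := hsuff
        exact ⟨y, fun _ => hy, hyx⟩
      refine Finset.sum_induction _ (fun z => ∃ y ∈ I, (Nat.factorial n : A) * y = z) ?_ ?_ ?_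
      · rintro _ _ ⟨y, hy, rfl⟩ ⟨y', hy', rfl⟩
        exact ⟨y + y', I.add_mem hy hy', by ring⟩
      · exact ⟨0, I.zero_mem, by simp⟩
      · intro m hm
        have hmn : m ≤ n := Nat.lt_succ_iff.1 (Finset.mem_range.1 hm)
        obtain ⟨y, hy, hyx⟩ := ihx m
        obtain ⟨y', hy', hyx'⟩ := ihx' (n - m)
        refine ⟨y * y', ?_, ?_⟩
        · by_cases hm0 : m = 0
          · have : n - m ≠ 0 := by omega
            exact I.mul_mem_left _ (hy' this)
          · exact I.mul_mem_right _ (hy hm0)
        · rw [← hyx, ← hyx']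
          have := Nat.choose_mul_factorial_mul_factorial hmn
          have h2 : (Nat.factorial n : A) = (n.choose m : A) * (Nat.factorial m : A) * (Nat.factorial (n - m) : A) := by
            rw [← this]; push_cast; ring
          rw [h2]; ring
  | smul a x _ ihx =>
    intro n
    obtain ⟨y, hy, hyx⟩ := ihx n
    refine ⟨a ^ n * y, fun hn => I.mul_mem_left _ (hy hn), ?_⟩
    rw [smul_eq_mul, mul_pow, ← hyx]; ring

theorem exists_dividedPowers {A : Type u} [CommRing A] [IsAddTorsionFree A] (I : Ideal A)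
    (h : ∀ x ∈ I, ∀ n : ℕ, ∃ y : A, (n ≠ 0 → y ∈ I) ∧ (Nat.factorial n : A) * y = x ^ n) :
    Nonempty (DividedPowers I) := by
  classical
  let f : A →+* ℚ ⊗[ℤ] A := (Algebra.TensorProduct.includeRight : A →ₐ[ℤ] ℚ ⊗[ℤ] A).toRingHom
  have hf : Function.Injective f := incl_inj A
  let hJ : DividedPowers (I.map f) := DividedPowers.RatAlgebra.dividedPowers (I.map f)
  refine ⟨DividedPowers.ofInjective I (I.map f) f hf hJ rfl ?_⟩
  intro n x hx
  obtain ⟨y, hy, hyx⟩ := h x hx n
  refine ⟨y, hy, ?_⟩
  change f y = (DividedPowers.RatAlgebra.dividedPowers (I.map f)).dpow n (f x)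
  rw [DividedPowers.RatAlgebra.dpow_apply, if_pos (Ideal.mem_map_of_mem f hx)]
  rw [eq_comm, Ring.inverse_mul_eq_iff_eq_mul _ _ _ (IsUnit.natCast_factorial_of_algebra ℚ n)]
  rw [← map_pow, ← hyx, map_mul, map_natCast]

theorem main {A : Type u} [CommRing A] [IsAddTorsionFree A] (I : Ideal A) :
    Subsingleton (DividedPowers I) ∧
    (Nonempty (DividedPowers I) ↔ ∃ S : Set A, Ideal.span S = I ∧
      ∀ x ∈ S, ∀ n : ℕ, 1 ≤ n → x ^ n ∈ Ideal.span {(Nat.factorial n : A)} * I) := by
  refine ⟨unique_dp I, ⟨?_, ?_⟩⟩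
  · rintro ⟨hI⟩
    refine ⟨(I : Set A), Ideal.span_eq I, fun x hx n hn => ?_⟩
    rw [← DividedPowers.factorial_mul_dpow_eq_pow hI hx]
    exact Ideal.mul_mem_mul (Ideal.mem_span_singleton_self _) (hI.dpow_mem (by omega) hx)
  · rintro ⟨S, hS, h⟩
    exact exists_dividedPowers I (exists_dp I S hS h)



/-- Let A be a commutative ring whose additive group is torsion free and I an ideal of A. Then I carries
at most one divided power structure, and it carries one if and only if I is generated by a set S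
such that for every x in S and every n ≥ 1 the power x^n lies in the ideal generated by the products
of n! with elements of I. -/
theorem result {A : Type u} [CommRing A] [IsAddTorsionFree A] (I : Ideal A) :
    Subsingleton (DividedPowers I) ∧
    (Nonempty (DividedPowers I) ↔ ∃ S : Set A, Ideal.span S = I ∧
      ∀ x ∈ S, ∀ n : ℕ, 1 ≤ n → x ^ n ∈ Ideal.span {(Nat.factorial n : A)} * I) := by
  exact main I

end Groth.Agent.S6501
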