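import Groth.Statements.S6503
import Mathlib
import Groth.Prelude.Def_Found
import Groth.Agent.Lib.Helper2.DiagPerf4
import Groth.Agent.Lib.Helper5.SmLoc1
import Groth.Agent.Lib.Helper2.GeomRegSmooth
-- import your own Groth.Agent.* helpers here

set_option autoImplicit false
universe u
open TensorProduct
open LCI

namespace Groth.Agent.S6503

section

open CategoryTheory TensorProduct

theorem main {A B : Type u} [CommRing A] [CommRing B]
    [Algebra A B] [IsNoetherianRing A] [IsNoetherianRing B] [IsLocalRing A] [IsLocalRing B]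
    [IsLocalHom (algebraMap A B)] [Module.Flat A B] [Algebra.EssFiniteType A B]
    [Algebra (B ⊗[A] B) B]
    (hmul : ∀ x y : B, algebraMap (B ⊗[A] B) B (x ⊗ₜ[A] y) = x * y)
    (h : DRing.HasFiniteTorDim (B ⊗[A] B) B) :
    ∃ (C : Type u) (_ : CommRing C) (_ : Algebra A C) (_ : Algebra C B) (_ : IsScalarTower A C B)
      (q : Ideal C) (_ : q.IsPrime), Algebra.Smooth A C ∧ IsLocalization.AtPrime B q := by
  obtain ⟨d, hd⟩ := h
  haveI : IsNoetherianRing (B ⊗[A] B) := Algebra.EssFiniteType.isNoetherianRing B _
  haveI : Module.Finite (B ⊗[A] B) B :=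
    Module.Finite.of_surjective (Algebra.linearMap (B ⊗[A] B) B) (fun b => ⟨b ⊗ₜ 1, by
      rw [Algebra.linearMap_apply, hmul, mul_one]⟩)
  have hpd := Groth.Agent.Helper2.DiagPerf.pdLT_of_hasTorDimLE (R := B ⊗[A] B) B d hd
  have hgr : CAlg.IsGeometricallyRegular (IsLocalRing.ResidueField A)
      (IsLocalRing.ResidueField A ⊗[A] B) := by
    intro k' _ _ hfin
    letI : Algebra A k' :=
      ((algebraMap (IsLocalRing.ResidueField A) k').comp
        (algebraMap A (IsLocalRing.ResidueField A))).toAlgebra
    haveI : IsScalarTower A (IsLocalRing.ResidueField A) k' := IsScalarTower.of_algebraMap_eq' rfl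
    let e : k' ⊗[IsLocalRing.ResidueField A] (IsLocalRing.ResidueField A ⊗[A] B) ≃ₐ[k'] k' ⊗[A] B :=
      Algebra.TensorProduct.cancelBaseChange A (IsLocalRing.ResidueField A) k' k' B
    haveI : IsNoetherianRing (k' ⊗[A] B) := Algebra.EssFiniteType.isNoetherianRing k' _
    haveI : IsRegularRing (k' ⊗[A] B) :=
      isRegularRing_iff.mpr (fun n _ =>
        Groth.Agent.Helper2.DiagPerf.isRegularLocalRing_atPrime hmul n d hpd)
    exact IsRegularRing.of_ringEquiv e.symm.toRingEquiv
  haveI : Algebra.FormallySmooth (IsLocalRing.ResidueField A)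
      (IsLocalRing.ResidueField A ⊗[A] B) :=
    Groth.Agent.Helper2.GeomRegSmooth.formallySmooth_of_isGeometricallyRegular _ _ hgr
  haveI : Algebra.FinitePresentation A (Algebra.EssFiniteType.subalgebra A B) :=
    Algebra.FinitePresentation.of_finiteType.mp inferInstance
  haveI : Algebra.FormallySmooth A B :=
    Algebra.FormallySmooth.of_formallySmooth_residueField_tensor (R := A) (S := B)
      (P := Algebra.EssFiniteType.subalgebra A B) (Algebra.EssFiniteType.submonoid A B)
  exact Groth.Agent.Helper5.SmLoc.exists_smooth_localization A B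

end

/-- Suppose A and B are Noetherian local rings and A → B is a local homomorphism making B a flat
A-algebra that is essentially of finite type, and regard B as an algebra over B ⊗_A B via the
multiplication map. If B has finite Tor-dimension over B ⊗_A B (the diagonal is a perfect ring map),
then there are a smooth A-algebra C and a prime ideal q of C such that B is an A-algebra
localization of C at q. -/
theorem result {A B : Type u} [CommRing A] [CommRing B]
    [Algebra A B] [IsNoetherianRing A] [IsNoetherianRing B] [IsLocalRing A] [IsLocalRing B]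
    [IsLocalHom (algebraMap A B)] [Module.Flat A B] [Algebra.EssFiniteType A B]
    [Algebra (B ⊗[A] B) B]
    (hmul : ∀ x y : B, algebraMap (B ⊗[A] B) B (x ⊗ₜ[A] y) = x * y)
    (h : DRing.HasFiniteTorDim (B ⊗[A] B) B) :
    ∃ (C : Type u) (_ : CommRing C) (_ : Algebra A C) (_ : Algebra C B) (_ : IsScalarTower A C B)
      (q : Ideal C) (_ : q.IsPrime), Algebra.Smooth A C ∧ IsLocalization.AtPrime B q := by
  exact Groth.Agent.S6503.main hmul h

end Groth.Agent.S6503
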