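import Groth.Statements.S6504
import Mathlib

set_option autoImplicit false
universe u
open CategoryTheory
open Hyper

namespace Groth.Agent.S6504
section helpers
open Opposite
set_option linter.unusedSectionVars false
open CategoryTheory CategoryTheory.Limits Opposite
variable {C : Type u} [SmallCategory C]

noncomputable abbrev F := (FormalCoproduct.yoneda : FormalCoproduct.{u} C ⥤ Cᵒᵖ ⥤ Type u)

/-- canonical element of `F (incl U)` at `U`. -/
noncomputable def e (U : C) : ((F (C := C)).obj ((FormalCoproduct.incl C).obj U)).obj (op U) :=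
  (Sigma.ι (fun _ : PUnit => yoneda.obj U) PUnit.unit).app (op U) (𝟙 U)

/-- the element of `F L` at `U` attached to `c : incl U ⟶ L`. -/
noncomputable def el {U : C} {L : FormalCoproduct.{u} C} (c : (FormalCoproduct.incl C).obj U ⟶ L) :
    ((F (C := C)).obj L).obj (op U) :=
  ((F (C := C)).map c).app (op U) (e U)

lemma el_comp {U : C} {K L : FormalCoproduct.{u} C} (c : (FormalCoproduct.incl C).obj U ⟶ K)
    (f : K ⟶ L) : el (c ≫ f) = ((F (C := C)).map f).app (op U) (el c) := by
  dsimp only [el]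
  rw [Functor.map_comp]
  rfl

lemma F_map_ι {K L : FormalCoproduct.{u} C} (f : K ⟶ L) (i : K.I) :
    Sigma.ι (fun i => yoneda.obj (K.obj i)) i ≫ (F (C := C)).map f =
      yoneda.map (f.φ i) ≫ Sigma.ι (fun j => yoneda.obj (L.obj j)) (f.f i) := by
  exact Sigma.ι_desc _ _


lemma sigma_jointly_surj {I : Type u} (f : I → Cᵒᵖ ⥤ Type u) (V : Cᵒᵖ) (x : (∐ f).obj V) :
    ∃ (i : I) (y : (f i).obj V), (Sigma.ι f i).app V y = x := by
  have h := isColimitOfPreserves ((evaluation Cᵒᵖ (Type u)).obj V)
    (colimit.isColimit (Discrete.functor f))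
  obtain ⟨⟨i⟩, y, hy⟩ := Types.jointly_surjective_of_isColimit h x
  exact ⟨i, y, hy⟩

lemma el_fromIncl {U : C} {L : FormalCoproduct.{u} C} (j : L.I) (u : U ⟶ L.obj j) :
    el (FormalCoproduct.Hom.fromIncl j u) =
      (Sigma.ι (fun j => yoneda.obj (L.obj j)) j).app (op U) u := by
  dsimp only [el, e]
  have h := F_map_ι (FormalCoproduct.Hom.fromIncl j u) PUnit.unit
  have h2 : ((Sigma.ι (fun i => yoneda.obj (((FormalCoproduct.incl C).obj U).obj i)) PUnit.unit ≫
      (F (C := C)).map (FormalCoproduct.Hom.fromIncl j u)).app (op U)) (𝟙 U) =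
      ((yoneda.map ((FormalCoproduct.Hom.fromIncl j u).φ PUnit.unit) ≫
        Sigma.ι (fun j => yoneda.obj (L.obj j))
          ((FormalCoproduct.Hom.fromIncl j u).f PUnit.unit)).app (op U)) (𝟙 U) :=
    congrArg (fun t : _ ⟶ _ => (ConcreteCategory.hom (t.app (op U))) (𝟙 U)) h
  simp only [NatTrans.comp_app, types_comp_apply] at h2
  refine h2.trans ?_
  change (Sigma.ι (fun j => yoneda.obj (L.obj j)) j).app (op U) (𝟙 U ≫ u) = _
  rw [Category.id_comp]

lemma el_surj {U : C} {L : FormalCoproduct.{u} C} (x : ((F (C := C)).obj L).obj (op U)) :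
    ∃ c : (FormalCoproduct.incl C).obj U ⟶ L, el c = x := by
  obtain ⟨j, u, rfl⟩ := sigma_jointly_surj (fun j => yoneda.obj (L.obj j)) (op U) x
  exact ⟨FormalCoproduct.Hom.fromIncl j u, el_fromIncl j u⟩

lemma e_restrict {U V : C} (g : V ⟶ U) :
    ((F (C := C)).obj ((FormalCoproduct.incl C).obj U)).map g.op (e U) =
      el ((FormalCoproduct.incl C).map g) := by
  have h1 : (FormalCoproduct.incl C).map g = FormalCoproduct.Hom.fromIncl
      (Y := (FormalCoproduct.incl C).obj U) PUnit.unit g := rfl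
  rw [h1, el_fromIncl]
  dsimp only [e]
  have := NatTrans.naturality_apply (Sigma.ι (fun _ : PUnit => yoneda.obj U) PUnit.unit) g.op (𝟙 U)
  refine this.symm.trans ?_
  simp
  rfl

lemma el_restrict {U V : C} {L : FormalCoproduct.{u} C} (g : V ⟶ U)
    (c : (FormalCoproduct.incl C).obj U ⟶ L) :
    ((F (C := C)).obj L).map g.op (el c) = el ((FormalCoproduct.incl C).map g ≫ c) := by
  rw [el_comp, ← e_restrict]
  dsimp only [el]
  exact (NatTrans.naturality_apply ((F (C := C)).map c) g.op (e U)).symm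


/-- the sieve of `g : V ⟶ U` such that `incl g ≫ c` lifts through `f`. -/
def liftSieve {K L : FormalCoproduct.{u} C} (f : K ⟶ L) {U : C}
    (c : (FormalCoproduct.incl C).obj U ⟶ L) : Sieve U where
  arrows V g := ∃ d : (FormalCoproduct.incl C).obj V ⟶ K, d ≫ f = (FormalCoproduct.incl C).map g ≫ c
  downward_closed := by
    rintro V W g ⟨d, hd⟩ h
    exact ⟨(FormalCoproduct.incl C).map h ≫ d, by
      rw [Category.assoc, hd, Functor.map_comp, Category.assoc]⟩

lemma liftSieve_mem (J : GrothendieckTopology C) {K L : FormalCoproduct.{u} C} (f : K ⟶ L)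
    (hf : Hyper.IsSRCovering J f) {U : C} (c : (FormalCoproduct.incl C).obj U ⟶ L) :
    liftSieve f c ∈ J U := by
  obtain ⟨j, u, rfl⟩ : ∃ (j : L.I) (u : U ⟶ L.obj j), FormalCoproduct.Hom.fromIncl j u = c :=
    ⟨_, _, FormalCoproduct.Hom.fromIncl_asSigma c⟩
  refine J.superset_covering ?_ (J.pullback_stable u (hf j))
  intro V g hg
  rw [Sieve.pullback_apply, Sieve.mem_ofArrows_iff] at hg
  obtain ⟨⟨i, hi⟩, a, ha⟩ := hg
  subst hi
  refine ⟨FormalCoproduct.Hom.fromIncl i a, ?_⟩
  dsimp at ha
  rw [Category.comp_id] at ha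
  change (⟨fun _ => f.f i, fun _ => a ≫ f.φ i⟩ :
    FormalCoproduct.Hom ((FormalCoproduct.incl C).obj V) L) = ⟨fun _ => f.f i, fun _ => g ≫ u⟩
  have ha' : (fun _ : PUnit => g ≫ u) = (fun _ : PUnit => a ≫ f.φ i) := funext fun _ => ha
  exact congrArg (fun φ : PUnit → (V ⟶ L.obj (f.f i)) =>
    (⟨fun _ => f.f i, φ⟩ : FormalCoproduct.Hom ((FormalCoproduct.incl C).obj V) L)) ha'.symm


lemma locSurj_of_srCovering (J : GrothendieckTopology C) {K L : FormalCoproduct.{u} C} (f : K ⟶ L)
    (hf : Hyper.IsSRCovering J f) : Presheaf.IsLocallySurjective J ((F (C := C)).map f) := by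
  constructor
  intro U s
  obtain ⟨c, rfl⟩ := el_surj s
  refine J.superset_covering ?_ (liftSieve_mem J f hf c)
  rintro V g ⟨d, hd⟩
  exact ⟨el d, by rw [← el_comp, hd, el_restrict]⟩


lemma subsingleton_terminal (V : Cᵒᵖ) : Subsingleton ((⊤_ (Cᵒᵖ ⥤ Type u)).obj V) := by
  have h1 : IsTerminal (((evaluation Cᵒᵖ (Type u)).obj V).obj (⊤_ (Cᵒᵖ ⥤ Type u))) :=
    IsTerminal.isTerminalObj _ _ terminalIsTerminal
  have : Unique (((evaluation Cᵒᵖ (Type u)).obj V).obj (⊤_ (Cᵒᵖ ⥤ Type u))) :=
    Types.isTerminalEquivUnique _ h1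
  exact inferInstanceAs (Subsingleton (((evaluation Cᵒᵖ (Type u)).obj V).obj (⊤_ (Cᵒᵖ ⥤ Type u))))

lemma part1 (J : GrothendieckTopology C) (X : C) (K₀ : FormalCoproduct.{u} (Over X))
    (h : Sieve.ofArrows (fun i => (K₀.obj i).left) (fun i => (K₀.obj i).hom) ∈ J X) :
    Presheaf.IsLocallySurjective (J.over X) (terminal.from ((F (C := Over X)).obj K₀)) := by
  constructor
  intro U s
  rw [GrothendieckTopology.mem_over_iff]
  refine J.superset_covering ?_ (J.pullback_stable U.hom h)
  intro W g hg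
  rw [Sieve.pullback_apply, Sieve.mem_ofArrows_iff] at hg
  obtain ⟨i, a, ha⟩ := hg
  rw [Sieve.overEquiv_iff]
  refine ⟨el (FormalCoproduct.Hom.fromIncl i
    (Over.homMk a ha.symm : Over.mk (g ≫ U.hom) ⟶ K₀.obj i)), ?_⟩
  exact (subsingleton_terminal _).elim _ _


section Fin
variable (n : ℕ) (Y : SimplexCategoryᵒᵖ)

instance finite_SA : Finite (StructuredArrow Y (SimplexCategory.Truncated.inclusion n).op) := by
  let f : (Σ (k : Fin (n + 1)), (SimplexCategory.mk k ⟶ Y.unop)) →
      StructuredArrow Y (SimplexCategory.Truncated.inclusion n).op :=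
    fun p => StructuredArrow.mk
      (Y := (op ⟨SimplexCategory.mk p.1, Nat.le_of_lt_succ p.1.2⟩ : (SimplexCategory.Truncated n)ᵒᵖ))
      p.2.op
  apply Finite.of_surjective f
  intro x
  refine ⟨⟨⟨x.right.unop.obj.len, Nat.lt_succ_of_le x.right.unop.property⟩, x.hom.unop⟩, ?_⟩
  exact (StructuredArrow.eq_mk x).symm

instance finite_SA_hom (x y : StructuredArrow Y (SimplexCategory.Truncated.inclusion n).op) :
    Finite (x ⟶ y) := by
  have h1 : Finite (x.right ⟶ y.right) := by
    have h2 : Finite (y.right.unop ⟶ x.right.unop) := by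
      apply Finite.of_injective (fun f : y.right.unop ⟶ x.right.unop => f.hom)
      intro f g h
      exact ObjectProperty.hom_ext _ h
    exact Finite.of_injective (fun f : x.right ⟶ y.right => f.unop) (fun f g h => Quiver.Hom.unop_inj h)
  exact @Finite.of_injective _ _ h1 (fun f : x ⟶ y => (StructuredArrow.proj _ _).map f)
    (fun f g h => (StructuredArrow.proj _ _).map_injective h)

noncomputable instance finCat_SA :
    FinCategory (StructuredArrow Y (SimplexCategory.Truncated.inclusion n).op) where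
  fintypeObj := Fintype.ofFinite _
  fintypeHom _ _ := Fintype.ofFinite _

end Fin

instance pointwiseR {A : Type*} [Category A] [HasFiniteLimits A] (n : ℕ)
    (G : (SimplexCategory.Truncated n)ᵒᵖ ⥤ A) :
    (SimplexCategory.Truncated.inclusion n).op.HasPointwiseRightKanExtension G := by
  intro Y
  dsimp only [Functor.HasPointwiseRightKanExtensionAt]
  infer_instance


open SimplexCategory

section weak
variable {A : Type*} [Category A] [HasFiniteLimits A]
  (G : (SimplexCategory.Truncated 0)ᵒᵖ ⥤ A) (R : SimplexCategoryᵒᵖ ⥤ A)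
  (ε : (SimplexCategory.Truncated.inclusion 0).op ⋙ R ⟶ G) [R.IsRightKanExtension ε]

/-- the object `[0]` of the `0`-truncated simplex category (opposite). -/
abbrev Z0 : (SimplexCategory.Truncated 0)ᵒᵖ := op ⟨SimplexCategory.mk 0, le_rfl⟩

/-- the unique map `Z0 ⟶ X₀`. -/
noncomputable def tZ (X₀ : (SimplexCategory.Truncated 0)ᵒᵖ) : Z0 ⟶ X₀ :=
  (ObjectProperty.homMk (SimplexCategory.isTerminalZero.from X₀.unop.obj) :
    X₀.unop ⟶ (⟨SimplexCategory.mk 0, le_rfl⟩ : SimplexCategory.Truncated 0)).op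

lemma tZ_comp {X₀ X₁ : (SimplexCategory.Truncated 0)ᵒᵖ} (φ : X₀ ⟶ X₁) : tZ X₀ ≫ φ = tZ X₁ := by
  apply Quiver.Hom.unop_inj
  apply ObjectProperty.hom_ext
  exact SimplexCategory.isTerminalZero.hom_ext _ _

lemma tZ_self : tZ Z0 = 𝟙 _ := by
  apply Quiver.Hom.unop_inj
  apply ObjectProperty.hom_ext
  exact SimplexCategory.isTerminalZero.hom_ext _ _

/-- whether a structured arrow `[1]ᵒᵖ ⟶ X₀` picks out the vertex `0`. -/
def hit0 (j : StructuredArrow (op (SimplexCategory.mk 1)) (SimplexCategory.Truncated.inclusion 0).op) :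
    Prop :=
  j.hom.unop.toOrderHom 0 = 0

lemma hit0_iff {j j' : StructuredArrow (op (SimplexCategory.mk 1))
    (SimplexCategory.Truncated.inclusion 0).op} (φ : j ⟶ j') : hit0 j' ↔ hit0 j := by
  have hw := StructuredArrow.w φ
  have h2 : j'.hom.unop = ((SimplexCategory.Truncated.inclusion 0).op.map φ.right).unop ≫ j.hom.unop := by
    rw [← hw]; rfl
  dsimp only [hit0]
  rw [h2]
  have h3 : (((SimplexCategory.Truncated.inclusion 0).op.map φ.right).unop).toOrderHom 0 = 0 := by
    have := j.right.unop.property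
    apply Fin.ext
    have h4 := (((SimplexCategory.Truncated.inclusion 0).op.map φ.right).unop.toOrderHom 0).2
    change _ < j.right.unop.obj.len + 1 at h4
    simp only [Fin.val_zero]
    omega
  rw [SimplexCategory.comp_toOrderHom, OrderHom.comp_coe, Function.comp_apply, h3]

open Classical in
/-- the cone with apex `T` attached to a pair `a b : T ⟶ G.obj Z0`. -/
noncomputable def pairCone {T : A} (a b : T ⟶ G.obj Z0) :
    Cone (StructuredArrow.proj (op (SimplexCategory.mk 1)) (SimplexCategory.Truncated.inclusion 0).op ⋙ G) where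
  pt := T
  π :=
    { app := fun j => (if hit0 j then a else b) ≫ G.map (tZ j.right)
      naturality := fun j j' φ => by
        have key : G.map (tZ j.right) ≫ G.map φ.right = G.map (tZ j'.right) := by
          rw [← G.map_comp, tZ_comp]
        change 𝟙 T ≫ ((if hit0 j' then a else b) ≫ G.map (tZ j'.right)) =
          ((if hit0 j then a else b) ≫ G.map (tZ j.right)) ≫ G.map φ.right
        rw [Category.id_comp, Category.assoc, key]
        by_cases h : hit0 j
        · rw [if_pos h, if_pos ((hit0_iff φ).2 h)]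
        · rw [if_neg h, if_neg (fun h' => h ((hit0_iff φ).1 h'))] }

open Classical in
include ε in
lemma weak_univ {T : A} (a b : T ⟶ G.obj Z0) :
    ∃ c : T ⟶ R.obj (op (SimplexCategory.mk 1)),
      c ≫ R.map (SimplexCategory.δ (1 : Fin 2)).op ≫ ε.app Z0 = a ∧
      c ≫ R.map (SimplexCategory.δ (0 : Fin 2)).op ≫ ε.app Z0 = b := by
  have hl : IsLimit ((Functor.RightExtension.mk R ε).coneAt (op (SimplexCategory.mk 1))) :=
    Functor.isPointwiseRightKanExtensionOfIsRightKanExtension R ε (op (SimplexCategory.mk 1))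
  refine ⟨hl.lift (pairCone G a b), ?_, ?_⟩
  · have := hl.fac (pairCone G a b)
      (StructuredArrow.mk (Y := Z0) (SimplexCategory.δ (1 : Fin 2)).op)
    refine Eq.trans this ?_
    change (if hit0 (StructuredArrow.mk (Y := Z0) (SimplexCategory.δ (1 : Fin 2)).op) then a else b) ≫
      G.map (tZ Z0) = a
    rw [tZ_self, G.map_id, Category.comp_id, if_pos]
    rfl
  · have := hl.fac (pairCone G a b)
      (StructuredArrow.mk (Y := Z0) (SimplexCategory.δ (0 : Fin 2)).op)
    refine Eq.trans this ?_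
    change (if hit0 (StructuredArrow.mk (Y := Z0) (SimplexCategory.δ (0 : Fin 2)).op) then a else b) ≫
      G.map (tZ Z0) = b
    rw [tZ_self, G.map_id, Category.comp_id, if_neg]
    intro h
    have : (SimplexCategory.δ (0 : Fin 2)).toOrderHom 0 = 0 := h
    simp [SimplexCategory.δ] at this

end weak


lemma prod_ext {P Q : Cᵒᵖ ⥤ Type u} {X : C} (x y : (P ⨯ Q).obj (op X))
    (h1 : (prod.fst : P ⨯ Q ⟶ P).app _ x = (prod.fst : P ⨯ Q ⟶ P).app _ y)
    (h2 : (prod.snd : P ⨯ Q ⟶ Q).app _ x = (prod.snd : P ⨯ Q ⟶ Q).app _ y) : x = y := by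
  apply yonedaEquiv.symm.injective
  apply Limits.prod.hom_ext
  · apply yonedaEquiv.injective
    rw [yonedaEquiv_comp, yonedaEquiv_comp, Equiv.apply_symm_apply, Equiv.apply_symm_apply]
    exact h1
  · apply yonedaEquiv.injective
    rw [yonedaEquiv_comp, yonedaEquiv_comp, Equiv.apply_symm_apply, Equiv.apply_symm_apply]
    exact h2


section part2
variable [HasPullbacks C] (J : GrothendieckTopology C) (X : C)
  (K : SimplicialObject (FormalCoproduct.{u} (Over X)))
  [∀ (n : ℕ) (F : (SimplexCategory.Truncated n)ᵒᵖ ⥤ FormalCoproduct.{u} (Over X)),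
      (SimplexCategory.Truncated.inclusion n).op.HasRightKanExtension F]

instance : HasFiniteLimits (FormalCoproduct.{u} (Over X)) :=
  hasFiniteLimits_of_hasTerminal_and_pullbacks

/-- the two projections `(cosk₀ K)₁ ⟶ K₀`. -/
noncomputable def pk (k : Fin 2) : ((SimplicialObject.cosk 0).obj K).obj (op (SimplexCategory.mk 1)) ⟶
    K.obj (op (SimplexCategory.mk 0)) :=
  ((SimplicialObject.cosk 0).obj K).map (SimplexCategory.δ k).op ≫
    ((SimplicialObject.coskAdj 0).counit.app ((SimplicialObject.truncation 0).obj K)).app Z0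

lemma unit_pk (k : Fin 2) :
    ((SimplicialObject.coskAdj 0).unit.app K).app (op (SimplexCategory.mk 1)) ≫ pk X K k =
      K.δ k := by
  let R := (SimplicialObject.cosk 0).obj K
  let η₁ : K.obj (op (SimplexCategory.mk 1)) ⟶ R.obj (op (SimplexCategory.mk 1)) :=
    ((SimplicialObject.coskAdj 0).unit.app K).app (op (SimplexCategory.mk 1))
  let η₀ : K.obj (op (SimplexCategory.mk 0)) ⟶ R.obj (op (SimplexCategory.mk 0)) :=
    ((SimplicialObject.coskAdj 0).unit.app K).app (op (SimplexCategory.mk 0))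
  let ε₀ : R.obj (op (SimplexCategory.mk 0)) ⟶ K.obj (op (SimplexCategory.mk 0)) :=
    ((SimplicialObject.coskAdj 0).counit.app ((SimplicialObject.truncation 0).obj K)).app Z0
  have nat : K.map (SimplexCategory.δ k).op ≫ η₀ = η₁ ≫ R.map (SimplexCategory.δ k).op :=
    ((SimplicialObject.coskAdj 0).unit.app K).naturality (SimplexCategory.δ k).op
  have tri : η₀ ≫ ε₀ = 𝟙 _ := congrArg (fun t => t.app Z0)
    ((SimplicialObject.coskAdj (C := FormalCoproduct.{u} (Over X)) 0).left_triangle_components K)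
  change η₁ ≫ R.map (SimplexCategory.δ k).op ≫ ε₀ = K.map (SimplexCategory.δ k).op
  rw [← Category.assoc, ← nat, Category.assoc, tri, Category.comp_id]

lemma weak_univ_K {T : FormalCoproduct.{u} (Over X)} (a b : T ⟶ K.obj (op (SimplexCategory.mk 0))) :
    ∃ c : T ⟶ ((SimplicialObject.cosk 0).obj K).obj (op (SimplexCategory.mk 1)),
      c ≫ pk X K 1 = a ∧ c ≫ pk X K 0 = b :=
  weak_univ ((SimplicialObject.truncation 0).obj K) ((SimplicialObject.cosk 0).obj K)
    ((SimplicialObject.coskAdj 0).counit.app ((SimplicialObject.truncation 0).obj K)) a b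

lemma part2 (h0 : Hyper.IsSRCovering (J.over X)
      (((SimplicialObject.coskAdj 0).unit.app K).app (op (SimplexCategory.mk (0 + 1))))) :
    Presheaf.IsLocallySurjective (J.over X)
      (prod.lift ((F (C := Over X)).map (K.δ (1 : Fin 2))) ((F (C := Over X)).map (K.δ (0 : Fin 2)))) := by
  constructor
  intro U s
  obtain ⟨a, ha⟩ := el_surj ((prod.fst : (F (C := Over X)).obj _ ⨯ (F (C := Over X)).obj _ ⟶ _).app _ s)
  obtain ⟨b, hb⟩ := el_surj ((prod.snd : (F (C := Over X)).obj _ ⨯ (F (C := Over X)).obj _ ⟶ _).app _ s)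
  obtain ⟨c, hc1, hc0⟩ := weak_univ_K X K a b
  refine (J.over X).superset_covering ?_ (liftSieve_mem (J.over X) _ h0 c)
  rintro V g ⟨d, hd⟩
  refine ⟨el d, ?_⟩
  apply prod_ext
  · have e1 : (prod.fst : (F (C := Over X)).obj _ ⨯ (F (C := Over X)).obj _ ⟶ _).app (op V)
        ((prod.lift ((F (C := Over X)).map (K.δ (1 : Fin 2)))
          ((F (C := Over X)).map (K.δ (0 : Fin 2)))).app (op V) (el d)) =
        ((F (C := Over X)).map (K.δ (1 : Fin 2))).app (op V) (el d) := by
      rw [← NatTrans.comp_app_apply, prod.lift_fst]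
    rw [e1, ← el_comp, ← unit_pk X K 1, ← Category.assoc, hd, Category.assoc, hc1, ← el_restrict, ha]
    exact (NatTrans.naturality_apply _ _ _).symm
  · have e1 : (prod.snd : (F (C := Over X)).obj _ ⨯ (F (C := Over X)).obj _ ⟶ _).app (op V)
        ((prod.lift ((F (C := Over X)).map (K.δ (1 : Fin 2)))
          ((F (C := Over X)).map (K.δ (0 : Fin 2)))).app (op V) (el d)) =
        ((F (C := Over X)).map (K.δ (0 : Fin 2))).app (op V) (el d) := by
      rw [← NatTrans.comp_app_apply, prod.lift_snd]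
    rw [e1, ← el_comp, ← unit_pk X K 0, ← Category.assoc, hd, Category.assoc, hc0, ← el_restrict, hb]
    exact (NatTrans.naturality_apply _ _ _).symm

theorem main6504 (hK : Hyper.IsHypercovering J X K) : Hyper.IsHypercoveringSite (J.over X) K :=
  ⟨part1 J X _ hK.1, part2 J X K (hK.2 0), fun n _ => locSurj_of_srCovering _ _ (hK.2 n)⟩

end part2


end helpers

open Opposite CategoryTheory.Limits in
/-- Read on the localized site C/X (so that the represented presheaf h_X is the final object and fibre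
products over h_X are products): let C be a small site with fibre products and K a hypercovering of
an object X. Then the associated simplicial presheaf F(K) on C/X satisfies: F(K_0) → * is locally
surjective, F(K_1) → F(K_0) × F(K_0) (the two face maps) is locally surjective, and for every n ≥ 1
the map F(K_{n+1}) → F((cosk_n sk_n K)_{n+1}) is locally surjective; that is, K is a hypercovering
of the final object of the topos of C/X in Verdier's sense. -/
theorem result {C : Type u} [SmallCategory C] [HasPullbacks C]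
    (J : GrothendieckTopology C) (X : C) (K : SimplicialObject (FormalCoproduct.{u} (Over X)))
    [∀ (n : ℕ) (F : (SimplexCategory.Truncated n)ᵒᵖ ⥤ FormalCoproduct.{u} (Over X)),
      (SimplexCategory.Truncated.inclusion n).op.HasRightKanExtension F]
    (hK : Hyper.IsHypercovering J X K) : Hyper.IsHypercoveringSite (J.over X) K := by
  exact main6504 J X K hK

end Groth.Agent.S6504
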