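import Groth.Statements.S6519
import Mathlib
import Groth.Agent.Lib.Helper9.SuppD
import Groth.Agent.Lib.Helper5.PRF3

set_option autoImplicit false
universe u
open CategoryTheory
attribute [local instance] HasDerivedCategory.standard
open DCoh

namespace Groth.Agent.S6519

open AlgebraicGeometry in
/-- Let j : U → X be the inclusion of an open subscheme, and let T ⊆ U be a closed subset whose image
j(T) is also closed in X. Suppose E in D(O_U) is perfect and every cohomology sheaf of E has support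
contained in T. In that case the derived pushforward Rj_*E is perfect as an object of D(O_X). (The
published statement is for ringed spaces; this row is for schemes.) -/
theorem result {X : Scheme.{u}} (U : X.Opens) [DCoh.HasRpush U.ι]
    (E : DCoh.D (U : Scheme.{u})) (hE : DCoh.IsPerfect E) (T : Set (U : Scheme.{u}))
    (hT : IsClosed T) (hjT : IsClosed ((fun x : (U : Scheme.{u}) => U.ι.base x) '' T))
    (hsupp : ∀ i : ℤ, CohB1.support (DCoh.HD E i) ⊆ T) :
    DCoh.IsPerfect ((DCoh.Rpush U.ι).obj E) := by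
  rw [Groth.Agent.Helper5.PRF.isPerfect_iff_forall_perfAt]
  intro x
  by_cases hx : x ∈ U
  · obtain ⟨e⟩ := Groth.Agent.Helper9.SuppD.nonempty_restrictD_Rpush_iso U.ι E
    have h1 : Groth.Agent.Helper5.PRF.PerfAt
        ((DCoh.restrictD U.ι).obj ((DCoh.Rpush U.ι).obj E)) ⟨x, hx⟩ :=
      Groth.Agent.Helper5.PRF.perfAt_of_iso e.symm
        ((Groth.Agent.Helper5.PRF.isPerfect_iff_forall_perfAt E).1 hE ⟨x, hx⟩)
    exact Groth.Agent.Helper5.PRF.perfAt_of_openImmersion U.ι _ ⟨x, hx⟩ h1
  · let V : X.Opens := ⟨((fun x : (U : Scheme.{u}) => U.ι.base x) '' T)ᶜ, hjT.isOpen_compl⟩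
    have hxV : x ∈ V := by
      rintro ⟨t, -, rfl⟩
      exact hx t.2
    have h0 : CategoryTheory.Limits.IsZero ((DCoh.restrictD (U.ι ⁻¹ᵁ V).ι).obj E) := by
      apply Groth.Agent.Helper9.SuppD.isZero_restrictD_of_support E _ T hsupp
      intro y hy hyT
      exact hy ⟨y, hyT, rfl⟩
    have hz := Groth.Agent.Helper9.SuppD.isZero_restrictD_Rpush U.ι V E h0
    have h1 : Groth.Agent.Helper5.PRF.PerfAt
        ((DCoh.restrictD V.ι).obj ((DCoh.Rpush U.ι).obj E)) ⟨x, hxV⟩ :=
      (Groth.Agent.Helper5.PRF.isPerfect_iff_forall_perfAt _).1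
        (Groth.Agent.Helper5.PRF.isPerfect_of_isZero _ hz) _
    exact Groth.Agent.Helper5.PRF.perfAt_of_openImmersion V.ι _ ⟨x, hxV⟩ h1

end Groth.Agent.S6519
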