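import Groth.Statements.S6523
import Mathlib
import Groth.Agent.S0479
-- import your own Groth.Agent.* helpers here

set_option autoImplicit false
universe v u u'
open CategoryTheory
open CohDer

namespace Groth.Agent.S6523

section

open CategoryTheory CategoryTheory.Limits AlgebraicGeometry Opposite Topology
open CategoryTheory.Pretriangulated CategoryTheory.Pretriangulated.Opposite

theorem main {A : Type u} [Category.{v} A] [Abelian A]
    [IsGrothendieckAbelian.{v} A] [HasDerivedCategory.{v} A]
    {D : Type u'} [Category.{v} D] [Preadditive D] [HasZeroObject D] [HasShift D ℤ]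
    [∀ n : ℤ, (shiftFunctor D n).Additive] [Pretriangulated D]
    (F : DerivedCategory A ⥤ D) [F.CommShift ℤ] [F.IsTriangulated]
    [∀ (ι : Type v), PreservesColimitsOfShape (Discrete ι) F] :
    F.IsLeftAdjoint := by
  have hpres : ∀ (κ : Type v), PreservesLimitsOfShape (Discrete κ) F.op := by
    intro κ
    haveI : PreservesColimitsOfShape (Discrete κ)ᵒᵖ F :=
      preservesColimitsOfShape_of_equiv (Discrete.opposite κ).symm F
    exact preservesLimitsOfShape_op (Discrete κ) F
  have hrep : ∀ Y' : D, ((F.op ⋙ preadditiveYoneda.obj Y') ⋙
      forget AddCommGrpCat.{v}).IsRepresentable := by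
    intro Y'
    haveI : ∀ (κ : Type v), PreservesLimitsOfShape (Discrete κ)
        (F.op ⋙ preadditiveYoneda.obj Y') := by
      intro κ
      haveI := hpres κ
      infer_instance
    exact Groth.Agent.S0479.result (F.op ⋙ preadditiveYoneda.obj Y')
  let Gobj : D → DerivedCategory A := fun Y' => ((F.op ⋙ preadditiveYoneda.obj Y') ⋙
      forget AddCommGrpCat.{v}).reprX
  let r : ∀ Y' : D, ((F.op ⋙ preadditiveYoneda.obj Y') ⋙
      forget AddCommGrpCat.{v}).RepresentableBy (Gobj Y') := fun Y' =>
    ((F.op ⋙ preadditiveYoneda.obj Y') ⋙ forget AddCommGrpCat.{v}).representableBy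
  let e : ∀ (X : DerivedCategory A) (Y' : D), (F.obj X ⟶ Y') ≃ (X ⟶ Gobj Y') := fun X Y' =>
    ((r Y').homEquiv (X := X)).symm
  have he : ∀ (X' X : DerivedCategory A) (Y' : D) (f : X' ⟶ X) (g : F.obj X ⟶ Y'),
      e X' Y' (F.map f ≫ g) = f ≫ e X Y' g := by
    intro X' X Y' f g
    apply ((r Y').homEquiv (X := X')).injective
    rw [(r Y').homEquiv_comp]
    dsimp only [e]
    erw [Equiv.apply_symm_apply, Equiv.apply_symm_apply]
    rfl
  exact (Adjunction.adjunctionOfEquivRight e he).isLeftAdjoint

end

open CategoryTheory.Limits CategoryTheory.Pretriangulated in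
/-- Let A be a Grothendieck abelian category, D a pretriangulated category whose morphism types live in
the same universe as those of D(A), and F : D(A) → D an exact functor of triangulated categories
which transforms direct sums (small coproducts) into direct sums. Then F has a right adjoint (which
is then exact as well). Stated as: F is a left adjoint. (With morphism types of D in a larger
universe the assertion fails by a cardinality argument; the published proof applies Brown
representability to the functors W ↦ Hom(F(W), Y), which must take values in small abelian groups.) -/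
theorem result {A : Type u} [Category.{v} A] [Abelian A]
    [IsGrothendieckAbelian.{v} A] [HasDerivedCategory.{v} A]
    {D : Type u'} [Category.{v} D] [Preadditive D] [HasZeroObject D] [HasShift D ℤ]
    [∀ n : ℤ, (shiftFunctor D n).Additive] [Pretriangulated D]
    (F : DerivedCategory A ⥤ D) [F.CommShift ℤ] [F.IsTriangulated]
    [∀ (ι : Type v), PreservesColimitsOfShape (Discrete ι) F] :
    F.IsLeftAdjoint := by
  exact Groth.Agent.S6523.main F

end Groth.Agent.S6523
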