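import Groth.Statements.S6534
import Mathlib
import Groth.Agent.Lib.Helper29.FilSysB
import Groth.Agent.Lib.Helper29.KProdB

set_option autoImplicit false
universe w v u
open CategoryTheory
open CohDer

namespace Groth.Agent.S6534

open CategoryTheory.Limits in
/-- Let A be a Grothendieck abelian category, E ∈ D(A), and … → E^{i+1} → E^i → … → E an inverse system
in D(A) over ℤ with compatible maps to E. Then there exists a filtered complex K of A such that K
represents E and F^iK represents E^i, compatibly: there are isomorphisms in D(A) from the images of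
K and of the subcomplexes F^iK to E and E^i under which the inclusions F^iK → K and F^{i+1}K → F^iK
correspond to the given maps E^i → E and E^{i+1} → E^i. -/
theorem result {A : Type u} [Category.{v} A] [Abelian A]
    [IsGrothendieckAbelian.{v} A] [HasDerivedCategory.{w} A]
    (E : DerivedCategory A) (Es : ℤ → DerivedCategory A) (t : ∀ i : ℤ, Es (i + 1) ⟶ Es i)
    (a : ∀ i : ℤ, Es i ⟶ E) (hat : ∀ i : ℤ, t i ≫ a i = a (i + 1)) :
    ∃ (K : SpSeq.FilCx A) (e : DerivedCategory.Q.obj K.obj ≅ E)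
      (ei : ∀ i : ℤ, DerivedCategory.Q.obj (K.step i) ≅ Es i),
      (∀ i : ℤ, DerivedCategory.Q.map (K.fil i).arrow ≫ e.hom = (ei i).hom ≫ a i) ∧
      (∀ i : ℤ, DerivedCategory.Q.map (K.stepLE (le_of_lt (Int.lt_succ_self i))) ≫ (ei i).hom =
        (ei (i + 1)).hom ≫ t i) := by
  classical
  -- K-injective representatives
  have hrep : ∀ X : DerivedCategory A, ∃ (R : CochainComplex A ℤ) (_ : R.IsKInjective),
      Nonempty (DerivedCategory.Q.obj R ≅ X) := by
    intro X
    obtain ⟨J, f, hJ, hf, -, -⟩ :=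
      Groth.Agent.Helper29.KInjE.exists_kInjective_resolution (DerivedCategory.Q.objPreimage X)
    haveI := hf
    exact ⟨J, hJ, ⟨(asIso (DerivedCategory.Q.map f)).symm ≪≫ DerivedCategory.Q.objObjPreimageIso X⟩⟩
  choose R hR eR' using fun i => hrep (Es i)
  obtain ⟨I, hI, ⟨eI⟩⟩ := hrep E
  let eR : ∀ i, DerivedCategory.Q.obj (R i) ≅ Es i := fun i => (eR' i).some
  haveI := hR
  haveI := hI
  -- transition maps
  have hτ : ∀ i, ∃ φ : R (i + 1) ⟶ R i,
      DerivedCategory.Q.map φ = (eR (i + 1)).hom ≫ t i ≫ (eR i).inv :=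
    fun i => Groth.Agent.Helper29.KProdB.Q_map_surjective _ _ _
  choose τ hτ using hτ
  have hτ' : ∀ i, DerivedCategory.Q.map (τ i) ≫ (eR i).hom = (eR (i + 1)).hom ≫ t i := by
    intro i; rw [hτ]; simp
  -- maps to `I`
  have hα : ∀ i, ∃ φ : R i ⟶ I, DerivedCategory.Q.map φ = (eR i).hom ≫ a i ≫ eI.inv :=
    fun i => Groth.Agent.Helper29.KProdB.Q_map_surjective _ _ _
  choose αc hαc using hα
  let α : ∀ i, R i ⟶ I := fun i => if h : 0 ≤ i then Groth.Agent.Helper29.FilSysA.ρ R τ i 0 h ≫ αc 0 else αc i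
  have α_pos : ∀ i (h : 0 ≤ i), α i = Groth.Agent.Helper29.FilSysA.ρ R τ i 0 h ≫ αc 0 := fun i h => dif_pos h
  have α_neg : ∀ i (h : ¬ 0 ≤ i), α i = αc i := fun i h => dif_neg h
  have hρ : ∀ (k i : ℤ) (h : i + 1 = k),
      DerivedCategory.Q.map (Groth.Agent.Helper29.FilSysA.ρ R τ k i (by omega)) ≫ (eR i).hom ≫ a i = (eR k).hom ≫ a k := by
    intro k i h
    subst h
    rw [Groth.Agent.Helper29.FilSysA.ρ_succ, reassoc_of% (hτ' i), hat]
  have hα0 : ∀ (i : ℤ) (h : 0 ≤ i),
      DerivedCategory.Q.map (Groth.Agent.Helper29.FilSysA.ρ R τ i 0 h ≫ αc 0) = (eR i).hom ≫ a i ≫ eI.inv := by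
    intro i h
    induction i, h using Int.leInduction with
    | base =>
      rw [Groth.Agent.Helper29.FilSysA.ρ_self, Category.id_comp, hαc]
    | succ i hi ih =>
      rw [← Groth.Agent.Helper29.FilSysA.f_comp_ρ R τ i 0 hi, Category.assoc, CategoryTheory.Functor.map_comp, ih,
        ← Category.assoc, ← Category.assoc, hτ', Category.assoc, Category.assoc,
        reassoc_of% (hat i)]
  have hαQ : ∀ i, DerivedCategory.Q.map (α i) = (eR i).hom ≫ a i ≫ eI.inv := by
    intro i
    by_cases h : 0 ≤ i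
    · rw [α_pos i h, hα0 i h]
    · rw [α_neg i h, hαc]
  -- the correction maps
  let d : ∀ j, R j ⟶ I := fun j => α j - Groth.Agent.Helper29.FilSysA.ρ R τ j (j - 1) (by omega) ≫ α (j - 1)
  have hd : ∀ j, 0 < j → d j = 0 := by
    intro j hj
    dsimp only [d]
    rw [α_pos j (by omega), α_pos (j - 1) (by omega),
      Groth.Agent.Helper29.FilSysA.ρ_comp_assoc, sub_self]
  have hγ : ∀ j, ∃ γ : CochainComplex.mappingCone (𝟙 (R j)) ⟶ I,
      Groth.Agent.Helper29.FilSysB.ι R j ≫ γ = d j ∧ (0 < j → γ = 0) := by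
    intro j
    by_cases hj : 0 < j
    · exact ⟨0, by rw [comp_zero, hd j hj], fun _ => rfl⟩
    · have hQ : DerivedCategory.Q.map (α j) =
          DerivedCategory.Q.map (Groth.Agent.Helper29.FilSysA.ρ R τ j (j - 1) (by omega) ≫ α (j - 1)) := by
        rw [CategoryTheory.Functor.map_comp, hαQ, hαQ, ← Category.assoc, ← Category.assoc,
          ← hρ j (j - 1) (by omega)]
        simp
      obtain ⟨H⟩ := Groth.Agent.Helper29.KProdB.homotopy_of_Q_map_eq _ _ hQ
      refine ⟨CochainComplex.mappingCone.desc (𝟙 (R j))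
        (CochainComplex.HomComplex.Cochain.ofHomotopy H) (d j) ?_, ?_, fun h => absurd h hj⟩
      · rw [CochainComplex.HomComplex.δ_ofHomotopy, Category.id_comp,
          ← CochainComplex.HomComplex.Cochain.ofHom_sub]
      · exact CochainComplex.mappingCone.inr_desc _ _ _ _
  choose γ hγ1 hγ2 using hγ
  have hαγ : ∀ i, Groth.Agent.Helper29.FilSysB.ι R (i + 1) ≫ γ (i + 1) =
      α (i + 1) - τ i ≫ α i := by
    intro i
    rw [hγ1]
    dsimp only [d]
    have : ∀ (k : ℤ) (hk : k = i) (hle : k ≤ i + 1), Groth.Agent.Helper29.FilSysA.ρ R τ (i + 1) k hle ≫ α k = τ i ≫ α i := by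
      intro k hk hle
      subst hk
      rw [Groth.Agent.Helper29.FilSysA.ρ_succ]
    rw [this (i + 1 - 1) (by omega)]
  -- the filtered complex
  let m := Groth.Agent.Helper29.FilSysB.m R τ I α γ
  let n := Groth.Agent.Helper29.FilSysB.n R τ
  have hnm : ∀ i, n i ≫ m i = m (i + 1) :=
    Groth.Agent.Helper29.FilSysB.n_m R τ I α γ hγ2 hαγ
  let Kf : SpSeq.FilCx A :=
    { obj := Groth.Agent.Helper29.FilSysB.K R I
      fil := fun i => Subobject.mk (m i)
      anti := antitone_int_of_succ_le (fun i => Subobject.mk_le_mk_of_comm (n i) (hnm i)) }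
  -- the isomorphisms
  have hfst : ∀ (X Y : CochainComplex A ℤ) (h : Nonempty (Homotopy (𝟙 Y) 0)),
      DerivedCategory.Q.map (biprod.fst : X ⊞ Y ⟶ X) ≫ DerivedCategory.Q.map biprod.inl = 𝟙 _ := by
    intro X Y h
    rw [← CategoryTheory.Functor.map_comp, ← CategoryTheory.Functor.map_id]
    have : (biprod.fst ≫ biprod.inl : X ⊞ Y ⟶ X ⊞ Y) = 𝟙 _ - biprod.snd ≫ 𝟙 Y ≫ biprod.inr := by
      rw [Category.id_comp, ← biprod.total]; abel
    rw [this, CategoryTheory.Functor.map_sub, CategoryTheory.Functor.map_comp, CategoryTheory.Functor.map_comp,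
      DerivedCategory.Q_map_eq_of_homotopy A h.some]
    simp
  let fstIso : ∀ (X Y : CochainComplex A ℤ) (h : Nonempty (Homotopy (𝟙 Y) 0)),
      DerivedCategory.Q.obj (X ⊞ Y) ≅ DerivedCategory.Q.obj X := fun X Y h =>
    { hom := DerivedCategory.Q.map biprod.fst
      inv := DerivedCategory.Q.map biprod.inl
      hom_inv_id := hfst X Y h
      inv_hom_id := by rw [← CategoryTheory.Functor.map_comp, biprod.inl_fst, CategoryTheory.Functor.map_id] }
  let e : DerivedCategory.Q.obj Kf.obj ≅ E :=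
    fstIso I (Groth.Agent.Helper29.FilSysB.P R) (Groth.Agent.Helper29.FilSysB.contractible_P R) ≪≫ eI
  let uI : ∀ i, (Kf.step i) ≅ Groth.Agent.Helper29.FilSysB.M R i :=
    fun i => Subobject.underlyingIso (m i)
  let ei : ∀ i : ℤ, DerivedCategory.Q.obj (Kf.step i) ≅ Es i := fun i =>
    DerivedCategory.Q.mapIso (uI i) ≪≫
      fstIso (R i) (Groth.Agent.Helper29.FilSysB.Ps R i)
        (Groth.Agent.Helper29.FilSysB.contractible_Ps R i) ≪≫ eR i
  have harrow : ∀ i, (Kf.fil i).arrow = (uI i).hom ≫ m i :=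
    fun i => (Subobject.underlyingIso_hom_comp_eq_mk (m i)).symm
  refine ⟨Kf, e, ei, ?_, ?_⟩
  · intro i
    rw [harrow]
    dsimp only [e, ei, fstIso, Iso.trans_hom, Functor.mapIso_hom]
    rw [CategoryTheory.Functor.map_comp, Category.assoc, Category.assoc, Category.assoc]
    congr 1
    have h1 := hfst (R i) (Groth.Agent.Helper29.FilSysB.Ps R i)
      (Groth.Agent.Helper29.FilSysB.contractible_Ps R i)
    have h2 : DerivedCategory.Q.map (biprod.inl : R i ⟶ Groth.Agent.Helper29.FilSysB.M R i) ≫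
        DerivedCategory.Q.map (m i) ≫ DerivedCategory.Q.map biprod.fst =
          DerivedCategory.Q.map (α i) := by
      rw [← CategoryTheory.Functor.map_comp, ← CategoryTheory.Functor.map_comp,
        Groth.Agent.Helper29.FilSysB.inl_m_fst R τ I α γ i]
    calc DerivedCategory.Q.map (m i) ≫ DerivedCategory.Q.map biprod.fst ≫ eI.hom
        = (DerivedCategory.Q.map biprod.fst ≫ DerivedCategory.Q.map biprod.inl) ≫
            DerivedCategory.Q.map (m i) ≫ DerivedCategory.Q.map biprod.fst ≫ eI.hom := by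
          rw [h1, Category.id_comp]
      _ = DerivedCategory.Q.map biprod.fst ≫ DerivedCategory.Q.map (α i) ≫ eI.hom := by
          rw [← h2]; simp only [Category.assoc]
      _ = _ := by rw [hαQ]; simp
  · intro i
    have hstep : ∀ (hle : i ≤ i + 1), Kf.stepLE hle ≫ (uI i).hom =
        (uI (i + 1)).hom ≫ n i := by
      intro hle
      rw [← cancel_mono (m i), Category.assoc, Category.assoc, hnm, ← harrow, ← harrow]
      exact Subobject.ofLE_arrow _
    change DerivedCategory.Q.map (Kf.stepLE (show i ≤ i + 1 by omega)) ≫ (ei i).hom =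
      (ei (i + 1)).hom ≫ t i
    have hn := Groth.Agent.Helper29.FilSysB.n_fst R τ i
    dsimp only [ei, fstIso, Iso.trans_hom, Functor.mapIso_hom]
    rw [← Category.assoc, ← CategoryTheory.Functor.map_comp]
    rw [hstep]
    rw [CategoryTheory.Functor.map_comp, Category.assoc, ← Category.assoc (DerivedCategory.Q.map (n i)),
      ← CategoryTheory.Functor.map_comp]
    rw [hn]
    rw [CategoryTheory.Functor.map_comp, Category.assoc, Category.assoc, hτ']
    simp only [Category.assoc]


end Groth.Agent.S6534
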