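import Groth.Statements.S6564

set_option autoImplicit false
universe u
open CategoryTheory CategoryTheory.Limits AlgebraicGeometry
open Curves

namespace Groth.Agent.S6564

/-- Let X be proper over the field k of dimension at most 1. If X has a g^r_d (an invertible module L of
degree d with an ordered family of r + 1 global sections linearly independent over k), then X has a
g^s_d for every 0 ≤ s ≤ r. -/
theorem result (k : Type u) [Field k] (X : Scheme.{u}) [X.Over (Spec (CommRingCat.of k))] [IsProper (X ↘ (Spec (CommRingCat.of k)))] (hdim : topologicalKrullDim X ≤ 1)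
    (d r : ℕ) (L : X.Modules) (σ : Fin (r + 1) → LinSer.Sect X L) (hL : LinSer.IsLinSer k X L d r σ)
    (s : ℕ) (hs : s ≤ r) :
    ∃ (L' : X.Modules) (τ : Fin (s + 1) → LinSer.Sect X L'), LinSer.IsLinSer k X L' d s τ := by
  obtain ⟨hinv, hdeg, hli⟩ := hL
  refine ⟨L, fun i => σ (Fin.castLE (by omega) i), hinv, hdeg, ?_⟩
  intro c hc
  classical
  let c' : Fin (r + 1) → k := fun j => if h : (j : ℕ) < s + 1 then c ⟨j, h⟩ else 0
  have hsum : (∑ j, (Coh.toGlobal (X ↘ Spec (CommRingCat.of k)) (c' j)) • σ j) = 0 := by
    rw [← hc]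
    have hinj : Function.Injective (Fin.castLE (show s + 1 ≤ r + 1 by omega)) :=
      Fin.castLE_injective _
    rw [← Finset.sum_subset (Finset.subset_univ (Finset.univ.image (Fin.castLE (show s + 1 ≤ r + 1 by omega))))]
    · rw [Finset.sum_image (fun a _ b _ h => hinj h)]
      refine Finset.sum_congr rfl (fun i _ => ?_)
      have : c' (Fin.castLE (show s + 1 ≤ r + 1 by omega) i) = c i := by
        simp only [c', Fin.val_castLE, i.2, dite_true]
      rw [this]
    · intro j _ hj
      have hj' : ¬ (j : ℕ) < s + 1 := by
        intro hlt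
        apply hj
        rw [Finset.mem_image]
        exact ⟨⟨j, hlt⟩, Finset.mem_univ _, Fin.ext rfl⟩
      simp only [c', hj', dite_false, map_zero, zero_smul]
  have h0 := hli c' hsum
  funext i
  have := congrFun h0 (Fin.castLE (show s + 1 ≤ r + 1 by omega) i)
  have h2 : c' (Fin.castLE (show s + 1 ≤ r + 1 by omega) i) = c i := by
    simp only [c', Fin.val_castLE, i.2, dite_true]
  rw [h2] at this
  exact this

end Groth.Agent.S6564
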