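import Groth.Statements.S6575
import Mathlib
import Groth.Agent.Lib.Helper10.FittingC

set_option autoImplicit false
universe u
open Curves

namespace Groth.Agent.S6575

section helpers
open Groth.Agent.Lib.Helper10.Fitting
open Matrix

section
variable (k : Type u) [Field k] {n : ℕ}

local notation "A" => MvPowerSeries (Fin n) k

/-- the ideal generated by the `r × r` minors of the Jacobian matrix -/
noncomputable def minors {m : ℕ} (r : ℕ) (f : Fin m → MvPowerSeries (Fin n) k) : Ideal (MvPowerSeries (Fin n) k) :=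
  Ideal.span {d : MvPowerSeries (Fin n) k | ∃ (ρ : Fin r → Fin m) (γ : Fin r → Fin n), Function.Injective ρ ∧ Function.Injective γ ∧
          d = ((Matrix.of fun (j : Fin m) (i : Fin n) => MvPowerSeries.pderiv k i (f j)).submatrix ρ γ).det}

lemma minor_mem {m l : ℕ} (r : ℕ) (f : Fin m → MvPowerSeries (Fin n) k)
    (g : Fin l → MvPowerSeries (Fin n) k)
    (hf : ∀ j, f j ∈ Ideal.span (Set.range g)) (ρ : Fin r → Fin m) (γ : Fin r → Fin n)
    (hγ : Function.Injective γ) :
    ((Matrix.of fun (j : Fin m) (i : Fin n) => MvPowerSeries.pderiv k i (f j)).submatrix ρ γ).det ∈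
      minors k r g ⊔ Ideal.span (Set.range g) := by
  classical
  set I : Ideal (MvPowerSeries (Fin n) k) := Ideal.span (Set.range g) with hI
  let G : Fin r → Set (Fin r → MvPowerSeries (Fin n) k) := fun _ =>
    {w | ∃ s : Fin l, w = fun t' => MvPowerSeries.pderiv k (γ t') (g s)} ∪
    {w | ∃ b ∈ I, ∃ t₀ : Fin r, w = b • (Pi.single t₀ 1 : Fin r → MvPowerSeries (Fin n) k)}
  have hrow : ∀ t, ((Matrix.of fun (j : Fin m) (i : Fin n) => MvPowerSeries.pderiv k i (f j)).submatrix ρ γ) t ∈
      Submodule.span (MvPowerSeries (Fin n) k) (G t) := by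
    intro t
    obtain ⟨c, hc⟩ := (Ideal.mem_span_range_iff_exists_fun).1 (hf (ρ t))
    have h1 : ((Matrix.of fun (j : Fin m) (i : Fin n) => MvPowerSeries.pderiv k i (f j)).submatrix ρ γ) t =
        ∑ s, c s • (fun t' => MvPowerSeries.pderiv k (γ t') (g s)) +
        ∑ t₀, (∑ s, g s * MvPowerSeries.pderiv k (γ t₀) (c s)) • (Pi.single t₀ 1 : Fin r → MvPowerSeries (Fin n) k) := by
      funext t'
      simp only [Matrix.submatrix_apply, Matrix.of_apply, Pi.add_apply, Finset.sum_apply,
        Pi.smul_apply, smul_eq_mul, Pi.single_apply, mul_ite, mul_one, mul_zero,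
        Finset.sum_ite_eq, Finset.mem_univ, if_true]
      rw [← hc, map_sum, ← Finset.sum_add_distrib]
      refine Finset.sum_congr rfl (fun s _ => ?_)
      rw [Derivation.leibniz, smul_eq_mul, smul_eq_mul]
    rw [h1]
    refine Submodule.add_mem _ (Submodule.sum_mem _ (fun s _ => ?_)) (Submodule.sum_mem _ (fun t₀ _ => ?_))
    · exact Submodule.smul_mem _ _ (Submodule.subset_span (Or.inl ⟨s, rfl⟩))
    · refine Submodule.subset_span (Or.inr ⟨_, ?_, t₀, rfl⟩)
      exact I.sum_mem (fun s _ => I.mul_mem_right _ (Ideal.subset_span ⟨s, rfl⟩))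
  have hdet := det_mem_span G _ hrow
  refine (Ideal.span_le.2 ?_) hdet
  rintro d ⟨b, hb, rfl⟩
  by_cases hex : ∃ i, ∃ c ∈ I, ∃ t₀ : Fin r, b i = c • (Pi.single t₀ 1 : Fin r → MvPowerSeries (Fin n) k)
  · obtain ⟨i, c, hcI, t₀, hbi⟩ := hex
    apply Ideal.mem_sup_right
    have h2 : b = Matrix.updateRow b i (c • (Pi.single t₀ 1 : Fin r → MvPowerSeries (Fin n) k)) := by
      rw [← hbi, Matrix.updateRow_eq_self]
    show b.det ∈ I
    rw [h2, Matrix.det_updateRow_smul]
    exact I.mul_mem_right _ hcI
  · push Not at hex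
    have hall : ∀ i, ∃ s : Fin l, b i = fun t' => MvPowerSeries.pderiv k (γ t') (g s) := by
      intro i
      rcases hb i with ⟨s, hs⟩ | ⟨c, hc, t₀, hct⟩
      · exact ⟨s, hs⟩
      · exact absurd hct (hex i c hc t₀)
    choose σ hσ using hall
    by_cases hinj : Function.Injective σ
    · apply Ideal.mem_sup_left
      refine Ideal.subset_span ⟨σ, γ, hinj, hγ, ?_⟩
      congr 1
      ext i t'
      rw [hσ i]
      rfl
    · rw [Function.Injective] at hinj
      push Not at hinj
      obtain ⟨i, i', hii', hne⟩ := hinj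
      have : b.det = 0 := Matrix.det_zero_of_row_eq hne (by rw [hσ i, hσ i', hii'])
      show b.det ∈ _
      rw [this]
      exact Ideal.zero_mem _

theorem main6575 (n m l r : ℕ)
    (f : Fin m → MvPowerSeries (Fin n) k) (g : Fin l → MvPowerSeries (Fin n) k)
    (hfg : Ideal.span (Set.range f) = Ideal.span (Set.range g)) :
    Ideal.span {d : MvPowerSeries (Fin n) k | ∃ (ρ : Fin r → Fin m) (γ : Fin r → Fin n), Function.Injective ρ ∧ Function.Injective γ ∧
          d = ((Matrix.of fun (j : Fin m) (i : Fin n) => MvPowerSeries.pderiv k i (f j)).submatrix ρ γ).det} ⊔ Ideal.span (Set.range f) =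
      Ideal.span {d : MvPowerSeries (Fin n) k | ∃ (ρ : Fin r → Fin l) (γ : Fin r → Fin n), Function.Injective ρ ∧ Function.Injective γ ∧
          d = ((Matrix.of fun (j : Fin l) (i : Fin n) => MvPowerSeries.pderiv k i (g j)).submatrix ρ γ).det} ⊔ Ideal.span (Set.range g) := by
  have hf : ∀ j, f j ∈ Ideal.span (Set.range g) := fun j => hfg ▸ Ideal.subset_span ⟨j, rfl⟩
  have hg : ∀ j, g j ∈ Ideal.span (Set.range f) := fun j => hfg.symm ▸ Ideal.subset_span ⟨j, rfl⟩
  apply le_antisymm
  · refine sup_le (Ideal.span_le.2 ?_) (hfg ▸ le_sup_right)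
    rintro d ⟨ρ, γ, -, hγ, rfl⟩
    exact minor_mem k r f g hf ρ γ hγ
  · refine sup_le (Ideal.span_le.2 ?_) (hfg.symm ▸ le_sup_right)
    rintro d ⟨ρ, γ, -, hγ, rfl⟩
    exact minor_mem k r g f hg ρ γ hγ

end

end helpers

/-- Let k be a field, A = k[[x_1, …, x_n]] and I ⊆ A an ideal generated by f_1, …, f_m and also by g_1,
…, g_l. Then for every r ≥ 0 the ideal of A/I generated by the r × r minors of (∂f_j/∂x_i) equals
the one generated by the r × r minors of (∂g_s/∂x_i); stated in A as equality of the ideals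
generated by the minors together with I. (The published result also asserts independence of the
regular system of parameters x_1, …, x_n, which is not stated here.) -/
theorem result (k : Type u) [Field k] (n m l r : ℕ)
    (f : Fin m → MvPowerSeries (Fin n) k) (g : Fin l → MvPowerSeries (Fin n) k)
    (hfg : Ideal.span (Set.range f) = Ideal.span (Set.range g)) :
    Ideal.span {d : MvPowerSeries (Fin n) k | ∃ (ρ : Fin r → Fin m) (γ : Fin r → Fin n), Function.Injective ρ ∧ Function.Injective γ ∧
          d = ((Matrix.of fun (j : Fin m) (i : Fin n) => MvPowerSeries.pderiv k i (f j)).submatrix ρ γ).det} ⊔ Ideal.span (Set.range f) =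
      Ideal.span {d : MvPowerSeries (Fin n) k | ∃ (ρ : Fin r → Fin l) (γ : Fin r → Fin n), Function.Injective ρ ∧ Function.Injective γ ∧
          d = ((Matrix.of fun (j : Fin l) (i : Fin n) => MvPowerSeries.pderiv k i (g j)).submatrix ρ γ).det} ⊔ Ideal.span (Set.range g) := by
  exact main6575 k n m l r f g hfg

end Groth.Agent.S6575
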