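import Groth.Statements.S6580
import Mathlib

set_option autoImplicit false
universe v u
open CategoryTheory CategoryTheory.Limits
open CohDer

namespace Groth.Agent.S6580

theorem ring_idem {R : Type*} [Ring R] (β : R) (h : (β * β - β) * (β * β - β) = 0) :
    ((3 : ℤ) • (β * β) - (2 : ℤ) • (β * β * β)) * ((3 : ℤ) • (β * β) - (2 : ℤ) • (β * β * β)) =
      (3 : ℤ) • (β * β) - (2 : ℤ) • (β * β * β) := by
  have key : ((3 : ℤ) • (β * β) - (2 : ℤ) • (β * β * β)) * ((3 : ℤ) • (β * β) - (2 : ℤ) • (β * β * β)) -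
      ((3 : ℤ) • (β * β) - (2 : ℤ) • (β * β * β)) =
      (β * β - β) * (β * β - β) * ((4 : ℤ) • (β * β) - (4 : ℤ) • β - 3) := by
    noncomm_ring
  rw [h, zero_mul, sub_eq_zero] at key
  exact key

set_option backward.defeqAttrib.useBackward true in
set_option backward.isDefEq.respectTransparency false in
open CategoryTheory.Pretriangulated ZeroObject Category Preadditive in
/-- Let (X, Y, Z, f, g, h) be a distinguished triangle of a pretriangulated category, and let a : X ⟶ X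
and c : Z ⟶ Z be idempotents with h ≫ a⟦1⟧ = c ≫ h. Then there is an idempotent b : Y ⟶ Y such that
(a, b, c) is an endomorphism of the triangle. -/
theorem result {D : Type u} [Category.{v} D] [Preadditive D] [HasZeroObject D] [HasShift D ℤ]
    [∀ n : ℤ, (shiftFunctor D n).Additive] [Pretriangulated D]
    (T : Triangle D) (hT : T ∈ distinguishedTriangles) (a : T.obj₁ ⟶ T.obj₁) (c : T.obj₃ ⟶ T.obj₃)
    (ha : a ≫ a = a) (hc : c ≫ c = c) (comm : T.mor₃ ≫ (shiftFunctor D (1 : ℤ)).map a = c ≫ T.mor₃) :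
    ∃ b : T.obj₂ ⟶ T.obj₂, b ≫ b = b ∧ T.mor₁ ≫ b = a ≫ T.mor₁ ∧ T.mor₂ ≫ c = b ≫ T.mor₂ := by
  obtain ⟨b₀, hfb, hbg⟩ := complete_distinguished_triangle_morphism₂ T T hT hT a c comm
  have hfd : T.mor₁ ≫ (b₀ ≫ b₀ - b₀) = 0 := by
    rw [comp_sub, ← assoc, hfb, assoc, hfb, ← assoc, ha, sub_self]
  have hdg : (b₀ ≫ b₀ - b₀) ≫ T.mor₂ = 0 := by
    rw [sub_comp, assoc, ← hbg, ← assoc, ← hbg, assoc, hc, sub_self]
  obtain ⟨d', hd'⟩ := Triangle.yoneda_exact₂ _ hT _ hfd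
  have hdd : (b₀ ≫ b₀ - b₀) ≫ (b₀ ≫ b₀ - b₀) = 0 := by
    conv_lhs => rw [hd']
    rw [← assoc, ← hd', hdg, zero_comp]
  have hidem := ring_idem (R := End T.obj₂) b₀ hdd
  have h1 : T.mor₁ ≫ b₀ ≫ b₀ = a ≫ T.mor₁ := by
    rw [← assoc, hfb, assoc, hfb, ← assoc, ha]
  have h2 : T.mor₁ ≫ b₀ ≫ b₀ ≫ b₀ = a ≫ T.mor₁ := by
    rw [← assoc, hfb, assoc, h1, ← assoc, ha]
  have h3 : b₀ ≫ b₀ ≫ T.mor₂ = T.mor₂ ≫ c := by
    rw [← hbg, ← assoc, ← hbg, assoc, hc]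
  have h4 : b₀ ≫ b₀ ≫ b₀ ≫ T.mor₂ = T.mor₂ ≫ c := by
    rw [h3, ← assoc, ← hbg, assoc, hc]
  refine ⟨(3 : ℤ) • (b₀ ≫ b₀) - (2 : ℤ) • (b₀ ≫ b₀ ≫ b₀), hidem, ?_, ?_⟩
  · rw [comp_sub, comp_zsmul, comp_zsmul, h1, h2, ← sub_smul]
    norm_num
  · rw [sub_comp, zsmul_comp, zsmul_comp, assoc, assoc, assoc, h4, h3, ← sub_smul]
    norm_num

end Groth.Agent.S6580
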