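import Groth.Statements.S6581
import Mathlib

set_option autoImplicit false
universe v u
open CategoryTheory CategoryTheory.Limits
open CohDer

namespace Groth.Agent.S6581

open CategoryTheory.Pretriangulated

section
variable {D : Type u} [Category.{v} D] [Preadditive D] [HasZeroObject D] [HasShift D ℤ]
  [∀ n : ℤ, (shiftFunctor D n).Additive] [Pretriangulated D]

/-- A triangle with the same first map as a distinguished triangle, receiving a morphism from
it which is the identity on the first two objects, and having enough exactness, is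
distinguished. -/
theorem helper {X Y Q Z : D} (f : X ⟶ Y) (a : Y ⟶ Q) (b : Q ⟶ X⟦(1 : ℤ)⟧) (g : Y ⟶ Z)
    (h : Z ⟶ X⟦(1 : ℤ)⟧)
    (hT₁ : Triangle.mk f a b ∈ distTriang D) (ψ : Q ⟶ Z) (h1 : a ≫ ψ = g) (h2 : ψ ≫ h = b)
    (exZ : ∀ {W : D} (u : W ⟶ Z), u ≫ h = 0 → ∃ v : W ⟶ Y, u = v ≫ g)
    (exY : ∀ {W : D} (v : W ⟶ Y), v ≫ g = 0 → ∃ w : W ⟶ X, v = w ≫ f)
    (hf : h ≫ f⟦(1 : ℤ)⟧' = 0) : Triangle.mk f g h ∈ distTriang D := by
  have hfa : f ≫ a = 0 := comp_distTriang_mor_zero₁₂ _ hT₁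
  have hmono : Mono ψ := by
    rw [Preadditive.mono_iff_cancel_zero]
    intro W u hu
    have hub : u ≫ b = 0 := by rw [← h2, ← Category.assoc, hu, zero_comp]
    obtain ⟨v, hv'⟩ : ∃ v : W ⟶ Y, u = v ≫ a := Triangle.coyoneda_exact₃ _ hT₁ u hub
    have hvg : v ≫ g = 0 := by rw [← h1, ← Category.assoc, ← hv', hu]
    obtain ⟨w, hw⟩ := exY v hvg
    rw [hv', hw, Category.assoc, hfa, comp_zero]
  obtain ⟨s, hs⟩ : ∃ s : Z ⟶ Q, s ≫ ψ = 𝟙 Z := by
    have hz : (𝟙 Z ≫ h) ≫ f⟦(1 : ℤ)⟧' = 0 := by rw [Category.id_comp, hf]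
    obtain ⟨q, hq'⟩ : ∃ q : Z ⟶ Q, 𝟙 Z ≫ h = q ≫ b :=
      Triangle.coyoneda_exact₁ _ hT₁ (𝟙 Z ≫ h) hz
    have h3 : (𝟙 Z - q ≫ ψ) ≫ h = 0 := by
      rw [Preadditive.sub_comp, Category.assoc, h2, ← hq', sub_self]
    obtain ⟨v, hv⟩ := exZ _ h3
    refine ⟨q + v ≫ a, ?_⟩
    rw [Preadditive.add_comp, Category.assoc, h1, ← hv]
    abel
  have hsplit : IsSplitEpi ψ := ⟨⟨⟨s, hs⟩⟩⟩
  have hiso : IsIso ψ := isIso_of_mono_of_isSplitEpi ψ
  refine isomorphic_distinguished _ hT₁ _ ?_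
  refine Triangle.isoMk _ _ (Iso.refl _) (Iso.refl _) (asIso ψ).symm ?_ ?_ ?_
  · show f ≫ 𝟙 Y = 𝟙 X ≫ f
    rw [Category.comp_id, Category.id_comp]
  · show g ≫ inv ψ = 𝟙 Y ≫ a
    rw [Category.id_comp, ← h1, Category.assoc, IsIso.hom_inv_id, Category.comp_id]
  · show h ≫ (𝟙 X)⟦(1 : ℤ)⟧' = inv ψ ≫ b
    rw [CategoryTheory.Functor.map_id, Category.comp_id, ← h2, IsIso.inv_hom_id_assoc]

end


section
variable {D : Type u} [Category.{v} D] [Preadditive D] [HasZeroObject D] [HasShift D ℤ]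
  [∀ n : ℤ, (shiftFunctor D n).Additive] [Pretriangulated D]

theorem main {X Y Z X' Y' Z' : D} (f : X ⟶ Y) (g : Y ⟶ Z) (h : Z ⟶ X⟦(1 : ℤ)⟧)
    (f' : X' ⟶ Y') (g' : Y' ⟶ Z') (h' : Z' ⟶ X'⟦(1 : ℤ)⟧) :
    Triangle.mk (biprod.map f f') (biprod.map g g')
        (biprod.desc (h ≫ (shiftFunctor D (1 : ℤ)).map biprod.inl)
          (h' ≫ (shiftFunctor D (1 : ℤ)).map biprod.inr)) ∈ distTriang D ↔
      (Triangle.mk f g h ∈ distTriang D ∧ Triangle.mk f' g' h' ∈ distTriang D) := by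
  -- useful computations
  have hd1 : biprod.desc (h ≫ (shiftFunctor D (1 : ℤ)).map biprod.inl)
      (h' ≫ (shiftFunctor D (1 : ℤ)).map biprod.inr) ≫
      (shiftFunctor D (1 : ℤ)).map (biprod.fst : X ⊞ X' ⟶ X) = biprod.fst ≫ h := by
    apply biprod.hom_ext'
    · simp only [biprod.inl_desc_assoc, Category.assoc, ← CategoryTheory.Functor.map_comp,
        biprod.inl_fst, CategoryTheory.Functor.map_id, Category.comp_id, biprod.inl_fst_assoc]
    · simp only [biprod.inr_desc_assoc, Category.assoc, ← CategoryTheory.Functor.map_comp,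
        biprod.inr_fst, CategoryTheory.Functor.map_zero, comp_zero, biprod.inr_fst_assoc,
        zero_comp]
  have hd2 : biprod.desc (h ≫ (shiftFunctor D (1 : ℤ)).map biprod.inl)
      (h' ≫ (shiftFunctor D (1 : ℤ)).map biprod.inr) ≫
      (shiftFunctor D (1 : ℤ)).map (biprod.snd : X ⊞ X' ⟶ X') = biprod.snd ≫ h' := by
    apply biprod.hom_ext'
    · simp only [biprod.inl_desc_assoc, Category.assoc, ← CategoryTheory.Functor.map_comp,
        biprod.inl_snd, CategoryTheory.Functor.map_zero, comp_zero, biprod.inl_snd_assoc,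
        zero_comp]
    · simp only [biprod.inr_desc_assoc, Category.assoc, ← CategoryTheory.Functor.map_comp,
        biprod.inr_snd, CategoryTheory.Functor.map_id, Category.comp_id, biprod.inr_snd_assoc]
  constructor
  · intro hS
    have hS31 : biprod.desc (h ≫ (shiftFunctor D (1 : ℤ)).map biprod.inl)
        (h' ≫ (shiftFunctor D (1 : ℤ)).map biprod.inr) ≫
        (shiftFunctor D (1 : ℤ)).map (biprod.map f f') = 0 := comp_distTriang_mor_zero₃₁ _ hS
    constructor
    · -- T distinguished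
      obtain ⟨Q, a, b, hT₁⟩ := distinguished_cocone_triangle f
      obtain ⟨c, hc1, hc2⟩ : ∃ c : Q ⟶ Z ⊞ Z', a ≫ c = biprod.inl ≫ biprod.map g g' ∧
          b ≫ (shiftFunctor D (1 : ℤ)).map biprod.inl = c ≫ biprod.desc (h ≫ (shiftFunctor D (1 : ℤ)).map biprod.inl)
          (h' ≫ (shiftFunctor D (1 : ℤ)).map biprod.inr) :=
        complete_distinguished_triangle_morphism _ _ hT₁ hS
        (biprod.inl : X ⟶ X ⊞ X') (biprod.inl : Y ⟶ Y ⊞ Y') (biprod.inl_map f f').symm
      refine helper f a b g h hT₁ (c ≫ biprod.fst) ?_ ?_ ?_ ?_ ?_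
      · rw [← Category.assoc, hc1]; simp
      · have := congrArg (fun k => k ≫ (shiftFunctor D (1 : ℤ)).map (biprod.fst : X ⊞ X' ⟶ X)) hc2
        simp only [Category.assoc, hd1, ← CategoryTheory.Functor.map_comp, biprod.inl_fst,
          CategoryTheory.Functor.map_id, Category.comp_id] at this
        rw [Category.assoc]; exact this.symm
      · intro W u hu
        have h0 : (u ≫ biprod.inl) ≫ biprod.desc (h ≫ (shiftFunctor D (1 : ℤ)).map biprod.inl)
            (h' ≫ (shiftFunctor D (1 : ℤ)).map biprod.inr) = 0 := by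
          rw [Category.assoc, biprod.inl_desc, ← Category.assoc, hu, zero_comp]
        obtain ⟨v', hv'⟩ : ∃ v' : W ⟶ Y ⊞ Y', u ≫ biprod.inl = v' ≫ biprod.map g g' :=
          Triangle.coyoneda_exact₃ _ hS (u ≫ biprod.inl) h0
        refine ⟨v' ≫ biprod.fst, ?_⟩
        have := congrArg (fun k => k ≫ (biprod.fst : Z ⊞ Z' ⟶ Z)) hv'
        simpa using this
      · intro W v hv
        have h0 : (v ≫ biprod.inl) ≫ biprod.map g g' = 0 := by
          rw [Category.assoc, biprod.inl_map, ← Category.assoc, hv, zero_comp]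
        obtain ⟨w', hw'⟩ : ∃ w' : W ⟶ X ⊞ X', v ≫ biprod.inl = w' ≫ biprod.map f f' :=
          Triangle.coyoneda_exact₂ _ hS (v ≫ biprod.inl) h0
        refine ⟨w' ≫ biprod.fst, ?_⟩
        have := congrArg (fun k => k ≫ (biprod.fst : Y ⊞ Y' ⟶ Y)) hw'
        simpa using this
      · have h1 : (biprod.inl : Z ⟶ Z ⊞ Z') ≫ (biprod.desc (h ≫ (shiftFunctor D (1 : ℤ)).map biprod.inl) (h' ≫ (shiftFunctor D (1 : ℤ)).map biprod.inr)) ≫
            (shiftFunctor D (1 : ℤ)).map (biprod.map f f') ≫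
            (shiftFunctor D (1 : ℤ)).map (biprod.fst : Y ⊞ Y' ⟶ Y) = 0 := by
          rw [reassoc_of% hS31, zero_comp, comp_zero]
        simp only [biprod.inl_desc_assoc, ← CategoryTheory.Functor.map_comp,
          biprod.map_fst] at h1
        rw [Category.assoc, ← CategoryTheory.Functor.map_comp, biprod.inl_fst_assoc] at h1
        exact h1
    · -- T' distinguished
      obtain ⟨Q, a, b, hT₁⟩ := distinguished_cocone_triangle f'
      obtain ⟨c, hc1, hc2⟩ : ∃ c : Q ⟶ Z ⊞ Z', a ≫ c = biprod.inr ≫ biprod.map g g' ∧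
          b ≫ (shiftFunctor D (1 : ℤ)).map biprod.inr = c ≫ biprod.desc (h ≫ (shiftFunctor D (1 : ℤ)).map biprod.inl)
          (h' ≫ (shiftFunctor D (1 : ℤ)).map biprod.inr) :=
        complete_distinguished_triangle_morphism _ _ hT₁ hS
        (biprod.inr : X' ⟶ X ⊞ X') (biprod.inr : Y' ⟶ Y ⊞ Y') (biprod.inr_map f f').symm
      refine helper f' a b g' h' hT₁ (c ≫ biprod.snd) ?_ ?_ ?_ ?_ ?_
      · rw [← Category.assoc, hc1]; simp
      · have := congrArg (fun k => k ≫ (shiftFunctor D (1 : ℤ)).map (biprod.snd : X ⊞ X' ⟶ X')) hc2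
        simp only [Category.assoc, hd2, ← CategoryTheory.Functor.map_comp, biprod.inr_snd,
          CategoryTheory.Functor.map_id, Category.comp_id] at this
        rw [Category.assoc]; exact this.symm
      · intro W u hu
        have h0 : (u ≫ biprod.inr) ≫ biprod.desc (h ≫ (shiftFunctor D (1 : ℤ)).map biprod.inl)
            (h' ≫ (shiftFunctor D (1 : ℤ)).map biprod.inr) = 0 := by
          rw [Category.assoc, biprod.inr_desc, ← Category.assoc, hu, zero_comp]
        obtain ⟨v', hv'⟩ : ∃ v' : W ⟶ Y ⊞ Y', u ≫ biprod.inr = v' ≫ biprod.map g g' :=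
          Triangle.coyoneda_exact₃ _ hS (u ≫ biprod.inr) h0
        refine ⟨v' ≫ biprod.snd, ?_⟩
        have := congrArg (fun k => k ≫ (biprod.snd : Z ⊞ Z' ⟶ Z')) hv'
        simpa using this
      · intro W v hv
        have h0 : (v ≫ biprod.inr) ≫ biprod.map g g' = 0 := by
          rw [Category.assoc, biprod.inr_map, ← Category.assoc, hv, zero_comp]
        obtain ⟨w', hw'⟩ : ∃ w' : W ⟶ X ⊞ X', v ≫ biprod.inr = w' ≫ biprod.map f f' :=
          Triangle.coyoneda_exact₂ _ hS (v ≫ biprod.inr) h0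
        refine ⟨w' ≫ biprod.snd, ?_⟩
        have := congrArg (fun k => k ≫ (biprod.snd : Y ⊞ Y' ⟶ Y')) hw'
        simpa using this
      · have h1 : (biprod.inr : Z' ⟶ Z ⊞ Z') ≫ (biprod.desc (h ≫ (shiftFunctor D (1 : ℤ)).map biprod.inl) (h' ≫ (shiftFunctor D (1 : ℤ)).map biprod.inr)) ≫
            (shiftFunctor D (1 : ℤ)).map (biprod.map f f') ≫
            (shiftFunctor D (1 : ℤ)).map (biprod.snd : Y ⊞ Y' ⟶ Y') = 0 := by
          rw [reassoc_of% hS31, zero_comp, comp_zero]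
        simp only [biprod.inr_desc_assoc, ← CategoryTheory.Functor.map_comp,
          biprod.map_snd] at h1
        rw [Category.assoc, ← CategoryTheory.Functor.map_comp, biprod.inr_snd_assoc] at h1
        exact h1
  · rintro ⟨hT, hT'⟩
    have hT31 : h ≫ (shiftFunctor D (1 : ℤ)).map f = 0 := comp_distTriang_mor_zero₃₁ _ hT
    have hT'31 : h' ≫ (shiftFunctor D (1 : ℤ)).map f' = 0 := comp_distTriang_mor_zero₃₁ _ hT'
    obtain ⟨Q, a, b, hS₁⟩ := distinguished_cocone_triangle (biprod.map f f')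
    obtain ⟨c₁, hc1, hc2⟩ : ∃ c₁ : Q ⟶ Z, a ≫ c₁ = biprod.fst ≫ g ∧
        b ≫ (shiftFunctor D (1 : ℤ)).map biprod.fst = c₁ ≫ h :=
      complete_distinguished_triangle_morphism _ _ hS₁ hT
      (biprod.fst : X ⊞ X' ⟶ X) (biprod.fst : Y ⊞ Y' ⟶ Y) (biprod.map_fst f f')
    obtain ⟨c₂, hc1', hc2'⟩ : ∃ c₂ : Q ⟶ Z', a ≫ c₂ = biprod.snd ≫ g' ∧
        b ≫ (shiftFunctor D (1 : ℤ)).map biprod.snd = c₂ ≫ h' :=
      complete_distinguished_triangle_morphism _ _ hS₁ hT'
      (biprod.snd : X ⊞ X' ⟶ X') (biprod.snd : Y ⊞ Y' ⟶ Y') (biprod.map_snd f f')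
    refine helper (biprod.map f f') a b (biprod.map g g') _ hS₁ (biprod.lift c₁ c₂) ?_ ?_ ?_ ?_ ?_
    · apply biprod.hom_ext
      · simp only [Category.assoc, biprod.lift_fst, hc1, biprod.map_fst]
      · simp only [Category.assoc, biprod.lift_snd, hc1', biprod.map_snd]
    · rw [biprod.lift_desc, ← Category.assoc, ← hc2, ← Category.assoc c₂, ← hc2',
        Category.assoc, Category.assoc, ← CategoryTheory.Functor.map_comp,
        ← CategoryTheory.Functor.map_comp, ← Preadditive.comp_add, ← Functor.map_add,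
        biprod.total, CategoryTheory.Functor.map_id, Category.comp_id]
    · intro W u hu
      have hu1 : (u ≫ biprod.fst) ≫ h = 0 := by
        have := congrArg (fun k => k ≫ (shiftFunctor D (1 : ℤ)).map (biprod.fst : X ⊞ X' ⟶ X)) hu
        simpa only [Category.assoc, hd1, zero_comp] using this
      have hu2 : (u ≫ biprod.snd) ≫ h' = 0 := by
        have := congrArg (fun k => k ≫ (shiftFunctor D (1 : ℤ)).map (biprod.snd : X ⊞ X' ⟶ X')) hu
        simpa only [Category.assoc, hd2, zero_comp] using this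
      obtain ⟨v₁, hv₁⟩ : ∃ v₁ : W ⟶ Y, u ≫ biprod.fst = v₁ ≫ g :=
        Triangle.coyoneda_exact₃ _ hT _ hu1
      obtain ⟨v₂, hv₂⟩ : ∃ v₂ : W ⟶ Y', u ≫ biprod.snd = v₂ ≫ g' :=
        Triangle.coyoneda_exact₃ _ hT' _ hu2
      refine ⟨biprod.lift v₁ v₂, ?_⟩
      apply biprod.hom_ext
      · simp only [Category.assoc, biprod.map_fst, biprod.lift_fst_assoc, hv₁]
      · simp only [Category.assoc, biprod.map_snd, biprod.lift_snd_assoc, hv₂]
    · intro W v hv
      have hv1 : (v ≫ biprod.fst) ≫ g = 0 := by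
        have := congrArg (fun k => k ≫ (biprod.fst : Z ⊞ Z' ⟶ Z)) hv
        simpa only [Category.assoc, biprod.map_fst, zero_comp] using this
      have hv2 : (v ≫ biprod.snd) ≫ g' = 0 := by
        have := congrArg (fun k => k ≫ (biprod.snd : Z ⊞ Z' ⟶ Z')) hv
        simpa only [Category.assoc, biprod.map_snd, zero_comp] using this
      obtain ⟨w₁, hw₁⟩ : ∃ w₁ : W ⟶ X, v ≫ biprod.fst = w₁ ≫ f :=
        Triangle.coyoneda_exact₂ _ hT _ hv1
      obtain ⟨w₂, hw₂⟩ : ∃ w₂ : W ⟶ X', v ≫ biprod.snd = w₂ ≫ f' :=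
        Triangle.coyoneda_exact₂ _ hT' _ hv2
      refine ⟨biprod.lift w₁ w₂, ?_⟩
      apply biprod.hom_ext
      · simp only [Category.assoc, biprod.map_fst, biprod.lift_fst_assoc, hw₁]
      · simp only [Category.assoc, biprod.map_snd, biprod.lift_snd_assoc, hw₂]
    · apply biprod.hom_ext'
      · simp only [biprod.inl_desc_assoc, Category.assoc, ← CategoryTheory.Functor.map_comp,
          biprod.inl_map, comp_zero]
        rw [CategoryTheory.Functor.map_comp, ← Category.assoc, hT31, zero_comp]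
      · simp only [biprod.inr_desc_assoc, Category.assoc, ← CategoryTheory.Functor.map_comp,
          biprod.inr_map, comp_zero]
        rw [CategoryTheory.Functor.map_comp, ← Category.assoc, hT'31, zero_comp]


end

open CategoryTheory.Pretriangulated in
/-- Let T = (X, Y, Z, f, g, h) and T' = (X', Y', Z', f', g', h') be triangles in a pretriangulated
category. The direct sum triangle (X ⊞ X', Y ⊞ Y', Z ⊞ Z', f ⊕ f', g ⊕ g', h ⊕ h') (whose third map
Z ⊞ Z' ⟶ (X ⊞ X')⟦1⟧ has components h ≫ inl⟦1⟧ and h' ≫ inr⟦1⟧) is distinguished if and only if T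
and T' are both distinguished. -/
theorem result {D : Type u} [Category.{v} D] [Preadditive D] [HasZeroObject D] [HasShift D ℤ]
    [∀ n : ℤ, (shiftFunctor D n).Additive] [Pretriangulated D]
    (T T' : Triangle D) :
    Triangle.mk (biprod.map T.mor₁ T'.mor₁) (biprod.map T.mor₂ T'.mor₂)
        (biprod.desc (T.mor₃ ≫ (shiftFunctor D (1 : ℤ)).map biprod.inl) (T'.mor₃ ≫ (shiftFunctor D (1 : ℤ)).map biprod.inr)) ∈ distinguishedTriangles ↔
      (T ∈ distinguishedTriangles ∧ T' ∈ distinguishedTriangles) := by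
  exact main T.mor₁ T.mor₂ T.mor₃ T'.mor₁ T'.mor₂ T'.mor₃

end Groth.Agent.S6581
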