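import Groth.Statements.S6583
import Mathlib

set_option autoImplicit false
universe v u v' u'
open CategoryTheory CategoryTheory.Limits
open CohDer

namespace Groth.Agent.S6583

set_option backward.defeqAttrib.useBackward true in
set_option backward.isDefEq.respectTransparency false in
open CategoryTheory.Pretriangulated ZeroObject Category Preadditive in
theorem general {D : Type u} [Category.{v} D] [Preadditive D] [HasZeroObject D] [HasShift D ℤ]
    [∀ n : ℤ, (shiftFunctor D n).Additive] [Pretriangulated D]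
    {A : Type u'} [Category.{v'} A] [Abelian A] (H : D ⥤ A) [H.IsHomological]
    (R : ℤ → ℤ → Prop)
    (hR1 : ∀ N₁ N₂, ∃ N, ∀ n, R N n → R N₁ n ∧ R N₂ n)
    (hR2 : ∀ N m, ∃ N', ∀ n, R N' n → R N (m + n)) :
    (ObjectProperty.IsTriangulated (fun X : D => ∃ N : ℤ, ∀ n : ℤ, R N n → IsZero (H.obj ((shiftFunctor D n).obj X)))) ∧
    (ObjectProperty.IsClosedUnderIsomorphisms (fun X : D => ∃ N : ℤ, ∀ n : ℤ, R N n → IsZero (H.obj ((shiftFunctor D n).obj X)))) ∧
    (∀ X Y : D, (∃ N : ℤ, ∀ n : ℤ, R N n → IsZero (H.obj ((shiftFunctor D n).obj (X ⊞ Y)))) →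
      (∃ N : ℤ, ∀ n : ℤ, R N n → IsZero (H.obj ((shiftFunctor D n).obj X))) ∧
      (∃ N : ℤ, ∀ n : ℤ, R N n → IsZero (H.obj ((shiftFunctor D n).obj Y)))) := by
  have hiso : ObjectProperty.IsClosedUnderIsomorphisms (fun X : D => ∃ N : ℤ, ∀ n : ℤ, R N n →
      IsZero (H.obj ((shiftFunctor D n).obj X))) :=
    ⟨fun e ⟨N, hN⟩ => ⟨N, fun n hn =>
      (hN n hn).of_iso (H.mapIso ((shiftFunctor D n).mapIso e)).symm⟩⟩
  refine ⟨?_, hiso, ?_⟩
  · have h2 : ObjectProperty.IsTriangulatedClosed₂ (fun X : D => ∃ N : ℤ, ∀ n : ℤ, R N n →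
        IsZero (H.obj ((shiftFunctor D n).obj X))) :=
      ObjectProperty.IsTriangulatedClosed₂.mk' (fun T hT ⟨N₁, h₁⟩ ⟨N₃, h₃⟩ => by
        obtain ⟨N, hN⟩ := hR1 N₁ N₃
        refine ⟨N, fun n hn => ?_⟩
        have hT' := Triangle.shift_distinguished T hT n
        have hex := H.map_distinguished_exact _ hT'
        exact hex.isZero_of_both_isZero (h₁ n (hN n hn).1) (h₃ n (hN n hn).2))
    exact
      { exists_zero := ⟨0, isZero_zero _, 0, fun n _ =>
          H.map_isZero ((shiftFunctor D n).map_isZero (isZero_zero _))⟩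
        isStableUnderShiftBy := fun m => ⟨fun X ⟨N, hN⟩ => by
          obtain ⟨N', hN'⟩ := hR2 N m
          refine ⟨N', fun n hn => ?_⟩
          exact (hN _ (hN' n hn)).of_iso (H.mapIso ((shiftFunctorAdd D m n).app X)).symm⟩
        ext₂' := h2.ext₂' }
  · rintro X Y ⟨N, hN⟩
    constructor
    · refine ⟨N, fun n hn => ?_⟩
      have h := hN n hn
      rw [IsZero.iff_id_eq_zero, ← H.map_id, ← (shiftFunctor D n).map_id, ← biprod.inl_fst (X := X) (Y := Y),
        Functor.map_comp, H.map_comp, h.eq_of_tgt (H.map ((shiftFunctor D n).map biprod.inl)) 0,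
        zero_comp]
    · refine ⟨N, fun n hn => ?_⟩
      have h := hN n hn
      rw [IsZero.iff_id_eq_zero, ← H.map_id, ← (shiftFunctor D n).map_id, ← biprod.inr_snd (X := X) (Y := Y),
        Functor.map_comp, H.map_comp, h.eq_of_tgt (H.map ((shiftFunctor D n).map biprod.inr)) 0,
        zero_comp]

open CategoryTheory.Pretriangulated in
/-- Let H : D ⥤ A be a homological functor from a pretriangulated category to an abelian category. The
full subcategory of D on the objects X with H(X⟦n⟧) = 0 for all n ≪ 0 is a strictly full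
pretriangulated subcategory (zero object, stable under shifts and isomorphisms, closed under
extensions) and is saturated: if X ⊞ Y belongs to it then so do X and Y. -/
theorem result {D : Type u} [Category.{v} D] [Preadditive D] [HasZeroObject D] [HasShift D ℤ]
    [∀ n : ℤ, (shiftFunctor D n).Additive] [Pretriangulated D]
    {A : Type u'} [Category.{v'} A] [Abelian A] (H : D ⥤ A) [H.IsHomological] :
    (ObjectProperty.IsTriangulated (fun X : D => ∃ N : ℤ, ∀ n : ℤ, n ≤ N → IsZero (H.obj ((shiftFunctor D n).obj X)))) ∧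
    (ObjectProperty.IsClosedUnderIsomorphisms (fun X : D => ∃ N : ℤ, ∀ n : ℤ, n ≤ N → IsZero (H.obj ((shiftFunctor D n).obj X)))) ∧
    (∀ X Y : D, (∃ N : ℤ, ∀ n : ℤ, n ≤ N → IsZero (H.obj ((shiftFunctor D n).obj (X ⊞ Y)))) →
      (∃ N : ℤ, ∀ n : ℤ, n ≤ N → IsZero (H.obj ((shiftFunctor D n).obj X))) ∧
      (∃ N : ℤ, ∀ n : ℤ, n ≤ N → IsZero (H.obj ((shiftFunctor D n).obj Y)))) := by
  refine general H (fun N n => n ≤ N) ?_ ?_
  · intro N₁ N₂
    exact ⟨min N₁ N₂, fun n hn => ⟨le_trans hn (min_le_left _ _), le_trans hn (min_le_right _ _)⟩⟩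
  · intro N m
    exact ⟨N - m, fun n hn => by omega⟩

end Groth.Agent.S6583
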