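import Groth.Statements.S6585
import Mathlib

set_option autoImplicit false
universe v u
open CategoryTheory CategoryTheory.Limits
open CohDer

namespace Groth.Agent.S6585

set_option backward.defeqAttrib.useBackward true in
set_option backward.isDefEq.respectTransparency false in
open CategoryTheory.Pretriangulated ZeroObject Category Preadditive in
/-- Let D be a triangulated category and E, K objects of D. Then Hom(E, K⟦i⟧) = 0 for all integers i if
and only if Hom(E', K) = 0 for every E' in ⟨E⟩, the smallest strictly full saturated triangulated
subcategory of D containing E (the objects obtained from E by shifts, finite direct sums, direct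
summands and extensions). -/
theorem result {D : Type u} [Category.{v} D] [Preadditive D] [HasZeroObject D] [HasShift D ℤ]
    [∀ n : ℤ, (shiftFunctor D n).Additive] [Pretriangulated D] [IsTriangulated D]
    (E K : D) :
    (∀ (i : ℤ) (f : E ⟶ (shiftFunctor D i).obj K), f = 0) ↔
      ∀ (E' : D), (ObjectProperty.singleton E).triangEnvelope E' → ∀ f : E' ⟶ K, f = 0 := by
  let R : ObjectProperty D := (ObjectProperty.singleton K).shiftClosure ℤ
  have hRK : R K := ObjectProperty.le_shiftClosure _ K (by simp)
  have hret : R.leftOrthogonal.IsStableUnderRetracts := ⟨fun {X Y} r hY B f hB => by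
    have h0 : r.r ≫ f = 0 := hY _ hB
    calc f = (r.i ≫ r.r) ≫ f := by rw [r.retract, id_comp]
      _ = 0 := by rw [assoc, h0, comp_zero]⟩
  constructor
  · intro h E' hE' f
    have hle : ObjectProperty.singleton E ≤ R.leftOrthogonal := by
      rw [ObjectProperty.singleton_le_iff]
      rintro Y f ⟨Y₀, a, e, hY₀⟩
      rw [ObjectProperty.singleton_iff] at hY₀
      subst hY₀
      rw [← cancel_mono e.hom, zero_comp]
      exact h a _
    have := (ObjectProperty.triangEnvelope_le_iff (P := ObjectProperty.singleton E)
      (Q := R.leftOrthogonal)).2 hle
    exact this E' hE' f hRK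
  · intro h i f
    have hE : (ObjectProperty.singleton E).triangEnvelope E :=
      ObjectProperty.le_triangEnvelope _ E (by simp)
    have hE' : (ObjectProperty.singleton E).triangEnvelope ((shiftFunctor D (-i)).obj E) :=
      (ObjectProperty.singleton E).triangEnvelope.le_shift (-i) _ hE
    have h0 := h _ hE' ((shiftFunctor D (-i)).map f ≫
      (shiftFunctorCompIsoId D i (-i) (by simp)).hom.app K)
    apply (shiftFunctor D (-i)).map_injective
    rw [Functor.map_zero, ← cancel_mono ((shiftFunctorCompIsoId D i (-i) (by simp)).hom.app K),
      zero_comp]
    exact h0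

end Groth.Agent.S6585
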