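import Mathlib
import Groth.Statements.S6587

set_option autoImplicit false
universe v u
open CategoryTheory CategoryTheory.Limits Opposite
open CohDer

namespace Groth.Agent.S6587

open CategoryTheory.Pretriangulated in
/-- Let D be a triangulated category and let X_n → Y_n → Z_n → X_n⟦1⟧ be an inverse system of
distinguished triangles of D indexed by ℕ (levelwise maps f, g, h of inverse systems, each level
distinguished). If the inverse system (Z_n) is pro-zero, then the levelwise map f : (X_n) → (Y_n) is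
a pro-isomorphism. -/
theorem result {D : Type u} [Category.{v} D] [Preadditive D] [HasZeroObject D] [HasShift D ℤ]
    [∀ n : ℤ, (shiftFunctor D n).Additive] [Pretriangulated D] [IsTriangulated D]
    (X Y Z : ARSys.PS D) (f : X ⟶ Y) (g : Y ⟶ Z) (h : Z ⟶ X ⋙ shiftFunctor D (1 : ℤ))
    (hT : ∀ n : ℕ, Triangle.mk (f.app (op n)) (g.app (op n)) (h.app (op n)) ∈ distinguishedTriangles)
    (hZ : DerCA.IsProZero Z) :
    DerCA.IsProIso f := by
  intro n
  obtain ⟨p, hnp, hz1⟩ := hZ n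
  obtain ⟨m, hpm, hz2⟩ := hZ p
  -- naturality facts
  have natf : ∀ {a b : ℕ} (hab : a ≤ b), ARSys.tr X hab ≫ f.app (op a) = f.app (op b) ≫ ARSys.tr Y hab :=
    fun hab => (f.naturality (homOfLE hab).op)
  have natg : ∀ {a b : ℕ} (hab : a ≤ b), ARSys.tr Y hab ≫ g.app (op a) = g.app (op b) ≫ ARSys.tr Z hab :=
    fun hab => (g.naturality (homOfLE hab).op)
  have nath : ∀ {a b : ℕ} (hab : a ≤ b), ARSys.tr Z hab ≫ h.app (op a) =
      h.app (op b) ≫ (shiftFunctor D (1 : ℤ)).map (ARSys.tr X hab) :=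
    fun hab => (h.naturality (homOfLE hab).op)
  have trX : ∀ {a b c : ℕ} (hab : a ≤ b) (hbc : b ≤ c), ARSys.tr X hbc ≫ ARSys.tr X hab =
      ARSys.tr X (hab.trans hbc) := by
    intro a b c hab hbc
    rw [ARSys.tr, ARSys.tr, ← X.map_comp]
    rfl
  have trY : ∀ {a b c : ℕ} (hab : a ≤ b) (hbc : b ≤ c), ARSys.tr Y hbc ≫ ARSys.tr Y hab =
      ARSys.tr Y (hab.trans hbc) := by
    intro a b c hab hbc
    rw [ARSys.tr, ARSys.tr, ← Y.map_comp]
    rfl
  -- step 1: tr_Y (m → p) factors through f_p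
  have e1 : ARSys.tr Y hpm ≫ g.app (op p) = 0 := by
    rw [natg hpm, hz2, comp_zero]
  obtain ⟨b', hb'⟩ : ∃ b' : Y.obj (op m) ⟶ X.obj (op p), ARSys.tr Y hpm = b' ≫ f.app (op p) :=
    Pretriangulated.Triangle.coyoneda_exact₂ _ (hT p) (ARSys.tr Y hpm) e1
  refine ⟨m, hnp.trans hpm, b' ≫ ARSys.tr X hnp, ?_, ?_⟩
  · -- f_m ≫ b' ≫ tr = tr
    have hδ : (f.app (op m) ≫ b' - ARSys.tr X hpm) ≫ f.app (op p) = 0 := by
      rw [Preadditive.sub_comp, Category.assoc, ← hb', natf hpm, sub_self]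
    let ι : ∀ q : ℕ, (shiftFunctor D (-1 : ℤ)).obj (Z.obj (op q)) ⟶ X.obj (op q) := fun q =>
      (Triangle.mk (f.app (op q)) (g.app (op q)) (h.app (op q))).invRotate.mor₁
    obtain ⟨ε, hε⟩ : ∃ ε : X.obj (op m) ⟶ (shiftFunctor D (-1 : ℤ)).obj (Z.obj (op p)),
        f.app (op m) ≫ b' - ARSys.tr X hpm = ε ≫ ι p :=
      Pretriangulated.Triangle.coyoneda_exact₂ _
        (Pretriangulated.inv_rot_of_distTriang _ (hT p)) (f.app (op m) ≫ b' - ARSys.tr X hpm) hδ
    -- morphism of triangles T_p ⟶ T_n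
    let τ : Triangle.mk (f.app (op p)) (g.app (op p)) (h.app (op p)) ⟶
        Triangle.mk (f.app (op n)) (g.app (op n)) (h.app (op n)) :=
      Triangle.homMk _ _ (ARSys.tr X hnp) (ARSys.tr Y hnp) (ARSys.tr Z hnp)
        (natf hnp).symm (natg hnp).symm (nath hnp).symm
    have hτ : ι p ≫ ARSys.tr X hnp = (shiftFunctor D (-1 : ℤ)).map (ARSys.tr Z hnp) ≫ ι n :=
      ((Pretriangulated.invRotate D).map τ).comm₁
    have hzero : (f.app (op m) ≫ b' - ARSys.tr X hpm) ≫ ARSys.tr X hnp = 0 := by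
      rw [hε, Category.assoc, hτ, hz1, Functor.map_zero, zero_comp, comp_zero]
    rw [Preadditive.sub_comp, sub_eq_zero, Category.assoc, trX hnp hpm] at hzero
    exact hzero
  · rw [Category.assoc, natf hnp, ← Category.assoc, ← hb', trY hnp hpm]

end Groth.Agent.S6587
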