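import Groth.Statements.S6615
import Mathlib

set_option autoImplicit false
universe v u
open CategoryTheory CategoryTheory.Limits Opposite
open CohDer

namespace Groth.Agent.S6615
section helpers
open Opposite
set_option linter.unusedSectionVars false
open CategoryTheory CategoryTheory.Limits Opposite CategoryTheory.Pretriangulated ZeroObject

section basic
variable {D : Type u} [Category.{v} D]

lemma tr_comp (X : ARSys.PS D) {n m k : ℕ} (h₁ : n ≤ m) (h₂ : m ≤ k) :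
    ARSys.tr X h₂ ≫ ARSys.tr X h₁ = ARSys.tr X (h₁.trans h₂) := by
  unfold ARSys.tr
  rw [← X.map_comp]
  rfl

lemma tr_refl (X : ARSys.PS D) (n : ℕ) : ARSys.tr X (le_refl n) = 𝟙 _ := by
  unfold ARSys.tr
  rw [← X.map_id]
  rfl

lemma tr_nat {X Y : ARSys.PS D} (φ : X ⟶ Y) {n m : ℕ} (h : n ≤ m) :
    φ.app (op m) ≫ ARSys.tr Y h = ARSys.tr X h ≫ φ.app (op n) :=
  (φ.naturality _).symm

lemma cone_tr {X : ARSys.PS D} {A : D} (c : (Functor.const ℕᵒᵖ).obj A ⟶ X) {n m : ℕ} (h : n ≤ m) :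
    c.app (op m) ≫ ARSys.tr X h = c.app (op n) := by
  have := c.naturality (homOfLE h).op
  simp only [Functor.const_obj_obj, Functor.const_obj_map, Category.id_comp] at this
  exact this.symm

/-- packaged essentially constant data -/
structure EC (X : ARSys.PS D) (A : D) where
  c : (Functor.const ℕᵒᵖ).obj A ⟶ X
  i : ℕ
  s : X.obj (op i) ⟶ A
  cs : c.app (op i) ≫ s = 𝟙 A
  fac : ∀ j : ℕ, ∃ (k : ℕ) (hi : i ≤ k) (hj : j ≤ k), ARSys.tr X hj = ARSys.tr X hi ≫ s ≫ c.app (op j)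

variable {X : ARSys.PS D} {A : D} (E : EC X A)

def EC.α (n : ℕ) (hn : E.i ≤ n) : X.obj (op n) ⟶ A := ARSys.tr X hn ≫ E.s

def EC.cc (n : ℕ) : A ⟶ X.obj (op n) := E.c.app (op n)

lemma EC.cc_tr {n m : ℕ} (h : n ≤ m) : E.cc m ≫ ARSys.tr X h = E.cc n := cone_tr E.c h

lemma EC.tr_α {n m : ℕ} (hn : E.i ≤ n) (hnm : n ≤ m) :
    ARSys.tr X hnm ≫ E.α n hn = E.α m (hn.trans hnm) := by
  unfold EC.α
  rw [← Category.assoc, tr_comp]

lemma EC.c_α (n : ℕ) (hn : E.i ≤ n) : E.cc n ≫ E.α n hn = 𝟙 A := by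
  unfold EC.α EC.cc
  rw [← Category.assoc, cone_tr, E.cs]

lemma EC.fac' (j : ℕ) : ∃ k : ℕ, E.i ≤ k ∧ j ≤ k ∧ ∀ (k' : ℕ) (_ : k ≤ k') (hj' : j ≤ k')
    (hi' : E.i ≤ k'), ARSys.tr X hj' = E.α k' hi' ≫ E.cc j := by
  obtain ⟨k, hi, hj, hk⟩ := E.fac j
  refine ⟨k, hi, hj, ?_⟩
  intro k' hk' hj' hi'
  unfold EC.α EC.cc
  rw [← tr_comp X hj hk', hk, ← tr_comp X hi hk']
  simp only [Category.assoc]

end basic


section tri
variable {D : Type u} [Category.{v} D] [Preadditive D] [HasZeroObject D] [HasShift D ℤ]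
    [∀ n : ℤ, (shiftFunctor D n).Additive] [Pretriangulated D]

lemma yoneda_exact₁' (T : Triangle D) (hT : T ∈ distTriang D) {W : D} (x : T.obj₁ ⟶ W)
    (hx : T.mor₃ ≫ x⟦(1:ℤ)⟧' = 0) : ∃ g : T.obj₂ ⟶ W, x = T.mor₁ ≫ g := by
  obtain ⟨b, hb1, _⟩ := complete_distinguished_triangle_morphism₂ T
    (Triangle.mk (𝟙 W) (0 : W ⟶ 0) 0) hT
    (contractible_distinguished W) x 0 (by
      rw [zero_comp]
      exact hx)
  exact ⟨b, (Category.comp_id x).symm.trans hb1.symm⟩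

theorem main6615 (X Y Z : ARSys.PS D) (f : X ⟶ Y) (g : Y ⟶ Z) (h : Z ⟶ X ⋙ shiftFunctor D (1 : ℤ))
    (hT : ∀ n : ℕ, Triangle.mk (f.app (op n)) (g.app (op n)) (h.app (op n)) ∈ distinguishedTriangles)
    (hX : ∃ (A : D) (cA : (Functor.const ℕᵒᵖ).obj A ⟶ X), DerCA.IsEssConstant X A cA)
    (hZ : ∃ (C : D) (cC : (Functor.const ℕᵒᵖ).obj C ⟶ Z), DerCA.IsEssConstant Z C cC) :
    ∃ (B : D) (cB : (Functor.const ℕᵒᵖ).obj B ⟶ Y), DerCA.IsEssConstant Y B cB := by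
  obtain ⟨A, cA, iA, sA, csA, facA⟩ := hX
  obtain ⟨C, cC, iC, sC, csC, facC⟩ := hZ
  let EA : EC X A := ⟨cA, iA, sA, csA, facA⟩
  let EZ : EC Z C := ⟨cC, iC, sC, csC, facC⟩
  have hnat : ∀ {n m : ℕ} (hnm : n ≤ m),
      h.app (op m) ≫ (ARSys.tr X hnm)⟦(1:ℤ)⟧' = ARSys.tr Z hnm ≫ h.app (op n) :=
    fun hnm => (h.naturality _).symm
  set N₀ := max iA iC with hN₀
  have hA0 : EA.i ≤ N₀ := le_max_left _ _
  have hC0 : EZ.i ≤ N₀ := le_max_right _ _
  let δ : C ⟶ A⟦(1:ℤ)⟧ := EZ.cc N₀ ≫ h.app (op N₀) ≫ (EA.α N₀ hA0)⟦(1:ℤ)⟧'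
  have δ_eq : ∀ (n : ℕ) (hn : N₀ ≤ n),
      δ = EZ.cc n ≫ h.app (op n) ≫ (EA.α n (hA0.trans hn))⟦(1:ℤ)⟧' := by
    intro n hn
    rw [← EA.tr_α hA0 hn, Functor.map_comp, ← Category.assoc (h.app (op n)), hnat hn,
      Category.assoc, ← Category.assoc, EZ.cc_tr]
  obtain ⟨N, hNC, hN0, hNfac⟩ := EZ.fac' N₀
  have hNA : EA.i ≤ N := hA0.trans hN0
  have hα : ∀ (k : ℕ) (hk : N ≤ k),
      h.app (op k) ≫ (EA.α k (hNA.trans hk))⟦(1:ℤ)⟧' = EZ.α k (hNC.trans hk) ≫ δ := by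
    intro k hk
    rw [← EA.tr_α hA0 (hN0.trans hk), Functor.map_comp, ← Category.assoc, hnat,
      hNfac k hk (hN0.trans hk) (hNC.trans hk)]
    simp only [Category.assoc]
    rfl
  obtain ⟨B, a, b, hdist⟩ := distinguished_cocone_triangle₂ δ
  have hex : ∃ t : Y.obj (op N) ⟶ B, f.app (op N) ≫ t = EA.α N hNA ≫ a ∧
      g.app (op N) ≫ EZ.α N hNC = t ≫ b :=
    complete_distinguished_triangle_morphism₂ _ _ (hT N) hdist
      (EA.α N hNA) (EZ.α N hNC) (hα N le_rfl)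
  obtain ⟨t, ht1, ht2⟩ := hex
  -- level k versions
  have hft : ∀ (k : ℕ) (hk : N ≤ k),
      f.app (op k) ≫ ARSys.tr Y hk ≫ t = EA.α k (hNA.trans hk) ≫ a := by
    intro k hk
    rw [← Category.assoc, tr_nat f hk, Category.assoc, ht1, ← Category.assoc, EA.tr_α]
  have hgt : ∀ (k : ℕ) (hk : N ≤ k),
      g.app (op k) ≫ EZ.α k (hNC.trans hk) = (ARSys.tr Y hk ≫ t) ≫ b := by
    intro k hk
    rw [Category.assoc, ← ht2, ← Category.assoc, ← tr_nat g hk, Category.assoc, EZ.tr_α]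
  have hab : a ≫ b = 0 := comp_distTriang_mor_zero₁₂ _ hdist
  have hbδ : b ≫ δ = 0 := comp_distTriang_mor_zero₂₃ _ hdist
  -- injectivity
  have inj : ∀ {W : D} (q : B ⟶ W) (k : ℕ) (hk : N ≤ k), (ARSys.tr Y hk ≫ t) ≫ q = 0 → q = 0 := by
    intro W q k hk h0
    have h1 : a ≫ q = 0 := by
      have : EA.α k (hNA.trans hk) ≫ a ≫ q = 0 := by
        rw [← Category.assoc, ← hft k hk, Category.assoc, Category.assoc]
        rw [Category.assoc] at h0
        rw [h0, comp_zero]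
      have h2 := congrArg (fun z => EA.cc k ≫ z) this
      simp only [comp_zero] at h2
      rw [← Category.assoc, EA.c_α, Category.id_comp] at h2
      exact h2
    obtain ⟨q', hq'⟩ := Triangle.yoneda_exact₂ _ hdist q h1
    change q = b ≫ q' at hq'
    have h3 : g.app (op k) ≫ (EZ.α k (hNC.trans hk) ≫ q') = 0 := by
      rw [← Category.assoc, hgt k hk, Category.assoc, ← hq', h0]
    obtain ⟨x, hx⟩ := Triangle.yoneda_exact₃ _ (hT k) (EZ.α k (hNC.trans hk) ≫ q') h3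
    change EZ.α k (hNC.trans hk) ≫ q' = h.app (op k) ≫ x at hx
    obtain ⟨k', hk'A, hk'k, hk'fac⟩ := EA.fac' k
    have hNk' : N ≤ k' := hk.trans hk'k
    let x' : A⟦(1:ℤ)⟧ ⟶ W := (EA.cc k)⟦(1:ℤ)⟧' ≫ x
    have h4 : EZ.α k' (hNC.trans hNk') ≫ q' = EZ.α k' (hNC.trans hNk') ≫ δ ≫ x' := by
      calc EZ.α k' (hNC.trans hNk') ≫ q'
          = ARSys.tr Z hk'k ≫ (EZ.α k (hNC.trans hk) ≫ q') := by
            rw [← EZ.tr_α (hNC.trans hk) hk'k, Category.assoc]
        _ = (h.app (op k') ≫ (ARSys.tr X hk'k)⟦(1:ℤ)⟧') ≫ x := by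
            rw [hx, hnat hk'k, Category.assoc]
        _ = (h.app (op k') ≫ (EA.α k' hk'A)⟦(1:ℤ)⟧') ≫ x' := by
            rw [hk'fac k' le_rfl hk'k hk'A, Functor.map_comp]
            simp only [x', Category.assoc]
        _ = EZ.α k' (hNC.trans hNk') ≫ δ ≫ x' := by
            rw [hα k' hNk', Category.assoc]
    have h5 : q' = δ ≫ x' := by
      have h6 := congrArg (fun z => EZ.cc k' ≫ z) h4
      simp only [← Category.assoc] at h6
      rw [EZ.c_α, Category.id_comp, Category.id_comp] at h6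
      exact h6
    rw [hq', h5, ← Category.assoc, hbδ, zero_comp]
  have hhf : ∀ n : ℕ, h.app (op n) ≫ (f.app (op n))⟦(1:ℤ)⟧' = 0 := fun n =>
    comp_distTriang_mor_zero₃₁ _ (hT n)
  have surj : ∀ {W : D} (n : ℕ) (y : Y.obj (op n) ⟶ W), ∃ (q : B ⟶ W) (k : ℕ) (hk : N ≤ k)
      (hn : n ≤ k), (ARSys.tr Y hk ≫ t) ≫ q = ARSys.tr Y hn ≫ y := by
    intro W n y
    let x : A ⟶ W := EA.cc n ≫ f.app (op n) ≫ y
    obtain ⟨m, hmA, hmn, hmfac⟩ := EA.fac' n
    have hδx : δ ≫ x⟦(1:ℤ)⟧' = 0 := by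
      let m' := max m N₀
      have hm'm : m ≤ m' := le_max_left _ _
      have hm'0 : N₀ ≤ m' := le_max_right _ _
      have e1 : EA.α m' (hA0.trans hm'0) ≫ x = f.app (op m') ≫ ARSys.tr Y (hmn.trans hm'm) ≫ y := by
        simp only [x]
        rw [← Category.assoc, ← hmfac m' hm'm (hmn.trans hm'm) (hA0.trans hm'0), ← Category.assoc,
          ← tr_nat f, Category.assoc]
      rw [δ_eq m' hm'0]
      simp only [Category.assoc]
      rw [← Functor.map_comp, e1, Functor.map_comp, ← Category.assoc (h.app (op m')), hhf,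
        zero_comp, comp_zero]
    have hex1 : ∃ q₁ : B ⟶ W, x = a ≫ q₁ := yoneda_exact₁' _ hdist x hδx
    obtain ⟨q₁, hq₁⟩ := hex1
    let k := max (max m N₀) N
    have hkm : m ≤ k := (le_max_left _ _).trans (le_max_left _ _)
    have hkN : N ≤ k := le_max_right _ _
    have hkn : n ≤ k := hmn.trans hkm
    have e2 : f.app (op k) ≫ (ARSys.tr Y hkn ≫ y - (ARSys.tr Y hkN ≫ t) ≫ q₁) = 0 := by
      rw [Preadditive.comp_sub, sub_eq_zero]
      calc f.app (op k) ≫ ARSys.tr Y hkn ≫ y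
          = ARSys.tr X hkn ≫ f.app (op n) ≫ y := by
            rw [← Category.assoc, tr_nat f hkn, Category.assoc]
        _ = EA.α k (hNA.trans hkN) ≫ x := by
            rw [hmfac k hkm hkn (hNA.trans hkN), Category.assoc]
        _ = (EA.α k (hNA.trans hkN) ≫ a) ≫ q₁ := by
            rw [hq₁, Category.assoc]
        _ = f.app (op k) ≫ (ARSys.tr Y hkN ≫ t) ≫ q₁ := by
            rw [← hft k hkN, Category.assoc, Category.assoc]
    have hex2 : ∃ z : Z.obj (op k) ⟶ W,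
        ARSys.tr Y hkn ≫ y - (ARSys.tr Y hkN ≫ t) ≫ q₁ = g.app (op k) ≫ z :=
      Triangle.yoneda_exact₂ _ (hT k)
        (ARSys.tr Y hkn ≫ y - (ARSys.tr Y hkN ≫ t) ≫ q₁) e2
    obtain ⟨z, hz⟩ := hex2
    obtain ⟨k', hk'C, hk'k, hk'fac⟩ := EZ.fac' k
    have hk'N : N ≤ k' := hkN.trans hk'k
    refine ⟨q₁ + b ≫ EZ.cc k ≫ z, k', hk'N, hkn.trans hk'k, ?_⟩
    have e3 : ARSys.tr Y hk'k ≫ (ARSys.tr Y hkn ≫ y - (ARSys.tr Y hkN ≫ t) ≫ q₁) =
        (ARSys.tr Y hk'N ≫ t) ≫ b ≫ EZ.cc k ≫ z := by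
      rw [hz, ← Category.assoc, ← tr_nat g hk'k, Category.assoc, hk'fac k' le_rfl hk'k hk'C,
        Category.assoc, ← Category.assoc (g.app (op k')), hgt k' hk'N, Category.assoc]
    have e4 : ARSys.tr Y hk'k ≫ (ARSys.tr Y hkN ≫ t) ≫ q₁ = (ARSys.tr Y hk'N ≫ t) ≫ q₁ := by
      simp only [← Category.assoc]
      rw [tr_comp]
    have e5 : ARSys.tr Y hk'k ≫ ARSys.tr Y hkn ≫ y = ARSys.tr Y (hkn.trans hk'k) ≫ y := by
      rw [← Category.assoc, tr_comp]
    rw [Preadditive.comp_sub, e4, e5, sub_eq_iff_eq_add] at e3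
    rw [e3, Preadditive.comp_add, add_comm]
  have uniq : ∀ {W : D} (q q' : B ⟶ W) (k : ℕ) (hk : N ≤ k),
      (ARSys.tr Y hk ≫ t) ≫ q = (ARSys.tr Y hk ≫ t) ≫ q' → q = q' := by
    intro W q q' k hk hqq
    have := inj (q - q') k hk (by rw [Preadditive.comp_sub, hqq, sub_self])
    exact sub_eq_zero.mp this
  have raise : ∀ {W : D} (q : B ⟶ W) (k k' : ℕ) (hk : N ≤ k) (hkk' : k ≤ k'),
      (ARSys.tr Y (hk.trans hkk') ≫ t) ≫ q = ARSys.tr Y hkk' ≫ (ARSys.tr Y hk ≫ t) ≫ q := by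
    intro W q k k' hk hkk'
    simp only [← Category.assoc]
    rw [tr_comp]
  have hsurj1 : ∀ m : ℕ, ∃ (q : B ⟶ Y.obj (op m)) (k : ℕ) (hk : N ≤ k) (hm : m ≤ k),
      (ARSys.tr Y hk ≫ t) ≫ q = ARSys.tr Y hm := by
    intro m
    obtain ⟨q, k, hk, hm, hq⟩ := surj m (𝟙 (Y.obj (op m)))
    exact ⟨q, k, hk, hm, by rw [hq, Category.comp_id]⟩
  choose cB kk hkN hkm hcB using hsurj1
  have cB_nat : ∀ {m m' : ℕ} (hmm' : m ≤ m'), cB m' ≫ ARSys.tr Y hmm' = cB m := by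
    intro m m' hmm'
    let K := max (kk m) (kk m')
    have h1 : kk m ≤ K := le_max_left _ _
    have h2 : kk m' ≤ K := le_max_right _ _
    apply uniq _ _ K ((hkN m).trans h1)
    have e1 := raise (cB m) (kk m) K (hkN m) h1
    have e2 := raise (cB m') (kk m') K (hkN m') h2
    rw [hcB] at e1 e2
    rw [tr_comp] at e1 e2
    rw [e1, ← Category.assoc, e2, tr_comp]
  let cBn : (Functor.const ℕᵒᵖ).obj B ⟶ Y :=
    { app := fun n => cB n.unop
      naturality := by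
        intro n n' φ
        have hle : n'.unop ≤ n.unop := leOfHom φ.unop
        have hφ : φ = (homOfLE hle).op := Subsingleton.elim _ _
        simp only [Functor.const_obj_obj, Functor.const_obj_map, Category.id_comp]
        rw [hφ]
        exact (cB_nat hle).symm }
  refine ⟨B, cBn, N, t, ?_, ?_⟩
  · change cB N ≫ t = 𝟙 B
    apply uniq _ _ (kk N) (hkN N)
    rw [← Category.assoc, hcB, Category.comp_id]
  · intro j
    refine ⟨kk j, hkN j, hkm j, ?_⟩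
    change ARSys.tr Y (hkm j) = ARSys.tr Y (hkN j) ≫ t ≫ cB j
    rw [← hcB j, Category.assoc]

end tri


end helpers

open CategoryTheory.Pretriangulated in
/-- Essential constancy of the middle system: in a triangulated category D, take an ℕ-indexed inverse
system of distinguished triangles with vertices A_n, B_n, C_n. When (A_n) and (C_n) are both
essentially constant, the middle system (B_n) is too. (The published statement also says the values
fit in a distinguished triangle receiving a map of triangles from some level; this row asserts only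
the essential constancy of the middle system.) -/
theorem result {D : Type u} [Category.{v} D] [Preadditive D] [HasZeroObject D] [HasShift D ℤ]
    [∀ n : ℤ, (shiftFunctor D n).Additive] [Pretriangulated D] [IsTriangulated D]
    (X Y Z : ARSys.PS D) (f : X ⟶ Y) (g : Y ⟶ Z) (h : Z ⟶ X ⋙ shiftFunctor D (1 : ℤ))
    (hT : ∀ n : ℕ, Triangle.mk (f.app (op n)) (g.app (op n)) (h.app (op n)) ∈ distinguishedTriangles)
    (hX : ∃ (A : D) (cA : (Functor.const ℕᵒᵖ).obj A ⟶ X), DerCA.IsEssConstant X A cA)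
    (hZ : ∃ (C : D) (cC : (Functor.const ℕᵒᵖ).obj C ⟶ Z), DerCA.IsEssConstant Z C cC) :
    ∃ (B : D) (cB : (Functor.const ℕᵒᵖ).obj B ⟶ Y), DerCA.IsEssConstant Y B cB := by
  exact main6615 X Y Z f g h hT hX hZ

end Groth.Agent.S6615
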