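import Groth.Statements.S6589
import Mathlib
import Groth.Agent.S6615

set_option autoImplicit false
universe w v u
open CategoryTheory CategoryTheory.Limits Opposite
open CohDer

namespace Groth.Agent.S6589
section helpers
open Opposite
set_option linter.unusedSectionVars false
open CategoryTheory CategoryTheory.Limits Opposite CategoryTheory.Pretriangulated ZeroObject

open DerivedCategory

variable {A : Type u} [Category.{v} A] [Abelian A] [HasDerivedCategory.{w} A]

/-- objects concentrated in degree `b` -/
def Conc (b : ℤ) (W : DerivedCategory A) : Prop := W.IsGE b ∧ W.IsLE b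

lemma conc_of_zero (b : ℤ) (W : DerivedCategory A)
    (h : ∀ i : ℤ, i ≠ b → IsZero ((homologyFunctor A i).obj W)) : Conc b W :=
  ⟨(isGE_iff W b).2 (fun i hi => h i hi.ne), (isLE_iff W b).2 (fun i hi => h i hi.ne')⟩

lemma conc_single (b : ℤ) (M : A) : Conc b ((singleFunctor A b).obj M) :=
  ⟨inferInstance, inferInstance⟩

lemma exists_single (b : ℤ) {W : DerivedCategory A} (hW : Conc b W) :
    ∃ (M : A), Nonempty (W ≅ (singleFunctor A b).obj M) := by
  haveI := hW.1
  haveI := hW.2
  exact exists_iso_singleFunctor_obj_of_isGE_of_isLE W b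

lemma HF_map (b : ℤ) {M M' : A} (u : M ⟶ M') :
    (homologyFunctor A b).map ((singleFunctor A b).map u) =
      (singleFunctorCompHomologyFunctorIso A b).hom.app M ≫ u ≫
        (singleFunctorCompHomologyFunctorIso A b).inv.app M' := by
  have := (singleFunctorCompHomologyFunctorIso A b).hom.naturality u
  dsimp at this
  rw [← Category.assoc, ← this, Category.assoc, Iso.hom_inv_id_app]
  dsimp
  rw [Category.comp_id]

lemma H_faithful (b : ℤ) {W W' : DerivedCategory A} (hW : Conc b W) (hW' : Conc b W')
    (φ ψ : W ⟶ W') (h : (homologyFunctor A b).map φ = (homologyFunctor A b).map ψ) : φ = ψ := by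
  obtain ⟨M, ⟨e⟩⟩ := exists_single b hW
  obtain ⟨M', ⟨e'⟩⟩ := exists_single b hW'
  obtain ⟨u, hu⟩ := (singleFunctor A b).map_surjective (e.inv ≫ φ ≫ e'.hom)
  obtain ⟨u', hu'⟩ := (singleFunctor A b).map_surjective (e.inv ≫ ψ ≫ e'.hom)
  have h1 : (homologyFunctor A b).map ((singleFunctor A b).map u) =
      (homologyFunctor A b).map ((singleFunctor A b).map u') := by
    rw [hu, hu', Functor.map_comp, Functor.map_comp, Functor.map_comp, Functor.map_comp, h]
  rw [HF_map, HF_map] at h1
  have h2 : u = u' := by
    have h3 := congrArg (fun z => (singleFunctorCompHomologyFunctorIso A b).inv.app M ≫ z ≫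
      (singleFunctorCompHomologyFunctorIso A b).hom.app M') h1
    simpa using h3
  have h4 : e.inv ≫ φ ≫ e'.hom = e.inv ≫ ψ ≫ e'.hom := by rw [← hu, ← hu', h2]
  have h5 := congrArg (fun z => e.hom ≫ z ≫ e'.inv) h4
  simpa using h5

lemma H_full (b : ℤ) {W W' : DerivedCategory A} (hW : Conc b W) (hW' : Conc b W')
    (v : (homologyFunctor A b).obj W ⟶ (homologyFunctor A b).obj W') :
    ∃ φ : W ⟶ W', (homologyFunctor A b).map φ = v := by
  obtain ⟨M, ⟨e⟩⟩ := exists_single b hW
  obtain ⟨M', ⟨e'⟩⟩ := exists_single b hW'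
  let η := singleFunctorCompHomologyFunctorIso A b
  let u : M ⟶ M' := η.inv.app M ≫ (homologyFunctor A b).map e.inv ≫ v ≫
    (homologyFunctor A b).map e'.hom ≫ η.hom.app M'
  refine ⟨e.hom ≫ (singleFunctor A b).map u ≫ e'.inv, ?_⟩
  rw [Functor.map_comp, Functor.map_comp, HF_map]
  simp only [u, η, Category.assoc, Iso.hom_inv_id_app_assoc, Iso.hom_inv_id_app]
  simp only [← Functor.map_comp_assoc, ← Functor.map_comp, Iso.hom_inv_id, Functor.map_id,
    Category.id_comp]
  dsimp
  simp


/-- single degree case -/
lemma single_case (b : ℤ) (X : ARSys.PS (DerivedCategory A))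
    (hX : ∀ n : ℕ, Conc b (X.obj (op n)))
    (hH : ∃ (M : A) (c : (Functor.const ℕᵒᵖ).obj M ⟶ X ⋙ homologyFunctor A b),
      DerCA.IsEssConstant (X ⋙ homologyFunctor A b) M c) :
    ∃ (L : DerivedCategory A) (c : (Functor.const ℕᵒᵖ).obj L ⟶ X), DerCA.IsEssConstant X L c := by
  obtain ⟨M, c, i, s, hcs, hfac⟩ := hH
  let η := singleFunctorCompHomologyFunctorIso A b
  let L := (singleFunctor A b).obj M
  have hL : Conc b L := conc_single b M
  have hc' : ∀ n : ℕ, ∃ φ : L ⟶ X.obj (op n),
      (homologyFunctor A b).map φ = η.hom.app M ≫ c.app (op n) := fun n =>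
    H_full b hL (hX n) _
  choose c' hc' using hc'
  obtain ⟨s', hs'⟩ := H_full b (hX i) hL (s ≫ η.inv.app M)
  have hnat : ∀ {n m : ℕ} (h : n ≤ m), c' m ≫ ARSys.tr X h = c' n := by
    intro n m h
    apply H_faithful b hL (hX n)
    rw [Functor.map_comp, hc', hc', Category.assoc]
    congr 1
    exact Groth.Agent.S6615.cone_tr c h
  let cn : (Functor.const ℕᵒᵖ).obj L ⟶ X :=
    { app := fun n => c' n.unop
      naturality := by
        intro n n' φ
        have hle : n'.unop ≤ n.unop := leOfHom φ.unop
        have hφ : φ = (homOfLE hle).op := Subsingleton.elim _ _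
        simp only [Functor.const_obj_obj, Functor.const_obj_map, Category.id_comp]
        rw [hφ]
        exact (hnat hle).symm }
  refine ⟨L, cn, i, s', ?_, ?_⟩
  · change c' i ≫ s' = 𝟙 L
    apply H_faithful b hL hL
    rw [Functor.map_comp, hc', hs', CategoryTheory.Functor.map_id, Category.assoc, ← Category.assoc (c.app (op i)),
      hcs]
    erw [Category.id_comp]
    exact η.hom_inv_id_app M
  · intro j
    obtain ⟨k, hi, hj, hk⟩ := hfac j
    refine ⟨k, hi, hj, ?_⟩
    change ARSys.tr X hj = ARSys.tr X hi ≫ s' ≫ c' j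
    apply H_faithful b (hX k) (hX j)
    rw [Functor.map_comp, Functor.map_comp, hs', hc']
    change ARSys.tr (X ⋙ homologyFunctor A b) hj = ARSys.tr (X ⋙ homologyFunctor A b) hi ≫ _
    rw [hk]
    simp only [Category.assoc]
    congr 2
    rw [← Category.assoc, Iso.inv_hom_id_app]
    dsimp
    rw [Category.id_comp]

/-- transport along an isomorphism of systems -/
lemma essConst_of_iso {C : Type*} [Category C] {X X' : ARSys.PS C} (e : X ≅ X')
    (h : ∃ (M : C) (c : (Functor.const ℕᵒᵖ).obj M ⟶ X), DerCA.IsEssConstant X M c) :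
    ∃ (M : C) (c : (Functor.const ℕᵒᵖ).obj M ⟶ X'), DerCA.IsEssConstant X' M c := by
  obtain ⟨M, c, i, s, hcs, hfac⟩ := h
  refine ⟨M, c ≫ e.hom, i, e.inv.app (op i) ≫ s, ?_, ?_⟩
  · rw [NatTrans.comp_app, Category.assoc, ← Category.assoc (e.hom.app (op i)),
      Iso.hom_inv_id_app, Category.id_comp, hcs]
  · intro j
    obtain ⟨k, hi, hj, hk⟩ := hfac j
    refine ⟨k, hi, hj, ?_⟩
    have h1 : ARSys.tr X' hj = e.inv.app (op k) ≫ ARSys.tr X hj ≫ e.hom.app (op j) := by
      rw [← Groth.Agent.S6615.tr_nat e.hom hj, ← Category.assoc, Iso.inv_hom_id_app, Category.id_comp]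
    have h2 : ARSys.tr X' hi ≫ e.inv.app (op i) = e.inv.app (op k) ≫ ARSys.tr X hi :=
      (Groth.Agent.S6615.tr_nat e.inv hi).symm
    rw [h1, hk, NatTrans.comp_app]
    simp only [Category.assoc]
    rw [← Category.assoc (ARSys.tr X' hi), h2]
    simp only [Category.assoc]


open DerivedCategory.TStructure in
lemma isIso_H_truncLTι (b i : ℤ) (hi : i < b) (W : DerivedCategory A) :
    IsIso ((homologyFunctor A i).map ((t.truncLTι b).app W)) := by
  have hT := t.triangleLTGE_distinguished b W
  have hge : ((t.triangleLTGE b).obj W).obj₃.IsGE b := by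
    change t.IsGE ((t.truncGE b).obj W) b
    infer_instance
  haveI : Mono ((homologyFunctor A i).map ((t.triangleLTGE b).obj W).mor₁) := by
    rw [HomologySequence.mono_homologyMap_mor₁_iff _ hT (i - 1) i (by lia)]
    exact (isZero_of_isGE _ b (i - 1) (by lia)).eq_of_src _ _
  haveI : Epi ((homologyFunctor A i).map ((t.triangleLTGE b).obj W).mor₁) := by
    rw [HomologySequence.epi_homologyMap_mor₁_iff _ hT]
    exact (isZero_of_isGE _ b i hi).eq_of_tgt _ _
  exact isIso_of_mono_of_epi ((homologyFunctor A i).map ((t.triangleLTGE b).obj W).mor₁)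

open DerivedCategory.TStructure in
lemma isIso_H_truncGEπ (b : ℤ) (W : DerivedCategory A) :
    IsIso ((homologyFunctor A b).map ((t.truncGEπ b).app W)) := by
  have hT := t.triangleLTGE_distinguished b W
  have hle : ((t.triangleLTGE b).obj W).obj₁.IsLE (b - 1) := by
    change t.IsLE ((t.truncLT b).obj W) (b - 1)
    infer_instance
  haveI : Mono ((homologyFunctor A b).map ((t.triangleLTGE b).obj W).mor₂) := by
    rw [HomologySequence.mono_homologyMap_mor₂_iff _ hT]
    exact (isZero_of_isLE _ (b - 1) b (by lia)).eq_of_src _ _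
  haveI : Epi ((homologyFunctor A b).map ((t.triangleLTGE b).obj W).mor₂) := by
    rw [HomologySequence.epi_homologyMap_mor₂_iff _ hT b (b + 1) rfl]
    exact (isZero_of_isLE _ (b - 1) (b + 1) (by lia)).eq_of_tgt _ _
  exact isIso_of_mono_of_epi ((homologyFunctor A b).map ((t.triangleLTGE b).obj W).mor₂)


open DerivedCategory.TStructure in
theorem ind (d : ℕ) : ∀ (a : ℤ) (X : ARSys.PS (DerivedCategory A)),
    (∀ (n : ℕ) (i : ℤ), i < a ∨ a + d < i → IsZero ((homologyFunctor A i).obj (X.obj (op n)))) →
    (∀ i : ℤ, a ≤ i → i ≤ a + d →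
      ∃ (B : A) (c : (Functor.const ℕᵒᵖ).obj B ⟶ X ⋙ homologyFunctor A i),
        DerCA.IsEssConstant (X ⋙ homologyFunctor A i) B c) →
    ∃ (L : DerivedCategory A) (c : (Functor.const ℕᵒᵖ).obj L ⟶ X), DerCA.IsEssConstant X L c := by
  induction d with
  | zero =>
    intro a X hX hH
    apply single_case a X
    · intro n
      apply conc_of_zero
      intro i hi
      apply hX n i
      rcases lt_or_gt_of_ne hi with h | h
      · exact Or.inl h
      · right
        simpa using h
    · exact hH a le_rfl (by simp)
  | succ d ih =>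
    intro a X hX hH
    set b : ℤ := a + (d + 1 : ℕ) with hb
    have hXge : ∀ n : ℕ, (X.obj (op n)).IsGE a := fun n =>
      (isGE_iff _ a).2 (fun i hi => hX n i (Or.inl hi))
    have hXle : ∀ n : ℕ, (X.obj (op n)).IsLE b := fun n =>
      (isLE_iff _ b).2 (fun i hi => hX n i (Or.inr hi))
    let Y : ARSys.PS (DerivedCategory A) := X ⋙ t.truncLT b
    let Z : ARSys.PS (DerivedCategory A) := X ⋙ t.truncGE b
    let f : Y ⟶ X :=
      { app := fun n => (t.truncLTι b).app (X.obj n)
        naturality := fun n m φ => (t.truncLTι b).naturality (X.map φ) }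
    let g : X ⟶ Z :=
      { app := fun n => (t.truncGEπ b).app (X.obj n)
        naturality := fun n m φ => (t.truncGEπ b).naturality (X.map φ) }
    let h : Z ⟶ Y ⋙ shiftFunctor (DerivedCategory A) (1 : ℤ) :=
      { app := fun n => (t.truncGEδLT b).app (X.obj n)
        naturality := fun n m φ => (t.truncGEδLT b).naturality (X.map φ) }
    have hT : ∀ n : ℕ, Triangle.mk (f.app (op n)) (g.app (op n)) (h.app (op n)) ∈
        distinguishedTriangles := fun n => t.triangleLTGE_distinguished b (X.obj (op n))
    -- Y
    have hY : ∃ (L : DerivedCategory A) (c : (Functor.const ℕᵒᵖ).obj L ⟶ Y),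
        DerCA.IsEssConstant Y L c := by
      apply ih a Y
      · intro n i hi
        change IsZero ((homologyFunctor A i).obj ((t.truncLT b).obj (X.obj (op n))))
        rcases hi with hi | hi
        · haveI := hXge n
          have : ((t.truncLT b).obj (X.obj (op n))).IsGE a := by
            change t.IsGE _ a
            infer_instance
          exact isZero_of_isGE _ a i hi
        · have : ((t.truncLT b).obj (X.obj (op n))).IsLE (b - 1) := by
            change t.IsLE _ (b - 1)
            infer_instance
          exact isZero_of_isLE _ (b - 1) i (by rw [hb]; push_cast; lia)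
      · intro i hi1 hi2
        have hib : i < b := by rw [hb]; push_cast; lia
        have hiso : ∀ n : ℕᵒᵖ, IsIso ((homologyFunctor A i).map ((t.truncLTι b).app (X.obj n))) :=
          fun n => isIso_H_truncLTι b i hib _
        let e : X ⋙ homologyFunctor A i ≅ Y ⋙ homologyFunctor A i :=
          (NatIso.ofComponents (fun n => @asIso _ _ _ _ _ (hiso n)) (by
            intro n m φ
            dsimp [Y]
            rw [← Functor.map_comp, ← Functor.map_comp]
            congr 1
            exact (t.truncLTι b).naturality (X.map φ))).symm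
        exact essConst_of_iso e (hH i hi1 (by push_cast; lia))
    -- Z
    have hZ : ∃ (L : DerivedCategory A) (c : (Functor.const ℕᵒᵖ).obj L ⟶ Z),
        DerCA.IsEssConstant Z L c := by
      apply single_case b Z
      · intro n
        haveI := hXle n
        constructor
        · change t.IsGE ((t.truncGE b).obj (X.obj (op n))) b
          infer_instance
        · change t.IsLE ((t.truncGE b).obj (X.obj (op n))) b
          infer_instance
      · have hiso : ∀ n : ℕᵒᵖ, IsIso ((homologyFunctor A b).map ((t.truncGEπ b).app (X.obj n))) :=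
          fun n => isIso_H_truncGEπ b _
        let e : X ⋙ homologyFunctor A b ≅ Z ⋙ homologyFunctor A b :=
          NatIso.ofComponents (fun n => @asIso _ _ _ _ _ (hiso n)) (by
            intro n m φ
            dsimp [Z]
            rw [← Functor.map_comp, ← Functor.map_comp]
            congr 1
            exact ((t.truncGEπ b).naturality (X.map φ)))
        exact essConst_of_iso e (hH b (by rw [hb]; push_cast; lia) (by rw [hb]))
    exact Groth.Agent.S6615.result Y X Z f g h hT hY hZ

theorem main6589
    (X : ARSys.PS (DerivedCategory A)) (a b : ℤ) (hab : a ≤ b)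
    (hX : ∀ (n : ℕ) (i : ℤ), i < a ∨ b < i → IsZero ((DerivedCategory.homologyFunctor A i).obj (X.obj (op n))))
    (hH : ∀ i : ℤ, ∃ (B : A) (c : (Functor.const ℕᵒᵖ).obj B ⟶ X ⋙ DerivedCategory.homologyFunctor A i),
      DerCA.IsEssConstant (X ⋙ DerivedCategory.homologyFunctor A i) B c) :
    ∃ (L : DerivedCategory A) (c : (Functor.const ℕᵒᵖ).obj L ⟶ X), DerCA.IsEssConstant X L c := by
  obtain ⟨d, hd⟩ := Int.le.dest hab
  apply ind d a X
  · intro n i hi
    apply hX n i
    rw [← hd]
    exact hi
  · intro i _ _
    exact hH i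


end helpers

/-- Let A be an abelian category and (X_n) an ℕ-indexed inverse system of objects of D(A). Assume (1)
there are a ≤ b with Hⁱ(X_n) = 0 for all n and all i outside [a, b], and (2) for every i the inverse
system Hⁱ(X_n) of A is essentially constant. Then (X_n) is an essentially constant inverse system of
D(A). (The published statement also identifies Hⁱ of the value with the value of the system Hⁱ(X_n);
this row does not assert that identification.) -/
theorem result {A : Type u} [Category.{v} A] [Abelian A] [HasDerivedCategory.{w} A]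
    (X : ARSys.PS (DerivedCategory A)) (a b : ℤ) (hab : a ≤ b)
    (hX : ∀ (n : ℕ) (i : ℤ), i < a ∨ b < i → IsZero ((DerivedCategory.homologyFunctor A i).obj (X.obj (op n))))
    (hH : ∀ i : ℤ, ∃ (B : A) (c : (Functor.const ℕᵒᵖ).obj B ⟶ X ⋙ DerivedCategory.homologyFunctor A i),
      DerCA.IsEssConstant (X ⋙ DerivedCategory.homologyFunctor A i) B c) :
    ∃ (L : DerivedCategory A) (c : (Functor.const ℕᵒᵖ).obj L ⟶ X), DerCA.IsEssConstant X L c := by
  exact main6589 X a b hab hX hH

end Groth.Agent.S6589
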