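import Groth.Statements.S6588
import Mathlib
import Groth.Agent.S6615
import Groth.Agent.S6589

set_option autoImplicit false
universe w v u
open CategoryTheory CategoryTheory.Limits Opposite
open CohDer

namespace Groth.Agent.S6588
section helpers
open Opposite
set_option linter.unusedSectionVars false
open CategoryTheory CategoryTheory.Limits Opposite CategoryTheory.Pretriangulated ZeroObject

open Groth.Agent.S6615 (tr_comp tr_refl tr_nat yoneda_exact₁')

section char
variable {D : Type u} [Category.{v} D] [Preadditive D]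

def PInj {X Y : ARSys.PS D} (φ : X ⟶ Y) : Prop :=
  ∀ (W : D) (n : ℕ) (y : Y.obj (op n) ⟶ W), φ.app (op n) ≫ y = 0 →
    ∃ (m : ℕ) (h : n ≤ m), ARSys.tr Y h ≫ y = 0

def PSurj {X Y : ARSys.PS D} (φ : X ⟶ Y) : Prop :=
  ∀ (W : D) (n : ℕ) (x : X.obj (op n) ⟶ W),
    ∃ (m : ℕ) (h : n ≤ m) (y : Y.obj (op m) ⟶ W), φ.app (op m) ≫ y = ARSys.tr X h ≫ x

lemma pinj_of_proIso {X Y : ARSys.PS D} (φ : X ⟶ Y) (hφ : DerCA.IsProIso φ) : PInj φ := by
  intro W n y hy
  obtain ⟨m, h, b, hb1, hb2⟩ := hφ n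
  refine ⟨m, h, ?_⟩
  rw [← hb2, Category.assoc, hy, comp_zero]

lemma psurj_of_proIso {X Y : ARSys.PS D} (φ : X ⟶ Y) (hφ : DerCA.IsProIso φ) : PSurj φ := by
  intro W n x
  obtain ⟨m, h, b, hb1, hb2⟩ := hφ n
  exact ⟨m, h, b ≫ x, by rw [← Category.assoc, hb1]⟩

lemma proIso_of_pinj_psurj {X Y : ARSys.PS D} (φ : X ⟶ Y) (h1 : PInj φ) (h2 : PSurj φ) :
    DerCA.IsProIso φ := by
  intro n
  obtain ⟨m, hm, b₀, hb₀⟩ := h2 _ n (𝟙 (X.obj (op n)))
  rw [Category.comp_id] at hb₀
  have h3 : φ.app (op m) ≫ (b₀ ≫ φ.app (op n) - ARSys.tr Y hm) = 0 := by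
    rw [Preadditive.comp_sub, ← Category.assoc, hb₀, tr_nat φ hm, sub_self]
  obtain ⟨m', hm', h4⟩ := h1 _ m _ h3
  rw [Preadditive.comp_sub, sub_eq_zero, tr_comp] at h4
  refine ⟨m', hm.trans hm', ARSys.tr Y hm' ≫ b₀, ?_, ?_⟩
  · rw [← Category.assoc, tr_nat φ hm', Category.assoc, hb₀, tr_comp]
  · rw [Category.assoc, h4]

end char


section five
variable {D : Type u} [Category.{v} D] [Preadditive D] [HasZeroObject D] [HasShift D ℤ]
    [∀ n : ℤ, (shiftFunctor D n).Additive] [Pretriangulated D]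

theorem five (X₁ X₂ X₃ Y₁ Y₂ Y₃ : ARSys.PS D)
    (fX : X₁ ⟶ X₂) (gX : X₂ ⟶ X₃) (hX : X₃ ⟶ X₁ ⋙ shiftFunctor D (1:ℤ))
    (fY : Y₁ ⟶ Y₂) (gY : Y₂ ⟶ Y₃) (hY : Y₃ ⟶ Y₁ ⋙ shiftFunctor D (1:ℤ))
    (hTX : ∀ n : ℕ, Triangle.mk (fX.app (op n)) (gX.app (op n)) (hX.app (op n)) ∈ distTriang D)
    (hTY : ∀ n : ℕ, Triangle.mk (fY.app (op n)) (gY.app (op n)) (hY.app (op n)) ∈ distTriang D)
    (φ₁ : X₁ ⟶ Y₁) (φ₂ : X₂ ⟶ Y₂) (φ₃ : X₃ ⟶ Y₃)
    (c1 : ∀ n : ℕ, fX.app (op n) ≫ φ₂.app (op n) = φ₁.app (op n) ≫ fY.app (op n))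
    (c2 : ∀ n : ℕ, gX.app (op n) ≫ φ₃.app (op n) = φ₂.app (op n) ≫ gY.app (op n))
    (c3 : ∀ n : ℕ, hX.app (op n) ≫ (φ₁.app (op n))⟦(1:ℤ)⟧' = φ₃.app (op n) ≫ hY.app (op n))
    (h1 : DerCA.IsProIso φ₁) (h3 : DerCA.IsProIso φ₃) : DerCA.IsProIso φ₂ := by
  have hXnat : ∀ {n m : ℕ} (hnm : n ≤ m),
      hX.app (op m) ≫ (ARSys.tr X₁ hnm)⟦(1:ℤ)⟧' = ARSys.tr X₃ hnm ≫ hX.app (op n) :=
    fun hnm => (hX.naturality _).symm
  have hYnat : ∀ {n m : ℕ} (hnm : n ≤ m),
      hY.app (op m) ≫ (ARSys.tr Y₁ hnm)⟦(1:ℤ)⟧' = ARSys.tr Y₃ hnm ≫ hY.app (op n) :=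
    fun hnm => (hY.naturality _).symm
  have i1 := pinj_of_proIso φ₁ h1
  have i3 := pinj_of_proIso φ₃ h3
  have s1 := psurj_of_proIso φ₁ h1
  have s3 := psurj_of_proIso φ₃ h3
  apply proIso_of_pinj_psurj
  · -- injectivity
    intro W n y hy
    -- step 1
    have e1 : φ₁.app (op n) ≫ (fY.app (op n) ≫ y) = 0 := by
      rw [← Category.assoc, ← c1, Category.assoc, hy, comp_zero]
    obtain ⟨m, hm, e2⟩ := i1 W n _ e1
    let y' : Y₂.obj (op m) ⟶ W := ARSys.tr Y₂ hm ≫ y
    have e3 : fY.app (op m) ≫ y' = 0 := by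
      simp only [y']
      rw [← Category.assoc, tr_nat fY hm, Category.assoc, e2]
    have e4 : φ₂.app (op m) ≫ y' = 0 := by
      simp only [y']
      rw [← Category.assoc, tr_nat φ₂ hm, Category.assoc, hy, comp_zero]
    -- step 2
    have hex1 : ∃ z : Y₃.obj (op m) ⟶ W, y' = gY.app (op m) ≫ z :=
      Triangle.yoneda_exact₂ _ (hTY m) y' e3
    obtain ⟨z, hz⟩ := hex1
    have e5 : gX.app (op m) ≫ (φ₃.app (op m) ≫ z) = 0 := by
      rw [← Category.assoc, c2, Category.assoc, ← hz, e4]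
    have hex2 : ∃ x : (X₁.obj (op m))⟦(1:ℤ)⟧ ⟶ W, φ₃.app (op m) ≫ z = hX.app (op m) ≫ x :=
      Triangle.yoneda_exact₃ _ (hTX m) _ e5
    obtain ⟨x, hx⟩ := hex2
    -- step 3
    obtain ⟨m', hm', b, hb1, hb2⟩ := h1 m
    let yy : (Y₁.obj (op m'))⟦(1:ℤ)⟧ ⟶ W := b⟦(1:ℤ)⟧' ≫ x
    have e6 : (φ₁.app (op m'))⟦(1:ℤ)⟧' ≫ yy = (ARSys.tr X₁ hm')⟦(1:ℤ)⟧' ≫ x := by
      simp only [yy]
      rw [← Category.assoc, ← Functor.map_comp, hb1]
    let z' : Y₃.obj (op m') ⟶ W := ARSys.tr Y₃ hm' ≫ z - hY.app (op m') ≫ yy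
    have e7 : φ₃.app (op m') ≫ z' = 0 := by
      simp only [z']
      rw [Preadditive.comp_sub, sub_eq_zero]
      calc φ₃.app (op m') ≫ ARSys.tr Y₃ hm' ≫ z
          = ARSys.tr X₃ hm' ≫ φ₃.app (op m) ≫ z := by
            rw [← Category.assoc, tr_nat φ₃ hm', Category.assoc]
        _ = (hX.app (op m') ≫ (ARSys.tr X₁ hm')⟦(1:ℤ)⟧') ≫ x := by
            rw [hx, hXnat hm', Category.assoc]
        _ = (hX.app (op m') ≫ (φ₁.app (op m'))⟦(1:ℤ)⟧') ≫ yy := by
            rw [Category.assoc, Category.assoc, e6]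
        _ = φ₃.app (op m') ≫ hY.app (op m') ≫ yy := by
            rw [c3, Category.assoc]
    -- step 4
    obtain ⟨m'', hm'', e8⟩ := i3 W m' z' e7
    simp only [z'] at e8
    rw [Preadditive.comp_sub, sub_eq_zero, ← Category.assoc, tr_comp] at e8
    -- step 5
    refine ⟨m'', hm.trans (hm'.trans hm''), ?_⟩
    have gh : gY.app (op m'') ≫ hY.app (op m'') = 0 := comp_distTriang_mor_zero₂₃ _ (hTY m'')
    have e9 : ARSys.tr Y₂ (hm'.trans hm'') ≫ y' = 0 := by
      rw [hz, ← Category.assoc, ← tr_nat gY, Category.assoc, e8, ← Category.assoc (ARSys.tr Y₃ hm''),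
        ← hYnat hm'', Category.assoc, ← Category.assoc (gY.app (op m'')), gh, zero_comp]
    simp only [y'] at e9
    rw [← Category.assoc, tr_comp] at e9
    exact e9
  · -- surjectivity
    intro W n x
    obtain ⟨m, hm, y1, hy1⟩ := s1 W n (fX.app (op n) ≫ x)
    have hf : hX.app (op m) ≫ (fX.app (op m))⟦(1:ℤ)⟧' = 0 :=
      comp_distTriang_mor_zero₃₁ _ (hTX m)
    have e1 : φ₃.app (op m) ≫ (hY.app (op m) ≫ y1⟦(1:ℤ)⟧') = 0 := by
      calc φ₃.app (op m) ≫ (hY.app (op m) ≫ y1⟦(1:ℤ)⟧')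
          = hX.app (op m) ≫ (φ₁.app (op m) ≫ y1)⟦(1:ℤ)⟧' := by
            rw [← Category.assoc, ← c3, Category.assoc, ← Functor.map_comp]
        _ = hX.app (op m) ≫ (fX.app (op m) ≫ ARSys.tr X₂ hm ≫ x)⟦(1:ℤ)⟧' := by
            rw [hy1, ← Category.assoc, ← tr_nat fX hm, Category.assoc]
        _ = 0 := by
            rw [Functor.map_comp, ← Category.assoc, hf, zero_comp]
    obtain ⟨m', hm', e2⟩ := i3 _ m _ e1
    have e2' : hY.app (op m') ≫ (ARSys.tr Y₁ hm' ≫ y1)⟦(1:ℤ)⟧' = 0 := by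
      rw [Functor.map_comp, ← Category.assoc, hYnat hm', Category.assoc]
      exact e2
    have hex1 : ∃ y2 : Y₂.obj (op m') ⟶ W, ARSys.tr Y₁ hm' ≫ y1 = fY.app (op m') ≫ y2 :=
      yoneda_exact₁' _ (hTY m') (ARSys.tr Y₁ hm' ≫ y1) e2'
    obtain ⟨y2, hy2⟩ := hex1
    have hnm' : n ≤ m' := hm.trans hm'
    let x' : X₂.obj (op m') ⟶ W := ARSys.tr X₂ hnm' ≫ x - φ₂.app (op m') ≫ y2
    have e3 : fX.app (op m') ≫ x' = 0 := by
      simp only [x']
      rw [Preadditive.comp_sub, sub_eq_zero]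
      calc fX.app (op m') ≫ ARSys.tr X₂ hnm' ≫ x
          = ARSys.tr X₁ hnm' ≫ fX.app (op n) ≫ x := by
            rw [← Category.assoc, tr_nat fX hnm', Category.assoc]
        _ = ARSys.tr X₁ hm' ≫ (φ₁.app (op m) ≫ y1) := by
            rw [hy1, ← tr_comp X₁ hm hm', Category.assoc]
        _ = φ₁.app (op m') ≫ (ARSys.tr Y₁ hm' ≫ y1) := by
            rw [← Category.assoc, ← tr_nat φ₁ hm', Category.assoc]
        _ = fX.app (op m') ≫ φ₂.app (op m') ≫ y2 := by
            rw [hy2, ← Category.assoc, ← c1, Category.assoc]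
    have hex2 : ∃ w : X₃.obj (op m') ⟶ W, x' = gX.app (op m') ≫ w :=
      Triangle.yoneda_exact₂ _ (hTX m') x' e3
    obtain ⟨w, hw⟩ := hex2
    obtain ⟨m'', hm'', y3, hy3⟩ := s3 W m' w
    refine ⟨m'', hnm'.trans hm'', ARSys.tr Y₂ hm'' ≫ y2 + gY.app (op m'') ≫ y3, ?_⟩
    have e4 : φ₂.app (op m'') ≫ gY.app (op m'') ≫ y3 = ARSys.tr X₂ hm'' ≫ x' := by
      rw [← Category.assoc, ← c2, Category.assoc, hy3, ← Category.assoc, tr_nat gX hm'',
        Category.assoc, ← hw]
    have e5 : φ₂.app (op m'') ≫ ARSys.tr Y₂ hm'' ≫ y2 = ARSys.tr X₂ hm'' ≫ φ₂.app (op m') ≫ y2 := by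
      rw [← Category.assoc, tr_nat φ₂ hm'', Category.assoc]
    rw [Preadditive.comp_add, e4, e5]
    simp only [x']
    rw [Preadditive.comp_sub, add_sub_cancel, ← Category.assoc, tr_comp]

end five


section transport
variable {C : Type*} [Category C]

lemma proIso_transport {X Y X' Y' : ARSys.PS C} (φ : X ⟶ Y) (φ' : X' ⟶ Y') (e₁ : X' ≅ X)
    (e₂ : Y' ≅ Y) (comm : φ' ≫ e₂.hom = e₁.hom ≫ φ) (h : DerCA.IsProIso φ) :
    DerCA.IsProIso φ' := by
  intro n
  obtain ⟨m, hm, b, hb1, hb2⟩ := h n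
  have cm : ∀ k : ℕ, φ'.app (op k) ≫ e₂.hom.app (op k) = e₁.hom.app (op k) ≫ φ.app (op k) :=
    fun k => congrArg (fun z => z.app (op k)) comm
  refine ⟨m, hm, e₂.hom.app (op m) ≫ b ≫ e₁.inv.app (op n), ?_, ?_⟩
  · rw [← Category.assoc, cm m, Category.assoc, ← Category.assoc (φ.app (op m)), hb1,
      ← tr_nat e₁.inv hm, ← Category.assoc, Iso.hom_inv_id_app, Category.id_comp]
  · have h1 : e₁.inv.app (op n) ≫ φ'.app (op n) = φ.app (op n) ≫ e₂.inv.app (op n) := by
      rw [← cancel_mono (e₂.hom.app (op n)), Category.assoc, cm n, ← Category.assoc,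
        Iso.inv_hom_id_app, Category.id_comp, Category.assoc, Iso.inv_hom_id_app, Category.comp_id]
    rw [Category.assoc, Category.assoc, h1, ← Category.assoc b, hb2, ← tr_nat e₂.inv hm,
      ← Category.assoc, Iso.hom_inv_id_app, Category.id_comp]

end transport

section derived
open DerivedCategory DerivedCategory.TStructure
open Groth.Agent.S6589 (Conc conc_of_zero H_full H_faithful isIso_H_truncLTι isIso_H_truncGEπ)

variable {A : Type u} [Category.{v} A] [Abelian A] [HasDerivedCategory.{w} A]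

lemma base (b : ℤ) (X Y : ARSys.PS (DerivedCategory A)) (f : X ⟶ Y)
    (hX : ∀ n : ℕ, Conc b (X.obj (op n))) (hY : ∀ n : ℕ, Conc b (Y.obj (op n)))
    (hH : DerCA.IsProIso (Functor.whiskerRight f (homologyFunctor A b))) : DerCA.IsProIso f := by
  intro n
  obtain ⟨m, h, β, hβ1, hβ2⟩ := hH n
  obtain ⟨bb, hbb⟩ := H_full b (hY m) (hX n) β
  refine ⟨m, h, bb, ?_, ?_⟩
  · apply H_faithful b (hX m) (hX n)
    rw [Functor.map_comp, hbb]
    exact hβ1
  · apply H_faithful b (hY m) (hY n)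
    rw [Functor.map_comp, hbb]
    exact hβ2


theorem ind (d : ℕ) : ∀ (a : ℤ) (X Y : ARSys.PS (DerivedCategory A)) (f : X ⟶ Y),
    (∀ (n : ℕ) (i : ℤ), i < a ∨ a + d < i → IsZero ((homologyFunctor A i).obj (X.obj (op n)))) →
    (∀ (n : ℕ) (i : ℤ), i < a ∨ a + d < i → IsZero ((homologyFunctor A i).obj (Y.obj (op n)))) →
    (∀ i : ℤ, a ≤ i → i ≤ a + d →
      DerCA.IsProIso (Functor.whiskerRight f (homologyFunctor A i))) →
    DerCA.IsProIso f := by
  induction d with
  | zero =>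
    intro a X Y f hX hY hH
    apply base a X Y f
    · intro n
      apply conc_of_zero
      intro i hi
      apply hX n i
      rcases lt_or_gt_of_ne hi with h | h
      · exact Or.inl h
      · right
        simpa using h
    · intro n
      apply conc_of_zero
      intro i hi
      apply hY n i
      rcases lt_or_gt_of_ne hi with h | h
      · exact Or.inl h
      · right
        simpa using h
    · exact hH a le_rfl (by simp)
  | succ d ih =>
    intro a X Y f hX hY hH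
    set b : ℤ := a + (d + 1 : ℕ) with hb
    have hXge : ∀ n : ℕ, (X.obj (op n)).IsGE a := fun n =>
      (isGE_iff _ a).2 (fun i hi => hX n i (Or.inl hi))
    have hXle : ∀ n : ℕ, (X.obj (op n)).IsLE b := fun n =>
      (isLE_iff _ b).2 (fun i hi => hX n i (Or.inr hi))
    have hYge : ∀ n : ℕ, (Y.obj (op n)).IsGE a := fun n =>
      (isGE_iff _ a).2 (fun i hi => hY n i (Or.inl hi))
    have hYle : ∀ n : ℕ, (Y.obj (op n)).IsLE b := fun n =>
      (isLE_iff _ b).2 (fun i hi => hY n i (Or.inr hi))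
    -- generic constructions for a system
    let T1 : ARSys.PS (DerivedCategory A) → ARSys.PS (DerivedCategory A) := fun X => X ⋙ t.truncLT b
    let T3 : ARSys.PS (DerivedCategory A) → ARSys.PS (DerivedCategory A) := fun X => X ⋙ t.truncGE b
    let ff : ∀ X : ARSys.PS (DerivedCategory A), T1 X ⟶ X := fun X =>
      { app := fun n => (t.truncLTι b).app (X.obj n)
        naturality := fun n m φ => (t.truncLTι b).naturality (X.map φ) }
    let gg : ∀ X : ARSys.PS (DerivedCategory A), X ⟶ T3 X := fun X =>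
      { app := fun n => (t.truncGEπ b).app (X.obj n)
        naturality := fun n m φ => (t.truncGEπ b).naturality (X.map φ) }
    let hh : ∀ X : ARSys.PS (DerivedCategory A),
        T3 X ⟶ T1 X ⋙ shiftFunctor (DerivedCategory A) (1 : ℤ) := fun X =>
      { app := fun n => (t.truncGEδLT b).app (X.obj n)
        naturality := fun n m φ => (t.truncGEδLT b).naturality (X.map φ) }
    have hT : ∀ (X : ARSys.PS (DerivedCategory A)) (n : ℕ),
        Triangle.mk ((ff X).app (op n)) ((gg X).app (op n)) ((hh X).app (op n)) ∈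
        distinguishedTriangles := fun X n => t.triangleLTGE_distinguished b (X.obj (op n))
    let φ₁ : T1 X ⟶ T1 Y := Functor.whiskerRight f (t.truncLT b)
    let φ₃ : T3 X ⟶ T3 Y := Functor.whiskerRight f (t.truncGE b)
    -- vanishing for T1
    have van1 : ∀ (X : ARSys.PS (DerivedCategory A)), (∀ n : ℕ, (X.obj (op n)).IsGE a) →
        ∀ (n : ℕ) (i : ℤ), i < a ∨ a + d < i →
          IsZero ((homologyFunctor A i).obj ((T1 X).obj (op n))) := by
      intro X hXge n i hi
      change IsZero ((homologyFunctor A i).obj ((t.truncLT b).obj (X.obj (op n))))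
      rcases hi with hi | hi
      · haveI := hXge n
        have : ((t.truncLT b).obj (X.obj (op n))).IsGE a := by
          change t.IsGE _ a
          infer_instance
        exact isZero_of_isGE _ a i hi
      · have : ((t.truncLT b).obj (X.obj (op n))).IsLE (b - 1) := by
          change t.IsLE _ (b - 1)
          infer_instance
        exact isZero_of_isLE _ (b - 1) i (by rw [hb]; push_cast; lia)
    have conc3 : ∀ (X : ARSys.PS (DerivedCategory A)), (∀ n : ℕ, (X.obj (op n)).IsLE b) →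
        ∀ n : ℕ, Conc b ((T3 X).obj (op n)) := by
      intro X hXle n
      haveI := hXle n
      constructor
      · change t.IsGE ((t.truncGE b).obj (X.obj (op n))) b
        infer_instance
      · change t.IsLE ((t.truncGE b).obj (X.obj (op n))) b
        infer_instance
    -- isos on homology
    have e1 : ∀ (i : ℤ) (hib : i < b) (X : ARSys.PS (DerivedCategory A)),
        ∃ e : T1 X ⋙ homologyFunctor A i ≅ X ⋙ homologyFunctor A i,
          e.hom = Functor.whiskerRight (ff X) (homologyFunctor A i) := by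
      intro i hib X
      have hiso : ∀ n : ℕᵒᵖ, IsIso ((homologyFunctor A i).map ((t.truncLTι b).app (X.obj n))) :=
        fun n => isIso_H_truncLTι b i hib _
      haveI : IsIso (Functor.whiskerRight (ff X) (homologyFunctor A i)) := by
        apply (config := { allowSynthFailures := true }) NatIso.isIso_of_isIso_app
        intro n
        exact hiso n
      exact ⟨asIso (Functor.whiskerRight (ff X) (homologyFunctor A i)), rfl⟩
    have e3 : ∀ (X : ARSys.PS (DerivedCategory A)),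
        ∃ e : X ⋙ homologyFunctor A b ≅ T3 X ⋙ homologyFunctor A b,
          e.hom = Functor.whiskerRight (gg X) (homologyFunctor A b) := by
      intro X
      have hiso : ∀ n : ℕᵒᵖ, IsIso ((homologyFunctor A b).map ((t.truncGEπ b).app (X.obj n))) :=
        fun n => isIso_H_truncGEπ b _
      haveI : IsIso (Functor.whiskerRight (gg X) (homologyFunctor A b)) := by
        apply (config := { allowSynthFailures := true }) NatIso.isIso_of_isIso_app
        intro n
        exact hiso n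
      exact ⟨asIso (Functor.whiskerRight (gg X) (homologyFunctor A b)), rfl⟩
    have h1 : DerCA.IsProIso φ₁ := by
      apply ih a (T1 X) (T1 Y) φ₁ (van1 X hXge) (van1 Y hYge)
      intro i hi1 hi2
      have hib : i < b := by rw [hb]; push_cast; lia
      obtain ⟨eX, heX⟩ := e1 i hib X
      obtain ⟨eY, heY⟩ := e1 i hib Y
      apply proIso_transport (Functor.whiskerRight f (homologyFunctor A i)) _ eX eY ?_
        (hH i hi1 (by push_cast; lia))
      rw [heX, heY]
      ext n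
      dsimp [φ₁, ff]
      rw [← Functor.map_comp, ← Functor.map_comp]
      congr 1
      exact (t.truncLTι b).naturality (f.app n)
    have h3 : DerCA.IsProIso φ₃ := by
      apply base b (T3 X) (T3 Y) φ₃ (conc3 X hXle) (conc3 Y hYle)
      obtain ⟨eX, heX⟩ := e3 X
      obtain ⟨eY, heY⟩ := e3 Y
      apply proIso_transport (Functor.whiskerRight f (homologyFunctor A b)) _ eX.symm eY.symm ?_
        (hH b (by rw [hb]; push_cast; lia) (by rw [hb]))
      rw [← cancel_epi eX.hom, ← Category.assoc, ← Category.assoc]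
      change (eX.hom ≫ _) ≫ eY.inv = (eX.hom ≫ eX.inv) ≫ _
      rw [Iso.hom_inv_id, Category.id_comp, Iso.comp_inv_eq, heX, heY]
      ext n
      dsimp [φ₃, gg]
      rw [← Functor.map_comp, ← Functor.map_comp]
      congr 1
      exact ((t.truncGEπ b).naturality (f.app n)).symm
    refine five (T1 X) X (T3 X) (T1 Y) Y (T3 Y) (ff X) (gg X) (hh X) (ff Y) (gg Y) (hh Y)
      (hT X) (hT Y) φ₁ f φ₃ ?_ ?_ ?_ h1 h3
    · intro n
      exact ((t.truncLTι b).naturality (f.app (op n))).symm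
    · intro n
      exact ((t.truncGEπ b).naturality (f.app (op n))).symm
    · intro n
      exact ((t.truncGEδLT b).naturality (f.app (op n))).symm

theorem main6588
    (X Y : ARSys.PS (DerivedCategory A)) (f : X ⟶ Y) (a b : ℤ) (hab : a ≤ b)
    (hX : ∀ (n : ℕ) (i : ℤ), i < a ∨ b < i → IsZero ((DerivedCategory.homologyFunctor A i).obj (X.obj (op n))))
    (hY : ∀ (n : ℕ) (i : ℤ), i < a ∨ b < i → IsZero ((DerivedCategory.homologyFunctor A i).obj (Y.obj (op n))))
    (hH : ∀ i : ℤ, DerCA.IsProIso (Functor.whiskerRight f (DerivedCategory.homologyFunctor A i))) :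
    DerCA.IsProIso f := by
  obtain ⟨d, hd⟩ := Int.le.dest hab
  apply ind d a X Y f
  · intro n i hi
    apply hX n i
    rw [← hd]
    exact hi
  · intro n i hi
    apply hY n i
    rw [← hd]
    exact hi
  · intro i _ _
    exact hH i

end derived


end helpers

/-- Let A be an abelian category and let (X_n) → (Y_n) be an ℕ-indexed inverse system of maps of D(A).
Assume (1) there are a ≤ b with Hⁱ(X_n) = 0 and Hⁱ(Y_n) = 0 for all n and all i outside [a, b], and
(2) for every i the maps Hⁱ(X_n) → Hⁱ(Y_n) form a pro-isomorphism of inverse systems of A. Then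
(X_n) → (Y_n) is a pro-isomorphism of inverse systems of D(A). -/
theorem result {A : Type u} [Category.{v} A] [Abelian A] [HasDerivedCategory.{w} A]
    (X Y : ARSys.PS (DerivedCategory A)) (f : X ⟶ Y) (a b : ℤ) (hab : a ≤ b)
    (hX : ∀ (n : ℕ) (i : ℤ), i < a ∨ b < i → IsZero ((DerivedCategory.homologyFunctor A i).obj (X.obj (op n))))
    (hY : ∀ (n : ℕ) (i : ℤ), i < a ∨ b < i → IsZero ((DerivedCategory.homologyFunctor A i).obj (Y.obj (op n))))
    (hH : ∀ i : ℤ, DerCA.IsProIso (Functor.whiskerRight f (DerivedCategory.homologyFunctor A i))) :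
    DerCA.IsProIso f := by
  exact main6588 X Y f a b hab hX hY hH

end Groth.Agent.S6588
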