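import Groth.Statements.S6592
import Mathlib

set_option autoImplicit false
universe v u
open CategoryTheory CategoryTheory.Limits
open DerLim

namespace Groth.Agent.S6592
section helpers
open Opposite
set_option linter.unusedSectionVars false
open CategoryTheory CategoryTheory.Limits Opposite CategoryTheory.Pretriangulated ZeroObject

section tri
variable {D : Type u} [Category.{v} D] [Preadditive D] [HasZeroObject D] [HasShift D ℤ]
    [∀ n : ℤ, (shiftFunctor D n).Additive] [Pretriangulated D]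

/-- an endomorphism of a distinguished triangle which is null-homotopic on the first two terms
squares to zero on the third -/
lemma sq_zero {X Y Z : D} (f : X ⟶ Y) (g : Y ⟶ Z) (k : Z ⟶ X⟦(1:ℤ)⟧)
    (hT : Triangle.mk f g k ∈ distTriang D) (u : X ⟶ X) (v : Y ⟶ Y) (w : Z ⟶ Z)
    (h : Y ⟶ X) (hu : u = f ≫ h) (hv : v = h ≫ f)
    (c2 : g ≫ w = v ≫ g) (c3 : k ≫ u⟦(1:ℤ)⟧' = w ≫ k) : w ≫ w = 0 := by
  have fg : f ≫ g = 0 := comp_distTriang_mor_zero₁₂ _ hT
  have kf : k ≫ f⟦(1:ℤ)⟧' = 0 := comp_distTriang_mor_zero₃₁ _ hT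
  have e1 : g ≫ w = 0 := by rw [c2, hv, Category.assoc, fg, comp_zero]
  have hex : ∃ w' : X⟦(1:ℤ)⟧ ⟶ Z, w = k ≫ w' := Triangle.yoneda_exact₃ _ hT w e1
  obtain ⟨w', hw'⟩ := hex
  have e2 : w ≫ k = 0 := by
    rw [← c3, hu, Functor.map_comp, ← Category.assoc, kf, zero_comp]
  calc w ≫ w = w ≫ k ≫ w' := by rw [← hw']
    _ = 0 := by rw [← Category.assoc, e2, zero_comp]

/-- a morphism with `c ≫ c'` and `c' ≫ c` unipotent is an isomorphism -/
lemma isIso_of_unipotent {L L' : D} (c : L' ⟶ L) (c' : L ⟶ L')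
    (h1 : (c ≫ c' - 𝟙 L') ≫ (c ≫ c' - 𝟙 L') = 0) (h2 : (c' ≫ c - 𝟙 L) ≫ (c' ≫ c - 𝟙 L) = 0) :
    IsIso c := by
  obtain ⟨w₁, hw₁⟩ : ∃ w₁, w₁ = c ≫ c' - 𝟙 L' := ⟨_, rfl⟩
  obtain ⟨w₂, hw₂⟩ : ∃ w₂, w₂ = c' ≫ c - 𝟙 L := ⟨_, rfl⟩
  rw [← hw₁] at h1
  rw [← hw₂] at h2
  have e1 : c ≫ c' = 𝟙 L' + w₁ := by rw [hw₁]; abel
  have e2 : c' ≫ c = 𝟙 L + w₂ := by rw [hw₂]; abel
  have r1 : c ≫ (c' ≫ (𝟙 L' - w₁)) = 𝟙 L' := by
    rw [← Category.assoc, e1]
    simp only [Preadditive.add_comp, Preadditive.comp_sub, Category.id_comp, Category.comp_id, h1]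
    abel
  have r2 : ((𝟙 L - w₂) ≫ c') ≫ c = 𝟙 L := by
    rw [Category.assoc, e2]
    simp only [Preadditive.sub_comp, Preadditive.comp_add, Category.id_comp, Category.comp_id, h2]
    abel
  refine ⟨c' ≫ (𝟙 L' - w₁), r1, ?_⟩
  -- left inverse equals right inverse
  have : c' ≫ (𝟙 L' - w₁) = (𝟙 L - w₂) ≫ c' := by
    calc c' ≫ (𝟙 L' - w₁) = (((𝟙 L - w₂) ≫ c') ≫ c) ≫ (c' ≫ (𝟙 L' - w₁)) := by
          rw [r2, Category.id_comp]
      _ = ((𝟙 L - w₂) ≫ c') ≫ (c ≫ (c' ≫ (𝟙 L' - w₁))) := by simp only [Category.assoc]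
      _ = (𝟙 L - w₂) ≫ c' := by rw [r1, Category.comp_id]
  rw [this, r2]

end tri


section coprod
variable {D : Type u} [Category.{v} D] [Preadditive D]
variable (F : ℕ ⥤ D) (n : ℕ → ℕ) (hn : StrictMono n)
variable [HasCoproduct (fun m : ℕ => F.obj m)] [HasCoproduct (fun i : ℕ => F.obj (n i))]

abbrev K (m : ℕ) : D := F.obj m
abbrev K' (i : ℕ) : D := F.obj (n i)
noncomputable abbrev S : D := ∐ (fun m : ℕ => F.obj m)
noncomputable abbrev S' : D := ∐ (fun i : ℕ => F.obj (n i))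

noncomputable abbrev dd : S F ⟶ S F :=
  𝟙 _ - DerLim.shiftMap (fun m : ℕ => F.obj m) (fun m : ℕ => F.map (homOfLE (Nat.le_succ m)))

noncomputable abbrev dd' : S' F n ⟶ S' F n :=
  𝟙 _ - DerLim.shiftMap (fun i : ℕ => F.obj (n i))
    (fun i : ℕ => F.map (homOfLE (hn.monotone (Nat.le_succ i))))

/-- `K m ⟶ K k ⟶ S` when `m ≤ k`, zero otherwise -/
noncomputable def gι (m k : ℕ) : F.obj m ⟶ S F :=
  if h : m ≤ k then F.map (homOfLE h) ≫ Sigma.ι (fun m : ℕ => F.obj m) k else 0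

/-- `K m ⟶ K (n i) ⟶ S'` when `m ≤ n i`, zero otherwise -/
noncomputable def gq (m i : ℕ) : F.obj m ⟶ S' F n :=
  if h : m ≤ n i then F.map (homOfLE h) ≫ Sigma.ι (fun i : ℕ => F.obj (n i)) i else 0

lemma gι_self (m : ℕ) : gι F m m = Sigma.ι (fun m : ℕ => F.obj m) m := by
  unfold gι
  rw [dif_pos le_rfl]
  have : homOfLE (le_refl m) = 𝟙 m := Subsingleton.elim _ _
  rw [this, F.map_id, Category.id_comp]

lemma gq_self (i : ℕ) : gq F n (n i) i = Sigma.ι (fun i : ℕ => F.obj (n i)) i := by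
  unfold gq
  rw [dif_pos le_rfl]
  have : homOfLE (le_refl (n i)) = 𝟙 (n i) := Subsingleton.elim _ _
  rw [this, F.map_id, Category.id_comp]

lemma map_gι {m m' : ℕ} (h : m ≤ m') (k : ℕ) (hk : m' ≤ k) :
    F.map (homOfLE h) ≫ gι F m' k = gι F m k := by
  unfold gι
  rw [dif_pos hk, dif_pos (h.trans hk), ← Category.assoc, ← F.map_comp]
  rfl

lemma map_gq {m m' : ℕ} (h : m ≤ m') (i : ℕ) (hi : m' ≤ n i) :
    F.map (homOfLE h) ≫ gq F n m' i = gq F n m i := by
  unfold gq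
  rw [dif_pos hi, dif_pos (h.trans hi), ← Category.assoc, ← F.map_comp]
  rfl

lemma ι_shift (k : ℕ) : Sigma.ι (fun m : ℕ => F.obj m) k ≫
    DerLim.shiftMap (fun m : ℕ => F.obj m) (fun m : ℕ => F.map (homOfLE (Nat.le_succ m))) =
    F.map (homOfLE (Nat.le_succ k)) ≫ Sigma.ι (fun m : ℕ => F.obj m) (k + 1) := by
  unfold DerLim.shiftMap
  rw [Sigma.ι_desc]

lemma ι_shift' (i : ℕ) : Sigma.ι (fun i : ℕ => F.obj (n i)) i ≫
    DerLim.shiftMap (fun i : ℕ => F.obj (n i))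
      (fun i : ℕ => F.map (homOfLE (hn.monotone (Nat.le_succ i)))) =
    F.map (homOfLE (hn.monotone (Nat.le_succ i))) ≫ Sigma.ι (fun i : ℕ => F.obj (n i)) (i + 1) := by
  unfold DerLim.shiftMap
  rw [Sigma.ι_desc]

lemma gι_dd (m k : ℕ) (h : m ≤ k) : gι F m k ≫ dd F = gι F m k - gι F m (k + 1) := by
  rw [Preadditive.comp_sub, Category.comp_id]
  congr 1
  unfold gι
  rw [dif_pos h, dif_pos (h.trans (Nat.le_succ k)), Category.assoc, ι_shift, ← Category.assoc,
    ← F.map_comp]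
  rfl

lemma gq_dd' (m i : ℕ) (h : m ≤ n i) :
    gq F n m i ≫ dd' F n hn = gq F n m i - gq F n m (i + 1) := by
  rw [Preadditive.comp_sub, Category.comp_id]
  congr 1
  unfold gq
  rw [dif_pos h, dif_pos (h.trans (hn.monotone (Nat.le_succ i))), Category.assoc,
    ι_shift' F n hn, ← Category.assoc, ← F.map_comp]
  rfl

/-- partial sums -/
noncomputable def σ (m M : ℕ) : F.obj m ⟶ S F := ∑ k ∈ Finset.Ico m M, gι F m k

lemma σ_dd (m M : ℕ) (h : m ≤ M) : σ F m M ≫ dd F = gι F m m - gι F m M := by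
  induction M, h using Nat.le_induction with
  | base => simp [σ]
  | succ M hM ih =>
    unfold σ at ih ⊢
    rw [Finset.sum_Ico_succ_top hM, Preadditive.add_comp, ih, gι_dd F m M hM]
    abel

lemma map_σ {m m' : ℕ} (h : m ≤ m') (M : ℕ) :
    F.map (homOfLE h) ≫ σ F m' M = ∑ k ∈ Finset.Ico m' M, gι F m k := by
  unfold σ
  rw [Preadditive.comp_sum]
  apply Finset.sum_congr rfl
  intro k hk
  exact map_gι F h k (Finset.mem_Ico.mp hk).1


/-! ### the index function `r` -/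

include hn in
lemma ex_r (m : ℕ) : ∃ i, m ≤ n i := ⟨m, hn.id_le m⟩

open Classical in
noncomputable def r (m : ℕ) : ℕ := Nat.find (ex_r n hn m)

lemma r_spec (m : ℕ) : m ≤ n (r n hn m) := by
  classical
  exact Nat.find_spec (ex_r n hn m)

lemma r_min (m i : ℕ) (h : m ≤ n i) : r n hn m ≤ i := by
  classical
  exact Nat.find_min' (ex_r n hn m) h

lemma r_n (i : ℕ) : r n hn (n i) = i := by
  apply le_antisymm
  · exact r_min n hn _ _ le_rfl
  · exact hn.le_iff_le.mp (r_spec n hn (n i))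

lemma r_succ_of_lt (m : ℕ) (h : m < n (r n hn m)) : r n hn (m + 1) = r n hn m := by
  apply le_antisymm
  · exact r_min n hn _ _ h
  · exact r_min n hn _ _ ((Nat.le_succ m).trans (r_spec n hn (m + 1)))

lemma r_succ_of_eq (m : ℕ) (h : m = n (r n hn m)) : r n hn (m + 1) = r n hn m + 1 := by
  apply le_antisymm
  · apply r_min
    have : n (r n hn m) < n (r n hn m + 1) := hn (Nat.lt_succ_self (r n hn m))
    omega
  · by_contra hlt
    push Not at hlt
    have h1 : r n hn (m + 1) ≤ r n hn m := Nat.lt_succ_iff.mp hlt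
    have h2 := hn.monotone h1
    have h3 := r_spec n hn (m + 1)
    omega

/-! ### the maps -/

noncomputable def aa : S' F n ⟶ S F :=
  Sigma.desc (fun i : ℕ => Sigma.ι (fun m : ℕ => F.obj m) (n i))

noncomputable def bb : S' F n ⟶ S F :=
  Sigma.desc (fun i : ℕ => σ F (n i) (n (i + 1)))

noncomputable def qq : S F ⟶ S' F n :=
  Sigma.desc (fun m : ℕ => gq F n m (r n hn m))

open Classical in
noncomputable def pp : S F ⟶ S' F n :=
  Sigma.desc (fun m : ℕ => if m = n (r n hn m) then gq F n m (r n hn m) else 0)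

noncomputable def hh : S F ⟶ S F :=
  Sigma.desc (fun m : ℕ => σ F m (n (r n hn m)))

/-- (1) -/
lemma chain1 : dd' F n hn ≫ aa F n = bb F n ≫ dd F := by
  apply Sigma.hom_ext
  intro i
  rw [← Category.assoc, ← Category.assoc]
  have e1 : Sigma.ι (fun i : ℕ => F.obj (n i)) i ≫ bb F n = σ F (n i) (n (i + 1)) := by
    unfold bb; rw [Sigma.ι_desc]
  rw [e1, σ_dd F _ _ (hn.monotone (Nat.le_succ i)), ← gq_self F n i, gq_dd' F n hn _ _ le_rfl,
    Preadditive.sub_comp]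
  congr 1
  · rw [gq_self, gι_self]
    unfold aa; rw [Sigma.ι_desc]
  · unfold gq gι
    rw [dif_pos (hn.monotone (Nat.le_succ i)), dif_pos (hn.monotone (Nat.le_succ i)), Category.assoc]
    congr 1
    unfold aa; rw [Sigma.ι_desc]


lemma ι_qq (m : ℕ) : Sigma.ι (fun m : ℕ => F.obj m) m ≫ qq F n hn = gq F n m (r n hn m) := by
  unfold qq; rw [Sigma.ι_desc]

open Classical in
lemma ι_pp (m : ℕ) : Sigma.ι (fun m : ℕ => F.obj m) m ≫ pp F n hn =
    if m = n (r n hn m) then gq F n m (r n hn m) else 0 := by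
  unfold pp; rw [Sigma.ι_desc]

lemma ι_hh (m : ℕ) : Sigma.ι (fun m : ℕ => F.obj m) m ≫ hh F n hn = σ F m (n (r n hn m)) := by
  unfold hh; rw [Sigma.ι_desc]

lemma ι_aa (i : ℕ) : Sigma.ι (fun i : ℕ => F.obj (n i)) i ≫ aa F n =
    Sigma.ι (fun m : ℕ => F.obj m) (n i) := by
  unfold aa; rw [Sigma.ι_desc]

lemma ι_bb (i : ℕ) : Sigma.ι (fun i : ℕ => F.obj (n i)) i ≫ bb F n = σ F (n i) (n (i + 1)) := by
  unfold bb; rw [Sigma.ι_desc]

lemma ι_dd (m : ℕ) : Sigma.ι (fun m : ℕ => F.obj m) m ≫ dd F =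
    Sigma.ι (fun m : ℕ => F.obj m) m -
      F.map (homOfLE (Nat.le_succ m)) ≫ Sigma.ι (fun m : ℕ => F.obj m) (m + 1) := by
  rw [Preadditive.comp_sub, Category.comp_id, ι_shift]

/-- (2) -/
lemma chain2 : dd F ≫ qq F n hn = pp F n hn ≫ dd' F n hn := by
  classical
  apply Sigma.hom_ext
  intro m
  rw [← Category.assoc, ← Category.assoc, ι_dd, Preadditive.sub_comp, ι_qq, Category.assoc, ι_qq,
    ι_pp]
  have hm := r_spec n hn m
  by_cases h : m = n (r n hn m)
  · rw [if_pos h, gq_dd' F n hn _ _ hm, r_succ_of_eq n hn m h]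
    congr 1
    apply map_gq
    have : n (r n hn m) < n (r n hn m + 1) := hn (Nat.lt_succ_self _)
    omega
  · rw [if_neg h, zero_comp]
    have hlt : m < n (r n hn m) := lt_of_le_of_ne hm h
    rw [r_succ_of_lt n hn m hlt, map_gq F n (Nat.le_succ m) _ hlt, sub_self]


/-- (3a) -/
lemma aa_qq : aa F n ≫ qq F n hn = 𝟙 _ := by
  apply Sigma.hom_ext
  intro i
  rw [← Category.assoc, ι_aa, ι_qq, r_n, gq_self, Category.comp_id]

lemma gι_pp (m k : ℕ) (h : m ≤ k) : gι F m k ≫ pp F n hn =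
    if k = n (r n hn k) then gq F n m (r n hn k) else 0 := by
  classical
  unfold gι
  rw [dif_pos h, Category.assoc, ι_pp]
  by_cases hk : k = n (r n hn k)
  · rw [if_pos hk, if_pos hk]
    exact map_gq F n h _ (r_spec n hn k)
  · rw [if_neg hk, if_neg hk, comp_zero]

/-- (3b) -/
lemma bb_pp : bb F n ≫ pp F n hn = 𝟙 _ := by
  classical
  apply Sigma.hom_ext
  intro i
  rw [← Category.assoc, ι_bb, Category.comp_id]
  unfold σ
  rw [Preadditive.sum_comp]
  have hlt : n i < n (i + 1) := hn (Nat.lt_succ_self i)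
  rw [Finset.sum_eq_single (n i)]
  · rw [gι_pp F n hn _ _ le_rfl, r_n, if_pos rfl, gq_self]
  · intro k hk hne
    have hk' := Finset.mem_Ico.mp hk
    rw [gι_pp F n hn _ _ hk'.1, if_neg]
    intro hkk
    -- k = n j with n i ≤ n j < n (i+1) forces j = i
    have h1 : i ≤ r n hn k := hn.le_iff_le.mp (hkk ▸ hk'.1)
    have h2 : r n hn k < i + 1 := hn.lt_iff_lt.mp (hkk ▸ hk'.2)
    have h3 : r n hn k = i := by omega
    rw [h3] at hkk
    exact hne hkk
  · intro hni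
    exact absurd (Finset.mem_Ico.mpr ⟨le_rfl, hlt⟩) hni

/-- (4a) -/
lemma homot1 : 𝟙 _ - qq F n hn ≫ aa F n = hh F n hn ≫ dd F := by
  apply Sigma.hom_ext
  intro m
  rw [Preadditive.comp_sub, Category.comp_id, ← Category.assoc, ι_qq, ← Category.assoc, ι_hh,
    σ_dd F _ _ (r_spec n hn m), gι_self]
  congr 1
  unfold gq gι
  rw [dif_pos (r_spec n hn m), dif_pos (r_spec n hn m), Category.assoc, ι_aa]

/-- (4b) -/
lemma homot2 : 𝟙 _ - pp F n hn ≫ bb F n = dd F ≫ hh F n hn := by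
  classical
  apply Sigma.hom_ext
  intro m
  rw [Preadditive.comp_sub, Category.comp_id, ← Category.assoc, ι_pp, ← Category.assoc, ι_dd,
    Preadditive.sub_comp, ι_hh, Category.assoc, ι_hh, map_σ]
  have hm := r_spec n hn m
  by_cases h : m = n (r n hn m)
  · rw [if_pos h, r_succ_of_eq n hn m h]
    unfold gq
    rw [dif_pos hm, Category.assoc, ι_bb, map_σ]
    have hlt : n (r n hn m) < n (r n hn m + 1) := hn (Nat.lt_succ_self _)
    unfold σ
    rw [← h, Finset.Ico_self, Finset.sum_empty, zero_sub]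
    rw [Finset.sum_eq_sum_Ico_succ_bot (by omega : m < n (r n hn m + 1)), gι_self]
    abel
  · rw [if_neg h, zero_comp, sub_zero]
    have hlt : m < n (r n hn m) := lt_of_le_of_ne hm h
    rw [r_succ_of_lt n hn m hlt]
    unfold σ
    rw [Finset.sum_eq_sum_Ico_succ_bot hlt, gι_self]
    abel

end coprod


section final
variable {D : Type u} [Category.{v} D] [Preadditive D] [HasZeroObject D] [HasShift D ℤ]
    [∀ n : ℤ, (shiftFunctor D n).Additive] [Pretriangulated D]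

theorem main6592
    (F : ℕ ⥤ D) (n : ℕ → ℕ) (hn : StrictMono n)
    [HasCoproduct (fun m : ℕ => F.obj m)] [HasCoproduct (fun i : ℕ => F.obj (n i))]
    (L : D) (ι : ∀ m : ℕ, F.obj m ⟶ L)
    (hL : DerLim.IsHocolim (fun m : ℕ => F.obj m) (fun m : ℕ => F.map (homOfLE (Nat.le_succ m))) L ι)
    (L' : D) (ι' : ∀ i : ℕ, F.obj (n i) ⟶ L')
    (hL' : DerLim.IsHocolim (fun i : ℕ => F.obj (n i)) (fun i : ℕ => F.map (homOfLE (hn.monotone (Nat.le_succ i)))) L' ι') :
    ∃ e : L' ≅ L, ∀ i : ℕ, ι' i ≫ e.hom = ι (n i) := by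
  obtain ⟨k, hk⟩ := hL
  obtain ⟨k', hk'⟩ := hL'
  have hk2 : Triangle.mk (dd F) (Sigma.desc ι) k ∈ distTriang D := hk
  have hk2' : Triangle.mk (dd' F n hn) (Sigma.desc ι') k' ∈ distTriang D := hk'
  have hex1 : ∃ c : L' ⟶ L, Sigma.desc ι' ≫ c = aa F n ≫ Sigma.desc ι ∧
      k' ≫ (bb F n)⟦(1:ℤ)⟧' = c ≫ k :=
    complete_distinguished_triangle_morphism _ _ hk2' hk2 (bb F n) (aa F n) (chain1 F n hn)
  have hex2 : ∃ c' : L ⟶ L', Sigma.desc ι ≫ c' = qq F n hn ≫ Sigma.desc ι' ∧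
      k ≫ (pp F n hn)⟦(1:ℤ)⟧' = c' ≫ k' :=
    complete_distinguished_triangle_morphism _ _ hk2 hk2' (pp F n hn) (qq F n hn) (chain2 F n hn)
  obtain ⟨c, hc1, hc2⟩ := hex1
  obtain ⟨c', hc'1, hc'2⟩ := hex2
  have h1 : (c ≫ c' - 𝟙 L') ≫ (c ≫ c' - 𝟙 L') = 0 := by
    apply sq_zero _ _ _ hk2' 0 0 _ 0 (by simp) (by simp)
    · rw [Preadditive.comp_sub, ← Category.assoc, hc1, Category.assoc, hc'1, ← Category.assoc,
        aa_qq, Category.id_comp, Category.comp_id, sub_self, zero_comp]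
    · rw [Preadditive.sub_comp, Category.assoc, ← hc'2, ← Category.assoc, ← hc2, Category.assoc,
        ← Functor.map_comp, bb_pp, CategoryTheory.Functor.map_id, Category.comp_id,
        Category.id_comp, sub_self, Functor.map_zero, comp_zero]
  have h2 : (c' ≫ c - 𝟙 L) ≫ (c' ≫ c - 𝟙 L) = 0 := by
    apply sq_zero _ _ _ hk2 (pp F n hn ≫ bb F n - 𝟙 _) (qq F n hn ≫ aa F n - 𝟙 _) _ (-hh F n hn)
    · rw [Preadditive.comp_neg, ← homot2]; abel
    · rw [Preadditive.neg_comp, ← homot1]; abel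
    · rw [Preadditive.comp_sub, ← Category.assoc, hc'1, Category.assoc, hc1, Category.comp_id,
        Preadditive.sub_comp, Category.id_comp, Category.assoc]
    · rw [Preadditive.sub_comp, Category.assoc, ← hc2, ← Category.assoc, ← hc'2, Category.assoc,
        ← Functor.map_comp, Category.id_comp, Functor.map_sub, CategoryTheory.Functor.map_id,
        Preadditive.comp_sub, Category.comp_id]
  haveI : IsIso c := isIso_of_unipotent c c' h1 h2
  refine ⟨asIso c, ?_⟩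
  intro i
  have := congrArg (fun z => Sigma.ι (fun i : ℕ => F.obj (n i)) i ≫ z) hc1
  simp only [← Category.assoc, Sigma.ι_desc, ι_aa] at this
  exact this

end final


end helpers

/-- Let D be a triangulated category, (K_m, f_m) a system of objects of D indexed by ℕ (given as a
functor F : ℕ ⥤ D) and n₁ < n₂ < … a strictly increasing sequence. Assume ⨁ K_m and ⨁ K_{n_i} exist.
If L is a homotopy colimit of (K_m) and L' a homotopy colimit of the subsequence (K_{n_i}) (with the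
composite transition maps), then there is an isomorphism L' ≅ L under which the structure map
K_{n_i} ⟶ L' corresponds to K_{n_i} ⟶ L for every i. -/
theorem result {D : Type u} [Category.{v} D] [Preadditive D] [HasZeroObject D] [HasShift D ℤ]
    [∀ n : ℤ, (shiftFunctor D n).Additive] [Pretriangulated D] [IsTriangulated D]
    (F : ℕ ⥤ D) (n : ℕ → ℕ) (hn : StrictMono n)
    [HasCoproduct (fun m : ℕ => F.obj m)] [HasCoproduct (fun i : ℕ => F.obj (n i))]
    (L : D) (ι : ∀ m : ℕ, F.obj m ⟶ L)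
    (hL : DerLim.IsHocolim (fun m : ℕ => F.obj m) (fun m : ℕ => F.map (homOfLE (Nat.le_succ m))) L ι)
    (L' : D) (ι' : ∀ i : ℕ, F.obj (n i) ⟶ L')
    (hL' : DerLim.IsHocolim (fun i : ℕ => F.obj (n i)) (fun i : ℕ => F.map (homOfLE (hn.monotone (Nat.le_succ i)))) L' ι') :
    ∃ e : L' ≅ L, ∀ i : ℕ, ι' i ≫ e.hom = ι (n i) := by
  exact main6592 F n hn L ι hL L' ι' hL'

end Groth.Agent.S6592
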