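import Groth.Statements.S6594
import Mathlib

set_option autoImplicit false
universe v u
open CategoryTheory CategoryTheory.Limits
open CohDer

namespace Groth.Agent.S6594

set_option backward.defeqAttrib.useBackward true in
set_option backward.isDefEq.respectTransparency false in
open CategoryTheory.Pretriangulated ZeroObject Category Preadditive in
/-- (1) ⇔ (3): let D be a pretriangulated category and f : X ⟶ Y a morphism. Then f has a kernel if and
only if f is isomorphic to a composite K ⊞ Z → Z → Z ⊞ Q of a projection and a coprojection for some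
objects K, Z, Q. -/
theorem result {D : Type u} [Category.{v} D] [Preadditive D] [HasZeroObject D] [HasShift D ℤ]
    [∀ n : ℤ, (shiftFunctor D n).Additive] [Pretriangulated D]
    {X Y : D} (f : X ⟶ Y) :
    HasKernel f ↔ ∃ (K Z Q : D) (e₁ : X ≅ K ⊞ Z) (e₂ : Y ≅ Z ⊞ Q),
      f = e₁.hom ≫ biprod.snd ≫ biprod.inl ≫ e₂.inv := by
  constructor
  · intro hK
    obtain ⟨Z, p, h, hT⟩ := distinguished_cocone_triangle (kernel.ι f)
    have h0 : h = 0 := Triangle.mor₃_eq_zero_of_mono₁ _ hT (inferInstance : Mono (kernel.ι f))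
    obtain ⟨e₁, he₁, he₁'⟩ : ∃ e₁ : X ≅ kernel f ⊞ Z, kernel.ι f ≫ e₁.hom = biprod.inl ∧
        p = e₁.hom ≫ biprod.snd := exists_iso_binaryBiproduct_of_distTriang _ hT h0
    obtain ⟨f', hf'⟩ : ∃ f' : Z ⟶ Y, f = p ≫ f' :=
      Triangle.yoneda_exact₂ _ hT f (kernel.condition f)
    have hmono : Mono f' := by
      rw [Preadditive.mono_iff_cancel_zero]
      intro W w hw
      have hsp : (biprod.inr ≫ e₁.inv) ≫ p = 𝟙 Z := by rw [he₁']; simp
      have h1 : (w ≫ biprod.inr ≫ e₁.inv) ≫ f = 0 := by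
        calc (w ≫ biprod.inr ≫ e₁.inv) ≫ f = (w ≫ biprod.inr ≫ e₁.inv) ≫ (p ≫ f') := by
              rw [← hf']
          _ = w ≫ ((biprod.inr ≫ e₁.inv) ≫ p) ≫ f' := by simp only [assoc]
          _ = 0 := by rw [hsp, id_comp, hw]
      have h2 : kernel.lift f (w ≫ biprod.inr ≫ e₁.inv) h1 ≫ kernel.ι f = w ≫ biprod.inr ≫ e₁.inv :=
        kernel.lift_ι _ _ _
      have hkp : kernel.ι f ≫ p = 0 := comp_distTriang_mor_zero₁₂ _ hT
      calc w = w ≫ ((biprod.inr ≫ e₁.inv) ≫ p) := by rw [hsp, comp_id]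
        _ = (w ≫ biprod.inr ≫ e₁.inv) ≫ p := by simp only [assoc]
        _ = (kernel.lift f (w ≫ biprod.inr ≫ e₁.inv) h1 ≫ kernel.ι f) ≫ p := by rw [h2]
        _ = 0 := by rw [assoc, hkp, comp_zero]
    obtain ⟨Q, q, h', hT'⟩ := distinguished_cocone_triangle f'
    have h0' : h' = 0 := Triangle.mor₃_eq_zero_of_mono₁ _ hT' hmono
    obtain ⟨e₂, he₂, he₂'⟩ : ∃ e₂ : Y ≅ Z ⊞ Q, f' ≫ e₂.hom = biprod.inl ∧
        q = e₂.hom ≫ biprod.snd := exists_iso_binaryBiproduct_of_distTriang _ hT' h0'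
    refine ⟨kernel f, Z, Q, e₁, e₂, ?_⟩
    calc f = p ≫ f' := hf'
      _ = e₁.hom ≫ biprod.snd ≫ biprod.inl ≫ e₂.inv := by rw [he₁', ← he₂]; simp
  · rintro ⟨K, Z, Q, e₁, e₂, rfl⟩
    have hk : (biprod.inl ≫ e₁.inv) ≫ (e₁.hom ≫ biprod.snd ≫ biprod.inl ≫ e₂.inv) = 0 := by simp
    refine HasLimit.mk ⟨KernelFork.ofι (biprod.inl ≫ e₁.inv) hk, ?_⟩
    refine KernelFork.IsLimit.ofι _ _ (fun {W} g' _ => g' ≫ e₁.hom ≫ biprod.fst) ?_ ?_
    · intro W g' hg'
      have h1 : g' ≫ e₁.hom ≫ biprod.snd = 0 := by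
        have := congrArg (fun t => t ≫ e₂.hom ≫ biprod.fst) hg'
        simpa using this
      have h2 : (biprod.fst : K ⊞ Z ⟶ K) ≫ biprod.inl = 𝟙 _ - biprod.snd ≫ biprod.inr :=
        eq_sub_of_add_eq biprod.total
      calc (g' ≫ e₁.hom ≫ biprod.fst) ≫ biprod.inl ≫ e₁.inv
          = g' ≫ e₁.hom ≫ (biprod.fst ≫ biprod.inl) ≫ e₁.inv := by simp
        _ = g' := by
          rw [h2, sub_comp, comp_sub, comp_sub, id_comp, e₁.hom_inv_id, comp_id, assoc,
            ← assoc e₁.hom, ← assoc g', h1, zero_comp, sub_zero]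
    · intro W g' hg' m hm
      rw [← hm]; simp

end Groth.Agent.S6594
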