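import Mathlib
import Groth.Agent.Lib.Helper10.Postnikov
import Groth.Agent.S6595
import Groth.Statements.S6596

set_option autoImplicit false
universe v u
open CategoryTheory CategoryTheory.Limits
open CohDer

namespace Groth.Agent.S6596

open CategoryTheory.Pretriangulated Groth.Agent.Helper10.Postnikov in
theorem exists_morphism {D : Type u} [Category.{v} D] [Preadditive D] [HasZeroObject D]
    [HasShift D ℤ] [∀ n : ℤ, (shiftFunctor D n).Additive] [Pretriangulated D]
    (X X' : ChainComplex D ℕ) (φ : X ⟶ X')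
    (Y : ℕ → D) (a : ∀ k, Y k ⟶ X.X k) (b : ∀ k, X.X (k + 1) ⟶ Y k)
    (c : ∀ k, Y k ⟶ (shiftFunctor D (1 : ℤ)).obj (Y (k + 1)))
    (h0 : IsIso (a 0))
    (qY : ℕ → D) (qa : ∀ k, qY k ⟶ X'.X k) (qb : ∀ k, X'.X (k + 1) ⟶ qY k)
    (qc : ∀ k, qY k ⟶ (shiftFunctor D (1 : ℤ)).obj (qY (k + 1)))
    (qh0 : IsIso (qa 0)) :
    ∀ (n : ℕ)
    (hP : ∀ k, k < n → Triangle.mk (a (k + 1)) (b k) (c k) ∈ distinguishedTriangles ∧
      b k ≫ a k = X.d (k + 1) k)
    (qhP : ∀ k, k < n → Triangle.mk (qa (k + 1)) (qb k) (qc k) ∈ distinguishedTriangles ∧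
      qb k ≫ qa k = X'.d (k + 1) k)
    (hX : ∀ i j : ℕ, j + 1 < i → i ≤ n →
      HomZero ((shiftFunctor D ((i : ℤ) - j - 1)).obj (X.X i)) (X'.X j)),
    ∃ y : ∀ k, Y k ⟶ qY k,
      (∀ k, k ≤ n → y k ≫ qa k = a k ≫ φ.f k) ∧
      (∀ k, k < n → b k ≫ y k = φ.f (k + 1) ≫ qb k ∧
        c k ≫ (shiftFunctor D (1 : ℤ)).map (y (k + 1)) = y k ≫ qc k) := by
  intro n
  induction n with
  | zero =>
    intro hP qhP hX
    refine ⟨fun k => match k with
      | 0 => a 0 ≫ φ.f 0 ≫ inv (qa 0)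
      | (k + 1) => 0, ?_, ?_⟩
    · intro k hk
      obtain rfl : k = 0 := by omega
      simp
    · intro k hk
      omega
  | succ n ih =>
    intro hP qhP hX
    obtain ⟨y, hy1, hy2⟩ := ih (fun k hk => hP k (by omega)) (fun k hk => qhP k (by omega))
      (fun i j hij hi => hX i j hij (by omega))
    have hT := (hP n (by omega)).1
    have hqT := (qhP n (by omega)).1
    -- the square commutes
    have hcomp : (b n ≫ y n - φ.f (n + 1) ≫ qb n) ≫ qa n = 0 := by
      rw [Preadditive.sub_comp, Category.assoc, Category.assoc, hy1 n le_rfl, (qhP n (by omega)).2,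
        ← Category.assoc, (hP n (by omega)).2, φ.comm, sub_self]
    have comm : b n ≫ y n = φ.f (n + 1) ≫ qb n := by
      rw [← sub_eq_zero]
      rcases n with _ | m
      · rw [← cancel_mono (qa 0), hcomp, zero_comp]
      · have hqT' := (qhP m (by omega)).1
        refine eq_zero_of_comp_mor₁ hqT' _ hcomp ?_
        have hz := Groth.Agent.S6595.homZero_tower X X' (m + 1 + 1) qY qa qb qc qh0
          (fun k hk => (qhP k hk).1) hX m (m + 1 + 1) (by omega) le_rfl
        exact (hz.zero_right.to_left (-1) (by push_cast; ring))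
    obtain ⟨ynew, hn1, hn2⟩ := complete_distinguished_triangle_morphism₁ _ _ hT hqT
      (φ.f (n + 1)) (y n) comm
    refine ⟨Function.update y (n + 1) ynew, ?_, ?_⟩
    · intro k hk
      by_cases hkn : k = n + 1
      · subst hkn
        rw [Function.update_self]
        exact hn1.symm
      · rw [Function.update_of_ne hkn]
        exact hy1 k (by omega)
    · intro k hk
      by_cases hkn : k = n
      · subst hkn
        rw [Function.update_self, Function.update_of_ne (by omega)]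
        exact ⟨comm, hn2⟩
      · rw [Function.update_of_ne (by omega), Function.update_of_ne (by omega)]
        exact hy2 k (by omega)

open CategoryTheory.Pretriangulated in
/-- Let D be a triangulated category and φ : X ⟶ X' a morphism of chain complexes in D considered in
degrees ≤ n, where a Postnikov system for the complex X_n → … → X_0 consists of objects Y_k, an
isomorphism Y_0 ⟶ X_0, and for 0 ≤ k < n distinguished triangles Y_{k+1} ⟶ X_{k+1} ⟶ Y_k ⟶
Y_{k+1}⟦1⟧ with X_{k+1} ⟶ Y_k ⟶ X_k the differential. Suppose X and X' carry Postnikov systems (Y,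
a, b, c) and (Y', a', b', c'). If Hom(X_i⟦i - j - 1⟧, X'_j) = 0 for all j + 1 < i ≤ n, then φ
extends to a morphism of Postnikov systems: morphisms y_k : Y_k ⟶ Y'_k for k ≤ n forming, with the
φ_k, morphisms of the distinguished triangles and compatible with Y_0 ⟶ X_0 and Y'_0 ⟶ X'_0. -/
theorem result {D : Type u} [Category.{v} D] [Preadditive D] [HasZeroObject D] [HasShift D ℤ]
    [∀ n : ℤ, (shiftFunctor D n).Additive] [Pretriangulated D] [IsTriangulated D]
    (X X' : ChainComplex D ℕ) (φ : X ⟶ X') (n : ℕ)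
    (Y : ℕ → D) (a : ∀ k, Y k ⟶ X.X k) (b : ∀ k, X.X (k + 1) ⟶ Y k)
    (c : ∀ k, Y k ⟶ (shiftFunctor D (1 : ℤ)).obj (Y (k + 1)))
    (h0 : IsIso (a 0))
    (hP : ∀ k, k < n → Triangle.mk (a (k + 1)) (b k) (c k) ∈ distinguishedTriangles ∧ b k ≫ a k = X.d (k + 1) k)
    (qY : ℕ → D) (qa : ∀ k, qY k ⟶ X'.X k) (qb : ∀ k, X'.X (k + 1) ⟶ qY k)
    (qc : ∀ k, qY k ⟶ (shiftFunctor D (1 : ℤ)).obj (qY (k + 1)))
    (qh0 : IsIso (qa 0))
    (qhP : ∀ k, k < n → Triangle.mk (qa (k + 1)) (qb k) (qc k) ∈ distinguishedTriangles ∧ qb k ≫ qa k = X'.d (k + 1) k)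
    (hX : ∀ i j : ℕ, j + 1 < i → i ≤ n → ∀ ψ : (shiftFunctor D ((i : ℤ) - j - 1)).obj (X.X i) ⟶ X'.X j, ψ = 0) :
    ∃ y : ∀ k, Y k ⟶ qY k,
      (∀ k, k ≤ n → y k ≫ qa k = a k ≫ φ.f k) ∧
      (∀ k, k < n → b k ≫ y k = φ.f (k + 1) ≫ qb k ∧ c k ≫ (shiftFunctor D (1 : ℤ)).map (y (k + 1)) = y k ≫ qc k) := by
  exact exists_morphism X X' φ Y a b c h0 qY qa qb qc qh0 n hP qhP
    (fun i j hij hi ψ => hX i j hij hi ψ)

end Groth.Agent.S6596
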