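import Mathlib
import Groth.Agent.Lib.Helper10.Postnikov
import Groth.Statements.S6597

set_option autoImplicit false
universe v u
open CategoryTheory CategoryTheory.Limits
open CohDer

namespace Groth.Agent.S6597

open CategoryTheory.Pretriangulated Groth.Agent.Helper10.Postnikov in
theorem claim {D : Type u} [Category.{v} D] [Preadditive D] [HasZeroObject D]
    [HasShift D ℤ] [∀ n : ℤ, (shiftFunctor D n).Additive] [Pretriangulated D]
    (X : ChainComplex D ℕ) (n : ℕ)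
    (Y : ℕ → D) (a : ∀ k, Y k ⟶ X.X k) (b : ∀ k, X.X (k + 1) ⟶ Y k)
    (c : ∀ k, Y k ⟶ (shiftFunctor D (1 : ℤ)).obj (Y (k + 1)))
    (hP : ∀ k, k < n → Triangle.mk (a (k + 1)) (b k) (c k) ∈ distinguishedTriangles)
    (qY : ℕ → D)
    (qc : ∀ k, qY k ⟶ (shiftFunctor D (1 : ℤ)).obj (qY (k + 1)))
    (w : ∀ k, Y k ⟶ qY k) (hw0 : w 0 = 0)
    (hw : ∀ k, k < n → c k ≫ (shiftFunctor D (1 : ℤ)).map (w (k + 1)) = w k ≫ qc k) :
    ∀ (k : ℕ), k ≤ n → ∀ (T : D) (v : qY k ⟶ T),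
      (∀ i : ℕ, 1 ≤ i → i ≤ k → HomZero (X.X i) ((shiftFunctor D ((k : ℤ) - i)).obj T)) →
      w k ≫ v = 0 := by
  intro k
  induction k with
  | zero =>
    intro _ T v _
    rw [hw0, zero_comp]
  | succ k ih =>
    intro hk T v H
    have hT := hP k (by omega)
    have h1 := ih (by omega) ((shiftFunctor D (1 : ℤ)).obj T)
      (qc k ≫ (shiftFunctor D (1 : ℤ)).map v) (by
        intro i hi1 hik
        exact (H i hi1 (by omega)).of_iso (Iso.refl _)
          ((shiftFunctorAdd' D (1 : ℤ) ((k : ℤ) - i) (((k + 1 : ℕ) : ℤ) - i)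
            (by push_cast; ring)).app T))
    refine eq_zero_of_mor₃_comp hT (w (k + 1) ≫ v) ?_ ?_
    · show c k ≫ (shiftFunctor D (1 : ℤ)).map (w (k + 1) ≫ v) = 0
      rw [Functor.map_comp, ← Category.assoc, hw k (by omega), Category.assoc]
      exact h1
    · exact (H (k + 1) (by omega) le_rfl).of_iso (Iso.refl _)
        (eqToIso (by rw [sub_self]) ≪≫ (shiftFunctorZero D ℤ).app T)

open CategoryTheory.Pretriangulated in
/-- Let D be a triangulated category, φ : X ⟶ X' a morphism of chain complexes in D considered in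
degrees ≤ n, where a Postnikov system for the complex X_n → … → X_0 consists of objects Y_k, an
isomorphism Y_0 ⟶ X_0, and for 0 ≤ k < n distinguished triangles Y_{k+1} ⟶ X_{k+1} ⟶ Y_k ⟶
Y_{k+1}⟦1⟧ with X_{k+1} ⟶ Y_k ⟶ X_k the differential; let (Y, a, b, c) and (Y', a', b', c') be
Postnikov systems for X and X'. If Hom(X_i⟦i⟧, Y'_n⟦n⟧) = 0 for i = 1, …, n, then two morphisms of
Postnikov systems extending φ agree on Y_n. (The published statement says there is at most one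
morphism of Postnikov systems; the argument, by induction along Y_0 → Y_1⟦1⟧ → … → Y_n⟦n⟧,
determines the component in degree n, which is what is asserted here.) -/
theorem result {D : Type u} [Category.{v} D] [Preadditive D] [HasZeroObject D] [HasShift D ℤ]
    [∀ n : ℤ, (shiftFunctor D n).Additive] [Pretriangulated D] [IsTriangulated D]
    (X X' : ChainComplex D ℕ) (φ : X ⟶ X') (n : ℕ)
    (Y : ℕ → D) (a : ∀ k, Y k ⟶ X.X k) (b : ∀ k, X.X (k + 1) ⟶ Y k)
    (c : ∀ k, Y k ⟶ (shiftFunctor D (1 : ℤ)).obj (Y (k + 1)))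
    (h0 : IsIso (a 0))
    (hP : ∀ k, k < n → Triangle.mk (a (k + 1)) (b k) (c k) ∈ distinguishedTriangles ∧ b k ≫ a k = X.d (k + 1) k)
    (qY : ℕ → D) (qa : ∀ k, qY k ⟶ X'.X k) (qb : ∀ k, X'.X (k + 1) ⟶ qY k)
    (qc : ∀ k, qY k ⟶ (shiftFunctor D (1 : ℤ)).obj (qY (k + 1)))
    (qh0 : IsIso (qa 0))
    (qhP : ∀ k, k < n → Triangle.mk (qa (k + 1)) (qb k) (qc k) ∈ distinguishedTriangles ∧ qb k ≫ qa k = X'.d (k + 1) k)
    (hv : ∀ i : ℕ, 1 ≤ i → i ≤ n → ∀ ψ : (shiftFunctor D (i : ℤ)).obj (X.X i) ⟶ (shiftFunctor D (n : ℤ)).obj (qY n), ψ = 0)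
    (y z : ∀ k, Y k ⟶ qY k)
    (hy : (∀ k, k ≤ n → y k ≫ qa k = a k ≫ φ.f k) ∧
      (∀ k, k < n → b k ≫ y k = φ.f (k + 1) ≫ qb k ∧ c k ≫ (shiftFunctor D (1 : ℤ)).map (y (k + 1)) = y k ≫ qc k))
    (hz : (∀ k, k ≤ n → z k ≫ qa k = a k ≫ φ.f k) ∧
      (∀ k, k < n → b k ≫ z k = φ.f (k + 1) ≫ qb k ∧ c k ≫ (shiftFunctor D (1 : ℤ)).map (z (k + 1)) = z k ≫ qc k)) :
    y n = z n := by
  have hw0 : y 0 - z 0 = 0 := by
    rw [← cancel_mono (qa 0), zero_comp, Preadditive.sub_comp, hy.1 0 (Nat.zero_le _),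
      hz.1 0 (Nat.zero_le _), sub_self]
  have key := claim X n Y a b c (fun k hk => (hP k hk).1) qY qc (fun k => y k - z k) hw0 (by
      intro k hk
      rw [Functor.map_sub, Preadditive.comp_sub, (hy.2 k hk).2, (hz.2 k hk).2,
        Preadditive.sub_comp]) n le_rfl (qY n) (𝟙 _) (by
      intro i hi1 hin
      exact Groth.Agent.Helper10.Postnikov.HomZero.to_left (hv i hi1 hin) _ rfl)
  rw [Category.comp_id] at key
  exact sub_eq_zero.1 key

end Groth.Agent.S6597
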