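import Mathlib
import Groth.Statements.S6598

set_option autoImplicit false
universe v u
open CategoryTheory CategoryTheory.Limits
open CohDer

namespace Groth.Agent.S6598

open CochainComplex HomologicalComplex

section split
variable {V : Type u} [Category.{v} V] [Preadditive V] [HasBinaryBiproducts V]

/-- a split monomorphism with an explicit complement is isomorphic to a biproduct inclusion -/
theorem exists_iso_biprod {A B Cc : V} (i : A ⟶ B) (r : B ⟶ A) (j : Cc ⟶ B) (q : B ⟶ Cc)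
    (h1 : i ≫ r = 𝟙 A) (h2 : i ≫ q = 0) (h3 : j ≫ r = 0) (h4 : j ≫ q = 𝟙 Cc)
    (h5 : r ≫ i + q ≫ j = 𝟙 B) :
    ∃ e : B ≅ A ⊞ Cc, i ≫ e.hom = biprod.inl := by
  refine ⟨⟨biprod.lift r q, biprod.desc i j, ?_, ?_⟩, ?_⟩
  · simp [h5]
  · ext <;> simp [h1, h2, h3, h4]
  · ext <;> simp [h1, h2]

end split

section main
variable {V : Type u} [Category.{v} V] [Preadditive V] [HasBinaryBiproducts V] [HasZeroObject V]
  (K L : CochainComplex V ℤ) (α : K ⟶ L)

/-- the mapping cylinder, as `L ⊞ cone(𝟙 K)` -/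
noncomputable abbrev cyl : CochainComplex V ℤ := L ⊞ mappingCone (𝟙 K)

/-- the inclusion of `K` -/
noncomputable abbrev incl : K ⟶ cyl K L := biprod.lift α (mappingCone.inr (𝟙 K))

theorem homotopy_cyl : Nonempty (Homotopy ((biprod.fst : cyl K L ⟶ L) ≫ biprod.inl) (𝟙 (cyl K L))) := by
  have h0 : Homotopy (𝟙 (mappingCone (𝟙 K))) 0 := mappingCone.homotopyToZeroOfId K
  have h1 : Homotopy ((biprod.snd : cyl K L ⟶ _) ≫ 𝟙 _ ≫ (biprod.inr : _ ⟶ cyl K L))
      ((biprod.snd : cyl K L ⟶ _) ≫ 0 ≫ (biprod.inr : _ ⟶ cyl K L)) :=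
    (h0.compRight biprod.inr).compLeft biprod.snd
  have h2 := (Homotopy.refl ((biprod.fst : cyl K L ⟶ L) ≫ biprod.inl)).add h1
  refine ⟨(Homotopy.ofEq ?_).trans (h2.symm.trans (Homotopy.ofEq ?_))⟩
  · simp
  · simp [biprod.total]

theorem split_incl (n : ℤ) : ∃ (Cc : V) (e : (cyl K L).X n ≅ K.X n ⊞ Cc),
    (incl K L α).f n ≫ e.hom = biprod.inl := by
  have hL : (incl K L α).f n ≫ (biprod.fst : cyl K L ⟶ L).f n = α.f n :=
    biprod_lift_fst_f _ _ _
  have hC : (incl K L α).f n ≫ (biprod.snd : cyl K L ⟶ mappingCone (𝟙 K)).f n =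
      (mappingCone.inr (𝟙 K)).f n := biprod_lift_snd_f _ _ _
  have hincl : (incl K L α).f n = α.f n ≫ (biprod.inl : L ⟶ cyl K L).f n +
      (mappingCone.inr (𝟙 K)).f n ≫ (biprod.inr : mappingCone (𝟙 K) ⟶ cyl K L).f n := by
    apply biprodX_ext_to
    · simp [hL]
    · simp [hC]
  have hid := mappingCone.id_X (𝟙 K) n (n + 1) rfl
  refine ⟨L.X n ⊞ K.X (n + 1), ?_⟩
  apply exists_iso_biprod ((incl K L α).f n)
    ((biprod.snd : cyl K L ⟶ mappingCone (𝟙 K)).f n ≫ (mappingCone.snd (𝟙 K)).v n n (add_zero n))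
    (biprod.desc ((biprod.inl : L ⟶ cyl K L).f n)
      ((mappingCone.inl (𝟙 K)).v (n + 1) n (by omega) ≫
        (biprod.inr : mappingCone (𝟙 K) ⟶ cyl K L).f n))
    (biprod.lift ((biprod.fst : cyl K L ⟶ L).f n -
        (biprod.snd : cyl K L ⟶ mappingCone (𝟙 K)).f n ≫
          (mappingCone.snd (𝟙 K)).v n n (add_zero n) ≫ α.f n)
      ((biprod.snd : cyl K L ⟶ mappingCone (𝟙 K)).f n ≫
        (mappingCone.fst (𝟙 K)).1.v n (n + 1) rfl))
  · rw [reassoc_of% hC]; simp
  · ext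
    · simp [hL, reassoc_of% hC]
    · simp [reassoc_of% hC]
  · ext <;> simp
  · ext <;> simp
  · rw [hincl]
    simp only [Preadditive.comp_add, Preadditive.add_comp, Preadditive.sub_comp, Category.assoc,
      biprod.lift_desc]
    rw [← biprod_total_f L (mappingCone (𝟙 K)) n]
    have : (biprod.snd : cyl K L ⟶ mappingCone (𝟙 K)).f n ≫
        (biprod.inr : mappingCone (𝟙 K) ⟶ cyl K L).f n =
        (biprod.snd : cyl K L ⟶ mappingCone (𝟙 K)).f n ≫ ((mappingCone.fst (𝟙 K)).1.v n (n + 1) rfl ≫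
          (mappingCone.inl (𝟙 K)).v (n + 1) n (by omega) +
          (mappingCone.snd (𝟙 K)).v n n (add_zero n) ≫ (mappingCone.inr (𝟙 K)).f n) ≫
        (biprod.inr : mappingCone (𝟙 K) ⟶ cyl K L).f n := by
      rw [hid]; simp
    rw [this]
    simp only [Preadditive.comp_add, Preadditive.add_comp, Category.assoc]
    abel

theorem cyl_isZero (i : ℤ) (h1 : IsZero (L.X i)) (h2 : IsZero (K.X i)) (h3 : IsZero (K.X (i + 1))) :
    IsZero ((cyl K L).X i) := by
  have h4 : IsZero ((mappingCone (𝟙 K)).X i) := by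
    rw [mappingCone.isZero_X_iff]
    exact ⟨h3, h2⟩
  exact (biprodXIso L (mappingCone (𝟙 K)) i).isZero_iff.2 ((biprod_isZero_iff _ _).2 ⟨h1, h4⟩)

end main

/-- Let α : K ⟶ L be a morphism of cochain complexes over an additive category. There is a factorization
K ⟶ L' ⟶ L of α such that (1) K ⟶ L' is a termwise split injection (in each degree isomorphic to the
inclusion of a direct summand) and (2) L' ⟶ L admits a section s : L ⟶ L' (s followed by L' ⟶ L is
the identity) such that L' ⟶ L followed by s is homotopic to the identity of L'. Moreover if K and L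
are both bounded below, resp. both bounded above, then L' may be chosen bounded below, resp. bounded
above. -/
theorem result {V : Type u} [Category.{v} V] [Preadditive V] [HasBinaryBiproducts V] [HasZeroObject V]
    (K L : CochainComplex V ℤ) (α : K ⟶ L) :
    ∃ (L' : CochainComplex V ℤ) (α' : K ⟶ L') (π : L' ⟶ L) (s : L ⟶ L'),
      α' ≫ π = α ∧ s ≫ π = 𝟙 L ∧ Nonempty (Homotopy (π ≫ s) (𝟙 L')) ∧
      (∀ n : ℤ, ∃ (C : V) (e : L'.X n ≅ K.X n ⊞ C), α'.f n ≫ e.hom = biprod.inl) ∧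
      (∀ a : ℤ, K.IsStrictlyGE a → L.IsStrictlyGE a → ∃ a' : ℤ, L'.IsStrictlyGE a') ∧
      (∀ a : ℤ, K.IsStrictlyLE a → L.IsStrictlyLE a → ∃ a' : ℤ, L'.IsStrictlyLE a') := by
  refine ⟨cyl K L, incl K L α, biprod.fst, biprod.inl, ?_, ?_, homotopy_cyl K L, split_incl K L α,
    ?_, ?_⟩
  · simp
  · simp
  · intro a hK hL
    refine ⟨a - 1, ?_⟩
    rw [isStrictlyGE_iff]
    intro i hi
    exact cyl_isZero K L i (L.isZero_of_isStrictlyGE a i (by omega))
      (K.isZero_of_isStrictlyGE a i (by omega)) (K.isZero_of_isStrictlyGE a (i + 1) (by omega))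
  · intro a hK hL
    refine ⟨a, ?_⟩
    rw [isStrictlyLE_iff]
    intro i hi
    exact cyl_isZero K L i (L.isZero_of_isStrictlyLE a i (by omega))
      (K.isZero_of_isStrictlyLE a i (by omega)) (K.isZero_of_isStrictlyLE a (i + 1) (by omega))

end Groth.Agent.S6598
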