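import Mathlib
import Groth.Statements.S6599

set_option autoImplicit false
universe v u
open CategoryTheory CategoryTheory.Limits
open CohDer

namespace Groth.Agent.S6599

open CochainComplex HomologicalComplex

section split
variable {V : Type u} [Category.{v} V] [Preadditive V] [HasBinaryBiproducts V]

/-- a split epimorphism with an explicit complement is isomorphic to a biproduct projection -/
theorem exists_iso_biprod {B Cc D : V} (q : B ⟶ D) (j : D ⟶ B) (i : Cc ⟶ B) (r : B ⟶ Cc)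
    (h1 : j ≫ q = 𝟙 D) (h2 : i ≫ q = 0) (h3 : j ≫ r = 0) (h4 : i ≫ r = 𝟙 Cc)
    (h5 : r ≫ i + q ≫ j = 𝟙 B) :
    ∃ e : B ≅ Cc ⊞ D, e.inv ≫ q = biprod.snd := by
  refine ⟨⟨biprod.lift r q, biprod.desc i j, ?_, ?_⟩, ?_⟩
  · simp [h5]
  · ext <;> simp [h1, h2, h3, h4]
  · ext <;> simp [h1, h2]

end split

section main
variable {V : Type u} [Category.{v} V] [Preadditive V] [HasBinaryBiproducts V] [HasZeroObject V]
  (K L : CochainComplex V ℤ) (α : K ⟶ L)

/-- `L[-1]` -/
noncomputable def M : CochainComplex V ℤ := (CategoryTheory.shiftFunctor (CochainComplex V ℤ) (-1 : ℤ)).obj L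

/-- `L[-1][1] ≅ L` -/
noncomputable abbrev iotaIso : (CategoryTheory.shiftFunctor (CochainComplex V ℤ) (1 : ℤ)).obj (M L) ≅ L :=
  (shiftFunctorCompIsoId (CochainComplex V ℤ) (-1 : ℤ) 1 (by omega)).app L

/-- a contractible complex mapping onto `L` -/
noncomputable abbrev P : CochainComplex V ℤ := mappingCone (𝟙 (M L))

/-- the projection `P ⟶ L` -/
noncomputable def rho : P L ⟶ L := (mappingCone.triangle (𝟙 (M L))).mor₃ ≫ (iotaIso L).hom

/-- the comparison isomorphism (up to sign) `L[-1]^{n+1} ⟶ L^n` -/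
noncomputable def w (n : ℤ) : (M L).X (n + 1) ⟶ L.X n :=
  -(((M L).shiftFunctorObjXIso 1 n (n + 1) rfl).inv ≫ (iotaIso L).hom.f n)

/-- its inverse -/
noncomputable def winv (n : ℤ) : L.X n ⟶ (M L).X (n + 1) :=
  -((iotaIso L).inv.f n ≫ ((M L).shiftFunctorObjXIso 1 n (n + 1) rfl).hom)

@[reassoc (attr := simp)] theorem w_winv (n : ℤ) : w L n ≫ winv L n = 𝟙 _ := by
  unfold w winv
  rw [Preadditive.neg_comp, Preadditive.comp_neg, neg_neg, Category.assoc,
    ← HomologicalComplex.comp_f_assoc, Iso.hom_inv_id, HomologicalComplex.id_f, Category.id_comp,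
    Iso.inv_hom_id]

@[reassoc (attr := simp)] theorem winv_w (n : ℤ) : winv L n ≫ w L n = 𝟙 _ := by
  unfold w winv
  rw [Preadditive.neg_comp, Preadditive.comp_neg, neg_neg, Category.assoc,
    Iso.hom_inv_id_assoc, ← HomologicalComplex.comp_f, Iso.inv_hom_id, HomologicalComplex.id_f]

@[reassoc] theorem inl_rho (n : ℤ) :
    (mappingCone.inl (𝟙 (M L))).v (n + 1) n (by omega) ≫ (rho L).f n = w L n := by
  unfold rho w
  rw [HomologicalComplex.comp_f, mappingCone.inl_v_triangle_mor₃_f_assoc]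
  exact Preadditive.neg_comp _ _

@[reassoc] theorem inr_rho (n : ℤ) :
    (mappingCone.inr (𝟙 (M L))).f n ≫ (rho L).f n = 0 := by
  unfold rho
  rw [HomologicalComplex.comp_f, mappingCone.inr_f_triangle_mor₃_f_assoc, zero_comp]

theorem rho_eq (n : ℤ) :
    (rho L).f n = (mappingCone.fst (𝟙 (M L))).1.v n (n + 1) rfl ≫ w L n := by
  have hid := mappingCone.id_X (𝟙 (M L)) n (n + 1) rfl
  rw [← Category.id_comp ((rho L).f n), ← hid, Preadditive.add_comp, Category.assoc, Category.assoc,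
    inl_rho, inr_rho, comp_zero, add_zero]

/-- the mapping cocylinder, as `K ⊞ P` -/
noncomputable abbrev cocyl : CochainComplex V ℤ := K ⊞ P L

/-- the projection to `L` -/
noncomputable abbrev proj : cocyl K L ⟶ L := biprod.desc α (rho L)

theorem homotopy_cocyl :
    Nonempty (Homotopy ((biprod.fst : cocyl K L ⟶ K) ≫ biprod.inl) (𝟙 (cocyl K L))) := by
  have h0 : Homotopy (𝟙 (P L)) 0 := mappingCone.homotopyToZeroOfId (M L)
  have h1 : Homotopy ((biprod.snd : cocyl K L ⟶ _) ≫ 𝟙 _ ≫ (biprod.inr : _ ⟶ cocyl K L))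
      ((biprod.snd : cocyl K L ⟶ _) ≫ 0 ≫ (biprod.inr : _ ⟶ cocyl K L)) :=
    (h0.compRight biprod.inr).compLeft biprod.snd
  have h2 := (Homotopy.refl ((biprod.fst : cocyl K L ⟶ K) ≫ biprod.inl)).add h1
  refine ⟨(Homotopy.ofEq ?_).trans (h2.symm.trans (Homotopy.ofEq ?_))⟩
  · simp
  · simp [biprod.total]

theorem split_proj (n : ℤ) : ∃ (Cc : V) (e : (cocyl K L).X n ≅ Cc ⊞ L.X n),
    e.inv ≫ (proj K L α).f n = biprod.snd := by
  have hK : (biprod.inl : K ⟶ cocyl K L).f n ≫ (proj K L α).f n = α.f n :=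
    biprod_inl_desc_f _ _ _
  have hP : (biprod.inr : P L ⟶ cocyl K L).f n ≫ (proj K L α).f n = (rho L).f n :=
    biprod_inr_desc_f _ _ _
  have hproj : (proj K L α).f n = (biprod.fst : cocyl K L ⟶ K).f n ≫ α.f n +
      (biprod.snd : cocyl K L ⟶ P L).f n ≫ (rho L).f n := by
    apply biprodX_ext_from
    · simp [hK]
    · simp [hP]
  have hid := mappingCone.id_X (𝟙 (M L)) n (n + 1) rfl
  have hrw : (rho L).f n ≫ winv L n = (mappingCone.fst (𝟙 (M L))).1.v n (n + 1) rfl := by
    rw [rho_eq, Category.assoc, w_winv, Category.comp_id]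
  refine ⟨K.X n ⊞ (M L).X n, ?_⟩
  apply exists_iso_biprod ((proj K L α).f n)
    (winv L n ≫ (mappingCone.inl (𝟙 (M L))).v (n + 1) n (by omega) ≫
      (biprod.inr : P L ⟶ cocyl K L).f n)
    (biprod.desc ((biprod.inl : K ⟶ cocyl K L).f n -
        α.f n ≫ winv L n ≫ (mappingCone.inl (𝟙 (M L))).v (n + 1) n (by omega) ≫
          (biprod.inr : P L ⟶ cocyl K L).f n)
      ((mappingCone.inr (𝟙 (M L))).f n ≫ (biprod.inr : P L ⟶ cocyl K L).f n))
    (biprod.lift ((biprod.fst : cocyl K L ⟶ K).f n)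
      ((biprod.snd : cocyl K L ⟶ P L).f n ≫ (mappingCone.snd (𝟙 (M L))).v n n (add_zero n)))
  · simp only [Category.assoc, hP, inl_rho, winv_w]
  · ext
    · simp only [biprod.inl_desc_assoc, Preadditive.sub_comp, Category.assoc, hK, hP, inl_rho,
        winv_w, Category.comp_id, sub_self, comp_zero]
    · simp only [biprod.inr_desc_assoc, Category.assoc, hP, inr_rho, comp_zero]
  · ext <;> simp
  · ext <;> simp
  · rw [hproj]
    simp only [Preadditive.comp_add, Preadditive.add_comp, Preadditive.comp_sub, Category.assoc,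
      biprod.lift_desc]
    rw [reassoc_of% hrw]
    rw [← biprod_total_f K (P L) n]
    have : (biprod.snd : cocyl K L ⟶ P L).f n ≫ (biprod.inr : P L ⟶ cocyl K L).f n =
        (biprod.snd : cocyl K L ⟶ P L).f n ≫ ((mappingCone.fst (𝟙 (M L))).1.v n (n + 1) rfl ≫
          (mappingCone.inl (𝟙 (M L))).v (n + 1) n (by omega) +
          (mappingCone.snd (𝟙 (M L))).v n n (add_zero n) ≫ (mappingCone.inr (𝟙 (M L))).f n) ≫
        (biprod.inr : P L ⟶ cocyl K L).f n := by
      rw [hid]; simp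
    rw [this]
    simp only [Preadditive.comp_add, Preadditive.add_comp, Category.assoc]
    abel

theorem cocyl_isZero (i : ℤ) (h1 : IsZero (K.X i)) (h2 : IsZero (L.X (i + -1)))
    (h3 : IsZero (L.X (i + 1 + -1))) : IsZero ((cocyl K L).X i) := by
  have h4 : IsZero ((P L).X i) := by
    rw [mappingCone.isZero_X_iff]
    exact ⟨show IsZero (L.X (i + 1 + -1)) from h3, show IsZero (L.X (i + -1)) from h2⟩
  exact (biprodXIso K (P L) i).isZero_iff.2 ((biprod_isZero_iff _ _).2 ⟨h1, h4⟩)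

end main

/-- Let α : K ⟶ L be a morphism of cochain complexes over an additive category. There is a factorization
K ⟶ K' ⟶ L of α such that (1) K' ⟶ L is a termwise split surjection (in each degree isomorphic to
the projection onto a direct summand) and (2) K ⟶ K' admits a retraction s : K' ⟶ K (K ⟶ K' followed
by s is the identity) such that s followed by K ⟶ K' is homotopic to the identity of K'. Moreover if
K and L are both bounded below, resp. both bounded above, then K' may be chosen bounded below, resp.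
bounded above. -/
theorem result {V : Type u} [Category.{v} V] [Preadditive V] [HasBinaryBiproducts V] [HasZeroObject V]
    (K L : CochainComplex V ℤ) (α : K ⟶ L) :
    ∃ (K' : CochainComplex V ℤ) (i : K ⟶ K') (α' : K' ⟶ L) (s : K' ⟶ K),
      i ≫ α' = α ∧ i ≫ s = 𝟙 K ∧ Nonempty (Homotopy (s ≫ i) (𝟙 K')) ∧
      (∀ n : ℤ, ∃ (C : V) (e : K'.X n ≅ C ⊞ L.X n), e.inv ≫ α'.f n = biprod.snd) ∧
      (∀ a : ℤ, K.IsStrictlyGE a → L.IsStrictlyGE a → ∃ a' : ℤ, K'.IsStrictlyGE a') ∧
      (∀ a : ℤ, K.IsStrictlyLE a → L.IsStrictlyLE a → ∃ a' : ℤ, K'.IsStrictlyLE a') := by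
  refine ⟨cocyl K L, biprod.inl, proj K L α, biprod.fst, ?_, ?_, homotopy_cocyl K L,
    split_proj K L α, ?_, ?_⟩
  · simp
  · simp
  · intro a hK hL
    refine ⟨a, ?_⟩
    rw [isStrictlyGE_iff]
    intro i hi
    exact cocyl_isZero K L i (K.isZero_of_isStrictlyGE a i (by omega))
      (L.isZero_of_isStrictlyGE a _ (by omega)) (L.isZero_of_isStrictlyGE a _ (by omega))
  · intro a hK hL
    refine ⟨a + 1, ?_⟩
    rw [isStrictlyLE_iff]
    intro i hi
    exact cocyl_isZero K L i (K.isZero_of_isStrictlyLE a i (by omega))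
      (L.isZero_of_isStrictlyLE a _ (by omega)) (L.isZero_of_isStrictlyLE a _ (by omega))

end Groth.Agent.S6599
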