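import Groth.Statements.S6601
import Mathlib

set_option autoImplicit false
universe v u
open CategoryTheory CategoryTheory.Limits
open CohDer

namespace Groth.Agent.S6601

set_option backward.defeqAttrib.useBackward true in
set_option backward.isDefEq.respectTransparency false in
open CategoryTheory.Pretriangulated ZeroObject Category Preadditive in
/-- Let D be a triangulated category, B ⊂ D a full subcategory invariant under all shifts, and X → Y → Z
→ X⟦1⟧ a distinguished triangle. Then X lies in the left orthogonal ^⊥B if and only if Hom(Z, B) →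
Hom(Y, B) is bijective for every object B of B. -/
theorem result {D : Type u} [Category.{v} D] [Preadditive D] [HasZeroObject D] [HasShift D ℤ]
    [∀ n : ℤ, (shiftFunctor D n).Additive] [Pretriangulated D] [IsTriangulated D]
    (P : ObjectProperty D) [P.IsStableUnderShift ℤ] (T : Triangle D) (hT : T ∈ distinguishedTriangles) :
    P.leftOrthogonal T.obj₁ ↔ ∀ B : D, P B → Function.Bijective (fun u : T.obj₃ ⟶ B => T.mor₂ ≫ u) := by
  constructor
  · intro hX B hB
    constructor
    · intro u₁ u₂ h
      have h0 : T.mor₂ ≫ (u₁ - u₂) = 0 := by rw [comp_sub]; exact sub_eq_zero.2 h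
      obtain ⟨k, hk⟩ := Triangle.yoneda_exact₃ _ hT (u₁ - u₂) h0
      have hk0 : k = 0 := (P.leftOrthogonal.le_shift (1 : ℤ) _ hX) k hB
      rw [hk0, comp_zero, sub_eq_zero] at hk
      exact hk
    · intro v
      obtain ⟨u, hu⟩ := Triangle.yoneda_exact₂ _ hT v (hX _ hB)
      exact ⟨u, hu.symm⟩
  · intro H B w hB
    apply (shiftFunctor D (1 : ℤ)).map_injective
    rw [Functor.map_zero]
    have hB' : P ((shiftFunctor D (1 : ℤ)).obj B) := P.le_shift (1 : ℤ) _ hB
    have h1 : T.mor₃ ≫ (shiftFunctor D (1 : ℤ)).map w = 0 := by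
      apply (H _ hB').1
      dsimp
      rw [← assoc, comp_distTriang_mor_zero₂₃ _ hT, zero_comp, comp_zero]
    obtain ⟨ψ, hψ⟩ := Triangle.yoneda_exact₃ _ (rot_of_distTriang _ hT)
      ((shiftFunctor D (1 : ℤ)).map w) h1
    obtain ⟨v, rfl⟩ := (shiftFunctor D (1 : ℤ)).map_surjective ψ
    obtain ⟨u, hu⟩ := (H B hB).2 v
    dsimp at hu hψ
    rw [hψ, ← hu, Functor.map_comp, neg_comp, ← assoc, ← Functor.map_comp,
      comp_distTriang_mor_zero₁₂ _ hT, Functor.map_zero, zero_comp, neg_zero]

end Groth.Agent.S6601
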