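import Groth.Statements.S6602
import Groth.Agent.S6601

set_option autoImplicit false
universe v u
open CategoryTheory CategoryTheory.Limits
open CohDer

namespace Groth.Agent.S6602

set_option backward.defeqAttrib.useBackward true in
set_option backward.isDefEq.respectTransparency false in
open CategoryTheory.Pretriangulated ZeroObject Category Preadditive in
/-- (1) ⇔ (2): let D be a triangulated category and B a full triangulated subcategory. The inclusion
functor B → D has a left adjoint if and only if for every X in D there is a distinguished triangle A
→ X → B → A⟦1⟧ with B in B and A in the left orthogonal ^⊥B. (The published statement further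
asserts that B is then saturated and, when strictly full, equals the right orthogonal of its left
orthogonal; this row asserts only the equivalence.) -/
theorem result {D : Type u} [Category.{v} D] [Preadditive D] [HasZeroObject D] [HasShift D ℤ]
    [∀ n : ℤ, (shiftFunctor D n).Additive] [Pretriangulated D] [IsTriangulated D]
    (P : ObjectProperty D) [P.IsTriangulated] :
    P.ι.IsRightAdjoint ↔ ∀ X : D, ∃ (A B : D) (f : A ⟶ X) (g : X ⟶ B) (h : B ⟶ (shiftFunctor D (1 : ℤ)).obj A),
      Triangle.mk f g h ∈ distinguishedTriangles ∧ P B ∧ P.leftOrthogonal A := by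
  constructor
  · intro hadj X
    let L := P.ι.leftAdjoint
    let adj : L ⊣ P.ι := Adjunction.ofIsRightAdjoint P.ι
    obtain ⟨A, f, h, hT⟩ := distinguished_cocone_triangle₁ (adj.unit.app X)
    refine ⟨A, (L.obj X).obj, f, adj.unit.app X, h, hT, (L.obj X).property, ?_⟩
    refine (Groth.Agent.S6601.result P _ hT).2 ?_
    intro B' hB'
    constructor
    · intro u₁ u₂ h12
      dsimp at u₁ u₂ h12
      have h1 : adj.homEquiv X ⟨B', hB'⟩ (ObjectProperty.homMk u₁) =
          adj.homEquiv X ⟨B', hB'⟩ (ObjectProperty.homMk u₂) := by
        rw [Adjunction.homEquiv_unit, Adjunction.homEquiv_unit]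
        exact h12
      have h2 := (adj.homEquiv X ⟨B', hB'⟩).injective h1
      exact congrArg (fun t => t.hom) h2
    · intro k
      dsimp at k
      refine ⟨((adj.homEquiv X ⟨B', hB'⟩).symm k).hom, ?_⟩
      have h1 := (adj.homEquiv X ⟨B', hB'⟩).apply_symm_apply k
      rw [Adjunction.homEquiv_unit] at h1
      exact h1
  · intro H
    rw [isRightAdjoint_iff_hasInitial_structuredArrow]
    intro X
    obtain ⟨A, B, f, g, h, hT, hB, hA⟩ := H X
    have hbij := (Groth.Agent.S6601.result P _ hT).1 hA
    refine (IsInitial.ofUniqueHom (X := StructuredArrow.mk (Y := (⟨B, hB⟩ : P.FullSubcategory)) g)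
      (fun S' => StructuredArrow.homMk
        (ObjectProperty.homMk ((hbij S'.right.obj S'.right.property).2 S'.hom).choose)
        ((hbij S'.right.obj S'.right.property).2 S'.hom).choose_spec) ?_).hasInitial
    intro S' m
    ext
    apply (hbij S'.right.obj S'.right.property).1
    have h1 := ((hbij S'.right.obj S'.right.property).2 S'.hom).choose_spec
    have h2 := StructuredArrow.w m
    exact h2.trans h1.symm

end Groth.Agent.S6602
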