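import Groth.Statements.S6788
import Mathlib

set_option autoImplicit false
open CategoryTheory CategoryTheory.Limits
universe v u v' u'
open CategoryTheory CategoryTheory.Localization

namespace Groth.Agent.S6788

/-- For a multiplicative system `W` (left and right calculus of fractions) in a preadditive category
with a zero object and its localization functor `L`, an object `X` becomes zero in the localization
iff some zero map out of `X` lies in `W`, iff some zero map into `X` lies in `W`. (The published
statement assumes the category additive; only the zero object and the preadditive structure are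
used.) -/
theorem result {C : Type u} [Category.{v} C] [Preadditive C] [HasZeroObject C] {D : Type u'} [Category.{v'} D] (L : C ⥤ D) (W : MorphismProperty C) [W.HasLeftCalculusOfFractions] [W.HasRightCalculusOfFractions] [L.IsLocalization W] (X : C) : (IsZero (L.obj X) ↔ ∃ Y : C, W (0 : X ⟶ Y)) ∧ (IsZero (L.obj X) ↔ ∃ Z : C, W (0 : Z ⟶ X)) := by
  let _ : Preadditive D := Localization.preadditive L W
  have : L.Additive := Localization.functor_additive L W
  constructor
  · constructor
    · intro h
      have h1 : L.map (𝟙 X) = L.map (0 : X ⟶ X) := h.eq_of_src _ _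
      obtain ⟨Z, s, hs, fac⟩ := (MorphismProperty.map_eq_iff_postcomp L W _ _).1 h1
      rw [Category.id_comp, Limits.zero_comp] at fac
      exact ⟨Z, fac ▸ hs⟩
    · rintro ⟨Y, hY⟩
      have := Localization.inverts L W _ hY
      rw [Limits.IsZero.iff_id_eq_zero]
      have h := IsIso.hom_inv_id (L.map (0 : X ⟶ Y))
      have h0 := congrArg (· ≫ inv (L.map (0 : X ⟶ Y))) (L.map_zero X Y)
      simp only [Limits.zero_comp] at h0
      exact h.symm.trans h0
  · constructor
    · intro h
      have h1 : L.map (𝟙 X) = L.map (0 : X ⟶ X) := h.eq_of_src _ _
      obtain ⟨Z, s, hs, fac⟩ := (MorphismProperty.map_eq_iff_precomp L W _ _).1 h1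
      rw [Category.comp_id, Limits.comp_zero] at fac
      exact ⟨Z, fac ▸ hs⟩
    · rintro ⟨Y, hY⟩
      have := Localization.inverts L W _ hY
      rw [Limits.IsZero.iff_id_eq_zero]
      have h := IsIso.inv_hom_id (L.map (0 : Y ⟶ X))
      have h0 := congrArg (inv (L.map (0 : Y ⟶ X)) ≫ ·) (L.map_zero Y X)
      simp only [Limits.comp_zero] at h0
      exact h.symm.trans h0

end Groth.Agent.S6788
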