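import Groth.Statements.S6604
import Groth.Agent.S6788

set_option autoImplicit false
universe v u v' u'
open CategoryTheory CategoryTheory.Limits
open CohDer

namespace Groth.Agent.S6604

set_option backward.defeqAttrib.useBackward true in
set_option backward.isDefEq.respectTransparency false in
open CategoryTheory.Pretriangulated ZeroObject Category Preadditive in
/-- Let D be a triangulated category, B a full triangulated subcategory and Q : D → D/B the quotient
functor. Q sends an object Z of D to zero (Q(Z) = 0, i.e. Z belongs to the kernel of Q) exactly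
when, for a suitable object Z' of D, the direct sum Z ⊞ Z' is isomorphic to some object lying in B;
put differently, the kernel is the smallest saturated, strictly full triangulated subcategory that
contains B. -/
theorem result {D : Type u} [Category.{v} D] [Preadditive D] [HasZeroObject D] [HasShift D ℤ]
    [∀ n : ℤ, (shiftFunctor D n).Additive] [Pretriangulated D] [IsTriangulated D]
    (B : ObjectProperty D) [B.IsTriangulated]
    {E : Type u'} [Category.{v'} E] (Q : D ⥤ E) [Q.IsLocalization B.trW] (Z : D) :
    IsZero (Q.obj Z) ↔ ∃ (Z' Y : D), B Y ∧ Nonempty (Z ⊞ Z' ≅ Y) := by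
  have key := Groth.Agent.S6788.result Q B.trW
  constructor
  · intro hZ
    obtain ⟨Z'', hW⟩ := ((key Z).2).1 hZ
    obtain ⟨C, g, h, hT, hC⟩ := (B.trW_iff _).1 hW
    have hR := rot_of_distTriang _ hT
    obtain ⟨e, -, -⟩ := exists_iso_binaryBiproduct_of_distTriang _ hR (by simp)
    exact ⟨_, C, hC, ⟨e.symm⟩⟩
  · rintro ⟨Z', Y, hY, ⟨e⟩⟩
    have hQY : IsZero (Q.obj Y) :=
      ((key Y).2).2 ⟨0, ObjectProperty.trW.mk B (contractible_distinguished₁ Y) hY⟩
    have hQ : IsZero (Q.obj (Z ⊞ Z')) := hQY.of_iso (Q.mapIso e)
    let _ : Preadditive E := Localization.preadditive Q B.trW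
    have : Q.Additive := Localization.functor_additive Q B.trW
    rw [IsZero.iff_id_eq_zero, ← Q.map_id, ← biprod.inl_fst (X := Z) (Y := Z'), Q.map_comp,
      hQ.eq_of_tgt (Q.map biprod.inl) 0, zero_comp]

end Groth.Agent.S6604
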