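import Groth.Statements.S6606
import Mathlib
import Groth.Agent.Lib.Helper9.PCoh25

set_option autoImplicit false
universe v u
open CategoryTheory CategoryTheory.Limits
open CohDer

namespace Groth.Agent.S6606

/-- Let A be an abelian category, β : P ⟶ L and α : E ⟶ L morphisms of cochain complexes and n an
integer. Assume P is a bounded complex of projective objects with Pⁱ = 0 for i < n, and that Hⁱ(α)
is an isomorphism for i > n and an epimorphism for i = n. Then there is γ : P ⟶ E such that γ ≫ α is
homotopic to β. -/
theorem result {A : Type u} [Category.{v} A] [Abelian A]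
    (P E L : CochainComplex A ℤ) (β : P ⟶ L) (α : E ⟶ L) (n b : ℤ) [P.IsStrictlyGE n] [P.IsStrictlyLE b]
    (hP : ∀ i : ℤ, Projective (P.X i))
    (hiso : ∀ i : ℤ, n < i → IsIso (HomologicalComplex.homologyMap α i)) (hepi : Epi (HomologicalComplex.homologyMap α n)) :
    ∃ γ : P ⟶ E, Nonempty (Homotopy (γ ≫ α) β) := by
  letI : HasDerivedCategory.{max u v} A := HasDerivedCategory.standard A
  haveI : ∀ i, Projective (P.X i) := hP
  haveI : P.IsKProjective := CochainComplex.isKProjective_of_projective P b
  have hC : ∀ i : ℤ, n ≤ i → IsZero ((CochainComplex.mappingCone α).homology i) :=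
    (Groth.Agent.Helper9.PCohLib.isNQI_iff_mappingCone α n).1 ⟨hiso, hepi⟩
  -- the truncation of the cone
  have hι : QuasiIso ((CochainComplex.mappingCone α).ιTruncLE (n - 1)) := by
    rw [CochainComplex.quasiIso_ιTruncLE_iff]
    rw [CochainComplex.isLE_iff]
    intro i hi
    rw [HomologicalComplex.exactAt_iff_isZero_homology]
    exact hC i (by omega)
  have hzero : DerivedCategory.Q.map (β ≫ CochainComplex.mappingCone.inr α) = 0 := by
    haveI : IsIso (DerivedCategory.Q.map ((CochainComplex.mappingCone α).ιTruncLE (n - 1))) := by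
      rw [DerivedCategory.isIso_Q_map_iff_quasiIso]
      exact hι
    obtain ⟨φ, hφ⟩ := Groth.Agent.Helper9.PCohLib.exists_map_of_isKProjective P
      ((CochainComplex.mappingCone α).truncLE (n - 1))
      (DerivedCategory.Q.map (β ≫ CochainComplex.mappingCone.inr α) ≫
        inv (DerivedCategory.Q.map ((CochainComplex.mappingCone α).ιTruncLE (n - 1))))
    have hφ0 : φ = 0 := by
      ext i
      by_cases hi : n ≤ i
      · exact (CochainComplex.isZero_of_isStrictlyLE
          ((CochainComplex.mappingCone α).truncLE (n - 1)) (n - 1) i (by omega)).eq_of_tgt _ _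
      · exact (CochainComplex.isZero_of_isStrictlyGE P n i (by omega)).eq_of_src _ _
    have : DerivedCategory.Q.map (β ≫ CochainComplex.mappingCone.inr α) =
        DerivedCategory.Q.map φ ≫
          DerivedCategory.Q.map ((CochainComplex.mappingCone α).ιTruncLE (n - 1)) := by
      rw [hφ]; simp
    rw [this, hφ0, Functor.map_zero, zero_comp]
  obtain ⟨h0⟩ := Groth.Agent.Helper9.PCohLib.homotopy_of_Q_map_eq
    (β ≫ CochainComplex.mappingCone.inr α) 0 (by rw [hzero, Functor.map_zero])
  -- lift in the homotopy category
  have hT := HomotopyCategory.mappingCone_triangleh_distinguished α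
  have hq : (HomotopyCategory.quotient A (ComplexShape.up ℤ)).map β ≫
      (CochainComplex.mappingCone.triangleh α).mor₂ = 0 := by
    change (HomotopyCategory.quotient A (ComplexShape.up ℤ)).map β ≫
      (HomotopyCategory.quotient A (ComplexShape.up ℤ)).map (CochainComplex.mappingCone.inr α) = 0
    rw [← Functor.map_comp, HomotopyCategory.eq_of_homotopy _ _ h0, Functor.map_zero]
  obtain ⟨g, hg⟩ := Pretriangulated.Triangle.coyoneda_exact₂ _ hT _ hq
  obtain ⟨γ, rfl⟩ := (HomotopyCategory.quotient A (ComplexShape.up ℤ)).map_surjective g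
  refine ⟨γ, ⟨HomotopyCategory.homotopyOfEq _ _ ?_⟩⟩
  rw [Functor.map_comp]
  exact hg.symm

end Groth.Agent.S6606
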