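import Groth.Statements.S6607
import Groth.Agent.S6601

set_option autoImplicit false
universe v u
open CategoryTheory CategoryTheory.Limits
open CohDer

namespace Groth.Agent.S6607

set_option backward.defeqAttrib.useBackward true in
set_option backward.isDefEq.respectTransparency false in
open CategoryTheory.Pretriangulated ZeroObject Category Preadditive in
/-- Let D be a triangulated category and B a full triangulated subcategory. Let P(X) be the property:
there is a distinguished triangle A → X → B → A⟦1⟧ with B in B and A in ^⊥B. Then P satisfies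
two-out-of-three in distinguished triangles, i.e. it is stable under all shifts and closed under
extensions (a triangulated object property). -/
theorem result {D : Type u} [Category.{v} D] [Preadditive D] [HasZeroObject D] [HasShift D ℤ]
    [∀ n : ℤ, (shiftFunctor D n).Additive] [Pretriangulated D] [IsTriangulated D]
    (B : ObjectProperty D) [B.IsTriangulated] :
    ObjectProperty.IsTriangulated (fun X : D => ∃ (A Y : D) (f : A ⟶ X) (g : X ⟶ Y) (h : Y ⟶ (shiftFunctor D (1 : ℤ)).obj A),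
      Triangle.mk f g h ∈ distinguishedTriangles ∧ B Y ∧ B.leftOrthogonal A) := by
  refine
    { exists_zero := ?_
      isStableUnderShiftBy := fun n => ⟨?_⟩
      ext₂' := ?_ }
  · obtain ⟨Z, hZ0, hZ⟩ := B.exists_prop_of_containsZero
    refine ⟨Z, hZ0, 0, Z, 0, 𝟙 Z, 0, contractible_distinguished₁ Z, hZ, ?_⟩
    intro Y f _
    exact (isZero_zero D).eq_of_src _ _
  · rintro X ⟨A, Y, f, g, h, hT, hY, hA⟩
    have hT' := Triangle.shift_distinguished _ hT n
    exact ⟨_, _, _, _, _, hT', B.le_shift n _ hY, B.leftOrthogonal.le_shift n _ hA⟩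
  · rintro T hT ⟨A₁, Y₁, f₁, g₁, h₁, hT₁, hY₁, hA₁⟩ ⟨A₃, Y₃, f₃, g₃, h₃, hT₃, hY₃, hA₃⟩
    apply ObjectProperty.le_isoClosure
    have bij₁ := (Groth.Agent.S6601.result B _ hT₁).1 hA₁
    have bij₃ := (Groth.Agent.S6601.result B _ hT₃).1 hA₃
    dsimp at bij₁ bij₃
    have hY₁' : B ((shiftFunctor D (1 : ℤ)).obj Y₁) := B.le_shift (1 : ℤ) _ hY₁
    obtain ⟨w', hw'⟩ := (bij₃ _ hY₁').2 (T.mor₃ ≫ (shiftFunctor D (1 : ℤ)).map g₁)
    dsimp at hw'
    obtain ⟨Y₂, hY₂, u', v', hTY⟩ := B.distinguished_cocone_triangle₂ w' hY₁ hY₃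
    obtain ⟨φ₂, hφu, hφv⟩ := complete_distinguished_triangle_morphism₂ T _ hT hTY g₁ g₃ hw'.symm
    dsimp at hφu hφv
    obtain ⟨A₂, f₂, h₂, hT₂⟩ := distinguished_cocone_triangle₁ φ₂
    refine ⟨A₂, Y₂, f₂, φ₂, h₂, hT₂, hY₂, ?_⟩
    refine (Groth.Agent.S6601.result B _ hT₂).2 ?_
    intro B' hB'
    dsimp
    have hS : ∀ d : (shiftFunctor D (1 : ℤ)).obj T.obj₁ ⟶ B',
        ∃ d' : (shiftFunctor D (1 : ℤ)).obj Y₁ ⟶ B', d = (shiftFunctor D (1 : ℤ)).map g₁ ≫ d' := by
      intro d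
      have hB'' : B ((shiftFunctor D (-1 : ℤ)).obj B') := B.le_shift (-1 : ℤ) _ hB'
      let ε := (shiftFunctorCompIsoId D (-1 : ℤ) 1 (by simp)).app B'
      obtain ⟨d₀, hd₀⟩ := (shiftFunctor D (1 : ℤ)).map_surjective (d ≫ ε.inv)
      obtain ⟨d₀', hd₀'⟩ := (bij₁ _ hB'').2 d₀
      dsimp at hd₀'
      refine ⟨(shiftFunctor D (1 : ℤ)).map d₀' ≫ ε.hom, ?_⟩
      rw [← assoc, ← Functor.map_comp, hd₀', hd₀, assoc, ε.inv_hom_id]
      exact (comp_id d).symm
    constructor
    · suffices ∀ b : Y₂ ⟶ B', φ₂ ≫ b = 0 → b = 0 by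
        intro b₁ b₂ hb
        have := this (b₁ - b₂) (by dsimp at hb; rw [comp_sub, hb, sub_self])
        exact sub_eq_zero.1 this
      intro b hb
      have h1 : u' ≫ b = 0 := by
        apply (bij₁ _ hB').1
        dsimp
        rw [← assoc, ← hφu, assoc, hb, comp_zero, comp_zero]
      obtain ⟨c, hc⟩ := Triangle.yoneda_exact₂ _ hTY b h1
      dsimp at c hc
      have h2 : T.mor₂ ≫ (g₃ ≫ c) = 0 := by
        rw [← assoc, hφv, assoc, ← hc, hb]
      obtain ⟨d, hd⟩ := Triangle.yoneda_exact₃ _ hT (g₃ ≫ c) h2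
      obtain ⟨d', hd'⟩ := hS d
      have h3 : c = w' ≫ d' := by
        apply (bij₃ _ hB').1
        dsimp
        rw [hd, hd', ← assoc, ← hw', assoc]
      rw [hc, h3, ← assoc]
      have := comp_distTriang_mor_zero₂₃ _ hTY
      dsimp at this
      rw [this, zero_comp]
    · intro a
      obtain ⟨a₁, ha₁⟩ := (bij₁ _ hB').2 (T.mor₁ ≫ a)
      dsimp at ha₁
      have hB'1 : B ((shiftFunctor D (1 : ℤ)).obj B') := B.le_shift (1 : ℤ) _ hB'
      have h1 : w' ≫ (shiftFunctor D (1 : ℤ)).map a₁ = 0 := by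
        apply (bij₃ _ hB'1).1
        dsimp
        rw [← assoc, hw', assoc, ← Functor.map_comp, ha₁, Functor.map_comp, ← assoc,
          comp_distTriang_mor_zero₃₁ _ hT, zero_comp, comp_zero]
      obtain ⟨e, he⟩ := Triangle.yoneda_exact₃ _ (rot_of_distTriang _ hTY)
        ((shiftFunctor D (1 : ℤ)).map a₁) h1
      dsimp at e he
      obtain ⟨e₀, rfl⟩ := (shiftFunctor D (1 : ℤ)).map_surjective e
      have ha₁' : a₁ = u' ≫ (-e₀) := by
        apply (shiftFunctor D (1 : ℤ)).map_injective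
        rw [he, Functor.map_comp, Functor.map_neg, neg_comp, comp_neg]
      have h2 : T.mor₁ ≫ (a - φ₂ ≫ (-e₀)) = 0 := by
        rw [comp_sub, ← assoc, hφu, assoc, ← ha₁', ha₁, sub_self]
      obtain ⟨c, hc⟩ := Triangle.yoneda_exact₂ _ hT _ h2
      obtain ⟨c', hc'⟩ := (bij₃ _ hB').2 c
      dsimp at hc'
      refine ⟨-e₀ + v' ≫ c', ?_⟩
      dsimp
      rw [comp_add, ← assoc φ₂, ← hφv, assoc, hc', ← hc]
      abel

end Groth.Agent.S6607
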