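import Groth.Statements.S6610
import Mathlib
import Groth.Agent.Lib.Helper9.PRes3

set_option autoImplicit false
universe v u
open CategoryTheory CategoryTheory.Limits
open CohDer

namespace Groth.Agent.S6610

/-- Let A be an abelian category with enough projectives and S : 0 → A• → B• → C• → 0 a short exact
sequence of cochain complexes all vanishing above degree n. Then there are a short exact sequence T
: 0 → P₁ → P₂ → P₃ → 0 of complexes of projective objects vanishing above degree n and a morphism of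
short exact sequences T ⟶ S whose three components are quasi-isomorphisms (projective resolutions).
(The published statement is phrased for bounded below complexes; projective resolutions are bounded
above by definition and exist only for complexes with cohomology bounded above, so the statement is
given here for bounded above complexes, the case dual to the injective one.) -/
theorem result {A : Type u} [Category.{v} A] [Abelian A] [EnoughProjectives A]
    (S : ShortComplex (CochainComplex A ℤ)) (hS : S.ShortExact) (n : ℤ)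
    [S.X₁.IsStrictlyLE n] [S.X₂.IsStrictlyLE n] [S.X₃.IsStrictlyLE n] :
    ∃ (T : ShortComplex (CochainComplex A ℤ)) (φ : T ⟶ S), T.ShortExact ∧
      T.X₁.IsStrictlyLE n ∧ T.X₂.IsStrictlyLE n ∧ T.X₃.IsStrictlyLE n ∧
      (∀ k : ℤ, Projective (T.X₁.X k) ∧ Projective (T.X₂.X k) ∧ Projective (T.X₃.X k)) ∧
      QuasiIso φ.τ₁ ∧ QuasiIso φ.τ₂ ∧ QuasiIso φ.τ₃ := by
  classical
  have hP : ∀ X : A, ∃ (Y : A) (π : Y ⟶ X), Projective Y ∧ Epi π := fun X =>
    ⟨Projective.over X, Projective.π X, inferInstance, inferInstance⟩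
  have hQ₀ : ∀ j : ℤ, IsZero ((HomologicalComplex.zero : CochainComplex A ℤ).X j) := fun j =>
    isZero_zero A
  obtain ⟨Z, hZ0⟩ : ∃ Z : A, IsZero Z := ⟨_, isZero_zero A⟩
  have hZ : Projective Z := hZ0.projective
  -- resolution of `S.X₁`
  obtain ⟨P₁, ι₁, π₁, -, hP₁n, hsplit₁, -, hqi₁⟩ :=
    Groth.Agent.Helper9.PRes.exists_relative_resolution (fun X : A => Projective X)
      (0 : (HomologicalComplex.zero : CochainComplex A ℤ) ⟶ S.X₁) n hP Z hZ0 hZ
      (fun j _ => hQ₀ j) (fun j hj => CochainComplex.isZero_of_isStrictlyLE S.X₁ n j hj)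
  have hproj₁ : ∀ k : ℤ, Projective (P₁.X k) := fun k => by
    obtain ⟨T, hT, hsp⟩ := hsplit₁ k
    obtain ⟨e⟩ := hsp.nonempty_iso_of_isZero (hQ₀ k)
    exact Projective.of_iso e.symm hT
  -- relative resolution of `S.X₂`
  obtain ⟨P₂, ι, π₂, hfac, hP₂n, hsplit₂, -, hqi₂⟩ :=
    Groth.Agent.Helper9.PRes.exists_relative_resolution (fun X : A => Projective X)
      (π₁ ≫ S.f) n hP Z hZ0 hZ
      hP₁n (fun j hj => CochainComplex.isZero_of_isStrictlyLE S.X₂ n j hj)
  have hproj₂ : ∀ k : ℤ, Projective (P₂.X k) := fun k => by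
    obtain ⟨T, hT, hsp⟩ := hsplit₂ k
    obtain ⟨e⟩ := hsp.nonempty_iso
    haveI := hproj₁ k
    haveI : Projective T := hT
    exact Projective.of_iso e.symm inferInstance
  haveI : Mono ι := by
    haveI : ∀ k, Mono (ι.f k) := fun k => by
      obtain ⟨r, hr⟩ := (hsplit₂ k).choose_spec.2.exists_retraction
      exact mono_of_mono_fac hr
    exact HomologicalComplex.mono_of_mono_f ι inferInstance
  have hT := Groth.Agent.Helper9.PCohLib.shortExact_cokernel ι
  have hzero : ι ≫ π₂ ≫ S.g = 0 := by
    rw [← Category.assoc, hfac, Category.assoc, S.zero, comp_zero]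
  let φ : ShortComplex.mk ι (cokernel.π ι) (cokernel.condition ι) ⟶ S :=
    { τ₁ := π₁
      τ₂ := π₂
      τ₃ := cokernel.desc ι (π₂ ≫ S.g) hzero
      comm₁₂ := hfac.symm
      comm₂₃ := (cokernel.π_desc ι (π₂ ≫ S.g) hzero).symm }
  have hproj₃ : ∀ k : ℤ, Projective ((cokernel ι).X k) := fun k => by
    obtain ⟨T, hT, hsp⟩ := hsplit₂ k
    obtain ⟨e⟩ := hsp.nonempty_cokernelIso
    have e' : (cokernel ι).X k ≅ cokernel (ι.f k) :=
      PreservesCokernel.iso (HomologicalComplex.eval A (ComplexShape.up ℤ) k) ι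
    haveI : Projective T := hT
    exact Projective.of_iso (e' ≪≫ e).symm inferInstance
  refine ⟨_, φ, hT, ?_, ?_, ?_, fun k => ⟨hproj₁ k, hproj₂ k, hproj₃ k⟩, hqi₁, hqi₂, ?_⟩
  · rw [CochainComplex.isStrictlyLE_iff]
    exact hP₁n
  · rw [CochainComplex.isStrictlyLE_iff]
    exact hP₂n
  · rw [CochainComplex.isStrictlyLE_iff]
    intro k hk
    haveI : Epi ((cokernel.π ι).f k) := inferInstance
    exact IsZero.of_epi ((cokernel.π ι).f k) (hP₂n k hk)
  · exact HomologicalComplex.HomologySequence.quasiIso_τ₃ φ hT hS hqi₁ hqi₂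

end Groth.Agent.S6610
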