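import Groth.Statements.S6611
import Mathlib

set_option autoImplicit false
universe v u
open CategoryTheory CategoryTheory.Limits
open CohDer

namespace Groth.Agent.S6611
open ZeroObject

/-- Let A be an abelian category, α : K ⟶ L a quasi-isomorphism of cochain complexes which is injective
in every degree, I a bounded below complex of injective objects and γ : K ⟶ I a morphism. Then there
is a morphism β : L ⟶ I with α ≫ β = γ. -/
theorem result {A : Type u} [Category.{v} A] [Abelian A]
    (K L I : CochainComplex A ℤ) (α : K ⟶ L) [QuasiIso α] (hα : ∀ n : ℤ, Mono (α.f n))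
    (a : ℤ) [I.IsStrictlyGE a] (hI : ∀ n : ℤ, Injective (I.X n)) (γ : K ⟶ I) :
    ∃ β : L ⟶ I, α ≫ β = γ := by
  classical
  have hmono : Mono α := HomologicalComplex.mono_of_mono_f α hα
  have hsqc : CommSq γ α (0 : I ⟶ (0 : CochainComplex A ℤ)) (0 : L ⟶ 0) := ⟨by simp⟩
  have hinj : ∀ n, Injective (I.X n) := hI
  have hsq : ∀ n, (hsqc.map (HomologicalComplex.eval _ _ n)).LiftStruct := fun n =>
    haveI := hI n
    haveI := hα n
    { l := (Injective.factorThru (γ.f n) (α.f n) : L.X n ⟶ I.X n)
      fac_left := Injective.comp_factorThru (γ.f n) (α.f n)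
      fac_right := by
        apply (Functor.map_isZero (HomologicalComplex.eval _ _ n) (isZero_zero _)).eq_of_tgt }
  have hQ : IsColimit (CokernelCofork.ofπ (cokernel.π α) (cokernel.condition α)) := cokernelIsCokernel α
  have hK : IsLimit (KernelFork.ofι (𝟙 I) (show 𝟙 I ≫ (0 : I ⟶ (0 : CochainComplex A ℤ)) = 0 by simp)) :=
    KernelFork.IsLimit.ofId _ rfl
  let β : CochainComplex.HomComplex.Cocycle (cokernel α) I 1 :=
    CochainComplex.Lifting.cocycle₁ hsqc hsq hQ hK (hπ := cokernel.condition α) (hι := by simp)
  have hKinj : I.IsKInjective := CochainComplex.isKInjective_of_injective _ a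
  have hacyc : (cokernel α).Acyclic := by
    have : (ShortComplex.mk _ _ (cokernel.condition α)).ShortExact :=
      { exact := ShortComplex.exact_cokernel α }
    exact this.acyclic_X₃ (by dsimp; infer_instance)
  obtain ⟨α', hα'⟩ : ∃ (α' : CochainComplex.HomComplex.Cochain (cokernel α) I 0),
      CochainComplex.HomComplex.δ 0 1 α' = β.1 :=
    CochainComplex.IsKInjective.eq_δ_of_cocycle β hacyc 0 (by simp)
  have := CochainComplex.Lifting.hasLift hsqc hsq hQ hK (hπ := cokernel.condition α) (hι := by simp) α' hα'
  exact ⟨hsqc.lift, hsqc.fac_left⟩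

end Groth.Agent.S6611
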