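import Groth.Statements.S6612
import Mathlib

set_option autoImplicit false
universe v u
open CategoryTheory CategoryTheory.Limits
open CohDer

namespace Groth.Agent.S6612

/-- Let A be an additive category and 0 → A₂ → B₂ → C₂ → 0 a termwise split exact sequence of complexes.
Given a chain map b from a complex B₁ into B₂ and a chain map b' from B₂ into a complex B₃, suppose
that both composites b ≫ (B₂ → C₂) and (A₂ → B₂) ≫ b' are null-homotopic. Then b ≫ b' is homotopic
to zero. (The published statement has three termwise split sequences Aᵢ → Bᵢ → Cᵢ and asks both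
squares of each diagram to commute up to homotopy; this row keeps only the middle sequence and the
two conditions at B₂ that the argument uses, so it is more general.) -/
theorem result {V : Type u} [Category.{v} V] [Preadditive V] [HasBinaryBiproducts V]
    (S : ShortComplex (CochainComplex V ℤ))
    (σ : ∀ n : ℤ, (S.map (HomologicalComplex.eval V (ComplexShape.up ℤ) n)).Splitting)
    {B₁ B₃ : CochainComplex V ℤ} (b : B₁ ⟶ S.X₂) (b' : S.X₂ ⟶ B₃)
    (hb : Nonempty (Homotopy (b ≫ S.g) 0)) (hb' : Nonempty (Homotopy (S.f ≫ b') 0)) :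
    Nonempty (Homotopy (b ≫ b') 0) := by
  obtain ⟨h⟩ := hb
  obtain ⟨h'⟩ := hb'
  -- splitting data
  obtain ⟨r, s, hfr, hsg, hid⟩ : ∃ (r : ∀ n, S.X₂.X n ⟶ S.X₁.X n) (s : ∀ n, S.X₃.X n ⟶ S.X₂.X n),
      (∀ n, S.f.f n ≫ r n = 𝟙 (S.X₁.X n)) ∧ (∀ n, s n ≫ S.g.f n = 𝟙 (S.X₃.X n)) ∧
      (∀ n, r n ≫ S.f.f n + S.g.f n ≫ s n = 𝟙 (S.X₂.X n)) :=
    ⟨fun n => (σ n).r, fun n => (σ n).s, fun n => (σ n).f_r, fun n => (σ n).s_g,
      fun n => (σ n).id⟩
  let k : B₁ ⟶ S.X₂ := Homotopy.nullHomotopicMap (fun i j => h.hom i j ≫ s j)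
  have hk : Homotopy k 0 := Homotopy.nullHomotopy _ (fun i j hij => by
    rw [h.zero i j hij, zero_comp])
  have hbg : b ≫ S.g = Homotopy.nullHomotopicMap h.hom := by
    ext n
    have := h.comm n
    simp only [HomologicalComplex.zero_f_apply, add_zero] at this
    rw [this]
    rfl
  have hkg : k ≫ S.g = b ≫ S.g := by
    rw [hbg, Homotopy.nullHomotopicMap_comp]
    congr 1
    funext i j
    rw [Category.assoc, hsg, Category.comp_id]
  let b₁ : B₁ ⟶ S.X₂ := b - k
  have hb₁ : Homotopy b b₁ := by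
    have e : b = b₁ + k := by simp [b₁]
    have h1 : Homotopy (b₁ + k) (b₁ + 0) := (Homotopy.refl b₁).add hk
    exact (Homotopy.ofEq e).trans (h1.trans (Homotopy.ofEq (add_zero b₁)))
  have hb₁g : b₁ ≫ S.g = 0 := by
    simp only [b₁, Preadditive.sub_comp, hkg, sub_self]
  have hb₁g' : ∀ n, b₁.f n ≫ S.g.f n = 0 := fun n => by
    have := congrArg (fun φ => φ.f n) hb₁g
    simpa using this
  have hfac : ∀ n, (b₁.f n ≫ r n) ≫ S.f.f n = b₁.f n := by
    intro n
    have : b₁.f n ≫ (r n ≫ S.f.f n + S.g.f n ≫ s n) = b₁.f n := by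
      rw [hid, Category.comp_id]
    rw [Preadditive.comp_add, ← Category.assoc (b₁.f n) (S.g.f n), hb₁g', zero_comp, add_zero,
      ← Category.assoc] at this
    exact this
  have hmono : ∀ n {X : V} (u v : X ⟶ S.X₁.X n), u ≫ S.f.f n = v ≫ S.f.f n → u = v := by
    intro n X u v huv
    have := congrArg (fun φ => φ ≫ r n) huv
    simpa [Category.assoc, hfr] using this
  let a : B₁ ⟶ S.X₁ :=
    { f := fun n => b₁.f n ≫ r n
      comm' := by
        intro i j hij
        apply hmono j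
        calc ((b₁.f i ≫ r i) ≫ S.X₁.d i j) ≫ S.f.f j
            = ((b₁.f i ≫ r i) ≫ S.f.f i) ≫ S.X₂.d i j := by
              rw [Category.assoc, ← S.f.comm i j, ← Category.assoc]
          _ = B₁.d i j ≫ ((b₁.f j ≫ r j) ≫ S.f.f j) := by rw [hfac, hfac, b₁.comm]
          _ = (B₁.d i j ≫ b₁.f j ≫ r j) ≫ S.f.f j := by simp only [Category.assoc] }
  have ha : a ≫ S.f = b₁ := by
    ext n
    exact hfac n
  have h2 : Homotopy (b₁ ≫ b') 0 := by
    have e1 : b₁ ≫ b' = a ≫ (S.f ≫ b') := by rw [← Category.assoc, ha]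
    exact (Homotopy.ofEq e1).trans ((h'.compLeft a).trans (Homotopy.ofEq comp_zero))
  exact ⟨(hb₁.compRight b').trans h2⟩

end Groth.Agent.S6612
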