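import Groth.Statements.S6613
import Mathlib

set_option autoImplicit false
universe v u v' u'
open CategoryTheory CategoryTheory.Limits
open CohDer

namespace Groth.Agent.S6613

set_option linter.style.haveILetI false

section helpers


variable {D : Type u} [Category.{v} D] (P : ObjectProperty D) (S : MorphismProperty D)

/-- full subcategory resolution: replace an object by one in `P`. -/
theorem rightCalc [S.HasRightCalculusOfFractions]
    (hP : ∀ X : D, ∃ (X' : D) (s : X' ⟶ X), P X' ∧ S s) :
    (S.inverseImage P.ι).HasRightCalculusOfFractions where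
  toIsMultiplicative := inferInstance
  exists_rightFraction X Y φ := by
    have hs : S (P.ι.map φ.s) := φ.hs
    obtain ⟨ψ, hψ⟩ := (MorphismProperty.LeftFraction.mk (W := S) (P.ι.map φ.f) (P.ι.map φ.s) hs).exists_rightFraction
    obtain ⟨X'', t, hX'', ht⟩ := hP ψ.X'
    refine ⟨MorphismProperty.RightFraction.mk (X' := ⟨X'', hX''⟩) (P.homMk (t ≫ ψ.s)) ?_ (P.homMk (t ≫ ψ.f)), ?_⟩
    · exact S.comp_mem _ _ ht ψ.hs
    · apply P.ι.map_injective
      simpa using congrArg (t ≫ ·) hψ
  ext X Y Y' f₁ f₂ s hs h := by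
    have hs' : S (P.ι.map s) := hs
    obtain ⟨X', t, ht, fac⟩ := MorphismProperty.HasRightCalculusOfFractions.ext
      (P.ι.map f₁) (P.ι.map f₂) (P.ι.map s) hs' (by rw [← Functor.map_comp, ← Functor.map_comp, h])
    obtain ⟨X'', u, hX'', hu⟩ := hP X'
    refine ⟨⟨X'', hX''⟩, P.homMk (u ≫ t), S.comp_mem _ _ hu ht, ?_⟩
    apply P.ι.map_injective
    simpa using congrArg (u ≫ ·) fac


variable {D : Type u} [Category.{v} D] (P : ObjectProperty D) (S : MorphismProperty D)
  {E : Type u'} [Category.{v'} E] (Q : D ⥤ E)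

theorem full_of_essSurj {C₁ : Type*} [Category C₁] {D₁ : Type*} [Category D₁] {E₁ : Type*} [Category E₁]
    (L : C₁ ⥤ D₁) [L.EssSurj] (G : D₁ ⥤ E₁)
    (h : ∀ (X Y : C₁) (φ : G.obj (L.obj X) ⟶ G.obj (L.obj Y)), ∃ ψ : L.obj X ⟶ L.obj Y, G.map ψ = φ) :
    G.Full where
  map_surjective {A B} φ := by
    let a := L.objObjPreimageIso A
    let b := L.objObjPreimageIso B
    obtain ⟨ψ, hψ⟩ := h _ _ (G.map a.hom ≫ φ ≫ G.map b.inv)
    refine ⟨a.inv ≫ ψ ≫ b.hom, ?_⟩
    rw [G.map_comp, G.map_comp, hψ]
    simp [← G.map_comp_assoc, ← G.map_comp]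

theorem faithful_of_essSurj {C₁ : Type*} [Category C₁] {D₁ : Type*} [Category D₁] {E₁ : Type*} [Category E₁]
    (L : C₁ ⥤ D₁) [L.EssSurj] (G : D₁ ⥤ E₁)
    (h : ∀ (X Y : C₁) (a b : L.obj X ⟶ L.obj Y), G.map a = G.map b → a = b) :
    G.Faithful where
  map_injective {A B} f g hfg := by
    let a := L.objObjPreimageIso A
    let b := L.objObjPreimageIso B
    have := h _ _ (a.hom ≫ f ≫ b.inv) (a.hom ≫ g ≫ b.inv) (by simp [hfg])
    simpa using this

variable [S.HasRightCalculusOfFractions] [Q.IsLocalization S]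

theorem main6613 (hP : ∀ X : D, ∃ (X' : D) (s : X' ⟶ X), P X' ∧ S s) :
    (P.ι ⋙ Q).IsLocalization (S.inverseImage P.ι) := by
  haveI := rightCalc P S hP
  let W := S.inverseImage P.ι
  let L₁ := W.Q
  have hW : W.IsInvertedBy (P.ι ⋙ Q) := fun X Y f hf => Localization.inverts Q S _ hf
  let G : W.Localization ⥤ E := Localization.lift (P.ι ⋙ Q) hW L₁
  let e : L₁ ⋙ G ≅ P.ι ⋙ Q := Localization.fac (P.ι ⋙ Q) hW L₁
  haveI : L₁.EssSurj := Localization.essSurj L₁ W
  -- key computation
  have key : ∀ (X Y : P.FullSubcategory) (z : W.RightFraction X Y),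
      Q.map z.s.hom ≫ e.inv.app X ≫ G.map (z.map L₁ (Localization.inverts L₁ W)) =
        Q.map z.f.hom ≫ e.inv.app Y := by
    intro X Y z
    have h1 := z.map_s_comp_map L₁ (Localization.inverts L₁ W)
    have h2 := congrArg G.map h1
    rw [G.map_comp] at h2
    have n1 := e.inv.naturality z.s
    have n2 := e.inv.naturality z.f
    simp only [Functor.comp_map, ObjectProperty.ι_map] at n1 n2
    rw [← Category.assoc, n1, Category.assoc, h2, n2]
  haveI : G.Full := by
    apply full_of_essSurj L₁ G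
    intro X Y φ
    obtain ⟨z, hz⟩ := Localization.exists_rightFraction Q S (e.inv.app X ≫ φ ≫ e.hom.app Y)
    obtain ⟨X'', t, hX'', ht⟩ := hP z.X'
    let z₂ : W.RightFraction X Y := MorphismProperty.RightFraction.mk (X' := ⟨X'', hX''⟩)
      (P.homMk (t ≫ z.s)) (S.comp_mem _ _ ht z.hs) (P.homMk (t ≫ z.f))
    refine ⟨z₂.map L₁ (Localization.inverts L₁ W), ?_⟩
    have k := key X Y z₂
    have hz' := z.map_s_comp_map Q (Localization.inverts Q S)
    rw [← hz] at hz'
    haveI : IsIso (Q.map t) := Localization.inverts Q S t ht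
    haveI : IsIso (Q.map z.s) := Localization.inverts Q S _ z.hs
    simp only [z₂, ObjectProperty.homMk_hom, Functor.map_comp, Category.assoc] at k
    rw [cancel_epi] at k
    have : Q.map z.s ≫ e.inv.app X ≫ φ = Q.map z.f ≫ e.inv.app Y := by
      rw [← hz']
      simp
    rw [← this] at k
    rwa [cancel_epi, cancel_epi] at k
  haveI : G.Faithful := by
    apply faithful_of_essSurj L₁ G
    intro X Y a b hab
    obtain ⟨z₁, rfl⟩ := Localization.exists_rightFraction L₁ W a
    obtain ⟨z₂, rfl⟩ := Localization.exists_rightFraction L₁ W b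
    rw [MorphismProperty.RightFraction.map_eq_iff]
    have k₁ := key X Y z₁
    have k₂ := key X Y z₂
    let w₁ : S.RightFraction X.obj Y.obj := ⟨z₁.s.hom, z₁.hs, z₁.f.hom⟩
    let w₂ : S.RightFraction X.obj Y.obj := ⟨z₂.s.hom, z₂.hs, z₂.f.hom⟩
    have hw : w₁.map Q (Localization.inverts Q S) = w₂.map Q (Localization.inverts Q S) := by
      haveI : IsIso (Q.map z₁.s.hom) := Localization.inverts Q S _ z₁.hs
      haveI : IsIso (Q.map z₂.s.hom) := Localization.inverts Q S _ z₂.hs
      have e₁ : w₁.map Q (Localization.inverts Q S) = e.inv.app X ≫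
          G.map (z₁.map L₁ (Localization.inverts L₁ W)) ≫ e.hom.app Y := by
        rw [← cancel_epi (Q.map z₁.s.hom)]
        rw [show Q.map z₁.s.hom ≫ w₁.map Q (Localization.inverts Q S) = Q.map z₁.f.hom from
          w₁.map_s_comp_map Q (Localization.inverts Q S)]
        rw [← Category.assoc, ← Category.assoc, Category.assoc _ (e.inv.app X), k₁]
        simp
      have e₂ : w₂.map Q (Localization.inverts Q S) = e.inv.app X ≫
          G.map (z₂.map L₁ (Localization.inverts L₁ W)) ≫ e.hom.app Y := by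
        rw [← cancel_epi (Q.map z₂.s.hom)]
        rw [show Q.map z₂.s.hom ≫ w₂.map Q (Localization.inverts Q S) = Q.map z₂.f.hom from
          w₂.map_s_comp_map Q (Localization.inverts Q S)]
        rw [← Category.assoc, ← Category.assoc, Category.assoc _ (e.inv.app X), k₂]
        simp
      rw [e₁, e₂, hab]
    rw [MorphismProperty.RightFraction.map_eq_iff] at hw
    obtain ⟨Z, t₁, t₂, hst, hft, ht⟩ := hw
    obtain ⟨Z', u, hZ', hu⟩ := hP Z
    let Z₀ : P.FullSubcategory := ⟨Z', hZ'⟩
    refine ⟨Z₀, ObjectProperty.homMk (X := Z₀) (Y := z₁.X') (u ≫ t₁), ObjectProperty.homMk (X := Z₀) (Y := z₂.X') (u ≫ t₂), ?_, ?_, ?_⟩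
    · apply P.ι.map_injective
      simpa [w₁, w₂] using congrArg (u ≫ ·) hst
    · apply P.ι.map_injective
      simpa [w₁, w₂] using congrArg (u ≫ ·) hft
    · show S (P.ι.map (ObjectProperty.homMk (X := Z₀) (Y := z₁.X') (u ≫ t₁) ≫ z₁.s))
      have : P.ι.map (ObjectProperty.homMk (X := Z₀) (Y := z₁.X') (u ≫ t₁) ≫ z₁.s) = u ≫ (t₁ ≫ w₁.s) := by simp [w₁]
      rw [this]
      exact S.comp_mem _ _ hu ht
  haveI : G.EssSurj := by
    constructor
    intro Y
    haveI : Q.EssSurj := Localization.essSurj Q S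
    obtain ⟨X', s, hX', hs⟩ := hP (Q.objPreimage Y)
    haveI : IsIso (Q.map s) := Localization.inverts Q S s hs
    exact ⟨L₁.obj ⟨X', hX'⟩, ⟨e.app ⟨X', hX'⟩ ≪≫ asIso (Q.map s) ≪≫ Q.objObjPreimageIso Y⟩⟩
  haveI : G.IsEquivalence := {}
  exact Functor.IsLocalization.of_equivalence_target L₁ W (P.ι ⋙ Q) G.asEquivalence e


end helpers

/-- Let D be a pretriangulated category, D' ⊂ D a full pretriangulated subcategory, S a saturated
multiplicative system of D compatible with the triangulated structure and Q : D → S⁻¹D the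
localization. Assume every X in D admits some s : X' ⟶ X in S with X' in D'. Then, with S' = S ∩
Arrows(D'), the functor (S')⁻¹D' → S⁻¹D is an equivalence; equivalently the composite D' → D → S⁻¹D
is a localization of D' at S'. (The published result additionally claims that the intersection S' =
S ∩ Arrows(D') forms a multiplicative system on D' which is saturated and respects the triangulated
structure of D'; this row asserts only the localization property.) -/
theorem result {D : Type u} [Category.{v} D] [Preadditive D] [HasZeroObject D] [HasShift D ℤ]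
    [∀ n : ℤ, (shiftFunctor D n).Additive] [Pretriangulated D]
    (P : ObjectProperty D) [P.IsTriangulated]
    (S : MorphismProperty D) [S.HasLeftCalculusOfFractions] [S.HasRightCalculusOfFractions] [S.IsCompatibleWithTriangulation]
    {E : Type u'} [Category.{v'} E] (Q : D ⥤ E) [Q.IsLocalization S]
    (hsat : ∀ {X Y : D} (f : X ⟶ Y), IsIso (Q.map f) → S f)
    (hP : ∀ X : D, ∃ (X' : D) (s : X' ⟶ X), P X' ∧ S s) :
    (P.ι ⋙ Q).IsLocalization (S.inverseImage P.ι) := by
  exact main6613 P S Q hP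

end Groth.Agent.S6613
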