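import Mathlib
import Groth.Statements.S6614

set_option autoImplicit false
universe v u
open CategoryTheory CategoryTheory.Limits Opposite
open CohDer

namespace Groth.Agent.S6614

open CategoryTheory.Pretriangulated in
/-- complement of a split monomorphism in a pretriangulated category, adapted to a given retraction -/
theorem exists_complement {D : Type u} [Category.{v} D] [Preadditive D] [HasZeroObject D]
    [HasShift D ℤ] [∀ n : ℤ, (shiftFunctor D n).Additive] [Pretriangulated D]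
    {A B : D} (c : A ⟶ B) (s : B ⟶ A) (hcs : c ≫ s = 𝟙 A) :
    ∃ (Z : D) (π : B ⟶ Z) (ι : Z ⟶ B), c ≫ π = 0 ∧ ι ≫ π = 𝟙 Z ∧ ι ≫ s = 0 ∧
      s ≫ c + π ≫ ι = 𝟙 B := by
  obtain ⟨Z, π, δ, hT⟩ := distinguished_cocone_triangle c
  have hmono : Mono c := SplitMono.mono ⟨s, hcs⟩
  have hδ : δ = 0 := Triangle.mor₃_eq_zero_of_mono₁ _ hT hmono
  obtain ⟨e0, he1, he2⟩ : ∃ e0 : B ≅ A ⊞ Z, c ≫ e0.hom = biprod.inl ∧ π = e0.hom ≫ biprod.snd :=
    exists_iso_binaryBiproduct_of_distTriang _ hT hδ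
  have hcπ : c ≫ π = 0 := comp_distTriang_mor_zero₁₂ _ hT
  obtain ⟨ι0, hι0⟩ : ∃ ι0 : Z ⟶ B, ι0 = biprod.inr ≫ e0.inv := ⟨_, rfl⟩
  obtain ⟨r, hr⟩ : ∃ r : B ⟶ A, r = e0.hom ≫ biprod.fst := ⟨_, rfl⟩
  have h1 : ι0 ≫ π = 𝟙 Z := by
    rw [he2, hι0]; simp
  have htot : r ≫ c + π ≫ ι0 = 𝟙 B := by
    rw [← cancel_mono e0.hom, ← cancel_epi e0.inv]
    apply biprod.hom_ext <;> apply biprod.hom_ext'
    all_goals simp [hr, hι0, he2, he1, Preadditive.add_comp, Preadditive.comp_add]
  refine ⟨Z, π, ι0 - ι0 ≫ s ≫ c, hcπ, ?_, ?_, ?_⟩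
  · simp only [Preadditive.sub_comp, Category.assoc, hcπ, comp_zero, sub_zero, h1]
  · simp only [Preadditive.sub_comp, Category.assoc, hcs, Category.comp_id, sub_self]
  · have hπι : π ≫ ι0 = 𝟙 B - r ≫ c := by rw [← htot]; abel
    calc s ≫ c + π ≫ (ι0 - ι0 ≫ s ≫ c)
        = s ≫ c + (π ≫ ι0 - (π ≫ ι0) ≫ s ≫ c) := by
          simp only [Preadditive.comp_sub, Category.assoc]
      _ = 𝟙 B := by
          rw [hπι]
          simp only [Preadditive.sub_comp, Category.id_comp, Category.assoc]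
          rw [reassoc_of% hcs]
          abel

/-- Let D be a triangulated category and (A_n) an ℕ-indexed inverse system of D which is essentially
constant with value A relative to the cone c. Then there are an index i and direct sum
decompositions A_{i+j} ≅ A ⊞ Z_j (j ≥ 0) such that (a) c_{i+j} is the inclusion of the summand A and
the transition maps A_{i+k} → A_{i+j} are 𝟙_A ⊕ (Z_k → Z_j), and (b) for every j there is k ≥ j with
Z_k → Z_j zero. (The published statement is an equivalence whose converse is given without proof;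
this row states only the forward implication.) -/
theorem result {D : Type u} [Category.{v} D] [Preadditive D] [HasZeroObject D] [HasShift D ℤ]
    [∀ n : ℤ, (shiftFunctor D n).Additive] [Pretriangulated D] [IsTriangulated D]
    (X : ARSys.PS D) (A : D) (c : (Functor.const ℕᵒᵖ).obj A ⟶ X) (hX : DerCA.IsEssConstant X A c) :
    ∃ (i : ℕ) (Z : ℕ → D) (e : ∀ j : ℕ, X.obj (op (i + j)) ≅ A ⊞ Z j) (z : ∀ j k : ℕ, j ≤ k → (Z k ⟶ Z j)),
      (∀ j : ℕ, c.app (op (i + j)) ≫ (e j).hom = biprod.inl) ∧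
      (∀ (j k : ℕ) (hjk : j ≤ k), (e k).inv ≫ ARSys.tr X (Nat.add_le_add_left hjk i) = biprod.map (𝟙 A) (z j k hjk) ≫ (e j).inv) ∧
      (∀ j : ℕ, ∃ (k : ℕ) (hjk : j ≤ k), z j k hjk = 0) := by
  obtain ⟨i, s, hcs, hk⟩ := hX
  -- basic facts on transition maps
  have trX : ∀ {a b d : ℕ} (hab : a ≤ b) (hbd : b ≤ d), ARSys.tr X hbd ≫ ARSys.tr X hab =
      ARSys.tr X (hab.trans hbd) := by
    intro a b d hab hbd
    rw [ARSys.tr, ARSys.tr, ← X.map_comp]
    rfl
  have hcone : ∀ {a b : ℕ} (hab : a ≤ b), c.app (op b) ≫ ARSys.tr X hab = c.app (op a) := by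
    intro a b hab
    have := c.naturality (homOfLE hab).op
    dsimp at this
    rw [Category.id_comp] at this
    exact this.symm
  -- retractions
  let sj : ∀ j : ℕ, X.obj (op (i + j)) ⟶ A := fun j => ARSys.tr X (Nat.le_add_right i j) ≫ s
  have hsj : ∀ j, c.app (op (i + j)) ≫ sj j = 𝟙 A := by
    intro j
    show c.app (op (i + j)) ≫ ARSys.tr X (Nat.le_add_right i j) ≫ s = 𝟙 A
    rw [← Category.assoc, hcone, hcs]
  have htsj : ∀ (j k : ℕ) (hjk : j ≤ k), ARSys.tr X (Nat.add_le_add_left hjk i) ≫ sj j = sj k := by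
    intro j k hjk
    show ARSys.tr X (Nat.add_le_add_left hjk i) ≫ ARSys.tr X (Nat.le_add_right i j) ≫ s = _
    rw [← Category.assoc, trX]
  choose Z π ι h1 h2 h3 h4 using fun j => exists_complement (c.app (op (i + j))) (sj j) (hsj j)
  let e : ∀ j : ℕ, X.obj (op (i + j)) ≅ A ⊞ Z j := fun j =>
    { hom := biprod.lift (sj j) (π j)
      inv := biprod.desc (c.app (op (i + j))) (ι j)
      hom_inv_id := by rw [biprod.lift_desc, h4]
      inv_hom_id := by
        apply biprod.hom_ext <;> apply biprod.hom_ext'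
        · simp [hsj]
        · simp [h3]
        · simp [h1]
        · simp [h2] }
  refine ⟨i, Z, e, fun j k hjk => ι k ≫ ARSys.tr X (Nat.add_le_add_left hjk i) ≫ π j, ?_, ?_, ?_⟩
  · intro j
    apply biprod.hom_ext
    · simp [e, hsj]
    · simp [e, h1]
  · intro j k hjk
    apply biprod.hom_ext'
    · simp [e, hcone]
    · simp only [e, biprod.inr_desc_assoc, biprod.inr_map_assoc, biprod.inr_desc, Category.assoc]
      have : ι k ≫ ARSys.tr X (Nat.add_le_add_left hjk i) =
          (ι k ≫ ARSys.tr X (Nat.add_le_add_left hjk i)) ≫ (sj j ≫ c.app (op (i + j)) + π j ≫ ι j) := by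
        rw [h4, Category.comp_id]
      rw [this, Preadditive.comp_add]
      simp only [Category.assoc]
      rw [reassoc_of% (htsj j k hjk), reassoc_of% (h3 k), zero_comp, zero_add]
  · intro j
    obtain ⟨k', hi, hj, hfac⟩ := hk (i + j)
    obtain ⟨k, rfl⟩ : ∃ k, k' = i + k := ⟨k' - i, by omega⟩
    have hjk : j ≤ k := by omega
    refine ⟨k, hjk, ?_⟩
    show ι k ≫ ARSys.tr X (Nat.add_le_add_left hjk i) ≫ π j = 0
    have : ARSys.tr X (Nat.add_le_add_left hjk i) = ARSys.tr X hj := rfl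
    rw [this, hfac]
    simp only [Category.assoc]
    rw [h1, comp_zero, comp_zero, comp_zero]

end Groth.Agent.S6614
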