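import Mathlib
import Groth.Statements.S6617
import Groth.Agent.S6598

set_option autoImplicit false
universe v u
open CategoryTheory CategoryTheory.Limits
open CohDer

namespace Groth.Agent.S6617

open CochainComplex HomologicalComplex Groth.Agent.S6598

section
variable {V : Type u} [Category.{v} V] [Preadditive V] [HasBinaryBiproducts V] [HasZeroObject V]
  (X : ℕ → CochainComplex V ℤ) (a : ∀ i, X i ⟶ X (i + 1))

/-- the homotopy equivalence `cyl K L ≃ L` -/
noncomputable def cylEquiv (K L : CochainComplex V ℤ) : HomotopyEquiv (cyl K L) L where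
  hom := biprod.fst
  inv := biprod.inl
  homotopyHomInvId := (homotopy_cyl K L).some
  homotopyInvHomId := Homotopy.ofEq (by simp)

/-- the recursive construction -/
noncomputable def state : (i : ℕ) → Σ' B : CochainComplex V ℤ, HomotopyEquiv B (X i)
  | 0 => ⟨X 0, HomotopyEquiv.refl _⟩
  | i + 1 => ⟨cyl (state i).1 (X (i + 1)), cylEquiv (state i).1 (X (i + 1))⟩

/-- the transition maps -/
noncomputable def trans (i : ℕ) : (state X i).1 ⟶ (state X (i + 1)).1 :=
  incl (state X i).1 (X (i + 1)) ((state X i).2.hom ≫ a i)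

theorem state_ge (h : ∀ i, ∃ m : ℤ, (X i).IsStrictlyGE m) (i : ℕ) :
    ∃ m : ℤ, (state X i).1.IsStrictlyGE m := by
  induction i with
  | zero => exact h 0
  | succ i ih =>
    obtain ⟨m₁, h₁⟩ := ih
    obtain ⟨m₂, h₂⟩ := h (i + 1)
    refine ⟨min m₁ m₂ - 1, ?_⟩
    rw [isStrictlyGE_iff]
    intro j hj
    exact cyl_isZero (state X i).1 (X (i + 1)) j
      ((X (i + 1)).isZero_of_isStrictlyGE m₂ j (by omega))
      ((state X i).1.isZero_of_isStrictlyGE m₁ j (by omega))
      ((state X i).1.isZero_of_isStrictlyGE m₁ (j + 1) (by omega))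

theorem state_le (h : ∀ i, ∃ m : ℤ, (X i).IsStrictlyLE m) (i : ℕ) :
    ∃ m : ℤ, (state X i).1.IsStrictlyLE m := by
  induction i with
  | zero => exact h 0
  | succ i ih =>
    obtain ⟨m₁, h₁⟩ := ih
    obtain ⟨m₂, h₂⟩ := h (i + 1)
    refine ⟨max m₁ m₂, ?_⟩
    rw [isStrictlyLE_iff]
    intro j hj
    exact cyl_isZero (state X i).1 (X (i + 1)) j
      ((X (i + 1)).isZero_of_isStrictlyLE m₂ j (by omega))
      ((state X i).1.isZero_of_isStrictlyLE m₁ j (by omega))
      ((state X i).1.isZero_of_isStrictlyLE m₁ (j + 1) (by omega))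

end

/-- Let A be an additive category and A₀ → A₁ → A₂ → … a sequence of composable morphisms of complexes.
There are complexes Bᵢ, homotopy equivalences Bᵢ ⟶ Aᵢ and termwise split injections Bᵢ ⟶ Bᵢ₊₁
forming a commutative ladder over the given sequence. Moreover if all Aᵢ are bounded below, resp.
bounded above, then the Bᵢ may be chosen bounded below, resp. bounded above. (The published
statement is for finite sequences A₁ → … → A_n; this row takes a sequence indexed by ℕ, built by the
same step-by-step construction.) -/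
theorem result {V : Type u} [Category.{v} V] [Preadditive V] [HasBinaryBiproducts V] [HasZeroObject V]
    (X : ℕ → CochainComplex V ℤ) (a : ∀ i, X i ⟶ X (i + 1)) :
    ∃ (B : ℕ → CochainComplex V ℤ) (b : ∀ i, B i ⟶ B (i + 1)) (e : ∀ i, HomotopyEquiv (B i) (X i)),
      (∀ i, b i ≫ (e (i + 1)).hom = (e i).hom ≫ a i) ∧
      (∀ (i : ℕ) (n : ℤ), ∃ (C : V) (ε : (B (i + 1)).X n ≅ (B i).X n ⊞ C), (b i).f n ≫ ε.hom = biprod.inl) ∧
      ((∀ i, ∃ m : ℤ, (X i).IsStrictlyGE m) → ∀ i, ∃ m : ℤ, (B i).IsStrictlyGE m) ∧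
      ((∀ i, ∃ m : ℤ, (X i).IsStrictlyLE m) → ∀ i, ∃ m : ℤ, (B i).IsStrictlyLE m) := by
  refine ⟨fun i => (state X i).1, trans X a, fun i => (state X i).2, ?_, ?_, state_ge X, state_le X⟩
  · intro i
    show incl (state X i).1 (X (i + 1)) ((state X i).2.hom ≫ a i) ≫ biprod.fst = _
    simp
  · intro i n
    exact split_incl (state X i).1 (X (i + 1)) ((state X i).2.hom ≫ a i) n

end Groth.Agent.S6617
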