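import Groth.Statements.S6618
import Mathlib
import Groth.Agent.Lib.Helper24.Horseshoe3

set_option autoImplicit false
universe v v' u u'
open CategoryTheory CategoryTheory.Limits
open CohDer

namespace Groth.Agent.S6618

set_option linter.unusedSectionVars false

section helpers


variable {A : Type u} [Category.{v} A] [Abelian A] [EnoughInjectives A]
    {B : Type u'} [Category.{v'} B] [Abelian B] (F : A ⥤ B) [F.Additive]

theorem mono_homologyMap_zero {K L : CochainComplex B ℕ} (φ : K ⟶ L) [Mono (φ.f 0)] :
    Mono (HomologicalComplex.homologyMap φ 0) := by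
  have h := CochainComplex.isoHomologyπ₀_inv_naturality φ
  have : HomologicalComplex.homologyMap φ 0 =
      K.isoHomologyπ₀.inv ≫ HomologicalComplex.cyclesMap φ 0 ≫ L.isoHomologyπ₀.hom := by
    rw [← Category.assoc, ← h, Category.assoc, Iso.inv_hom_id, Category.comp_id]
  rw [this]
  infer_instance

theorem mono_zero (S : ShortComplex A) (hS : S.ShortExact) : Mono ((F.rightDerived 0).map S.f) := by
  obtain ⟨T⟩ := Groth.Agent.Helper24.Horseshoe.horseshoe S hS
  have h := Groth.Agent.Helper24.Horseshoe.map_f_iso F T 0
  have hse := T.map_shortExact F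
  have hm : Mono (T.cx.map (F.mapHomologicalComplex (ComplexShape.up ℕ))).f := hse.mono_f
  have hm0 : Mono ((T.cx.map (F.mapHomologicalComplex (ComplexShape.up ℕ))).f.f 0) := inferInstance
  have := mono_homologyMap_zero (T.cx.map (F.mapHomologicalComplex (ComplexShape.up ℕ))).f
  have e : (F.rightDerived 0).map S.f = (Groth.Agent.Helper24.Horseshoe.iso₁ F T 0).hom ≫
      HomologicalComplex.homologyMap (T.cx.map (F.mapHomologicalComplex (ComplexShape.up ℕ))).f 0 ≫
      (Groth.Agent.Helper24.Horseshoe.iso₂ F T 0).inv := by
    rw [← Category.assoc, ← h, Category.assoc, Iso.hom_inv_id, Category.comp_id]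
  rw [e]
  infer_instance

theorem main6618 :
    PreservesFiniteLimits (F.rightDerived 0) ∧ (IsIso F.toRightDerivedZero ↔ PreservesFiniteLimits F) := by
  let Δ := Groth.Agent.Helper24.Horseshoe.derivedLES F
  have h0 : PreservesFiniteLimits (F.rightDerived 0) := by
    rw [Functor.preservesFiniteLimits_iff_forall_exact_map_and_mono]
    intro S hS
    exact ⟨Δ.exact₂ S hS 0, mono_zero F S hS⟩
  refine ⟨h0, fun h => ?_, fun h => inferInstance⟩
  exact preservesFiniteLimits_of_natIso (asIso F.toRightDerivedZero).symm


end helpers

/-- Part (2): (3), in the case where A has enough injectives: let F : A ⥤ B be an additive functor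
between abelian categories, A with enough injectives. Then R⁰F is left exact; moreover, F itself is
left exact exactly when the canonical comparison morphism from F to R⁰F is invertible. -/
theorem result {A : Type u} [Category.{v} A] [Abelian A] [EnoughInjectives A]
    {B : Type u'} [Category.{v'} B] [Abelian B] (F : A ⥤ B) [F.Additive] :
    PreservesFiniteLimits (F.rightDerived 0) ∧ (IsIso F.toRightDerivedZero ↔ PreservesFiniteLimits F) := by
  exact main6618 F

end Groth.Agent.S6618
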