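import Groth.Statements.S6619
import Mathlib
import Groth.Agent.Lib.Helper24.Horseshoe3

set_option autoImplicit false
universe v v' u u'
open CategoryTheory CategoryTheory.Limits
open CohDer

namespace Groth.Agent.S6619

set_option linter.unusedSectionVars false

section helpers


variable {A : Type u} [Category.{v} A] [Abelian A] [EnoughInjectives A]
    {B : Type u'} [Category.{v'} B] [Abelian B] (F : A ⥤ B) [F.Additive]

/-- in an exact sequence `X ⟶ Y ⟶ Z` with `X`, `Z` zero, `Y` is zero. -/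
theorem isZero_mid (S : ShortComplex B) (hS : S.Exact) (h₁ : IsZero S.X₁) (h₃ : IsZero S.X₃) :
    IsZero S.X₂ :=
  hS.isZero_X₂ (h₁.eq_of_src _ _) (h₃.eq_of_tgt _ _)

variable [PreservesFiniteLimits F]

theorem epi_of_epi_zero {X Y : A} (g : X ⟶ Y) (h : Epi ((F.rightDerived 0).map g)) : Epi (F.map g) := by
  have nat := F.toRightDerivedZero.naturality g
  have : F.map g = F.toRightDerivedZero.app X ≫ (F.rightDerived 0).map g ≫
      inv (F.toRightDerivedZero.app Y) := by
    rw [← Category.assoc, ← nat, Category.assoc, IsIso.hom_inv_id, Category.comp_id]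
  rw [this]
  infer_instance

theorem epi_zero_of_epi {X Y : A} (g : X ⟶ Y) (h : Epi (F.map g)) : Epi ((F.rightDerived 0).map g) := by
  have nat := F.toRightDerivedZero.naturality g
  have : (F.rightDerived 0).map g = inv (F.toRightDerivedZero.app X) ≫ F.map g ≫
      F.toRightDerivedZero.app Y := by
    rw [nat, IsIso.inv_hom_id_assoc]
  rw [this]
  infer_instance

theorem shortExact_of_epi (S : ShortComplex A) (hS : S.ShortExact) (h : Epi (F.map S.g)) :
    (S.map F).ShortExact := by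
  have := (Functor.preservesFiniteLimits_iff_forall_exact_map_and_mono F).1
    (inferInstance : PreservesFiniteLimits F) S hS
  exact { exact := this.1, mono_f := this.2, epi_g := h }

theorem main6619 (S : ShortComplex A) (hS : S.ShortExact) :
    ((∀ i : ℕ, 0 < i → IsZero ((F.rightDerived i).obj S.X₁)) → (∀ i : ℕ, 0 < i → IsZero ((F.rightDerived i).obj S.X₃)) →
      (∀ i : ℕ, 0 < i → IsZero ((F.rightDerived i).obj S.X₂)) ∧ (S.map F).ShortExact) ∧
    ((∀ i : ℕ, 0 < i → IsZero ((F.rightDerived i).obj S.X₁)) → (∀ i : ℕ, 0 < i → IsZero ((F.rightDerived i).obj S.X₂)) →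
      (∀ i : ℕ, 0 < i → IsZero ((F.rightDerived i).obj S.X₃)) ∧ (S.map F).ShortExact) ∧
    ((∀ i : ℕ, 0 < i → IsZero ((F.rightDerived i).obj S.X₂)) → (∀ i : ℕ, 0 < i → IsZero ((F.rightDerived i).obj S.X₃)) →
      Epi (F.map S.g) → (∀ i : ℕ, 0 < i → IsZero ((F.rightDerived i).obj S.X₁)) ∧ (S.map F).ShortExact) := by
  let Δ := Groth.Agent.Helper24.Horseshoe.derivedLES F
  -- common: if R¹F(X₁) = 0 then F(g) epi
  have epi_of : IsZero ((F.rightDerived 1).obj S.X₁) → Epi (F.map S.g) := by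
    intro h1
    apply epi_of_epi_zero
    exact (Δ.exact₃ S hS 0 1 rfl).epi_f (h1.eq_of_tgt _ _)
  refine ⟨fun h₁ h₃ => ⟨fun i hi => ?_, shortExact_of_epi F S hS (epi_of (h₁ 1 Nat.one_pos))⟩,
    fun h₁ h₂ => ⟨fun i hi => ?_, shortExact_of_epi F S hS (epi_of (h₁ 1 Nat.one_pos))⟩,
    fun h₂ h₃ hg => ⟨fun i hi => ?_, shortExact_of_epi F S hS hg⟩⟩
  · exact isZero_mid _ (Δ.exact₂ S hS i) (h₁ i hi) (h₃ i hi)
  · exact isZero_mid _ (Δ.exact₃ S hS i (i + 1) rfl) (h₂ i hi) (h₁ (i + 1) (Nat.succ_pos i))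
  · obtain ⟨j, rfl⟩ : ∃ j, i = j + 1 := ⟨i - 1, by omega⟩
    have hex := Δ.exact₁ S hS j (j + 1) rfl
    have hepi : Epi (Δ.δ S hS j (j + 1) rfl) := hex.epi_f ((h₂ (j + 1) hi).eq_of_tgt _ _)
    have hzero : Δ.δ S hS j (j + 1) rfl = 0 := by
      rcases Nat.eq_zero_or_pos j with rfl | hj
      · have h0 : Epi ((F.rightDerived 0).map S.g) := epi_zero_of_epi F S.g hg
        rw [← cancel_epi ((F.rightDerived 0).map S.g), Δ.comp_δ S hS 0 1 rfl, comp_zero]
      · exact (h₃ j hj).eq_of_src _ _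
    rw [hzero] at hepi
    exact (IsZero.iff_id_eq_zero _).2 (by
      rw [← cancel_epi (0 : (F.rightDerived j).obj S.X₃ ⟶ (F.rightDerived (j + 1)).obj S.X₁)]
      simp)


end helpers

/-- In the case where A has enough injectives (an object X is right acyclic for the left exact functor F
when RⁱF(X) = 0 for all i > 0): suppose A and B are abelian categories, A has enough injectives, F :
A ⥤ B is left exact, and 0 → X₁ → X₂ → X₃ → 0 is a short exact sequence of A. (1) If X₁, X₃ are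
right acyclic so is X₂; (2) if X₁, X₂ are right acyclic so is X₃; (3) if X₂, X₃ are right acyclic
and F(X₂) ⟶ F(X₃) is surjective then X₁ is right acyclic. In each of the three cases 0 → F(X₁) →
F(X₂) → F(X₃) → 0 is short exact. -/
theorem result {A : Type u} [Category.{v} A] [Abelian A] [EnoughInjectives A]
    {B : Type u'} [Category.{v'} B] [Abelian B] (F : A ⥤ B) [F.Additive] [PreservesFiniteLimits F]
    (S : ShortComplex A) (hS : S.ShortExact) :
    ((∀ i : ℕ, 0 < i → IsZero ((F.rightDerived i).obj S.X₁)) → (∀ i : ℕ, 0 < i → IsZero ((F.rightDerived i).obj S.X₃)) →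
      (∀ i : ℕ, 0 < i → IsZero ((F.rightDerived i).obj S.X₂)) ∧ (S.map F).ShortExact) ∧
    ((∀ i : ℕ, 0 < i → IsZero ((F.rightDerived i).obj S.X₁)) → (∀ i : ℕ, 0 < i → IsZero ((F.rightDerived i).obj S.X₂)) →
      (∀ i : ℕ, 0 < i → IsZero ((F.rightDerived i).obj S.X₃)) ∧ (S.map F).ShortExact) ∧
    ((∀ i : ℕ, 0 < i → IsZero ((F.rightDerived i).obj S.X₂)) → (∀ i : ℕ, 0 < i → IsZero ((F.rightDerived i).obj S.X₃)) →
      Epi (F.map S.g) → (∀ i : ℕ, 0 < i → IsZero ((F.rightDerived i).obj S.X₁)) ∧ (S.map F).ShortExact) := by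
  exact main6619 F S hS

end Groth.Agent.S6619
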