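import Groth.Statements.S6622
import Mathlib

set_option autoImplicit false
universe v u
open CategoryTheory CategoryTheory.Limits
open CohDer

namespace Groth.Agent.S6622

open Pretriangulated HomotopyCategory ZeroObject

section
variable {V : Type u} [Category.{v} V] [Preadditive V] [HasZeroObject V] [HasBinaryBiproducts V]

lemma isStrictlyLE_mappingCone {K L : CochainComplex V ℤ} (f : K ⟶ L)
    (n₁ n₂ n : ℤ) [K.IsStrictlyLE n₁] [L.IsStrictlyLE n₂] (hn₁ : n₁ - 1 ≤ n) (hn₂ : n₂ ≤ n) :
    (CochainComplex.mappingCone f).IsStrictlyLE n := by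
  rw [CochainComplex.isStrictlyLE_iff]
  intro i hi
  simp only [CochainComplex.mappingCone.isZero_X_iff]
  exact ⟨K.isZero_of_isStrictlyLE n₁ _ (by omega), L.isZero_of_isStrictlyLE n₂ _ (by omega)⟩

lemma isStrictlyGE_mappingCone' {K L : CochainComplex V ℤ} (f : K ⟶ L)
    (n₁ n₂ n : ℤ) [K.IsStrictlyGE n₁] [L.IsStrictlyGE n₂] (hn₁ : n < n₁) (hn₂ : n ≤ n₂) :
    (CochainComplex.mappingCone f).IsStrictlyGE n := by
  rw [CochainComplex.isStrictlyGE_iff]
  intro i hi
  simp only [CochainComplex.mappingCone.isZero_X_iff]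
  exact ⟨K.isZero_of_isStrictlyGE n₁ _ (by omega), L.isZero_of_isStrictlyGE n₂ _ (by omega)⟩

/-- bounded above -/
def Pminus : ObjectProperty (HomotopyCategory V (ComplexShape.up ℤ)) :=
  fun K => ∃ n : ℤ, CochainComplex.IsStrictlyLE K.as n

/-- bounded -/
def Pb : ObjectProperty (HomotopyCategory V (ComplexShape.up ℤ)) :=
  fun K => ∃ a b : ℤ, CochainComplex.IsStrictlyGE K.as a ∧ CochainComplex.IsStrictlyLE K.as b

instance : (Pminus (V := V)).ContainsZero where
  exists_zero :=
    ⟨(HomotopyCategory.quotient _ _).obj 0, Functor.map_isZero _ (isZero_zero _),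
      ⟨0, (inferInstance : CochainComplex.IsStrictlyLE (0 : CochainComplex V ℤ) 0)⟩⟩

instance : (Pb (V := V)).ContainsZero where
  exists_zero :=
    ⟨(HomotopyCategory.quotient _ _).obj 0, Functor.map_isZero _ (isZero_zero _),
      ⟨0, 0, (inferInstance : CochainComplex.IsStrictlyGE (0 : CochainComplex V ℤ) 0),
        (inferInstance : CochainComplex.IsStrictlyLE (0 : CochainComplex V ℤ) 0)⟩⟩

instance : (Pminus (V := V)).IsStableUnderShift ℤ where
  isStableUnderShiftBy n :=
    { le_shift K hK := by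
        obtain ⟨K : CochainComplex _ _, rfl⟩ := K.quotient_obj_surjective
        obtain ⟨q, hq⟩ := hK
        rw [ObjectProperty.prop_shift_iff, shift_quotient_obj]
        have hq' : K.IsStrictlyLE q := hq
        exact ⟨q - n, K.isStrictlyLE_shift q n (q - n) (by omega)⟩ }

instance : (Pb (V := V)).IsStableUnderShift ℤ where
  isStableUnderShiftBy n :=
    { le_shift K hK := by
        obtain ⟨K : CochainComplex _ _, rfl⟩ := K.quotient_obj_surjective
        obtain ⟨a, b, ha, hb⟩ := hK
        rw [ObjectProperty.prop_shift_iff, shift_quotient_obj]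
        have ha' : K.IsStrictlyGE a := ha
        have hb' : K.IsStrictlyLE b := hb
        exact ⟨a - n, b - n, K.isStrictlyGE_shift a n (a - n) (by omega),
          K.isStrictlyLE_shift b n (b - n) (by omega)⟩ }

set_option backward.defeqAttrib.useBackward true in
set_option backward.isDefEq.respectTransparency false in
instance : (Pminus (V := V)).IsTriangulatedClosed₃ where
  ext₃' T hT h₁ h₂ := by
    obtain ⟨n₁, hn₁⟩ := h₁
    obtain ⟨n₂, hn₂⟩ := h₂
    have : CochainComplex.IsStrictlyLE T.obj₁.as n₁ := hn₁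
    have : CochainComplex.IsStrictlyLE T.obj₂.as n₂ := hn₂
    obtain ⟨f : T.obj₁.as ⟶ T.obj₂.as, hf⟩ := (quotient _ _).map_surjective T.mor₁
    refine ⟨_, ?_,
      ⟨Triangle.π₃.mapIso (isoTriangleOfIso₁₂ T _ hT (mappingCone_triangleh_distinguished f)
        (Iso.refl _) (Iso.refl _) ?_)⟩⟩
    · exact ⟨max (n₁ - 1) n₂, isStrictlyLE_mappingCone f n₁ n₂ _ (le_max_left _ _)
        (le_max_right _ _)⟩
    · simp [hf]

set_option backward.defeqAttrib.useBackward true in
set_option backward.isDefEq.respectTransparency false in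
instance : (Pb (V := V)).IsTriangulatedClosed₃ where
  ext₃' T hT h₁ h₂ := by
    obtain ⟨a₁, b₁, ha₁, hb₁⟩ := h₁
    obtain ⟨a₂, b₂, ha₂, hb₂⟩ := h₂
    have : CochainComplex.IsStrictlyGE T.obj₁.as a₁ := ha₁
    have : CochainComplex.IsStrictlyGE T.obj₂.as a₂ := ha₂
    have : CochainComplex.IsStrictlyLE T.obj₁.as b₁ := hb₁
    have : CochainComplex.IsStrictlyLE T.obj₂.as b₂ := hb₂
    obtain ⟨f : T.obj₁.as ⟶ T.obj₂.as, hf⟩ := (quotient _ _).map_surjective T.mor₁
    refine ⟨_, ?_,
      ⟨Triangle.π₃.mapIso (isoTriangleOfIso₁₂ T _ hT (mappingCone_triangleh_distinguished f)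
        (Iso.refl _) (Iso.refl _) ?_)⟩⟩
    · exact ⟨min (a₁ - 1) a₂, max (b₁ - 1) b₂,
        isStrictlyGE_mappingCone' f a₁ a₂ _ (by have := min_le_left (a₁ - 1) a₂; omega)
          (min_le_right _ _),
        isStrictlyLE_mappingCone f b₁ b₂ _ (le_max_left _ _) (le_max_right _ _)⟩
    · simp [hf]

instance : (Pminus (V := V)).IsTriangulated where
  toIsTriangulatedClosed₂ := .of_isTriangulatedClosed₃

instance : (Pb (V := V)).IsTriangulated where
  toIsTriangulatedClosed₂ := .of_isTriangulatedClosed₃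

end


/-- Let A be an additive category. The full subcategories K⁻(A) (complexes K with Kⁿ = 0 for n ≫ 0) and
Kᵇ(A) (Kⁿ = 0 for |n| ≫ 0) of the homotopy category K(A) are full triangulated subcategories. -/
theorem result {V : Type u} [Category.{v} V] [Preadditive V] [HasZeroObject V] [HasBinaryBiproducts V] :
    (ObjectProperty.IsTriangulated (fun K : HomotopyCategory V (ComplexShape.up ℤ) => ∃ n : ℤ, CochainComplex.IsStrictlyLE K.as n)) ∧
    (ObjectProperty.IsTriangulated (fun K : HomotopyCategory V (ComplexShape.up ℤ) =>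
      ∃ a b : ℤ, CochainComplex.IsStrictlyGE K.as a ∧ CochainComplex.IsStrictlyLE K.as b)) := by
  exact ⟨(inferInstance : (Pminus (V := V)).IsTriangulated),
    (inferInstance : (Pb (V := V)).IsTriangulated)⟩

end Groth.Agent.S6622
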