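import Mathlib
import Groth.Agent.Lib.Helper10.Postnikov
import Groth.Statements.S6623

set_option autoImplicit false
universe v u
open CategoryTheory CategoryTheory.Limits
open CohDer

namespace Groth.Agent.S6623

open CategoryTheory.Pretriangulated Groth.Agent.Helper10.Postnikov in
/-- vanishing of maps out of the tower -/
theorem V1 {D : Type u} [Category.{v} D] [Preadditive D] [HasZeroObject D]
    [HasShift D ℤ] [∀ n : ℤ, (shiftFunctor D n).Additive] [Pretriangulated D]
    (X : ChainComplex D ℕ) (n : ℕ)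
    (Y : ℕ → D) (a : ∀ k, Y k ⟶ X.X k) (b : ∀ k, X.X (k + 1) ⟶ Y k)
    (c : ∀ k, Y k ⟶ (shiftFunctor D (1 : ℤ)).obj (Y (k + 1)))
    (h0 : IsIso (a 0))
    (hP : ∀ k, k < n → Triangle.mk (a (k + 1)) (b k) (c k) ∈ distinguishedTriangles) :
    ∀ (k : ℕ), k ≤ n → ∀ (T : D),
      (∀ i m : ℕ, i + m = k → HomZero ((shiftFunctor D (-(m : ℤ))).obj (X.X i)) T) →
      HomZero (Y k) T := by
  intro k
  induction k with
  | zero =>
    intro _ T H
    have h1 : HomZero (X.X 0) T := ((H 0 0 rfl).shift_eq (by simp)).of_zero_left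
    exact h1.of_iso (asIso (a 0)).symm (Iso.refl _)
  | succ k ih =>
    intro hk T H
    have hT := hP k (by omega)
    have h2 : HomZero (X.X (k + 1)) T := ((H (k + 1) 0 rfl).shift_eq (by simp)).of_zero_left
    have h3 : HomZero (Y k) ((shiftFunctor D (1 : ℤ)).obj T) :=
      ih (by omega) _ (fun i m him =>
        (H i (m + 1) (by omega)).change_right _ _ (by push_cast; ring))
    have h3' : HomZero ((shiftFunctor D (-1 : ℤ)).obj (Y k)) T :=
      (h3.change_left (-1) 0 (by ring)).of_zero_right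
    exact homZero_from_obj₁ hT h3' h2

open CategoryTheory.Pretriangulated Groth.Agent.Helper10.Postnikov in
/-- vanishing of maps into the tower -/
theorem V2 {D : Type u} [Category.{v} D] [Preadditive D] [HasZeroObject D]
    [HasShift D ℤ] [∀ n : ℤ, (shiftFunctor D n).Additive] [Pretriangulated D]
    (X' : ChainComplex D ℕ) (n : ℕ)
    (qY : ℕ → D) (qa : ∀ k, qY k ⟶ X'.X k) (qb : ∀ k, X'.X (k + 1) ⟶ qY k)
    (qc : ∀ k, qY k ⟶ (shiftFunctor D (1 : ℤ)).obj (qY (k + 1)))
    (qh0 : IsIso (qa 0))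
    (qhP : ∀ k, k < n → Triangle.mk (qa (k + 1)) (qb k) (qc k) ∈ distinguishedTriangles) :
    ∀ (k : ℕ), k ≤ n → ∀ (S : D),
      (∀ i m : ℕ, i + m = k → HomZero S ((shiftFunctor D (-(m : ℤ))).obj (X'.X i))) →
      HomZero S (qY k) := by
  intro k
  induction k with
  | zero =>
    intro _ S H
    have h1 : HomZero S (X'.X 0) := ((H 0 0 rfl).shift_eq' (by simp)).of_zero_right
    exact h1.of_iso (Iso.refl _) (asIso (qa 0)).symm
  | succ k ih =>
    intro hk S H
    have hT := qhP k (by omega)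
    have h2 : HomZero S (X'.X (k + 1)) := ((H (k + 1) 0 rfl).shift_eq' (by simp)).of_zero_right
    have h3 : HomZero ((shiftFunctor D (1 : ℤ)).obj S) (qY k) :=
      ih (by omega) _ (fun i m him =>
        (H i (m + 1) (by omega)).change_left _ _ (by push_cast; ring))
    have h3' : HomZero S ((shiftFunctor D (-1 : ℤ)).obj (qY k)) :=
      (h3.change_right 0 (-1) (by ring)).of_zero_left
    exact homZero_to_obj₁ hT h3' h2

open CategoryTheory.Pretriangulated in
/-- Let D be a triangulated category, φ : X ⟶ X' a morphism of chain complexes in D considered in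
degrees ≤ n, where a Postnikov system for the complex X_n → … → X_0 consists of objects Y_k, an
isomorphism Y_0 ⟶ X_0, and for 0 ≤ k < n distinguished triangles Y_{k+1} ⟶ X_{k+1} ⟶ Y_k ⟶
Y_{k+1}⟦1⟧ with X_{k+1} ⟶ Y_k ⟶ X_k the differential; let (Y, a, b, c) and (Y', a', b', c') be
Postnikov systems for X and X'. If Hom(X_{j-i}⟦1-i⟧, X'_j) = 0 and Hom(X_j, X'_{j-i}⟦-i⟧) = 0 for
all 0 < i ≤ j ≤ n, then there is at most one morphism of Postnikov systems extending φ: two such
morphisms agree on Y_k for every k ≤ n. -/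
theorem result {D : Type u} [Category.{v} D] [Preadditive D] [HasZeroObject D] [HasShift D ℤ]
    [∀ n : ℤ, (shiftFunctor D n).Additive] [Pretriangulated D] [IsTriangulated D]
    (X X' : ChainComplex D ℕ) (φ : X ⟶ X') (n : ℕ)
    (Y : ℕ → D) (a : ∀ k, Y k ⟶ X.X k) (b : ∀ k, X.X (k + 1) ⟶ Y k)
    (c : ∀ k, Y k ⟶ (shiftFunctor D (1 : ℤ)).obj (Y (k + 1)))
    (h0 : IsIso (a 0))
    (hP : ∀ k, k < n → Triangle.mk (a (k + 1)) (b k) (c k) ∈ distinguishedTriangles ∧ b k ≫ a k = X.d (k + 1) k)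
    (qY : ℕ → D) (qa : ∀ k, qY k ⟶ X'.X k) (qb : ∀ k, X'.X (k + 1) ⟶ qY k)
    (qc : ∀ k, qY k ⟶ (shiftFunctor D (1 : ℤ)).obj (qY (k + 1)))
    (qh0 : IsIso (qa 0))
    (qhP : ∀ k, k < n → Triangle.mk (qa (k + 1)) (qb k) (qc k) ∈ distinguishedTriangles ∧ qb k ≫ qa k = X'.d (k + 1) k)
    (hv : ∀ i j : ℕ, 0 < i → i ≤ j → j ≤ n →
      (∀ ψ : (shiftFunctor D (1 - (i : ℤ))).obj (X.X (j - i)) ⟶ X'.X j, ψ = 0) ∧
      (∀ ψ : X.X j ⟶ (shiftFunctor D (-(i : ℤ))).obj (X'.X (j - i)), ψ = 0))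
    (y z : ∀ k, Y k ⟶ qY k)
    (hy : (∀ k, k ≤ n → y k ≫ qa k = a k ≫ φ.f k) ∧
      (∀ k, k < n → b k ≫ y k = φ.f (k + 1) ≫ qb k ∧ c k ≫ (shiftFunctor D (1 : ℤ)).map (y (k + 1)) = y k ≫ qc k))
    (hz : (∀ k, k ≤ n → z k ≫ qa k = a k ≫ φ.f k) ∧
      (∀ k, k < n → b k ≫ z k = φ.f (k + 1) ≫ qb k ∧ c k ≫ (shiftFunctor D (1 : ℤ)).map (z (k + 1)) = z k ≫ qc k))
    (k : ℕ) (hk : k ≤ n) :
    y k = z k := by
  induction k with
  | zero =>
    rw [← sub_eq_zero, ← cancel_mono (qa 0), zero_comp, Preadditive.sub_comp,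
      hy.1 0 (Nat.zero_le _), hz.1 0 (Nat.zero_le _), sub_self]
  | succ k ih =>
    have hk0 : y k = z k := ih (by omega)
    have hT := (hP k (by omega)).1
    have hqT := (qhP k (by omega)).1
    rw [← sub_eq_zero]
    -- step 1/2: factor through a (k+1)
    have hc : c k ≫ (shiftFunctor D (1 : ℤ)).map (y (k + 1) - z (k + 1)) = 0 := by
      rw [Functor.map_sub, Preadditive.comp_sub, (hy.2 k (by omega)).2, (hz.2 k (by omega)).2,
        hk0, sub_self]
    obtain ⟨t, ht⟩ : ∃ t : X.X (k + 1) ⟶ qY (k + 1), y (k + 1) - z (k + 1) = a (k + 1) ≫ t :=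
      Groth.Agent.Helper10.Postnikov.exists_fac_of_mor₃_comp hT (y (k + 1) - z (k + 1)) hc
    -- step 3: t ≫ qa (k+1) = 0
    have hwqa : (y (k + 1) - z (k + 1)) ≫ qa (k + 1) = 0 := by
      rw [Preadditive.sub_comp, hy.1 (k + 1) hk, hz.1 (k + 1) hk, sub_self]
    have hV1 : Groth.Agent.Helper10.Postnikov.HomZero (Y k) (X'.X (k + 1)) := by
      refine V1 X n Y a b c h0 (fun k hk => (hP k hk).1) k (by omega) _ ?_
      intro i m him
      have h1 := (hv (m + 1) (k + 1) (by omega) (by omega) hk).1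
      have e : k + 1 - (m + 1) = i := by omega
      rw [e] at h1
      exact Groth.Agent.Helper10.Postnikov.HomZero.shift_eq (A := X.X i) h1 (by push_cast; ring)
    have hr : t ≫ qa (k + 1) = 0 := by
      refine Groth.Agent.Helper10.Postnikov.eq_zero_of_mor₁_comp hT (t ≫ qa (k + 1)) ?_ hV1
      show a (k + 1) ≫ t ≫ qa (k + 1) = 0
      rw [← Category.assoc, ← ht, hwqa]
    -- step 4: t = 0
    have hV2 : Groth.Agent.Helper10.Postnikov.HomZero (X.X (k + 1))
        ((shiftFunctor D (-1 : ℤ)).obj (qY k)) := by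
      have h3 : Groth.Agent.Helper10.Postnikov.HomZero
          ((shiftFunctor D (1 : ℤ)).obj (X.X (k + 1))) (qY k) := by
        refine V2 X' n qY qa qb qc qh0 (fun k hk => (qhP k hk).1) k (by omega) _ ?_
        intro i m him
        have h1 := (hv (m + 1) (k + 1) (by omega) (by omega) hk).2
        have e : k + 1 - (m + 1) = i := by omega
        rw [e] at h1
        exact Groth.Agent.Helper10.Postnikov.HomZero.change_left (A := X.X (k + 1))
          (B := X'.X i) h1 _ _ (by push_cast; ring)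
      exact (h3.change_right 0 (-1) (by ring)).of_zero_left
    have ht0 : t = 0 :=
      Groth.Agent.Helper10.Postnikov.eq_zero_of_comp_mor₁ hqT t hr hV2
    rw [ht, ht0, comp_zero]

end Groth.Agent.S6623
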