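import Groth.Statements.S6631
import Mathlib

set_option autoImplicit false
open CategoryTheory CategoryTheory.Limits AlgebraicGeometry Opposite
universe u
open EtDesc

namespace Groth.Agent.S6631

section helpers

/-- A surjective morphism in the small étale site generates a covering sieve. -/
lemma single_cover {X : Scheme.{u}} {W Z : X.Etale} (h : Z ⟶ W)
    (hs : Function.Surjective h.left) :
    Sieve.ofArrows (fun _ : PUnit.{1} => Z) (fun _ => h) ∈ X.smallEtaleTopology W := by
  rw [Scheme.ofArrows_mem_smallEtaleTopology_iff]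
  ext w
  simp only [Set.mem_iUnion, Set.mem_range, Set.mem_univ, iff_true]
  obtain ⟨z, hz⟩ := hs w
  exact ⟨PUnit.unit, z, hz⟩

/-- The morphism `X ×_Y V ⟶ U` of `X.Etale` given by (C). -/
noncomputable def propCHom {X Y : Scheme.{u}} (f : X ⟶ Y) (U : X.Etale) {V : Scheme.{u}} (v : V ⟶ Y)
    [Etale v] (h : pullback f v ⟶ U.left) (hh : h ≫ U.hom = pullback.fst f v) :
    (EtCoh.bc f).obj (Scheme.Etale.mk v) ⟶ U :=
  MorphismProperty.Over.homMk ((pullbackSymmetry v f).hom ≫ h) (by
    change ((pullbackSymmetry v f).hom ≫ h) ≫ U.hom = pullback.snd v f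
    rw [Category.assoc, hh, pullbackSymmetry_hom_comp_fst]) trivial

lemma propCHom_surj {X Y : Scheme.{u}} (f : X ⟶ Y) (U : X.Etale) {V : Scheme.{u}} (v : V ⟶ Y)
    [Etale v] (h : pullback f v ⟶ U.left) (hh : h ≫ U.hom = pullback.fst f v)
    (hs : Surjective h) : Function.Surjective (propCHom f U v h hh).left := by
  change Function.Surjective ((pullbackSymmetry v f).hom ≫ h)
  have : Surjective ((pullbackSymmetry v f).hom ≫ h) := inferInstance
  exact this.surj

lemma reflects_mono {X Y : Scheme.{u}} (f : X ⟶ Y) (hC : BigSite.PropC f) {F G : Sh X} (φ : F ⟶ G)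
    [Mono ((pushSh f).map φ)] : Mono φ := by
  have h1 : Mono ((pushSh f).map φ).hom := inferInstance
  have h2 : ∀ V : Y.Etale, Function.Injective (φ.hom.app (op ((EtCoh.bc f).obj V))) := by
    intro V
    have := (NatTrans.mono_iff_mono_app _).1 h1 (op V)
    exact (mono_iff_injective _).1 this
  suffices Mono φ.hom from Sheaf.Hom.mono_of_presheaf_mono _ _ φ
  rw [NatTrans.mono_iff_mono_app]
  intro ⟨U⟩
  rw [mono_iff_injective]
  intro s s' hss
  obtain ⟨V, v, hv, h, hh, hsurj⟩ := hC U.left U.hom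
  have hcov := single_cover (propCHom f U v h hh) (propCHom_surj f U v h hh hsurj)
  have hsep := ((isSheaf_iff_isSheaf_of_type _ _).1 F.2).isSeparated _ hcov
  apply hsep.ext
  rintro Z g ⟨W, a, b, ⟨i⟩, rfl⟩
  have key : F.obj.map (propCHom f U v h hh).op s = F.obj.map (propCHom f U v h hh).op s' := by
    apply h2 (Scheme.Etale.mk v)
    have n1 := NatTrans.naturality_apply φ.hom (propCHom f U v h hh).op s
    have n2 := NatTrans.naturality_apply φ.hom (propCHom f U v h hh).op s'
    rw [n1, n2]
    exact congrArg _ hss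
  rw [op_comp, F.obj.map_comp]
  exact congrArg (F.obj.map a.op) key

lemma reflects_epi {X Y₀ : Scheme.{u}} (f : X ⟶ Y₀) (hC : BigSite.PropC f) {F G : Sh X} (φ : F ⟶ G)
    [hE : Epi ((pushSh f).map φ)] : Epi φ := by
  rw [← Sheaf.isLocallySurjective_iff_epi] at hE ⊢
  refine ⟨fun {U} s => ?_⟩
  obtain ⟨V, v, hv, h, hh, hsurj⟩ := hC U.left U.hom
  have hcov := single_cover (propCHom f U v h hh) (propCHom_surj f U v h hh hsurj)
  refine X.smallEtaleTopology.transitive hcov _ ?_
  rintro Z g ⟨W, a, b, ⟨i⟩, rfl⟩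
  rw [Sieve.pullback_comp]
  apply X.smallEtaleTopology.pullback_stable
  rw [Presheaf.pullback_imageSieve]
  set s' := G.obj.map (propCHom f U v h hh).op s with hs'
  have hR := Presheaf.imageSieve_mem Y₀.smallEtaleTopology ((pushSh f).map φ).hom
    (U := op (Scheme.Etale.mk v)) s'
  have hR' := (EtCoh.coverPreserving_bc f).cover_preserve hR
  refine X.smallEtaleTopology.superset_covering ?_ hR'
  rintro Z' k ⟨V'', r, a', ⟨t, ht⟩, rfl⟩
  refine ⟨F.obj.map a'.op t, ?_⟩
  have n1 := NatTrans.naturality_apply φ.hom a'.op t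
  rw [n1, op_comp, G.obj.map_comp]
  exact congrArg (G.obj.map a'.op) ht

end helpers

/-- Let f : X ⟶ Y be a morphism of schemes satisfying condition (C) (for every etale U ⟶ X there are an
etale V ⟶ Y and a surjective X-morphism X ×_Y V ⟶ U). Then the direct image of sheaves of sets on
the small etale sites along f reflects monomorphisms and epimorphisms. -/
theorem result {X Y : Scheme.{u}} (f : X ⟶ Y) (hC : BigSite.PropC f) :
    (EtDesc.pushSh f).ReflectsMonomorphisms ∧ (EtDesc.pushSh f).ReflectsEpimorphisms := by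
  exact ⟨⟨fun φ _ => reflects_mono f hC φ⟩, ⟨fun φ _ => reflects_epi f hC φ⟩⟩

end Groth.Agent.S6631
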