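import Groth.Statements.S6632
import Mathlib
import Groth.Agent.S6629

set_option autoImplicit false
open CategoryTheory CategoryTheory.Limits AlgebraicGeometry Opposite
universe u
open EtCore

namespace Groth.Agent.S6632

section helpers

open Groth.Agent.S6629

/-- Generic: the morphism `X ×_Y V' ⟶ (X ×_Y V) ×_V V'`. -/
lemma exists_theta {X Y₀ A B : Scheme.{u}} (f : X ⟶ Y₀) (b : B ⟶ Y₀) (v' : A ⟶ B) :
    ∃ θ : pullback (v' ≫ b) f ⟶ pullback (pullback.snd f b) v',
      θ ≫ pullback.fst (pullback.snd f b) v' =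
        (pullbackSymmetry (v' ≫ b) f).hom ≫
          pullback.map f (v' ≫ b) f b (𝟙 X) v' (𝟙 Y₀) (by simp) (by simp) ∧
      θ ≫ pullback.snd (pullback.snd f b) v' = pullback.fst (v' ≫ b) f := by
  refine ⟨pullback.lift ((pullbackSymmetry (v' ≫ b) f).hom ≫
      pullback.map f (v' ≫ b) f b (𝟙 X) v' (𝟙 Y₀) (by simp) (by simp))
      (pullback.fst (v' ≫ b) f) ?_, pullback.lift_fst _ _ _, pullback.lift_snd _ _ _⟩
  rw [Category.assoc, pullback.lift_snd, ← Category.assoc, pullbackSymmetry_hom_comp_snd]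

lemma aux_fac {X Y₀ A B Zl : Scheme.{u}} (f : X ⟶ Y₀) (b : B ⟶ Y₀) (v' : A ⟶ B)
    (gl : Zl ⟶ pullback b f) (h : pullback (pullback.snd f b) v' ⟶ Zl)
    (hh : h ≫ gl ≫ (pullbackSymmetry b f).hom = pullback.fst (pullback.snd f b) v')
    (θ : pullback (v' ≫ b) f ⟶ pullback (pullback.snd f b) v')
    (hθ : θ ≫ pullback.fst (pullback.snd f b) v' =
        (pullbackSymmetry (v' ≫ b) f).hom ≫
          pullback.map f (v' ≫ b) f b (𝟙 X) v' (𝟙 Y₀) (by simp) (by simp))
    (m : pullback (v' ≫ b) f ⟶ pullback b f)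
    (hm : (pullbackSymmetry (v' ≫ b) f).inv ≫ m ≫ (pullbackSymmetry b f).hom =
      pullback.map f (v' ≫ b) f b (𝟙 X) v' (𝟙 Y₀) (by simp) (by simp)) :
    (θ ≫ h) ≫ gl = m := by
  rw [← cancel_mono (pullbackSymmetry b f).hom, Category.assoc, Category.assoc, hh, hθ, ← hm,
    Iso.hom_inv_id_assoc]

lemma bc_rHom_snd {X Y₀ : Scheme.{u}} (f : X ⟶ Y₀) (V : Y₀.Etale) {V' : Scheme.{u}}
    (v' : V' ⟶ V.left) [Etale v'] :
    ((EtCoh.bc f).map (rHom V v')).left ≫ pullback.snd V.hom f = pullback.snd (v' ≫ V.hom) f := by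
  dsimp [EtCoh.bc]
  exact pullback.lift_snd _ _ _

lemma factor {X Y₀ : Scheme.{u}} (f : X ⟶ Y₀) (V : Y₀.Etale) (Z : X.Etale)
    (g : Z ⟶ (EtCoh.bc f).obj V) {V' : Scheme.{u}} (v' : V' ⟶ V.left) [Etale v']
    (h : pullback (pullback.snd f V.hom) v' ⟶ Z.left)
    (hh : h ≫ (g.left ≫ (pullbackSymmetry V.hom f).hom) =
      pullback.fst (pullback.snd f V.hom) v') :
    ∃ k : (EtCoh.bc f).obj (Scheme.Etale.mk (v' ≫ V.hom)) ⟶ Z,
      k ≫ g = (EtCoh.bc f).map (rHom V v') := by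
  obtain ⟨θ, hθ1, -⟩ := exists_theta f V.hom v'
  have key : (θ ≫ h) ≫ g.left = ((EtCoh.bc f).map (rHom V v')).left :=
    aux_fac f V.hom v' g.left h hh θ hθ1 _ (bc_rHom f V v')
  have e0 : Z.hom = g.left ≫ pullback.snd V.hom f := (Over.w g.hom).symm
  have hk : (θ ≫ h) ≫ Z.hom = pullback.snd (v' ≫ V.hom) f := by
    have := congrArg (fun m => m ≫ pullback.snd V.hom f) key
    exact ((congrArg (fun m => (θ ≫ h) ≫ m) e0).trans (Category.assoc _ _ _).symm).trans
      (this.trans (bc_rHom_snd f V v'))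
  refine ⟨MorphismProperty.Over.homMk (θ ≫ h) hk trivial, ?_⟩
  apply MorphismProperty.Over.Hom.ext
  exact key

lemma bc_rHom_fst {X Y₀ : Scheme.{u}} (f : X ⟶ Y₀) (V : Y₀.Etale) {V' : Scheme.{u}}
    (v' : V' ⟶ V.left) [Etale v'] :
    ((EtCoh.bc f).map (rHom V v')).left ≫ pullback.fst V.hom f =
      pullback.fst (v' ≫ V.hom) f ≫ v' := by
  dsimp [EtCoh.bc]
  exact pullback.lift_fst _ _ _

lemma range_sub {X Y₀ B A Zl : Scheme.{u}} (f : X ⟶ Y₀) (b : B ⟶ Y₀) (v' : A ⟶ B)
    (ge : Zl ⟶ pullback f b) (h : pullback (pullback.snd f b) v' ⟶ Zl) (hs : Surjective h)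
    (hh : h ≫ ge = pullback.fst (pullback.snd f b) v') (z : Zl) :
    (pullback.snd f b) (ge z) ∈ Set.range v' := by
  obtain ⟨w, rfl⟩ := hs.surj z
  refine ⟨(pullback.snd (pullback.snd f b) v') w, ?_⟩
  rw [← Scheme.Hom.comp_apply, ← Scheme.Hom.comp_apply, ← Scheme.Hom.comp_apply, ← Category.assoc,
    hh, pullback.condition]

/-- Points of `(bc f).obj V` map into the range of `pullback.snd f V.hom`. -/
lemma fst_mem_range {X Y₀ : Scheme.{u}} (f : X ⟶ Y₀) (V : Y₀.Etale)
    (q : ((EtCoh.bc f).obj V).left) :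
    (pullback.fst V.hom f) q ∈ Set.range (pullback.snd f V.hom) := by
  refine ⟨(pullbackSymmetry V.hom f).hom q, ?_⟩
  rw [← Scheme.Hom.comp_apply, pullbackSymmetry_hom_comp_snd]

lemma isEmpty_bc {X Y₀ : Scheme.{u}} (f : X ⟶ Y₀) (V : Y₀.Etale) (V0 : V.left.Opens)
    (hV0 : ∀ y ∈ V0, y ∉ Set.range (pullback.snd f V.hom)) (V'' : Y₀.Etale)
    (a : V'' ⟶ Scheme.Etale.mk (V0.ι ≫ V.hom)) : IsEmpty ((EtCoh.bc f).obj V'').left := by
  refine ⟨fun q'' => ?_⟩
  let q : ((EtCoh.bc f).obj (Scheme.Etale.mk (V0.ι ≫ V.hom))).left := ((EtCoh.bc f).map a).left q''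
  have h1 := fst_mem_range f V (((EtCoh.bc f).map (rHom V V0.ι)).left q)
  have e := bc_rHom_fst f V V0.ι
  have e' : (pullback.fst V.hom f) (((EtCoh.bc f).map (rHom V V0.ι)).left q) =
      V0.ι ((pullback.fst (V0.ι ≫ V.hom) f) q) :=
    congrArg (fun k : pullback (V0.ι ≫ V.hom) f ⟶ V.left => k q) e
  rw [e'] at h1
  exact hV0 _ (Subtype.property _) h1

theorem main6632 {X Y₀ : Scheme.{u}} (f : X ⟶ Y₀)
    (hC : ∀ (V : Scheme.{u}) (v : V ⟶ Y₀) [Etale v], BigSite.PropC (pullback.snd f v))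
    (hcl : ∀ (V : Scheme.{u}) (v : V ⟶ Y₀) [Etale v], IsClosedMap (pullback.snd f v).base) :
    BigSite.IsAlmostCocontinuous (EtCoh.bc f) Y₀.smallEtaleTopology X.smallEtaleTopology := by
  intro V R hR
  rw [mem_iff] at hR
  choose Z g z hRg hz using hR
  have hC' := fun x => hC V.left V.hom (Z x).left ((g x).left ≫ (pullbackSymmetry V.hom f).hom)
  choose V' v' hv' h hh hs using hC'
  let V0 : V.left.Opens := ⟨(Set.range (pullback.snd f V.hom))ᶜ,
    ((hcl V.left V.hom).isClosed_range).isOpen_compl⟩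
  have hV0 : ∀ y ∈ V0, y ∉ Set.range (pullback.snd f V.hom) := fun y hy => hy
  let R1 : Sieve V := Sieve.ofArrows (fun x => @Scheme.Etale.mk _ _ (v' x ≫ V.hom)
      (by have := hv' x; infer_instance)) (fun x => @rHom _ V _ (v' x) (hv' x))
  let R2 : Sieve V := Sieve.ofArrows (fun _ : PUnit.{1} => Scheme.Etale.mk (V0.ι ≫ V.hom))
      (fun _ => rHom V V0.ι)
  refine ⟨R1 ⊔ R2, ?_, ?_⟩
  · rw [mem_iff]
    intro y
    by_cases hy : y ∈ Set.range (pullback.snd f V.hom)
    · obtain ⟨x', rfl⟩ := hy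
      let x := (pullbackSymmetry V.hom f).inv x'
      have hx : ((g x).left ≫ (pullbackSymmetry V.hom f).hom) (z x) = x' := by
        change (pullbackSymmetry V.hom f).hom ((g x).left (z x)) = x'
        rw [hz x]
        change (pullbackSymmetry V.hom f).hom ((pullbackSymmetry V.hom f).inv x') = x'
        rw [← Scheme.Hom.comp_apply, Iso.inv_hom_id]
        rfl
      have := range_sub f V.hom (v' x) ((g x).left ≫ (pullbackSymmetry V.hom f).hom) (h x)
        (hs x) (hh x) (z x)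
      rw [hx] at this
      obtain ⟨w, hw⟩ := this
      exact ⟨_, @rHom _ V _ (v' x) (hv' x), w, Or.inl (Sieve.ofArrows_mk _ _ x), hw⟩
    · exact ⟨_, rHom V V0.ι, ⟨y, hy⟩, Or.inr (Sieve.ofArrows_mk _ _ PUnit.unit), rfl⟩
  · intro V'' k hk
    rcases hk with hk | hk
    · right
      obtain ⟨W, a, b, ⟨x⟩, rfl⟩ := hk
      rw [Functor.map_comp]
      apply Sieve.downward_closed
      have := hv' x
      obtain ⟨k', hk'⟩ := factor f V (Z x) (g x) (v' x) (h x) (hh x)
      rw [← hk']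
      exact Sieve.downward_closed _ (hRg x) _
    · left
      obtain ⟨W, a, b, ⟨_⟩, rfl⟩ := hk
      have := isEmpty_bc f V V0 hV0 V'' a
      rw [mem_iff]
      intro q
      exact (IsEmpty.false q).elim

end helpers

/-- Let f : X ⟶ Y be a morphism of schemes such that, for every etale V ⟶ Y, the base change X ×_Y V ⟶ V
satisfies condition (C) (for every etale U ⟶ X ×_Y V there are an etale V' ⟶ V and a surjective
morphism from the base change of V' to U over X ×_Y V) and is closed as a map of topological spaces.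
Then the base change functor V ↦ X ×_Y V from the small etale site of Y to that of X is almost
cocontinuous: every covering sieve of X ×_Y V contains the images of the members of some covering
sieve of V, except for members V' for which X ×_Y V' is covered by the empty sieve. -/
theorem result {X Y : Scheme.{u}} (f : X ⟶ Y)
    (hC : ∀ (V : Scheme.{u}) (v : V ⟶ Y) [Etale v], BigSite.PropC (pullback.snd f v))
    (hcl : ∀ (V : Scheme.{u}) (v : V ⟶ Y) [Etale v], IsClosedMap (pullback.snd f v).base) :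
    BigSite.IsAlmostCocontinuous (EtCoh.bc f) Y.smallEtaleTopology X.smallEtaleTopology := by
  exact main6632 f hC hcl

end Groth.Agent.S6632
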