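import Groth.Statements.S6637
import Mathlib

set_option autoImplicit false
open CategoryTheory CategoryTheory.Limits AlgebraicGeometry Opposite
universe u
open BigSite

namespace Groth.Agent.S6637

section helpers

lemma lift_isIso {X Y A : Scheme.{u}} (f : X ⟶ Y) [Mono f] (a : A ⟶ X) (b : A ⟶ Y) (hb : b = a ≫ f)
    (w : 𝟙 A ≫ b = a ≫ f) : IsIso (pullback.lift (𝟙 A) a w : A ⟶ pullback b f) := by
  subst hb
  refine ⟨pullback.fst _ _, ?_, ?_⟩
  · exact pullback.lift_fst _ _ _
  · apply pullback.hom_ext
    · rw [Category.assoc, pullback.lift_fst, Category.id_comp]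
      exact Category.comp_id _
    · rw [Category.assoc, pullback.lift_snd, Category.id_comp, ← cancel_mono f, Category.assoc]
      exact pullback.condition

lemma unit_isIso {X Y : Scheme.{u}} (f : X ⟶ Y) [Mono f] (U : Over X) :
    IsIso ((Over.mapPullbackAdj f).unit.app U) := by
  have h : IsIso ((Over.forget X).map ((Over.mapPullbackAdj f).unit.app U)) := by
    simp only [Over.mapPullbackAdj_unit_app, Over.forget_map, Over.homMk_left]
    exact lift_isIso f U.hom _ rfl _
  exact isIso_of_reflects_iso _ (Over.forget X)

universe v' u'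

lemma counit_isIso {X Y : Scheme.{u}} (f : X ⟶ Y) [Mono f] (K : Precoverage Scheme.{u})
    (A : Type u') [Category.{v'} A] (F : Sheaf (QuotSh.J K X) A) :
    IsIso ((BigSite.bigAdj K f A).counit.app F) := by
  have h : IsIso ((sheafToPresheaf _ _).map ((BigSite.bigAdj K f A).counit.app F)) := by
    have : ∀ U, IsIso (((sheafToPresheaf _ _).map ((BigSite.bigAdj K f A).counit.app F)).app U) := by
      intro U
      have := unit_isIso f U.unop
      have e : ((sheafToPresheaf _ _).map ((BigSite.bigAdj K f A).counit.app F)).app U =
          F.obj.map ((Over.mapPullbackAdj f).unit.app U.unop).op := by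
        simp [BigSite.bigAdj, -Over.mapPullbackAdj_unit_app]
      rw [e]
      have h2 : IsIso ((Over.mapPullbackAdj f).unit.app U.unop).op := inferInstance
      exact Functor.map_isIso F.obj _
    exact NatIso.isIso_of_isIso_app _
  exact isIso_of_reflects_iso _ (sheafToPresheaf _ _)

end helpers

/-- For the Zariski, etale, smooth and fppf topologies: for a monomorphism of schemes f : X ⟶ Y the
counit f_big⁻¹ f_big,* F ⟶ F is an isomorphism for every sheaf of sets F on the big site of X, and
for every abelian sheaf. (The published statement also covers the syntomic topology; this row treats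
the Zariski, etale, smooth and fppf topologies only.) -/
theorem result {X Y : Scheme.{u}} (f : X ⟶ Y) [Mono f]
    (K : Precoverage Scheme.{u}) (hK : K = Scheme.zariskiPrecoverage ∨ K = Scheme.etalePrecoverage ∨
      K = Scheme.precoverage @Smooth ∨ K = Scheme.fppfPrecoverage) :
    (∀ F : QuotSh.Sh K X, IsIso ((BigSite.bigAdj K f (Type (u + 1))).counit.app F)) ∧
      (∀ F : BigSite.Ab K X, IsIso ((BigSite.bigAdj K f AddCommGrpCat.{u + 1}).counit.app F)) := by
  exact ⟨fun F => counit_isIso f K _ F, fun F => counit_isIso f K _ F⟩

end Groth.Agent.S6637
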