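import Groth.Statements.S6639
import Mathlib
import Groth.Agent.Lib.Helper22.QLin3

set_option autoImplicit false
universe u
open scoped TensorProduct
open EtBase

namespace Groth.Agent.S6639

/-- Let k ⟶ k' be a homomorphism of algebraically closed fields of characteristic p > 0 (an extension of
algebraically closed fields), V a finite-dimensional k-vector space, F : V ⟶ V additive with F(c •
v) = c^p • F(v), and F' the additive endomorphism of V' = k' ⊗_k V satisfying F'(c ⊗ v) = c^p ⊗
F(v). Then v ↦ 1 ⊗ v maps the fixed vectors of F bijectively onto the fixed vectors of F'. -/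
theorem result {k k' V : Type u} [Field k] [IsAlgClosed k] [Field k']
    [IsAlgClosed k'] [Algebra k k'] (p : ℕ) [Fact p.Prime] [CharP k p]
    [AddCommGroup V] [Module k V] [FiniteDimensional k V] (F : V →+ V)
    (hF : ∀ (c : k) (v : V), F (c • v) = c ^ p • F v)
    (F' : k' ⊗[k] V →+ k' ⊗[k] V) (hF' : ∀ (c : k') (v : V), F' (c ⊗ₜ[k] v) = (c ^ p) ⊗ₜ[k] F v) :
    Set.BijOn (fun v : V => (1 : k') ⊗ₜ[k] v) {v : V | F v = v} {w : k' ⊗[k] V | F' w = w} := by
  classical
  haveI : IsSepClosed k := inferInstance
  haveI : CharP k' p := charP_of_injective_algebraMap (algebraMap k k').injective p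
  have hF1 : ∀ (c : k) (v : V), F (c • v) = c ^ (p ^ 1) • F v := by
    intro c v; rw [pow_one]; exact hF c v
  set f := Groth.Agent.Helper22.QLin.mkSL (r := 1) F hF1 with hf
  have hF'smul : ∀ (c : k') (w : k' ⊗[k] V), F' (c • w) = c ^ p • F' w := by
    intro c w
    induction w using TensorProduct.induction_on with
    | zero => simp
    | tmul a v =>
      rw [TensorProduct.smul_tmul', hF', hF', smul_eq_mul, mul_pow, TensorProduct.smul_tmul',
        smul_eq_mul]
    | add x y hx hy => rw [smul_add, map_add, hx, hy, map_add, smul_add]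
  refine ⟨?_, ?_, ?_⟩
  · intro v hv
    show F' ((1 : k') ⊗ₜ[k] v) = (1 : k') ⊗ₜ[k] v
    rw [hF', one_pow, show F v = v from hv]
  · intro v _ v' _ h
    have h2 : (1 : k') ⊗ₜ[k] v = (1 : k') ⊗ₜ[k] v' := h
    have h' : (1 : k') ⊗ₜ[k] (v - v') = 0 := by rw [TensorProduct.tmul_sub, h2, sub_self]
    rw [Module.FaithfullyFlat.one_tmul_eq_zero_iff] at h'
    exact sub_eq_zero.mp h'
  · intro w hw
    have hw' : F' w = w := hw
    obtain ⟨b, hb, hfix⟩ := Groth.Agent.Helper22.QLin.exists_basis_Vss f one_pos
    obtain ⟨N, hN, -⟩ := Groth.Agent.Helper22.QLin.exists_Vss_eq f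
    let E : Submodule k V → Submodule k' (k' ⊗[k] V) := fun S =>
      Submodule.span k' ((fun v : V => (1 : k') ⊗ₜ[k] v) '' (S : Set V))
    have hE0' : ∀ x : k' ⊗[k] V, x ∈ E ⊤ := by
      intro x
      induction x using TensorProduct.induction_on with
      | zero => exact Submodule.zero_mem _
      | tmul a v =>
        have : a ⊗ₜ[k] v = a • ((1 : k') ⊗ₜ[k] v) := by
          rw [TensorProduct.smul_tmul', smul_eq_mul, mul_one]
        rw [this]
        exact Submodule.smul_mem _ _ (Submodule.subset_span ⟨v, trivial, rfl⟩)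
      | add x y hx hy => exact Submodule.add_mem _ hx hy
    have hEstep : ∀ (n : ℕ) (x : k' ⊗[k] V), x ∈ E (Groth.Agent.Helper22.QLin.imS f n) →
        F' x ∈ E (Groth.Agent.Helper22.QLin.imS f (n + 1)) := by
      intro n x hx
      induction hx using Submodule.span_induction with
      | mem y hy =>
        obtain ⟨s, hs, rfl⟩ := hy
        show F' ((1 : k') ⊗ₜ[k] s) ∈ _
        rw [hF', one_pow]
        exact Submodule.subset_span
          ⟨F s, Groth.Agent.Helper22.QLin.map_mem_imS_succ f n s hs, rfl⟩
      | zero => rw [map_zero]; exact Submodule.zero_mem _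
      | add x y _ _ hx hy => rw [map_add]; exact Submodule.add_mem _ hx hy
      | smul a x _ hx => rw [hF'smul]; exact Submodule.smul_mem _ _ hx
    have hEn : ∀ n, w ∈ E (Groth.Agent.Helper22.QLin.imS f n) := by
      intro n
      induction n with
      | zero =>
        have h0 : Groth.Agent.Helper22.QLin.imS f 0 = ⊤ := by
          unfold Groth.Agent.Helper22.QLin.imS
          simp
        rw [h0]; exact hE0' w
      | succ n ih =>
        have := hEstep n w ih
        rwa [hw'] at this
    have hwV : w ∈ E (Groth.Agent.Helper22.QLin.Vss f) := by rw [hN]; exact hEn N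
    let b' : Fin (Module.finrank k (Groth.Agent.Helper22.QLin.Vss f)) → k' ⊗[k] V :=
      fun i => (1 : k') ⊗ₜ[k] (b i : V)
    have hspan : E (Groth.Agent.Helper22.QLin.Vss f) ≤ Submodule.span k' (Set.range b') := by
      rw [Submodule.span_le]
      rintro _ ⟨s, hs, rfl⟩
      have h1 := congrArg Subtype.val (b.sum_repr ⟨s, hs⟩)
      rw [Submodule.coe_sum] at h1
      simp only [Submodule.coe_smul] at h1
      show (1 : k') ⊗ₜ[k] s ∈ _
      rw [← h1, TensorProduct.tmul_sum]
      apply Submodule.sum_mem
      intro i _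
      rw [TensorProduct.tmul_smul]
      exact Submodule.smul_of_tower_mem _ _ (Submodule.subset_span ⟨i, rfl⟩)
    obtain ⟨c, hc⟩ := (Submodule.mem_span_range_iff_exists_fun k').mp (hspan hwV)
    have hli : LinearIndependent k' b' := by
      have h0 : LinearIndependent k (fun i => (b i : V)) :=
        b.linearIndependent.map' (Groth.Agent.Helper22.QLin.Vss f).subtype
          (Submodule.ker_subtype _)
      exact Module.Flat.linearIndependent_one_tmul h0
    have hFw : F' w = ∑ i, (c i) ^ p • b' i := by
      rw [← hc, map_sum]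
      apply Finset.sum_congr rfl
      intro i _
      rw [hF'smul]
      congr 1
      show F' ((1 : k') ⊗ₜ[k] (b i : V)) = _
      rw [hF', one_pow, show F (b i : V) = (b i : V) from hb i]
    have hcp : ∀ i, c i ^ p = c i := by
      have h2 : ∑ i, (c i ^ p - c i) • b' i = 0 := by
        have hsub : ∀ i, (c i ^ p - c i) • b' i = c i ^ p • b' i - c i • b' i :=
          fun i => sub_smul (c i ^ p) (c i) (b' i)
        rw [Finset.sum_congr rfl (fun i _ => hsub i), Finset.sum_sub_distrib, ← hFw, hc, hw',
          sub_self]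
      intro i
      have := (Fintype.linearIndependent_iff.mp hli) (fun i => c i ^ p - c i) h2 i
      exact sub_eq_zero.mp this
    have hdesc : ∀ i, ∃ d : k, d ^ p = d ∧ algebraMap k k' d = c i := by
      intro i
      have h1 : c i ∈ (⊥ : Subfield k') := (Subfield.mem_bot_iff_pow_eq_self k' p).mpr (hcp i)
      obtain ⟨n, hn⟩ := (mem_bot_iff_intCast p k').mp h1
      refine ⟨(n : k), ?_, ?_⟩
      · exact (Subfield.mem_bot_iff_pow_eq_self k p).mp ((mem_bot_iff_intCast p k).mpr ⟨n, rfl⟩)
      · rw [map_intCast]; exact hn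
    choose d hd1 hd2 using hdesc
    refine ⟨∑ i, d i • (b i : V), ?_, ?_⟩
    · show F (∑ i, d i • (b i : V)) = _
      exact (hfix _).mpr ⟨d, fun i => by rw [pow_one]; exact hd1 i, rfl⟩
    · show (1 : k') ⊗ₜ[k] (∑ i, d i • (b i : V)) = w
      rw [← hc, TensorProduct.tmul_sum]
      apply Finset.sum_congr rfl
      intro i _
      rw [TensorProduct.tmul_smul, ← hd2 i, algebraMap_smul]

end Groth.Agent.S6639
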