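import Groth.Statements.S6640
import Groth.Agent.Lib.Helper10.LcGeneric

set_option autoImplicit false
open CategoryTheory CategoryTheory.Limits AlgebraicGeometry Opposite
universe u
open EtCore

namespace Groth.Agent.S6640

section helpers

open Groth.Agent.Helper1.LC Groth.Agent.Helper10.LcGeneric

theorem main {X : Scheme.{u}} [IrreducibleSpace ↥X]
    {Ω : Type u} [Field Ω] [IsSepClosed Ω] (ξ : Spec (CommRingCat.of Ω) ⟶ X)
    (hξ : ξ.base default = genericPoint ↥X)
    (A : Type) [AddCommGroup A] (A' : AddSubgroup A) (G : EtCoh.Ab X)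
    (a : EtCoh.const X ↥A' ⟶ G) (b : G ⟶ EtCoh.const X A) [Mono a] [Mono b]
    (hab : a ≫ b = (constantSheaf X.smallEtaleTopology AddCommGrpCat.{u + 1}).map
      (AddCommGrpCat.ofHom (AddEquiv.ulift.symm.toAddMonoidHom.comp (A'.subtype.comp AddEquiv.ulift.toAddMonoidHom))))
    (hst : IsIso ((EtCoh.stalk ξ).map a)) : IsIso a := by
  let ι : ULift.{u + 1} A' →+ ULift.{u + 1} A :=
    AddEquiv.ulift.symm.toAddMonoidHom.comp (A'.subtype.comp AddEquiv.ulift.toAddMonoidHom)
  have hι : Function.Injective ι := by
    intro x y h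
    have h1 : (A'.subtype (AddEquiv.ulift x)) = (A'.subtype (AddEquiv.ulift y)) :=
      congrArg ULift.down h
    exact AddEquiv.ulift.injective (Subtype.ext h1)
  let a' : LCs (etPt X) (ULift.{u + 1} A') ⟶ G := (constIso (etPt X) (ULift.{u + 1} A')).inv ≫ a
  let b' : G ⟶ LCs (etPt X) (ULift.{u + 1} A) := b ≫ (constIso (etPt X) (ULift.{u + 1} A)).hom
  have hab' : a' ≫ b' = LCsMap (etPt X) ι := by
    have hn := constIso_natural (etPt X) ι
    show ((constIso (etPt X) (ULift.{u + 1} A')).inv ≫ a) ≫
      (b ≫ (constIso (etPt X) (ULift.{u + 1} A)).hom) = _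
    rw [Category.assoc, ← Category.assoc a, hab, hn, Iso.inv_hom_id_assoc]
  have hst' : Function.Surjective ((EtCoh.stalk ξ).map a') := by
    have : IsIso ((EtCoh.stalk ξ).map a') := by
      show IsIso ((EtCoh.stalk ξ).map ((constIso (etPt X) (ULift.{u + 1} A')).inv ≫ a))
      rw [Functor.map_comp]
      infer_instance
    exact (ConcreteCategory.bijective_of_isIso _).2
  have hiso : IsIso a' := isIso_of_generic ξ hξ ι hι a' b' hab' hst'
  have : a = (constIso (etPt X) (ULift.{u + 1} A')).hom ≫ a' := by
    show a = (constIso (etPt X) (ULift.{u + 1} A')).hom ≫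
      ((constIso (etPt X) (ULift.{u + 1} A')).inv ≫ a)
    rw [Iso.hom_inv_id_assoc]
  rw [this]
  infer_instance

end helpers

/-- Let X be an irreducible scheme, ξ a geometric point over its generic point, A' an additive subgroup
of an abelian group A, and G an abelian sheaf on the small etale site of X with monomorphisms a :
const A' ⟶ G and b : G ⟶ const A whose composite is the map of constant sheaves induced by the
inclusion. If the stalk of a at ξ is an isomorphism, then a is an isomorphism. -/
theorem result {X : Scheme.{u}} [IrreducibleSpace ↥X]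
    {Ω : Type u} [Field Ω] [IsSepClosed Ω] (ξ : Spec (CommRingCat.of Ω) ⟶ X)
    (hξ : ξ.base default = genericPoint ↥X)
    (A : Type) [AddCommGroup A] (A' : AddSubgroup A) (G : EtCoh.Ab X)
    (a : EtCoh.const X ↥A' ⟶ G) (b : G ⟶ EtCoh.const X A) [Mono a] [Mono b]
    (hab : a ≫ b = (constantSheaf X.smallEtaleTopology AddCommGrpCat.{u + 1}).map
      (AddCommGrpCat.ofHom (AddEquiv.ulift.symm.toAddMonoidHom.comp (A'.subtype.comp AddEquiv.ulift.toAddMonoidHom))))
    (hst : IsIso ((EtCoh.stalk ξ).map a)) : IsIso a := by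
  exact main ξ hξ A A' G a b hab hst

end Groth.Agent.S6640
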