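import Groth.Statements.S6641
import Mathlib
import Groth.Agent.S0099
import Groth.Agent.S14451
import Groth.Agent.S0071
import Groth.Agent.S0073
import Groth.Agent.S0101

set_option autoImplicit false
open CategoryTheory CategoryTheory.Limits AlgebraicGeometry Opposite
universe u
open Curves

namespace Groth.Agent.S6641

section helpers

attribute [-instance] Groth.Agent.Helper13.DeltaFColim.forgetPres

/-- the residue field of a field, as a local ring, is the field -/
lemma isSepClosed_residueField (K : Type u) [Field K] [IsAlgClosed K] :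
    IsSepClosed (IsLocalRing.ResidueField K) := by
  have hb : Function.Bijective (IsLocalRing.residue K) := by
    refine ⟨(IsLocalRing.residue K).injective, Ideal.Quotient.mk_surjective⟩
  let e : K ≃+* IsLocalRing.ResidueField K := RingEquiv.ofBijective _ hb
  have : IsAlgClosed (IsLocalRing.ResidueField K) := IsAlgClosed.of_ringEquiv K _ e
  infer_instance

lemma vanish_single (k : Type u) [Field k] [IsAlgClosed k] (X : Scheme.{u})
    (f : X ⟶ Spec (CommRingCat.of k)) [LocallyOfFiniteType f] (x : X) (hx : IsClosed ({x} : Set X))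
    (G : EtCoh.Ab (Spec (X.residueField x))) (q : ℕ) (hq : 1 ≤ q) :
    Subsingleton (EtCoh.H X ((EtCoh.push (X.fromSpecResidueField x)).obj G) q) := by
  have hci : IsClosedImmersion (X.fromSpecResidueField x) :=
    isClosed_singleton_iff_isClosedImmersion.mp hx
  have hpl : PreservesFiniteLimits (EtCoh.pull (X.fromSpecResidueField x)) :=
    Groth.Agent.S0101.result _
  have hbij := Groth.Agent.S14451.result (X.fromSpecResidueField x) G
    (fun p hp => Groth.Agent.S0071.result (X.fromSpecResidueField x) G p hp) q
  let e : (X.residueField x) ≃+* k := (residueFieldIsoBase f x hx).commRingCatIsoToRingEquiv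
  have hac : IsAlgClosed (X.residueField x) := IsAlgClosed.of_ringEquiv k _ e.symm
  have hsc := isSepClosed_residueField (X.residueField x)
  have hh : @HenselianLocalRing ↑(X.residueField x) (X.residueField x).commRing :=
    Field.henselian _
  have hsub : Subsingleton (EtCoh.H (Spec (X.residueField x)) G q) :=
    @Groth.Agent.S0073.result (X.residueField x) (X.residueField x).commRing hh hsc G q hq
  exact hbij.injective.subsingleton

instance {X : Scheme.{u}} (n : ℕ) : (EtCoh.HF X n).Additive := by
  unfold EtCoh.HF
  infer_instance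

lemma isZero_HF_sigma_fin {X : Scheme.{u}} (q : ℕ) {n : ℕ} (g : Fin n → EtCoh.Ab X)
    (h : ∀ j, IsZero ((EtCoh.HF X q).obj (g j))) : IsZero ((EtCoh.HF X q).obj (∐ g)) := by
  have hz : IsZero (⨁ fun j => (EtCoh.HF X q).obj (g j)) := by
    rw [IsZero.iff_id_eq_zero]
    apply biproduct.hom_ext'
    intro j
    exact (h j).eq_of_src _ _
  exact IsZero.of_iso hz
    ((EtCoh.HF X q).mapIso (biproduct.isoCoproduct g).symm ≪≫ (EtCoh.HF X q).mapBiproduct g)

lemma isZero_HF_sigma {X : Scheme.{u}} (q : ℕ) {J : Type u} [Finite J] (g : J → EtCoh.Ab X)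
    (h : ∀ j, IsZero ((EtCoh.HF X q).obj (g j))) : IsZero ((EtCoh.HF X q).obj (∐ g)) := by
  obtain ⟨n, ⟨e⟩⟩ := Finite.exists_equiv_fin J
  have h1 := isZero_HF_sigma_fin q (g ∘ e.symm) (fun j => h _)
  exact IsZero.of_iso h1 ((EtCoh.HF X q).mapIso (Sigma.reindex e.symm g).symm)

open CoproductsFromFiniteFiltered in
theorem main (k : Type u) [Field k] [IsAlgClosed k] (X : Scheme.{u})
    (f : X ⟶ Spec (CommRingCat.of k)) [IsSeparated f] [LocallyOfFiniteType f] [QuasiCompact f]
    (c : Cofan fun x : {x : ↥X // IsClosed ({x} : Set ↥X)} =>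
      (EtCoh.push (X.fromSpecResidueField x.1)).obj (EtCoh.const (Spec (X.residueField x.1)) ℤ))
    (hc : IsColimit c) (q : ℕ) (hq : 1 ≤ q) :
    Subsingleton (EtCoh.H X c.pt q) := by
  have hX1 : CompactSpace X := QuasiCompact.compactSpace_of_compactSpace f
  have hX2 : QuasiSeparatedSpace X := quasiSeparatedSpace_of_quasiSeparated f
  let ι := {x : ↥X // IsClosed ({x} : Set ↥X)}
  let A : ι → EtCoh.Ab X := fun x =>
    (EtCoh.push (X.fromSpecResidueField x.1)).obj (EtCoh.const (Spec (X.residueField x.1)) ℤ)
  have hA : ∀ x : ι, IsZero ((EtCoh.HF X q).obj (A x)) := fun x => by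
    have hs : Subsingleton ((EtCoh.HF X q).obj (A x)) :=
      vanish_single k X f x.1 x.2 (EtCoh.const (Spec (X.residueField x.1)) ℤ) q hq
    exact AddCommGrpCat.isZero_of_subsingleton _
  have hpres := Groth.Agent.S0099.result X q (Finset (Discrete ι))
  have hcol : IsColimit ((EtCoh.HF X q).mapCocone (finiteSubcoproductsCocone A)) :=
    isColimitOfPreserves _ (isColimitFiniteSubproductsCocone A)
  have hsum : Subsingleton ((EtCoh.HF X q).obj (∐ A)) := by
    refine subsingleton_of_forall_eq 0 fun ξ => ?_
    obtain ⟨S, y, hy⟩ := Groth.Agent.Helper13.DeltaFColim.exists_rep _ hcol ξ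
    have hz : IsZero ((EtCoh.HF X q).obj ((liftToFinsetObj (Discrete.functor A)).obj S)) :=
      isZero_HF_sigma q (fun x : S => A x.1.as) (fun x => hA _)
    have : y = 0 := (AddCommGrpCat.subsingleton_of_isZero hz).elim _ _
    rw [← hy, this]
    exact map_zero _
  let e : c.pt ≅ ∐ A := hc.coconePointUniqueUpToIso (coproductIsCoproduct A)
  exact ((EtCoh.HF X q).mapIso e).addCommGroupIsoToAddEquiv.injective.subsingleton

end helpers

/-- Let X be a smooth curve over an algebraically closed field k (here: X integral of dimension one,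
smooth, separated and of finite type over k), and for a closed point x let i_x : Spec κ(x) ⟶ X be
its inclusion. Then H^q of the direct sum, over all closed points x, of the sheaves (i_x)_* Z (given
here as any colimit cofan of that family) vanishes for every q ≥ 1. -/
theorem result (k : Type u) [Field k] [IsAlgClosed k] (X : Scheme.{u})
    (f : X ⟶ Spec (CommRingCat.of k)) [Smooth f] [IsSeparated f] [LocallyOfFiniteType f] [QuasiCompact f] [IsIntegral X]
    (hdim : topologicalKrullDim ↥X = 1)
    (c : Cofan fun x : {x : ↥X // IsClosed ({x} : Set ↥X)} =>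
      (EtCoh.push (X.fromSpecResidueField x.1)).obj (EtCoh.const (Spec (X.residueField x.1)) ℤ))
    (hc : IsColimit c) (q : ℕ) (hq : 1 ≤ q) :
    Subsingleton (EtCoh.H X c.pt q) := by
  exact main k X f c hc q hq

end Groth.Agent.S6641
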