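import Groth.Statements.S6647
import Groth.Agent.Lib.Helper10.LcEt

set_option autoImplicit false
open CategoryTheory CategoryTheory.Limits AlgebraicGeometry Opposite
universe u
open EtCore

namespace Groth.Agent.S6647

section helpers
open Groth.Agent.Helper10.LcSite Groth.Agent.Helper10.LcEt

theorem main {X : Scheme.{u}} (F G : EtCoh.Ab X) (φ : F ⟶ G)
    (hF : EtCoh.IsFiniteLocallyConstant F) (hG : EtRest.IsLocallyConstant G) :
    ∃ (ι : Type u) (U : ι → X.Etale), EtCoh.Covers U ∧ ∀ i, ∃ (M N : Type (u + 1)) (_ : AddCommGroup M) (_ : AddCommGroup N)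
      (h : M →+ N)
      (α : EtCoh.restr F (U i) ≅ (constantSheaf (X.smallEtaleTopology.over (U i)) AddCommGrpCat.{u + 1}).obj (AddCommGrpCat.of M))
      (β : EtCoh.restr G (U i) ≅ (constantSheaf (X.smallEtaleTopology.over (U i)) AddCommGrpCat.{u + 1}).obj (AddCommGrpCat.of N)),
      (X.smallEtaleTopology.overPullback AddCommGrpCat.{u + 1} (U i)).map φ ≫ β.hom = α.hom ≫ (constantSheaf (X.smallEtaleTopology.over (U i)) AddCommGrpCat.{u + 1}).map (AddCommGrpCat.ofHom h) := by
  obtain ⟨ι, U, hU, hFU⟩ := hF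
  obtain ⟨ι', U', hU', hGU⟩ := hG
  choose M iM fM αM using hFU
  choose N iN βN using hGU
  obtain ⟨κ, V, a, b, hV, H⟩ := exists_covers_map_eq_const (A := AddCommGrpCat.{u + 1}) φ U hU
    (fun i => AddCommGrpCat.of (ULift.{u + 1} (M i)))
    (fun i W => by
      have : Finite (M i) := fM i
      have : AddGroup.FG (AddCommGrpCat.of (ULift.{u + 1} (M i))) :=
        inferInstanceAs (AddGroup.FG (ULift.{u + 1} (M i)))
      exact locFactor_addCommGrpCat _ _)
    (fun i => (αM i).some) U' hU' (fun j => AddCommGrpCat.of (N j)) (fun j => (βN j).some)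
  refine ⟨κ, V, hV, fun k => ?_⟩
  obtain ⟨h, α', β', hh⟩ := H k
  exact ⟨ULift.{u + 1} (M (a k)), N (b k), inferInstance, inferInstance, h.hom, α', β', hh⟩

end helpers

/-- Let φ : F ⟶ G be a map of locally constant abelian sheaves on the small etale site of a scheme X,
with F finite locally constant. Then on the members of some etale covering of X the restriction of φ
is, up to isomorphisms with constant sheaves on both sides, the map of constant sheaves induced by a
homomorphism of abelian groups. -/
theorem result {X : Scheme.{u}} (F G : EtCoh.Ab X) (φ : F ⟶ G)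
    (hF : EtCoh.IsFiniteLocallyConstant F) (hG : EtRest.IsLocallyConstant G) :
    ∃ (ι : Type u) (U : ι → X.Etale), EtCoh.Covers U ∧ ∀ i, ∃ (M N : Type (u + 1)) (_ : AddCommGroup M) (_ : AddCommGroup N)
      (h : M →+ N)
      (α : EtCoh.restr F (U i) ≅ (constantSheaf (X.smallEtaleTopology.over (U i)) AddCommGrpCat.{u + 1}).obj (AddCommGrpCat.of M))
      (β : EtCoh.restr G (U i) ≅ (constantSheaf (X.smallEtaleTopology.over (U i)) AddCommGrpCat.{u + 1}).obj (AddCommGrpCat.of N)),
      (X.smallEtaleTopology.overPullback AddCommGrpCat.{u + 1} (U i)).map φ ≫ β.hom = α.hom ≫ (constantSheaf (X.smallEtaleTopology.over (U i)) AddCommGrpCat.{u + 1}).map (AddCommGrpCat.ofHom h) := by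
  exact main F G φ hF hG

end Groth.Agent.S6647
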