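import Groth.Statements.S6654
import Groth.Agent.Lib.Helper10.LcGeneric

set_option autoImplicit false
open CategoryTheory CategoryTheory.Limits AlgebraicGeometry Opposite
universe u
open EtModW

namespace Groth.Agent.S6654

section helpers

open Groth.Agent.Helper1.LC Groth.Agent.Helper10.LcGeneric

variable (Λ : Type (u + 1)) [CommRing Λ] {X : Scheme.{u}}

/-- forgetting the module structure -/
noncomputable abbrev FF : ModuleCat.{u + 1} Λ ⥤ AddCommGrpCat.{u + 1} :=
  forget₂ (ModuleCat.{u + 1} Λ) AddCommGrpCat.{u + 1}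

theorem presShf (X : Scheme.{u}) : X.smallEtaleTopology.PreservesSheafification (FF Λ) :=
  GrothendieckTopology.instPreservesSheafification _ _

/-- forgetting the module structure on sheaves -/
noncomputable abbrev Phi (X : Scheme.{u}) : EtModW.Mod Λ X ⥤ EtCoh.Ab X :=
  sheafCompose X.smallEtaleTopology (FF Λ)

theorem pfc : PreservesFilteredColimitsOfSize.{u, u} (FF Λ) := by
  have : PreservesColimitsOfSize.{u, u} (FF Λ) :=
    ModuleCat.forget₂PreservesColimitsOfSize.{u + 1, u + 1, u, u} Λ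
  infer_instance

lemma mono_Phi_map {G H : EtModW.Mod Λ X} (c : G ⟶ H) [Mono c] : Mono ((Phi Λ X).map c) := by
  have h1 : Mono c.hom := (Sheaf.Hom.mono_iff_presheaf_mono _ _ c).1 inferInstance
  have h2 : ∀ U, Mono (c.hom.app U) := (NatTrans.mono_iff_mono_app c.hom).1 h1
  have h3 : ∀ U, Mono (((Phi Λ X).map c).hom.app U) := by
    intro U
    show Mono ((FF Λ).map (c.hom.app U))
    infer_instance
  have h4 : Mono ((Phi Λ X).map c).hom := NatTrans.mono_of_mono_app _
  exact (Sheaf.Hom.mono_iff_presheaf_mono _ _ _).2 h4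

theorem main (Λ : Type (u + 1)) [CommRing Λ] {X : Scheme.{u}} [IrreducibleSpace ↥X]
    {Ω : Type u} [Field Ω] [IsSepClosed Ω] (ξ : Spec (CommRingCat.of Ω) ⟶ X)
    (hξ : ξ.base default = genericPoint ↥X)
    (M : Type (u + 1)) [AddCommGroup M] [Module Λ M] (M' : Submodule Λ M) (G : EtModW.Mod Λ X)
    (a : EtModW.constMod Λ X ↥M' ⟶ G) (b : G ⟶ EtModW.constMod Λ X M) [Mono a] [Mono b]
    (hab : a ≫ b = (constantSheaf X.smallEtaleTopology (ModuleCat.{u + 1} Λ)).map (ModuleCat.ofHom M'.subtype))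
    (hst : IsIso ((EtModW.stalk Λ ξ).map a)) : IsIso a := by
  have := presShf Λ X
  let ι : M' →+ M := M'.subtype.toAddMonoidHom
  have hι : Function.Injective ι := M'.subtype_injective
  let e := constantCommuteCompose X.smallEtaleTopology (FF Λ)
  let e' : (Phi Λ X).obj (EtModW.constMod Λ X M') ≅
      (constantSheaf X.smallEtaleTopology AddCommGrpCat.{u + 1}).obj (AddCommGrpCat.of M') :=
    e.app (ModuleCat.of Λ M')
  let e₀ : (Phi Λ X).obj (EtModW.constMod Λ X M) ≅
      (constantSheaf X.smallEtaleTopology AddCommGrpCat.{u + 1}).obj (AddCommGrpCat.of M) :=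
    e.app (ModuleCat.of Λ M)
  have hnat : (Phi Λ X).map ((constantSheaf X.smallEtaleTopology (ModuleCat.{u + 1} Λ)).map
        (ModuleCat.ofHom M'.subtype)) ≫ e₀.hom =
      e'.hom ≫ (constantSheaf X.smallEtaleTopology AddCommGrpCat.{u + 1}).map
        (AddCommGrpCat.ofHom ι) :=
    e.hom.naturality (ModuleCat.ofHom M'.subtype)
  let a' : LCs (etPt X) M' ⟶ (Phi Λ X).obj G :=
    (constIso (etPt X) M').inv ≫ e'.inv ≫ (Phi Λ X).map a
  let b' : (Phi Λ X).obj G ⟶ LCs (etPt X) M :=
    (Phi Λ X).map b ≫ e₀.hom ≫ (constIso (etPt X) M).hom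
  have : Mono ((Phi Λ X).map a) := mono_Phi_map Λ a
  have : Mono ((Phi Λ X).map b) := mono_Phi_map Λ b
  have : Mono a' := by
    show Mono ((constIso (etPt X) M').inv ≫ e'.inv ≫ (Phi Λ X).map a)
    infer_instance
  have : Mono b' := by
    show Mono ((Phi Λ X).map b ≫ e₀.hom ≫ (constIso (etPt X) M).hom)
    infer_instance
  have hab' : a' ≫ b' = LCsMap (etPt X) ι := by
    have hn := constIso_natural (etPt X) ι
    show ((constIso (etPt X) M').inv ≫ e'.inv ≫ (Phi Λ X).map a) ≫
      ((Phi Λ X).map b ≫ e₀.hom ≫ (constIso (etPt X) M).hom) = _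
    have h1 : (Phi Λ X).map a ≫ (Phi Λ X).map b ≫ e₀.hom =
        e'.hom ≫ (constantSheaf X.smallEtaleTopology AddCommGrpCat.{u + 1}).map
        (AddCommGrpCat.ofHom ι) := by
      rw [← Category.assoc, ← Functor.map_comp, hab]
      exact hnat
    have h1' : (Phi Λ X).map a ≫ (Phi Λ X).map b ≫ e₀.hom ≫ (constIso (etPt X) M).hom =
        e'.hom ≫ (constantSheaf X.smallEtaleTopology AddCommGrpCat.{u + 1}).map
        (AddCommGrpCat.ofHom ι) ≫ (constIso (etPt X) M).hom := by
      have := congrArg (· ≫ (constIso (etPt X) M).hom) h1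
      simpa only [Category.assoc] using this
    simp only [Category.assoc]
    rw [h1', hn, Iso.inv_hom_id_assoc, Iso.inv_hom_id_assoc]
  have hstA : IsIso ((EtCoh.stalk ξ).map ((Phi Λ X).map a)) := by
    have := pfc Λ
    let σ : Phi Λ X ⋙ EtCoh.stalk ξ ≅ EtModW.stalk Λ ξ ⋙ FF Λ :=
      (Scheme.pointSmallEtale ξ).sheafFiberCompIso (FF Λ)
    have h0 : IsIso ((EtModW.stalk Λ ξ ⋙ FF Λ).map a) := by
      show IsIso ((FF Λ).map ((EtModW.stalk Λ ξ).map a))
      infer_instance
    exact (NatIso.isIso_map_iff σ a).2 h0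
  have hst' : Function.Surjective ((EtCoh.stalk ξ).map a') := by
    have : IsIso ((EtCoh.stalk ξ).map a') := by
      show IsIso ((EtCoh.stalk ξ).map ((constIso (etPt X) M').inv ≫ e'.inv ≫ (Phi Λ X).map a))
      rw [Functor.map_comp, Functor.map_comp]
      infer_instance
    exact (ConcreteCategory.bijective_of_isIso _).2
  have hiso : IsIso a' := isIso_of_generic ξ hξ ι hι a' b' hab' hst'
  have h5 : (Phi Λ X).map a = e'.hom ≫ (constIso (etPt X) M').hom ≫ a' := by
    show (Phi Λ X).map a = e'.hom ≫ (constIso (etPt X) M').hom ≫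
      ((constIso (etPt X) M').inv ≫ e'.inv ≫ (Phi Λ X).map a)
    rw [Iso.hom_inv_id_assoc, Iso.hom_inv_id_assoc]
  have h6 : IsIso ((Phi Λ X).map a) := by
    rw [h5]
    infer_instance
  exact isIso_of_reflects_iso a (Phi Λ X)

end helpers

/-- Let X be an irreducible scheme, ξ a geometric point over its generic point, Λ a commutative ring, M'
a submodule of a Λ-module M, and G a sheaf of Λ-modules on the small etale site of X with
monomorphisms a : const M' ⟶ G and b : G ⟶ const M whose composite is the map of constant sheaves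
induced by the inclusion. If the stalk of a at ξ is an isomorphism, then a is an isomorphism. -/
theorem result (Λ : Type (u + 1)) [CommRing Λ] {X : Scheme.{u}} [IrreducibleSpace ↥X]
    {Ω : Type u} [Field Ω] [IsSepClosed Ω] (ξ : Spec (CommRingCat.of Ω) ⟶ X)
    (hξ : ξ.base default = genericPoint ↥X)
    (M : Type (u + 1)) [AddCommGroup M] [Module Λ M] (M' : Submodule Λ M) (G : EtModW.Mod Λ X)
    (a : EtModW.constMod Λ X ↥M' ⟶ G) (b : G ⟶ EtModW.constMod Λ X M) [Mono a] [Mono b]
    (hab : a ≫ b = (constantSheaf X.smallEtaleTopology (ModuleCat.{u + 1} Λ)).map (ModuleCat.ofHom M'.subtype))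
    (hst : IsIso ((EtModW.stalk Λ ξ).map a)) : IsIso a := by
  exact main Λ ξ hξ M M' G a b hab hst

end Groth.Agent.S6654
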