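import Groth.Statements.S6656
import Mathlib
import Groth.Agent.Lib.Helper10.EtLoc

set_option autoImplicit false
open CategoryTheory CategoryTheory.Limits AlgebraicGeometry Opposite
universe u
open EtCore

namespace Groth.Agent.S6656

section helpers

open Groth.Agent.Helper10

/-- finite intersections of covering sieves -/
lemma iInf_mem {C : Type*} [Category C] (J : GrothendieckTopology C) {W : C} {α : Type*} [Finite α]
    (S : α → Sieve W) (h : ∀ a, S a ∈ J W) : (⨅ a, S a) ∈ J W := by
  classical
  haveI := Fintype.ofFinite α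
  have key : ∀ s : Finset α, (s.inf S) ∈ J W := by
    intro s
    induction s using Finset.induction_on with
    | empty => simpa using J.top_mem W
    | insert a s ha ih =>
      rw [Finset.inf_insert]
      exact J.intersection_covering (h a) ih
  have h2 := key Finset.univ
  rwa [Finset.inf_univ_eq_iInf] at h2

section cofan

variable {ι : Type (u+1)} [Finite ι] {g : ι → Scheme.{u}} {W : Scheme.{u}} (inj : ∀ i, g i ⟶ W)
  (hW : IsColimit (Cofan.mk W inj))

include hW

lemma cofan_fac :
    ∃ e : W ≅ ∐ g, ∀ i, inj i ≫ e.hom = Sigma.ι g i :=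
  ⟨hW.coconePointUniqueUpToIso (colimit.isColimit (Discrete.functor g)),
    fun i => hW.comp_coconePointUniqueUpToIso_hom (colimit.isColimit (Discrete.functor g)) ⟨i⟩⟩

lemma cofan_surj (w : W) : ∃ (i : ι) (y : g i), (inj i) y = w := by
  obtain ⟨e, he⟩ := cofan_fac inj hW
  obtain ⟨i, y, hy⟩ := (sigmaOpenCover g).exists_eq (e.hom w)
  refine ⟨i, y, ?_⟩
  have h2 : inj i = Sigma.ι g i ≫ e.inv := by
    rw [← he, Category.assoc, e.hom_inv_id, Category.comp_id]
  have hy' : (Sigma.ι g i) y = e.hom w := hy
  rw [h2, Scheme.Hom.comp_apply, hy', ← Scheme.Hom.comp_apply, e.hom_inv_id]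
  rfl

lemma cofan_mono (i : ι) : Mono (inj i) := by
  obtain ⟨e, he⟩ := cofan_fac inj hW
  haveI : Mono (inj i ≫ e.hom) := by
    rw [he]
    infer_instance
  exact mono_of_mono (inj i) e.hom

lemma cofan_disj {i j : ι} (hij : i ≠ j) {Z : Scheme.{u}} (a : Z ⟶ g i) (b : Z ⟶ g j)
    (h : a ≫ inj i = b ≫ inj j) : IsEmpty Z := by
  obtain ⟨e, he⟩ := cofan_fac inj hW
  refine isEmpty_of_commSq_sigmaι_of_ne (g := g) (a := a) (b := b) ⟨?_⟩ hij
  rw [← he, ← he, ← Category.assoc, ← Category.assoc, h]

end cofan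

variable {X : Scheme.{u}}

/-- sections over an empty étale scheme -/
lemma subsingleton_of_isEmpty (F : EtCoh.Ab X) (Z : X.Etale) [IsEmpty Z.left] :
    Subsingleton (F.obj.obj (op Z)) := by
  have hcov : (⊥ : Sieve Z) ∈ X.smallEtaleTopology Z :=
    (EtLoc.mem_iff Z ⊥).2 (fun x => isEmptyElim x)
  have hsh : Presieve.IsSheaf X.smallEtaleTopology (F.obj ⋙ forget _) :=
    (isSheaf_iff_isSheaf_of_type _ _).1
      ((Presheaf.isSheaf_iff_isSheaf_forget _ F.obj (forget _)).1 F.property)
  have h1 := (hsh (⊥ : Sieve Z) hcov).isSeparatedFor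
  refine ⟨fun s t => ?_⟩
  exact h1.ext (fun Y f hf => hf.elim)

lemma glue_disjoint (F : EtCoh.Ab X) {A : Type*} {T : X.Etale} (Ti : A → X.Etale)
    (m : ∀ i, Ti i ⟶ T)
    (hcov : Sieve.generate (Presieve.ofArrows Ti m) ∈ X.smallEtaleTopology T)
    (hmono : ∀ i, Mono (m i))
    (hdisj : ∀ i j, i ≠ j → ∀ (Z : X.Etale) (a : Z ⟶ Ti i) (b : Z ⟶ Ti j),
      a ≫ m i = b ≫ m j → IsEmpty Z.left) :
    (∀ s t : F.obj.obj (op T), (∀ i, F.obj.map (m i).op s = F.obj.map (m i).op t) → s = t) ∧
    (∀ y : ∀ i, F.obj.obj (op (Ti i)), ∃ s : F.obj.obj (op T),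
      ∀ i, F.obj.map (m i).op s = y i) := by
  have hsh : Presieve.IsSheaf X.smallEtaleTopology (F.obj ⋙ forget _) :=
    (isSheaf_iff_isSheaf_of_type _ _).1
      ((Presheaf.isSheaf_iff_isSheaf_forget _ F.obj (forget _)).1 F.property)
  have h1 : Presieve.IsSheafFor (F.obj ⋙ forget _) (Presieve.ofArrows Ti m) :=
    hsh.isSheafFor _ hcov
  constructor
  · intro s t hst
    refine h1.isSeparatedFor.ext ?_
    rintro Y f ⟨i⟩
    exact hst i
  · intro y
    rw [Presieve.isSheafFor_arrows_iff] at h1
    have hc : Presieve.Arrows.Compatible (F.obj ⋙ forget _) m y := by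
      intro i j Z gi gj hij
      by_cases h : i = j
      · subst h
        have := (hmono i).right_cancellation _ _ hij
        rw [this]
      · have := hdisj i j h Z gi gj hij
        have := subsingleton_of_isEmpty F Z
        exact Subsingleton.elim (α := F.obj.obj (op Z)) _ _
    obtain ⟨s, hs, -⟩ := h1 y hc
    exact ⟨s, hs⟩


section main

variable (F : EtCoh.Ab X) (U : X.Etale) [HasFiniteProducts (Over U)] {ι : Type (u + 1)} [Finite ι]
  (Uf : ι → Over U) (V : Over U) (incl : ∀ i, Uf i ⟶ V)
  (hV : IsColimit (Cofan.mk V.left.left fun i => (incl i).left.left))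

include hV in
lemma mono_incl (j : ι) : Mono (incl j) := by
  have := cofan_mono _ hV j
  constructor
  intro Z a b hab
  apply Over.OverMorphism.ext
  apply MorphismProperty.Over.Hom.ext
  rw [← cancel_mono (incl j).left.left]
  have := congrArg (fun k => k.left.left) hab
  exact this

variable (α : Type) [Finite α]

/-- the product of copies of `V` -/
noncomputable abbrev Tn : Over U := ∏ᶜ (fun _ : α => V)

/-- the product of the `Uf (i a)` -/
noncomputable abbrev Ti (i : α → ι) : Over U := ∏ᶜ (fun a => Uf (i a))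

noncomputable abbrev mi (i : α → ι) : Ti U Uf α i ⟶ Tn U V α := Limits.Pi.map (fun a => incl (i a))

include hV in
lemma mono_mi (i : α → ι) : Mono (mi U Uf V incl α i).left := by
  have : ∀ j, Mono (incl j) := mono_incl U Uf V incl hV
  infer_instance

include hV in
lemma cover_mi :
    Sieve.generate (Presieve.ofArrows (fun i : α → ι => (Ti U Uf α i).left)
      (fun i => (mi U Uf V incl α i).left)) ∈ X.smallEtaleTopology (Tn U V α).left := by
  let SV : Sieve V.left := Sieve.generate (Presieve.ofArrows (fun i => (Uf i).left)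
    (fun i => (incl i).left))
  have hSV : SV ∈ X.smallEtaleTopology V.left := by
    rw [EtLoc.mem_iff]
    intro v
    obtain ⟨i, y, hy⟩ := cofan_surj _ hV v
    exact ⟨(Uf i).left, (incl i).left, y, ⟨_, 𝟙 _, _, ⟨i⟩, Category.id_comp _⟩, hy⟩
  let S : α → Sieve (Tn U V α).left := fun a => SV.pullback (Pi.π (fun _ : α => V) a).left
  have hS : ∀ a, S a ∈ X.smallEtaleTopology (Tn U V α).left :=
    fun a => X.smallEtaleTopology.pullback_stable _ hSV
  refine X.smallEtaleTopology.superset_covering ?_ (iInf_mem _ S hS)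
  intro Z g hg
  have hg' : ∀ a, S a g := by
    intro a
    have h1 : (⨅ a, S a) ≤ S a := iInf_le S a
    exact h1 _ hg
  have hex : ∀ a, ∃ (i : ι) (h : Z ⟶ (Uf i).left),
      h ≫ (incl i).left = g ≫ (Pi.π (fun _ : α => V) a).left := by
    intro a
    obtain ⟨Z', p, q, hq, hpq⟩ := hg' a
    cases hq with
    | mk i => exact ⟨i, p, hpq⟩
  choose i h hh using hex
  let Zo : Over U := Over.mk (g ≫ (Tn U V α).hom)
  let ha : ∀ a, Zo ⟶ Uf (i a) := fun a => Over.homMk (h a) (by
    have e1 : (Uf (i a)).hom = (incl (i a)).left ≫ V.hom := (Over.w (incl (i a))).symm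
    have e2 : (Pi.π (fun _ : α => V) a).left ≫ V.hom = (Tn U V α).hom :=
      Over.w (Pi.π (fun _ : α => V) a)
    show h a ≫ (Uf (i a)).hom = g ≫ (Tn U V α).hom
    rw [e1, ← Category.assoc, hh a, Category.assoc, e2])
  let lift : Zo ⟶ Ti U Uf α i := Pi.lift ha
  let gO : Zo ⟶ Tn U V α := Over.homMk g rfl
  have key : lift ≫ mi U Uf V incl α i = gO := by
    apply Pi.hom_ext
    intro a
    rw [Category.assoc, Limits.Pi.map_π, ← Category.assoc, Pi.lift_π]
    apply Over.OverMorphism.ext
    exact hh a
  refine ⟨(Ti U Uf α i).left, lift.left, (mi U Uf V incl α i).left, ⟨i⟩, ?_⟩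
  exact congrArg (fun k => k.left) key

include hV in
lemma disj_mi (i i' : α → ι) (hne : i ≠ i') (Z : X.Etale) (a : Z ⟶ (Ti U Uf α i).left)
    (b : Z ⟶ (Ti U Uf α i').left)
    (hab : a ≫ (mi U Uf V incl α i).left = b ≫ (mi U Uf V incl α i').left) : IsEmpty Z.left := by
  obtain ⟨c, hc⟩ := Function.ne_iff.1 hne
  have e1 : (mi U Uf V incl α i).left ≫ (Pi.π (fun _ : α => V) c).left =
      (Pi.π (fun a => Uf (i a)) c).left ≫ (incl (i c)).left := by
    rw [← Over.comp_left, ← Over.comp_left, Limits.Pi.map_π]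
  have e2 : (mi U Uf V incl α i').left ≫ (Pi.π (fun _ : α => V) c).left =
      (Pi.π (fun a => Uf (i' a)) c).left ≫ (incl (i' c)).left := by
    rw [← Over.comp_left, ← Over.comp_left, Limits.Pi.map_π]
  have e3 : (a ≫ (Pi.π (fun a => Uf (i a)) c).left) ≫ (incl (i c)).left =
      (b ≫ (Pi.π (fun a => Uf (i' a)) c).left) ≫ (incl (i' c)).left := by
    rw [Category.assoc, ← e1, ← Category.assoc, hab, Category.assoc, e2, Category.assoc]
  exact cofan_disj _ hV hc (a ≫ (Pi.π (fun a => Uf (i a)) c).left).left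
    (b ≫ (Pi.π (fun a => Uf (i' a)) c).left).left (congrArg (fun k => k.left) e3)

end main

section assembly

variable (F : EtCoh.Ab X) (U : X.Etale) [HasFiniteProducts (Over U)] {ι : Type (u + 1)} [Finite ι]
  (Uf : ι → Over U) (V : Over U) (incl : ∀ i, Uf i ⟶ V)
  (hV : IsColimit (Cofan.mk V.left.left fun i => (incl i).left.left))

/-- the presheaf on `Over U` -/
noncomputable abbrev PP : (Over U)ᵒᵖ ⥤ AddCommGrpCat.{u + 1} := (Over.forget U).op ⋙ F.obj

variable (α : Type) [Finite α]

/-- the comparison map `F(Vⁿ) ⟶ ∏ F(U_{i₀…iₙ})` -/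
noncomputable abbrev psi : (PP F U).obj (op (Tn U V α)) ⟶
    ∏ᶜ (fun i : α → ι => (PP F U).obj (op (Ti U Uf α i))) :=
  Pi.lift (fun i => (PP F U).map (mi U Uf V incl α i).op)

lemma psi_π_apply (i : α → ι) (s : (PP F U).obj (op (Tn U V α))) :
    Pi.π (fun i : α → ι => (PP F U).obj (op (Ti U Uf α i))) i (psi F U Uf V incl α s) =
      F.obj.map (mi U Uf V incl α i).left.op s := by
  have := ConcreteCategory.congr_hom
    (Pi.lift_π (fun i => (PP F U).map (mi U Uf V incl α i).op) i) s
  rw [ConcreteCategory.comp_apply] at this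
  exact this

include hV in
lemma isIso_psi : IsIso (psi F U Uf V incl α) := by
  obtain ⟨hinj, hsurj⟩ := glue_disjoint F (fun i : α → ι => (Ti U Uf α i).left)
    (fun i => (mi U Uf V incl α i).left) (cover_mi U Uf V incl hV α)
    (mono_mi U Uf V incl hV α) (disj_mi U Uf V incl hV α)
  rw [ConcreteCategory.isIso_iff_bijective]
  constructor
  · intro s t hst
    apply hinj
    intro i
    rw [← psi_π_apply, ← psi_π_apply, hst]
  · intro y
    obtain ⟨s, hs⟩ := hsurj (fun i => Pi.π (fun i : α → ι => (PP F U).obj (op (Ti U Uf α i))) i y)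
    refine ⟨s, ?_⟩
    apply (Concrete.productEquiv (fun i : α → ι => (PP F U).obj (op (Ti U Uf α i)))).injective
    funext i
    rw [Concrete.productEquiv_apply_apply, Concrete.productEquiv_apply_apply, psi_π_apply]
    exact hs i

/-- the morphism of formal coproducts -/
noncomputable abbrev phi : FormalCoproduct.mk ι Uf ⟶ FormalCoproduct.mk PUnit.{u + 2} (fun _ => V) :=
  ⟨fun _ => PUnit.unit, incl⟩

set_option backward.isDefEq.respectTransparency false in
include hV in
lemma isIso_evalMap :
    IsIso (((FormalCoproduct.evalOp (Over U) AddCommGrpCat.{u + 1}).obj (PP F U)).map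
      (FormalCoproduct.powerMap (phi U Uf V incl) α).op) := by
  let G : (α → PUnit.{u + 2}) → AddCommGrpCat.{u + 1} := fun k =>
    (PP F U).obj (op (∏ᶜ ((fun _ : PUnit.{u + 2} => V) ∘ k)))
  let ψ' : G default ⟶ ∏ᶜ (fun i : α → ι => (PP F U).obj (op (Ti U Uf α i))) :=
    psi F U Uf V incl α
  have h1 : IsIso ψ' := isIso_psi F U Uf V incl hV α
  have key : IsIso ((productUniqueIso G).hom ≫ ψ') := inferInstance
  have e : ((FormalCoproduct.evalOp (Over U) AddCommGrpCat.{u + 1}).obj (PP F U)).map
      (FormalCoproduct.powerMap (phi U Uf V incl) α).op =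
      (productUniqueIso G).hom ≫ ψ' := by
    refine Pi.hom_ext _ _ (fun i => ?_)
    rw [Category.assoc]
    erw [Pi.lift_π, Pi.lift_π]
    rfl
  rw [e]
  exact key

include hV in
theorem main : Nonempty (EtCech.cechComplex Uf F.obj ≅
    EtCech.cechComplex (fun _ : PUnit.{u + 2} => V) F.obj) := by
  let τ := FormalCoproduct.cechFunctor.map (phi U Uf V incl)
  let Θ : EtCech.cechComplex (fun _ : PUnit.{u + 2} => V) F.obj ⟶ EtCech.cechComplex Uf F.obj :=
    (AlgebraicTopology.alternatingCofaceMapComplex _).map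
      (Functor.whiskerRight (NatTrans.rightOp τ)
        ((FormalCoproduct.evalOp (Over U) AddCommGrpCat.{u + 1}).obj (PP F U)))
  have hΘ : IsIso Θ := by
    have : ∀ n : ℕ, IsIso (Θ.f n) := by
      intro n
      exact isIso_evalMap F U Uf V incl hV _
    exact HomologicalComplex.Hom.isIso_of_components Θ
  exact ⟨(@asIso _ _ _ _ Θ hΘ).symm⟩

end assembly

end helpers

/-- Let F be an abelian sheaf on the small etale site of a scheme X, U an etale X-scheme, {U_i ⟶ U} a
finite family of etale X-schemes over U, and V ⟶ U an etale X-scheme over U with U-morphisms U_i ⟶ V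
making the underlying scheme of V the coproduct (disjoint union) of the U_i. Then the Čech complex
of F for the family {U_i ⟶ U} and the Čech complex of F for the single morphism {V ⟶ U} are
isomorphic cochain complexes (existence of an isomorphism; fibre products over U in the small etale
site are carried as the finite-products binder of the Čech complex). (The published statement is for
a standard covering, whose members are affine; this row allows any finite family with V their
disjoint union, which the same argument covers.) -/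
theorem result {X : Scheme.{u}} (F : EtCoh.Ab X) (U : X.Etale)
    [HasFiniteProducts (Over U)] {ι : Type (u + 1)} [Finite ι] (Uf : ι → Over U)
    (V : Over U) (incl : ∀ i, Uf i ⟶ V)
    (hV : IsColimit (Cofan.mk V.left.left fun i => (incl i).left.left)) :
    Nonempty (EtCech.cechComplex Uf F.obj ≅ EtCech.cechComplex (fun _ : PUnit.{u + 2} => V) F.obj) := by
  exact main F U Uf V incl hV

end Groth.Agent.S6656
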