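import Mathlib
import Groth.Statements.S6666
import Groth.Agent.Lib.Helper19.FieldPt4

set_option autoImplicit false
universe u
open CategoryTheory AlgebraicGeometry
open Lim

namespace Groth.Agent.S6666

/-- Let T be a nonempty quasi-compact quasi-separated scheme and P a property of schemes over T (applied
to quasi-compact quasi-separated ones). Assume: (1) for every thickening T'' → T' (a surjective
closed immersion) of quasi-compact quasi-separated schemes over T, P(T'') if and only if P(T'); (2)
if a scheme T' over T is a limit (in schemes over T) of a cofiltered system of quasi-compact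
quasi-separated schemes over T with affine transition morphisms and P holds for every member, then
P(T'); (3) if T' is quasi-compact quasi-separated over T with P(T') and Z ⊂ T' is a closed subscheme
whose open complement V is quasi-compact, then P(V) or P(Z). Then P(T) implies P(Spec K → T) for
some field K and some morphism Spec K → T. (The published statement does not require T nonempty; for
T empty and P identically true there is no morphism from the spectrum of a field to T, so
nonemptiness is assumed here.) -/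
theorem result (T : Scheme.{u}) [CompactSpace T] [QuasiSeparatedSpace T]
    [Nonempty T] (P : ∀ ⦃T' : Scheme.{u}⦄, (T' ⟶ T) → Prop)
    (h1 : ∀ ⦃T' T'' : Scheme.{u}⦄ (a : T' ⟶ T) (t : T'' ⟶ T') [IsClosedImmersion t] [Surjective t]
      [CompactSpace T'] [QuasiSeparatedSpace T'] [CompactSpace T''] [QuasiSeparatedSpace T''], P (t ≫ a) ↔ P a)
    (h2 : ∀ ⦃I : Type u⦄ [SmallCategory I] [IsCofiltered I] (D : I ⥤ Over T) (c : Limits.Cone D) (_ : Limits.IsLimit c),
      (∀ (i j : I) (m : i ⟶ j), IsAffineHom (D.map m).left) →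
      (∀ i, CompactSpace (D.obj i).left ∧ QuasiSeparatedSpace (D.obj i).left) →
      (∀ i, P (D.obj i).hom) → P c.pt.hom)
    (h3 : ∀ ⦃T' Z V : Scheme.{u}⦄ (a : T' ⟶ T) [CompactSpace T'] [QuasiSeparatedSpace T'] (i : Z ⟶ T') [IsClosedImmersion i]
      (j : V ⟶ T') [IsOpenImmersion j] [CompactSpace V], Set.range j = (Set.range i)ᶜ → P a → P (j ≫ a) ∨ P (i ≫ a))
    (hT : P (𝟙 T)) :
    ∃ (K : Type u) (_ : Field K) (t : Spec (CommRingCat.of K) ⟶ T), P t := by
  classical
  obtain ⟨s, hs⟩ : ∃ s : Finset T.Opens, (∀ U ∈ s, IsAffineOpen U) ∧ ∀ x : T, ∃ U ∈ s, x ∈ U := by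
    have hcov : (⨆ U : T.affineOpens, (U : T.Opens)) = ⊤ := iSup_affineOpens_eq_top T
    obtain ⟨t, ht⟩ := isCompact_univ.elim_finite_subcover (fun U : T.affineOpens => ((U : T.Opens) : Set T))
      (fun U => U.1.isOpen) (by
        intro x _
        have : x ∈ (⨆ U : T.affineOpens, (U : T.Opens)) := hcov ▸ trivial
        obtain ⟨U, hU⟩ := TopologicalSpace.Opens.mem_iSup.mp this
        exact Set.mem_iUnion.mpr ⟨U, hU⟩)
    refine ⟨t.image (fun U : T.affineOpens => (U : T.Opens)), ?_, ?_⟩
    · intro U hU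
      obtain ⟨V, _, rfl⟩ := Finset.mem_image.mp hU
      exact V.2
    · intro x
      obtain ⟨U, hU⟩ := Set.mem_iUnion.mp (ht (Set.mem_univ x))
      obtain ⟨hUt, hxU⟩ := Set.mem_iUnion.mp hU
      exact ⟨U, Finset.mem_image.mpr ⟨U, hUt, rfl⟩, hxU⟩
  obtain ⟨V, hV, hVne, b, hb⟩ := Groth.Agent.Helper19.FieldPt.exists_affine P h3 s.card T (𝟙 T) hT
    ⟨s, le_rfl, hs.1, hs.2⟩
  haveI := hV
  haveI := hVne
  haveI : Nontrivial Γ(V, ⊤) := by
    obtain ⟨v⟩ := hVne
    haveI : Nonempty (Spec Γ(V, ⊤)) := ⟨V.isoSpec.hom v⟩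
    exact (PrimeSpectrum.nonempty_iff_nontrivial).mp (inferInstance : Nonempty (Spec Γ(V, ⊤)))
  have hb' : P (V.isoSpec.inv ≫ b) := (h1 b V.isoSpec.inv).mpr hb
  exact Groth.Agent.Helper19.FieldPt.affine_case P h1 h2 h3 (R := Γ(V, ⊤)) (V.isoSpec.inv ≫ b) hb'

end Groth.Agent.S6666
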