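import Groth.Statements.S6668
import Groth.Agent.Lib.Helper10.BcQEt
import Groth.Agent.Lib.Helper10.LocCohLoc
import Groth.Agent.Lib.Helper29.EdgeE

set_option autoImplicit false
universe u
open CategoryTheory CategoryTheory.Limits AlgebraicGeometry Opposite
open EtBC

namespace Groth.Agent.S6668

section helpers

open Groth.Agent.Helper10 Groth.Agent.Helper10.BCSh Groth.Agent.Helper29

lemma isZero_sections' {Y : Scheme.{u}} (G : EtCoh.Ab Y) (h : IsZero G) (W : Y.Etale) :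
    IsZero (G.obj.obj (op W)) := by
  rw [IsZero.iff_id_eq_zero]
  have h0 : 𝟙 G = 0 := h.eq_of_src _ _
  have := congrArg (fun φ => φ.hom.app (op W)) h0
  exact this

/-- inverse image along the members of an étale covering is jointly conservative -/
lemma isIso_of_isIso_pull_cover {X : Scheme.{u}} {ι : Type u} (U : ι → X.Etale)
    (hU : EtCoh.Covers U) {A B : EtCoh.Ab X} (β : A ⟶ B)
    (h : ∀ i, IsIso ((EtCoh.pull (U i).hom).map β)) : IsIso β := by
  have hr : ∀ i, IsIso ((EtLoc.res (U i).hom).map β) := fun i =>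
    (NatIso.isIso_map_iff (EtLoc.pullIsoRes (U i).hom) β).1 (h i)
  have hk : IsZero (kernel β) := by
    apply LocCohLoc.isZero_of_cover U hU
    intro i W'
    have hz : IsZero ((EtLoc.res (U i).hom).obj (kernel β)) := by
      haveI := hr i
      exact (isZero_kernel_of_mono ((EtLoc.res (U i).hom).map β)).of_iso
        (PreservesKernel.iso (EtLoc.res (U i).hom) β)
    exact isZero_sections' _ hz W'
  have hc : IsZero (cokernel β) := by
    apply LocCohLoc.isZero_of_cover U hU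
    intro i W'
    have hz : IsZero ((EtLoc.res (U i).hom).obj (cokernel β)) := by
      haveI := hr i
      exact (isZero_cokernel_of_epi ((EtLoc.res (U i).hom).map β)).of_iso
        (PreservesCokernel.iso (EtLoc.res (U i).hom) β)
    exact isZero_sections' _ hz W'
  haveI := Preadditive.mono_of_isZero_kernel β hk
  haveI := Preadditive.epi_of_isZero_cokernel β hc
  exact isIso_of_mono_of_epi β

lemma isIso_bcQ_congr {X S Y T : Scheme.{u}} {f f' : X ⟶ S} (hf : f = f') {e e' : Y ⟶ T}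
    (he : e = e') (g : T ⟶ S) (h : Y ⟶ X) (w : e ≫ g = h ≫ f) (w' : e' ≫ g = h ≫ f')
    [PreservesFiniteLimits (EtCoh.pull e)] [PreservesFiniteLimits (EtCoh.pull e')]
    (q : ℕ) (F : EtCoh.Ab T) (H : IsIso (EtBC.bcQ g f h e w q F)) :
    IsIso (EtBC.bcQ g f' h e' w' q F) := by
  subst hf
  subst he
  exact H

lemma pull_comp_preservesFiniteLimits {Y T Z : Scheme.{u}} (e : Y ⟶ T) (k : Z ⟶ Y)
    [PreservesFiniteLimits (EtCoh.pull e)] [PreservesFiniteLimits (EtCoh.pull k)] :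
    PreservesFiniteLimits (EtCoh.pull (k ≫ e)) :=
  preservesFiniteLimits_of_natIso (EdgeE.ζ e k)

/-- one member of the covering -/
lemma isIso_pull_bcQ {X S Y T : Scheme.{u}} (f : X ⟶ S) (g : T ⟶ S) (h : Y ⟶ X) (e : Y ⟶ T)
    (c : IsPullback e h g f) [PreservesFiniteLimits (EtCoh.pull e)] (F : EtCoh.Ab T) (q : ℕ)
    {Ui Vi : Scheme.{u}} (u : Ui ⟶ X) [Etale u] (v : Vi ⟶ S) [Etale v]
    (a : Ui ⟶ Vi) (ha : a ≫ v = u ≫ f)
    {Ti Yi : Scheme.{u}} (gi : Ti ⟶ Vi) (ti : Ti ⟶ T)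
    (cT : IsPullback ti gi g v)
    (hi : Yi ⟶ Ui) (ei : Yi ⟶ Ti) (cY : IsPullback ei hi gi a)
    [PreservesFiniteLimits (EtCoh.pull ei)]
    (hloc : IsIso (EtBC.bcQ gi a hi ei cY.w q ((EtCoh.pull ti).obj F))) :
    IsIso ((EtCoh.pull u).map (EtBC.bcQ g f h e c.w q F)) := by
  -- étaleness of the base changes
  haveI : Etale ti := MorphismProperty.of_isPullback (P := @Etale) cT.flip inferInstance
  haveI : PreservesFiniteLimits (EtCoh.pull ti) := BcQEt.pull_preservesFiniteLimits_of_etale ti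
  haveI : PreservesFiniteLimits (EtCoh.pull (ei ≫ ti)) := pull_comp_preservesFiniteLimits ti ei
  -- the outer square via `Vi`
  have w1 : (ei ≫ ti) ≫ g = hi ≫ (a ≫ v) := by
    rw [Category.assoc, cT.w, ← Category.assoc, cY.w, Category.assoc]
  have hA : IsIso (EtBC.bcQ g v gi ti cT.w q F) := BcQEt.isIso_bcQ_of_etale v g gi ti cT q F
  have hV : IsIso (EtBC.bcQ g (a ≫ v) hi (ei ≫ ti) w1 q F) :=
    EdgeE.isIso_bcQ_pasting v g gi ti cT.w a hi ei cY.w w1 q F hA hloc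
  -- the map `k`
  have wk : (ei ≫ ti) ≫ g = (hi ≫ u) ≫ f := by
    rw [w1, ha, Category.assoc]
  let k : Yi ⟶ Y := c.lift (ei ≫ ti) (hi ≫ u) wk
  have hke : k ≫ e = ei ≫ ti := c.lift_fst _ _ _
  have hkh : k ≫ h = hi ≫ u := c.lift_snd _ _ _
  have cBig : IsPullback (ei ≫ ti) hi g (a ≫ v) := cY.paste_horiz cT
  have cBig' : IsPullback (k ≫ e) hi g (u ≫ f) := by
    rw [hke, ← ha]
    exact cBig
  have cD : IsPullback k hi h u := IsPullback.of_right cBig' hkh c
  haveI : Etale k := MorphismProperty.of_isPullback (P := @Etale) cD.flip inferInstance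
  haveI : PreservesFiniteLimits (EtCoh.pull k) := BcQEt.pull_preservesFiniteLimits_of_etale k
  haveI : PreservesFiniteLimits (EtCoh.pull (k ≫ e)) := pull_comp_preservesFiniteLimits e k
  have w2 : (k ≫ e) ≫ g = hi ≫ (u ≫ f) := cBig'.w
  have hX : IsIso (EtBC.bcQ g (u ≫ f) hi (k ≫ e) w2 q F) :=
    isIso_bcQ_congr ha hke.symm g hi w1 w2 q F hV
  have hD : IsIso (EtBC.bcQ h u hi k cD.w q ((EtCoh.pull e).obj F)) :=
    BcQEt.isIso_bcQ_of_etale u h hi k cD q _
  rw [EdgeE.bcQ_pasting f g h e c.w u hi k cD.w w2 q F] at hX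
  -- cancel the isomorphisms
  have h1 := @IsIso.of_isIso_comp_left _ _ _ _ _ _ _ inferInstance hX
  have hr : IsIso (EtBC.bcQ h u hi k cD.w q ((EtCoh.pull e).obj F) ≫
      (EtCoh.Rpush hi q).map ((EdgeE.ζ e k).hom.app F)) := by
    haveI := hD
    infer_instance
  exact @IsIso.of_isIso_comp_right _ _ _ _ _ _ _ hr h1

theorem main {X S Y T : Scheme.{u}} (f : X ⟶ S) (g : T ⟶ S) (h : Y ⟶ X) (e : Y ⟶ T)
    (c : IsPullback e h g f) [PreservesFiniteLimits (EtCoh.pull e)] (F : EtCoh.Ab T) (q : ℕ)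
    {ι : Type u} (U : ι → X.Etale) (hU : EtCoh.Covers U) (V : ι → S.Etale)
    (a : ∀ i, (U i).left ⟶ (V i).left) (ha : ∀ i, a i ≫ (V i).hom = (U i).hom ≫ f)
    (Ti Yi : ι → Scheme.{u}) (gi : ∀ i, Ti i ⟶ (V i).left) (ti : ∀ i, Ti i ⟶ T)
    (cT : ∀ i, IsPullback (ti i) (gi i) g (V i).hom)
    (hi : ∀ i, Yi i ⟶ (U i).left) (ei : ∀ i, Yi i ⟶ Ti i) (cY : ∀ i, IsPullback (ei i) (hi i) (gi i) (a i))
    [∀ i, PreservesFiniteLimits (EtCoh.pull (ei i))]
    (hloc : ∀ i, IsIso (EtBC.bcQ (gi i) (a i) (hi i) (ei i) (cY i).w q ((EtCoh.pull (ti i)).obj F))) :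
    IsIso (EtBC.bcQ g f h e c.w q F) := by
  apply isIso_of_isIso_pull_cover U hU
  intro i
  exact isIso_pull_bcQ f g h e c F q (U i).hom (V i).hom (a i) (ha i) (gi i) (ti i) (cT i)
    (hi i) (ei i) (cY i) (hloc i)

end helpers

/-- Let Y = X ×_S T be a cartesian square of schemes with f : X → S, g : T → S, h : Y → X, e : Y → T,
let F be an abelian sheaf on the small etale site of T and q ≥ 0. Let (U_i → X) be a jointly
surjective family of etale X-schemes such that every U_i → S factors as a_i : U_i → V_i followed by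
an etale V_i → S, and let T_i = V_i ×_S T (projections g_i : T_i → V_i, t_i : T_i → T) and Y_i = U_i
×_{V_i} T_i (projections h_i : Y_i → U_i, e_i : Y_i → T_i). If for every i the degree-q base change
map a_i⁻¹ R^q g_i,_* (t_i⁻¹ F) → R^q h_i,_* e_i⁻¹ (t_i⁻¹ F) is an isomorphism, then the degree-q
base change map f⁻¹ R^q g_* F → R^q h_* e⁻¹ F is an isomorphism. -/
theorem result {X S Y T : Scheme.{u}} (f : X ⟶ S) (g : T ⟶ S) (h : Y ⟶ X) (e : Y ⟶ T)
    (c : IsPullback e h g f) [PreservesFiniteLimits (EtCoh.pull e)] (F : EtCoh.Ab T) (q : ℕ)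
    {ι : Type u} (U : ι → X.Etale) (hU : EtCoh.Covers U) (V : ι → S.Etale)
    (a : ∀ i, (U i).left ⟶ (V i).left) (ha : ∀ i, a i ≫ (V i).hom = (U i).hom ≫ f)
    (Ti Yi : ι → Scheme.{u}) (gi : ∀ i, Ti i ⟶ (V i).left) (ti : ∀ i, Ti i ⟶ T)
    (cT : ∀ i, IsPullback (ti i) (gi i) g (V i).hom)
    (hi : ∀ i, Yi i ⟶ (U i).left) (ei : ∀ i, Yi i ⟶ Ti i) (cY : ∀ i, IsPullback (ei i) (hi i) (gi i) (a i))
    [∀ i, PreservesFiniteLimits (EtCoh.pull (ei i))]
    (hloc : ∀ i, IsIso (EtBC.bcQ (gi i) (a i) (hi i) (ei i) (cY i).w q ((EtCoh.pull (ti i)).obj F))) :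
    IsIso (EtBC.bcQ g f h e c.w q F) := by
  exact main f g h e c F q U hU V a ha Ti Yi gi ti cT hi ei cY hloc

end Groth.Agent.S6668
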