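import Groth.Statements.S6686
import Mathlib
import Groth.Agent.Lib.Helper10.RDerComm
import Groth.Agent.S12465
import Groth.Agent.S6685

set_option autoImplicit false
universe u
open CategoryTheory CategoryTheory.Limits AlgebraicGeometry Opposite
open BigSite

namespace Groth.Agent.S6686

section helpers

theorem pullBig_exact {S' S : Scheme.{u}} (g : S' ⟶ S) :
    PreservesFiniteLimits (BigSite.pullBig Scheme.etalePrecoverage g AddCommGrpCat.{u + 1}) ∧
      PreservesFiniteColimits
        (BigSite.pullBig Scheme.etalePrecoverage g AddCommGrpCat.{u + 1}) := by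
  have h1 : PreservesLimitsOfSize.{0, 0}
      (BigSite.pullBig Scheme.etalePrecoverage g AddCommGrpCat.{u + 1}) :=
    (BigSite.shriekAbAdj Scheme.etalePrecoverage g).rightAdjoint_preservesLimits
  have h2 : PreservesColimitsOfSize.{0, 0}
      (BigSite.pullBig Scheme.etalePrecoverage g AddCommGrpCat.{u + 1}) :=
    (BigSite.bigAdj Scheme.etalePrecoverage g AddCommGrpCat.{u + 1}).leftAdjoint_preservesColimits
  exact ⟨PreservesLimitsOfSize.preservesFiniteLimits _,
    PreservesColimitsOfSize.preservesFiniteColimits _⟩

theorem resEt_exact (X : Scheme.{u}) :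
    PreservesFiniteLimits (BigSite.resEt Scheme.etalePrecoverage X) ∧
      PreservesFiniteColimits (BigSite.resEt Scheme.etalePrecoverage X) := by
  have h1 : PreservesLimitsOfSize.{0, 0} (BigSite.resEt Scheme.etalePrecoverage X) :=
    (BigSite.piEtAdj Scheme.etalePrecoverage X).rightAdjoint_preservesLimits
  have h2 : PreservesColimitsOfSize.{0, 0} (BigSite.resEt Scheme.etalePrecoverage X) :=
    (BigSite.iEtAdj Scheme.etalePrecoverage X).leftAdjoint_preservesColimits
  exact ⟨PreservesLimitsOfSize.preservesFiniteLimits _,
    PreservesColimitsOfSize.preservesFiniteColimits _⟩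

theorem resEtAlong_exact {S' S : Scheme.{u}} (g : S' ⟶ S) :
    PreservesFiniteLimits (BigSite.resEtAlong Scheme.etalePrecoverage g) ∧
      PreservesFiniteColimits (BigSite.resEtAlong Scheme.etalePrecoverage g) := by
  have := (pullBig_exact g).1
  have := (pullBig_exact g).2
  have := (resEt_exact S').1
  have := (resEt_exact S').2
  exact ⟨comp_preservesFiniteLimits _ _, comp_preservesFiniteColimits _ _⟩

end helpers

/-- Part (3): for an abelian sheaf and degree by degree: let f : T → S be a morphism of schemes, g : S'
→ S a scheme over S and T' = S' ×_S T with projections g' : T' → T and f' : T' → S'. For an abelian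
sheaf F on the big etale site of T and every q ≥ 0, the restriction i_g⁻¹ (R^q f_{big,*} F) to the
small etale site of S' is isomorphic to R^q f'_{small,*} (i_{g'}⁻¹ F), where i_h⁻¹ restricts a
big-etale sheaf over a base to the small etale site of a scheme h over that base. (Existence of an
isomorphism only: the comparison map is not constructed here. For g the identity of S this gives
(R^q f_{big,*} F)|_{S_et} ≅ R^q f_{small,*} (F|_{T_et}).) -/
theorem result {T S T' S' : Scheme.{u}} (f : T ⟶ S) (g : S' ⟶ S)
    (g' : T' ⟶ T) (f' : T' ⟶ S') (c : IsPullback g' f' f g) (F : BigSite.Ab Scheme.etalePrecoverage T) (q : ℕ) :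
    Nonempty ((BigSite.resEtAlong Scheme.etalePrecoverage g).obj ((BigSite.RpushBig Scheme.etalePrecoverage f q).obj F) ≅
      (EtCoh.Rpush f' q).obj ((BigSite.resEtAlong Scheme.etalePrecoverage g').obj F)) := by
  have := (resEtAlong_exact g).1
  have := (resEtAlong_exact g).2
  have := (resEtAlong_exact g').1
  have := (resEtAlong_exact g').2
  exact Groth.Agent.Helper10.RDerComm.rightDerived_comm
    (BigSite.pushBig Scheme.etalePrecoverage f AddCommGrpCat.{u + 1}) (EtCoh.push f')
    (BigSite.resEtAlong Scheme.etalePrecoverage g) (BigSite.resEtAlong Scheme.etalePrecoverage g')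
    (fun I hI => (Groth.Agent.S6685.result T I g').2)
    (Groth.Agent.S12465.resAlongBC f g g' f' c) F q

end Groth.Agent.S6686
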