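import Groth.Statements.S6689
import Groth.Agent.Lib.Helper10.LcGlueMod

set_option autoImplicit false
universe u
open CategoryTheory CategoryTheory.Limits AlgebraicGeometry Opposite
attribute [local instance] HasDerivedCategory.standard
open EtModD

namespace Groth.Agent.S6689

section helpers

universe w₁ w₂ v₁ v₂ u₁ u₂

/-- Homology objects of derived categories commute with exact functors. -/
lemma nonempty_homology_mapDerivedCategory_iso {C₁ : Type u₁} [Category.{v₁} C₁] [Abelian C₁]
    [HasDerivedCategory.{w₁} C₁] {C₂ : Type u₂} [Category.{v₂} C₂] [Abelian C₂]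
    [HasDerivedCategory.{w₂} C₂] (F : C₁ ⥤ C₂) [F.Additive] [PreservesFiniteLimits F]
    [PreservesFiniteColimits F] (K : DerivedCategory C₁) (i : ℤ) :
    Nonempty ((DerivedCategory.homologyFunctor C₂ i).obj (F.mapDerivedCategory.obj K) ≅
      F.obj ((DerivedCategory.homologyFunctor C₁ i).obj K)) := by
  let K' : CochainComplex C₁ ℤ := DerivedCategory.Q.objPreimage K
  let e : DerivedCategory.Q.obj K' ≅ K := DerivedCategory.Q.objObjPreimageIso K
  refine ⟨(DerivedCategory.homologyFunctor C₂ i).mapIso (F.mapDerivedCategory.mapIso e.symm) ≪≫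
    (DerivedCategory.homologyFunctor C₂ i).mapIso (F.mapDerivedCategoryFactors.app K') ≪≫
    (DerivedCategory.homologyFunctorFactors C₂ i).app _ ≪≫ ?_ ≪≫
    F.mapIso ((DerivedCategory.homologyFunctorFactors C₁ i).app K').symm ≪≫
    F.mapIso ((DerivedCategory.homologyFunctor C₁ i).mapIso e)⟩
  exact (K'.sc i).mapHomologyIso F

variable (Λ : Type (u + 1)) [CommRing Λ]

lemma isConstructible_of_iso {X : Scheme.{u}} {F G : EtModW.Mod Λ X} (e : F ≅ G)
    (h : EtModW.IsConstructible Λ F) : EtModW.IsConstructible Λ G := by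
  intro U hU
  obtain ⟨n, T, g, hi, hc, hd, hu, hl⟩ := h U hU
  exact ⟨n, T, g, hi, hc, hd, hu, fun i =>
    Groth.Agent.S6644.isFT_of_iso Λ ((EtModW.pull Λ (g i)).mapIso e) (hl i)⟩

theorem main (Λ : Type (u + 1)) [CommRing Λ] {X Y : Scheme.{u}}
    (f : X ⟶ Y) [PreservesFiniteLimits (EtModW.pull Λ f)] (K : EtModD.D Λ Y)
    (hK : ∀ i : ℤ, EtModW.IsConstructible Λ (EtModD.HD K i)) (i : ℤ) :
    EtModW.IsConstructible Λ (EtModD.HD ((EtModW.pull Λ f).mapDerivedCategory.obj K) i) := by
  obtain ⟨e⟩ := nonempty_homology_mapDerivedCategory_iso (EtModW.pull Λ f) K i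
  exact isConstructible_of_iso Λ e.symm
    (Groth.Agent.Helper10.LcGlueMod.isConstructible_pull Λ f _ (hK i))

end helpers

/-- Let Λ be a Noetherian ring, f : X → Y a morphism of schemes and K an object of D(Y_et, Λ) whose
cohomology sheaves are all constructible sheaves of Λ-modules. Then all cohomology sheaves of f⁻¹ K
are constructible, where f⁻¹ on derived categories is induced by the exact inverse image functor on
sheaves of Λ-modules (its left exactness is carried as an instance hypothesis). -/
theorem result (Λ : Type (u + 1)) [CommRing Λ] [IsNoetherianRing Λ] {X Y : Scheme.{u}}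
    (f : X ⟶ Y) [PreservesFiniteLimits (EtModW.pull Λ f)] (K : EtModD.D Λ Y)
    (hK : ∀ i : ℤ, EtModW.IsConstructible Λ (EtModD.HD K i)) (i : ℤ) :
    EtModW.IsConstructible Λ (EtModD.HD ((EtModW.pull Λ f).mapDerivedCategory.obj K) i) := by
  exact main Λ f K hK i

end Groth.Agent.S6689
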