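import Groth.Statements.S6691
import Mathlib
import Groth.Prelude.Def_SGA4b
import Groth.Prelude.Def_EtBCD
import Groth.Agent.Lib.Helper10.MatePaste
import Groth.Agent.Lib.Helper10.BCShPaste
import Groth.Agent.Lib.Helper10.BCShEt

set_option autoImplicit false
universe u
open CategoryTheory CategoryTheory.Limits AlgebraicGeometry Opposite
open EtBC

namespace Groth.Agent.S6691

section helpers

open Groth.Agent.Helper10.BCSh

lemma isIso_of_eq_comp4 {C : Type*} [Category C] {A B D E G : C} (x : A ⟶ G) (α : A ⟶ B)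
    (m : B ⟶ D) (n : D ⟶ E) (β : E ⟶ G) (hx : x = α ≫ m ≫ n ≫ β) [IsIso α] [IsIso β]
    [IsIso x] [IsIso n] : IsIso m := by
  have h1 : m = inv α ≫ x ≫ inv β ≫ inv n := by
    rw [hx]; simp
  rw [h1]
  infer_instance

theorem main {X S Y T : Scheme.{u}} (f : X ⟶ S) (g : T ⟶ S) (h : Y ⟶ X) (e : Y ⟶ T)
    (c : IsPullback e h g f) (F : EtDesc.Sh T)
    {ι : Type u} (U : ι → X.Etale) (hU : EtCoh.Covers U) (V : ι → S.Etale)
    (a : ∀ i, (U i).left ⟶ (V i).left) (ha : ∀ i, a i ≫ (V i).hom = (U i).hom ≫ f)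
    (Ti Yi : ι → Scheme.{u}) (gi : ∀ i, Ti i ⟶ (V i).left) (ti : ∀ i, Ti i ⟶ T)
    (cT : ∀ i, IsPullback (ti i) (gi i) g (V i).hom)
    (hi : ∀ i, Yi i ⟶ (U i).left) (ei : ∀ i, Yi i ⟶ Ti i) (cY : ∀ i, IsPullback (ei i) (hi i) (gi i) (a i))
    (hloc : ∀ i, IsIso (EtBC.baseChange0Sh (gi i) (a i) (hi i) (ei i) (cY i).w ((EtDesc.pullSh (ti i)).obj F))) :
    IsIso (EtBC.baseChange0Sh g f h e c.w F) := by
  apply isIso_of_isIso_pullSh_cover U _ _ hU
  intro i
  -- the map `Yi i ⟶ Y`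
  have hw : (ei i ≫ ti i) ≫ g = (hi i ≫ (U i).hom) ≫ f := by
    rw [Category.assoc, (cT i).w, ← Category.assoc, (cY i).w, Category.assoc, ha i,
      Category.assoc]
  obtain ⟨u', hu'e, hu'h⟩ : ∃ u' : Yi i ⟶ Y, u' ≫ e = ei i ≫ ti i ∧ u' ≫ h = hi i ≫ (U i).hom :=
    ⟨c.lift _ _ hw, c.lift_fst _ _ hw, c.lift_snd _ _ hw⟩
  -- the big pullback square
  have big : IsPullback (ei i ≫ ti i) (hi i) g ((U i).hom ≫ f) := by
    have := (cY i).paste_horiz (cT i)
    rw [ha i] at this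
    exact this
  have ci : IsPullback u' (hi i) h (U i).hom := by
    have big' : IsPullback (u' ≫ e) (hi i) g ((U i).hom ≫ f) := by rw [hu'e]; exact big
    exact IsPullback.of_right big' hu'h c
  -- étaleness of the base-changed maps
  have hUe : Etale (U i).hom := (U i).prop
  have hVe : Etale (V i).hom := (V i).prop
  have hte : Etale (ti i) := MorphismProperty.of_isPullback (P := @Etale) (cT i).flip hVe
  have hue : Etale u' := MorphismProperty.of_isPullback (P := @Etale) ci.flip hUe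
  -- étale base change isomorphisms
  have e1 : IsIso (EtBC.baseChange0Sh g (V i).hom (gi i) (ti i) (cT i).w F) :=
    isIso_baseChange0Sh_of_etale g (V i).hom (gi i) (ti i) (cT i) F
  have e2 : IsIso (EtBC.baseChange0Sh h (U i).hom (hi i) u' ci.w ((EtDesc.pullSh e).obj F)) :=
    isIso_baseChange0Sh_of_etale h (U i).hom (hi i) u' ci ((EtDesc.pullSh e).obj F)
  -- paste A
  obtain ⟨αA, βA, hA⟩ := exists_paste' g (V i).hom (gi i) (ti i) (cT i).w (a i) (hi i) (ei i)
    (cY i).w ((U i).hom ≫ f) (ei i ≫ ti i) (ha i).symm rfl big.w F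
  -- paste B
  obtain ⟨αB, βB, hB⟩ := exists_paste' g f h e c.w (U i).hom (hi i) u' ci.w
    ((U i).hom ≫ f) (ei i ≫ ti i) rfl hu'e.symm big.w F
  have hloc' := hloc i
  have outer : IsIso (EtBC.baseChange0Sh g ((U i).hom ≫ f) (hi i) (ei i ≫ ti i) big.w F) := by
    rw [hA]
    infer_instance
  exact isIso_of_eq_comp4 _ αB.hom _ _ ((EtDesc.pushSh (hi i)).map βB.hom) hB

end helpers

/-- Let Y = X ×_S T be a cartesian square of schemes with f : X → S, g : T → S, h : Y → X, e : Y → T,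
and F a sheaf of sets on the small etale site of T. Let (U_i → X) be a jointly surjective family of
etale X-schemes such that every U_i → S factors as a_i : U_i → V_i followed by an etale V_i → S, and
let T_i = V_i ×_S T (projections g_i, t_i) and Y_i = U_i ×_{V_i} T_i (projections h_i, e_i). If for
every i the base change map a_i⁻¹ g_i,_* (t_i⁻¹ F) → h_i,_* e_i⁻¹ (t_i⁻¹ F) is an isomorphism, then
the base change map f⁻¹ g_* F → h_* e⁻¹ F is an isomorphism. -/
theorem result {X S Y T : Scheme.{u}} (f : X ⟶ S) (g : T ⟶ S) (h : Y ⟶ X) (e : Y ⟶ T)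
    (c : IsPullback e h g f) (F : EtDesc.Sh T)
    {ι : Type u} (U : ι → X.Etale) (hU : EtCoh.Covers U) (V : ι → S.Etale)
    (a : ∀ i, (U i).left ⟶ (V i).left) (ha : ∀ i, a i ≫ (V i).hom = (U i).hom ≫ f)
    (Ti Yi : ι → Scheme.{u}) (gi : ∀ i, Ti i ⟶ (V i).left) (ti : ∀ i, Ti i ⟶ T)
    (cT : ∀ i, IsPullback (ti i) (gi i) g (V i).hom)
    (hi : ∀ i, Yi i ⟶ (U i).left) (ei : ∀ i, Yi i ⟶ Ti i) (cY : ∀ i, IsPullback (ei i) (hi i) (gi i) (a i))
    (hloc : ∀ i, IsIso (EtBC.baseChange0Sh (gi i) (a i) (hi i) (ei i) (cY i).w ((EtDesc.pullSh (ti i)).obj F))) :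
    IsIso (EtBC.baseChange0Sh g f h e c.w F) := by
  exact main f g h e c F U hU V a ha Ti Yi gi ti cT hi ei cY hloc

end Groth.Agent.S6691
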