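import Groth.Statements.S6696
import Mathlib
import Groth.Agent.Lib.Helper10.RDerComm
import Groth.Agent.S12464
import Groth.Agent.S6685

set_option autoImplicit false
universe u
open CategoryTheory CategoryTheory.Limits AlgebraicGeometry Opposite
open BigSite

namespace Groth.Agent.S6696

section helpers

theorem pullBig_exact {S' S : Scheme.{u}} (g : S' ⟶ S) :
    PreservesFiniteLimits (BigSite.pullBig Scheme.etalePrecoverage g AddCommGrpCat.{u + 1}) ∧
      PreservesFiniteColimits
        (BigSite.pullBig Scheme.etalePrecoverage g AddCommGrpCat.{u + 1}) := by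
  have h1 : PreservesLimitsOfSize.{0, 0}
      (BigSite.pullBig Scheme.etalePrecoverage g AddCommGrpCat.{u + 1}) :=
    (BigSite.shriekAbAdj Scheme.etalePrecoverage g).rightAdjoint_preservesLimits
  have h2 : PreservesColimitsOfSize.{0, 0}
      (BigSite.pullBig Scheme.etalePrecoverage g AddCommGrpCat.{u + 1}) :=
    (BigSite.bigAdj Scheme.etalePrecoverage g AddCommGrpCat.{u + 1}).leftAdjoint_preservesColimits
  exact ⟨PreservesLimitsOfSize.preservesFiniteLimits _,
    PreservesColimitsOfSize.preservesFiniteColimits _⟩

end helpers

/-- Part (5): for an abelian sheaf and degree by degree: let f : T → S be a morphism of schemes, g : S'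
→ S a scheme over S and T' = S' ×_S T with projections g' : T' → T and f' : T' → S'. For an abelian
sheaf F on the big etale site of T and every q ≥ 0, the restriction g_big⁻¹ (R^q f_{big,*} F) of the
big-site higher direct image to the big etale site of S' is isomorphic to R^q f'_{big,*} (g'_big⁻¹
F). (Existence of an isomorphism only.) -/
theorem result {T S T' S' : Scheme.{u}} (f : T ⟶ S) (g : S' ⟶ S)
    (g' : T' ⟶ T) (f' : T' ⟶ S') (c : IsPullback g' f' f g) (F : BigSite.Ab Scheme.etalePrecoverage T) (q : ℕ) :
    Nonempty ((BigSite.pullBig Scheme.etalePrecoverage g AddCommGrpCat.{u + 1}).obj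
        ((BigSite.RpushBig Scheme.etalePrecoverage f q).obj F) ≅
      (BigSite.RpushBig Scheme.etalePrecoverage f' q).obj
        ((BigSite.pullBig Scheme.etalePrecoverage g' AddCommGrpCat.{u + 1}).obj F)) := by
  have := (pullBig_exact g).1
  have := (pullBig_exact g).2
  have := (pullBig_exact g').1
  have := (pullBig_exact g').2
  exact Groth.Agent.Helper10.RDerComm.rightDerived_comm
    (BigSite.pushBig Scheme.etalePrecoverage f AddCommGrpCat.{u + 1})
    (BigSite.pushBig Scheme.etalePrecoverage f' AddCommGrpCat.{u + 1})
    (BigSite.pullBig Scheme.etalePrecoverage g AddCommGrpCat.{u + 1})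
    (BigSite.pullBig Scheme.etalePrecoverage g' AddCommGrpCat.{u + 1})
    (fun I hI => Groth.Agent.S6685.injective_pullBig g' I)
    (Groth.Agent.S12464.bigBC Scheme.etalePrecoverage f g g' f' c AddCommGrpCat.{u + 1}) F q

end Groth.Agent.S6696
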