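import Groth.Statements.S6697
import Mathlib
import Groth.Agent.Lib.Helper10.AdjKInj
import Groth.Agent.S6685

set_option autoImplicit false
universe u
open CategoryTheory CategoryTheory.Limits AlgebraicGeometry Opposite
open BigSite

namespace Groth.Agent.S6697

section helpers

theorem isKInjective_resEt (S : Scheme.{u})
    (I : CochainComplex (BigSite.Ab Scheme.etalePrecoverage S) ℤ) [I.IsKInjective] :
    CochainComplex.IsKInjective (((BigSite.resEt Scheme.etalePrecoverage S).mapHomologicalComplex
      (ComplexShape.up ℤ)).obj I) := by
  have := Groth.Agent.S6685.piEtPull_preservesFiniteLimits S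
  have : (BigSite.piEtPull Scheme.etalePrecoverage S).IsLeftAdjoint :=
    (BigSite.piEtAdj Scheme.etalePrecoverage S).isLeftAdjoint
  have : (BigSite.piEtPull Scheme.etalePrecoverage S).Additive :=
    (BigSite.piEtAdj Scheme.etalePrecoverage S).left_adjoint_additive
  exact Groth.Agent.Helper10.AdjKInj.isKInjective_map (BigSite.piEtAdj Scheme.etalePrecoverage S) I

theorem isKInjective_pullBig {S T : Scheme.{u}} (f : T ⟶ S)
    (I : CochainComplex (BigSite.Ab Scheme.etalePrecoverage S) ℤ) [I.IsKInjective] :
    CochainComplex.IsKInjective (((BigSite.pullBig Scheme.etalePrecoverage f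
      AddCommGrpCat.{u + 1}).mapHomologicalComplex (ComplexShape.up ℤ)).obj I) := by
  have : PreservesFiniteLimits (BigSite.shriekAb Scheme.etalePrecoverage f) :=
    Groth.Agent.S6638.result f _ (Or.inr (Or.inl rfl))
  have : (BigSite.shriekAb Scheme.etalePrecoverage f).IsLeftAdjoint :=
    (BigSite.shriekAbAdj Scheme.etalePrecoverage f).isLeftAdjoint
  have : (BigSite.shriekAb Scheme.etalePrecoverage f).Additive :=
    (BigSite.shriekAbAdj Scheme.etalePrecoverage f).left_adjoint_additive
  exact Groth.Agent.Helper10.AdjKInj.isKInjective_map
    (BigSite.shriekAbAdj Scheme.etalePrecoverage f) I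

end helpers

/-- Let S be a scheme, I a K-injective complex of abelian sheaves on the big etale site of S (every
morphism from an acyclic complex to I is null-homotopic) and f : T → S a scheme over S. Then (b) the
termwise restriction I|_{S_et} to the small etale site of S is K-injective, and (a) the termwise
restriction i_f⁻¹ I to the small etale site of T is K-injective. -/
theorem result (S : Scheme.{u})
    (I : CochainComplex (BigSite.Ab Scheme.etalePrecoverage S) ℤ) [I.IsKInjective] {T : Scheme.{u}} (f : T ⟶ S) :
    CochainComplex.IsKInjective (((BigSite.resEt Scheme.etalePrecoverage S).mapHomologicalComplex (ComplexShape.up ℤ)).obj I) ∧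
      CochainComplex.IsKInjective (((BigSite.resEtAlong Scheme.etalePrecoverage f).mapHomologicalComplex (ComplexShape.up ℤ)).obj I) := by
  refine ⟨isKInjective_resEt S I, ?_⟩
  have := isKInjective_pullBig f I
  exact isKInjective_resEt T (((BigSite.pullBig Scheme.etalePrecoverage f
      AddCommGrpCat.{u + 1}).mapHomologicalComplex (ComplexShape.up ℤ)).obj I)

end Groth.Agent.S6697
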