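import Groth.Statements.S6703
import Mathlib

set_option autoImplicit false
universe v v' u u'
open CategoryTheory
open DEquiv

namespace Groth.Agent.S6703
section helpers
open Opposite
set_option linter.unusedSectionVars false
set_option autoImplicit false
open CategoryTheory CategoryTheory.Limits CategoryTheory.Pretriangulated

section
variable {D : Type u} [Category.{v} D] [Preadditive D] [HasZeroObject D] [HasShift D ℤ]
    [∀ n : ℤ, (shiftFunctor D n).Additive] [Pretriangulated D]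
    {D' : Type u'} [Category.{v'} D'] [Preadditive D'] [HasZeroObject D'] [HasShift D' ℤ]
    [∀ n : ℤ, (shiftFunctor D' n).Additive] [Pretriangulated D']
    (F : D ⥤ D') [F.CommShift ℤ]

/-- `F` is bijective on `Hom(X, Z)` -/
def Q (X Z : D) : Prop := Function.Bijective (fun f : X ⟶ Z => F.map f)

omit [Preadditive D] [HasZeroObject D] [HasShift D ℤ] [∀ n : ℤ, (shiftFunctor D n).Additive]
  [Pretriangulated D] [Preadditive D'] [HasZeroObject D'] [HasShift D' ℤ]
  [∀ n : ℤ, (shiftFunctor D' n).Additive] [Pretriangulated D'] [F.CommShift ℤ] in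
theorem Q_iso {X Z X' Z' : D} (eX : X ≅ X') (eZ : Z ≅ Z') (h : Q F X Z) : Q F X' Z' := by
  constructor
  · intro u u' huu
    dsimp only at huu
    have : eX.hom ≫ u ≫ eZ.inv = eX.hom ≫ u' ≫ eZ.inv := by
      apply h.1
      dsimp only
      rw [Functor.map_comp, Functor.map_comp, Functor.map_comp, Functor.map_comp, huu]
    simpa using this
  · intro w
    obtain ⟨v, hv⟩ := h.2 (F.map eX.hom ≫ w ≫ F.map eZ.inv)
    dsimp only at hv
    refine ⟨eX.inv ≫ v ≫ eZ.hom, ?_⟩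
    dsimp only
    rw [Functor.map_comp, Functor.map_comp, hv]
    simp [← Functor.map_comp]

theorem map_shift {X Z : D} (n : ℤ) (v : X ⟶ Z) :
    F.map (v⟦n⟧') = (F.commShiftIso n).hom.app X ≫ (F.map v)⟦n⟧' ≫ (F.commShiftIso n).inv.app Z := by
  have := (F.commShiftIso n).hom.naturality v
  dsimp at this
  rw [← Category.assoc, ← this, Category.assoc, Iso.hom_inv_id_app]
  exact (Category.comp_id _).symm

theorem Q_shift {X Z : D} (n : ℤ) (h : Q F X Z) : Q F (X⟦n⟧) (Z⟦n⟧) := by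
  constructor
  · intro u u' huu
    dsimp only at huu
    obtain ⟨v, rfl⟩ := (shiftFunctor D n).map_surjective u
    obtain ⟨v', rfl⟩ := (shiftFunctor D n).map_surjective u'
    rw [map_shift, map_shift] at huu
    have h1 : (F.map v)⟦n⟧' = (F.map v')⟦n⟧' := by
      have h3 := congrArg (fun t => (F.commShiftIso n).inv.app X ≫ t ≫ (F.commShiftIso n).hom.app Z) huu
      simpa using h3
    have h2 : F.map v = F.map v' := (shiftFunctor D' n).map_injective h1
    rw [h.1 h2]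
  · intro w
    obtain ⟨w'', hw''⟩ := (shiftFunctor D' n).map_surjective
      ((F.commShiftIso n).inv.app X ≫ w ≫ (F.commShiftIso n).hom.app Z)
    obtain ⟨v, hv⟩ := h.2 w''
    dsimp only at hv
    refine ⟨v⟦n⟧', ?_⟩
    dsimp only
    rw [map_shift, hv, hw'']
    simp


variable (S : Set D)

/-- objects isomorphic to shifts of elements of `S` -/
def SS (Z : D) : Prop := ∃ E ∈ S, ∃ i : ℤ, Nonempty (Z ≅ E⟦i⟧)

theorem SS_shift {Z : D} (h : SS S Z) (n : ℤ) : SS S (Z⟦n⟧) := by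
  obtain ⟨E, hE, i, ⟨e⟩⟩ := h
  exact ⟨E, hE, i + n, ⟨(shiftFunctor D n).mapIso e ≪≫ ((shiftFunctorAdd D i n).app E).symm⟩⟩

theorem Q_SS (h4 : ∀ E ∈ S, ∀ E' ∈ S, ∀ i : ℤ,
      Function.Bijective (fun f : E ⟶ (shiftFunctor D i).obj E' => F.map f))
    {X Z : D} (hX : SS S X) (hZ : SS S Z) : Q F X Z := by
  obtain ⟨E, hE, m, ⟨eX⟩⟩ := hX
  obtain ⟨E', hE', i, ⟨eZ⟩⟩ := hZ
  have h1 : Q F E (E'⟦i - m⟧) := h4 E hE E' hE' (i - m)
  have h2 := Q_shift F m h1
  exact Q_iso F eX.symm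
    (((shiftFunctorAdd' D (i - m) m i (by omega)).app E').symm ≪≫ eZ.symm) h2

theorem zero_of_h3 (h3 : ∀ K : D, (∀ E ∈ S, ∀ (i : ℤ) (f : K ⟶ (shiftFunctor D i).obj E), f = 0) → IsZero K)
    {K : D} (h : ∀ Z, SS S Z → ∀ f : K ⟶ Z, f = 0) : IsZero K :=
  h3 K (fun E hE i f => h _ ⟨E, hE, i, ⟨Iso.refl _⟩⟩ f)

theorem zero_of_h2 (h2 : ∀ K : D, (∀ E ∈ S, ∀ (i : ℤ) (f : E ⟶ (shiftFunctor D i).obj K), f = 0) → IsZero K)
    {K : D} (h : ∀ X, SS S X → ∀ f : X ⟶ K, f = 0) : IsZero K := by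
  apply h2 K
  intro E hE i f
  have h1 := h (E⟦-i⟧) ⟨E, hE, -i, ⟨Iso.refl _⟩⟩ (f⟦-i⟧' ≫ (shiftShiftNeg K i).hom)
  have h0 : f⟦-i⟧' = 0 := by
    rw [← cancel_mono (shiftShiftNeg K i).hom, h1, zero_comp]
  exact (shiftFunctor D (-i)).map_injective (h0.trans (Functor.map_zero _ _ _).symm)


section adj
variable {F} {L R : D' ⥤ D} (adjL : L ⊣ F) (adjR : F ⊣ R)

theorem homEquiv_counit_comp {X Z : D} (g : X ⟶ Z) :
    adjL.homEquiv (F.obj X) Z (adjL.counit.app X ≫ g) = F.map g := by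
  rw [Adjunction.homEquiv_unit, Functor.map_comp, ← Category.assoc,
    Adjunction.right_triangle_components, Category.id_comp]

theorem counit_comp_bij {X Z : D} (h : Q F X Z) :
    Function.Bijective (fun g : X ⟶ Z => adjL.counit.app X ≫ g) := by
  have : (fun g : X ⟶ Z => adjL.counit.app X ≫ g) =
      (adjL.homEquiv (F.obj X) Z).symm ∘ (fun g => F.map g) := by
    funext g
    rw [Function.comp_apply, ← homEquiv_counit_comp adjL, Equiv.symm_apply_apply]
  rw [this]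
  exact (Equiv.bijective _).comp h

theorem Q_of_isIso_counit {X : D} [IsIso (adjL.counit.app X)] (Z : D) : Q F X Z := by
  have : (fun g : X ⟶ Z => F.map g) =
      (adjL.homEquiv (F.obj X) Z) ∘ (fun g : X ⟶ Z => adjL.counit.app X ≫ g) := by
    funext g
    rw [Function.comp_apply, homEquiv_counit_comp adjL]
  unfold Q
  rw [this]
  refine (Equiv.bijective _).comp ⟨fun g g' h => ?_, fun k => ⟨inv (adjL.counit.app X) ≫ k, ?_⟩⟩
  · exact (cancel_epi (adjL.counit.app X)).1 h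
  · simp

theorem homEquiv_map {X K : D} (g : X ⟶ K) :
    adjR.homEquiv X (F.obj K) (F.map g) = g ≫ adjR.unit.app K := by
  rw [Adjunction.homEquiv_unit]
  exact (adjR.unit.naturality g).symm

theorem comp_unit_bij {X K : D} (h : Q F X K) :
    Function.Bijective (fun g : X ⟶ K => g ≫ adjR.unit.app K) := by
  have : (fun g : X ⟶ K => g ≫ adjR.unit.app K) =
      (adjR.homEquiv X (F.obj K)) ∘ (fun g => F.map g) := by
    funext g
    rw [Function.comp_apply, homEquiv_map adjR]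
  rw [this]
  exact (Equiv.bijective _).comp h

variable (F) in
theorem isIso_counit
    (h3 : ∀ K : D, (∀ E ∈ S, ∀ (i : ℤ) (f : K ⟶ (shiftFunctor D i).obj E), f = 0) → IsZero K)
    (h4 : ∀ E ∈ S, ∀ E' ∈ S, ∀ i : ℤ,
      Function.Bijective (fun f : E ⟶ (shiftFunctor D i).obj E' => F.map f))
    {X : D} (hX : SS S X) : IsIso (adjL.counit.app X) := by
  obtain ⟨C, g, h, hT⟩ := distinguished_cocone_triangle (adjL.counit.app X)
  have e12 : adjL.counit.app X ≫ g = 0 := comp_distTriang_mor_zero₁₂ _ hT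
  have e31 : h ≫ (adjL.counit.app X)⟦(1 : ℤ)⟧' = 0 := comp_distTriang_mor_zero₃₁ _ hT
  have bij : ∀ Z, SS S Z → Function.Bijective (fun k : X ⟶ Z => adjL.counit.app X ≫ k) :=
    fun Z hZ => counit_comp_bij adjL (Q_SS F S h4 hX hZ)
  have hC : IsZero C := by
    apply zero_of_h3 S h3
    intro Z hZ f
    have h1 : g ≫ f = 0 := by
      apply (bij Z hZ).1
      dsimp only
      rw [← Category.assoc, e12, zero_comp, comp_zero]
    obtain ⟨k, hk⟩ : ∃ k : (L.obj (F.obj X))⟦(1 : ℤ)⟧ ⟶ Z, f = h ≫ k :=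
      Triangle.yoneda_exact₃ _ hT f h1
    obtain ⟨k₀, hk₀⟩ := (shiftFunctor D (1 : ℤ)).map_surjective (k ≫ (shiftNegShift Z (1 : ℤ)).inv)
    obtain ⟨k₁, hk₁⟩ := (bij (Z⟦(-1 : ℤ)⟧) (SS_shift S hZ (-1))).2 k₀
    dsimp only at hk₁
    have hk' : k = (adjL.counit.app X)⟦(1 : ℤ)⟧' ≫ k₁⟦(1 : ℤ)⟧' ≫ (shiftNegShift Z (1 : ℤ)).hom := by
      rw [← Category.assoc, ← Functor.map_comp, hk₁, hk₀, Category.assoc, Iso.inv_hom_id,
        Category.comp_id]
    rw [hk, hk', ← Category.assoc, e31, zero_comp]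
  exact (Triangle.isZero₃_iff_isIso₁ _ hT).1 hC

variable (F) in
theorem isIso_unit
    (h2 : ∀ K : D, (∀ E ∈ S, ∀ (i : ℤ) (f : E ⟶ (shiftFunctor D i).obj K), f = 0) → IsZero K)
    (hε : ∀ X, SS S X → IsIso (adjL.counit.app X)) (K : D) : IsIso (adjR.unit.app K) := by
  obtain ⟨C, g, h, hT⟩ := distinguished_cocone_triangle (adjR.unit.app K)
  have e12 : adjR.unit.app K ≫ g = 0 := comp_distTriang_mor_zero₁₂ _ hT
  have e31 : h ≫ (adjR.unit.app K)⟦(1 : ℤ)⟧' = 0 := comp_distTriang_mor_zero₃₁ _ hT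
  have bij : ∀ X, SS S X → Function.Bijective (fun k : X ⟶ K => k ≫ adjR.unit.app K) := by
    intro X hX
    haveI := hε X hX
    exact comp_unit_bij adjR (Q_of_isIso_counit adjL K)
  have hC : IsZero C := by
    apply zero_of_h2 S h2
    intro X hX f
    have h1 : f ≫ h = 0 := by
      have hu : f ≫ h ≫ (adjR.unit.app K)⟦(1 : ℤ)⟧' = 0 := by
        rw [e31, comp_zero]
      obtain ⟨u₀, hu₀⟩ := (shiftFunctor D (1 : ℤ)).map_surjective
        ((shiftNegShift X (1 : ℤ)).hom ≫ f ≫ h)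
      have h5 : (u₀ ≫ adjR.unit.app K)⟦(1 : ℤ)⟧' = 0 := by
        rw [Functor.map_comp, hu₀, Category.assoc, Category.assoc, hu, comp_zero]
      have h6 : u₀ ≫ adjR.unit.app K = 0 :=
        (shiftFunctor D (1 : ℤ)).map_injective (h5.trans (Functor.map_zero _ _ _).symm)
      have h7 : u₀ = 0 := by
        apply (bij _ (SS_shift S hX (-1))).1
        dsimp only
        rw [h6, zero_comp]
      rw [h7, Functor.map_zero] at hu₀
      rw [← cancel_epi (shiftNegShift X (1 : ℤ)).hom, ← hu₀, comp_zero]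
    obtain ⟨k, hk⟩ : ∃ k : X ⟶ R.obj (F.obj K), f = k ≫ g := Triangle.coyoneda_exact₃ _ hT f h1
    obtain ⟨k', hk'⟩ := (bij X hX).2 k
    dsimp only at hk'
    rw [hk, ← hk', Category.assoc, e12, comp_zero]
  exact (Triangle.isZero₃_iff_isIso₁ _ hT).1 hC

end adj


end

theorem main6703
    {D : Type u} [Category.{v} D] [Preadditive D] [HasZeroObject D] [HasShift D ℤ]
    [∀ n : ℤ, (shiftFunctor D n).Additive] [Pretriangulated D] [IsTriangulated D]
    {D' : Type u'} [Category.{v'} D'] [Preadditive D'] [HasZeroObject D'] [HasShift D' ℤ]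
    [∀ n : ℤ, (shiftFunctor D' n).Additive] [Pretriangulated D'] [IsTriangulated D']
    (F : D ⥤ D') [F.CommShift ℤ] [F.IsTriangulated] [F.IsLeftAdjoint] [F.IsRightAdjoint]
    (S : Set D)
    (h2 : ∀ K : D, (∀ E ∈ S, ∀ (i : ℤ) (f : E ⟶ (shiftFunctor D i).obj K), f = 0) → IsZero K)
    (h3 : ∀ K : D, (∀ E ∈ S, ∀ (i : ℤ) (f : K ⟶ (shiftFunctor D i).obj E), f = 0) → IsZero K)
    (h4 : ∀ E ∈ S, ∀ E' ∈ S, ∀ i : ℤ,
      Function.Bijective (fun f : E ⟶ (shiftFunctor D i).obj E' => F.map f)) :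
    F.Full ∧ F.Faithful := by
  let adjR := Adjunction.ofIsLeftAdjoint F
  let adjL := Adjunction.ofIsRightAdjoint F
  have hε : ∀ X, SS S X → IsIso (adjL.counit.app X) := fun X hX =>
    isIso_counit F S adjL h3 h4 hX
  have hη : ∀ K, IsIso (adjR.unit.app K) := fun K => isIso_unit F S adjL adjR h2 hε K
  haveI : IsIso adjR.unit := NatIso.isIso_of_isIso_app _
  exact ⟨adjR.fullyFaithfulLOfIsIsoUnit.full, adjR.fullyFaithfulLOfIsIsoUnit.faithful⟩


end helpers

open CategoryTheory.Limits CategoryTheory.Pretriangulated in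
/-- Let F : D ⥤ D' be an exact functor of triangulated categories admitting both a left and a right
adjoint, and let S be a set of objects of D such that an object K of D is zero as soon as Hom(E,
K⟦i⟧) = 0 for all E ∈ S and i ∈ ℤ, and also as soon as Hom(K, E⟦i⟧) = 0 for all E ∈ S and i ∈ ℤ. If
for all E, E' ∈ S and i ∈ ℤ the map Hom(E, E'⟦i⟧) → Hom(F E, F (E'⟦i⟧)) given by F is bijective,
then F is full and faithful. -/
theorem result
    {D : Type u} [Category.{v} D] [Preadditive D] [HasZeroObject D] [HasShift D ℤ]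
    [∀ n : ℤ, (shiftFunctor D n).Additive] [Pretriangulated D] [IsTriangulated D]
    {D' : Type u'} [Category.{v'} D'] [Preadditive D'] [HasZeroObject D'] [HasShift D' ℤ]
    [∀ n : ℤ, (shiftFunctor D' n).Additive] [Pretriangulated D'] [IsTriangulated D']
    (F : D ⥤ D') [F.CommShift ℤ] [F.IsTriangulated] [F.IsLeftAdjoint] [F.IsRightAdjoint]
    (S : Set D)
    (h2 : ∀ K : D, (∀ E ∈ S, ∀ (i : ℤ) (f : E ⟶ (shiftFunctor D i).obj K), f = 0) → IsZero K)
    (h3 : ∀ K : D, (∀ E ∈ S, ∀ (i : ℤ) (f : K ⟶ (shiftFunctor D i).obj E), f = 0) → IsZero K)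
    (h4 : ∀ E ∈ S, ∀ E' ∈ S, ∀ i : ℤ,
      Function.Bijective (fun f : E ⟶ (shiftFunctor D i).obj E' => F.map f)) :
    F.Full ∧ F.Faithful := by
  exact main6703 F S h2 h3 h4

end Groth.Agent.S6703
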