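import Groth.Statements.S6705
import Mathlib
import Groth.Agent.Lib.Helper10.SibBuilt
import Groth.Agent.Lib.Helper10.SibGen
import Groth.Agent.Lib.Helper10.SibFF
import Groth.Agent.Lib.Helper10.SibGood
import Groth.Agent.Lib.Helper10.SibEff

set_option autoImplicit false
universe w v u v' u'
open CategoryTheory
open DEquiv

namespace Groth.Agent.S6705

open CategoryTheory.Limits CategoryTheory.Pretriangulated in
/-- Let A be an abelian category, D a triangulated category, and F, F' : D^b(A) ⥤ D exact functors of
triangulated categories which are siblings: their restrictions to A (objects in degree 0) are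
isomorphic functors and F K ≅ F' K for every K. If F is fully faithful, then F' is fully faithful.
(That essential surjectivity likewise passes from F to F' is immediate from the second sibling
condition and is not stated.) -/
theorem result
    {A : Type u} [Category.{v} A] [Abelian A] [HasDerivedCategory.{w} A]
    {D : Type u'} [Category.{v'} D] [Preadditive D] [HasZeroObject D] [HasShift D ℤ]
    [∀ n : ℤ, (shiftFunctor D n).Additive] [Pretriangulated D] [IsTriangulated D]
    (F F' : DerivedCategory.Bounded A ⥤ D) [F.CommShift ℤ] [F.IsTriangulated]
    [F'.CommShift ℤ] [F'.IsTriangulated]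
    (h1 : Nonempty (DEquiv.singleB A ⋙ F ≅ DEquiv.singleB A ⋙ F'))
    (h2 : ∀ K : DerivedCategory.Bounded A, Nonempty (F.obj K ≅ F'.obj K))
    [F.Full] [F.Faithful] : F'.Full ∧ F'.Faithful := by
  obtain ⟨t⟩ := h1
  have : (DEquiv.singleB A).Full := by
    unfold DEquiv.singleB
    infer_instance
  exact Groth.Agent.Helper10.SibFF.full_faithful_of_singles (DEquiv.singleB A)
    Groth.Agent.Helper10.SibGen.isZero_or_built
    (Groth.Agent.Helper10.SibGood.bij_singles (DEquiv.singleB A) F F' t
      Groth.Agent.Helper10.SibEff.negAll Groth.Agent.Helper10.SibEff.eff)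

end Groth.Agent.S6705
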