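import Groth.Statements.S6707
import Mathlib

set_option autoImplicit false
universe w v u
open CategoryTheory
open DEquiv

namespace Groth.Agent.S6707

section helpers
open CategoryTheory.Limits

variable {A : Type u} [Category.{v} A] [Abelian A]

/-- for `Y` strictly `≤ b`, the epi `Y.X b → H^b(Y)` -/
noncomputable def piTop (Y : CochainComplex A ℤ) (b : ℤ) [Y.IsStrictlyLE b] :
    Y.X b ⟶ Y.homology b :=
  haveI := Y.isIso_iCycles b (b+1) (by simp) ((Y.isZero_of_isStrictlyLE b (b+1) (by lia)).eq_of_tgt _ _)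
  inv (Y.iCycles b) ≫ Y.homologyπ b

instance (Y : CochainComplex A ℤ) (b : ℤ) [Y.IsStrictlyLE b] : Epi (piTop Y b) := by
  unfold piTop
  infer_instance

lemma iCycles_piTop (Y : CochainComplex A ℤ) (b : ℤ) [Y.IsStrictlyLE b] :
    Y.iCycles b ≫ piTop Y b = Y.homologyπ b := by
  unfold piTop
  simp

lemma epi_homologyMap_of_epi_f {S Y : CochainComplex A ℤ} (b : ℤ) [S.IsStrictlyLE b]
    [Y.IsStrictlyLE b] (φ : S ⟶ Y) [Epi (φ.f b)] :
    Epi (HomologicalComplex.homologyMap φ b) := by
  have h1 : piTop S b ≫ HomologicalComplex.homologyMap φ b = φ.f b ≫ piTop Y b := by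
    have := S.isIso_iCycles b (b+1) (by simp) ((S.isZero_of_isStrictlyLE b (b+1) (by lia)).eq_of_tgt _ _)
    rw [← cancel_epi (S.iCycles b)]
    rw [reassoc_of% (iCycles_piTop S b)]
    rw [HomologicalComplex.homologyπ_naturality]
    rw [← HomologicalComplex.cyclesMap_i_assoc, iCycles_piTop]
  have h2 : Epi (φ.f b ≫ piTop Y b) := epi_comp _ _
  rw [← h1] at h2
  exact epi_of_epi (piTop S b) _

noncomputable def fromSingle (Y : CochainComplex A ℤ) (b : ℤ) [Y.IsStrictlyLE b] {N : A}
    (p : N ⟶ Y.X b) : (CochainComplex.singleFunctor A b).obj N ⟶ Y :=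
  HomologicalComplex.mkHomFromSingle p (fun k hk =>
    (Y.isZero_of_isStrictlyLE b k (by simp at hk; lia)).eq_of_tgt _ _)

lemma epi_homologyMap_fromSingle (Y : CochainComplex A ℤ) (b : ℤ) [Y.IsStrictlyLE b] {N : A}
    (p : N ⟶ Y.X b) [Epi p] : Epi (HomologicalComplex.homologyMap (fromSingle Y b p) b) := by
  have : Epi ((fromSingle Y b p).f b) := by
    have : (fromSingle Y b p).f b = (HomologicalComplex.singleObjXSelf _ b N).hom ≫ p := by
      unfold fromSingle
      exact HomologicalComplex.mkHomFromSingle_f _ _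
    rw [this]
    exact epi_comp _ _
  exact epi_homologyMap_of_epi_f b _

theorem main [HasDerivedCategory.{w} A]
    (hneg : ∀ X : A, ∃ (N : A) (p : N ⟶ X), Epi p ∧ ∀ f : X ⟶ N, f = 0)
    (X X' : DerivedCategory A) (f : X ⟶ X') (a b a' : ℤ) [X.IsGE a] [X.IsLE b] [X'.IsGE a']
    [X'.IsLE (b - 1)] :
    ∃ (N : A) (g : (DerivedCategory.singleFunctor A b).obj N ⟶ X),
      Epi ((DerivedCategory.homologyFunctor A b).map g) ∧
        (∀ φ : (DerivedCategory.homologyFunctor A b).obj X ⟶ N, φ = 0) ∧ g ≫ f = 0 := by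
  obtain ⟨K, hK, ⟨eX⟩⟩ := X.exists_iso_Q_obj_of_isLE b
  obtain ⟨K', hK', ⟨eX'⟩⟩ := X'.exists_iso_Q_obj_of_isLE (b - 1)
  obtain ⟨Y, hY, s, hs, g, hfac⟩ := DerivedCategory.right_fac_of_isStrictlyLE (eX.inv ≫ f ≫ eX'.hom) b
  obtain ⟨N, p, hp, hN⟩ := hneg (Y.X b)
  let g0 : DerivedCategory.Q.obj ((CochainComplex.singleFunctor A b).obj N) ⟶ X :=
    DerivedCategory.Q.map (fromSingle Y b p) ≫ DerivedCategory.Q.map s ≫ eX.inv
  have hg0 : Epi ((DerivedCategory.homologyFunctor A b).map g0) := by
    dsimp only [g0]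
    rw [Functor.map_comp]
    have : Epi ((DerivedCategory.homologyFunctor A b).map (DerivedCategory.Q.map (fromSingle Y b p))) := by
      have h := DerivedCategory.homologyFunctorFactors_hom_naturality (fromSingle Y b p) b
      have h3 := epi_homologyMap_fromSingle Y b p
      rw [← epi_comp_iff_of_isIso _ ((DerivedCategory.homologyFunctorFactors A b).hom.app Y), h]
      exact epi_comp' inferInstance h3
    have h6 : Epi ((DerivedCategory.homologyFunctor A b).map (DerivedCategory.Q.map s ≫ eX.inv)) := inferInstance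
    exact epi_comp _ _
  have hg0f : g0 ≫ f = 0 := by
    have hfg : fromSingle Y b p ≫ g = 0 := by
      ext i
      by_cases hi : i = b
      · subst hi
        exact (K'.isZero_of_isStrictlyLE (i - 1) i (by lia)).eq_of_tgt _ _
      · exact (HomologicalComplex.isZero_single_obj_X _ b N i hi).eq_of_src _ _
    have h2 : f = eX.hom ≫ (inv (DerivedCategory.Q.map s) ≫ DerivedCategory.Q.map g) ≫ eX'.inv := by
      rw [← hfac]; simp
    rw [h2]
    dsimp only [g0]
    simp only [Category.assoc, Iso.inv_hom_id_assoc, IsIso.hom_inv_id_assoc]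
    have h3 : DerivedCategory.Q.map (fromSingle Y b p) ≫ DerivedCategory.Q.map g = 0 := by
      rw [← Functor.map_comp, hfg, Functor.map_zero]
    rw [reassoc_of% h3, zero_comp]
  refine ⟨N, (DerivedCategory.singleFunctorIsoCompQ A b).hom.app N ≫ g0, ?_, ?_, ?_⟩
  · rw [Functor.map_comp]
    exact epi_comp _ _
  · intro φ
    -- H^b(X) ≅ H^b(Q Y) ≅ H^b(Y)
    let e : (DerivedCategory.homologyFunctor A b).obj X ≅ Y.homology b :=
      (DerivedCategory.homologyFunctor A b).mapIso (eX ≪≫ (asIso (DerivedCategory.Q.map s)).symm) ≪≫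
        (DerivedCategory.homologyFunctorFactors A b).app Y
    have h0 : piTop Y b ≫ e.inv ≫ φ = 0 := hN _
    have h1 : e.inv ≫ φ = 0 := by
      rw [← cancel_epi (piTop Y b), h0, comp_zero]
    rw [← cancel_epi e.inv, h1, comp_zero]
  · rw [Category.assoc, hg0f, comp_zero]


end helpers

open CategoryTheory.Limits in
/-- Let A be an abelian category in which every object X is the target of an epimorphism N ⟶ X with
Hom(X, N) = 0. Let f : X ⟶ X' be a morphism between bounded objects of D(A) and b an integer with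
H^i(X) = 0 for i > b and H^i(X') = 0 for i ≥ b. Then there exist an object N of A and a morphism
N⟦-b⟧ ⟶ X (N placed in degree b) inducing an epimorphism N ⟶ H^b(X), with Hom(H^b(X), N) = 0, and
whose composite with f is zero. -/
theorem result
    {A : Type u} [Category.{v} A] [Abelian A] [HasDerivedCategory.{w} A]
    (hneg : ∀ X : A, ∃ (N : A) (p : N ⟶ X), Epi p ∧ ∀ f : X ⟶ N, f = 0)
    (X X' : DerivedCategory A) (f : X ⟶ X') (a b a' : ℤ) [X.IsGE a] [X.IsLE b] [X'.IsGE a']
    [X'.IsLE (b - 1)] :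
    ∃ (N : A) (g : (DerivedCategory.singleFunctor A b).obj N ⟶ X),
      Epi ((DerivedCategory.homologyFunctor A b).map g) ∧
        (∀ φ : (DerivedCategory.homologyFunctor A b).obj X ⟶ N, φ = 0) ∧ g ≫ f = 0 := by
  exact main hneg X X' f a b a'

end Groth.Agent.S6707
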