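import Groth.Statements.S6708
import Mathlib

set_option autoImplicit false
universe v u
open CategoryTheory
open DEquiv

namespace Groth.Agent.S6708

set_option backward.defeqAttrib.useBackward true in
set_option backward.isDefEq.respectTransparency false in
open CategoryTheory.Limits CategoryTheory.Pretriangulated ZeroObject Category Preadditive in
/-- Let D be a pretriangulated category, D' ⊆ D a full triangulated subcategory (given as a property of
objects that is triangulated in Mathlib's sense) and X an object of D. Then the category of arrows E
⟶ X with E in D' is filtered. -/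
theorem result
    {D : Type u} [Category.{v} D] [Preadditive D] [HasZeroObject D] [HasShift D ℤ]
    [∀ n : ℤ, (shiftFunctor D n).Additive] [Pretriangulated D]
    (P : ObjectProperty D) [P.IsTriangulated] (X : D) :
    IsFiltered (CostructuredArrow P.ι X) := by
  have hne : Nonempty (CostructuredArrow P.ι X) := by
    obtain ⟨Z, hZ0, hZ⟩ := P.exists_prop_of_containsZero
    exact ⟨CostructuredArrow.mk (Y := (⟨Z, hZ⟩ : P.FullSubcategory)) (0 : Z ⟶ X)⟩
  have : IsFilteredOrEmpty (CostructuredArrow P.ι X) := by
    refine ⟨?_, ?_⟩
    · intro A B
      obtain ⟨Y, hY, ⟨e⟩⟩ := P.ext_of_isTriangulatedClosed₂' _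
        (binaryBiproductTriangle_distinguished A.left.obj B.left.obj) A.left.property
        B.left.property
      refine ⟨CostructuredArrow.mk (Y := (⟨Y, hY⟩ : P.FullSubcategory))
          (e.inv ≫ biprod.desc A.hom B.hom),
        CostructuredArrow.homMk (ObjectProperty.homMk (biprod.inl ≫ e.hom)) ?_,
        CostructuredArrow.homMk (ObjectProperty.homMk (biprod.inr ≫ e.hom)) ?_, trivial⟩
      · simp
      · simp
    · intro A B u v
      obtain ⟨C, hC, q, r, hT⟩ := P.distinguished_cocone_triangle (u.left.hom - v.left.hom)
        A.left.property B.left.property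
      have huv : (u.left.hom - v.left.hom) ≫ B.hom = 0 := by
        have h1 := CostructuredArrow.w u
        have h2 := CostructuredArrow.w v
        simp only [ObjectProperty.ι_map] at h1 h2
        rw [sub_comp, h1, h2, sub_self]
      obtain ⟨c', hc'⟩ := Triangle.yoneda_exact₂ _ hT B.hom huv
      refine ⟨CostructuredArrow.mk (Y := (⟨C, hC⟩ : P.FullSubcategory)) c',
        CostructuredArrow.homMk (ObjectProperty.homMk q) ?_, ?_⟩
      · simpa using hc'.symm
      · have h0 : (u.left.hom - v.left.hom) ≫ q = 0 := comp_distTriang_mor_zero₁₂ _ hT
        rw [sub_comp, sub_eq_zero] at h0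
        ext
        simpa using h0
  exact {}

end Groth.Agent.S6708
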