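import Groth.Statements.S6710
import Mathlib

set_option autoImplicit false
universe u v
open CategoryTheory
open FunMor

namespace Groth.Agent.S6710

section helpers

section L
variable {B : Type*} [CommRing B] [IsLocalRing B] {M' : Type*} [AddCommGroup M'] [Module B M']
  {N' : Type*} [AddCommGroup N'] [Module B N']

open IsLocalRing

/-- dropping a generator with unit coefficient in a relation -/
lemma span_succAbove {k : ℕ} (g : Fin (k+1) → M') (hg : Submodule.span B (Set.range g) = ⊤)
    (v : Fin (k+1) → B) (hv : ∑ i, v i • g i = 0) (i₀ : Fin (k+1)) (hu : IsUnit (v i₀)) :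
    Submodule.span B (Set.range (g ∘ i₀.succAbove)) = ⊤ := by
  rw [eq_top_iff, ← hg]
  refine Submodule.span_le.2 ?_
  rintro _ ⟨i, rfl⟩
  by_cases hi : i = i₀
  · subst hi
    obtain ⟨w, hw⟩ := hu.exists_left_inv
    rw [Fin.sum_univ_succAbove _ i] at hv
    have h1 : g i = - ∑ j, (w * v (i.succAbove j)) • g (i.succAbove j) := by
      have h2 : w • (v i • g i + ∑ j, v (i.succAbove j) • g (i.succAbove j)) = 0 := by
        rw [hv, smul_zero]
      rw [smul_add, smul_smul, hw, one_smul, Finset.smul_sum] at h2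
      simp only [smul_smul] at h2
      exact eq_neg_of_add_eq_zero_left h2
    rw [h1]
    refine Submodule.neg_mem _ (Submodule.sum_mem _ (fun j _ => Submodule.smul_mem _ _ ?_))
    exact Submodule.subset_span ⟨j, rfl⟩
  · obtain ⟨j, rfl⟩ := Fin.exists_succAbove_eq hi
    exact Submodule.subset_span ⟨j, rfl⟩

theorem claimL [Module.FinitePresentation B M'] [Nontrivial M'] (x' : N') (hx' : x' ≠ 0)
    (hnil : ∀ b ∈ maximalIdeal B, ∃ n : ℕ, b ^ n • x' = 0) :
    ∃ φ : M' →ₗ[B] N', φ ≠ 0 := by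
  classical
  have hex : ∃ r : ℕ, ∃ g : Fin r → M', Submodule.span B (Set.range g) = ⊤ :=
    Module.Finite.exists_fin (R := B) (M := M')
  obtain ⟨r, ⟨g, hg⟩, hminr⟩ : ∃ r, (∃ g : Fin r → M', Submodule.span B (Set.range g) = ⊤) ∧
      ∀ k < r, ¬ ∃ g' : Fin k → M', Submodule.span B (Set.range g') = ⊤ :=
    ⟨Nat.find hex, Nat.find_spec hex, fun k hk => Nat.find_min hex hk⟩
  -- r ≥ 1
  have hr1 : 0 < r := by
    by_contra h0
    have h0' : r = 0 := by omega
    have : (⊤ : Submodule B M') = ⊥ := by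
      rw [← hg, Submodule.span_eq_bot]
      rintro _ ⟨i, rfl⟩
      exact absurd i.2 (by omega)
    obtain ⟨y, hy⟩ := exists_ne (0 : M')
    have : y ∈ (⊥ : Submodule B M') := by rw [← this]; trivial
    exact hy ((Submodule.mem_bot B).1 this)
  let π : (Fin r → B) →ₗ[B] M' := Fintype.linearCombination B g
  have hπ : Function.Surjective π := by
    rw [← LinearMap.range_eq_top, Fintype.range_linearCombination, hg]
  have hKfg : (LinearMap.ker π).FG := Module.FinitePresentation.fg_ker π hπ
  -- relations have coefficients in the maximal ideal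
  have hKm : ∀ v ∈ LinearMap.ker π, ∀ i, v i ∈ maximalIdeal B := by
    intro v hv i
    by_contra hvi
    have hu : IsUnit (v i) := by
      by_contra hnu
      exact hvi ((mem_maximalIdeal _).2 hnu)
    rw [LinearMap.mem_ker, Fintype.linearCombination_apply] at hv
    obtain ⟨k, hk⟩ : ∃ k, r = k + 1 := ⟨r - 1, by omega⟩
    have hmin : ¬ ∃ g' : Fin k → M', Submodule.span B (Set.range g') = ⊤ :=
      hminr k (by omega)
    apply hmin
    subst hk
    exact ⟨g ∘ i.succAbove, span_succAbove g hg v hv i hu⟩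
  -- the ideal of coefficients
  let 𝔧 : Ideal B := ⨆ i : Fin r, Submodule.map (LinearMap.proj i : (Fin r → B) →ₗ[B] B) (LinearMap.ker π)
  have h𝔧fg : 𝔧.FG := Submodule.fg_iSup _ (fun i => hKfg.map _)
  have h𝔧mem : ∀ v ∈ LinearMap.ker π, ∀ i, v i ∈ 𝔧 := fun v hv i =>
    Submodule.mem_iSup_of_mem i ⟨v, hv, rfl⟩
  have h𝔧m : 𝔧 ≤ maximalIdeal B := by
    refine iSup_le (fun i => ?_)
    rintro _ ⟨v, hv, rfl⟩
    exact hKm v hv i
  let 𝔞 : Ideal B := (Submodule.span B {x'}).annihilator
  have h𝔞 : ∀ b, b ∈ 𝔞 ↔ b • x' = 0 := fun b => Submodule.mem_annihilator_span_singleton _ _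
  have hrad : 𝔧 ≤ 𝔞.radical := by
    intro b hb
    obtain ⟨n, hn⟩ := hnil b (h𝔧m hb)
    exact ⟨n, (h𝔞 _).2 hn⟩
  have hexe : ∃ e : ℕ, 𝔧 ^ e ≤ 𝔞 := Ideal.exists_pow_le_of_le_radical_of_fg hrad h𝔧fg
  have he0 : Nat.find hexe ≠ 0 := by
    intro h0
    have := Nat.find_spec hexe
    rw [h0, pow_zero, Ideal.one_eq_top] at this
    have h1 : (1 : B) ∈ 𝔞 := this trivial
    rw [h𝔞, one_smul] at h1
    exact hx' h1
  have hnot : ¬ 𝔧 ^ (Nat.find hexe - 1) ≤ 𝔞 := Nat.find_min hexe (by omega)
  obtain ⟨c, hc, hcx⟩ := SetLike.not_le_iff_exists.1 hnot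
  rw [h𝔞] at hcx
  let i₁ : Fin r := ⟨0, hr1⟩
  let ψ : (Fin r → B) →ₗ[B] N' := (LinearMap.toSpanSingleton B N' (c • x')) ∘ₗ (LinearMap.proj i₁)
  have hψ : LinearMap.ker π ≤ LinearMap.ker ψ := by
    intro v hv
    rw [LinearMap.mem_ker]
    simp only [ψ, LinearMap.comp_apply, LinearMap.proj_apply, LinearMap.toSpanSingleton_apply]
    rw [smul_smul, ← h𝔞]
    apply Nat.find_spec hexe
    have : Nat.find hexe = (Nat.find hexe - 1) + 1 := by omega
    rw [this, pow_succ']
    exact Ideal.mul_mem_mul (h𝔧mem v hv i₁) hc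
  let φ : M' →ₗ[B] N' := (Submodule.liftQ _ ψ hψ) ∘ₗ
    (LinearMap.quotKerEquivOfSurjective π hπ).symm.toLinearMap
  refine ⟨φ, ?_⟩
  intro hφ
  have h1 : φ (π (Pi.single i₁ 1)) = c • x' := by
    simp only [φ, LinearMap.comp_apply, LinearEquiv.coe_coe]
    have : (LinearMap.quotKerEquivOfSurjective π hπ).symm (π (Pi.single i₁ 1)) =
        Submodule.Quotient.mk (Pi.single i₁ 1) := by
      rw [LinearEquiv.symm_apply_eq]
      rfl
    rw [this, Submodule.liftQ_apply]
    simp [ψ, LinearMap.toSpanSingleton_apply]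
  rw [hφ, LinearMap.zero_apply] at h1
  exact hcx h1.symm

end L



theorem main6710 (A : Type u) [CommRing A] (M : Type v) [AddCommGroup M] [Module A M]
    [Module.FinitePresentation A M] (N : Type v) [AddCommGroup N] [Module A N] [Nontrivial N]
    (h : Module.support A N ⊆ Module.support A M) : Nontrivial (M →ₗ[A] N) := by
  obtain ⟨x, hx⟩ := exists_ne (0 : N)
  let 𝔞 : Ideal A := (Submodule.span A {x}).annihilator
  have h𝔞 : ∀ a, a ∈ 𝔞 ↔ a • x = 0 := fun a => Submodule.mem_annihilator_span_singleton _ _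
  have h𝔞top : 𝔞 ≠ ⊤ := by
    intro htop
    have h1 : (1 : A) ∈ 𝔞 := by rw [htop]; trivial
    rw [h𝔞, one_smul] at h1
    exact hx h1
  obtain ⟨⟨p, hpmin⟩⟩ := Ideal.nonempty_minimalPrimes h𝔞top
  have hpprime : p.IsPrime := hpmin.1.1
  have hle : 𝔞 ≤ p := hpmin.1.2
  have hpN : (⟨p, hpprime⟩ : PrimeSpectrum A) ∈ Module.support A N := by
    rw [Module.mem_support_iff_exists_annihilator]; exact ⟨x, hle⟩
  have hpM := h hpN
  rw [Module.mem_support_iff] at hpM
  let B := Localization.AtPrime p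
  let M' := LocalizedModule p.primeCompl M
  let N' := LocalizedModule p.primeCompl N
  let x' : N' := LocalizedModule.mk x 1
  have hx' : x' ≠ 0 := by
    intro h0
    have h1 : LocalizedModule.mk x (1 : p.primeCompl) = 0 := h0
    rw [← LocalizedModule.zero_mk (1 : p.primeCompl), LocalizedModule.mk_eq] at h1
    obtain ⟨s, hs⟩ := h1
    simp only [smul_zero, one_smul] at hs
    have : (s : A) ∈ 𝔞 := (h𝔞 _).2 hs
    exact s.2 (hle this)
  have hann : ∀ c ∈ 𝔞.map (algebraMap A B), c • x' = 0 := by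
    have : 𝔞.map (algebraMap A B) ≤ (Submodule.span B {x'}).annihilator := by
      rw [Ideal.map_le_iff_le_comap]
      intro a ha
      rw [Ideal.mem_comap, Submodule.mem_annihilator_span_singleton]
      show algebraMap A B a • LocalizedModule.mk x (1 : p.primeCompl) = 0
      rw [algebraMap_smul, LocalizedModule.smul'_mk, (h𝔞 a).1 ha, LocalizedModule.zero_mk]
    intro c hc
    exact (Submodule.mem_annihilator_span_singleton _ _).1 (this hc)
  have hnil : ∀ b ∈ IsLocalRing.maximalIdeal B, ∃ n : ℕ, b ^ n • x' = 0 := by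
    intro b hb
    rw [← Localization.AtPrime.map_eq_maximalIdeal,
      ← IsLocalization.AtPrime.radical_map_of_mem_minimalPrimes B p 𝔞 hpmin] at hb
    obtain ⟨n, hn⟩ := hb
    exact ⟨n, hann _ hn⟩
  obtain ⟨φ, hφ⟩ := claimL (B := B) (M' := M') x' hx' hnil
  let g : M →ₗ[A] N' := (φ.restrictScalars A) ∘ₗ LocalizedModule.mkLinearMap p.primeCompl M
  have hg : g ≠ 0 := by
    intro hg0
    apply hφ
    ext y
    induction y using LocalizedModule.induction_on with
    | h m s =>
      have h1 : LocalizedModule.mk m s = (Localization.mk 1 s : B) • LocalizedModule.mk m (1 : p.primeCompl) := by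
        rw [LocalizedModule.mk_smul_mk, one_smul, mul_one]
      rw [h1, map_smul]
      have h2 : φ (LocalizedModule.mk m (1 : p.primeCompl)) = g m := rfl
      rw [h2, hg0]
      simp
  obtain ⟨hh, s, hs⟩ := Module.FinitePresentation.exists_lift_of_isLocalizedModule p.primeCompl
    (LocalizedModule.mkLinearMap p.primeCompl N) g
  refine ⟨⟨hh, 0, ?_⟩⟩
  intro h0
  apply hg
  rw [h0, LinearMap.comp_zero] at hs
  ext m
  have h1 := DFunLike.congr_fun hs m
  simp only [LinearMap.zero_apply, LinearMap.smul_apply] at h1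
  exact LocalizedModule.eq_zero_of_smul_eq_zero (s : A) s.2 (g m) h1.symm


end helpers

/-- The statement for an affine scheme written in terms of modules: let A be a commutative ring, M a
finitely presented A-module and N a nonzero A-module with Supp(N) ⊆ Supp(M). Then Hom_A(M, N) is
nonzero. -/
theorem result
    (A : Type u) [CommRing A] (M : Type v) [AddCommGroup M] [Module A M]
    [Module.FinitePresentation A M] (N : Type v) [AddCommGroup N] [Module A N] [Nontrivial N]
    (h : Module.support A N ⊆ Module.support A M) : Nontrivial (M →ₗ[A] N) := by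
  exact main6710 A M N h

end Groth.Agent.S6710
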