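import Groth.Statements.S6715
import Mathlib
import Groth.Agent.Lib.Helper10.FPModColim
import Groth.Agent.Lib.Helper7.ModColim

set_option autoImplicit false
universe u v' u'
open CategoryTheory CategoryTheory.Limits
open FunMor

namespace Groth.Agent.S6715
section helpers
open Opposite
set_option linter.unusedSectionVars false
set_option autoImplicit false
open CategoryTheory CategoryTheory.Limits
open Groth.Agent.Helper10.FPModColim

section general
universe w v₁ v₂ u₁ u₂
variable {C : Type u₁} [Category.{v₁} C] {D : Type u₂} [Category.{v₂} D] (G : C ⥤ D)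
  {J : Type w} (f : J → C) [HasCoproduct f] [HasFiniteCoproducts C]
  [HasColimitsOfShape (Finset (Discrete J)) C]
  [PreservesColimitsOfShape (Finset (Discrete J)) G] [PreservesFiniteCoproducts G]

open CoproductsFromFiniteFiltered

/-- the finite subcoproduct -/
noncomputable abbrev subObj (S : Finset (Discrete J)) : C := ∐ fun x : S => f x.1.as

/-- the mapped finite cofan is colimit -/
noncomputable def hGS (S : Finset (Discrete J)) :
    IsColimit (G.mapCocone (Cofan.mk (subObj f S) (Sigma.ι fun x : S => f x.1.as))) :=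
  isColimitOfPreserves G (coproductIsCoproduct (fun x : S => f x.1.as))

/-- the mapped filtered cocone is colimit -/
noncomputable def hG : IsColimit (G.mapCocone (finiteSubcoproductsCocone f)) :=
  isColimitOfPreserves G (isColimitFiniteSubproductsCocone f)

theorem ι_cc (S : Finset (Discrete J)) (x : S) :
    Sigma.ι (fun x : S => f x.1.as) x ≫ (finiteSubcoproductsCocone f).ι.app S =
      Sigma.ι f x.1.as := by
  simp [finiteSubcoproductsCocone]


/-- the map out of the mapped finite subcoproduct -/
noncomputable def tS (s : Cocone (Discrete.functor f ⋙ G)) (S : Finset (Discrete J)) :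
    G.obj (subObj f S) ⟶ s.pt :=
  (hGS G f S).desc
    { pt := s.pt
      ι := Discrete.natTrans (fun x => s.ι.app x.as.1) }

theorem ι_tS (s : Cocone (Discrete.functor f ⋙ G)) (S : Finset (Discrete J)) (x : S) :
    G.map (Sigma.ι (fun x : S => f x.1.as) x) ≫ tS G f s S = s.ι.app x.1 :=
  (hGS G f S).fac _ ⟨x⟩

theorem tS_nat (s : Cocone (Discrete.functor f ⋙ G)) {S S' : Finset (Discrete J)} (h : S ⟶ S') :
    G.map ((liftToFinsetObj (Discrete.functor f)).map h) ≫ tS G f s S' = tS G f s S := by
  apply (hGS G f S).hom_ext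
  rintro ⟨x⟩
  have h1 : Sigma.ι (fun x : S => f x.1.as) x ≫ (liftToFinsetObj (Discrete.functor f)).map h =
      Sigma.ι (fun x : S' => f x.1.as) ⟨x.1, h.down.down x.2⟩ := by
    simp [liftToFinsetObj]
  have h2 : G.map (Sigma.ι (fun x : S => f x.1.as) x) ≫
      G.map ((liftToFinsetObj (Discrete.functor f)).map h) =
      G.map (Sigma.ι (fun x : S' => f x.1.as) ⟨x.1, h.down.down x.2⟩) :=
    (G.map_comp _ _).symm.trans (congrArg G.map h1)
  have h3 : G.map (Sigma.ι (fun x : S => f x.1.as) x) ≫
      (G.map ((liftToFinsetObj (Discrete.functor f)).map h) ≫ tS G f s S') = s.ι.app x.1 :=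
    (Category.assoc _ _ _).symm.trans
      ((congrArg (fun t => t ≫ tS G f s S') h2).trans (ι_tS G f s S' ⟨x.1, h.down.down x.2⟩))
  exact h3.trans (ι_tS G f s S x).symm

/-- the cocone over the filtered diagram -/
noncomputable def bigCocone (s : Cocone (Discrete.functor f ⋙ G)) :
    Cocone (liftToFinsetObj (Discrete.functor f) ⋙ G) where
  pt := s.pt
  ι :=
    { app := fun S => tS G f s S
      naturality := fun S S' h =>
        (tS_nat G f s h).trans (Category.comp_id _).symm }

theorem cc_desc (s : Cocone (Discrete.functor f ⋙ G)) (S : Finset (Discrete J)) :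
    G.map ((finiteSubcoproductsCocone f).ι.app S) ≫ (hG G f).desc (bigCocone G f s) = tS G f s S :=
  (hG G f).fac (bigCocone G f s) S

theorem map_ι_eq (S : Finset (Discrete J)) (x : S) :
    G.map (Sigma.ι (fun x : S => f x.1.as) x) ≫ G.map ((finiteSubcoproductsCocone f).ι.app S) =
      G.map (Sigma.ι f x.1.as) :=
  (G.map_comp _ _).symm.trans (congrArg G.map (ι_cc f S x))

/-- the mapped cofan is colimit -/
noncomputable def mapCofanIsColimit :
    IsColimit (G.mapCocone (Cofan.mk (∐ f) (Sigma.ι f))) where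
  desc s := (hG G f).desc (bigCocone G f s)
  fac s a := by
    obtain ⟨a⟩ := a
    have h1 := map_ι_eq G f {⟨a⟩} ⟨⟨a⟩, Finset.mem_singleton_self _⟩
    have h2 := cc_desc G f s {⟨a⟩}
    have h3 := ι_tS G f s {⟨a⟩} ⟨⟨a⟩, Finset.mem_singleton_self _⟩
    have h4 : G.map (Sigma.ι f a) ≫ (hG G f).desc (bigCocone G f s) = s.ι.app ⟨a⟩ :=
      (congrArg (fun t => t ≫ (hG G f).desc (bigCocone G f s)) h1).symm.trans
        ((Category.assoc _ _ _).trans ((congrArg (fun t => _ ≫ t) h2).trans h3))
    exact h4
  uniq s m hm := by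
    apply (hG G f).hom_ext
    intro S
    refine Eq.trans ?_ (cc_desc G f s S).symm
    apply (hGS G f S).hom_ext
    rintro ⟨x⟩
    have h1 := map_ι_eq G f S x
    have h3 := ι_tS G f s S x
    have h5 : G.map (Sigma.ι f x.1.as) ≫ m = s.ι.app x.1 := hm ⟨x.1.as⟩
    have h4 : G.map (Sigma.ι (fun x : S => f x.1.as) x) ≫
        (G.map ((finiteSubcoproductsCocone f).ι.app S) ≫ m) = s.ι.app x.1 :=
      (Category.assoc _ _ _).symm.trans ((congrArg (fun t => t ≫ m) h1).trans h5)
    exact h4.trans h3.symm

theorem preservesCoproduct : PreservesColimit (Discrete.functor f) G :=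
  preservesColimit_of_preserves_colimit_cocone (coproductIsCoproduct f) (mapCofanIsColimit G f)

end general

section mod
variable {A : Type u} [CommRing A]

/-- the comparison iso between the chosen colimit and `N` -/
noncomputable def eN (N : ModuleCat.{u} A) : colimit (diag A N) ≅ N :=
  (colimit.isColimit (diag A N)).coconePointUniqueUpToIso (cocone_isColimit A N).some

theorem ι_eN (N : ModuleCat.{u} A) (k : Idx A N) :
    colimit.ι (diag A N) k ≫ (eN N).hom = (cocone A N).ι.app k :=
  IsColimit.comp_coconePointUniqueUpToIso_hom _ _ _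

theorem exists_factor {N : ModuleCat.{u} A} (P : ModuleCat.{u} A) [Module.FinitePresentation A P]
    (h : P ⟶ N) : ∃ (j : Idx A N) (ψ : P ⟶ (diag A N).obj j), ψ ≫ (cocone A N).ι.app j = h := by
  obtain ⟨z, hz⟩ := Groth.Agent.Helper7.ModColim.surjective_post (diag A N) P (h ≫ (eN N).inv)
  obtain ⟨k, ψ, rfl⟩ := Types.jointly_surjective' z
  rw [Groth.Agent.Helper7.ModColim.post_ι_apply] at hz
  refine ⟨k, ψ, ?_⟩
  have h1 : ψ ≫ (cocone A N).ι.app k = ψ ≫ (colimit.ι (diag A N) k ≫ (eN N).hom) :=
    congrArg (fun t => ψ ≫ t) (ι_eN N k).symm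
  refine h1.trans ((Category.assoc _ _ _).symm.trans ?_)
  have h2 : (ψ ≫ colimit.ι (diag A N) k) ≫ (eN N).hom = (h ≫ (eN N).inv) ≫ (eN N).hom :=
    congrArg (fun t => t ≫ (eN N).hom) hz
  refine h2.trans ?_
  rw [Category.assoc, Iso.inv_hom_id, Category.comp_id]

theorem exists_factor₂ {N : ModuleCat.{u} A} (P : ModuleCat.{u} A) [Module.FinitePresentation A P]
    (h h' : P ⟶ N) : ∃ (j : Idx A N) (ψ ψ' : P ⟶ (diag A N).obj j),
      ψ ≫ (cocone A N).ι.app j = h ∧ ψ' ≫ (cocone A N).ι.app j = h' := by
  obtain ⟨j₁, ψ₁, h₁⟩ := exists_factor P h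
  obtain ⟨j₂, ψ₂, h₂⟩ := exists_factor P h'
  obtain ⟨l, hl₁, hl₂⟩ := exists_ge_ge j₁ j₂
  refine ⟨l, ψ₁ ≫ (diag A N).map (homOfLE hl₁), ψ₂ ≫ (diag A N).map (homOfLE hl₂), ?_, ?_⟩
  · rw [Category.assoc, (cocone A N).w, h₁]
  · rw [Category.assoc, (cocone A N).w, h₂]

variable {B : Type u'} [Category.{v'} B] [Preadditive B]
  (F' : ModuleCat.{u} A ⥤ B) [PreservesFilteredColimitsOfSize.{u, u} F']
  [(ObjectProperty.ι (fun M : ModuleCat.{u} A => Module.FinitePresentation A M) ⋙ F').Additive]

theorem map_add_fp {P Q : ModuleCat.{u} A} [Module.FinitePresentation A P]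
    [Module.FinitePresentation A Q] (ψ ψ' : P ⟶ Q) :
    F'.map (ψ + ψ') = F'.map ψ + F'.map ψ' := by
  let P' : ObjectProperty.FullSubcategory
      (fun M : ModuleCat.{u} A => Module.FinitePresentation A M) := ⟨P, inferInstance⟩
  let Q' : ObjectProperty.FullSubcategory
      (fun M : ModuleCat.{u} A => Module.FinitePresentation A M) := ⟨Q, inferInstance⟩
  exact (ObjectProperty.ι (fun M : ModuleCat.{u} A => Module.FinitePresentation A M) ⋙ F').map_add
    (f := (ObjectProperty.homMk ψ : P' ⟶ Q')) (g := (ObjectProperty.homMk ψ' : P' ⟶ Q'))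

theorem add_aux {Mi M N Nj : ModuleCat.{u} A} [Module.FinitePresentation A Mi]
    [Module.FinitePresentation A Nj] (lM : Mi ⟶ M) (lN : Nj ⟶ N) (f g : M ⟶ N) (ψ ψ' : Mi ⟶ Nj)
    (hψ : ψ ≫ lN = lM ≫ f) (hψ' : ψ' ≫ lN = lM ≫ g) :
    F'.map lM ≫ F'.map (f + g) = F'.map lM ≫ (F'.map f + F'.map g) := by
  rw [Preadditive.comp_add, ← F'.map_comp, ← F'.map_comp, ← F'.map_comp, Preadditive.comp_add,
    ← hψ, ← hψ', ← Preadditive.add_comp, F'.map_comp, F'.map_comp, F'.map_comp, map_add_fp,
    Preadditive.add_comp]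

theorem additive : F'.Additive := ⟨fun {M N} {f g} => by
  have hc : IsColimit (F'.mapCocone (cocone A M)) :=
    isColimitOfPreserves F' (cocone_isColimit A M).some
  apply hc.hom_ext
  intro i
  change F'.map ((cocone A M).ι.app i) ≫ F'.map (f + g) =
    F'.map ((cocone A M).ι.app i) ≫ (F'.map f + F'.map g)
  haveI : Module.FinitePresentation A ((diag A M).obj i) :=
    inferInstanceAs (Module.FinitePresentation A (Mi i))
  obtain ⟨j, ψ, ψ', hψ, hψ'⟩ := exists_factor₂ (N := N) ((diag A M).obj i)
    ((cocone A M).ι.app i ≫ f) ((cocone A M).ι.app i ≫ g)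
  haveI : Module.FinitePresentation A ((diag A N).obj j) :=
    inferInstanceAs (Module.FinitePresentation A (Mi j))
  exact add_aux F' _ _ f g ψ ψ' hψ hψ'⟩

end mod

theorem main6715
    (A : Type u) [CommRing A] {B : Type u'} [Category.{v'} B] [Preadditive B] [HasFiniteBiproducts B]
    [HasFilteredColimitsOfSize.{u, u} B]
    (F' : ModuleCat.{u} A ⥤ B) [PreservesFilteredColimitsOfSize.{u, u} F']
    [(ObjectProperty.ι (fun M : ModuleCat.{u} A => Module.FinitePresentation A M) ⋙ F').Additive] :
    F'.Additive ∧ ∀ J : Type u, PreservesColimitsOfShape (Discrete J) F' := by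
  haveI := additive F'
  refine ⟨inferInstance, fun J => ⟨fun {K} => ?_⟩⟩
  haveI : PreservesColimit (Discrete.functor (K.obj ∘ Discrete.mk)) F' :=
    preservesCoproduct F' (K.obj ∘ Discrete.mk)
  exact preservesColimit_of_iso_diagram F' (Discrete.natIsoFunctor (F := K)).symm


end helpers

/-- Let A be a commutative ring and B an additive category with filtered colimits. Let F' be a functor
from A-modules to B commuting with filtered colimits whose restriction to the full subcategory of
finitely presented A-modules is additive (F' is then the extension of that restriction). Then F' is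
additive and preserves all small direct sums. -/
theorem result
    (A : Type u) [CommRing A] {B : Type u'} [Category.{v'} B] [Preadditive B] [HasFiniteBiproducts B]
    [HasFilteredColimitsOfSize.{u, u} B]
    (F' : ModuleCat.{u} A ⥤ B) [PreservesFilteredColimitsOfSize.{u, u} F']
    [(ObjectProperty.ι (fun M : ModuleCat.{u} A => Module.FinitePresentation A M) ⋙ F').Additive] :
    F'.Additive ∧ ∀ J : Type u, PreservesColimitsOfShape (Discrete J) F' := by
  exact main6715 A F'

end Groth.Agent.S6715
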