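import Groth.Statements.S6725
import Mathlib

set_option autoImplicit false
universe u v' u'
open CategoryTheory CategoryTheory.Limits
open FunMor

namespace Groth.Agent.S6725
section helpers
open Opposite
set_option linter.unusedSectionVars false
set_option autoImplicit false
open CategoryTheory CategoryTheory.Limits

section partI
variable {A : Type u} [CommRing A] {B : Type u'} [Category.{v'} B] [Preadditive B]

/-- `Hom(K, Y)` as an `A`-module. -/
def HomK (K : B) (_κ : A →+* End K) (Y : B) : Type v' := K ⟶ Y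

variable (K : B) (κ : A →+* End K)

instance (Y : B) : AddCommGroup (HomK K κ Y) := inferInstanceAs (AddCommGroup (K ⟶ Y))

instance (Y : B) : Module A (HomK K κ Y) where
  smul a g := ((κ a : K ⟶ K) ≫ (g : K ⟶ Y) : K ⟶ Y)
  one_smul g := by
    change (κ 1 : K ⟶ K) ≫ (g : K ⟶ Y) = g
    rw [map_one]; exact Category.id_comp _
  mul_smul a b g := by
    change (κ (a * b) : K ⟶ K) ≫ (g : K ⟶ Y) = (κ a : K ⟶ K) ≫ ((κ b : K ⟶ K) ≫ (g : K ⟶ Y))
    rw [mul_comm, map_mul, End.mul_def, Category.assoc]
  smul_zero a := by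
    change (κ a : K ⟶ K) ≫ (0 : K ⟶ Y) = 0
    exact comp_zero
  smul_add a g h := by
    change (κ a : K ⟶ K) ≫ ((g : K ⟶ Y) + (h : K ⟶ Y)) = _
    exact Preadditive.comp_add _ _ _ _ _ _
  add_smul a b g := by
    change (κ (a + b) : K ⟶ K) ≫ (g : K ⟶ Y) = (κ a : K ⟶ K) ≫ (g : K ⟶ Y) + (κ b : K ⟶ K) ≫ (g : K ⟶ Y)
    rw [map_add]; exact Preadditive.add_comp _ _ _ _ _ _
  zero_smul g := by
    change (κ 0 : K ⟶ K) ≫ (g : K ⟶ Y) = 0
    rw [map_zero]; exact zero_comp

theorem smul_def {Y : B} (a : A) (g : HomK K κ Y) : a • g = ((κ a : K ⟶ K) ≫ (g : K ⟶ Y) : K ⟶ Y) := rfl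

/-- postcomposition -/
def post {Y Y' : B} (h : Y ⟶ Y') : HomK K κ Y →ₗ[A] HomK K κ Y' where
  toFun g := ((g : K ⟶ Y) ≫ h : K ⟶ Y')
  map_add' g g' := Preadditive.add_comp _ _ _ _ _ _
  map_smul' a g := by
    change ((κ a : K ⟶ K) ≫ (g : K ⟶ Y)) ≫ h = (κ a : K ⟶ K) ≫ ((g : K ⟶ Y) ≫ h)
    exact Category.assoc _ _ _

theorem post_apply {Y Y' : B} (h : Y ⟶ Y') (g : HomK K κ Y) : post K κ h g = ((g : K ⟶ Y) ≫ h : K ⟶ Y') := rfl

/-- a corepresenting object for `Y ↦ Hom_A(M, Hom(K,Y))` -/
structure Corep (M : Type u) [AddCommGroup M] [Module A M] where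
  obj : B
  eqv : ∀ Y : B, (obj ⟶ Y) ≃ (M →ₗ[A] HomK K κ Y)
  nat : ∀ {Y Y' : B} (g : obj ⟶ Y) (h : Y ⟶ Y'), eqv Y' (g ≫ h) = (post K κ h).comp (eqv Y g)




namespace Corep
variable {K κ}
variable {M : Type u} [AddCommGroup M] [Module A M] (c : Corep K κ M)

theorem eqv_zero (Y : B) : c.eqv Y 0 = 0 := by
  have := c.nat (𝟙 c.obj) (0 : c.obj ⟶ Y)
  rw [Category.id_comp] at this
  rw [this]
  ext x
  change ((c.eqv c.obj (𝟙 _) x : K ⟶ c.obj) ≫ (0 : c.obj ⟶ Y) : K ⟶ Y) = 0
  exact comp_zero

theorem eqv_symm_zero (Y : B) : (c.eqv Y).symm 0 = 0 := by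
  rw [Equiv.symm_apply_eq, eqv_zero]

theorem eqv_id_comp {Y : B} (g : c.obj ⟶ Y) :
    (post K κ g).comp (c.eqv c.obj (𝟙 _)) = c.eqv Y g := by
  rw [← c.nat, Category.id_comp]

/-- the induced map on corepresenting objects -/
def map {M' : Type u} [AddCommGroup M'] [Module A M'] (c' : Corep K κ M') (φ : M' →ₗ[A] M) :
    c'.obj ⟶ c.obj :=
  (c'.eqv c.obj).symm ((c.eqv c.obj (𝟙 _)).comp φ)

theorem eqv_map_comp {M' : Type u} [AddCommGroup M'] [Module A M'] (c' : Corep K κ M')
    (φ : M' →ₗ[A] M) {Y : B} (g : c.obj ⟶ Y) :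
    c'.eqv Y (map c c' φ ≫ g) = (c.eqv Y g).comp φ := by
  rw [c'.nat, map, Equiv.apply_symm_apply, ← LinearMap.comp_assoc, eqv_id_comp]

theorem map_id : map c c LinearMap.id = 𝟙 _ := by
  apply (c.eqv _).injective
  rw [map, Equiv.apply_symm_apply, LinearMap.comp_id]

theorem map_comp {M' M'' : Type u} [AddCommGroup M'] [Module A M'] [AddCommGroup M''] [Module A M'']
    (c' : Corep K κ M') (c'' : Corep K κ M'') (φ : M' →ₗ[A] M) (ψ : M'' →ₗ[A] M') :
    map c c'' (φ.comp ψ) = map c' c'' ψ ≫ map c c' φ := by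
  apply (c''.eqv _).injective
  rw [eqv_map_comp, map, Equiv.apply_symm_apply, map, Equiv.apply_symm_apply, LinearMap.comp_assoc]

theorem map_zero {M' : Type u} [AddCommGroup M'] [Module A M'] (c' : Corep K κ M') :
    map c c' (0 : M' →ₗ[A] M) = 0 := by
  rw [map, LinearMap.comp_zero, eqv_symm_zero]

/-- uniqueness -/
def uniqueIso (c₂ : Corep K κ M) : c.obj ≅ c₂.obj where
  hom := map c₂ c LinearMap.id
  inv := map c c₂ LinearMap.id
  hom_inv_id := by rw [← map_comp, LinearMap.comp_id, map_id]
  inv_hom_id := by rw [← map_comp, LinearMap.comp_id, map_id]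

end Corep




/-- `K` corepresents for `M = A` -/
def corepSelf : Corep K κ A where
  obj := K
  eqv Y :=
    { toFun := fun g => LinearMap.toSpanSingleton A (HomK K κ Y) g
      invFun := fun ψ => ψ 1
      left_inv := fun g => LinearMap.toSpanSingleton_apply_one A (HomK K κ Y) g
      right_inv := fun ψ => by
        apply LinearMap.ext_ring
        rw [LinearMap.toSpanSingleton_apply_one] }
  nat g h := by
    apply LinearMap.ext_ring
    change LinearMap.toSpanSingleton A (HomK K κ _) _ 1 = post K κ h (LinearMap.toSpanSingleton A (HomK K κ _) _ 1)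
    rw [LinearMap.toSpanSingleton_apply_one, LinearMap.toSpanSingleton_apply_one]
    rfl

theorem corepSelf_eqv_apply {Y : B} (g : K ⟶ Y) (x : A) :
    (corepSelf K κ).eqv Y g x = x • (show HomK K κ Y from g) := rfl

variable [HasFiniteBiproducts B]

/-- finite biproducts of `K` corepresent for free modules -/
noncomputable def corepFree (n : ℕ) : Corep K κ (Fin n → A) where
  obj := ⨁ (fun _ : Fin n => K)
  eqv Y :=
    ({ toFun := fun g j => (biproduct.ι (fun _ : Fin n => K) j ≫ g : K ⟶ Y)
       invFun := fun t => biproduct.desc t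
       left_inv := fun g => by
         apply biproduct.hom_ext'
         intro j
         simp
       right_inv := fun t => by
         funext j
         simp } : ((⨁ (fun _ : Fin n => K)) ⟶ Y) ≃ (Fin n → HomK K κ Y)).trans
      ((Pi.basisFun A (Fin n)).constr A).toEquiv
  nat g h := by
    apply (Pi.basisFun A (Fin n)).ext
    intro i
    simp only [Equiv.trans_apply, LinearEquiv.coe_toEquiv, Equiv.coe_fn_mk, LinearMap.comp_apply,
      Module.Basis.constr_basis, post_apply]
    exact (Category.assoc _ _ _).symm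




section coker
variable {K κ}
variable {M' M M'' : Type u} [AddCommGroup M'] [Module A M'] [AddCommGroup M] [Module A M]
  [AddCommGroup M''] [Module A M'']
  (φ : M' →ₗ[A] M) (π : M →ₗ[A] M'') (hπ : Function.Surjective π)
  (hex : LinearMap.ker π = LinearMap.range φ)

/-- descent of linear maps along `π` -/
noncomputable def descLin {N : Type*} [AddCommGroup N] [Module A N] (ψ : M →ₗ[A] N) (h : ψ.comp φ = 0) :
    M'' →ₗ[A] N :=
  ((LinearMap.ker π).liftQ ψ (by
    rw [hex]; rintro _ ⟨x, rfl⟩; exact LinearMap.congr_fun h x)).comp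
    (π.quotKerEquivOfSurjective hπ).symm.toLinearMap

theorem descLin_comp {N : Type*} [AddCommGroup N] [Module A N] (ψ : M →ₗ[A] N) (h : ψ.comp φ = 0) :
    (descLin φ π hπ hex ψ h).comp π = ψ := by
  ext x
  have h1 : (π.quotKerEquivOfSurjective hπ).symm (π x) = Submodule.Quotient.mk x := by
    rw [LinearEquiv.symm_apply_eq]
    rfl
  simp only [descLin, LinearMap.comp_apply, LinearEquiv.coe_coe, h1]
  rfl

include hπ in
theorem lin_ext {N : Type*} [AddCommGroup N] [Module A N] {a b : M'' →ₗ[A] N}
    (h : a.comp π = b.comp π) : a = b := by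
  ext y
  obtain ⟨x, rfl⟩ := hπ y
  exact LinearMap.congr_fun h x

include hex in
theorem π_comp_φ : π.comp φ = 0 := by
  ext x
  have : φ x ∈ LinearMap.ker π := by rw [hex]; exact ⟨x, rfl⟩
  exact this

variable [HasCokernels B] (c' : Corep K κ M') (c : Corep K κ M)

/-- corepresentability passes to cokernels -/
noncomputable def corepCoker : Corep K κ M'' where
  obj := cokernel (Corep.map c c' φ)
  eqv Y :=
    { toFun := fun g' => descLin φ π hπ hex (c.eqv Y (cokernel.π _ ≫ g')) (by
        rw [← Corep.eqv_map_comp, cokernel.condition_assoc, zero_comp, Corep.eqv_zero])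
      invFun := fun ψ'' => cokernel.desc _ ((c.eqv Y).symm (ψ''.comp π)) (by
        apply (c'.eqv Y).injective
        rw [Corep.eqv_map_comp, Equiv.apply_symm_apply, Corep.eqv_zero, LinearMap.comp_assoc,
          π_comp_φ φ π hex, LinearMap.comp_zero])
      left_inv := fun g' => by
        apply coequalizer.hom_ext
        simp only [cokernel.π_desc]
        rw [descLin_comp, Equiv.symm_apply_apply]
      right_inv := fun ψ'' => by
        apply lin_ext π hπ
        rw [descLin_comp]
        simp only [cokernel.π_desc]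
        rw [Equiv.apply_symm_apply] }
  nat g' h := by
    apply lin_ext π hπ
    simp only [Equiv.coe_fn_mk]
    rw [descLin_comp, LinearMap.comp_assoc, descLin_comp, ← c.nat, Category.assoc]

theorem corepCoker_eqv_comp {Y : B} (g' : cokernel (Corep.map c c' φ) ⟶ Y) :
    ((corepCoker φ π hπ hex c' c).eqv Y g').comp π = c.eqv Y (cokernel.π _ ≫ g') := by
  exact descLin_comp φ π hπ hex (c.eqv Y (cokernel.π _ ≫ g')) (by
    rw [← Corep.eqv_map_comp, cokernel.condition_assoc, zero_comp, Corep.eqv_zero])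

end coker




theorem exists_corep [HasCokernels B] (M : Type u) [AddCommGroup M] [Module A M]
    [Module.FinitePresentation A M] : Nonempty (Corep K κ M) := by
  obtain ⟨n, p, hp⟩ := Module.Finite.exists_fin' A M
  have hfg : (LinearMap.ker p).FG := Module.FinitePresentation.fg_ker p hp
  obtain ⟨m, s, hs⟩ := Submodule.fg_iff_exists_fin_generating_family.1 hfg
  let φ : (Fin m → A) →ₗ[A] (Fin n → A) := Fintype.linearCombination A s
  have hφ : LinearMap.range φ = LinearMap.ker p := by
    rw [Fintype.range_linearCombination, hs]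
  exact ⟨corepCoker φ p hp hφ.symm (corepFree K κ m) (corepFree K κ n)⟩

end partI


section partII
variable (A : Type u) [CommRing A]

/-- finitely presented modules -/
abbrev FP : Type (u+1) :=
  ObjectProperty.FullSubcategory (fun M : ModuleCat.{u} A => Module.FinitePresentation A M)

variable {A}

instance (M : FP A) : Module.FinitePresentation A M.obj := M.property

/-- constructor -/
abbrev FP.mk' (M : Type u) [AddCommGroup M] [Module A M] [Module.FinitePresentation A M] : FP A :=
  ⟨ModuleCat.of A M, inferInstanceAs (Module.FinitePresentation A M)⟩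

instance : HasZeroObject (FP A) := by
  refine ⟨⟨FP.mk' PUnit, ?_⟩⟩
  apply IsZero.of_full_of_faithful_of_isZero (ObjectProperty.ι _)
  have : Subsingleton (ModuleCat.of A PUnit.{u+1}) := inferInstanceAs (Subsingleton PUnit.{u+1})
  exact ModuleCat.isZero_of_subsingleton (ModuleCat.of A PUnit.{u+1})

example : Preadditive (FP A) := inferInstance





/-- binary bicone in `FP A` -/
def biconeFP (M N : FP A) : BinaryBicone M N where
  pt := FP.mk' (M.obj × N.obj)
  fst := ObjectProperty.homMk (ModuleCat.ofHom (LinearMap.fst A M.obj N.obj))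
  snd := ObjectProperty.homMk (ModuleCat.ofHom (LinearMap.snd A M.obj N.obj))
  inl := ObjectProperty.homMk (ModuleCat.ofHom (LinearMap.inl A M.obj N.obj))
  inr := ObjectProperty.homMk (ModuleCat.ofHom (LinearMap.inr A M.obj N.obj))
  inl_fst := by ext; rfl
  inl_snd := by ext; rfl
  inr_fst := by ext; rfl
  inr_snd := by ext; rfl

instance : HasBinaryBiproducts (FP A) :=
  ⟨fun M N => hasBinaryBiproduct_of_total (biconeFP M N) (by
    ext x
    obtain ⟨a, b⟩ := x
    change ((a, 0) + (0, b) : M.obj × N.obj) = (a, b)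
    simp)⟩





theorem fp_quot {M N : FP A} (f : M ⟶ N) :
    Module.FinitePresentation A (N.obj ⧸ LinearMap.range f.hom.hom) := by
  refine Module.finitePresentation_of_surjective (Submodule.mkQ _) (Submodule.mkQ_surjective _) ?_
  rw [Submodule.ker_mkQ, LinearMap.range_eq_map]
  exact (Module.Finite.fg_top).map _

/-- the cokernel object -/
def cokObj {M N : FP A} (f : M ⟶ N) : FP A :=
  ⟨ModuleCat.of A (N.obj ⧸ LinearMap.range f.hom.hom), fp_quot f⟩

/-- the projection -/
def cokπ {M N : FP A} (f : M ⟶ N) : N ⟶ cokObj f :=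
  ObjectProperty.homMk (ModuleCat.ofHom (Submodule.mkQ _))

theorem cok_w {M N : FP A} (f : M ⟶ N) : f ≫ cokπ f = 0 := by
  ext x
  change Submodule.Quotient.mk (f.hom.hom x) = (0 : N.obj ⧸ LinearMap.range f.hom.hom)
  rw [Submodule.Quotient.mk_eq_zero]
  exact ⟨x, rfl⟩

theorem cokπ_surj {M N : FP A} (f : M ⟶ N) : Function.Surjective (cokπ f).hom.hom :=
  Submodule.mkQ_surjective _

theorem cokπ_ker {M N : FP A} (f : M ⟶ N) :
    LinearMap.ker (cokπ f).hom.hom = LinearMap.range f.hom.hom :=
  Submodule.ker_mkQ _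

/-- the cokernel cofork is colimit -/
def cokIsColimit {M N : FP A} (f : M ⟶ N) : IsColimit (CokernelCofork.ofπ (cokπ f) (cok_w f)) :=
  CokernelCofork.IsColimit.ofπ _ _
    (fun {T} g hg => ObjectProperty.homMk (ModuleCat.ofHom
      ((LinearMap.range f.hom.hom).liftQ g.hom.hom (by
        rintro _ ⟨x, rfl⟩
        have := congrArg (fun t : M ⟶ T => t.hom.hom x) hg
        exact this))))
    (fun g hg => by ext x; rfl)
    (fun g hg m hm => by
      ext x
      obtain ⟨y, rfl⟩ := cokπ_surj f x
      have := congrArg (fun t : N ⟶ _ => t.hom.hom y) hm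
      exact this)

instance : HasCokernels (FP A) :=
  ⟨fun f => ⟨⟨⟨_, cokIsColimit f⟩⟩⟩⟩

instance : HasCoequalizers (FP A) := Preadditive.hasCoequalizers_of_hasCokernels

instance : HasFiniteCoproducts (FP A) := hasFiniteCoproducts_of_has_binary_and_initial

end partII



section partIII
variable {A : Type u} [CommRing A] {B : Type u'} [Category.{v'} B] [Preadditive B]
  [HasFiniteBiproducts B] [HasCokernels B] (K : B) (κ : A →+* End K)

/-- chosen corepresenting data -/
noncomputable def cor (M : FP A) : Corep K κ M.obj := Classical.choice (exists_corep K κ M.obj)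

/-- the functor -/
noncomputable def FF : FP A ⥤ B where
  obj M := (cor K κ M).obj
  map {M N} f := Corep.map (cor K κ N) (cor K κ M) f.hom.hom
  map_id _ := Corep.map_id _
  map_comp _ _ := Corep.map_comp _ _ _ _ _

theorem FF_eqv {M N : FP A} (f : M ⟶ N) {Y : B} (g : (FF K κ).obj N ⟶ Y) :
    (cor K κ M).eqv Y ((FF K κ).map f ≫ g) = ((cor K κ N).eqv Y g).comp f.hom.hom :=
  Corep.eqv_map_comp _ _ _ _

/-- the unit object -/
abbrev AA : FP A := ⟨ModuleCat.of A A, inferInstance⟩

/-- the identification `F(A) ≅ K` -/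
noncomputable def ee : (FF K κ).obj (AA : FP A) ≅ K :=
  Corep.uniqueIso (cor K κ (AA : FP A)) (corepSelf K κ : Corep K κ (ModuleCat.of A A))

theorem ee_compat (a : A) :
    (FF K κ).map (ObjectProperty.homMk (ModuleCat.ofHom (LinearMap.lsmul A A a)) : (AA : FP A) ⟶ AA) ≫
      (ee K κ).hom = (ee K κ).hom ≫ κ a := by
  apply ((cor K κ (AA : FP A)).eqv K).injective
  have hL := FF_eqv K κ (ObjectProperty.homMk (ModuleCat.ofHom (LinearMap.lsmul A A a)) : (AA : FP A) ⟶ AA)
    (ee K κ).hom
  have hR := (cor K κ (AA : FP A)).nat (ee K κ).hom (κ a : K ⟶ K)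
  refine hL.trans (Eq.trans ?_ hR.symm)
  have h1 : (cor K κ (AA : FP A)).eqv K (ee K κ).hom =
      (corepSelf K κ).eqv K (𝟙 K) := by
    have := Equiv.apply_symm_apply ((cor K κ (AA : FP A)).eqv (corepSelf K κ).obj)
      (((corepSelf K κ).eqv (corepSelf K κ).obj (𝟙 _)).comp LinearMap.id)
    exact this.trans (LinearMap.comp_id _)
  rw [h1]
  apply LinearMap.ext_ring
  change (corepSelf K κ).eqv K (𝟙 K) (a • (1 : A)) = post K κ (κ a) ((corepSelf K κ).eqv K (𝟙 K) 1)
  rw [corepSelf_eqv_apply, corepSelf_eqv_apply, post_apply, smul_eq_mul, mul_one, smul_def, smul_def,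
    map_one]
  change (κ a : K ⟶ K) ≫ 𝟙 K = ((𝟙 K : K ⟶ K) ≫ 𝟙 K) ≫ (κ a : K ⟶ K)
  simp

end partIII


section partIV
variable {A : Type u} [CommRing A] {B : Type u'} [Category.{v'} B] [Preadditive B]
  [HasFiniteBiproducts B] [HasCokernels B] (K : B) (κ : A →+* End K)

instance : (FF K κ).PreservesZeroMorphisms := ⟨fun _ _ => Corep.map_zero _ _⟩

theorem psi_comp_zero {M N : FP A} (f : M ⟶ N) {Y : B} (g : (FF K κ).obj N ⟶ Y)
    (hg : (FF K κ).map f ≫ g = 0) : ((cor K κ N).eqv Y g).comp f.hom.hom = 0 := by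
  exact (FF_eqv K κ f g).symm.trans ((congrArg _ hg).trans (Corep.eqv_zero _ _))

/-- the mapped cofork is colimit -/
noncomputable def mapCokIsColimit {M N : FP A} (f : M ⟶ N) :
    IsColimit (CokernelCofork.ofπ ((FF K κ).map (cokπ f))
      (by rw [← Functor.map_comp, cok_w, Functor.map_zero]) : Cofork ((FF K κ).map f) 0) :=
  CokernelCofork.IsColimit.ofπ _ _
    (fun {Y} g hg => ((cor K κ (cokObj f)).eqv Y).symm
      (descLin f.hom.hom (cokπ f).hom.hom (cokπ_surj f) (cokπ_ker f) ((cor K κ N).eqv Y g)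
        (psi_comp_zero K κ f g hg)))
    (fun {Y} g hg => by
      apply ((cor K κ N).eqv Y).injective
      refine (FF_eqv K κ (cokπ f) _).trans ?_
      rw [Equiv.apply_symm_apply, descLin_comp])
    (fun {Y} g hg m hm => by
      refine (Equiv.eq_symm_apply ((cor K κ (cokObj f)).eqv Y)).2 ?_
      apply lin_ext (cokπ f).hom.hom (cokπ_surj f)
      refine Eq.trans ?_ (descLin_comp _ _ _ _ _ _).symm
      exact (FF_eqv K κ (cokπ f) m).symm.trans (congrArg _ hm))

instance preserves_cok {M N : FP A} (f : M ⟶ N) : PreservesColimit (parallelPair f 0) (FF K κ) :=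
  preservesColimit_of_preserves_colimit_cocone (cokIsColimit f)
    ((isColimitMapCoconeCoforkEquiv' (FF K κ) (cok_w f)).symm (mapCokIsColimit K κ f))

instance : HasZeroObject B := hasZeroObject_of_hasFiniteBiproducts B

instance : PreservesFiniteColimits (FF K κ) :=
  Functor.preservesFiniteColimits_of_preservesCokernels _

end partIV

theorem main6725
    (A : Type u) [CommRing A] {B : Type u'} [Category.{v'} B] [Preadditive B] [HasFiniteBiproducts B]
    [HasCokernels B] (K : B) (κ : A →+* End K) :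
    ∃ (F : (ObjectProperty.FullSubcategory (fun M : ModuleCat.{u} A => Module.FinitePresentation A M)) ⥤ B) (_ : PreservesFiniteColimits F)
      (e : F.obj (⟨ModuleCat.of A A, inferInstance⟩ : (ObjectProperty.FullSubcategory (fun M : ModuleCat.{u} A => Module.FinitePresentation A M))) ≅ K),
      ∀ a : A, F.map (ObjectProperty.homMk (ModuleCat.ofHom (LinearMap.lsmul A A a)) : (⟨ModuleCat.of A A, inferInstance⟩ : (ObjectProperty.FullSubcategory (fun M : ModuleCat.{u} A => Module.FinitePresentation A M))) ⟶ (⟨ModuleCat.of A A, inferInstance⟩ : (ObjectProperty.FullSubcategory (fun M : ModuleCat.{u} A => Module.FinitePresentation A M)))) ≫ e.hom = e.hom ≫ κ a :=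
  ⟨FF K κ, inferInstance, ee K κ, ee_compat K κ⟩


end helpers

/-- Essential surjectivity of the functor F ↦ (F(A), induced A-action): let A be a commutative ring and
B an additive category with cokernels. For every object K of B and ring map κ : A → End(K) there
exist a right exact functor F from the category of finitely presented A-modules to B and an
isomorphism F(A) ≅ K carrying F(multiplication by a) to κ(a) for every a ∈ A. -/
theorem result
    (A : Type u) [CommRing A] {B : Type u'} [Category.{v'} B] [Preadditive B] [HasFiniteBiproducts B]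
    [HasCokernels B] (K : B) (κ : A →+* End K) :
    ∃ (F : (ObjectProperty.FullSubcategory (fun M : ModuleCat.{u} A => Module.FinitePresentation A M)) ⥤ B) (_ : PreservesFiniteColimits F)
      (e : F.obj (⟨ModuleCat.of A A, inferInstance⟩ : (ObjectProperty.FullSubcategory (fun M : ModuleCat.{u} A => Module.FinitePresentation A M))) ≅ K),
      ∀ a : A, F.map (ObjectProperty.homMk (ModuleCat.ofHom (LinearMap.lsmul A A a)) : (⟨ModuleCat.of A A, inferInstance⟩ : (ObjectProperty.FullSubcategory (fun M : ModuleCat.{u} A => Module.FinitePresentation A M))) ⟶ (⟨ModuleCat.of A A, inferInstance⟩ : (ObjectProperty.FullSubcategory (fun M : ModuleCat.{u} A => Module.FinitePresentation A M)))) ≫ e.hom = e.hom ≫ κ a := by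
  exact main6725 A K κ

end Groth.Agent.S6725
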