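import Groth.Statements.S6726
import Mathlib
import Groth.Agent.S6725

set_option autoImplicit false
universe u v' u'
open CategoryTheory CategoryTheory.Limits
open FunMor

namespace Groth.Agent.S6726
section helpers
open Opposite
set_option linter.unusedSectionVars false
set_option autoImplicit false
open CategoryTheory CategoryTheory.Limits
open Groth.Agent.S6725

section
variable {A : Type u} [CommRing A] {B : Type u'} [Category.{v'} B] [Preadditive B]
  [HasFiniteBiproducts B] [HasCokernels B]

instance hzB : HasZeroObject B := hasZeroObject_of_hasFiniteBiproducts B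

theorem additive_of_rex (F : FP A ⥤ B) [PreservesFiniteColimits F] : F.Additive :=
  (additiveFunctor_iff F).1 (rightExactFunctor_le_additiveFunctor _ _ F
    ((rightExactFunctor_iff F).2 inferInstance))

/-- `ρ_x : A → M` -/
def rho {M : FP A} (x : M.obj) : (AA : FP A) ⟶ M :=
  ObjectProperty.homMk (ModuleCat.ofHom (LinearMap.toSpanSingleton A M.obj x))

/-- multiplication by `a` -/
def mulA (a : A) : (AA : FP A) ⟶ AA :=
  ObjectProperty.homMk (ModuleCat.ofHom (LinearMap.lsmul A A a))

theorem fp_add_hom {M N : FP A} (f g : M ⟶ N) : (f + g).hom = f.hom + g.hom := rfl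

theorem rho_add {M : FP A} (x y : M.obj) : rho (x + y) = rho x + rho y := by
  ext
  simp [rho, fp_add_hom]

theorem rho_smul {M : FP A} (a : A) (x : M.obj) : rho (a • x) = mulA a ≫ rho x := by
  ext
  simp [rho, mulA]

theorem rho_comp {M N : FP A} (f : M ⟶ N) (x : M.obj) : rho x ≫ f = rho (f.hom.hom x) := by
  ext
  simp [rho]

theorem rho_one : rho (1 : (AA : FP A).obj) = 𝟙 _ := by
  ext
  simp [rho]

theorem rho_A (a : (AA : FP A).obj) : rho a = mulA (A := A) a := by
  ext
  simp [rho, mulA]


theorem mulA_one : mulA (1 : A) = 𝟙 _ := by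
  ext
  simp [mulA]

theorem mulA_mul (a b : A) : mulA (a * b) = mulA b ≫ mulA a := by
  ext
  simp [mulA]

theorem mulA_zero : mulA (0 : A) = 0 := by
  ext
  simp [mulA]

theorem mulA_add (a b : A) : mulA (a + b) = mulA a + mulA b := by
  ext
  simp [mulA, fp_add_hom]

variable (F : FP A ⥤ B) [PreservesFiniteColimits F]

/-- the action of `A` on `F(A)` -/
def kap : A →+* End (F.obj (AA : FP A)) where
  toFun a := F.map (mulA a)
  map_one' := by rw [mulA_one, F.map_id]; rfl
  map_mul' a b := by rw [End.mul_def, ← F.map_comp, ← mulA_mul]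
  map_zero' := by
    have := additive_of_rex F
    rw [mulA_zero, F.map_zero]
  map_add' a b := by
    have := additive_of_rex F
    rw [mulA_add, F.map_add]

/-- the comparison map -/
def Phi (M : FP A) (Y : B) (g : F.obj M ⟶ Y) : M.obj →ₗ[A] HomK (F.obj AA) (kap F) Y where
  toFun x := (F.map (rho x) ≫ g : F.obj AA ⟶ Y)
  map_add' x y := by
    have := additive_of_rex F
    rw [rho_add, F.map_add, Preadditive.add_comp]
    rfl
  map_smul' a x := by
    rw [rho_smul, F.map_comp, Category.assoc]
    rfl

theorem Phi_apply (M : FP A) (Y : B) (g : F.obj M ⟶ Y) (x : M.obj) :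
    Phi F M Y g x = (F.map (rho x) ≫ g : F.obj AA ⟶ Y) := rfl

theorem Phi_nat (M : FP A) {Y Y' : B} (g : F.obj M ⟶ Y) (h : Y ⟶ Y') :
    Phi F M Y' (g ≫ h) = (post _ (kap F) h).comp (Phi F M Y g) := by
  ext x
  exact (Category.assoc _ _ _).symm

theorem Phi_map {M N : FP A} (f : M ⟶ N) {Y : B} (g : F.obj N ⟶ Y) :
    Phi F M Y (F.map f ≫ g) = (Phi F N Y g).comp f.hom.hom := by
  ext x
  change F.map (rho x) ≫ F.map f ≫ g = F.map (rho (f.hom.hom x)) ≫ g
  rw [← rho_comp, F.map_comp, Category.assoc]

theorem Phi_AA_bij (Y : B) : Function.Bijective (Phi F (AA : FP A) Y) := by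
  constructor
  · intro g g' h
    have := LinearMap.congr_fun h (1 : A)
    rw [Phi_apply, Phi_apply, rho_one, F.map_id] at this
    exact (Category.id_comp g).symm.trans (this.trans (Category.id_comp g'))
  · intro ψ
    refine ⟨(ψ (1 : A) : F.obj AA ⟶ Y), ?_⟩
    apply LinearMap.ext_ring
    rw [Phi_apply, rho_one, F.map_id]
    exact Category.id_comp _


/-- free module of rank `n` -/
abbrev FreeN (n : ℕ) : FP A := FP.mk' (Fin n → A)

/-- the inclusions -/
def inj (n : ℕ) (j : Fin n) : (AA : FP A) ⟶ FreeN n :=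
  ObjectProperty.homMk (ModuleCat.ofHom (LinearMap.single A (fun _ : Fin n => A) j))

theorem rho_single (n : ℕ) (j : Fin n) :
    rho (M := (FreeN n : FP A)) (Pi.single j (1 : A)) = inj n j := by
  ext
  simp [rho, inj]

/-- the cofan of inclusions -/
def cofanFree (n : ℕ) : Cofan (fun _ : Fin n => (AA : FP A)) := Cofan.mk (FreeN n) (inj n)

/-- it is a coproduct -/
def cofanFreeIsColimit (n : ℕ) : IsColimit (cofanFree (A := A) n) :=
  mkCofanColimit _
    (fun s => ObjectProperty.homMk (ModuleCat.ofHom
      (∑ j : Fin n, (s.inj j).hom.hom ∘ₗ LinearMap.proj j)))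
    (fun s j => by
      ext
      change (∑ k : Fin n, (s.inj k).hom.hom ∘ₗ LinearMap.proj k)
        (Pi.single j (1 : A)) = (s.inj j).hom.hom 1
      rw [LinearMap.sum_apply, Finset.sum_eq_single j]
      · simp
      · intro k _ hk
        simp [hk]
      · intro h; exact absurd (Finset.mem_univ j) h)
    (fun s m hm => by
      ext1
      ext1
      apply LinearMap.pi_ext'
      intro j
      apply LinearMap.ext_ring
      have h1 := congrArg (fun t : (AA : FP A) ⟶ s.pt => t.hom.hom (1 : A)) (hm j)
      change m.hom.hom (Pi.single j (1 : A)) = (s.inj j).hom.hom 1 at h1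
      change m.hom.hom (Pi.single j (1 : A)) = (∑ k : Fin n, (s.inj k).hom.hom ∘ₗ LinearMap.proj k)
        (Pi.single j (1 : A))
      rw [h1, LinearMap.sum_apply, Finset.sum_eq_single j]
      · simp
      · intro k _ hk
        simp [hk]
      · intro h; exact absurd (Finset.mem_univ j) h)

theorem Phi_free_bij (n : ℕ) (Y : B) : Function.Bijective (Phi F (FreeN n : FP A) Y) := by
  have hc : IsColimit (F.mapCocone (cofanFree (A := A) n)) :=
    isColimitOfPreserves F (cofanFreeIsColimit n)
  constructor
  · intro g g' h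
    apply hc.hom_ext
    rintro ⟨j⟩
    have := LinearMap.congr_fun h (Pi.single j (1 : A))
    rw [Phi_apply, Phi_apply, rho_single] at this
    exact this
  · intro ψ
    let s : Cocone ((Discrete.functor fun _ : Fin n => (AA : FP A)) ⋙ F) :=
      { pt := Y
        ι := Discrete.natTrans (fun j => (ψ (Pi.single j.as (1 : A)) : F.obj AA ⟶ Y)) }
    refine ⟨hc.desc s, ?_⟩
    apply (Pi.basisFun A (Fin n)).ext
    intro j
    rw [Pi.basisFun_apply, Phi_apply, rho_single]
    exact hc.fac s ⟨j⟩


theorem w_of_hex {M N Q : FP A} (f : M ⟶ N) (π : N ⟶ Q)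
    (hex : LinearMap.ker π.hom.hom = LinearMap.range f.hom.hom) : f ≫ π = 0 := by
  ext x
  have : f.hom.hom x ∈ LinearMap.ker π.hom.hom := by rw [hex]; exact ⟨x, rfl⟩
  exact this

/-- general cokernel colimit -/
noncomputable def cokIsColimit' {M N Q : FP A} (f : M ⟶ N) (π : N ⟶ Q)
    (hπ : Function.Surjective π.hom.hom)
    (hex : LinearMap.ker π.hom.hom = LinearMap.range f.hom.hom) (w : f ≫ π = 0) :
    IsColimit (CokernelCofork.ofπ π w) :=
  CokernelCofork.IsColimit.ofπ _ _
    (fun {T} g hg => ObjectProperty.homMk (ModuleCat.ofHom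
      (descLin f.hom.hom π.hom.hom hπ hex g.hom.hom (by
        ext x
        exact congrArg (fun t : M ⟶ T => t.hom.hom x) hg))))
    (fun {T} g hg => by
      ext x
      exact LinearMap.congr_fun (descLin_comp f.hom.hom π.hom.hom hπ hex g.hom.hom (by
        ext x
        exact congrArg (fun t : M ⟶ T => t.hom.hom x) hg)) x)
    (fun {T} g hg m hm => by
      ext y
      obtain ⟨x, rfl⟩ := hπ y
      have h1 := congrArg (fun t : N ⟶ T => t.hom.hom x) hm
      have h2 := LinearMap.congr_fun (descLin_comp f.hom.hom π.hom.hom hπ hex g.hom.hom (by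
        ext x
        exact congrArg (fun t : M ⟶ T => t.hom.hom x) hg)) x
      exact h1.trans h2.symm)

theorem Phi_zero (M : FP A) (Y : B) : Phi F M Y 0 = 0 := by
  ext x
  change F.map (rho x) ≫ (0 : F.obj M ⟶ Y) = 0
  exact comp_zero

theorem Phi_cok_bij {M N Q : FP A} (f : M ⟶ N) (π : N ⟶ Q) (hπ : Function.Surjective π.hom.hom)
    (hex : LinearMap.ker π.hom.hom = LinearMap.range f.hom.hom) (Y : B)
    (hM : Function.Injective (Phi F M Y)) (hN : Function.Bijective (Phi F N Y)) :
    Function.Bijective (Phi F Q Y) := by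
  have w : f ≫ π = 0 := w_of_hex f π hex
  have hc := isColimitCoforkMapOfIsColimit' F w (cokIsColimit' f π hπ hex w)
  constructor
  · intro g g' h
    apply Cofork.IsColimit.hom_ext hc
    change F.map π ≫ g = F.map π ≫ g'
    apply hN.1
    rw [Phi_map, Phi_map, h]
  · intro ψ
    obtain ⟨g, hg⟩ := hN.2 (ψ.comp π.hom.hom)
    have hz : F.map f ≫ g = 0 := by
      apply hM
      rw [Phi_map, hg, LinearMap.comp_assoc, π_comp_φ f.hom.hom π.hom.hom hex, LinearMap.comp_zero,
        Phi_zero]
    obtain ⟨l, hl⟩ := CokernelCofork.IsColimit.desc' hc g hz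
    refine ⟨l, ?_⟩
    apply lin_ext π.hom.hom hπ
    rw [← Phi_map]
    have hl' : F.map π ≫ l = g := hl
    rw [hl', hg]

theorem Phi_bij (M : FP A) (Y : B) : Function.Bijective (Phi F M Y) := by
  obtain ⟨n, p, hp⟩ := Module.Finite.exists_fin' A M.obj
  have hfg : (LinearMap.ker p).FG := Module.FinitePresentation.fg_ker p hp
  obtain ⟨m, s, hs⟩ := Submodule.fg_iff_exists_fin_generating_family.1 hfg
  let φ : (Fin m → A) →ₗ[A] (Fin n → A) := Fintype.linearCombination A s
  have hφ : LinearMap.range φ = LinearMap.ker p := by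
    rw [Fintype.range_linearCombination, hs]
  exact Phi_cok_bij F (ObjectProperty.homMk (ModuleCat.ofHom φ) : FreeN m ⟶ FreeN n)
    (ObjectProperty.homMk (ModuleCat.ofHom p) : FreeN n ⟶ M) hp hφ.symm Y
    (Phi_free_bij F m Y).1 (Phi_free_bij F n Y)


variable (F' : FP A ⥤ B) [PreservesFiniteColimits F']

theorem uniq_nat (t t' : F ⟶ F') (h : t.app (AA : FP A) = t'.app AA) : t = t' := by
  ext M
  apply (Phi_bij F M (F'.obj M)).1
  ext x
  change F.map (rho x) ≫ t.app M = F.map (rho x) ≫ t'.app M
  rw [t.naturality, t'.naturality, h]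

variable {F F'} in
/-- the linear map defining the component -/
def psiM (φ : F.obj (AA : FP A) ⟶ F'.obj AA)
    (hφ : ∀ a : A, F.map (mulA a) ≫ φ = φ ≫ F'.map (mulA a)) (M : FP A) :
    M.obj →ₗ[A] HomK (F.obj AA) (kap F) (F'.obj M) where
  toFun x := (φ ≫ F'.map (rho x) : F.obj AA ⟶ F'.obj M)
  map_add' x y := by
    have := additive_of_rex F'
    rw [rho_add, F'.map_add, Preadditive.comp_add]
    rfl
  map_smul' a x := by
    rw [rho_smul, F'.map_comp, ← Category.assoc, ← hφ, Category.assoc]
    rfl

theorem exists_nat (φ : F.obj (AA : FP A) ⟶ F'.obj AA)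
    (hφ : ∀ a : A, F.map (mulA a) ≫ φ = φ ≫ F'.map (mulA a)) :
    ∃ t : F ⟶ F', t.app AA = φ := by
  choose tM htM using fun M : FP A => (Phi_bij F M (F'.obj M)).2 (psiM φ hφ M)
  have key : ∀ (M : FP A) (x : M.obj), F.map (rho x) ≫ tM M = φ ≫ F'.map (rho x) := fun M x =>
    LinearMap.congr_fun (htM M) x
  refine ⟨{ app := tM, naturality := ?_ }, ?_⟩
  · intro M N f
    apply (Phi_bij F M (F'.obj N)).1
    ext x
    change F.map (rho x) ≫ F.map f ≫ tM N = F.map (rho x) ≫ tM M ≫ F'.map f
    rw [← Category.assoc, ← F.map_comp, rho_comp, key, ← Category.assoc, key, Category.assoc,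
      ← F'.map_comp, rho_comp]
  · have := key AA (1 : A)
    rw [rho_one, F.map_id, F'.map_id, Category.id_comp, Category.comp_id] at this
    exact this

end

theorem main6726
    (A : Type u) [CommRing A] {B : Type u'} [Category.{v'} B] [Preadditive B] [HasFiniteBiproducts B]
    [HasCokernels B] (F F' : (ObjectProperty.FullSubcategory (fun M : ModuleCat.{u} A => Module.FinitePresentation A M)) ⥤ B)
    [PreservesFiniteColimits F] [PreservesFiniteColimits F'] :
    (∀ t t' : F ⟶ F', t.app (⟨ModuleCat.of A A, inferInstance⟩ : (ObjectProperty.FullSubcategory (fun M : ModuleCat.{u} A => Module.FinitePresentation A M))) = t'.app (⟨ModuleCat.of A A, inferInstance⟩ : (ObjectProperty.FullSubcategory (fun M : ModuleCat.{u} A => Module.FinitePresentation A M))) → t = t') ∧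
    ∀ φ : F.obj (⟨ModuleCat.of A A, inferInstance⟩ : (ObjectProperty.FullSubcategory (fun M : ModuleCat.{u} A => Module.FinitePresentation A M))) ⟶ F'.obj (⟨ModuleCat.of A A, inferInstance⟩ : (ObjectProperty.FullSubcategory (fun M : ModuleCat.{u} A => Module.FinitePresentation A M))),
      (∀ a : A, F.map (ObjectProperty.homMk (ModuleCat.ofHom (LinearMap.lsmul A A a)) : (⟨ModuleCat.of A A, inferInstance⟩ : (ObjectProperty.FullSubcategory (fun M : ModuleCat.{u} A => Module.FinitePresentation A M))) ⟶ (⟨ModuleCat.of A A, inferInstance⟩ : (ObjectProperty.FullSubcategory (fun M : ModuleCat.{u} A => Module.FinitePresentation A M)))) ≫ φ = φ ≫ F'.map (ObjectProperty.homMk (ModuleCat.ofHom (LinearMap.lsmul A A a)) : (⟨ModuleCat.of A A, inferInstance⟩ : (ObjectProperty.FullSubcategory (fun M : ModuleCat.{u} A => Module.FinitePresentation A M))) ⟶ (⟨ModuleCat.of A A, inferInstance⟩ : (ObjectProperty.FullSubcategory (fun M : ModuleCat.{u} A => Module.FinitePresentation A M))))) →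
      ∃ t : F ⟶ F', t.app (⟨ModuleCat.of A A, inferInstance⟩ : (ObjectProperty.FullSubcategory (fun M : ModuleCat.{u} A => Module.FinitePresentation A M))) = φ :=
  ⟨fun t t' h => uniq_nat F F' t t' h, fun φ hφ => exists_nat F F' φ hφ⟩


end helpers

/-- Full faithfulness of the functor F ↦ (F(A), induced A-action): let A be a commutative ring, B an
additive category with cokernels, and F, F' right exact functors from the category of finitely
presented A-modules to B. Then two natural transformations F ⟶ F' with the same component at A are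
equal, and a morphism φ : F(A) ⟶ F'(A) is the component at A of a natural transformation as soon as
it commutes with F and F' applied to multiplication by every a ∈ A. -/
theorem result
    (A : Type u) [CommRing A] {B : Type u'} [Category.{v'} B] [Preadditive B] [HasFiniteBiproducts B]
    [HasCokernels B] (F F' : (ObjectProperty.FullSubcategory (fun M : ModuleCat.{u} A => Module.FinitePresentation A M)) ⥤ B)
    [PreservesFiniteColimits F] [PreservesFiniteColimits F'] :
    (∀ t t' : F ⟶ F', t.app (⟨ModuleCat.of A A, inferInstance⟩ : (ObjectProperty.FullSubcategory (fun M : ModuleCat.{u} A => Module.FinitePresentation A M))) = t'.app (⟨ModuleCat.of A A, inferInstance⟩ : (ObjectProperty.FullSubcategory (fun M : ModuleCat.{u} A => Module.FinitePresentation A M))) → t = t') ∧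
    ∀ φ : F.obj (⟨ModuleCat.of A A, inferInstance⟩ : (ObjectProperty.FullSubcategory (fun M : ModuleCat.{u} A => Module.FinitePresentation A M))) ⟶ F'.obj (⟨ModuleCat.of A A, inferInstance⟩ : (ObjectProperty.FullSubcategory (fun M : ModuleCat.{u} A => Module.FinitePresentation A M))),
      (∀ a : A, F.map (ObjectProperty.homMk (ModuleCat.ofHom (LinearMap.lsmul A A a)) : (⟨ModuleCat.of A A, inferInstance⟩ : (ObjectProperty.FullSubcategory (fun M : ModuleCat.{u} A => Module.FinitePresentation A M))) ⟶ (⟨ModuleCat.of A A, inferInstance⟩ : (ObjectProperty.FullSubcategory (fun M : ModuleCat.{u} A => Module.FinitePresentation A M)))) ≫ φ = φ ≫ F'.map (ObjectProperty.homMk (ModuleCat.ofHom (LinearMap.lsmul A A a)) : (⟨ModuleCat.of A A, inferInstance⟩ : (ObjectProperty.FullSubcategory (fun M : ModuleCat.{u} A => Module.FinitePresentation A M))) ⟶ (⟨ModuleCat.of A A, inferInstance⟩ : (ObjectProperty.FullSubcategory (fun M : ModuleCat.{u} A => Module.FinitePresentation A M))))) →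
      ∃ t : F ⟶ F', t.app (⟨ModuleCat.of A A, inferInstance⟩ : (ObjectProperty.FullSubcategory (fun M : ModuleCat.{u} A => Module.FinitePresentation A M))) = φ := by
  exact main6726 A F F'

end Groth.Agent.S6726
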