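import Groth.Statements.S6716
import Mathlib
import Groth.Agent.S6726
import Groth.Agent.Lib.Helper10.FPModColim

set_option autoImplicit false
universe u v' u'
open CategoryTheory CategoryTheory.Limits
open FunMor

namespace Groth.Agent.S6716
section helpers
open Opposite
set_option linter.unusedSectionVars false
set_option autoImplicit false
open CategoryTheory CategoryTheory.Limits
open Groth.Agent.S6725 Groth.Agent.S6726 Groth.Agent.Helper10.FPModColim

section
variable {A : Type u} [CommRing A] {B : Type u'} [Category.{v'} B] [Preadditive B]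
  [HasFiniteBiproducts B] [HasCokernels B]
  (F' : ModuleCat.{u} A ⥤ B) [PreservesFilteredColimitsOfSize.{u, u} F']
  [PreservesFiniteColimits (ObjectProperty.ι (fun M : ModuleCat.{u} A => Module.FinitePresentation A M) ⋙ F')]

/-- the restriction to finitely presented modules -/
abbrev Fr : FP A ⥤ B :=
  ObjectProperty.ι (fun M : ModuleCat.{u} A => Module.FinitePresentation A M) ⋙ F'

/-- `ρ_x : A → M` for an arbitrary module -/
def rhoM {M : ModuleCat.{u} A} (x : M) : ModuleCat.of A A ⟶ M :=
  ModuleCat.ofHom (LinearMap.toSpanSingleton A M x)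

theorem rhoM_comp {M N : ModuleCat.{u} A} (f : M ⟶ N) (x : M) : rhoM x ≫ f = rhoM (f.hom x) := by
  ext
  simp [rhoM]

theorem rhoM_smul {M : ModuleCat.{u} A} (a : A) (x : M) :
    rhoM (a • x) = (mulA a).hom ≫ rhoM x := by
  ext
  simp [rhoM, mulA]

theorem rhoM_fp {M : FP A} (x : M.obj) : rhoM (M := M.obj) x = (rho x).hom := rfl

/-- the module `M_i` as an object of `FP A` -/
noncomputable abbrev MiFP {M : ModuleCat.{u} A} (i : Idx A M) : FP A := FP.mk' (Mi i)

/-- the leg as a morphism -/
noncomputable abbrev legM {M : ModuleCat.{u} A} (i : Idx A M) : (MiFP i).obj ⟶ M :=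
  (cocone A M).ι.app i

theorem legM_apply {M : ModuleCat.{u} A} (i : Idx A M) (y : Mi i) : (legM i).hom y = leg i y := rfl

/-- the colimit cocone after applying `F'` -/
noncomputable def mapColim (M : ModuleCat.{u} A) : IsColimit (F'.mapCocone (cocone A M)) :=
  isColimitOfPreserves F' (cocone_isColimit A M).some

/-- the value of the comparison map -/
def psiFun (M : ModuleCat.{u} A) (Y : B) (g : F'.obj M ⟶ Y) (x : M) :
    HomK ((Fr F').obj AA) (kap (Fr F')) Y :=
  (F'.map (rhoM x) ≫ g : F'.obj (ModuleCat.of A A) ⟶ Y)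

theorem psiFun_leg {M : ModuleCat.{u} A} (Y : B) (g : F'.obj M ⟶ Y) (i : Idx A M) (y : Mi i) :
    psiFun F' M Y g (leg i y) = Phi (Fr F') (MiFP i) Y (F'.map (legM i) ≫ g) y := by
  change F'.map (rhoM (leg i y)) ≫ g = F'.map (rho (M := MiFP i) y).hom ≫ F'.map (legM i) ≫ g
  rw [← Category.assoc, ← F'.map_comp, ← rhoM_fp, rhoM_comp, legM_apply]


/-- the comparison map as a linear map -/
def Psi (M : ModuleCat.{u} A) (Y : B) (g : F'.obj M ⟶ Y) :
    M →ₗ[A] HomK ((Fr F').obj AA) (kap (Fr F')) Y where
  toFun := psiFun F' M Y g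
  map_add' x y := by
    obtain ⟨i, x', y', rfl, rfl⟩ := exists_rep₂ (A := A) x y
    rw [← map_add, psiFun_leg, psiFun_leg, psiFun_leg, map_add]
  map_smul' a x := by
    change F'.map (rhoM (a • x)) ≫ g = a • psiFun F' M Y g x
    rw [rhoM_smul, F'.map_comp, Category.assoc]
    rfl

theorem Psi_apply (M : ModuleCat.{u} A) (Y : B) (g : F'.obj M ⟶ Y) (x : M) :
    Psi F' M Y g x = (F'.map (rhoM x) ≫ g : F'.obj (ModuleCat.of A A) ⟶ Y) := rfl

theorem Psi_leg {M : ModuleCat.{u} A} (Y : B) (g : F'.obj M ⟶ Y) (i : Idx A M) :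
    (Psi F' M Y g).comp (leg i) = Phi (Fr F') (MiFP i) Y (F'.map (legM i) ≫ g) := by
  refine LinearMap.ext fun y => ?_
  exact psiFun_leg F' Y g i y

theorem Psi_map {M N : ModuleCat.{u} A} (f : M ⟶ N) {Y : B} (g : F'.obj N ⟶ Y) :
    Psi F' M Y (F'.map f ≫ g) = (Psi F' N Y g).comp f.hom := by
  ext x
  change F'.map (rhoM x) ≫ F'.map f ≫ g = F'.map (rhoM (f.hom x)) ≫ g
  rw [← rhoM_comp, F'.map_comp, Category.assoc]

theorem Psi_inj (M : ModuleCat.{u} A) (Y : B) : Function.Injective (Psi F' M Y) := by
  intro g g' h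
  apply (mapColim F' M).hom_ext
  intro i
  change F'.map (legM i) ≫ g = F'.map (legM i) ≫ g'
  apply (Phi_bij (Fr F') (MiFP i) Y).1
  rw [← Psi_leg, ← Psi_leg, h]

theorem Psi_surj (M : ModuleCat.{u} A) (Y : B) : Function.Surjective (Psi F' M Y) := by
  intro ψ
  choose gi hgi using fun i : Idx A M => (Phi_bij (Fr F') (MiFP i) Y).2 (ψ.comp (leg i))
  let s : Cocone (diag A M ⋙ F') :=
    { pt := Y
      ι :=
        { app := fun i => gi i
          naturality := fun i j f => by
            change F'.map ((diag A M).map f) ≫ gi j = gi i ≫ 𝟙 Y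
            rw [Category.comp_id]
            apply (Phi_bij (Fr F') (MiFP i) Y).1
            rw [hgi i]
            have h1 := Phi_map (Fr F') (M := MiFP i) (N := MiFP j)
              (ObjectProperty.homMk ((diag A M).map f)) (gi j)
            refine h1.trans ?_
            rw [hgi j]
            refine LinearMap.ext fun y => ?_
            change ψ (leg j (Groth.Agent.Helper10.FPModColim.trans (leOfHom f) y)) = ψ (leg i y)
            rw [leg_trans] } }
  refine ⟨(mapColim F' M).desc s, ?_⟩
  ext x
  obtain ⟨i, y, rfl⟩ := exists_rep (A := A) x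
  have h1 := LinearMap.congr_fun (Psi_leg F' Y ((mapColim F' M).desc s) i) y
  have h2 : F'.map (legM i) ≫ (mapColim F' M).desc s = gi i := (mapColim F' M).fac s i
  have h3 : Phi (Fr F') (MiFP i) Y (F'.map (legM i) ≫ (mapColim F' M).desc s) =
      Phi (Fr F') (MiFP i) Y (gi i) := congrArg _ h2
  exact h1.trans ((LinearMap.congr_fun h3 y).trans (LinearMap.congr_fun (hgi i) y))

theorem Psi_bij (M : ModuleCat.{u} A) (Y : B) : Function.Bijective (Psi F' M Y) :=
  ⟨Psi_inj F' M Y, Psi_surj F' M Y⟩


/-- the comparison bijection -/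
noncomputable def PsiE (M : ModuleCat.{u} A) (Y : B) :
    (F'.obj M ⟶ Y) ≃ (M →ₗ[A] HomK ((Fr F').obj AA) (kap (Fr F')) Y) :=
  Equiv.ofBijective _ (Psi_bij F' M Y)

theorem PsiE_apply (M : ModuleCat.{u} A) (Y : B) (g : F'.obj M ⟶ Y) :
    PsiE F' M Y g = Psi F' M Y g := rfl

theorem Psi_zero (M : ModuleCat.{u} A) (Y : B) : Psi F' M Y 0 = 0 := by
  refine LinearMap.ext fun x => ?_
  change F'.map (rhoM x) ≫ (0 : F'.obj M ⟶ Y) = 0
  exact comp_zero

theorem additive : F'.Additive := ⟨fun {M N} {f g} => by
  apply Psi_inj F' M (F'.obj N)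
  refine LinearMap.ext fun x => ?_
  have key : ∀ h : M ⟶ N, Psi F' M _ (F'.map h) x = Psi F' N _ (𝟙 _) (h.hom x) := by
    intro h
    have := LinearMap.congr_fun (Psi_map F' h (𝟙 (F'.obj N))) x
    rw [Category.comp_id] at this
    exact this
  rw [key]
  have h1 : (f + g).hom x = f.hom x + g.hom x := rfl
  rw [h1, map_add, ← key, ← key]
  change _ = F'.map (rhoM x) ≫ (F'.map f + F'.map g)
  rw [Preadditive.comp_add]
  rfl⟩

/-- the mapped cokernel cofork is colimit -/
noncomputable def mapCokIsColimit {M N : ModuleCat.{u} A} (f : M ⟶ N) :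
    IsColimit (CokernelCofork.ofπ (F'.map (ModuleCat.ofHom (LinearMap.range f.hom).mkQ))
      (by
        haveI := additive F'
        rw [← Functor.map_comp]
        have : f ≫ ModuleCat.ofHom (LinearMap.range f.hom).mkQ = 0 :=
          ModuleCat.hom_ext (LinearMap.range_mkQ_comp _)
        rw [this, Functor.map_zero]) : Cofork (F'.map f) 0) :=
  CokernelCofork.IsColimit.ofπ _ _
    (fun {Y} g hg => (PsiE F' _ Y).symm
      (descLin f.hom (LinearMap.range f.hom).mkQ (Submodule.mkQ_surjective _) (Submodule.ker_mkQ _)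
        (Psi F' N Y g) (by
          rw [← Psi_map, hg, Psi_zero])))
    (fun {Y} g hg => by
      apply Psi_inj F' N Y
      refine (Psi_map F' _ _).trans ?_
      rw [← PsiE_apply, Equiv.apply_symm_apply]
      exact descLin_comp _ _ _ _ _ _)
    (fun {Y} g hg m hm => by
      refine (Equiv.eq_symm_apply (PsiE F' _ Y)).2 ?_
      apply lin_ext (LinearMap.range f.hom).mkQ (Submodule.mkQ_surjective _)
      refine Eq.trans ?_ (descLin_comp _ _ _ _ _ _).symm
      rw [PsiE_apply]
      exact (Psi_map F' _ m).symm.trans (congrArg _ hm))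

theorem preserves_cok {M N : ModuleCat.{u} A} (f : M ⟶ N) :
    PreservesColimit (parallelPair f 0) F' := by
  haveI := additive F'
  have w : f ≫ ModuleCat.ofHom (LinearMap.range f.hom).mkQ = 0 :=
    ModuleCat.hom_ext (LinearMap.range_mkQ_comp _)
  exact preservesColimit_of_preserves_colimit_cocone (ModuleCat.cokernelIsColimit f)
    ((isColimitMapCoconeCoforkEquiv' F' w).symm (mapCokIsColimit F' f))

theorem preservesFiniteColimits : PreservesFiniteColimits F' := by
  haveI := additive F'
  haveI : ∀ {M N : ModuleCat.{u} A} (f : M ⟶ N), PreservesColimit (parallelPair f 0) F' :=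
    fun f => preserves_cok F' f
  exact Functor.preservesFiniteColimits_of_preservesCokernels _


/-- the assembled linear map out of the direct sum -/
noncomputable def sumLin {J : Type u} [DecidableEq J] (Z : J → ModuleCat.{u} A) {Y : B}
    (t : ∀ j, F'.obj (Z j) ⟶ Y) :
    (ModuleCat.of A (DirectSum J fun i => Z i)) →ₗ[A] HomK ((Fr F').obj AA) (kap (Fr F')) Y :=
  DirectSum.toModule A J _ (fun j => Psi F' (Z j) Y (t j))

theorem sumLin_lof {J : Type u} [DecidableEq J] (Z : J → ModuleCat.{u} A) {Y : B}
    (t : ∀ j, F'.obj (Z j) ⟶ Y) (j : J) (x : Z j) :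
    sumLin F' Z t (DirectSum.lof A J (fun i => Z i) j x) = Psi F' (Z j) Y (t j) x := by
  unfold sumLin
  exact DirectSum.toModule_lof (M := fun i => Z i) A
    (φ := fun j => Psi F' (Z j) Y (t j)) j x

/-- the inclusion into the direct sum -/
abbrev lofM {J : Type u} [DecidableEq J] (Z : J → ModuleCat.{u} A) (j : J) :
    Z j ⟶ ModuleCat.of A (DirectSum J fun i => Z i) :=
  ModuleCat.ofHom (DirectSum.lof A J (fun i => Z i) j)

open Classical in
/-- the mapped coproduct cofan is colimit -/
noncomputable def mapCoprodIsColimit {J : Type u} (Z : J → ModuleCat.{u} A) :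
    IsColimit (F'.mapCocone (ModuleCat.coproductCocone Z)) where
  desc s := (PsiE F' (ModuleCat.of A (DirectSum J fun i => Z i)) s.pt).symm
    (sumLin F' Z (fun j => s.ι.app ⟨j⟩))
  fac s j := by
    obtain ⟨j⟩ := j
    apply Psi_inj F' (Z j) s.pt
    change Psi F' (Z j) s.pt (F'.map (lofM Z j) ≫ _) = _
    refine (Psi_map F' _ _).trans ?_
    have h := Equiv.apply_symm_apply (PsiE F' (ModuleCat.of A (DirectSum J fun i => Z i)) s.pt)
      (sumLin F' Z (fun j => s.ι.app ⟨j⟩))
    rw [PsiE_apply] at h
    refine LinearMap.ext fun x => ?_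
    exact (LinearMap.congr_fun h _).trans (sumLin_lof F' Z _ j x)
  uniq s m hm := by
    refine (Equiv.eq_symm_apply (PsiE F' _ s.pt)).2 ?_
    rw [PsiE_apply]
    refine DirectSum.linearMap_ext A fun j => ?_
    refine LinearMap.ext fun x => ?_
    have h1 : F'.map (lofM Z j) ≫ m = s.ι.app ⟨j⟩ := hm ⟨j⟩
    have h2 := LinearMap.congr_fun (Psi_map F' (lofM Z j) m) x
    rw [h1] at h2
    exact h2.symm.trans (sumLin_lof F' Z (fun j => s.ι.app ⟨j⟩) j x).symm

theorem preservesCoproducts (J : Type u) : PreservesColimitsOfShape (Discrete J) F' := by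
  classical
  constructor
  intro K
  haveI : PreservesColimit (Discrete.functor (K.obj ∘ Discrete.mk)) F' :=
    preservesColimit_of_preserves_colimit_cocone
      (ModuleCat.coproductCoconeIsColimit (K.obj ∘ Discrete.mk)) (mapCoprodIsColimit F' _)
  exact preservesColimit_of_iso_diagram F' (Discrete.natIsoFunctor (F := K)).symm

end

theorem main6716
    (A : Type u) [CommRing A] {B : Type u'} [Category.{v'} B] [Preadditive B] [HasFiniteBiproducts B]
    [HasCokernels B] [HasFilteredColimitsOfSize.{u, u} B]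
    (F' : ModuleCat.{u} A ⥤ B) [PreservesFilteredColimitsOfSize.{u, u} F']
    [PreservesFiniteColimits (ObjectProperty.ι (fun M : ModuleCat.{u} A => Module.FinitePresentation A M) ⋙ F')] :
    F'.Additive ∧ PreservesFiniteColimits F' ∧
      ∀ J : Type u, PreservesColimitsOfShape (Discrete J) F' :=
  ⟨additive F', preservesFiniteColimits F', preservesCoproducts F'⟩


end helpers

/-- Let A be a commutative ring and B an additive category with cokernels and filtered colimits. Let F'
be a functor from A-modules to B commuting with filtered colimits whose restriction to the full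
subcategory of finitely presented A-modules is right exact (F' is then the extension of that
restriction). Then F' is additive and right exact, and it preserves all small direct sums. -/
theorem result
    (A : Type u) [CommRing A] {B : Type u'} [Category.{v'} B] [Preadditive B] [HasFiniteBiproducts B]
    [HasCokernels B] [HasFilteredColimitsOfSize.{u, u} B]
    (F' : ModuleCat.{u} A ⥤ B) [PreservesFilteredColimitsOfSize.{u, u} F']
    [PreservesFiniteColimits (ObjectProperty.ι (fun M : ModuleCat.{u} A => Module.FinitePresentation A M) ⋙ F')] :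
    F'.Additive ∧ PreservesFiniteColimits F' ∧
      ∀ J : Type u, PreservesColimitsOfShape (Discrete J) F' := by
  exact main6716 A F'

end Groth.Agent.S6716
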