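import Groth.Statements.S6718
import Mathlib
import Groth.Agent.Lib.Helper10.SerreRep

set_option autoImplicit false
universe w v u
open CategoryTheory
open DEquiv

namespace Groth.Agent.S6718

open CategoryTheory.Limits CategoryTheory.Pretriangulated in
/-- Let k be a field and T a k-linear (pre)triangulated category with dim_k Hom(X, Y) < ∞ for all X, Y.
The following are equivalent: (1) there are a k-linear equivalence S : T ⥤ T and k-linear
isomorphisms c_{X,Y} : Hom(X, Y) ≅ Hom(Y, S X)^∨ natural in X and in Y; (2) for every object X the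
functor Y ↦ Hom(X, Y)^∨ is representable and the functor Y ↦ Hom(Y, X)^∨ is corepresentable, by
k-linear isomorphisms natural in Y. (Here V^∨ is the k-linear dual.) -/
theorem result
    {k : Type w} [Field k]
    {T : Type u} [Category.{v} T] [Preadditive T] [Linear k T] [HasZeroObject T] [HasShift T ℤ]
    [∀ n : ℤ, (shiftFunctor T n).Additive] [∀ n : ℤ, (shiftFunctor T n).Linear k] [Pretriangulated T]
    [∀ X Y : T, Module.Finite k (X ⟶ Y)] :
    (∃ (S : T ≌ T) (_ : S.functor.Additive) (_ : S.functor.Linear k)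
        (c : ∀ X Y : T, (X ⟶ Y) ≃ₗ[k] Module.Dual k (Y ⟶ S.functor.obj X)),
        (∀ (X Y Y' : T) (f : X ⟶ Y) (g : Y ⟶ Y'),
          c X Y' (f ≫ g) = (c X Y f) ∘ₗ Linear.leftComp k (S.functor.obj X) g) ∧
        (∀ (X' X Y : T) (a : X' ⟶ X) (f : X ⟶ Y),
          c X' Y (a ≫ f) = (c X Y f) ∘ₗ Linear.rightComp k Y (S.functor.map a))) ↔
    ((∀ X : T, ∃ (SX : T) (e : ∀ Y : T, (Y ⟶ SX) ≃ₗ[k] Module.Dual k (X ⟶ Y)),
        ∀ (Y Y' : T) (g : Y' ⟶ Y) (f : Y ⟶ SX),
          e Y' (g ≫ f) = (e Y f) ∘ₗ Linear.rightComp k X g) ∧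
      (∀ X : T, ∃ (RX : T) (e : ∀ Y : T, (RX ⟶ Y) ≃ₗ[k] Module.Dual k (Y ⟶ X)),
        ∀ (Y Y' : T) (g : Y ⟶ Y') (f : RX ⟶ Y),
          e Y' (f ≫ g) = (e Y f) ∘ₗ Linear.leftComp k X g)) := by
  constructor
  · rintro ⟨S, _, _, c, hc₁, hc₂⟩
    refine ⟨fun X => ?_, fun X => ?_⟩
    · refine ⟨S.functor.obj X, fun Y => Groth.Agent.Helper10.SerreRep.flipEquiv (c X Y), ?_⟩
      intro Y Y' g f
      ext u
      show Groth.Agent.Helper10.SerreRep.flipEquiv (c X Y') (g ≫ f) u =
        Groth.Agent.Helper10.SerreRep.flipEquiv (c X Y) f (u ≫ g)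
      rw [Groth.Agent.Helper10.SerreRep.flipEquiv_apply,
        Groth.Agent.Helper10.SerreRep.flipEquiv_apply, hc₁]
      rfl
    · let ε : S.functor.obj (S.inverse.obj X) ≅ X := S.counitIso.app X
      let L : ∀ Y : T, (Y ⟶ X) ≃ₗ[k] (Y ⟶ S.functor.obj (S.inverse.obj X)) := fun Y =>
        { toFun := fun u => u ≫ ε.inv
          invFun := fun v => v ≫ ε.hom
          map_add' := fun u u' => Preadditive.add_comp _ _ _ _ _ _
          map_smul' := fun r u => Linear.smul_comp _ _ _ _ _ _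
          left_inv := fun u => by simp
          right_inv := fun v => by simp }
      refine ⟨S.inverse.obj X, fun Y => (c _ Y).trans (L Y).dualMap, ?_⟩
      intro Y Y' g f
      ext u
      show c _ Y' (f ≫ g) (u ≫ ε.inv) = c _ Y f ((g ≫ u) ≫ ε.inv)
      rw [hc₁, Category.assoc]
      rfl
  · rintro ⟨hS, hR⟩
    haveI := Groth.Agent.Helper10.SerreRep.Sfun_isEquivalence hR hS
    exact ⟨(Groth.Agent.Helper10.SerreRep.Sfun hS).asEquivalence,
      Groth.Agent.Helper10.SerreRep.Sfun_additive hS,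
      Groth.Agent.Helper10.SerreRep.Sfun_linear hS,
      Groth.Agent.Helper10.SerreRep.cS hS,
      Groth.Agent.Helper10.SerreRep.cS_hc₁ hS,
      Groth.Agent.Helper10.SerreRep.cS_hc₂ hS⟩

end Groth.Agent.S6718
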