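import Groth.Statements.S6731
import Mathlib

set_option autoImplicit false
universe w v u
open CategoryTheory
open DEquiv

namespace Groth.Agent.S6731

section
variable {k : Type w} [Field k] {T : Type u} [Category.{v} T] [Preadditive T] [Linear k T]
  [∀ X Y : T, Module.Finite k (X ⟶ Y)]
  (S : T ⥤ T)
  (c : ∀ X Y : T, (X ⟶ Y) ≃ₗ[k] Module.Dual k (Y ⟶ S.obj X))
  (hc₁ : ∀ (X Y Y' : T) (f : X ⟶ Y) (g : Y ⟶ Y'),
      c X Y' (f ≫ g) = (c X Y f) ∘ₗ Linear.leftComp k (S.obj X) g)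
  (hc₂ : ∀ (X' X Y : T) (a : X' ⟶ X) (f : X ⟶ Y),
      c X' Y (a ≫ f) = (c X Y f) ∘ₗ Linear.rightComp k Y (S.map a))

include hc₁ in
theorem c_eq (X Y : T) (f : X ⟶ Y) (h : Y ⟶ S.obj X) : c X Y f h = c X X (𝟙 X) (f ≫ h) := by
  have := hc₁ X X Y (𝟙 X) f
  rw [Category.id_comp] at this
  rw [this]
  rfl

include hc₁ hc₂ in
theorem dinat (X' X : T) (a : X' ⟶ X) (h : X ⟶ S.obj X') :
    c X' X' (𝟙 X') (a ≫ h) = c X X (𝟙 X) (h ≫ S.map a) := by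
  have := hc₂ X' X X a (𝟙 X)
  rw [Category.comp_id] at this
  rw [← c_eq S c hc₁ X' X a h, this]
  rfl

include hc₁ in
theorem nondeg (X Z : T) (ψ ψ' : Z ⟶ S.obj X)
    (h : ∀ g : X ⟶ Z, c X X (𝟙 X) (g ≫ ψ) = c X X (𝟙 X) (g ≫ ψ')) : ψ = ψ' := by
  rw [← sub_eq_zero, ← Module.forall_dual_apply_eq_zero_iff k]
  intro ℓ
  obtain ⟨g, rfl⟩ := (c X Z).surjective ℓ
  rw [map_sub, sub_eq_zero, c_eq S c hc₁ X Z g ψ, c_eq S c hc₁ X Z g ψ']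
  exact h g

include hc₁ in
theorem repr (X Z : T) (l : Module.Dual k (X ⟶ Z)) :
    ∃ ψ : Z ⟶ S.obj X, ∀ g : X ⟶ Z, l g = c X X (𝟙 X) (g ≫ ψ) := by
  refine ⟨(Module.evalEquiv k (Z ⟶ S.obj X)).symm (l ∘ₗ (c X Z).symm.toLinearMap), fun g => ?_⟩
  rw [← c_eq S c hc₁ X Z g, Module.apply_evalEquiv_symm_apply]
  simp

end

section
variable {k : Type w} [Field k] {T : Type u} [Category.{v} T] [Preadditive T] [Linear k T]
  [∀ X Y : T, Module.Finite k (X ⟶ Y)]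
  (S : T ⥤ T)
  (c : ∀ X Y : T, (X ⟶ Y) ≃ₗ[k] Module.Dual k (Y ⟶ S.obj X))
  (hc₁ : ∀ (X Y Y' : T) (f : X ⟶ Y) (g : Y ⟶ Y'),
      c X Y' (f ≫ g) = (c X Y f) ∘ₗ Linear.leftComp k (S.obj X) g)
  (hc₂ : ∀ (X' X Y : T) (a : X' ⟶ X) (f : X ⟶ Y),
      c X' Y (a ≫ f) = (c X Y f) ∘ₗ Linear.rightComp k Y (S.map a))
  (S' : T ⥤ T)
  (c' : ∀ X Y : T, (X ⟶ Y) ≃ₗ[k] Module.Dual k (Y ⟶ S'.obj X))
  (hc'₁ : ∀ (X Y Y' : T) (f : X ⟶ Y) (g : Y ⟶ Y'),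
      c' X Y' (f ≫ g) = (c' X Y f) ∘ₗ Linear.leftComp k (S'.obj X) g)
  (hc'₂ : ∀ (X' X Y : T) (a : X' ⟶ X) (f : X ⟶ Y),
      c' X' Y (a ≫ f) = (c' X Y f) ∘ₗ Linear.rightComp k Y (S'.map a))

include hc'₁ in
/-- the comparison map `S X ⟶ S' X` -/
theorem exists_phi (X : T) : ∃ φ : S.obj X ⟶ S'.obj X,
    ∀ g : X ⟶ S.obj X, c X X (𝟙 X) g = c' X X (𝟙 X) (g ≫ φ) :=
  repr S' c' hc'₁ X (S.obj X) (c X X (𝟙 X))

noncomputable def phi (X : T) : S.obj X ⟶ S'.obj X := (exists_phi S c S' c' hc'₁ X).choose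

theorem phi_spec (X : T) (g : X ⟶ S.obj X) :
    c X X (𝟙 X) g = c' X X (𝟙 X) (g ≫ phi S c S' c' hc'₁ X) :=
  (exists_phi S c S' c' hc'₁ X).choose_spec g

include hc₁ hc₂ hc'₂ in
theorem phi_nat (X' X : T) (a : X' ⟶ X) :
    S.map a ≫ phi S c S' c' hc'₁ X = phi S c S' c' hc'₁ X' ≫ S'.map a := by
  apply nondeg S' c' hc'₁ X (S.obj X')
  intro g
  rw [← Category.assoc, ← phi_spec S c S' c' hc'₁ X (g ≫ S.map a), ← dinat S c hc₁ hc₂ X' X a g,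
    ← Category.assoc, ← dinat S' c' hc'₁ hc'₂ X' X a (g ≫ phi S c S' c' hc'₁ X'),
    ← Category.assoc, ← phi_spec S c S' c' hc'₁ X' (a ≫ g)]

end

section
variable {k : Type w} [Field k] {T : Type u} [Category.{v} T] [Preadditive T] [Linear k T]
  [∀ X Y : T, Module.Finite k (X ⟶ Y)]
  (S : T ⥤ T)
  (c : ∀ X Y : T, (X ⟶ Y) ≃ₗ[k] Module.Dual k (Y ⟶ S.obj X))
  (hc₁ : ∀ (X Y Y' : T) (f : X ⟶ Y) (g : Y ⟶ Y'),
      c X Y' (f ≫ g) = (c X Y f) ∘ₗ Linear.leftComp k (S.obj X) g)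
  (S' : T ⥤ T)
  (c' : ∀ X Y : T, (X ⟶ Y) ≃ₗ[k] Module.Dual k (Y ⟶ S'.obj X))
  (hc'₁ : ∀ (X Y Y' : T) (f : X ⟶ Y) (g : Y ⟶ Y'),
      c' X Y' (f ≫ g) = (c' X Y f) ∘ₗ Linear.leftComp k (S'.obj X) g)

include hc₁ in
theorem phi_comp_phi (X : T) :
    phi S c S' c' hc'₁ X ≫ phi S' c' S c hc₁ X = 𝟙 (S.obj X) := by
  apply nondeg S c hc₁ X (S.obj X)
  intro g
  rw [← Category.assoc, ← phi_spec S' c' S c hc₁ X, ← phi_spec S c S' c' hc'₁ X, Category.comp_id]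

end

section
variable {k : Type w} [Field k] {T : Type u} [Category.{v} T] [Preadditive T] [Linear k T]
  [∀ X Y : T, Module.Finite k (X ⟶ Y)]
  (S : T ⥤ T)
  (c : ∀ X Y : T, (X ⟶ Y) ≃ₗ[k] Module.Dual k (Y ⟶ S.obj X))
  (hc₁ : ∀ (X Y Y' : T) (f : X ⟶ Y) (g : Y ⟶ Y'),
      c X Y' (f ≫ g) = (c X Y f) ∘ₗ Linear.leftComp k (S.obj X) g)
  (hc₂ : ∀ (X' X Y : T) (a : X' ⟶ X) (f : X ⟶ Y),
      c X' Y (a ≫ f) = (c X Y f) ∘ₗ Linear.rightComp k Y (S.map a))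
  (S' : T ⥤ T)
  (c' : ∀ X Y : T, (X ⟶ Y) ≃ₗ[k] Module.Dual k (Y ⟶ S'.obj X))
  (hc'₁ : ∀ (X Y Y' : T) (f : X ⟶ Y) (g : Y ⟶ Y'),
      c' X Y' (f ≫ g) = (c' X Y f) ∘ₗ Linear.leftComp k (S'.obj X) g)
  (hc'₂ : ∀ (X' X Y : T) (a : X' ⟶ X) (f : X ⟶ Y),
      c' X' Y (a ≫ f) = (c' X Y f) ∘ₗ Linear.rightComp k Y (S'.map a))

include hc₁ hc₂ hc'₁ hc'₂ in
theorem main : ∃! φ : S ≅ S', ∀ (X Y : T) (f : X ⟶ Y),
      c X Y f = (c' X Y f) ∘ₗ Linear.rightComp k Y (φ.hom.app X) := by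
  refine ⟨NatIso.ofComponents (fun X => ⟨phi S c S' c' hc'₁ X, phi S' c' S c hc₁ X,
    phi_comp_phi S c hc₁ S' c' hc'₁ X, phi_comp_phi S' c' hc'₁ S c hc₁ X⟩)
    (fun {X' X} a => phi_nat S c hc₁ hc₂ S' c' hc'₁ hc'₂ X' X a), ?_, ?_⟩
  · intro X Y f
    apply LinearMap.ext
    intro h
    simp only [NatIso.ofComponents_hom_app, LinearMap.comp_apply, Linear.rightComp_apply]
    rw [c_eq S c hc₁ X Y f h, c_eq S' c' hc'₁ X Y f, ← Category.assoc]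
    exact phi_spec S c S' c' hc'₁ X (f ≫ h)
  · intro φ hφ
    apply Iso.ext
    apply NatTrans.ext
    funext X
    simp only [NatIso.ofComponents_hom_app]
    apply nondeg S' c' hc'₁ X (S.obj X)
    intro g
    rw [← phi_spec S c S' c' hc'₁ X g]
    have := LinearMap.congr_fun (hφ X (S.obj X) g) (𝟙 _)
    simp only [LinearMap.comp_apply, Linear.rightComp_apply, Category.id_comp] at this
    rw [c_eq S c hc₁ X _ g, c_eq S' c' hc'₁ X _ g, Category.comp_id] at this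
    exact this.symm

end



open CategoryTheory.Limits CategoryTheory.Pretriangulated in
/-- Let k be a field and T a k-linear triangulated category with dim_k Hom(X, Y) < ∞ for all X, Y. Let
(S, c) and (S', c') be Serre functors: k-linear equivalences T ⥤ T with k-linear isomorphisms
c_{X,Y} : Hom(X, Y) ≅ Hom(Y, S X)^∨ natural in X and Y (likewise c'). Then there is a unique
isomorphism of functors φ : S ≅ S' compatible with c and c', i.e. c_{X,Y}(f) is c'_{X,Y}(f) composed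
with postcomposition by φ_X. -/
theorem result
    {k : Type w} [Field k]
    {T : Type u} [Category.{v} T] [Preadditive T] [Linear k T] [HasZeroObject T] [HasShift T ℤ]
    [∀ n : ℤ, (shiftFunctor T n).Additive] [∀ n : ℤ, (shiftFunctor T n).Linear k] [Pretriangulated T]
    [IsTriangulated T] [∀ X Y : T, Module.Finite k (X ⟶ Y)]
    (S : T ≌ T) [S.functor.Additive] [S.functor.Linear k]
    (c : ∀ X Y : T, (X ⟶ Y) ≃ₗ[k] Module.Dual k (Y ⟶ S.functor.obj X))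
    (hc₁ : ∀ (X Y Y' : T) (f : X ⟶ Y) (g : Y ⟶ Y'),
      c X Y' (f ≫ g) = (c X Y f) ∘ₗ Linear.leftComp k (S.functor.obj X) g)
    (hc₂ : ∀ (X' X Y : T) (a : X' ⟶ X) (f : X ⟶ Y),
      c X' Y (a ≫ f) = (c X Y f) ∘ₗ Linear.rightComp k Y (S.functor.map a))
    (S' : T ≌ T) [S'.functor.Additive] [S'.functor.Linear k]
    (c' : ∀ X Y : T, (X ⟶ Y) ≃ₗ[k] Module.Dual k (Y ⟶ S'.functor.obj X))
    (hc'₁ : ∀ (X Y Y' : T) (f : X ⟶ Y) (g : Y ⟶ Y'),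
      c' X Y' (f ≫ g) = (c' X Y f) ∘ₗ Linear.leftComp k (S'.functor.obj X) g)
    (hc'₂ : ∀ (X' X Y : T) (a : X' ⟶ X) (f : X ⟶ Y),
      c' X' Y (a ≫ f) = (c' X Y f) ∘ₗ Linear.rightComp k Y (S'.functor.map a)) :
    ∃! φ : S.functor ≅ S'.functor, ∀ (X Y : T) (f : X ⟶ Y),
      c X Y f = (c' X Y f) ∘ₗ Linear.rightComp k Y (φ.hom.app X) := by
  exact main S.functor c hc₁ hc₂ S'.functor c' hc'₁ hc'₂

end Groth.Agent.S6731
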