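import Groth.Statements.S6769
import Mathlib
import Groth.Agent.S6716

set_option autoImplicit false
universe u
open CategoryTheory CategoryTheory.Limits TensorProduct
open scoped ModuleCat.Algebra
open FunMor

namespace Groth.Agent.S6769
section helpers
open Opposite
set_option linter.unusedSectionVars false
set_option autoImplicit false
open CategoryTheory CategoryTheory.Limits TensorProduct
open scoped ModuleCat.Algebra
open Groth.Agent.S6725 Groth.Agent.S6726 Groth.Agent.S6716

section
variable {A : Type u} [CommRing A]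

/-- the inclusion of finitely presented modules -/
abbrev incl : FP A ⥤ ModuleCat.{u} A :=
  ObjectProperty.ι (fun M : ModuleCat.{u} A => Module.FinitePresentation A M)

theorem incl_preserves_cok {M N : FP A} (f : M ⟶ N) :
    PreservesColimit (parallelPair f 0) (incl (A := A)) :=
  preservesColimit_of_preserves_colimit_cocone (cokIsColimit f)
    ((isColimitMapCoconeCoforkEquiv' (incl (A := A)) (cok_w f)).symm
      (ModuleCat.cokernelIsColimit f.hom))

instance incl_preservesFiniteColimits : PreservesFiniteColimits (incl (A := A)) := by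
  haveI : ∀ {M N : FP A} (f : M ⟶ N), PreservesColimit (parallelPair f 0) (incl (A := A)) :=
    fun f => incl_preserves_cok f
  exact Functor.preservesFiniteColimits_of_preservesCokernels _

variable {B : Type u} [CommRing B]
  (F : ModuleCat.{u} A ⥤ ModuleCat.{u} B)
  [PreservesFiniteColimits F] [∀ J : Type u, PreservesColimitsOfShape (Discrete J) F]

instance : PreservesFilteredColimitsOfSize.{u, u} F := by
  haveI : PreservesColimitsOfSize.{u, u} F :=
    preservesColimits_of_preservesCoequalizers_and_coproducts F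
  exact ⟨fun J _ _ => inferInstance⟩



theorem rhoM_add {M : ModuleCat.{u} A} (x y : M) : rhoM (x + y) = rhoM x + rhoM y := by
  ext
  simp [rhoM]

theorem rhoM_one : rhoM (1 : (ModuleCat.of A A : ModuleCat.{u} A)) = 𝟙 _ := by
  ext
  simp [rhoM]

/-- multiplication by `a` on `A` -/
abbrev mulM (a : A) : ModuleCat.of A A ⟶ ModuleCat.of A A := a • 𝟙 (ModuleCat.of A A)

theorem mulM_eq (a : A) : mulM a = (mulA a).hom := rfl

variable (F' : ModuleCat.{u} A ⥤ ModuleCat.{u} B)
  [PreservesFiniteColimits F'] [∀ J : Type u, PreservesColimitsOfShape (Discrete J) F']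

theorem uniq_nat (t t' : F ⟶ F') (h : t.app (ModuleCat.of A A) = t'.app (ModuleCat.of A A)) :
    t = t' := by
  ext M : 2
  apply Psi_inj F M (F'.obj M)
  refine LinearMap.ext fun x => ?_
  change F.map (rhoM x) ≫ t.app M = F.map (rhoM x) ≫ t'.app M
  rw [t.naturality, t'.naturality, h]

variable {F F'} in
/-- the linear map defining the component -/
def psiM (φ : F.obj (ModuleCat.of A A) ⟶ F'.obj (ModuleCat.of A A))
    (hφ : ∀ a : A, F.map (mulM a) ≫ φ = φ ≫ F'.map (mulM a)) (M : ModuleCat.{u} A) :
    M →ₗ[A] HomK ((Fr F).obj AA) (kap (Fr F)) (F'.obj M) where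
  toFun x := (φ ≫ F'.map (rhoM x) : F.obj (ModuleCat.of A A) ⟶ F'.obj M)
  map_add' x y := by
    have := Groth.Agent.S6716.additive F'
    rw [rhoM_add, F'.map_add, Preadditive.comp_add]
    rfl
  map_smul' a x := by
    rw [rhoM_smul, F'.map_comp, ← Category.assoc, ← mulM_eq, ← hφ, Category.assoc]
    rfl

theorem exists_nat (φ : F.obj (ModuleCat.of A A) ⟶ F'.obj (ModuleCat.of A A))
    (hφ : ∀ a : A, F.map (mulM a) ≫ φ = φ ≫ F'.map (mulM a)) :
    ∃ t : F ⟶ F', t.app (ModuleCat.of A A) = φ := by
  choose tM htM using fun M : ModuleCat.{u} A => (Psi_bij F M (F'.obj M)).2 (psiM φ hφ M)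
  have key : ∀ (M : ModuleCat.{u} A) (x : M),
      F.map (rhoM x) ≫ tM M = φ ≫ F'.map (rhoM x) := fun M x =>
    LinearMap.congr_fun (htM M) x
  refine ⟨{ app := tM, naturality := ?_ }, ?_⟩
  · intro M N f
    apply Psi_inj F M (F'.obj N)
    refine LinearMap.ext fun x => ?_
    change F.map (rhoM x) ≫ F.map f ≫ tM N = F.map (rhoM x) ≫ tM M ≫ F'.map f
    rw [← Category.assoc, ← F.map_comp, rhoM_comp, key, ← Category.assoc, key, Category.assoc,
      ← F'.map_comp, rhoM_comp]
  · have := key (ModuleCat.of A A) (1 : A)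
    rw [rhoM_one, F.map_id, F'.map_id, Category.id_comp, Category.comp_id] at this
    exact this

theorem iff_nat (φ : F.obj (ModuleCat.of A A) ⟶ F'.obj (ModuleCat.of A A)) :
    (∃ t : F ⟶ F', t.app (ModuleCat.of A A) = φ) ↔
      ∀ a : A, F.map (a • 𝟙 (ModuleCat.of A A)) ≫ φ = φ ≫ F'.map (a • 𝟙 (ModuleCat.of A A)) := by
  constructor
  · rintro ⟨t, rfl⟩ a
    exact t.naturality _
  · intro h
    exact exists_nat F F' φ h


/-- the bimodule `F(A)` -/
def KK : Type u := (F.obj (ModuleCat.of A A) : ModuleCat.{u} B)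

instance : AddCommGroup (KK F) := inferInstanceAs (AddCommGroup (F.obj (ModuleCat.of A A)))
instance : Module B (KK F) := inferInstanceAs (Module B (F.obj (ModuleCat.of A A)))

/-- the action of `A` -/
noncomputable def actA : A →+* Module.End B (KK F) :=
  (ModuleCat.endRingEquiv (F.obj (ModuleCat.of A A))).toRingHom.comp (kap (Fr F))

noncomputable instance : Module A (KK F) := Module.compHom (KK F) (actA F)

theorem smulA_def (a : A) (k : KK F) : a • k = (F.map (mulM a)).hom k := rfl

instance : SMulCommClass A B (KK F) :=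
  ⟨fun a b k => by
    change (F.map (mulM a)).hom (b • k) = b • (F.map (mulM a)).hom k
    exact map_smul _ b k⟩

theorem rhoM_zero {M : ModuleCat.{u} A} : rhoM (0 : M) = 0 := by
  ext
  simp [rhoM]

/-- the balanced biadditive map -/
noncomputable def biadd (M : ModuleCat.{u} A) : KK F →+ M →+ F.obj M where
  toFun k :=
    { toFun := fun m => (F.map (rhoM m)).hom k
      map_zero' := by
        have := Groth.Agent.S6716.additive F
        rw [rhoM_zero, F.map_zero]
        rfl
      map_add' := fun m m' => by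
        have := Groth.Agent.S6716.additive F
        rw [rhoM_add, F.map_add]
        rfl }
  map_zero' := by
    ext m
    change (F.map (rhoM m)).hom 0 = 0
    exact map_zero _
  map_add' k k' := by
    ext m
    change (F.map (rhoM m)).hom (k + k') = (F.map (rhoM m)).hom k + (F.map (rhoM m)).hom k'
    exact map_add _ _ _

theorem biadd_apply (M : ModuleCat.{u} A) (k : KK F) (m : M) :
    biadd F M k m = (F.map (rhoM m)).hom k := rfl

theorem biadd_bal (M : ModuleCat.{u} A) (a : A) (k : KK F) (m : M) :
    biadd F M (a • k) m = biadd F M k (a • m) := by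
  rw [biadd_apply, biadd_apply, rhoM_smul, F.map_comp, smulA_def]
  rfl

/-- the comparison map `K ⊗ M → F M` -/
noncomputable def etaLin (M : ModuleCat.{u} A) : KK F ⊗[A] M →ₗ[B] F.obj M where
  toFun := TensorProduct.liftAddHom (biadd F M) (biadd_bal F M)
  map_add' := map_add _
  map_smul' b x := by
    induction x using TensorProduct.induction_on with
    | zero => simp
    | tmul k m =>
      rw [TensorProduct.smul_tmul', TensorProduct.liftAddHom_tmul, TensorProduct.liftAddHom_tmul,
        biadd_apply, biadd_apply]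
      exact (F.map (rhoM m)).hom.map_smul b k
    | add x y hx hy =>
      rw [smul_add, map_add, map_add, hx, hy, smul_add]

theorem etaLin_tmul (M : ModuleCat.{u} A) (k : KK F) (m : M) :
    etaLin F M (k ⊗ₜ m) = (F.map (rhoM m)).hom k := rfl

/-- `k ↦ k ⊗ m` -/
noncomputable def tmulLin (M : ModuleCat.{u} A) (m : M) : KK F →ₗ[B] KK F ⊗[A] M where
  toFun := fun k => k ⊗ₜ[A] m
  map_add' := fun k k' => TensorProduct.add_tmul _ _ _
  map_smul' := fun b k => (TensorProduct.smul_tmul' b k m).symm

/-- `k ↦ k ⊗ m` as a morphism -/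
noncomputable def tmulRight (M : ModuleCat.{u} A) (m : M) :
    F.obj (ModuleCat.of A A) ⟶ ModuleCat.of B (KK F ⊗[A] M) :=
  ModuleCat.ofHom (tmulLin F M m)

theorem tmulRight_apply (M : ModuleCat.{u} A) (m : M) (k : KK F) :
    (tmulRight F M m).hom k = k ⊗ₜ[A] m := rfl

/-- the linear map defining `θ` -/
noncomputable def thetaLin (M : ModuleCat.{u} A) :
    M →ₗ[A] HomK ((Fr F).obj AA) (kap (Fr F)) (ModuleCat.of B (KK F ⊗[A] M)) where
  toFun m := tmulRight F M m
  map_add' m m' := by
    apply ModuleCat.hom_ext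
    refine LinearMap.ext fun k => ?_
    exact TensorProduct.tmul_add _ _ _
  map_smul' a m := by
    apply ModuleCat.hom_ext
    refine LinearMap.ext fun (k : KK F) => ?_
    change k ⊗ₜ[A] (a • m) = ((a • k) ⊗ₜ[A] m : KK F ⊗[A] M)
    rw [TensorProduct.smul_tmul]

/-- the inverse map -/
noncomputable def theta (M : ModuleCat.{u} A) : F.obj M ⟶ ModuleCat.of B (KK F ⊗[A] M) :=
  (PsiE F M _).symm (thetaLin F M)

theorem theta_spec (M : ModuleCat.{u} A) (m : M) :
    F.map (rhoM m) ≫ theta F M = tmulRight F M m := by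
  have h := Equiv.apply_symm_apply (PsiE F M (ModuleCat.of B (KK F ⊗[A] M))) (thetaLin F M)
  exact LinearMap.congr_fun h m

theorem theta_eta (M : ModuleCat.{u} A) (x : KK F ⊗[A] M) :
    (theta F M).hom (etaLin F M x) = x := by
  induction x using TensorProduct.induction_on with
  | zero => simp
  | tmul k m =>
    rw [etaLin_tmul]
    have := congrArg (fun t => t.hom k) (theta_spec F M m)
    exact this
  | add x y hx hy => rw [map_add, map_add, hx, hy]

theorem eta_theta (M : ModuleCat.{u} A) :
    theta F M ≫ ModuleCat.ofHom (etaLin F M) = 𝟙 (F.obj M) := by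
  apply Psi_inj F M (F.obj M)
  refine LinearMap.ext fun m => ?_
  change F.map (rhoM m) ≫ theta F M ≫ ModuleCat.ofHom (etaLin F M) = F.map (rhoM m) ≫ 𝟙 _
  rw [← Category.assoc, theta_spec, Category.comp_id]
  apply ModuleCat.hom_ext
  refine LinearMap.ext fun k => ?_
  rfl

/-- the comparison isomorphism -/
noncomputable def etaEquiv (M : ModuleCat.{u} A) : (KK F ⊗[A] M) ≃ₗ[B] F.obj M :=
  LinearEquiv.ofLinear (etaLin F M) (theta F M).hom
    (by
      refine LinearMap.ext fun y => ?_
      have := congrArg (fun t => t.hom y) (eta_theta F M)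
      exact this)
    (by
      refine LinearMap.ext fun x => ?_
      exact theta_eta F M x)

theorem etaEquiv_nat (M N : ModuleCat.{u} A) (f : M ⟶ N) (x : KK F ⊗[A] M) :
    etaEquiv F N (LinearMap.lTensor (KK F) f.hom x) = F.map f (etaEquiv F M x) := by
  change etaLin F N (LinearMap.lTensor (KK F) f.hom x) = (F.map f).hom (etaLin F M x)
  induction x using TensorProduct.induction_on with
  | zero => simp
  | tmul k m =>
    rw [LinearMap.lTensor_tmul, etaLin_tmul, etaLin_tmul, ← rhoM_comp, F.map_comp]
    rfl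
  | add x y hx hy => rw [map_add, map_add, map_add, map_add, hx, hy]


theorem rcompat (R : Type u) [CommRing R] [Algebra R A] [Algebra R B] [F.Additive] [F.Linear R]
    (r : R) (x : KK F) : algebraMap R A r • x = algebraMap R B r • x := by
  rw [smulA_def]
  have h2 : F.map (mulM (algebraMap R A r)) = r • 𝟙 (F.obj (ModuleCat.of A A)) := by
    have h3 := F.map_smul r (𝟙 (ModuleCat.of A A))
    rw [F.map_id] at h3
    refine Eq.trans ?_ h3
    congr 1
  exact congrArg (fun t : F.obj (ModuleCat.of A A) ⟶ F.obj (ModuleCat.of A A) => t.hom x) h2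

end

theorem main6769
    (R : Type u) [CommRing R] (A B : Type u) [CommRing A] [CommRing B] [Algebra R A] [Algebra R B]
    (F F' : ModuleCat.{u} A ⥤ ModuleCat.{u} B) [F.Additive] [F.Linear R] [F'.Additive] [F'.Linear R]
    [PreservesFiniteColimits F] [∀ J : Type u, PreservesColimitsOfShape (Discrete J) F]
    [PreservesFiniteColimits F'] [∀ J : Type u, PreservesColimitsOfShape (Discrete J) F'] :
    (∃ (K : Type u) (_ : AddCommGroup K) (_ : Module A K) (_ : Module B K) (_ : SMulCommClass A B K),
      (∀ (r : R) (x : K), algebraMap R A r • x = algebraMap R B r • x) ∧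
      ∃ η : ∀ M : ModuleCat.{u} A, (K ⊗[A] M) ≃ₗ[B] F.obj M,
        ∀ (M N : ModuleCat.{u} A) (f : M ⟶ N) (x : K ⊗[A] M),
          η N (LinearMap.lTensor K f.hom x) = F.map f (η M x)) ∧
    (∀ t t' : F ⟶ F', t.app (ModuleCat.of A A) = t'.app (ModuleCat.of A A) → t = t') ∧
    (∀ φ : F.obj (ModuleCat.of A A) ⟶ F'.obj (ModuleCat.of A A),
      (∃ t : F ⟶ F', t.app (ModuleCat.of A A) = φ) ↔
        ∀ a : A, F.map (a • 𝟙 (ModuleCat.of A A)) ≫ φ = φ ≫ F'.map (a • 𝟙 (ModuleCat.of A A))) := by
  refine ⟨⟨KK F, inferInstance, inferInstance, inferInstance, inferInstance,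
    rcompat F R, etaEquiv F, etaEquiv_nat F⟩, uniq_nat F F', iff_nat F F'⟩


end helpers

/-- Let R be a commutative ring and A, B commutative R-algebras; Mod_A and Mod_B are R-linear
categories. Suppose F, F' : Mod_A ⥤ Mod_B are R-linear functors, each of which preserves finite
colimits (so is right exact) and also preserves direct sums indexed by any set. Then: (i) there is
an A ⊗_R B-module K — a module over A and over B with commuting actions on which the two R-actions
agree — and B-linear isomorphisms K ⊗_A M ≅ F(M) natural in the A-module M; (ii) a natural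
transformation F ⟶ F' is determined by its component at A, and a B-linear map φ : F(A) ⟶ F'(A) is
the component at A of some natural transformation F ⟶ F' if and only if it commutes with the
A-actions, i.e. F(a · id_A) ≫ φ = φ ≫ F'(a · id_A) for all a ∈ A. (Together: K ↦ (- ⊗_A K) is an
equivalence from Mod_{A ⊗_R B} onto the category of such functors.) -/
theorem result
    (R : Type u) [CommRing R] (A B : Type u) [CommRing A] [CommRing B] [Algebra R A] [Algebra R B]
    (F F' : ModuleCat.{u} A ⥤ ModuleCat.{u} B) [F.Additive] [F.Linear R] [F'.Additive] [F'.Linear R]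
    [PreservesFiniteColimits F] [∀ J : Type u, PreservesColimitsOfShape (Discrete J) F]
    [PreservesFiniteColimits F'] [∀ J : Type u, PreservesColimitsOfShape (Discrete J) F'] :
    (∃ (K : Type u) (_ : AddCommGroup K) (_ : Module A K) (_ : Module B K) (_ : SMulCommClass A B K),
      (∀ (r : R) (x : K), algebraMap R A r • x = algebraMap R B r • x) ∧
      ∃ η : ∀ M : ModuleCat.{u} A, (K ⊗[A] M) ≃ₗ[B] F.obj M,
        ∀ (M N : ModuleCat.{u} A) (f : M ⟶ N) (x : K ⊗[A] M),
          η N (LinearMap.lTensor K f.hom x) = F.map f (η M x)) ∧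
    (∀ t t' : F ⟶ F', t.app (ModuleCat.of A A) = t'.app (ModuleCat.of A A) → t = t') ∧
    (∀ φ : F.obj (ModuleCat.of A A) ⟶ F'.obj (ModuleCat.of A A),
      (∃ t : F ⟶ F', t.app (ModuleCat.of A A) = φ) ↔
        ∀ a : A, F.map (a • 𝟙 (ModuleCat.of A A)) ≫ φ = φ ≫ F'.map (a • 𝟙 (ModuleCat.of A A))) := by
  exact main6769 R A B F F'

end Groth.Agent.S6769
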