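import Groth.Statements.S6775
import Mathlib.CategoryTheory.Abelian.CommSq

set_option autoImplicit false
open CategoryTheory CategoryTheory.Limits
universe v u
open CategoryTheory CategoryTheory.Abelian

namespace Groth.Agent.S6775

/-- In an abelian category a cartesian square whose bottom arrow `k` is an epimorphism is also
cocartesian, and the arrow `f` opposite to `k` is an epimorphism. -/
theorem result {A : Type u} [Category.{v} A] [Abelian A] {w x y z : A} (f : w ⟶ y) (g : w ⟶ x) (h : y ⟶ z) (k : x ⟶ z) (sq : IsPullback f g h k) [Epi k] : IsPushout f g h k ∧ Epi f := by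
  constructor
  · have hex := sq.exact_shortComplex'
    let m : y ⊞ x ≅ y ⊞ x :=
        { hom := biprod.map (𝟙 _) (-𝟙 _)
          inv := biprod.map (𝟙 _) (-𝟙 _)
          hom_inv_id := by ext <;> simp
          inv_hom_id := by ext <;> simp }
    let S := sq.toCommSq.shortComplex
    let e : S ≅ sq.shortComplex' :=
      ShortComplex.isoMk (Iso.refl _) m (Iso.refl _)
        (by
          change 𝟙 w ≫ biprod.lift f g = biprod.lift f (-g) ≫ biprod.map (𝟙 _) (-𝟙 _)
          ext <;> simp)
        (by
          change biprod.map (𝟙 _) (-𝟙 _) ≫ biprod.desc h (-k) = biprod.desc h k ≫ 𝟙 z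
          ext <;> simp)
    have hS : S.Exact := (ShortComplex.exact_iff_of_iso e).2 hex
    have h1 : (biprod.inr : x ⟶ y ⊞ x) ≫ biprod.desc h k = k := biprod.inr_desc _ _
    have h2 : Epi (biprod.desc h k) := epi_of_epi_fac h1
    have : Epi S.g := h2
    refine ⟨sq.toCommSq, ⟨(sq.toCommSq.isColimitEquivIsColimitCokernelCofork).symm ?_⟩⟩
    exact hS.gIsCokernel
  · exact (MorphismProperty.epimorphisms A).of_isPullback sq.flip (by assumption : Epi k)

end Groth.Agent.S6775
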