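import Groth.Statements.S6776
import Mathlib.CategoryTheory.Abelian.CommSq

set_option autoImplicit false
open CategoryTheory CategoryTheory.Limits
universe v u
open CategoryTheory CategoryTheory.Abelian

namespace Groth.Agent.S6776

/-- In an abelian category a cocartesian square whose left arrow `g` is a monomorphism is also
cartesian, and the arrow `h` opposite to `g` is a monomorphism. -/
theorem result {A : Type u} [Category.{v} A] [Abelian A] {w x y z : A} (f : w ⟶ y) (g : w ⟶ x) (h : y ⟶ z) (k : x ⟶ z) (sq : IsPushout f g h k) [Mono g] : IsPullback f g h k ∧ Mono h := by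
  constructor
  · have hex := sq.exact_shortComplex
    let m : y ⊞ x ≅ y ⊞ x :=
        { hom := biprod.map (𝟙 _) (-𝟙 _)
          inv := biprod.map (𝟙 _) (-𝟙 _)
          hom_inv_id := by ext <;> simp
          inv_hom_id := by ext <;> simp }
    let S := sq.toCommSq.shortComplex'
    let e : S ≅ sq.shortComplex :=
      ShortComplex.isoMk (Iso.refl _) m (Iso.refl _)
        (by
          change 𝟙 w ≫ biprod.lift f (-g) = biprod.lift f g ≫ biprod.map (𝟙 _) (-𝟙 _)
          ext <;> simp)
        (by
          change biprod.map (𝟙 _) (-𝟙 _) ≫ biprod.desc h k = biprod.desc h (-k) ≫ 𝟙 z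
          ext <;> simp)
    have hS : S.Exact := (ShortComplex.exact_iff_of_iso e).2 hex
    have h1 : biprod.lift f g ≫ (biprod.snd : y ⊞ x ⟶ x) = g := biprod.lift_snd _ _
    have h2 : Mono (biprod.lift f g) := mono_of_mono_fac h1
    have : Mono S.f := h2
    refine ⟨sq.toCommSq, ⟨(sq.toCommSq.isLimitEquivIsLimitKernelFork).symm ?_⟩⟩
    exact hS.fIsKernel
  · exact (MorphismProperty.monomorphisms A).of_isPushout sq (by assumption : Mono g)

end Groth.Agent.S6776
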