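import Groth.Statements.S6779
import Mathlib

set_option autoImplicit false
open CategoryTheory
universe u
open SSet

namespace Groth.Agent.S6779
section helpers
set_option linter.unusedSectionVars false
set_option linter.unusedVariables false
set_option linter.unusedSimpArgs false

section abstract

variable {A B C : Type*} [Group A] [Group B] [Group C]
  (dA : ℕ → A →* B) (dB : ℕ → B →* C) (sB : ℕ → B →* A) (sC : ℕ → C →* B) (N : ℕ)
  (h1 : ∀ p q, p < q → q ≤ N → ∀ a, dB p (dA q a) = dB (q - 1) (dA p a))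
  (h2 : ∀ p q, p < q → q + 1 ≤ N → ∀ b, dA p (sB q b) = sC (q - 1) (dB p b))
  (h3 : ∀ q, q + 1 ≤ N → ∀ b, dA q (sB q b) = b)
  (h3' : ∀ q, q + 1 ≤ N → ∀ b, dA (q + 1) (sB q b) = b)
  (h4 : ∀ p q, q + 1 < p → p ≤ N → ∀ b, dA p (sB q b) = sC q (dB (p - 1) b))
  (k : ℕ) (hk : k ≤ N) (x : ℕ → B)
  (hx : ∀ p q, p < q → q ≤ N → p ≠ k → q ≠ k → dB p (x q) = dB (q - 1) (x p))

include h1 h2 h3 hx hk in
lemma phase1 : ∀ r, r ≤ k → ∃ u : A, ∀ p, p < r → dA p u = x p := by
  intro r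
  induction r with
  | zero => intro _; exact ⟨1, fun p hp => absurd hp (Nat.not_lt_zero _)⟩
  | succ r ih =>
    intro hr
    obtain ⟨u, hu⟩ := ih (by omega)
    have hrk : r ≠ k := by omega
    have hrN : r + 1 ≤ N := by omega
    set y : B := (dA r u)⁻¹ * x r with hy
    have hy0 : ∀ p, p < r → dB p y = 1 := by
      intro p hp
      have hpk : p ≠ k := by omega
      rw [hy, map_mul, map_inv, h1 p r hp (by omega) u, hu p hp, hx p r hp (by omega) hpk hrk]
      exact inv_mul_cancel _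
    refine ⟨u * sB r y, fun p hp => ?_⟩
    rcases Nat.lt_succ_iff_lt_or_eq.1 hp with hp' | rfl
    · rw [map_mul, hu p hp', h2 p r hp' hrN, hy0 p hp', map_one, mul_one]
    · rw [map_mul, h3 p hrN, hy]
      group

include h1 h2 h3 h3' h4 hx hk in
lemma phase2 : ∀ t, t ≤ N - k → ∃ v : A, (∀ p, p < k → dA p v = x p) ∧
    (∀ p, N - t < p → p ≤ N → dA p v = x p) := by
  intro t
  induction t with
  | zero =>
    intro _
    obtain ⟨u, hu⟩ := phase1 dA dB sB sC N h1 h2 h3 k hk x hx k le_rfl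
    exact ⟨u, hu, fun p hp hp' => by omega⟩
  | succ t ih =>
    intro ht
    obtain ⟨v, hv1, hv2⟩ := ih (by omega)
    set r := N - t with hr
    have hrk : k < r := by omega
    have hrN : r ≤ N := by omega
    have hr1 : 1 ≤ r := by omega
    set y : B := (dA r v)⁻¹ * x r with hy
    have hy1 : ∀ p, p < k → dB p y = 1 := by
      intro p hp
      rw [hy, map_mul, map_inv, h1 p r (by omega) hrN v, hv1 p hp,
        hx p r (by omega) hrN (by omega) (by omega)]
      exact inv_mul_cancel _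
    have hy2 : ∀ p, r < p → p ≤ N → dB (p - 1) y = 1 := by
      intro p hp hpN
      rw [hy, map_mul, map_inv, ← h1 r p hp hpN v, hv2 p hp hpN,
        ← hx r p hp hpN (by omega) (by omega)]
      exact inv_mul_cancel _
    refine ⟨v * sB (r - 1) y, fun p hp => ?_, fun p hp hpN => ?_⟩
    · rw [map_mul, hv1 p hp, h2 p (r - 1) (by omega) (by omega), hy1 p hp, map_one, mul_one]
    · have hp' : r ≤ p := by omega
      rcases hp'.lt_or_eq with hlt | rfl
      · rw [map_mul, hv2 p hlt hpN, h4 p (r - 1) (by omega) hpN, hy2 p hlt hpN, map_one, mul_one]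
      · have e : r - 1 + 1 = r := by omega
        have := h3' (r - 1) (by omega) y
        rw [e] at this
        rw [map_mul, this, hy]
        group

include h1 h2 h3 h3' h4 hx hk in
theorem fill : ∃ g : A, ∀ p, p ≤ N → p ≠ k → dA p g = x p := by
  obtain ⟨v, hv1, hv2⟩ := phase2 dA dB sB sC N h1 h2 h3 h3' h4 k hk x hx (N - k) le_rfl
  refine ⟨v, fun p hpN hpk => ?_⟩
  rcases Nat.lt_or_gt_of_ne hpk with h | h
  · exact hv1 p h
  · exact hv2 p (by omega) hpN

end abstract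


section simplicial
open Simplicial SSet

variable (X : SimplicialObject GrpCat.{u})

/-- faces indexed by `ℕ` -/
noncomputable def dN (m j : ℕ) : (X _⦋m + 1⦌ : GrpCat.{u}) →* (X _⦋m⦌ : GrpCat.{u}) :=
  if h : j < m + 2 then (X.δ (⟨j, h⟩ : Fin (m + 2))).hom else 1

/-- degeneracies indexed by `ℕ` -/
noncomputable def sN (m j : ℕ) : (X _⦋m⦌ : GrpCat.{u}) →* (X _⦋m + 1⦌ : GrpCat.{u}) :=
  if h : j < m + 1 then (X.σ (⟨j, h⟩ : Fin (m + 1))).hom else 1

lemma dN_eq (m j : ℕ) (h : j < m + 2) : dN X m j = (X.δ (⟨j, h⟩ : Fin (m + 2))).hom := dif_pos h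
lemma sN_eq (m j : ℕ) (h : j < m + 1) : sN X m j = (X.σ (⟨j, h⟩ : Fin (m + 1))).hom := dif_pos h

lemma H1 (m p q : ℕ) (hpq : p < q) (hq : q ≤ m + 2) (a : (X _⦋m + 1 + 1⦌ : GrpCat.{u})) :
    dN X m p (dN X (m + 1) q a) = dN X m (q - 1) (dN X (m + 1) p a) := by
  rw [dN_eq X m p (by omega), dN_eq X (m + 1) q (by omega), dN_eq X m (q - 1) (by omega),
    dN_eq X (m + 1) p (by omega)]
  have := X.δ_comp_δ (n := m) (i := ⟨p, by omega⟩) (j := ⟨q - 1, by omega⟩)
    (by simp only [Fin.mk_le_mk]; omega)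
  have e : (⟨q - 1, by omega⟩ : Fin (m + 2)).succ = ⟨q, by omega⟩ := Fin.ext (by simp; omega)
  rw [e] at this
  exact ConcreteCategory.congr_hom this a

lemma H2 (m p q : ℕ) (hpq : p < q) (hq : q + 1 ≤ m + 2) (b : (X _⦋m + 1⦌ : GrpCat.{u})) :
    dN X (m + 1) p (sN X (m + 1) q b) = sN X m (q - 1) (dN X m p b) := by
  rw [dN_eq X (m + 1) p (by omega), sN_eq X (m + 1) q (by omega), sN_eq X m (q - 1) (by omega),
    dN_eq X m p (by omega)]
  have := X.δ_comp_σ_of_le (n := m) (i := ⟨p, by omega⟩) (j := ⟨q - 1, by omega⟩)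
    (by simp only [Fin.castSucc_mk, Fin.mk_le_mk]; omega)
  have e : (⟨q - 1, by omega⟩ : Fin (m + 1)).succ = ⟨q, by omega⟩ := Fin.ext (by simp; omega)
  rw [e] at this
  exact ConcreteCategory.congr_hom this b

lemma H3 (m q : ℕ) (hq : q + 1 ≤ m + 1) (b : (X _⦋m⦌ : GrpCat.{u})) :
    dN X m q (sN X m q b) = b := by
  rw [dN_eq X m q (by omega), sN_eq X m q (by omega)]
  have := X.δ_comp_σ_self (n := m) (i := ⟨q, by omega⟩)
  exact ConcreteCategory.congr_hom this b

lemma H3' (m q : ℕ) (hq : q + 1 ≤ m + 1) (b : (X _⦋m⦌ : GrpCat.{u})) :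
    dN X m (q + 1) (sN X m q b) = b := by
  rw [dN_eq X m (q + 1) (by omega), sN_eq X m q (by omega)]
  have := X.δ_comp_σ_succ (n := m) (i := ⟨q, by omega⟩)
  exact ConcreteCategory.congr_hom this b

lemma H4 (m p q : ℕ) (hpq : q + 1 < p) (hp : p ≤ m + 2) (b : (X _⦋m + 1⦌ : GrpCat.{u})) :
    dN X (m + 1) p (sN X (m + 1) q b) = sN X m q (dN X m (p - 1) b) := by
  rw [dN_eq X (m + 1) p (by omega), sN_eq X (m + 1) q (by omega), sN_eq X m q (by omega),
    dN_eq X m (p - 1) (by omega)]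
  have := X.δ_comp_σ_of_gt (n := m) (i := ⟨p - 1, by omega⟩) (j := ⟨q, by omega⟩)
    (by simp only [Fin.castSucc_mk, Fin.mk_lt_mk]; omega)
  have e : (⟨p - 1, by omega⟩ : Fin (m + 2)).succ = ⟨p, by omega⟩ := Fin.ext (by simp; omega)
  rw [e] at this
  exact ConcreteCategory.congr_hom this b


/-- the underlying simplicial set -/
abbrev Z : SSet.{u} := X ⋙ forget GrpCat.{u}

lemma Zδ (m : ℕ) (j : Fin (m + 2)) (a : (X _⦋m + 1⦌ : GrpCat.{u})) :
    (Z X).δ j a = (X.δ j).hom a := rfl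

/-- algebraic horn filling in a simplicial group -/
lemma alg_fill (m : ℕ) (i : Fin (m + 3)) (x : Fin (m + 3) → (X _⦋m + 1⦌ : GrpCat.{u}))
    (hx : ∀ (j k : Fin (m + 3)) (hj : j ≠ i) (hk : k ≠ i) (hjk : j < k),
      (X.δ (k.pred (Fin.ne_zero_of_lt hjk))).hom (x j) =
        (X.δ (j.castPred (Fin.ne_last_of_lt hjk))).hom (x k)) :
    ∃ g : (X _⦋m + 1 + 1⦌ : GrpCat.{u}), ∀ j : Fin (m + 3), j ≠ i → (X.δ j).hom g = x j := by
  let xN : ℕ → (X _⦋m + 1⦌ : GrpCat.{u}) := fun j => if h : j < m + 3 then x ⟨j, h⟩ else 1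
  have hxN : ∀ j (h : j < m + 3), xN j = x ⟨j, h⟩ := fun j h => dif_pos h
  obtain ⟨g, hg⟩ := fill (dN X (m + 1)) (dN X m) (sN X (m + 1)) (sN X m) (m + 2)
    (fun p q hpq hq a => H1 X m p q hpq hq a)
    (fun p q hpq hq b => H2 X m p q hpq hq b)
    (fun q hq b => H3 X (m + 1) q (by omega) b)
    (fun q hq b => H3' X (m + 1) q (by omega) b)
    (fun p q hpq hp b => H4 X m p q hpq hp b)
    i.val (by have := i.isLt; omega) xN
    (by
      intro p q hpq hq hpk hqk
      rw [hxN q (by omega), hxN p (by omega), dN_eq X m p (by omega), dN_eq X m (q - 1) (by omega)]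
      have := hx ⟨p, by omega⟩ ⟨q, by omega⟩ (fun h => hpk (by rw [← h]))
        (fun h => hqk (by rw [← h])) (by simp only [Fin.mk_lt_mk]; exact hpq)
      simp only [Fin.pred_mk, Fin.castPred_mk] at this
      exact this.symm)
  refine ⟨g, fun j hj => ?_⟩
  have := hg j.val (by have := j.isLt; omega) (fun h => hj (Fin.ext h))
  rw [dN_eq X (m + 1) j.val (by have := j.isLt; omega), hxN j.val j.isLt] at this
  exact this


theorem main6779 : SSet.KanComplex (X ⋙ forget GrpCat.{u}) := by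
  rw [SSet.KanComplex.iff]
  intro n i f hf
  cases n with
  | zero =>
    -- one face only
    obtain ⟨j₀, hj₀⟩ : ∃ j₀ : Fin 2, j₀ ≠ i := by
      by_cases h : i = 0
      · exact ⟨1, by rw [h]; decide⟩
      · exact ⟨0, fun h' => h h'.symm⟩
    let x₀ : (X _⦋0⦌ : GrpCat.{u}) := yonedaEquiv (f j₀ hj₀)
    let g : (X _⦋0 + 1⦌ : GrpCat.{u}) := (X.σ (0 : Fin 1)).hom x₀
    refine ⟨yonedaEquiv.symm (show (Z X) _⦋0 + 1⦌ from g), fun j hj => ?_⟩
    have hjj : j = j₀ := by
      revert hj hj₀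
      fin_cases i <;> fin_cases j <;> fin_cases j₀ <;> simp
    subst hjj
    rw [stdSimplex.δ_comp_yonedaEquiv_symm]
    apply yonedaEquiv.injective
    rw [Equiv.apply_symm_apply]
    show (X.δ j).hom g = x₀
    have h0 := ConcreteCategory.congr_hom (X.δ_comp_σ_self (n := 0) (i := (0 : Fin 1))) x₀
    have h1 := ConcreteCategory.congr_hom (X.δ_comp_σ_succ (n := 0) (i := (0 : Fin 1))) x₀
    fin_cases j
    · exact h0
    · exact h1
  | succ m =>
    let x : Fin (m + 3) → (X _⦋m + 1⦌ : GrpCat.{u}) := fun j =>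
      if h : j ≠ i then yonedaEquiv (f j h) else 1
    have hxj : ∀ j (h : j ≠ i), x j = yonedaEquiv (f j h) := fun j h => dif_pos h
    obtain ⟨g, hg⟩ := alg_fill X m i x (by
      intro j k hj hk hjk
      rw [hxj j hj, hxj k hk]
      have := hf j k hj hk hjk
      have := congrArg yonedaEquiv this
      rw [stdSimplex.yonedaEquiv_δ_comp, stdSimplex.yonedaEquiv_δ_comp] at this
      exact this)
    refine ⟨yonedaEquiv.symm (show (Z X) _⦋m + 1 + 1⦌ from g), fun j hj => ?_⟩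
    rw [stdSimplex.δ_comp_yonedaEquiv_symm]
    apply yonedaEquiv.injective
    rw [Equiv.apply_symm_apply]
    show (X.δ j).hom g = _
    rw [hg j hj, hxj j hj]

end simplicial


end helpers

/-- The underlying simplicial set of a simplicial group is a Kan complex. -/
theorem result (X : SimplicialObject GrpCat.{u}) : SSet.KanComplex (X ⋙ forget GrpCat.{u}) := by
  exact main6779 X

end Groth.Agent.S6779
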