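import Groth.Statements.S6780
import Mathlib

set_option autoImplicit false
open CategoryTheory
universe u
open SSet

namespace Groth.Agent.S6780
section helpers
open Opposite
set_option linter.unusedSectionVars false
set_option linter.unusedVariables false
set_option linter.unusedSimpArgs false

section abstract

variable {A B C : Type*} [AddCommGroup A] [AddCommGroup B] [AddCommGroup C]
  (dA : ℕ → A →+ B) (dB : ℕ → B →+ C) (sB : ℕ → B →+ A) (sC : ℕ → C →+ B) (N : ℕ)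
  (h1 : ∀ p q, p < q → q ≤ N → ∀ a, dB p (dA q a) = dB (q - 1) (dA p a))
  (h2 : ∀ p q, p < q → q + 1 ≤ N → ∀ b, dA p (sB q b) = sC (q - 1) (dB p b))
  (h3 : ∀ q, q + 1 ≤ N → ∀ b, dA q (sB q b) = b)
  (h3' : ∀ q, q + 1 ≤ N → ∀ b, dA (q + 1) (sB q b) = b)
  (h4 : ∀ p q, q + 1 < p → p ≤ N → ∀ b, dA p (sB q b) = sC q (dB (p - 1) b))
  (k : ℕ) (hk : k ≤ N) (x : ℕ → B)
  (hx : ∀ p q, p < q → q ≤ N → p ≠ k → q ≠ k → dB p (x q) = dB (q - 1) (x p))
  (Q : A → Prop) (g₀ : A) (hQ0 : Q g₀)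
  (hQ : ∀ u q r, Q u → r ≤ N → r ≠ k → Q (u + sB q (-(dA r u) + x r)))

include h1 h2 h3 hx hk hQ0 hQ in
lemma phase1 : ∀ r, r ≤ k → ∃ u : A, Q u ∧ ∀ p, p < r → dA p u = x p := by
  intro r
  induction r with
  | zero => intro _; exact ⟨g₀, hQ0, fun p hp => absurd hp (Nat.not_lt_zero _)⟩
  | succ r ih =>
    intro hr
    obtain ⟨u, hQu, hu⟩ := ih (by omega)
    have hrk : r ≠ k := by omega
    have hrN : r + 1 ≤ N := by omega
    set y : B := -(dA r u) + x r with hy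
    have hy0 : ∀ p, p < r → dB p y = 0 := by
      intro p hp
      have hpk : p ≠ k := by omega
      rw [hy, map_add, map_neg, h1 p r hp (by omega) u, hu p hp, hx p r hp (by omega) hpk hrk]
      exact neg_add_cancel _
    refine ⟨u + sB r y, hQ u r r hQu (by omega) hrk, fun p hp => ?_⟩
    rcases Nat.lt_succ_iff_lt_or_eq.1 hp with hp' | rfl
    · rw [map_add, hu p hp', h2 p r hp' hrN, hy0 p hp', map_zero, add_zero]
    · rw [map_add, h3 p hrN, hy]
      abel

include h1 h2 h3 h3' h4 hx hk hQ0 hQ in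
lemma phase2 : ∀ t, t ≤ N - k → ∃ v : A, Q v ∧ (∀ p, p < k → dA p v = x p) ∧
    (∀ p, N - t < p → p ≤ N → dA p v = x p) := by
  intro t
  induction t with
  | zero =>
    intro _
    obtain ⟨u, hQu, hu⟩ := phase1 dA dB sB sC N h1 h2 h3 k hk x hx Q g₀ hQ0 hQ k le_rfl
    exact ⟨u, hQu, hu, fun p hp hp' => by omega⟩
  | succ t ih =>
    intro ht
    obtain ⟨v, hQv, hv1, hv2⟩ := ih (by omega)
    set r := N - t with hr
    have hrk : k < r := by omega
    have hrN : r ≤ N := by omega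
    have hr1 : 1 ≤ r := by omega
    set y : B := -(dA r v) + x r with hy
    have hy1 : ∀ p, p < k → dB p y = 0 := by
      intro p hp
      rw [hy, map_add, map_neg, h1 p r (by omega) hrN v, hv1 p hp,
        hx p r (by omega) hrN (by omega) (by omega)]
      exact neg_add_cancel _
    have hy2 : ∀ p, r < p → p ≤ N → dB (p - 1) y = 0 := by
      intro p hp hpN
      rw [hy, map_add, map_neg, ← h1 r p hp hpN v, hv2 p hp hpN,
        ← hx r p hp hpN (by omega) (by omega)]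
      exact neg_add_cancel _
    refine ⟨v + sB (r - 1) y, hQ v (r - 1) r hQv hrN (by omega), fun p hp => ?_, fun p hp hpN => ?_⟩
    · rw [map_add, hv1 p hp, h2 p (r - 1) (by omega) (by omega), hy1 p hp, map_zero, add_zero]
    · have hp' : r ≤ p := by omega
      rcases hp'.lt_or_eq with hlt | rfl
      · rw [map_add, hv2 p hlt hpN, h4 p (r - 1) (by omega) hpN, hy2 p hlt hpN, map_zero, add_zero]
      · have e : r - 1 + 1 = r := by omega
        have := h3' (r - 1) (by omega) y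
        rw [e] at this
        rw [map_add, this, hy]
        abel

include h1 h2 h3 h3' h4 hx hk hQ0 hQ in
theorem fill : ∃ g : A, Q g ∧ ∀ p, p ≤ N → p ≠ k → dA p g = x p := by
  obtain ⟨v, hQv, hv1, hv2⟩ :=
    phase2 dA dB sB sC N h1 h2 h3 h3' h4 k hk x hx Q g₀ hQ0 hQ (N - k) le_rfl
  refine ⟨v, hQv, fun p hpN hpk => ?_⟩
  rcases Nat.lt_or_gt_of_ne hpk with h | h
  · exact hv1 p h
  · exact hv2 p (by omega) hpN

end abstract


section simplicial
open Simplicial SSet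

variable (X : SimplicialObject AddCommGrpCat.{u})

/-- faces indexed by `ℕ` -/
noncomputable def dN (m j : ℕ) : (X _⦋m + 1⦌ : AddCommGrpCat.{u}) →+ (X _⦋m⦌ : AddCommGrpCat.{u}) :=
  if h : j < m + 2 then (X.δ (⟨j, h⟩ : Fin (m + 2))).hom else 0

/-- degeneracies indexed by `ℕ` -/
noncomputable def sN (m j : ℕ) : (X _⦋m⦌ : AddCommGrpCat.{u}) →+ (X _⦋m + 1⦌ : AddCommGrpCat.{u}) :=
  if h : j < m + 1 then (X.σ (⟨j, h⟩ : Fin (m + 1))).hom else 0

lemma dN_eq (m j : ℕ) (h : j < m + 2) : dN X m j = (X.δ (⟨j, h⟩ : Fin (m + 2))).hom := dif_pos h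
lemma sN_eq (m j : ℕ) (h : j < m + 1) : sN X m j = (X.σ (⟨j, h⟩ : Fin (m + 1))).hom := dif_pos h
lemma dN_eq0 (m j : ℕ) (h : ¬ j < m + 2) : dN X m j = 0 := dif_neg h
lemma sN_eq0 (m j : ℕ) (h : ¬ j < m + 1) : sN X m j = 0 := dif_neg h

lemma H1 (m p q : ℕ) (hpq : p < q) (hq : q ≤ m + 2) (a : (X _⦋m + 1 + 1⦌ : AddCommGrpCat.{u})) :
    dN X m p (dN X (m + 1) q a) = dN X m (q - 1) (dN X (m + 1) p a) := by
  rw [dN_eq X m p (by omega), dN_eq X (m + 1) q (by omega), dN_eq X m (q - 1) (by omega),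
    dN_eq X (m + 1) p (by omega)]
  have := X.δ_comp_δ (n := m) (i := ⟨p, by omega⟩) (j := ⟨q - 1, by omega⟩)
    (by simp only [Fin.mk_le_mk]; omega)
  have e : (⟨q - 1, by omega⟩ : Fin (m + 2)).succ = ⟨q, by omega⟩ := Fin.ext (by simp; omega)
  rw [e] at this
  exact ConcreteCategory.congr_hom this a

lemma H2 (m p q : ℕ) (hpq : p < q) (hq : q + 1 ≤ m + 2) (b : (X _⦋m + 1⦌ : AddCommGrpCat.{u})) :
    dN X (m + 1) p (sN X (m + 1) q b) = sN X m (q - 1) (dN X m p b) := by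
  rw [dN_eq X (m + 1) p (by omega), sN_eq X (m + 1) q (by omega), sN_eq X m (q - 1) (by omega),
    dN_eq X m p (by omega)]
  have := X.δ_comp_σ_of_le (n := m) (i := ⟨p, by omega⟩) (j := ⟨q - 1, by omega⟩)
    (by simp only [Fin.castSucc_mk, Fin.mk_le_mk]; omega)
  have e : (⟨q - 1, by omega⟩ : Fin (m + 1)).succ = ⟨q, by omega⟩ := Fin.ext (by simp; omega)
  rw [e] at this
  exact ConcreteCategory.congr_hom this b

lemma H3 (m q : ℕ) (hq : q + 1 ≤ m + 1) (b : (X _⦋m⦌ : AddCommGrpCat.{u})) :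
    dN X m q (sN X m q b) = b := by
  rw [dN_eq X m q (by omega), sN_eq X m q (by omega)]
  have := X.δ_comp_σ_self (n := m) (i := ⟨q, by omega⟩)
  exact ConcreteCategory.congr_hom this b

lemma H3' (m q : ℕ) (hq : q + 1 ≤ m + 1) (b : (X _⦋m⦌ : AddCommGrpCat.{u})) :
    dN X m (q + 1) (sN X m q b) = b := by
  rw [dN_eq X m (q + 1) (by omega), sN_eq X m q (by omega)]
  have := X.δ_comp_σ_succ (n := m) (i := ⟨q, by omega⟩)
  exact ConcreteCategory.congr_hom this b

lemma H4 (m p q : ℕ) (hpq : q + 1 < p) (hp : p ≤ m + 2) (b : (X _⦋m + 1⦌ : AddCommGrpCat.{u})) :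
    dN X (m + 1) p (sN X (m + 1) q b) = sN X m q (dN X m (p - 1) b) := by
  rw [dN_eq X (m + 1) p (by omega), sN_eq X (m + 1) q (by omega), sN_eq X m q (by omega),
    dN_eq X m (p - 1) (by omega)]
  have := X.δ_comp_σ_of_gt (n := m) (i := ⟨p - 1, by omega⟩) (j := ⟨q, by omega⟩)
    (by simp only [Fin.castSucc_mk, Fin.mk_lt_mk]; omega)
  have e : (⟨p - 1, by omega⟩ : Fin (m + 2)).succ = ⟨p, by omega⟩ := Fin.ext (by simp; omega)
  rw [e] at this
  exact ConcreteCategory.congr_hom this b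

variable {X} {Y : SimplicialObject AddCommGrpCat.{u}} (f : X ⟶ Y)

lemma f_dN (m j : ℕ) (a : (X _⦋m + 1⦌ : AddCommGrpCat.{u})) :
    (f.app (op ⦋m⦌)).hom (dN X m j a) = dN Y m j ((f.app (op ⦋m + 1⦌)).hom a) := by
  by_cases h : j < m + 2
  · rw [dN_eq X m j h, dN_eq Y m j h]
    have := SimplicialObject.δ_naturality f (⟨j, h⟩ : Fin (m + 2))
    exact ConcreteCategory.congr_hom this a
  · rw [dN_eq0 X m j h, dN_eq0 Y m j h]
    simp

lemma f_sN (m j : ℕ) (a : (X _⦋m⦌ : AddCommGrpCat.{u})) :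
    (f.app (op ⦋m + 1⦌)).hom (sN X m j a) = sN Y m j ((f.app (op ⦋m⦌)).hom a) := by
  by_cases h : j < m + 1
  · rw [sN_eq X m j h, sN_eq Y m j h]
    have := SimplicialObject.σ_naturality f (⟨j, h⟩ : Fin (m + 1))
    exact ConcreteCategory.congr_hom this a
  · rw [sN_eq0 X m j h, sN_eq0 Y m j h]
    simp


/-- relative algebraic horn filling -/
lemma alg_fill (hf : ∀ n : SimplexCategoryᵒᵖ, Function.Surjective (f.app n))
    (m : ℕ) (i : Fin (m + 3)) (x : Fin (m + 3) → (X _⦋m + 1⦌ : AddCommGrpCat.{u}))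
    (y : (Y _⦋m + 1 + 1⦌ : AddCommGrpCat.{u}))
    (hx : ∀ (j k : Fin (m + 3)) (hj : j ≠ i) (hk : k ≠ i) (hjk : j < k),
      (X.δ (k.pred (Fin.ne_zero_of_lt hjk))).hom (x j) =
        (X.δ (j.castPred (Fin.ne_last_of_lt hjk))).hom (x k))
    (hxy : ∀ j : Fin (m + 3), j ≠ i → (f.app (op ⦋m + 1⦌)).hom (x j) = (Y.δ j).hom y) :
    ∃ g : (X _⦋m + 1 + 1⦌ : AddCommGrpCat.{u}), (f.app (op ⦋m + 1 + 1⦌)).hom g = y ∧
      ∀ j : Fin (m + 3), j ≠ i → (X.δ j).hom g = x j := by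
  let xN : ℕ → (X _⦋m + 1⦌ : AddCommGrpCat.{u}) := fun j => if h : j < m + 3 then x ⟨j, h⟩ else 0
  have hxN : ∀ j (h : j < m + 3), xN j = x ⟨j, h⟩ := fun j h => dif_pos h
  obtain ⟨g₀, hg₀⟩ := hf (op ⦋m + 1 + 1⦌) y
  obtain ⟨g, hQg, hg⟩ := fill (dN X (m + 1)) (dN X m) (sN X (m + 1)) (sN X m) (m + 2)
    (fun p q hpq hq a => H1 X m p q hpq hq a)
    (fun p q hpq hq b => H2 X m p q hpq hq b)
    (fun q hq b => H3 X (m + 1) q (by omega) b)
    (fun q hq b => H3' X (m + 1) q (by omega) b)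
    (fun p q hpq hp b => H4 X m p q hpq hp b)
    i.val (by have := i.isLt; omega) xN
    (by
      intro p q hpq hq hpk hqk
      rw [hxN q (by omega), hxN p (by omega), dN_eq X m p (by omega), dN_eq X m (q - 1) (by omega)]
      have := hx ⟨p, by omega⟩ ⟨q, by omega⟩ (fun h => hpk (by rw [← h]))
        (fun h => hqk (by rw [← h])) (by simp only [Fin.mk_lt_mk]; exact hpq)
      simp only [Fin.pred_mk] at this
      exact this.symm)
    (fun u => (f.app (op ⦋m + 1 + 1⦌)).hom u = y) g₀ hg₀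
    (by
      intro u q r hu hr hrk
      show (f.app (op ⦋m + 1 + 1⦌)).hom (u + sN X (m + 1) q (-(dN X (m + 1) r u) + xN r)) = y
      rw [map_add, f_sN, map_add, map_neg, f_dN, hu, hxN r (by omega),
        hxy ⟨r, by omega⟩ (fun h => hrk (by rw [← h])), dN_eq Y (m + 1) r (by omega),
        neg_add_cancel, map_zero, add_zero])
  refine ⟨g, hQg, fun j hj => ?_⟩
  have := hg j.val (by have := j.isLt; omega) (fun h => hj (Fin.ext h))
  rw [dN_eq X (m + 1) j.val (by have := j.isLt; omega), hxN j.val j.isLt] at this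
  exact this


/-- underlying simplicial sets -/
abbrev U (X : SimplicialObject AddCommGrpCat.{u}) : SSet.{u} := X ⋙ forget AddCommGrpCat.{u}

abbrev p : U X ⟶ U Y := Functor.whiskerRight f (forget AddCommGrpCat.{u})

lemma lift_exists (hf : ∀ n : SimplexCategoryᵒᵖ, Function.Surjective (f.app n))
    (n : ℕ) (i : Fin (n + 2)) (t : (Λ[n + 1, i] : SSet.{u}) ⟶ U X) (b : Δ[n + 1] ⟶ U Y)
    (w : t ≫ p f = Λ[n + 1, i].ι ≫ b) :
    ∃ l : Δ[n + 1] ⟶ U X, Λ[n + 1, i].ι ≫ l = t ∧ l ≫ p f = b := by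
  -- the algebraic statement
  suffices halg : ∃ g : (X _⦋n + 1⦌ : AddCommGrpCat.{u}),
      (f.app (op ⦋n + 1⦌)).hom g = SSet.yonedaEquiv b ∧
      ∀ j : Fin (n + 2), (hj : j ≠ i) → (X.δ j).hom g = SSet.yonedaEquiv (horn.ι i j hj ≫ t) by
    obtain ⟨g, hg1, hg2⟩ := halg
    refine ⟨SSet.yonedaEquiv.symm (show (U X) _⦋n + 1⦌ from g), ?_, ?_⟩
    · apply horn.hom_ext'
      intro j hj
      rw [horn.ι_ι_assoc, stdSimplex.δ_comp_yonedaEquiv_symm]
      apply SSet.yonedaEquiv.injective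
      rw [Equiv.apply_symm_apply]
      exact hg2 j hj
    · rw [SSet.yonedaEquiv_symm_comp]
      apply SSet.yonedaEquiv.injective
      rw [Equiv.apply_symm_apply]
      exact hg1
  have hxy : ∀ j : Fin (n + 2), (hj : j ≠ i) →
      (f.app (op ⦋n⦌)).hom (SSet.yonedaEquiv (horn.ι i j hj ≫ t)) = (Y.δ j).hom (SSet.yonedaEquiv b) := by
    intro j hj
    have e1 : (horn.ι i j hj ≫ t) ≫ p f = stdSimplex.δ j ≫ b := by
      rw [Category.assoc, w, horn.ι_ι_assoc]
    have e2 := congrArg SSet.yonedaEquiv e1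
    rw [stdSimplex.yonedaEquiv_δ_comp, SSet.yonedaEquiv_comp] at e2
    exact e2
  cases n with
  | zero =>
    obtain ⟨j₀, hj₀⟩ : ∃ j₀ : Fin 2, j₀ ≠ i := by
      by_cases h : i = 0
      · exact ⟨1, by rw [h]; decide⟩
      · exact ⟨0, fun h' => h h'.symm⟩
    obtain ⟨g₀, hg₀⟩ := hf (op ⦋0 + 1⦌) (SSet.yonedaEquiv b)
    let x₀ : (X _⦋0⦌ : AddCommGrpCat.{u}) := SSet.yonedaEquiv (horn.ι i j₀ hj₀ ≫ t)
    have hs : ∀ (z : (X _⦋0⦌ : AddCommGrpCat.{u})), (X.δ j₀).hom ((X.σ (0 : Fin 1)).hom z) = z := by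
      intro z
      have h0 := ConcreteCategory.congr_hom (X.δ_comp_σ_self (n := 0) (i := (0 : Fin 1))) z
      have h1 := ConcreteCategory.congr_hom (X.δ_comp_σ_succ (n := 0) (i := (0 : Fin 1))) z
      fin_cases j₀
      · exact h0
      · exact h1
    refine ⟨g₀ + (X.σ (0 : Fin 1)).hom (x₀ - (X.δ j₀).hom g₀), ?_, fun j hj => ?_⟩
    · have e1 := ConcreteCategory.congr_hom (SimplicialObject.σ_naturality f (0 : Fin 1))
        (x₀ - (X.δ j₀).hom g₀)
      have e2 := ConcreteCategory.congr_hom (SimplicialObject.δ_naturality f j₀) g₀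
      rw [map_add]
      erw [e1]
      show _ + (Y.σ (0 : Fin 1)).hom ((f.app (op ⦋0⦌)).hom (x₀ - (X.δ j₀).hom g₀)) = _
      rw [map_sub]
      erw [e2]
      rw [hxy j₀ hj₀]
      show _ + (Y.σ (0 : Fin 1)).hom ((Y.δ j₀).hom (SSet.yonedaEquiv b) - (Y.δ j₀).hom ((f.app (op ⦋0 + 1⦌)).hom g₀)) = _
      rw [hg₀]
      erw [sub_self, map_zero, add_zero]
    · have hjj : j = j₀ := by
        revert hj hj₀
        fin_cases i <;> fin_cases j <;> fin_cases j₀ <;> simp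
      subst hjj
      rw [map_add, hs]
      abel
  | succ m =>
    let x : Fin (m + 3) → (X _⦋m + 1⦌ : AddCommGrpCat.{u}) := fun j =>
      if h : j ≠ i then SSet.yonedaEquiv (horn.ι i j h ≫ t) else 0
    have hxj : ∀ j (h : j ≠ i), x j = SSet.yonedaEquiv (horn.ι i j h ≫ t) := fun j h => dif_pos h
    obtain ⟨g, hg1, hg2⟩ := alg_fill f hf m i x (SSet.yonedaEquiv b) (by
      intro j k hj hk hjk
      rw [hxj j hj, hxj k hk]
      have := horn.IsCompatible.of_hom t j k hj hk hjk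
      have := congrArg SSet.yonedaEquiv this
      rw [stdSimplex.yonedaEquiv_δ_comp, stdSimplex.yonedaEquiv_δ_comp] at this
      exact this) (by
      intro j hj
      rw [hxj j hj]
      exact hxy j hj)
    exact ⟨g, hg1, fun j hj => by rw [hg2 j hj, hxj j hj]⟩


theorem main6780 (hf : ∀ n : SimplexCategoryᵒᵖ, Function.Surjective (f.app n)) :
    SSet.modelCategoryQuillen.J.rlp (X := X ⋙ forget AddCommGrpCat.{u})
      (Y := Y ⋙ forget AddCommGrpCat.{u}) (Functor.whiskerRight f (forget AddCommGrpCat.{u})) := by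
  intro A B i hi
  simp only [SSet.modelCategoryQuillen.J, MorphismProperty.iSup_iff] at hi
  obtain ⟨n, ⟨i⟩⟩ := hi
  constructor
  intro t b sq
  obtain ⟨l, hl1, hl2⟩ := lift_exists f hf n i t b sq.w
  exact ⟨⟨{ l := l, fac_left := hl1, fac_right := hl2 }⟩⟩

end simplicial


end helpers

/-- A degreewise surjective homomorphism of simplicial abelian groups is a Kan fibration of the
underlying simplicial sets. -/
theorem result {X Y : SimplicialObject AddCommGrpCat.{u}} (f : X ⟶ Y) (hf : ∀ n : SimplexCategoryᵒᵖ, Function.Surjective (f.app n)) : SSet.modelCategoryQuillen.J.rlp (X := X ⋙ forget AddCommGrpCat.{u}) (Y := Y ⋙ forget AddCommGrpCat.{u}) (Functor.whiskerRight f (forget AddCommGrpCat.{u})) := by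
  exact main6780 f hf

end Groth.Agent.S6780
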