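import Groth.Statements.S6781
import Mathlib
import Groth.Agent.S6780

set_option autoImplicit false
open CategoryTheory
universe u
open SSet

namespace Groth.Agent.S6781
section helpers
open Opposite
set_option linter.unusedSectionVars false
set_option linter.unusedVariables false
set_option linter.unusedSimpArgs false

section homology

variable {ι : Type*} {c : ComplexShape ι} (C : HomologicalComplex AddCommGrpCat.{u} c)

lemma π_surj (j : ι) : Function.Surjective (C.homologyπ j).hom := by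
  have : Epi (C.homologyπ j) := inferInstance
  exact (AddCommGrpCat.epi_iff_surjective _).1 this

lemma iCycles_inj (j : ι) : Function.Injective (C.iCycles j).hom := by
  have : Mono (C.iCycles j) := inferInstance
  exact (AddCommGrpCat.mono_iff_injective _).1 this

lemma ker_π_eq (j : ι) :
    (C.homologyπ j).hom.ker = (C.toCycles (c.prev j) j).hom.range := by
  have hex : (ShortComplex.mk (C.toCycles (c.prev j) j) (C.homologyπ j)
      (C.toCycles_comp_homologyπ (c.prev j) j)).Exact :=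
    ShortComplex.exact_of_g_is_cokernel _ (C.homologyIsCokernel (c.prev j) j rfl)
  rw [ShortComplex.ab_exact_iff_range_eq_ker] at hex
  exact hex.symm

lemma ker_d_eq (i : ι) :
    (C.d i (c.next i)).hom.ker = (C.iCycles i).hom.range := by
  have hex : (ShortComplex.mk (C.iCycles i) (C.d i (c.next i)) (C.iCycles_d i (c.next i))).Exact :=
    ShortComplex.exact_of_f_is_kernel _ (C.cyclesIsKernel i (c.next i) rfl)
  rw [ShortComplex.ab_exact_iff_range_eq_ker] at hex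
  exact hex.symm

lemma tc_i (i j : ι) (x : C.X i) :
    (C.iCycles j).hom ((C.toCycles i j).hom x) = (C.d i j).hom x := by
  have := C.toCycles_i i j
  exact ConcreteCategory.congr_hom this x

variable {C} {D : HomologicalComplex AddCommGrpCat.{u} c} (φ : C ⟶ D)

lemma hπ_nat (j : ι) (z : C.cycles j) :
    (HomologicalComplex.homologyMap φ j).hom ((C.homologyπ j).hom z) =
      (D.homologyπ j).hom ((HomologicalComplex.cyclesMap φ j).hom z) := by
  have := HomologicalComplex.homologyπ_naturality φ j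
  exact ConcreteCategory.congr_hom this z

lemma ci_nat (j : ι) (z : C.cycles j) :
    (D.iCycles j).hom ((HomologicalComplex.cyclesMap φ j).hom z) =
      (φ.f j).hom ((C.iCycles j).hom z) := by
  have := HomologicalComplex.cyclesMap_i φ j
  exact ConcreteCategory.congr_hom this z

lemma hInj (j : ι) (hφ : IsIso (HomologicalComplex.homologyMap φ j))
    (z : C.X j) (hz : (C.d j (c.next j)).hom z = 0)
    (v : D.X (c.prev j)) (hv : (D.d (c.prev j) j).hom v = (φ.f j).hom z) :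
    ∃ w : C.X (c.prev j), (C.d (c.prev j) j).hom w = z := by
  have hz' : z ∈ (C.d j (c.next j)).hom.ker := hz
  rw [ker_d_eq] at hz'
  obtain ⟨ζ, hζ⟩ := hz'
  have h1 : (HomologicalComplex.cyclesMap φ j).hom ζ = (D.toCycles (c.prev j) j).hom v := by
    apply iCycles_inj D j
    rw [ci_nat, hζ, tc_i, hv]
  have h2 : (HomologicalComplex.homologyMap φ j).hom ((C.homologyπ j).hom ζ) = 0 := by
    rw [hπ_nat, h1]
    have := D.toCycles_comp_homologyπ (c.prev j) j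
    exact ConcreteCategory.congr_hom this v
  have hbij := (ConcreteCategory.isIso_iff_bijective (HomologicalComplex.homologyMap φ j)).1 hφ
  have h3 : (C.homologyπ j).hom ζ = 0 := by
    apply hbij.1
    rw [h2]
    exact (map_zero _).symm
  have h4 : ζ ∈ (C.homologyπ j).hom.ker := h3
  rw [ker_π_eq] at h4
  obtain ⟨w, hw⟩ := h4
  refine ⟨w, ?_⟩
  rw [← tc_i C (c.prev j) j w, hw, hζ]

lemma hSurj (j : ι) (hφ : IsIso (HomologicalComplex.homologyMap φ j))
    (c' : D.X j) (hc' : (D.d j (c.next j)).hom c' = 0) :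
    ∃ (c₀ : C.X j) (v : D.X (c.prev j)), (C.d j (c.next j)).hom c₀ = 0 ∧
      (φ.f j).hom c₀ - c' = (D.d (c.prev j) j).hom v := by
  have hc'' : c' ∈ (D.d j (c.next j)).hom.ker := hc'
  rw [ker_d_eq] at hc''
  obtain ⟨ζ', hζ'⟩ := hc''
  have hbij := (ConcreteCategory.isIso_iff_bijective (HomologicalComplex.homologyMap φ j)).1 hφ
  obtain ⟨η, hη⟩ := hbij.2 ((D.homologyπ j).hom ζ')
  obtain ⟨ζ, rfl⟩ := π_surj C j η
  have h1 : (HomologicalComplex.cyclesMap φ j).hom ζ - ζ' ∈ (D.homologyπ j).hom.ker := by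
    rw [AddMonoidHom.mem_ker, map_sub, ← hπ_nat]
    have : (HomologicalComplex.homologyMap φ j).hom ((C.homologyπ j).hom ζ) = (D.homologyπ j).hom ζ' := hη
    rw [this, sub_self]
  rw [ker_π_eq] at h1
  obtain ⟨v, hv⟩ := h1
  refine ⟨(C.iCycles j).hom ζ, v, ?_, ?_⟩
  · have := C.iCycles_d j (c.next j)
    exact ConcreteCategory.congr_hom this ζ
  · rw [← tc_i D (c.prev j) j v, hv, map_sub, ci_nat, hζ']

lemma hInj' (i j k : ι) (hi : c.prev j = i) (hk : c.next j = k)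
    (hφ : IsIso (HomologicalComplex.homologyMap φ j))
    (z : C.X j) (hz : (C.d j k).hom z = 0)
    (v : D.X i) (hv : (D.d i j).hom v = (φ.f j).hom z) :
    ∃ w : C.X i, (C.d i j).hom w = z := by
  subst hi hk
  exact hInj φ j hφ z hz v hv

lemma hSurj' (i j k : ι) (hi : c.prev j = i) (hk : c.next j = k)
    (hφ : IsIso (HomologicalComplex.homologyMap φ j))
    (c' : D.X j) (hc' : (D.d j k).hom c' = 0) :
    ∃ (c₀ : C.X j) (v : D.X i), (C.d j k).hom c₀ = 0 ∧
      (φ.f j).hom c₀ - c' = (D.d i j).hom v := by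
  subst hi hk
  exact hSurj φ j hφ c' hc'

end homology


section simplicial
open Simplicial SSet AlgebraicTopology AlgebraicTopology.DoldKan

variable (X : SimplicialObject AddCommGrpCat.{u})

/-- the alternating face map complex -/
noncomputable abbrev KX : ChainComplex AddCommGrpCat.{u} ℕ :=
  (alternatingFaceMapComplex AddCommGrpCat.{u}).obj X

lemma d_apply (m : ℕ) (w : (X _⦋m + 1⦌ : AddCommGrpCat.{u})) :
    ((KX X).d (m + 1) m).hom w = ∑ i : Fin (m + 2), ((-1 : ℤ) ^ (i : ℕ)) • (X.δ i).hom w := by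
  have h := AlternatingFaceMapComplex.obj_d_eq X m
  have h2 : ((KX X).d (m + 1) m) = ∑ i : Fin (m + 2), ((-1 : ℤ) ^ (i : ℕ)) • X.δ i := h
  rw [h2]
  have e : (∑ i : Fin (m + 2), ((-1 : ℤ) ^ (i : ℕ)) • X.δ i).hom =
      ∑ i : Fin (m + 2), ((-1 : ℤ) ^ (i : ℕ)) • (X.δ i).hom := by
    have := map_sum (AddCommGrpCat.homAddEquiv (M := X _⦋m + 1⦌) (N := X _⦋m⦌))
      (fun i : Fin (m + 2) => ((-1 : ℤ) ^ (i : ℕ)) • X.δ i) Finset.univ
    exact this
  rw [e, AddMonoidHom.finset_sum_apply]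
  rfl

/-- elementwise: `PInfty` is a chain map -/
lemma P_comm (m : ℕ) (w : (X _⦋m + 1⦌ : AddCommGrpCat.{u})) :
    ((KX X).d (m + 1) m).hom ((PInfty.f (m + 1) : X _⦋m + 1⦌ ⟶ X _⦋m + 1⦌).hom w) =
      (PInfty.f m : X _⦋m⦌ ⟶ X _⦋m⦌).hom (((KX X).d (m + 1) m).hom w) := by
  have := (PInfty : KX X ⟶ KX X).comm (m + 1) m
  exact ConcreteCategory.congr_hom this w

lemma P_faces (m : ℕ) (j : Fin (m + 1)) (w : (X _⦋m + 1⦌ : AddCommGrpCat.{u})) :
    (X.δ j.succ).hom ((PInfty.f (m + 1) : X _⦋m + 1⦌ ⟶ X _⦋m + 1⦌).hom w) = 0 := by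
  have hv := HigherFacesVanish.of_P (X := X) (m + 1) m
  have := hv j (by omega)
  rw [← PInfty_f] at this
  exact ConcreteCategory.congr_hom this w

lemma P_fix_zero (z : (X _⦋0⦌ : AddCommGrpCat.{u})) :
    (PInfty.f 0 : X _⦋0⦌ ⟶ X _⦋0⦌).hom z = z := rfl

lemma P_fix (m : ℕ) (z : (X _⦋m + 1⦌ : AddCommGrpCat.{u}))
    (hz : ∀ j : Fin (m + 1), (X.δ j.succ).hom z = 0) :
    (PInfty.f (m + 1) : X _⦋m + 1⦌ ⟶ X _⦋m + 1⦌).hom z = z := by
  let Y : AddCommGrpCat.{u} := AddCommGrpCat.of (AddSubgroup.zmultiples z)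
  let φ : Y ⟶ X _⦋m + 1⦌ := AddCommGrpCat.ofHom (AddSubgroup.zmultiples z).subtype
  have hv : HigherFacesVanish (m + 1) φ := by
    intro j _
    ext ⟨t, ht⟩
    obtain ⟨k, rfl⟩ := AddSubgroup.mem_zmultiples_iff.1 ht
    show (X.δ j.succ).hom (k • z) = 0
    rw [map_zsmul, hz j, smul_zero]
  have := hv.comp_P_eq_self
  rw [← PInfty_f] at this
  exact ConcreteCategory.congr_hom this ⟨z, AddSubgroup.mem_zmultiples z⟩

variable {X} {Y : SimplicialObject AddCommGrpCat.{u}} (f : X ⟶ Y)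

lemma P_nat (m : ℕ) (w : (X _⦋m⦌ : AddCommGrpCat.{u})) :
    (f.app (op ⦋m⦌)).hom ((PInfty.f m : X _⦋m⦌ ⟶ X _⦋m⦌).hom w) =
      (PInfty.f m : Y _⦋m⦌ ⟶ Y _⦋m⦌).hom ((f.app (op ⦋m⦌)).hom w) := by
  have := PInfty_f_naturality m f
  exact (ConcreteCategory.congr_hom this w).symm


variable (hf : ∀ n : SimplexCategoryᵒᵖ, Function.Surjective (f.app n))
  (hq : QuasiIso ((alternatingFaceMapComplex AddCommGrpCat.{u}).map f))

include hq in
lemma isIso_H (j : ℕ) : IsIso (HomologicalComplex.homologyMap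
    ((alternatingFaceMapComplex AddCommGrpCat.{u}).map f) j) := by
  have : QuasiIsoAt ((alternatingFaceMapComplex AddCommGrpCat.{u}).map f) j := inferInstance
  exact (quasiIsoAt_iff_isIso_homologyMap _ _).1 this

lemma dd_zero (Z : SimplicialObject AddCommGrpCat.{u}) (m k : ℕ) (hk : (ComplexShape.down ℕ).next m = k)
    (w : (Z _⦋m + 1⦌ : AddCommGrpCat.{u})) :
    ((KX Z).d m k).hom (((KX Z).d (m + 1) m).hom w) = 0 := by
  have := (KX Z).d_comp_d (m + 1) m k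
  exact ConcreteCategory.congr_hom this w

lemma f_d (m : ℕ) (w : (X _⦋m + 1⦌ : AddCommGrpCat.{u})) :
    (f.app (op ⦋m⦌)).hom (((KX X).d (m + 1) m).hom w) =
      ((KX Y).d (m + 1) m).hom ((f.app (op ⦋m + 1⦌)).hom w) := by
  have := ((alternatingFaceMapComplex AddCommGrpCat.{u}).map f).comm (m + 1) m
  exact (ConcreteCategory.congr_hom this w).symm

include hf hq in
lemma stepC (m k : ℕ) (hk : (ComplexShape.down ℕ).next m = k) (z : (X _⦋m⦌ : AddCommGrpCat.{u}))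
    (hfz : (f.app (op ⦋m⦌)).hom z = 0)
    (hdz : ((KX X).d m k).hom z = 0)
    (hPz : (PInfty.f m : X _⦋m⦌ ⟶ X _⦋m⦌).hom z = z) :
    ∃ w : (X _⦋m + 1⦌ : AddCommGrpCat.{u}), (f.app (op ⦋m + 1⦌)).hom w = 0 ∧
      (X.δ 0).hom w = z ∧ ∀ j : Fin (m + 1), (X.δ j.succ).hom w = 0 := by
  let φ := (alternatingFaceMapComplex AddCommGrpCat.{u}).map f
  have hprev : ∀ j : ℕ, (ComplexShape.down ℕ).prev j = j + 1 := fun j => ChainComplex.prev ℕ j
  obtain ⟨w₀, hw₀⟩ := hInj' φ (m + 1) m k (hprev m) hk (isIso_H f hq m) z hdz 0 (by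
    rw [map_zero]
    exact hfz.symm)
  have hnext : (ComplexShape.down ℕ).next (m + 1) = m := ChainComplex.next_nat_succ m
  obtain ⟨c₀, v', hc₀, hv'⟩ := hSurj' φ (m + 2) (m + 1) m (hprev (m + 1)) hnext (isIso_H f hq (m + 1))
    ((f.app (op ⦋m + 1⦌)).hom w₀) (by
      rw [← f_d, hw₀, hfz])
  obtain ⟨v, hv⟩ := hf (op ⦋m + 2⦌) v'
  let w₁ : (X _⦋m + 1⦌ : AddCommGrpCat.{u}) := w₀ - c₀ + ((KX X).d (m + 2) (m + 1)).hom v
  have hdw₁ : ((KX X).d (m + 1) m).hom w₁ = z := by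
    show ((KX X).d (m + 1) m).hom (w₀ - c₀ + ((KX X).d (m + 2) (m + 1)).hom v) = z
    rw [map_add, map_sub, hw₀, hc₀, dd_zero X (m + 1) m hnext, sub_zero, add_zero]
  have hfw₁ : (f.app (op ⦋m + 1⦌)).hom w₁ = 0 := by
    show (f.app (op ⦋m + 1⦌)).hom (w₀ - c₀ + ((KX X).d (m + 2) (m + 1)).hom v) = 0
    have hv2 : (f.app (op ⦋m + 1 + 1⦌)).hom v = v' := hv
    have hv3 : (f.app (op ⦋m + 1⦌)).hom c₀ - (f.app (op ⦋m + 1⦌)).hom w₀ =
        ((KX Y).d (m + 2) (m + 1)).hom v' := hv'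
    rw [map_add, map_sub, f_d, hv2, ← hv3]
    abel
  refine ⟨(PInfty.f (m + 1) : X _⦋m + 1⦌ ⟶ X _⦋m + 1⦌).hom w₁, ?_, ?_, fun j => P_faces X m j w₁⟩
  · rw [P_nat, hfw₁, map_zero]
  · have h1 := P_comm X m w₁
    rw [hdw₁, hPz, d_apply, Fin.sum_univ_succ] at h1
    have h2 : ∑ i : Fin (m + 1), ((-1 : ℤ) ^ ((i.succ : Fin (m + 2)) : ℕ)) •
        (X.δ i.succ).hom ((PInfty.f (m + 1) : X _⦋m + 1⦌ ⟶ X _⦋m + 1⦌).hom w₁) = 0 := by
      apply Finset.sum_eq_zero
      intro i _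
      rw [P_faces, smul_zero]
    rw [h2, add_zero] at h1
    simpa using h1


lemma f_δ (m : ℕ) (j : Fin (m + 2)) (a : (X _⦋m + 1⦌ : AddCommGrpCat.{u})) :
    (f.app (op ⦋m⦌)).hom ((X.δ j).hom a) = (Y.δ j).hom ((f.app (op ⦋m + 1⦌)).hom a) := by
  have := SimplicialObject.δ_naturality f j
  exact ConcreteCategory.congr_hom this a

lemma f_σ (m : ℕ) (j : Fin (m + 1)) (a : (X _⦋m⦌ : AddCommGrpCat.{u})) :
    (f.app (op ⦋m + 1⦌)).hom ((X.σ j).hom a) = (Y.σ j).hom ((f.app (op ⦋m⦌)).hom a) := by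
  have := SimplicialObject.σ_naturality f j
  exact ConcreteCategory.congr_hom this a

include hf hq in
lemma sphere0 (x : Fin 2 → (X _⦋0⦌ : AddCommGrpCat.{u})) (y : (Y _⦋0 + 1⦌ : AddCommGrpCat.{u}))
    (hxy : ∀ j : Fin 2, (f.app (op ⦋0⦌)).hom (x j) = (Y.δ j).hom y) :
    ∃ g : (X _⦋0 + 1⦌ : AddCommGrpCat.{u}), (f.app (op ⦋0 + 1⦌)).hom g = y ∧
      ∀ j : Fin 2, (X.δ j).hom g = x j := by
  obtain ⟨g₀, hg₀⟩ := hf (op ⦋0 + 1⦌) y
  have hg₀' : (f.app (op ⦋0 + 1⦌)).hom g₀ = y := hg₀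
  have hs1 : ∀ (a : (X _⦋0⦌ : AddCommGrpCat.{u})), (X.δ (1 : Fin 2)).hom ((X.σ (0 : Fin 1)).hom a) = a :=
    fun a => ConcreteCategory.congr_hom (X.δ_comp_σ_succ (n := 0) (i := (0 : Fin 1))) a
  let h : (X _⦋0 + 1⦌ : AddCommGrpCat.{u}) := g₀ + (X.σ (0 : Fin 1)).hom (x 1 - (X.δ (1 : Fin 2)).hom g₀)
  have hh1 : (X.δ (1 : Fin 2)).hom h = x 1 := by
    show (X.δ (1 : Fin 2)).hom (g₀ + (X.σ (0 : Fin 1)).hom (x 1 - (X.δ (1 : Fin 2)).hom g₀)) = x 1
    rw [map_add, hs1]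
    abel
  have hfh : (f.app (op ⦋0 + 1⦌)).hom h = y := by
    show (f.app (op ⦋0 + 1⦌)).hom (g₀ + (X.σ (0 : Fin 1)).hom (x 1 - (X.δ (1 : Fin 2)).hom g₀)) = y
    rw [map_add, f_σ, map_sub, f_δ, hg₀', hxy 1, sub_self, map_zero, add_zero]
  let z : (X _⦋0⦌ : AddCommGrpCat.{u}) := x 0 - (X.δ (0 : Fin 2)).hom h
  have hfz : (f.app (op ⦋0⦌)).hom z = 0 := by
    show (f.app (op ⦋0⦌)).hom (x 0 - (X.δ (0 : Fin 2)).hom h) = 0
    rw [map_sub, f_δ, hfh, hxy 0, sub_self]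
  obtain ⟨w, hfw, hw0, hw⟩ := stepC f hf hq 0 0 (ChainComplex.next_nat_zero) z hfz (by
    have : (KX X).d 0 0 = 0 := (KX X).shape 0 0 (by simp)
    rw [this]
    rfl) rfl
  refine ⟨h + w, ?_, fun j => ?_⟩
  · rw [map_add, hfh, hfw, add_zero]
  · fin_cases j
    · show (X.δ (0 : Fin 2)).hom (h + w) = x 0
      rw [map_add, hw0]
      show _ + (x 0 - (X.δ (0 : Fin 2)).hom h) = x 0
      abel
    · show (X.δ (1 : Fin 2)).hom (h + w) = x 1
      have := hw 0
      rw [map_add, hh1]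
      have e : (X.δ (1 : Fin 2)).hom w = 0 := this
      rw [e, add_zero]


include hf hq in
lemma sphereS (m : ℕ) (x : Fin (m + 3) → (X _⦋m + 1⦌ : AddCommGrpCat.{u}))
    (y : (Y _⦋m + 1 + 1⦌ : AddCommGrpCat.{u}))
    (hx : ∀ (j k : Fin (m + 3)) (hjk : j < k),
      (X.δ (k.pred (Fin.ne_zero_of_lt hjk))).hom (x j) =
        (X.δ (j.castPred (Fin.ne_last_of_lt hjk))).hom (x k))
    (hxy : ∀ j : Fin (m + 3), (f.app (op ⦋m + 1⦌)).hom (x j) = (Y.δ j).hom y) :
    ∃ g : (X _⦋m + 1 + 1⦌ : AddCommGrpCat.{u}), (f.app (op ⦋m + 1 + 1⦌)).hom g = y ∧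
      ∀ j : Fin (m + 3), (X.δ j).hom g = x j := by
  obtain ⟨h, hfh, hh⟩ := Groth.Agent.S6780.alg_fill f hf m (0 : Fin (m + 3)) x y
    (fun j k _ _ hjk => hx j k hjk) (fun j _ => hxy j)
  let z : (X _⦋m + 1⦌ : AddCommGrpCat.{u}) := x 0 - (X.δ (0 : Fin (m + 3))).hom h
  have hfz : (f.app (op ⦋m + 1⦌)).hom z = 0 := by
    show (f.app (op ⦋m + 1⦌)).hom (x 0 - (X.δ (0 : Fin (m + 3))).hom h) = 0
    rw [map_sub, f_δ, hfh, hxy 0, sub_self]
  have hzj : ∀ j : Fin (m + 2), (X.δ j).hom z = 0 := by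
    intro j
    show (X.δ j).hom (x 0 - (X.δ (0 : Fin (m + 3))).hom h) = 0
    rw [map_sub]
    have e1 := ConcreteCategory.congr_hom
      (X.δ_comp_δ (n := m) (i := (0 : Fin (m + 2))) (j := j) (Fin.zero_le _)) h
    have e1' : (X.δ (0 : Fin (m + 2))).hom ((X.δ j.succ).hom h) =
        (X.δ j).hom ((X.δ (0 : Fin (m + 3))).hom h) := e1
    rw [← e1', hh j.succ (Fin.succ_ne_zero j)]
    have e2 := hx 0 j.succ (Fin.succ_pos j)
    simp only [Fin.pred_succ] at e2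
    rw [e2]
    have : (Fin.castPred (0 : Fin (m + 3)) (Fin.ne_last_of_lt (Fin.succ_pos j))) = (0 : Fin (m + 2)) := rfl
    rw [this, sub_self]
  obtain ⟨w, hfw, hw0, hw⟩ := stepC f hf hq (m + 1) m (ChainComplex.next_nat_succ m) z hfz (by
    rw [d_apply]
    apply Finset.sum_eq_zero
    intro i _
    rw [hzj, smul_zero]) (P_fix X m z (fun j => hzj j.succ))
  refine ⟨h + w, ?_, fun j => ?_⟩
  · rw [map_add, hfh, hfw, add_zero]
  · rw [map_add]
    rcases Fin.eq_zero_or_eq_succ j with rfl | ⟨j', rfl⟩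
    · rw [hw0]
      show _ + (x 0 - (X.δ (0 : Fin (m + 3))).hom h) = x 0
      abel
    · rw [hh j'.succ (Fin.succ_ne_zero j'), hw j', add_zero]


abbrev U (X : SimplicialObject AddCommGrpCat.{u}) : SSet.{u} := X ⋙ forget AddCommGrpCat.{u}

abbrev p : U X ⟶ U Y := Functor.whiskerRight f (forget AddCommGrpCat.{u})

include hf hq in
lemma lift_exists (n : ℕ) (t : (∂Δ[n] : SSet.{u}) ⟶ U X) (b : Δ[n] ⟶ U Y)
    (w : t ≫ p f = ∂Δ[n].ι ≫ b) :
    ∃ l : Δ[n] ⟶ U X, ∂Δ[n].ι ≫ l = t ∧ l ≫ p f = b := by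
  cases n with
  | zero =>
    obtain ⟨g, hg⟩ := hf (op ⦋0⦌) (SSet.yonedaEquiv b)
    refine ⟨SSet.yonedaEquiv.symm (show (U X) _⦋0⦌ from g), boundary.hom_ext₀, ?_⟩
    rw [SSet.yonedaEquiv_symm_comp]
    apply SSet.yonedaEquiv.injective
    rw [Equiv.apply_symm_apply]
    exact hg
  | succ m =>
    suffices halg : ∃ g : (X _⦋m + 1⦌ : AddCommGrpCat.{u}),
        (f.app (op ⦋m + 1⦌)).hom g = SSet.yonedaEquiv b ∧
        ∀ j : Fin (m + 2), (X.δ j).hom g = SSet.yonedaEquiv (boundary.ι j ≫ t) by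
      obtain ⟨g, hg1, hg2⟩ := halg
      refine ⟨SSet.yonedaEquiv.symm (show (U X) _⦋m + 1⦌ from g), ?_, ?_⟩
      · apply boundary.hom_ext
        intro j
        rw [boundary.ι_ι_assoc, stdSimplex.δ_comp_yonedaEquiv_symm]
        apply SSet.yonedaEquiv.injective
        rw [Equiv.apply_symm_apply]
        exact hg2 j
      · rw [SSet.yonedaEquiv_symm_comp]
        apply SSet.yonedaEquiv.injective
        rw [Equiv.apply_symm_apply]
        exact hg1
    have hxy : ∀ j : Fin (m + 2),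
        (f.app (op ⦋m⦌)).hom (SSet.yonedaEquiv (boundary.ι j ≫ t)) =
          (Y.δ j).hom (SSet.yonedaEquiv b) := by
      intro j
      have e1 : (boundary.ι j ≫ t) ≫ p f = stdSimplex.δ j ≫ b := by
        rw [Category.assoc, w, boundary.ι_ι_assoc]
      have e2 := congrArg SSet.yonedaEquiv e1
      rw [stdSimplex.yonedaEquiv_δ_comp, SSet.yonedaEquiv_comp] at e2
      exact e2
    cases m with
    | zero => exact sphere0 f hf hq _ _ hxy
    | succ m' =>
      refine sphereS f hf hq m' _ _ ?_ hxy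
      intro j k hjk
      have e : stdSimplex.δ (k.pred (Fin.ne_zero_of_lt hjk)) ≫ boundary.ι j ≫ t =
          stdSimplex.δ (j.castPred (Fin.ne_last_of_lt hjk)) ≫ boundary.ι k ≫ t := by
        rw [← Category.assoc, ← Category.assoc]
        congr 1
        obtain ⟨j, rfl⟩ := j.eq_castSucc_of_ne_last (Fin.ne_last_of_lt hjk)
        obtain ⟨k, rfl⟩ := k.eq_succ_of_ne_zero (Fin.ne_zero_of_lt hjk)
        rw [← cancel_mono (Subcomplex.ι _), Category.assoc, Category.assoc, boundary.ι_ι,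
          boundary.ι_ι, Fin.pred_succ, Fin.castPred_castSucc, stdSimplex.δ_comp_δ (by grind)]
      have e2 := congrArg SSet.yonedaEquiv e
      rw [stdSimplex.yonedaEquiv_δ_comp, stdSimplex.yonedaEquiv_δ_comp] at e2
      exact e2

include hf hq in
theorem main6781 :
    SSet.modelCategoryQuillen.I.rlp (X := X ⋙ forget AddCommGrpCat.{u})
      (Y := Y ⋙ forget AddCommGrpCat.{u}) (Functor.whiskerRight f (forget AddCommGrpCat.{u})) := by
  intro A B i hi
  cases hi with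
  | mk n =>
    constructor
    intro t b sq
    obtain ⟨l, hl1, hl2⟩ := lift_exists f hf hq n t b sq.w
    exact ⟨⟨{ l := l, fac_left := hl1, fac_right := hl2 }⟩⟩

end simplicial


end helpers

/-- A degreewise surjective homomorphism of simplicial abelian groups inducing a quasi-isomorphism of
the associated chain complexes is a trivial Kan fibration of the underlying simplicial sets. -/
theorem result {X Y : SimplicialObject AddCommGrpCat.{u}} (f : X ⟶ Y) (hf : ∀ n : SimplexCategoryᵒᵖ, Function.Surjective (f.app n)) (hq : QuasiIso ((AlgebraicTopology.alternatingFaceMapComplex AddCommGrpCat.{u}).map f)) : SSet.modelCategoryQuillen.I.rlp (X := X ⋙ forget AddCommGrpCat.{u}) (Y := Y ⋙ forget AddCommGrpCat.{u}) (Functor.whiskerRight f (forget AddCommGrpCat.{u})) := by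
  exact main6781 f hf hq

end Groth.Agent.S6781
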