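import Groth.Statements.S6782
import Mathlib

set_option autoImplicit false
open CategoryTheory Opposite
universe u
open SSet

namespace Groth.Agent.S6782
section helpers
set_option linter.unusedSectionVars false
open CategoryTheory SSet MonoidalCategory Simplicial Limits

variable {U V : SSet.{u}}

/-- key face lemma -/
lemma face_eq (f : V ⟶ U) (m' : ℕ)
    (hinj : Function.Injective (f.app (op (SimplexCategory.mk m'))))
    (t : (∂Δ[m' + 1] : SSet.{u}) ⟶ V) (b : Δ[m' + 1] ⟶ U) (w : t ≫ f = (∂Δ[m' + 1]).ι ≫ b)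
    (v₀ : V.obj (op (SimplexCategory.mk (m' + 1)))) (hv₀ : f.app _ v₀ = yonedaEquiv b)
    (k : SimplexCategoryᵒᵖ) (y : (∂Δ[m' + 1] : SSet.{u}).obj k) :
    t.app k y = V.map (stdSimplex.objEquiv y.1).op v₀ := by
  obtain ⟨x, hx⟩ := y
  obtain ⟨i, θ', hθ⟩ := SimplexCategory.eq_comp_δ_of_not_surjective (stdSimplex.objEquiv x) hx
  have hδ : ¬ Function.Surjective (stdSimplex.asOrderHom
      (stdSimplex.objEquiv.symm (SimplexCategory.δ i) : (Δ[m' + 1] : SSet.{u}).obj (op (SimplexCategory.mk m')))) := by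
    intro hs
    have := Fintype.card_le_of_surjective _ hs
    simp at this
  let d : (∂Δ[m' + 1] : SSet.{u}).obj (op (SimplexCategory.mk m')) :=
    ⟨stdSimplex.objEquiv.symm (SimplexCategory.δ i), hδ⟩
  have hy : (⟨x, hx⟩ : (∂Δ[m' + 1] : SSet.{u}).obj k) = (∂Δ[m' + 1] : SSet.{u}).map θ'.op d := by
    apply Subtype.ext
    show x = (Δ[m' + 1] : SSet.{u}).map θ'.op (stdSimplex.objEquiv.symm (SimplexCategory.δ i))
    rw [stdSimplex.map_objEquiv_symm]
    apply stdSimplex.objEquiv.injective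
    rw [Equiv.apply_symm_apply]
    exact hθ
  have hd : t.app _ d = V.map (SimplexCategory.δ i).op v₀ := by
    apply hinj
    have e1 : f.app _ (t.app _ d) = (t ≫ f).app _ d := rfl
    rw [e1, w]
    have e2 := NatTrans.naturality_apply f (SimplexCategory.δ i).op v₀
    rw [e2, hv₀]
    show b.app _ (stdSimplex.objEquiv.symm (SimplexCategory.δ i)) = _
    have hb : b = yonedaEquiv.symm (yonedaEquiv b) := (Equiv.symm_apply_apply _ _).symm
    conv_lhs => rw [hb]
    rfl
  have hr : V.map (stdSimplex.objEquiv (⟨x, hx⟩ : (∂Δ[m' + 1] : SSet.{u}).obj k).1).op v₀ =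
      V.map θ'.op (V.map (SimplexCategory.δ i).op v₀) := by
    show V.map (stdSimplex.objEquiv x).op v₀ = _
    rw [hθ, op_comp, Functor.map_comp_apply]
  rw [hr, hy, NatTrans.naturality_apply t, hd]


/-- case `m ≤ n` -/
lemma lift_low (f : V ⟶ U) (n : ℕ)
    (h1 : ∀ i : ℕ, i < n → Function.Bijective (f.app (op (SimplexCategory.mk i))))
    (h2 : Function.Surjective (f.app (op (SimplexCategory.mk n))))
    (m : ℕ) (hm : m ≤ n)
    (t : (∂Δ[m] : SSet.{u}) ⟶ V) (b : Δ[m] ⟶ U) (w : t ≫ f = (∂Δ[m]).ι ≫ b) :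
    ∃ l : Δ[m] ⟶ V, (∂Δ[m]).ι ≫ l = t ∧ l ≫ f = b := by
  have hsurj : Function.Surjective (f.app (op (SimplexCategory.mk m))) := by
    rcases hm.lt_or_eq with h | h
    · exact (h1 m h).2
    · rw [h]; exact h2
  obtain ⟨v₀, hv₀⟩ := hsurj (yonedaEquiv b)
  refine ⟨yonedaEquiv.symm v₀, ?_, ?_⟩
  · ext k y
    show (yonedaEquiv.symm v₀).app k y.1 = t.app k y
    cases m with
    | zero =>
      exfalso
      apply y.2
      intro z
      exact ⟨0, Subsingleton.elim (α := Fin 1) _ _⟩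
    | succ m' =>
      rw [face_eq f m' (h1 m' hm).1 t b w v₀ hv₀ k y]
      rfl
  · rw [SSet.yonedaEquiv_symm_comp, hv₀, Equiv.symm_apply_apply]


lemma not_surj_of_lt {n m : ℕ} (hm : n < m) {c : SimplexCategory} (hc : c.len ≤ n)
    (x : (Δ[m] : SSet.{u}).obj (op c)) : ¬ Function.Surjective (stdSimplex.asOrderHom x) := by
  intro hs
  have := Fintype.card_le_of_surjective _ hs
  simp at this
  omega

/-- the truncated lift in the case `n < m` -/
noncomputable def lTrunc (n m : ℕ) (hm : n < m) (t : (∂Δ[m] : SSet.{u}) ⟶ V) :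
    (SimplexCategory.Truncated.inclusion n).op ⋙ (Δ[m] : SSet.{u}) ⟶
      (SimplexCategory.Truncated.inclusion n).op ⋙ V where
  app k := ↾fun x => t.app ((SimplexCategory.Truncated.inclusion n).op.obj k)
    ⟨x, not_surj_of_lt hm k.unop.property x⟩
  naturality k k' φ := by
    ext x
    set φ' := (SimplexCategory.Truncated.inclusion n).op.map φ with hφ'
    show t.app _ ⟨(Δ[m] : SSet.{u}).map φ' x, _⟩ = V.map φ' (t.app _ ⟨x, _⟩)
    rw [← NatTrans.naturality_apply t]
    rfl

/-- case `n < m` -/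
lemma lift_high (f : V ⟶ U) (n : ℕ)
    [SimplicialObject.IsCoskeletal U n] [SimplicialObject.IsCoskeletal V n]
    (m : ℕ) (hm : n < m)
    (t : (∂Δ[m] : SSet.{u}) ⟶ V) (b : Δ[m] ⟶ U) (w : t ≫ f = (∂Δ[m]).ι ≫ b) :
    ∃ l : Δ[m] ⟶ V, (∂Δ[m]).ι ≫ l = t ∧ l ≫ f = b := by
  let L := (SimplexCategory.Truncated.inclusion n).op
  let l : Δ[m] ⟶ V :=
    (V.homEquivOfIsRightKanExtension (𝟙 (L ⋙ V)) Δ[m]).symm (lTrunc n m hm t)
  have hfac : Functor.whiskerLeft L l = lTrunc n m hm t := by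
    have := (V.homEquivOfIsRightKanExtension (𝟙 (L ⋙ V)) Δ[m]).apply_symm_apply (lTrunc n m hm t)
    have e : (V.homEquivOfIsRightKanExtension (𝟙 (L ⋙ V)) Δ[m]) l = Functor.whiskerLeft L l := by
      show Functor.whiskerLeft L l ≫ 𝟙 _ = _
      rw [Category.comp_id]
    rw [← e]
    exact this
  have hfac' : ∀ (k : (SimplexCategory.Truncated n)ᵒᵖ) (x : (Δ[m] : SSet.{u}).obj (L.obj k)),
      l.app (L.obj k) x = t.app (L.obj k) ⟨x, not_surj_of_lt hm k.unop.property x⟩ := by
    intro k x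
    have := congrArg (fun t => t.app k) hfac
    exact ConcreteCategory.congr_hom this x
  refine ⟨l, ?_, ?_⟩
  · apply V.hom_ext_of_isRightKanExtension (𝟙 (L ⋙ V))
    ext k y
    show l.app (L.obj k) y.1 = t.app (L.obj k) y
    rw [hfac']
    rfl
  · apply U.hom_ext_of_isRightKanExtension (𝟙 (L ⋙ U))
    ext k x
    show f.app (L.obj k) (l.app (L.obj k) x) = b.app (L.obj k) x
    rw [hfac']
    have e1 : f.app (L.obj k) (t.app (L.obj k) ⟨x, not_surj_of_lt hm k.unop.property x⟩) =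
      (t ≫ f).app (L.obj k) ⟨x, not_surj_of_lt hm k.unop.property x⟩ := rfl
    rw [e1, w]
    rfl

theorem main6782 (f : V ⟶ U) (n : ℕ)
    (h1 : ∀ i : ℕ, i < n → Function.Bijective (f.app (op (SimplexCategory.mk i))))
    (h2 : Function.Surjective (f.app (op (SimplexCategory.mk n))))
    [SimplicialObject.IsCoskeletal U n] [SimplicialObject.IsCoskeletal V n] :
    SSet.modelCategoryQuillen.I.rlp f := by
  intro A B i hi
  cases hi with
  | mk m =>
    constructor
    intro t b sq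
    have key : ∃ l : Δ[m] ⟶ V, (∂Δ[m]).ι ≫ l = t ∧ l ≫ f = b := by
      by_cases hm : m ≤ n
      · exact lift_low f n h1 h2 m hm t b sq.w
      · exact lift_high f n m (by omega) t b sq.w
    obtain ⟨l, hl1, hl2⟩ := key
    exact ⟨⟨{ l := l, fac_left := hl1, fac_right := hl2 }⟩⟩


end helpers

/-- A map of `n`-coskeletal simplicial sets which is bijective on simplices of dimension `< n` and
surjective on `n`-simplices is a trivial Kan fibration. -/
theorem result {U V : SSet.{u}} (f : V ⟶ U) (n : ℕ) (h1 : ∀ i : ℕ, i < n → Function.Bijective (f.app (op (SimplexCategory.mk i)))) (h2 : Function.Surjective (f.app (op (SimplexCategory.mk n)))) [SimplicialObject.IsCoskeletal U n] [SimplicialObject.IsCoskeletal V n] : SSet.modelCategoryQuillen.I.rlp f := by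
  exact main6782 f n h1 h2

end Groth.Agent.S6782
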