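import Groth.Statements.S6783
import Mathlib

set_option autoImplicit false
open CategoryTheory
universe u
open SSet

namespace Groth.Agent.S6783
section helpers
set_option linter.unusedSectionVars false
open CategoryTheory SSet Simplicial Limits SimplexCategory Opposite

variable {A B : Type u} (f : A ⟶ B)

/-- the Čech nerve -/
noncomputable abbrev N : SSet.{u} := (Arrow.mk f).cechNerve

noncomputable def pj {c : SimplexCategory} (j : Fin (c.len + 1)) (x : (N f).obj (op c)) : A :=
  (WidePullback.π (fun _ : Fin (c.len + 1) => (Arrow.mk f).hom) j : (N f).obj (op c) ⟶ A) x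

noncomputable def bs {c : SimplexCategory} (x : (N f).obj (op c)) : B :=
  (WidePullback.base (fun _ : Fin (c.len + 1) => (Arrow.mk f).hom) : (N f).obj (op c) ⟶ B) x

lemma f_pj {c : SimplexCategory} (j : Fin (c.len + 1)) (x : (N f).obj (op c)) :
    f (pj f j x) = bs f x := by
  have := WidePullback.π_arrow (fun _ : Fin (c.len + 1) => (Arrow.mk f).hom) j
  exact ConcreteCategory.congr_hom this x

lemma N_ext {c : SimplexCategory} (x y : (N f).obj (op c)) (h0 : bs f x = bs f y)
    (h : ∀ j, pj f j x = pj f j y) : x = y :=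
  Concrete.widePullback_ext (fun _ : Fin (c.len + 1) => (Arrow.mk f).hom) x y h0 h

lemma pj_map {c c' : SimplexCategory} (φ : c' ⟶ c) (j : Fin (c'.len + 1)) (x : (N f).obj (op c)) :
    pj f j ((N f).map φ.op x) = pj f (φ.toOrderHom j) x := by
  have := WidePullback.lift_π (fun _ : Fin (c'.len + 1) => (Arrow.mk f).hom)
    (WidePullback.base (fun _ : Fin (c.len + 1) => (Arrow.mk f).hom))
    (fun i => WidePullback.π (fun _ : Fin (c.len + 1) => (Arrow.mk f).hom) (φ.toOrderHom i)) (by simp) j
  exact ConcreteCategory.congr_hom this x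

lemma bs_map {c c' : SimplexCategory} (φ : c' ⟶ c) (x : (N f).obj (op c)) :
    bs f ((N f).map φ.op x) = bs f x := by
  have := WidePullback.lift_base (fun _ : Fin (c'.len + 1) => (Arrow.mk f).hom)
    (WidePullback.base (fun _ : Fin (c.len + 1) => (Arrow.mk f).hom))
    (fun i => WidePullback.π (fun _ : Fin (c.len + 1) => (Arrow.mk f).hom) (φ.toOrderHom i)) (by simp)
  exact ConcreteCategory.congr_hom this x

lemma exists_N {c : SimplexCategory} (a : Fin (c.len + 1) → A) (b₀ : B) (h : ∀ j, f (a j) = b₀) :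
    ∃ x : (N f).obj (op c), bs f x = b₀ ∧ ∀ j, pj f j x = a j := by
  let l : PUnit.{u+1} ⟶ (N f).obj (op c) :=
    WidePullback.lift (arrows := fun _ : Fin (c.len + 1) => (Arrow.mk f).hom)
      (↾fun _ => b₀) (fun j => ↾fun _ => a j) (by
        intro j
        ext u
        exact h j)
  refine ⟨l PUnit.unit, ?_, fun j => ?_⟩
  · have := WidePullback.lift_base (fun _ : Fin (c.len + 1) => (Arrow.mk f).hom)
      (↾fun _ : PUnit.{u+1} => b₀) (fun j => ↾fun _ => a j) (by
        intro j
        ext u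
        exact h j)
    exact ConcreteCategory.congr_hom this PUnit.unit
  · have := WidePullback.lift_π (fun _ : Fin (c.len + 1) => (Arrow.mk f).hom)
      (↾fun _ : PUnit.{u+1} => b₀) (fun j => ↾fun _ => a j) (by
        intro j
        ext u
        exact h j) j
    exact ConcreteCategory.congr_hom this PUnit.unit


/-- the augmentation -/
noncomputable abbrev aug := (Arrow.mk f).augmentedCechNerve.hom

lemma aug_app {c : SimplexCategory} (x : (N f).obj (op c)) :
    (aug f).app (op c) x = bs f x := rfl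

/-- the constant simplicial set on `B` -/
noncomputable abbrev T : SSet.{u} :=
  (SimplicialObject.const (Type u)).obj (Arrow.mk f).augmentedCechNerve.right

lemma b_const {m : ℕ} (b : (Δ[m] : SSet.{u}) ⟶ T f) {c : SimplexCategory}
    (x : (Δ[m] : SSet.{u}).obj (op c)) :
    b.app (op c) x = b.app (op ⦋m⦌) (stdSimplex.objEquiv.symm (𝟙 _)) := by
  have hx : x = (Δ[m] : SSet.{u}).map (stdSimplex.objEquiv x).op (stdSimplex.objEquiv.symm (𝟙 _)) := by
    rw [stdSimplex.map_objEquiv_symm]
    apply stdSimplex.objEquiv.injective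
    rw [Equiv.apply_symm_apply]
    simp
  conv_lhs => rw [hx]
  rw [NatTrans.naturality_apply b]
  rfl

lemma lift_exists (hf : Function.Surjective f) (m : ℕ)
    (t : (∂Δ[m] : SSet.{u}) ⟶ N f) (b : Δ[m] ⟶ T f) (w : t ≫ aug f = (∂Δ[m]).ι ≫ b) :
    ∃ l : Δ[m] ⟶ N f, (∂Δ[m]).ι ≫ l = t ∧ l ≫ aug f = b := by
  set b₀ : B := b.app (op ⦋m⦌) (stdSimplex.objEquiv.symm (𝟙 _)) with hb₀
  have hbs : ∀ {c : SimplexCategory} (y : (∂Δ[m] : SSet.{u}).obj (op c)), bs f (t.app _ y) = b₀ := by
    intro c y
    have e1 : bs f (t.app _ y) = (t ≫ aug f).app _ y := rfl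
    rw [e1, w]
    exact b_const f b y.1
  have fac_right : ∀ c₀ : (N f).obj (op ⦋m⦌), bs f c₀ = b₀ → yonedaEquiv.symm c₀ ≫ aug f = b := by
    intro c₀ hc₀
    ext k x
    induction k using Opposite.rec with | _ c => ?_
    show bs f ((N f).map (stdSimplex.objEquiv x).op c₀) = b.app (op c) x
    rw [bs_map, hc₀, b_const f b x]
  cases m with
  | zero =>
    obtain ⟨a, ha⟩ := hf b₀
    obtain ⟨c₀, hc0, hc1⟩ := exists_N f (c := ⦋0⦌) (fun _ => a) b₀ (fun _ => ha)
    refine ⟨yonedaEquiv.symm c₀, ?_, fac_right c₀ hc0⟩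
    ext
  | succ m' =>
    have hv : ∀ i : Fin (m' + 2), ¬ Function.Surjective (stdSimplex.asOrderHom
        (stdSimplex.objEquiv.symm (SimplexCategory.const ⦋0⦌ ⦋m' + 1⦌ i) :
          (Δ[m' + 1] : SSet.{u}).obj (op ⦋0⦌))) := by
      intro i hs
      have := Fintype.card_le_of_surjective _ hs
      simp at this
    let vx : Fin (m' + 2) → (∂Δ[m' + 1] : SSet.{u}).obj (op ⦋0⦌) := fun i =>
      ⟨stdSimplex.objEquiv.symm (SimplexCategory.const ⦋0⦌ ⦋m' + 1⦌ i), hv i⟩
    let a : Fin (m' + 2) → A := fun i => pj f (c := ⦋0⦌) 0 (t.app _ (vx i))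
    have ha : ∀ i, f (a i) = b₀ := fun i => by rw [f_pj, hbs]
    obtain ⟨c₀, hc0, hc1⟩ := exists_N f (c := ⦋m' + 1⦌) a b₀ ha
    refine ⟨yonedaEquiv.symm c₀, ?_, fac_right c₀ hc0⟩
    ext k y
    induction k using Opposite.rec with | _ c => ?_
    show (N f).map (stdSimplex.objEquiv y.1).op c₀ = t.app (op c) y
    apply N_ext
    · rw [bs_map, hc0, hbs]
    · intro j
      rw [pj_map, hc1]
      have e1 : pj f j (t.app (op c) y) =
          pj f (c := ⦋0⦌) 0 ((N f).map (SimplexCategory.const ⦋0⦌ c j).op (t.app (op c) y)) := by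
        rw [pj_map]; rfl
      rw [e1, ← NatTrans.naturality_apply t]
      show pj f (c := ⦋0⦌) 0 (t.app _ (vx _)) = _
      congr 2


theorem main6783 (hf : Function.Surjective f) :
    SSet.modelCategoryQuillen.I.rlp (Arrow.mk f).augmentedCechNerve.hom := by
  intro A' B' i hi
  cases hi with
  | mk m =>
    constructor
    intro t b sq
    obtain ⟨l, hl1, hl2⟩ := lift_exists f hf m t b sq.w
    exact ⟨⟨{ l := l, fac_left := hl1, fac_right := hl2 }⟩⟩


end helpers

/-- For a surjective map of sets `f : A → B`, the augmentation from the Čech nerve of `f` (with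
`n`-simplices the `(n+1)`-fold fibre product of `A` over `B`) to the constant simplicial set `B` is
a trivial Kan fibration. -/
theorem result {A B : Type u} (f : A ⟶ B) (hf : Function.Surjective f) : SSet.modelCategoryQuillen.I.rlp (Arrow.mk f).augmentedCechNerve.hom := by
  exact main6783 f hf

end Groth.Agent.S6783
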