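import Groth.Statements.S6784
import Mathlib

set_option autoImplicit false
open CategoryTheory
universe u
open SSet

namespace Groth.Agent.S6784
section helpers
set_option linter.unusedSectionVars false
open CategoryTheory SSet Simplicial Limits SimplexCategory Opposite

variable {n : ℕ}

/-- `j`-th vertex of a simplex of `Δ[n]` -/
def vtx {c : SimplexCategory} (x : (Δ[n] : SSet.{u}).obj (op c)) (j : Fin (c.len + 1)) : Fin (n + 1) :=
  (stdSimplex.objEquiv x).toOrderHom j

lemma vtx_map {c c' : SimplexCategory} (φ : c' ⟶ c) (x : (Δ[n] : SSet.{u}).obj (op c))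
    (j : Fin (c'.len + 1)) : vtx ((Δ[n] : SSet.{u}).map φ.op x) j = vtx x (φ.toOrderHom j) := rfl

lemma vtx_mono {c : SimplexCategory} (x : (Δ[n] : SSet.{u}).obj (op c)) : Monotone (vtx x) :=
  (stdSimplex.objEquiv x).toOrderHom.monotone

lemma ext_vtx {c : SimplexCategory} (x y : (Δ[n] : SSet.{u}).obj (op c))
    (h : ∀ j, vtx x j = vtx y j) : x = y := by
  apply stdSimplex.objEquiv.injective
  ext j : 3
  exact h j

lemma vtx_symm {c : SimplexCategory} (f : Fin (c.len + 1) →o Fin (n + 1)) (j : Fin (c.len + 1)) :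
    vtx (stdSimplex.objEquiv.symm (SimplexCategory.Hom.mk f) : (Δ[n] : SSet.{u}).obj (op c)) j = f j := rfl

abbrev L : (SimplexCategory.Truncated 1)ᵒᵖ ⥤ SimplexCategoryᵒᵖ :=
  (SimplexCategory.Truncated.inclusion 1).op

variable {G : SSet.{u}} (β : L ⋙ G ⟶ L ⋙ (Δ[n] : SSet.{u}))

/-- value of `β` on vertices -/
def β₀ (g : G.obj (op ⦋0⦌)) : Fin (n + 1) :=
  vtx (β.app (op ⟨⦋0⦌, by simp⟩) g) 0

/-- vertices of a simplex of `G` -/
def vert {c : SimplexCategory} (g : G.obj (op c)) (j : Fin (c.len + 1)) : G.obj (op ⦋0⦌) :=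
  G.map (SimplexCategory.const ⦋0⦌ c j).op g

lemma vert_map {c c' : SimplexCategory} (φ : c' ⟶ c) (g : G.obj (op c)) (j : Fin (c'.len + 1)) :
    vert (G.map φ.op g) j = vert g (φ.toOrderHom j) := by
  unfold vert
  rw [← Functor.map_comp_apply, ← op_comp, SimplexCategory.const_comp]

lemma nat1 {c : SimplexCategory} (hc : c.len ≤ 1) (g : G.obj (op c)) (j : Fin (c.len + 1)) :
    vtx (β.app (op ⟨c, hc⟩) g) j = β₀ β (vert g j) := by
  have h := NatTrans.naturality_apply β
    (SimplexCategory.Truncated.Hom.tr (n := 1) (SimplexCategory.const ⦋0⦌ c j) (by simp) hc).op g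
  unfold β₀ vert
  erw [h]
  rfl


lemma β₀_mono {c : SimplexCategory} (g : G.obj (op c)) : Monotone (fun j => β₀ β (vert g j)) := by
  induction c using SimplexCategory.rec with | _ m => ?_
  intro j j' hjj'
  let e : G.obj (op ⦋1⦌) := G.map (SimplexCategory.mkOfLe j j' hjj').op g
  have h0 := nat1 β (c := ⦋1⦌) (by simp) e 0
  have h1 := nat1 β (c := ⦋1⦌) (by simp) e 1
  have e0 : vert e 0 = vert g j := by
    rw [vert_map]; rfl
  have e1 : vert e 1 = vert g j' := by
    rw [vert_map]; rfl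
  show β₀ β (vert g j) ≤ β₀ β (vert g j')
  rw [← e0, ← e1, ← h0, ← h1]
  exact vtx_mono _ (by decide)

/-- the extension -/
noncomputable def γ : G ⟶ (Δ[n] : SSet.{u}) where
  app k := ↾fun g => stdSimplex.objEquiv.symm (SimplexCategory.Hom.mk
    ⟨fun j => β₀ β (vert (c := k.unop) g j), β₀_mono β g⟩)
  naturality k k' φ := by
    ext g
    apply ext_vtx
    intro j
    show β₀ β (vert (G.map φ g) j) = vtx ((Δ[n] : SSet.{u}).map φ _) j
    have : φ = φ.unop.op := rfl
    rw [this, vtx_map, vert_map]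
    rfl

lemma vtx_γ {c : SimplexCategory} (g : G.obj (op c)) (j : Fin (c.len + 1)) :
    vtx ((γ β).app (op c) g) j = β₀ β (vert g j) := rfl

lemma γ_fac : Functor.whiskerLeft L (γ β) = β := by
  ext k g
  apply ext_vtx
  intro j
  show vtx ((γ β).app (op k.unop.obj) g) j = vtx (β.app k g) j
  rw [vtx_γ]
  exact (nat1 β k.unop.property g j).symm

lemma γ_uniq (γ' : G ⟶ (Δ[n] : SSet.{u})) (h : Functor.whiskerLeft L γ' = β) : γ' = γ β := by
  ext k g
  induction k using Opposite.rec with | _ c => ?_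
  apply ext_vtx
  intro j
  show vtx (γ'.app (op c) g) j = vtx ((γ β).app (op c) g) j
  rw [vtx_γ]
  have h1 : vtx (γ'.app (op c) g) j = vtx ((Δ[n] : SSet.{u}).map (SimplexCategory.const ⦋0⦌ c j).op (γ'.app (op c) g)) 0 := rfl
  rw [h1, ← NatTrans.naturality_apply γ']
  have h2 : γ'.app (op ⦋0⦌) = β.app (op ⟨⦋0⦌, by simp⟩) := by
    have := congrArg (fun t => t.app (op ⟨⦋0⦌, by simp⟩)) h
    exact this
  rw [h2]
  rfl


theorem main6784 (n : ℕ) :
    SimplicialObject.IsCoskeletal (SSet.stdSimplex.{u}.obj (SimplexCategory.mk n)) 1 := by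
  constructor
  constructor
  refine ⟨IsTerminal.ofUniqueHom (fun E => CostructuredArrow.homMk (γ (n := n) E.hom) ?_) ?_⟩
  · show Functor.whiskerLeft L (γ (n := n) E.hom) ≫ 𝟙 _ = E.hom
    rw [Category.comp_id, γ_fac]
  · intro E m
    apply CostructuredArrow.hom_ext
    show m.left = γ (n := n) E.hom
    apply γ_uniq
    have := CostructuredArrow.w m
    rw [← this]
    show _ = Functor.whiskerLeft L m.left ≫ 𝟙 _
    rw [Category.comp_id]
    rfl


end helpers

/-- The standard simplex `Δ[n]` is `1`-coskeletal, i.e. it is the right Kan extension of its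
`1`-truncation. -/
theorem result (n : ℕ) : SimplicialObject.IsCoskeletal (SSet.stdSimplex.{u}.obj (SimplexCategory.mk n)) 1 := by
  exact main6784 n

end Groth.Agent.S6784
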