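import Groth.Statements.S6785
import Mathlib

set_option autoImplicit false
open CategoryTheory
universe u
open SSet

namespace Groth.Agent.S6785

set_option linter.style.haveILetI false
set_option linter.unusedSimpArgs false

section helpers
open CategoryTheory SSet MonoidalCategory CartesianMonoidalCategory Simplicial Limits


variable {X Y : SSet.{u}}

theorem disj (Z : SSet.{u}) :
    Subcomplex.range (ι₀ : Z ⟶ Z ⊗ Δ[1]) ⊓ Subcomplex.range (ι₁ : Z ⟶ Z ⊗ Δ[1]) = ⊥ := by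
  ext n x
  simp only [Subfunctor.min_obj, Set.mem_inter_iff, Subfunctor.bot_obj, Set.bot_eq_empty,
    Set.mem_empty_iff_false, iff_false, not_and]
  rintro ⟨a, rfl⟩ ⟨b, hb⟩
  induction n using Opposite.rec with | _ n => ?_
  induction n using SimplexCategory.rec with | _ n => ?_
  have h1 := ι₀_app_snd_apply a 0
  have h2 := ι₁_app_snd_apply b 0
  have h2' := hb ▸ h2
  exact zero_ne_one (h1.symm.trans h2')

theorem exists_homotopy (f : X ⟶ Y) (hf : (MorphismProperty.monomorphisms SSet.{u}).rlp f)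
    {Z : SSet.{u}} (a b : Z ⟶ X) (hab : a ≫ f = b ≫ f) : Nonempty (SSet.Homotopy a b) := by
  let A₀ := Subcomplex.range (ι₀ : Z ⟶ Z ⊗ Δ[1])
  let A₁ := Subcomplex.range (ι₁ : Z ⟶ Z ⊗ Δ[1])
  let A := A₀ ⊔ A₁
  have sq : Subcomplex.BicartSq ⊥ A₀ A₁ A := ⟨rfl, disj Z⟩
  haveI : Mono (ι₀ : Z ⟶ Z ⊗ Δ[1]) := mono_of_mono_fac (ι₀_fst Z)
  haveI : Mono (ι₁ : Z ⟶ Z ⊗ Δ[1]) := mono_of_mono_fac (ι₁_fst Z)
  let φ₀ : (A₀ : SSet) ⟶ X := inv (Subcomplex.toRange (ι₀ : Z ⟶ Z ⊗ Δ[1])) ≫ a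
  let φ₁ : (A₁ : SSet) ⟶ X := inv (Subcomplex.toRange (ι₁ : Z ⟶ Z ⊗ Δ[1])) ≫ b
  let t : (A : SSet) ⟶ X := sq.isPushout.desc φ₀ φ₁ (Subcomplex.isInitialBot.hom_ext _ _)
  have ht₀ : Subcomplex.homOfLE sq.le₂₄ ≫ t = φ₀ := sq.isPushout.inl_desc _ _ _
  have ht₁ : Subcomplex.homOfLE sq.le₃₄ ≫ t = φ₁ := sq.isPushout.inr_desc _ _ _
  have csq : CommSq t A.ι f (fst _ _ ≫ a ≫ f) := ⟨by
    apply sq.isPushout.hom_ext
    · rw [reassoc_of% ht₀]
      rw [← cancel_epi (Subcomplex.toRange (ι₀ : Z ⟶ Z ⊗ Δ[1]))]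
      simp only [φ₀, IsIso.hom_inv_id_assoc]
      rw [← Category.assoc, ← Category.assoc]
      change _ = ((Subcomplex.toRange ι₀ ≫ A₀.ι) ≫ fst _ _) ≫ a ≫ f
      rw [Subcomplex.toRange_ι, ι₀_fst, Category.id_comp]
      simp
    · rw [reassoc_of% ht₁]
      rw [← cancel_epi (Subcomplex.toRange (ι₁ : Z ⟶ Z ⊗ Δ[1]))]
      simp only [φ₁, IsIso.hom_inv_id_assoc]
      rw [← Category.assoc, ← Category.assoc]
      change _ = ((Subcomplex.toRange ι₁ ≫ A₁.ι) ≫ fst _ _) ≫ a ≫ f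
      rw [Subcomplex.toRange_ι, ι₁_fst, Category.id_comp, hab]
      simp⟩
  haveI : HasLiftingProperty A.ι f := hf _ (MorphismProperty.monomorphisms.infer_property _)
  let h := csq.lift
  have hh : A.ι ≫ h = t := csq.fac_left
  refine ⟨{ h := h, h₀ := ?_, h₁ := ?_, rel := ?_ }⟩
  · show ι₀ ≫ h = a
    have : (ι₀ : Z ⟶ Z ⊗ Δ[1]) = Subcomplex.toRange ι₀ ≫ Subcomplex.homOfLE sq.le₂₄ ≫ A.ι := rfl
    rw [this, Category.assoc, Category.assoc, hh, ht₀]
    simp [φ₀]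
  · show ι₁ ≫ h = b
    have : (ι₁ : Z ⟶ Z ⊗ Δ[1]) = Subcomplex.toRange ι₁ ≫ Subcomplex.homOfLE sq.le₃₄ ≫ A.ι := rfl
    rw [this, Category.assoc, Category.assoc, hh, ht₁]
    simp [φ₁]
  · ext n ⟨⟨x, hx⟩, s⟩
    exact hx.elim

theorem main6785 (f : X ⟶ Y) (hf : SSet.modelCategoryQuillen.I.rlp f) :
    ∃ g : Y ⟶ X, g ≫ f = 𝟙 Y ∧ Nonempty (SSet.Homotopy (𝟙 X) (f ≫ g)) ∧
      Nonempty (SSet.Homotopy (f ≫ g) (𝟙 X)) := by
  have hf' : (MorphismProperty.monomorphisms SSet.{u}).rlp f := by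
    rw [SSet.rlp_monomorphisms]; exact hf
  have csq : CommSq (Subcomplex.isInitialBot.to X) (⊥ : Y.Subcomplex).ι f (𝟙 Y) :=
    ⟨Subcomplex.isInitialBot.hom_ext _ _⟩
  haveI : HasLiftingProperty (⊥ : Y.Subcomplex).ι f :=
    hf' _ (MorphismProperty.monomorphisms.infer_property _)
  refine ⟨csq.lift, csq.fac_right, ?_, ?_⟩
  · apply exists_homotopy f hf'
    rw [Category.assoc, csq.fac_right]; simp
  · apply exists_homotopy f hf'
    rw [Category.assoc, csq.fac_right]; simp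


end helpers

/-- A trivial Kan fibration `f : X ⟶ Y` of simplicial sets is a homotopy equivalence; more precisely it
has a section `g`, and `g ∘ f` is homotopic to the identity of `X` by a single homotopy in each
direction. (The published statement only asserts a homotopy equivalence; the section and the
one-step homotopies are what its proof constructs.) -/
theorem result {X Y : SSet.{u}} (f : X ⟶ Y) (hf : SSet.modelCategoryQuillen.I.rlp f) : ∃ g : Y ⟶ X, g ≫ f = 𝟙 Y ∧ Nonempty (SSet.Homotopy (𝟙 X) (f ≫ g)) ∧ Nonempty (SSet.Homotopy (f ≫ g) (𝟙 X)) := by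
  exact main6785 f hf

end Groth.Agent.S6785
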