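import Groth.Statements.S6786
import Mathlib
import Groth.Agent.Lib.Helper10.MLSeq

set_option autoImplicit false
open CategoryTheory CategoryTheory.Limits
universe u
open HomAlg3

namespace Groth.Agent.S6786
open CategoryTheory.Limits Opposite Groth.Agent.Helper10.MLSeq

/-- For a sequence `(A_i) ⟶ (B_i) ⟶ (C_i) ⟶ (D_i)` of inverse systems of abelian groups over `ℕ` that is
exact levelwise at the two middle places, if `(A_i)` is Mittag-Leffler then `lim B_i ⟶ lim C_i ⟶ lim
D_i` is exact. -/
theorem result {A B C D : ℕᵒᵖ ⥤ AddCommGrpCat.{u}} (a : A ⟶ B) (b : B ⟶ C) (c : C ⟶ D) (hB : ∀ i, (b.app i).hom.ker = (a.app i).hom.range) (hC : ∀ i, (c.app i).hom.ker = (b.app i).hom.range) (hA : (A ⋙ forget AddCommGrpCat).IsMittagLeffler) : (limMap c).hom.ker = (limMap b).hom.range := by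
  apply le_antisymm
  · intro y hy
    rw [AddMonoidHom.mem_ker] at hy
    have hy' : ∀ i, (c.app i).hom ((limit.π C i).hom y) = 0 := by
      intro i
      rw [← limMap_π_hom_apply, hy, map_zero]
    let E : ℕᵒᵖ ⥤ Type u :=
      { obj := fun i => {z : B.obj i // (b.app i).hom z = (limit.π C i).hom y}
        map := fun {i j} f => TypeCat.ofHom (fun z => ⟨(B.map f).hom z.1, by
          rw [← nat_apply, z.2, lim_π_map]⟩)
        map_id := fun i => by
          ext z
          change (B.map (𝟙 i)).hom z.1 = z.1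
          simp
        map_comp := fun f g => by
          ext z
          change (B.map (f ≫ g)).hom z.1 = (B.map g).hom ((B.map f).hom z.1)
          simp }
    have hEmap : ∀ {i j : ℕᵒᵖ} (f : i ⟶ j) (z : E.obj i), ((E.map f) z).1 = (B.map f).hom z.1 :=
      fun f z => rfl
    have hne : ∀ i, Nonempty (E.obj i) := by
      intro i
      have : (limit.π C i).hom y ∈ (b.app i).hom.range := by
        rw [← hC i, AddMonoidHom.mem_ker]
        exact hy' i
      obtain ⟨z, hz⟩ := this
      exact ⟨⟨z, hz⟩⟩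
    have hE : E.IsMittagLeffler := by
      intro j
      obtain ⟨i, f, hf⟩ := hA j
      refine ⟨i, f, ?_⟩
      intro k g
      rintro _ ⟨z, rfl⟩
      -- m = max
      let m : ℕᵒᵖ := op (max i.unop k.unop)
      let fi : m ⟶ i := (homOfLE (le_max_left _ _)).op
      let fk : m ⟶ k := (homOfLE (le_max_right _ _)).op
      have hcomm : fi ≫ f = fk ≫ g := Subsingleton.elim _ _
      obtain ⟨w⟩ := hne m
      have h1 : z.1 - (B.map fi).hom w.1 ∈ (a.app i).hom.range := by
        rw [← hB i, AddMonoidHom.mem_ker, map_sub, z.2, ← nat_apply, w.2, lim_π_map, sub_self]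
      obtain ⟨α, hα⟩ := h1
      have h2 : (A.map f).hom α ∈ Set.range ((A ⋙ forget AddCommGrpCat).map (fi ≫ f)) :=
        hf (fi ≫ f) ⟨α, rfl⟩
      obtain ⟨α', hα'⟩ := h2
      have hα'' : (A.map (fi ≫ f)).hom α' = (A.map f).hom α := hα'
      have hw' : (b.app m).hom (w.1 + (a.app m).hom α') = (limit.π C m).hom y := by
        rw [map_add, w.2]
        have : (a.app m).hom α' ∈ (b.app m).hom.ker := by
          rw [hB m]; exact ⟨α', rfl⟩
        rw [AddMonoidHom.mem_ker] at this
        rw [this, add_zero]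
      refine ⟨E.map fk ⟨w.1 + (a.app m).hom α', hw'⟩, ?_⟩
      apply Subtype.ext
      rw [hEmap, hEmap, hEmap]
      rw [← map_comp_apply, ← hcomm, map_add, nat_apply, hα'', ← nat_apply, hα, map_sub,
        map_comp_apply]
      abel
    obtain ⟨s⟩ := nonempty_sections_of_ml E hE
    obtain ⟨x, hx⟩ := exists_lim B (fun j => (s.1 j).1) (fun {j j'} f => by
      have := s.2 f
      rw [← this]
      rfl)
    refine ⟨x, ?_⟩
    apply lim_ext
    intro j
    rw [limMap_π_hom_apply, hx]
    exact (s.1 j).2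
  · rintro _ ⟨x, rfl⟩
    rw [AddMonoidHom.mem_ker]
    apply lim_ext
    intro j
    rw [limMap_π_hom_apply, limMap_π_hom_apply, map_zero]
    have : (b.app j).hom ((limit.π B j).hom x) ∈ (c.app j).hom.ker := by
      rw [hC j]; exact ⟨_, rfl⟩
    exact this

end Groth.Agent.S6786
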