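import Groth.Statements.S6787
import Mathlib
import Groth.Agent.Lib.Helper10.MLSeq

set_option autoImplicit false
open CategoryTheory CategoryTheory.Limits
universe u
open HomAlg3

namespace Groth.Agent.S6787
open CategoryTheory.Limits Opposite Groth.Agent.Helper10.MLSeq

/-- Take inverse systems `(A_i)`, `(B_i)`, `(C_i)` of abelian groups over `ℕ`, with morphisms of systems
`(A_i) ⟶ (B_i) ⟶ (C_i)` that give a short exact sequence at every index, and suppose `(C_i)` is
essentially constant. Then `(A_i)` is Mittag-Leffler if and only if `(B_i)` is. -/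
theorem result {A B C : ℕᵒᵖ ⥤ AddCommGrpCat.{u}} (a : A ⟶ B) (b : B ⟶ C) (ha : ∀ i, Function.Injective (a.app i).hom) (hb : ∀ i, Function.Surjective (b.app i).hom) (hex : ∀ i, (b.app i).hom.ker = (a.app i).hom.range) (hC : ∃ (C₀ : AddCommGrpCat.{u}) (c : (Functor.const ℕᵒᵖ).obj C₀ ⟶ C), DerCA.IsEssConstant C C₀ c) : (A ⋙ forget AddCommGrpCat).IsMittagLeffler ↔ (B ⋙ forget AddCommGrpCat).IsMittagLeffler := by
  obtain ⟨C₀, c, i₀, s, hs, hess⟩ := hC
  -- cone naturality
  have hc : ∀ {i j : ℕᵒᵖ} (f : i ⟶ j) (t : C₀), (C.map f).hom ((c.app i).hom t) = (c.app j).hom t := by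
    intro i j f t
    have := nat_apply c f t
    exact this
  -- essential constancy on elements
  have hess' : ∀ j : ℕ, ∃ (k : ℕ) (hi : i₀ ≤ k) (hj : j ≤ k), ∀ z : C.obj (op k),
      (C.map (homOfLE hj).op).hom z = (c.app (op j)).hom (s.hom ((C.map (homOfLE hi).op).hom z)) := by
    intro j
    obtain ⟨k, hi, hj, h⟩ := hess j
    refine ⟨k, hi, hj, fun z => ?_⟩
    have := ConcreteCategory.congr_hom h z
    exact this
  have hba : ∀ i (α : A.obj i), (b.app i).hom ((a.app i).hom α) = 0 := by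
    intro i α
    have : (a.app i).hom α ∈ (b.app i).hom.ker := by rw [hex i]; exact ⟨α, rfl⟩
    exact this
  constructor
  · intro hA j
    obtain ⟨i₁, f₁, hf₁⟩ := hA j
    obtain ⟨k, hi, hj, hk⟩ := hess' i₁.unop
    refine ⟨op k, (homOfLE hj).op ≫ f₁, ?_⟩
    intro l g
    rintro _ ⟨y, rfl⟩
    change B.obj (op k) at y
    let L : ℕᵒᵖ := op (max l.unop k)
    let fl : L ⟶ l := (homOfLE (le_max_left _ _)).op
    let fk : L ⟶ op k := (homOfLE (le_max_right _ _)).op
    let t : C₀ := s.hom ((C.map (homOfLE hi).op).hom ((b.app (op k)).hom y))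
    obtain ⟨y', hy'⟩ := hb L ((c.app L).hom t)
    have hcomm : fl ≫ g = fk ≫ (homOfLE hj).op ≫ f₁ := Subsingleton.elim _ _
    have h1 : (B.map (homOfLE hj).op).hom y - (B.map (fk ≫ (homOfLE hj).op)).hom y' ∈
        (a.app i₁).hom.range := by
      rw [← hex, AddMonoidHom.mem_ker, map_sub, ← nat_apply, ← nat_apply, hy', hc, hk, sub_self]
    obtain ⟨α, hα⟩ := h1
    obtain ⟨α', hα'⟩ := hf₁ (fk ≫ (homOfLE hj).op ≫ f₁) ⟨α, rfl⟩
    have hα'' : (A.map (fk ≫ (homOfLE hj).op ≫ f₁)).hom α' = (A.map f₁).hom α := hα'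
    refine ⟨(B.map fl).hom (y' + (a.app L).hom α'), ?_⟩
    change (B.map g).hom ((B.map fl).hom (y' + (a.app L).hom α')) =
      (B.map ((homOfLE hj).op ≫ f₁)).hom y
    rw [← map_comp_apply, hcomm, map_add, nat_apply, hα'', ← nat_apply, hα, map_sub,
      map_comp_apply B (homOfLE hj).op f₁, ← map_comp_apply B (fk ≫ (homOfLE hj).op) f₁,
      Category.assoc]
    abel
  · intro hBml j
    let k : ℕ := max i₀ j.unop
    obtain ⟨i, f, hf⟩ := hBml (op k)
    have hjk : j.unop ≤ k := le_max_right _ _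
    refine ⟨i, f ≫ (homOfLE hjk).op, ?_⟩
    intro l g
    rintro _ ⟨x, rfl⟩
    change A.obj i at x
    obtain ⟨l', hi', hl', hess''⟩ := hess' (max l.unop k)
    let fL : op l' ⟶ l := (homOfLE ((le_max_left _ _).trans hl')).op
    let fK : op l' ⟶ op k := (homOfLE ((le_max_right _ _).trans hl')).op
    have hcomm : fL ≫ g = fK ≫ (homOfLE hjk).op := Subsingleton.elim _ _
    obtain ⟨β, hβ⟩ := hf fK ⟨(a.app i).hom x, rfl⟩
    have hβ' : (B.map fK).hom β = (B.map f).hom ((a.app i).hom x) := hβ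
    -- γ = b β restricted to level i₀ vanishes
    have h0 : (C.map (homOfLE hi').op).hom ((b.app (op l')).hom β) = 0 := by
      have e : (homOfLE hi').op = fK ≫ (homOfLE (le_max_left i₀ j.unop)).op := Subsingleton.elim _ _
      rw [e, map_comp_apply, nat_apply, hβ', nat_apply, nat_apply a, nat_apply a, hba]
    have h1 : (B.map fL).hom β ∈ (a.app l).hom.range := by
      rw [← hex, AddMonoidHom.mem_ker, ← nat_apply]
      have e : fL = (homOfLE hl').op ≫ (homOfLE (le_max_left l.unop k)).op := Subsingleton.elim _ _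
      rw [e, map_comp_apply, hess'', h0, map_zero, map_zero, map_zero]
    obtain ⟨α, hα⟩ := h1
    refine ⟨α, ?_⟩
    change (A.map g).hom α = (A.map (f ≫ (homOfLE hjk).op)).hom x
    apply ha j
    rw [← nat_apply, hα, ← map_comp_apply, hcomm, map_comp_apply, hβ', ← nat_apply,
      ← map_comp_apply]

end Groth.Agent.S6787
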