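import Groth.Statements.S6789
import Mathlib

set_option autoImplicit false
open CategoryTheory CategoryTheory.Limits
universe v u
open CategoryTheory CategoryTheory.SimplicialObject

namespace Groth.Agent.S6789
section helpers
open Opposite
set_option linter.unusedSectionVars false
set_option autoImplicit false
open CategoryTheory CategoryTheory.Limits
open CategoryTheory CategoryTheory.SimplicialObject Simplicial

macro "fin_tac" : tactic => `(tactic|
  (simp only [Fin.ext_iff, Fin.le_def, Fin.lt_def, Fin.predAbove, Fin.succAbove, Fin.val_succ,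
      Fin.val_castSucc, Fin.val_last, Fin.val_pred, Fin.coe_castPred, Fin.val_zero,
      decide_eq_decide, decide_eq_true_eq, decide_eq_false_iff_not,
      apply_dite Fin.val, apply_ite Fin.val] at * <;>
   split_ifs at * <;> (try simp only [Fin.val_succ, Fin.val_castSucc, Fin.val_last,
      Fin.val_pred, Fin.coe_castPred, Fin.val_zero, Fin.ext_iff, Fin.le_def, Fin.lt_def] at *) <;> omega))

theorem F1c (n : ℕ) (k : Fin (n+1)) : decide (Fin.succAbove (0 : Fin (n+2)) k ≤ (0 : Fin (n+1)).castSucc) = false := by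
  fin_tac

theorem F2c (n : ℕ) (k : Fin (n+1)) : decide (Fin.succAbove (Fin.last (n+1)) k ≤ (Fin.last n).castSucc) = true := by
  fin_tac

theorem F3c (n : ℕ) (i : Fin (n+2)) (j : Fin (n+1)) (hij : i ≤ j.castSucc) (k : Fin (n+2)) :
    decide (Fin.succAbove i.castSucc k ≤ j.succ.castSucc) = decide (k ≤ j.castSucc) := by
  fin_tac

theorem F4 (n : ℕ) (j : Fin (n+1)) (k : Fin (n+2)) :
    Fin.predAbove j.succ (Fin.succAbove j.castSucc.succ k) = Fin.predAbove j.castSucc (Fin.succAbove j.castSucc.succ k) := by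
  fin_tac

theorem F4c (n : ℕ) (j : Fin (n+1)) (k : Fin (n+2)) :
    decide (Fin.succAbove j.castSucc.succ k ≤ j.succ.castSucc) = decide (Fin.succAbove j.castSucc.succ k ≤ j.castSucc.castSucc) := by
  fin_tac

theorem F5c (n : ℕ) (i : Fin (n+2)) (j : Fin (n+1)) (hji : j.castSucc < i) (k : Fin (n+2)) :
    decide (Fin.succAbove i.succ k ≤ j.castSucc.castSucc) = decide (k ≤ j.castSucc) := by
  fin_tac

theorem F6c (n : ℕ) (i j : Fin (n+1)) (hij : i ≤ j) (k : Fin (n+3)) :
    decide (Fin.predAbove i.castSucc k ≤ j.castSucc) = decide (k ≤ j.succ.castSucc) := by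
  fin_tac

theorem F7c (n : ℕ) (i j : Fin (n+1)) (hji : j ≤ i) (k : Fin (n+3)) :
    decide (Fin.predAbove i.succ k ≤ j.castSucc) = decide (k ≤ j.castSucc.castSucc) := by
  fin_tac


section
variable {C : Type u} [Category.{v} C] {Y X : C} (f : Y ⟶ X)
  [∀ n : ℕ, HasWidePullback (Arrow.mk f).right (fun _ : Fin (n + 1) => (Arrow.mk f).left)
    (fun _ => (Arrow.mk f).hom)]

/-- the Čech nerve -/
noncomputable abbrev N : SimplicialObject C := (Arrow.mk f).cechNerve

variable {f}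

/-- decorated reindexing -/
noncomputable def L (a b : Y ⟶ Y) (ha : a ≫ f = f) (hb : b ≫ f = f) {n m : ℕ}
    (θ : Fin (m + 1) → Fin (n + 1)) (c : Fin (m + 1) → Bool) : (N f) _⦋n⦌ ⟶ (N f) _⦋m⦌ :=
  WidePullback.lift (WidePullback.base _)
    (fun k => WidePullback.π _ (θ k) ≫ cond (c k) a b) (fun k => by
      cases c k
      · simp only [cond_false, Category.assoc]
        erw [hb]
        exact WidePullback.π_arrow _ _
      · simp only [cond_true, Category.assoc]
        erw [ha]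
        exact WidePullback.π_arrow _ _)


variable (a b : Y ⟶ Y) (ha : a ≫ f = f) (hb : b ≫ f = f)

theorem L_π {n m : ℕ} (θ : Fin (m + 1) → Fin (n + 1)) (c : Fin (m + 1) → Bool) (k : Fin (m + 1)) :
    L a b ha hb θ c ≫ WidePullback.π _ k = WidePullback.π _ (θ k) ≫ cond (c k) a b :=
  WidePullback.lift_π _ _ _ _ _

theorem L_base {n m : ℕ} (θ : Fin (m + 1) → Fin (n + 1)) (c : Fin (m + 1) → Bool) :
    L a b ha hb θ c ≫ WidePullback.base _ = WidePullback.base _ :=
  WidePullback.lift_base _ _ _ _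

theorem map_π {n m : ℕ} (g : ⦋m⦌ ⟶ ⦋n⦌) (k : Fin (m + 1)) :
    (N f).map g.op ≫ WidePullback.π _ k = WidePullback.π _ (g.toOrderHom k) :=
  WidePullback.lift_π _ _ _ _ _

theorem map_base {n m : ℕ} (g : ⦋m⦌ ⟶ ⦋n⦌) :
    (N f).map g.op ≫ WidePullback.base _ = WidePullback.base _ :=
  WidePullback.lift_base _ _ _ _

theorem L_comp_map {n m m' : ℕ} (θ : Fin (m + 1) → Fin (n + 1)) (c : Fin (m + 1) → Bool)
    (g : ⦋m'⦌ ⟶ ⦋m⦌) :
    L a b ha hb θ c ≫ (N f).map g.op = L a b ha hb (θ ∘ g.toOrderHom) (c ∘ g.toOrderHom) := by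
  refine WidePullback.hom_ext _ _ _ (fun k => ?_) ?_
  · rw [Category.assoc, map_π, L_π, L_π]
    rfl
  · rw [Category.assoc, map_base, L_base, L_base]

theorem map_comp_L {n n' m : ℕ} (θ : Fin (m + 1) → Fin (n + 1)) (c : Fin (m + 1) → Bool)
    (g : ⦋n⦌ ⟶ ⦋n'⦌) :
    (N f).map g.op ≫ L a b ha hb θ c = L a b ha hb (g.toOrderHom ∘ θ) c := by
  refine WidePullback.hom_ext _ _ _ (fun k => ?_) ?_
  · rw [Category.assoc, L_π, L_π, ← Category.assoc, map_π]
    rfl
  · rw [Category.assoc, L_base, L_base, map_base]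

theorem L_congr {n m : ℕ} {θ θ' : Fin (m + 1) → Fin (n + 1)} {c c' : Fin (m + 1) → Bool}
    (hθ : ∀ k, θ k = θ' k) (hc : ∀ k, c k = c' k) : L a b ha hb θ c = L a b ha hb θ' c' := by
  obtain rfl : θ = θ' := funext hθ
  obtain rfl : c = c' := funext hc
  rfl


/-- the decoration for `h j` -/
def cj {n : ℕ} (j : Fin (n + 1)) (k : Fin (n + 2)) : Bool := decide (k ≤ j.castSucc)

/-- the homotopy components -/
noncomputable def hh {n : ℕ} (j : Fin (n + 1)) : (N f) _⦋n⦌ ⟶ (N f) _⦋n + 1⦌ :=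
  L a b ha hb (SimplexCategory.σ j).toOrderHom (cj j)

/-- the endomorphism of the arrow -/
def Phi (a : Y ⟶ Y) (ha : a ≫ f = f) : Arrow.mk f ⟶ Arrow.mk f :=
  Arrow.homMk a (𝟙 X) (by simpa using ha)

theorem mapCech_app_a (n : ℕ) :
    (Arrow.mapCechNerve (Phi a ha)).app (Opposite.op ⦋n⦌) = L a b ha hb id (fun _ => true) := by
  refine WidePullback.hom_ext _ _ _ (fun k => ?_) ?_
  · rw [L_π]
    exact WidePullback.lift_π _ _ _ _ _
  · rw [L_base]
    exact (WidePullback.lift_base _ _ _ _).trans (Category.comp_id _)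

theorem mapCech_app_b (n : ℕ) :
    (Arrow.mapCechNerve (Phi b hb)).app (Opposite.op ⦋n⦌) = L a b ha hb id (fun _ => false) := by
  refine WidePullback.hom_ext _ _ _ (fun k => ?_) ?_
  · rw [L_π]
    exact WidePullback.lift_π _ _ _ _ _
  · rw [L_base]
    exact (WidePullback.lift_base _ _ _ _).trans (Category.comp_id _)

theorem L_δ {n m : ℕ} (θ : Fin (m + 2) → Fin (n + 1)) (c : Fin (m + 2) → Bool) (i : Fin (m + 2)) :
    L a b ha hb θ c ≫ (N f).δ i =
      L a b ha hb (θ ∘ (SimplexCategory.δ i).toOrderHom) (c ∘ (SimplexCategory.δ i).toOrderHom) :=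
  L_comp_map a b ha hb θ c (SimplexCategory.δ i)

theorem L_σ {n m : ℕ} (θ : Fin (m + 1) → Fin (n + 1)) (c : Fin (m + 1) → Bool) (i : Fin (m + 1)) :
    L a b ha hb θ c ≫ (N f).σ i =
      L a b ha hb (θ ∘ (SimplexCategory.σ i).toOrderHom) (c ∘ (SimplexCategory.σ i).toOrderHom) :=
  L_comp_map a b ha hb θ c (SimplexCategory.σ i)

theorem δ_L {n m : ℕ} (θ : Fin (m + 1) → Fin (n + 1)) (c : Fin (m + 1) → Bool) (i : Fin (n + 2)) :
    (N f).δ i ≫ L a b ha hb θ c = L a b ha hb ((SimplexCategory.δ i).toOrderHom ∘ θ) c :=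
  map_comp_L a b ha hb θ c (SimplexCategory.δ i)

theorem σ_L {n m : ℕ} (θ : Fin (m + 1) → Fin (n + 2)) (c : Fin (m + 1) → Bool) (i : Fin (n + 1)) :
    (N f).σ i ≫ L a b ha hb θ c = L a b ha hb ((SimplexCategory.σ i).toOrderHom ∘ θ) c :=
  map_comp_L a b ha hb θ c (SimplexCategory.σ i)

/-- the homotopy -/
noncomputable def homotopy :
    SimplicialObject.Homotopy (Arrow.mapCechNerve (Phi a ha)) (Arrow.mapCechNerve (Phi b hb)) where
  h j := hh a b ha hb j
  h_zero_comp_δ_zero n := by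
    rw [mapCech_app_b a b ha hb, hh, L_δ]
    refine L_congr a b ha hb (fun k => ?_) (fun k => ?_)
    · exact congrArg (fun g : ⦋n⦌ ⟶ ⦋n⦌ => g.toOrderHom k)
        (SimplexCategory.δ_comp_σ_self (i := (0 : Fin (n + 1))))
    · exact F1c n k
  h_last_comp_δ_last n := by
    rw [mapCech_app_a a b ha hb, hh, L_δ]
    refine L_congr a b ha hb (fun k => ?_) (fun k => ?_)
    · exact congrArg (fun g : ⦋n⦌ ⟶ ⦋n⦌ => g.toOrderHom k)
        (SimplexCategory.δ_comp_σ_succ (i := Fin.last n))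
    · exact F2c n k
  h_succ_comp_δ_castSucc_of_lt {n} i j hij := by
    rw [hh, hh, L_δ, δ_L]
    refine L_congr a b ha hb (fun k => ?_) (fun k => ?_)
    · exact congrArg (fun g : ⦋n + 1⦌ ⟶ ⦋n + 1⦌ => g.toOrderHom k)
        (SimplexCategory.δ_comp_σ_of_le hij)
    · exact F3c n i j hij k
  h_succ_comp_δ_castSucc_succ {n} j := by
    rw [hh, hh, L_δ, L_δ]
    refine L_congr a b ha hb (fun k => ?_) (fun k => ?_)
    · exact F4 n j k
    · exact F4c n j k
  h_castSucc_comp_δ_succ_of_lt {n} i j hji := by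
    rw [hh, hh, L_δ, δ_L]
    refine L_congr a b ha hb (fun k => ?_) (fun k => ?_)
    · exact congrArg (fun g : ⦋n + 1⦌ ⟶ ⦋n + 1⦌ => g.toOrderHom k)
        (SimplexCategory.δ_comp_σ_of_gt hji)
    · exact F5c n i j hji k
  h_comp_σ_castSucc_of_le {n} i j hij := by
    rw [hh, hh, L_σ, σ_L]
    refine L_congr a b ha hb (fun k => ?_) (fun k => ?_)
    · exact congrArg (fun g : ⦋n + 2⦌ ⟶ ⦋n⦌ => g.toOrderHom k)
        (SimplexCategory.σ_comp_σ hij)
    · exact F6c n i j hij k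
  h_comp_σ_succ_of_lt {n} i j hji := by
    rw [hh, hh, L_σ, σ_L]
    refine L_congr a b ha hb (fun k => ?_) (fun k => ?_)
    · exact (congrArg (fun g : ⦋n + 2⦌ ⟶ ⦋n⦌ => g.toOrderHom k)
        (SimplexCategory.σ_comp_σ hji)).symm
    · exact F7c n i j hji k


theorem mapCech_id : Arrow.mapCechNerve (Phi (f := f) (𝟙 Y) (Category.id_comp f)) = 𝟙 _ := by
  ext n
  refine WidePullback.hom_ext _ _ _ (fun k => ?_) ?_
  · rw [NatTrans.id_app, Category.id_comp]
    exact (WidePullback.lift_π _ _ _ _ _).trans (Category.comp_id _)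
  · rw [NatTrans.id_app, Category.id_comp]
    exact (WidePullback.lift_base _ _ _ _).trans (Category.comp_id _)

end

theorem main6789 {C : Type u} [Category.{v} C] {Y X : C} (f : Y ⟶ X) (s : X ⟶ Y) (hs : s ≫ f = 𝟙 X) [∀ n : ℕ, HasWidePullback (Arrow.mk f).right (fun _ : Fin (n + 1) => (Arrow.mk f).left) (fun _ => (Arrow.mk f).hom)] (φ : Arrow.mk f ⟶ Arrow.mk f) (hφl : φ.left = f ≫ s) (hφr : φ.right = 𝟙 X) : Nonempty (SimplicialObject.Homotopy (𝟙 (Arrow.mk f).cechNerve) (Arrow.mapCechNerve φ)) ∧ Nonempty (SimplicialObject.Homotopy (Arrow.mapCechNerve φ) (𝟙 (Arrow.mk f).cechNerve)) := by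
  have hb : (f ≫ s) ≫ f = f := by rw [Category.assoc, hs, Category.comp_id]
  have hφ : φ = Phi (f ≫ s) hb := by
    ext
    · exact hφl
    · exact hφr
  rw [hφ, ← mapCech_id]
  exact ⟨⟨homotopy (𝟙 Y) (f ≫ s) (Category.id_comp f) hb⟩,
    ⟨homotopy (f ≫ s) (𝟙 Y) hb (Category.id_comp f)⟩⟩


end helpers

/-- For a morphism `f : Y ⟶ X` with a section `s`, the endomorphism of the Čech nerve of `f` (the
simplicial object of iterated fibre products of `Y` over `X`) that applies `s ∘ f` factorwise admits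
simplicial homotopies to and from the identity: the published formula gives one direction and its
mirror image (exchange the roles of the identity and `s ∘ f`) gives the other. -/
theorem result {C : Type u} [Category.{v} C] {Y X : C} (f : Y ⟶ X) (s : X ⟶ Y) (hs : s ≫ f = 𝟙 X) [∀ n : ℕ, HasWidePullback (Arrow.mk f).right (fun _ : Fin (n + 1) => (Arrow.mk f).left) (fun _ => (Arrow.mk f).hom)] (φ : Arrow.mk f ⟶ Arrow.mk f) (hφl : φ.left = f ≫ s) (hφr : φ.right = 𝟙 X) : Nonempty (SimplicialObject.Homotopy (𝟙 (Arrow.mk f).cechNerve) (Arrow.mapCechNerve φ)) ∧ Nonempty (SimplicialObject.Homotopy (Arrow.mapCechNerve φ) (𝟙 (Arrow.mk f).cechNerve)) := by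
  exact main6789 f s hs φ hφl hφr

end Groth.Agent.S6789
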