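import Groth.Statements.S6790
import Mathlib

set_option autoImplicit false
open CategoryTheory CategoryTheory.Limits MonoidalCategory
universe v u
open CategoryTheory CategoryTheory.Monoidal

namespace Groth.Agent.S6790

/-- In an idempotent-complete additive monoidal category, a direct summand of an object admitting a dual
(with coevaluation `𝟙_ A ⟶ X ⊗ Y` and evaluation `Y ⊗ X ⟶ 𝟙_ A`) again admits such a dual. -/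
theorem result {A : Type u} [Category.{v} A] [Preadditive A] [HasFiniteBiproducts A] [MonoidalCategory A] [MonoidalPreadditive A] [IsIdempotentComplete A] {X X₁ : A} (i : X₁ ⟶ X) (p : X ⟶ X₁) (hip : i ≫ p = 𝟙 X₁) [HasRightDual X] : Nonempty (HasRightDual X₁) := by
  have he : (p ≫ i) ≫ (p ≫ i) = p ≫ i := by
    rw [Category.assoc, ← Category.assoc i, hip, Category.id_comp]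
  have hed : (p ≫ i)ᘁ ≫ (p ≫ i)ᘁ = (p ≫ i)ᘁ := by rw [← comp_rightAdjointMate, he]
  obtain ⟨Y₁, j, q, hjq, hqj⟩ := IsIdempotentComplete.idempotents_split (Xᘁ) ((p ≫ i)ᘁ) hed
  have hipip : i ≫ (p ≫ i) ≫ p = 𝟙 X₁ := by
    rw [Category.assoc, hip, Category.comp_id, hip]
  have hjqjq : j ≫ (p ≫ i)ᘁ ≫ q = 𝟙 Y₁ := by
    rw [← hqj, Category.assoc, hjq, Category.comp_id, hjq]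
  refine ⟨@HasRightDual.mk _ _ _ X₁ Y₁
    { coevaluation' := η_ X (Xᘁ) ≫ p ▷ (Xᘁ) ≫ X₁ ◁ q
      evaluation' := j ▷ X₁ ≫ (Xᘁ) ◁ i ≫ ε_ X (Xᘁ)
      coevaluation_evaluation' := ?_
      evaluation_coevaluation' := ?_ }⟩
  · calc Y₁ ◁ (η_ X (Xᘁ) ≫ p ▷ (Xᘁ) ≫ X₁ ◁ q) ≫ (α_ Y₁ X₁ Y₁).inv ≫
          (j ▷ X₁ ≫ (Xᘁ) ◁ i ≫ ε_ X (Xᘁ)) ▷ Y₁
        = Y₁ ◁ η_ X (Xᘁ) ⊗≫ Y₁ ◁ p ▷ (Xᘁ) ⊗≫ ((j ▷ X₁) ▷ (Xᘁ) ≫ ((Xᘁ) ⊗ X₁) ◁ q) ⊗≫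
            (Xᘁ) ◁ i ▷ Y₁ ⊗≫ ε_ X (Xᘁ) ▷ Y₁ := by
          rw [← whisker_exchange (j ▷ X₁) q]; monoidal
      _ = Y₁ ◁ η_ X (Xᘁ) ⊗≫ (j ▷ (X ⊗ (Xᘁ)) ≫ (Xᘁ) ◁ (p ▷ (Xᘁ))) ⊗≫ ((Xᘁ) ⊗ X₁) ◁ q ⊗≫
            (Xᘁ) ◁ i ▷ Y₁ ⊗≫ ε_ X (Xᘁ) ▷ Y₁ := by
          rw [← whisker_exchange j (p ▷ (Xᘁ))]; monoidal
      _ = (j ▷ 𝟙_ A ≫ (Xᘁ) ◁ η_ X (Xᘁ)) ⊗≫ (Xᘁ) ◁ (p ▷ (Xᘁ)) ⊗≫ ((Xᘁ) ⊗ X₁) ◁ q ⊗≫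
            (Xᘁ) ◁ i ▷ Y₁ ⊗≫ ε_ X (Xᘁ) ▷ Y₁ := by
          rw [← whisker_exchange j (η_ X (Xᘁ))]; monoidal
      _ = j ▷ 𝟙_ A ⊗≫ (Xᘁ) ◁ η_ X (Xᘁ) ⊗≫ (Xᘁ) ◁ p ▷ (Xᘁ) ⊗≫
            (((Xᘁ) ◁ i) ▷ (Xᘁ) ≫ ((Xᘁ) ⊗ X) ◁ q) ⊗≫ ε_ X (Xᘁ) ▷ Y₁ := by
          rw [← whisker_exchange ((Xᘁ) ◁ i) q]; monoidal
      _ = j ▷ 𝟙_ A ⊗≫ (Xᘁ) ◁ η_ X (Xᘁ) ⊗≫ (Xᘁ) ◁ (p ≫ i) ▷ (Xᘁ) ⊗≫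
            (ε_ X (Xᘁ) ▷ (Xᘁ) ≫ 𝟙_ A ◁ q) := by
          rw [← whisker_exchange (ε_ X (Xᘁ)) q]; monoidal
      _ = (ρ_ Y₁).hom ≫ (j ≫ (p ≫ i)ᘁ ≫ q) ≫ (λ_ Y₁).inv := by
          dsimp only [rightAdjointMate]; monoidal
      _ = (ρ_ Y₁).hom ≫ (λ_ Y₁).inv := by rw [hjqjq, Category.id_comp]
  · have hmate : (p ≫ i)ᘁ ▷ X ≫ ε_ X (Xᘁ) = (Xᘁ) ◁ (p ≫ i) ≫ ε_ X (Xᘁ) :=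
      rightAdjointMate_comp_evaluation (p ≫ i)
    calc (η_ X (Xᘁ) ≫ p ▷ (Xᘁ) ≫ X₁ ◁ q) ▷ X₁ ≫ (α_ X₁ Y₁ X₁).hom ≫
          X₁ ◁ (j ▷ X₁ ≫ (Xᘁ) ◁ i ≫ ε_ X (Xᘁ))
        = η_ X (Xᘁ) ▷ X₁ ⊗≫ (p ▷ (Xᘁ)) ▷ X₁ ⊗≫ X₁ ◁ ((q ≫ j) ▷ X₁ ≫ (Xᘁ) ◁ i) ⊗≫
            X₁ ◁ ε_ X (Xᘁ) := by
          monoidal
      _ = η_ X (Xᘁ) ▷ X₁ ⊗≫ (p ▷ (Xᘁ)) ▷ X₁ ⊗≫ X₁ ◁ ((Xᘁ) ◁ i ≫ (p ≫ i)ᘁ ▷ X) ⊗≫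
            X₁ ◁ ε_ X (Xᘁ) := by
          rw [hqj, ← whisker_exchange]
      _ = η_ X (Xᘁ) ▷ X₁ ⊗≫ (p ▷ (Xᘁ)) ▷ X₁ ⊗≫ X₁ ◁ (Xᘁ) ◁ i ⊗≫
            X₁ ◁ ((p ≫ i)ᘁ ▷ X ≫ ε_ X (Xᘁ)) := by
          monoidal
      _ = η_ X (Xᘁ) ▷ X₁ ⊗≫ (p ▷ ((Xᘁ) ⊗ X₁) ≫ X₁ ◁ ((Xᘁ) ◁ (i ≫ p ≫ i) ≫ ε_ X (Xᘁ))) := by
          rw [hmate]; monoidal
      _ = (η_ X (Xᘁ) ▷ X₁ ≫ (X ⊗ (Xᘁ)) ◁ (i ≫ p ≫ i)) ⊗≫ X ◁ ε_ X (Xᘁ) ⊗≫ p ▷ 𝟙_ A := by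
          rw [← whisker_exchange p]; monoidal
      _ = 𝟙_ A ◁ (i ≫ p ≫ i) ⊗≫ (η_ X (Xᘁ) ▷ X ≫ (α_ _ _ _).hom ≫ X ◁ ε_ X (Xᘁ)) ⊗≫
            p ▷ 𝟙_ A := by
          rw [← whisker_exchange (η_ X (Xᘁ))]; monoidal
      _ = (λ_ X₁).hom ≫ (i ≫ (p ≫ i) ≫ p) ≫ (ρ_ X₁).inv := by
          rw [ExactPairing.evaluation_coevaluation]; monoidal
      _ = (λ_ X₁).hom ≫ (ρ_ X₁).inv := by rw [hipip, Category.id_comp]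

end Groth.Agent.S6790
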