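import Groth.Statements.S6791
import Mathlib

set_option autoImplicit false
open CategoryTheory CategoryTheory.Limits
universe v u v' u' v'' u''
open CategoryTheory CategoryTheory.SerreClass

namespace Groth.Agent.S6791

theorem main {A : Type u} [Category.{v} A] [Abelian A] {B : Type u'} [Category.{v'} B] [Abelian B] (F : A ⥤ B) [F.Additive] [PreservesFiniteLimits F] [PreservesFiniteColimits F] (P : ObjectProperty A) [P.IsSerreClass] (hP : ∀ X : A, P X → IsZero (F.obj X)) {Q : Type u''} [Category.{v''} Q] [Abelian Q] (L : A ⥤ Q) [L.IsLocalization P.isoModSerre] [L.Additive] [PreservesFiniteLimits L] [PreservesFiniteColimits L] (Fbar : Q ⥤ B) (e : L ⋙ Fbar ≅ F) : (∀ X : A, IsZero (F.obj X) → P X) ↔ Fbar.Faithful := by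
  constructor
  · intro hker
    -- key: for morphisms between objects of the form L X
    have key : ∀ (X₁ X₂ : A) (φ ψ : L.obj X₁ ⟶ L.obj X₂), Fbar.map φ = Fbar.map ψ → φ = ψ := by
      intro X₁ X₂ φ ψ h
      obtain ⟨z, hφ, hψ⟩ := Localization.exists_leftFraction₂ L P.isoModSerre φ ψ
      have hinv := Localization.inverts L P.isoModSerre
      have h1 : φ ≫ L.map z.s = L.map z.f := by
        rw [hφ]; exact MorphismProperty.LeftFraction.map_comp_map_s z.fst L hinv
      have h2 : ψ ≫ L.map z.s = L.map z.f' := by
        rw [hψ]; exact MorphismProperty.LeftFraction.map_comp_map_s z.snd L hinv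
      haveI : IsIso (L.map z.s) := hinv _ z.hs
      have h3 : Fbar.map (L.map z.f) = Fbar.map (L.map z.f') := by
        rw [← h1, ← h2, Fbar.map_comp, Fbar.map_comp, h]
      have h4 : F.map z.f = F.map z.f' := by
        have n1 := e.hom.naturality z.f
        have n2 := e.hom.naturality z.f'
        simp only [Functor.comp_map] at n1 n2
        rw [h3] at n1
        have : e.hom.app X₁ ≫ F.map z.f = e.hom.app X₁ ≫ F.map z.f' := by rw [← n1, ← n2]
        exact (cancel_epi _).1 this
      have h5 : F.map (z.f - z.f') = 0 := by rw [Functor.map_sub, h4, sub_self]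
      -- image of z.f - z.f' lies in P
      have h6 : P (Abelian.image (z.f - z.f')) := by
        apply hker
        have hfac : Abelian.factorThruImage (z.f - z.f') ≫ Abelian.image.ι (z.f - z.f') = z.f - z.f' :=
          Abelian.image.fac _
        have h7 : F.map (Abelian.factorThruImage (z.f - z.f')) ≫ F.map (Abelian.image.ι (z.f - z.f')) = 0 := by
          rw [← F.map_comp, hfac, h5]
        have h8 : F.map (Abelian.factorThruImage (z.f - z.f')) = 0 := by
          rw [← cancel_mono (F.map (Abelian.image.ι (z.f - z.f'))), h7, zero_comp]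
        exact IsZero.of_epi_eq_zero _ h8
      have h9 : L.map (z.f - z.f') = 0 :=
        (ObjectProperty.SerreClassLocalization.map_eq_zero_iff L P _).2 h6
      rw [Functor.map_sub, sub_eq_zero] at h9
      rw [← cancel_mono (L.map z.s), h1, h2, h9]
    haveI : L.EssSurj := Localization.essSurj L P.isoModSerre
    refine ⟨fun {Y₁ Y₂} φ ψ h => ?_⟩
    let i₁ := L.objObjPreimageIso Y₁
    let i₂ := L.objObjPreimageIso Y₂
    have := key _ _ (i₁.hom ≫ φ ≫ i₂.inv) (i₁.hom ≫ ψ ≫ i₂.inv) (by
      simp only [Functor.map_comp, h])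
    rw [cancel_epi, cancel_mono] at this
    exact this
  · intro hfaith X hX
    rw [← ObjectProperty.SerreClassLocalization.isZero_obj_iff L P X, IsZero.iff_id_eq_zero]
    apply Fbar.map_injective
    have hz : IsZero (Fbar.obj (L.obj X)) := hX.of_iso (e.app X)
    exact hz.eq_of_src _ _



/-- For an exact functor `F : A ⥤ B` of abelian categories and a Serre class `P` of `A` killed by `F`,
with `L : A ⥤ Q` a model of the quotient `A/P` and `Fbar : Q ⥤ B` the induced functor, `P` is
exactly the kernel of `F` if and only if `Fbar` is faithful. -/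
theorem result {A : Type u} [Category.{v} A] [Abelian A] {B : Type u'} [Category.{v'} B] [Abelian B] (F : A ⥤ B) [F.Additive] [PreservesFiniteLimits F] [PreservesFiniteColimits F] (P : ObjectProperty A) [P.IsSerreClass] (hP : ∀ X : A, P X → IsZero (F.obj X)) {Q : Type u''} [Category.{v''} Q] [Abelian Q] (L : A ⥤ Q) [L.IsLocalization P.isoModSerre] [L.Additive] [PreservesFiniteLimits L] [PreservesFiniteColimits L] (Fbar : Q ⥤ B) (e : L ⋙ Fbar ≅ F) : (∀ X : A, IsZero (F.obj X) → P X) ↔ Fbar.Faithful := by
  exact main F P hP L Fbar e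

end Groth.Agent.S6791
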