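import Groth.Statements.S6792
import Mathlib

set_option autoImplicit false
open CategoryTheory
universe v u
open SpSeq SpSeq.FilCx

namespace Groth.Agent.S6792
section helpers
open Opposite
set_option linter.unusedSectionVars false
open CategoryTheory CategoryTheory.Limits
variable {A : Type u} [Category.{v} A] [Abelian A]

open SpSeq SpSeq.FilCx

lemma isZero_subquot_of_eq {X : A} (Z B : Subobject X) (h : B ≤ Z) (e : Z = B) :
    IsZero (SpSeq.subquot Z B h) := by
  subst e
  dsimp only [SpSeq.subquot]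
  have : IsIso (Z.ofLE Z h) := by
    rw [Subobject.ofLE_refl]; infer_instance
  exact isZero_cokernel_of_epi _

lemma pullback_bot {X Y : A} (f : X ⟶ Y) :
    (Subobject.pullback f).obj ⊥ = kernelSubobject f := by
  apply le_antisymm
  · apply le_kernelSubobject
    have h : ((Subobject.pullback f).obj ⊥).Factors ((Subobject.pullback f).obj ⊥).arrow :=
      Subobject.factors_self _
    rw [pullback_factors_iff, Subobject.bot_factors_iff_zero] at h
    exact h
  · exact SpSeq.FilCx.kernelSubobject_le_pullback f ⊥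

lemma imageSubobject_eq_top_of_epi {X Y : A} (f : X ⟶ Y) [Epi f] : imageSubobject f = ⊤ := by
  have h1 : Epi (imageSubobject f).arrow := by
    have : Epi (factorThruImageSubobject f ≫ (imageSubobject f).arrow) := by
      rw [imageSubobject_arrow_comp]; infer_instance
    exact epi_of_epi (factorThruImageSubobject f) _
  have : IsIso (imageSubobject f).arrow := isIso_of_mono_of_epi _
  exact Subobject.eq_top_of_isIso_arrow _

variable (K : SpSeq.FilCx A)

lemma filX_eq_bot {b p n : ℤ} (hb : K.filX b n = ⊥) (h : b ≤ p) : K.filX p n = ⊥ :=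
  le_bot_iff.1 (hb ▸ K.filX_anti n h)

lemma filX_eq_top {a p n : ℤ} (ha : K.filX a n = ⊤) (h : p ≤ a) : K.filX p n = ⊤ :=
  top_le_iff.1 (ha ▸ K.filX_anti n h)


section part1
variable (hK : ∀ n : ℤ, (K.XFil n).IsFinite)

include hK in
lemma bounded0 : K.IsBounded 0 := by
  intro n
  obtain ⟨⟨a, ha⟩, ⟨b, hb⟩⟩ := hK n
  change K.filX a n = ⊤ at ha
  change K.filX b n = ⊥ at hb
  apply Set.Finite.subset (Set.finite_Ico a b)
  intro p hp
  simp only [Set.mem_ofPred_eq] at hp
  by_contra hcon
  apply hp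
  apply isZero_subquot_of_eq
  simp only [Set.mem_Ico, not_and_or, not_le, not_lt] at hcon
  rcases hcon with h | h
  · -- p < a : F^{p+1} = ⊤
    have h1 : K.filX (p + 1) n = ⊤ := filX_eq_top K ha (by omega)
    simp only [ZSub, BSub, h1, le_top, sup_of_le_right]
  · -- b ≤ p : F^p = ⊥
    have h1 : K.filX p n = ⊥ := filX_eq_bot K hb h
    have h2 : K.filX (p + 1) n = ⊥ := filX_eq_bot K hb (by omega)
    simp only [ZSub, BSub, h1, h2, bot_inf_eq, sup_bot_eq]

end part1


section part2

lemma filH_eq_bot {b n : ℤ} (hb : K.filX b n = ⊥) : K.filH b n = ⊥ := by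
  have h0 : (K.fil b).arrow.f n = 0 := Subobject.mk_eq_bot_iff_zero.1 hb
  have hz : IsZero ((K.fil b : CochainComplex A ℤ).X n) := IsZero.of_mono_eq_zero _ h0
  have hH : IsZero ((K.fil b : CochainComplex A ℤ).homology n) :=
    HomologicalComplex.ExactAt.isZero_homology (ShortComplex.exact_of_isZero_X₂ _ hz)
  dsimp only [filH]
  rw [eq_bot_iff]
  exact imageSubobject_le _ 0 (by rw [zero_comp]; exact (hH.eq_of_src _ _).symm)

lemma epi_homologyMap_of_isIso {F L : CochainComplex A ℤ} (φ : F ⟶ L) (n : ℤ)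
    [IsIso (φ.f n)] [Mono (φ.f (n + 1))] : Epi (HomologicalComplex.homologyMap φ n) := by
  -- a section of cyclesMap
  let s : L.cycles n ⟶ F.cycles n :=
    F.liftCycles (L.iCycles n ≫ inv (φ.f n)) (n + 1) (by simp) (by
      rw [← cancel_mono (φ.f (n + 1)), Category.assoc, Category.assoc, ← φ.comm,
        IsIso.inv_hom_id_assoc, HomologicalComplex.iCycles_d, zero_comp])
  have hs : s ≫ HomologicalComplex.cyclesMap φ n = 𝟙 _ := by
    rw [← cancel_mono (L.iCycles n), Category.assoc, HomologicalComplex.cyclesMap_i,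
      HomologicalComplex.liftCycles_i_assoc, Category.assoc, IsIso.inv_hom_id, Category.comp_id,
      Category.id_comp]
  have : Epi (HomologicalComplex.cyclesMap φ n) := ⟨fun a b hab => by
    rw [← Category.id_comp a, ← Category.id_comp b, ← hs, Category.assoc, Category.assoc, hab]⟩
  have h2 : Epi (F.homologyπ n ≫ HomologicalComplex.homologyMap φ n) := by
    rw [HomologicalComplex.homologyπ_naturality]; infer_instance
  exact epi_of_epi (F.homologyπ n) _

lemma filH_eq_top {a n : ℤ} (ha : K.filX a n = ⊤) : K.filH a n = ⊤ := by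
  have h0 : IsIso ((K.fil a).arrow.f n) := (Subobject.isIso_iff_mk_eq_top _).2 ha
  have h1 : Mono ((K.fil a).arrow.f (n + 1)) := inferInstance
  have := epi_homologyMap_of_isIso (K.fil a).arrow n
  exact imageSubobject_eq_top_of_epi _

variable (hK : ∀ n : ℤ, (K.XFil n).IsFinite)

include hK in
lemma hfil_finite (n : ℤ) : (K.HFil n).IsFinite := by
  obtain ⟨⟨a, ha⟩, ⟨b, hb⟩⟩ := hK n
  exact ⟨⟨a, filH_eq_top K ha⟩, ⟨b, filH_eq_bot K hb⟩⟩

end part2


section part3
variable (hK : ∀ n : ℤ, (K.XFil n).IsFinite)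

lemma ZSub_of_bot {p n : ℤ} {r : ℕ} (h : K.filX (p + r) (n + 1) = ⊥) :
    K.ZSub r p n = K.ZTop p n := by
  dsimp only [ZSub, ZTop]
  rw [h, pullback_bot]

lemma BSub_of_top {p n : ℤ} {r : ℕ} (h : K.filX (p - r + 1) (n - 1) = ⊤) :
    K.BSub r p n = K.BBot p n := by
  dsimp only [BSub, BBot]
  have : imageSubobject ((K.filX (p - r + 1) (n - 1)).arrow ≫ K.obj.d (n - 1) n) =
      imageSubobject (K.obj.d (n - 1) n) := by
    have : IsIso (K.filX (p - r + 1) (n - 1)).arrow := (Subobject.isIso_arrow_iff_eq_top _).2 h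
    exact imageSubobject_iso_comp _ _
  rw [this]

lemma ZTop_le_ZSub (r : ℕ) (p n : ℤ) : K.ZTop p n ≤ K.ZSub r p n :=
  sup_le_sup_right (inf_le_inf_left _ (kernelSubobject_le_pullback _ _)) _

lemma BSub_le_BBot (r : ℕ) (p n : ℤ) : K.BSub r p n ≤ K.BBot p n :=
  sup_le_sup_right (inf_le_inf_left _ (imageSubobject_comp_le _ _)) _

include hK in
lemma exists_r_bot (p n : ℤ) : ∃ r₀ : ℕ, ∀ r : ℕ, r₀ ≤ r → K.filX (p + r) (n + 1) = ⊥ := by
  obtain ⟨_, ⟨b, hb⟩⟩ := hK (n + 1)
  refine ⟨(b - p).toNat, fun r hr => filX_eq_bot K hb ?_⟩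
  have := Int.self_le_toNat (b - p)
  omega

include hK in
lemma exists_r_top (p n : ℤ) : ∃ r₀ : ℕ, ∀ r : ℕ, r₀ ≤ r → K.filX (p - r + 1) (n - 1) = ⊤ := by
  obtain ⟨⟨a, ha⟩, _⟩ := hK (n - 1)
  refine ⟨(p + 1 - a).toNat, fun r hr => filX_eq_top K ha ?_⟩
  have := Int.self_le_toNat (p + 1 - a)
  omega

include hK in
lemma regular : K.IsRegular := by
  intro p n
  obtain ⟨r₀, h⟩ := exists_r_bot K hK p n
  exact ⟨r₀, fun r hr => by rw [ZSub_of_bot K (h r hr), ZSub_of_bot K (h r₀ le_rfl)]⟩

include hK in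
lemma weakly : K.WeaklyConverges := by
  intro p n
  constructor
  · obtain ⟨r₀, h⟩ := exists_r_bot K hK p n
    constructor
    · rintro _ ⟨r, rfl⟩
      exact ZTop_le_ZSub K r p n
    · intro S hS
      have := hS ⟨r₀, rfl⟩
      dsimp only at this
      rwa [ZSub_of_bot K (h r₀ le_rfl)] at this
  · obtain ⟨r₀, h⟩ := exists_r_top K hK p n
    constructor
    · rintro _ ⟨r, rfl⟩
      exact BSub_le_BBot K r p n
    · intro S hS
      have := hS ⟨r₀, rfl⟩
      dsimp only at this
      rwa [BSub_of_top K (h r₀ le_rfl)] at this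

include hK in
lemma abuts : K.Abuts := by
  refine ⟨weakly K hK, fun n => ?_⟩
  obtain ⟨⟨a, ha⟩, ⟨b, hb⟩⟩ := hfil_finite K hK n
  constructor
  · constructor
    · rintro _ ⟨r, rfl⟩
      exact bot_le
    · intro S hS
      have := hS ⟨b, rfl⟩
      rwa [hb] at this
  · constructor
    · rintro _ ⟨r, rfl⟩
      exact le_top
    · intro S hS
      have := hS ⟨a, rfl⟩
      rwa [ha] at this

end part3


section complete

lemma arrow_eq_zero_of_eq_bot {X : A} {S : Subobject X} (h : S = ⊥) : S.arrow = 0 := by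
  subst h; exact Subobject.bot_arrow

lemma isIso_cokernel_π_of_eq_bot {X : A} {S : Subobject X} (h : S = ⊥) :
    IsIso (cokernel.π S.arrow) := by
  refine ⟨cokernel.desc _ (𝟙 X) (by rw [arrow_eq_zero_of_eq_bot h, zero_comp]), ?_, ?_⟩
  · rw [cokernel.π_desc]
  · rw [← cancel_epi (cokernel.π S.arrow), cokernel.π_desc_assoc, Category.comp_id,
      Category.id_comp]

lemma π_quotMap (L : SpSeq.FilObj A) {p q : ℤ} (h : p ≤ q) :
    cokernel.π (L.fil q).arrow ≫ L.quotMap h = cokernel.π (L.fil p).arrow := by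
  dsimp only [SpSeq.FilObj.quotMap]
  rw [cokernel.π_desc]

lemma complete_of_finite (L : SpSeq.FilObj A) (hL : L.IsFinite) : L.IsComplete := by
  obtain ⟨_, ⟨b, hb⟩⟩ := hL
  intro T f hf
  have ib := isIso_cokernel_π_of_eq_bot hb
  refine ⟨f b ≫ inv (cokernel.π (L.fil b).arrow), fun p => ?_⟩
  rcases le_total p b with h | h
  · rw [← π_quotMap L h, Category.assoc, IsIso.inv_hom_id_assoc, hf]
  · have hp : L.fil p = ⊥ := le_bot_iff.1 (hb ▸ L.anti h)
    have ip := isIso_cokernel_π_of_eq_bot hp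
    have e : L.quotMap h = inv (cokernel.π (L.fil p).arrow) ≫ cokernel.π (L.fil b).arrow := by
      rw [← π_quotMap L h, IsIso.inv_hom_id_assoc]
    have e2 := hf b p h
    rw [e] at e2
    rw [← e2]
    simp only [Category.assoc, IsIso.hom_inv_id_assoc, IsIso.inv_hom_id, Category.comp_id]

end complete

theorem main6792 (K : SpSeq.FilCx A) (hK : ∀ n : ℤ, (K.XFil n).IsFinite) :
    K.IsBounded 0 ∧ (∀ n : ℤ, (K.HFil n).IsFinite) ∧ K.Converges :=
  ⟨bounded0 K hK, hfil_finite K hK, regular K hK, abuts K hK,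
    fun n => complete_of_finite _ (hfil_finite K hK n)⟩


end helpers

/-- For a filtered complex whose filtration is finite in each degree, the associated spectral sequence
is bounded (from page `0` on), the induced filtration on each cohomology object is finite, and the
spectral sequence converges to the cohomology. -/
theorem result {A : Type u} [Category.{v} A] [Abelian A] (K : SpSeq.FilCx A) (hK : ∀ n : ℤ, (K.XFil n).IsFinite) : K.IsBounded 0 ∧ (∀ n : ℤ, (K.HFil n).IsFinite) ∧ K.Converges := by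
  exact main6792 K hK

end Groth.Agent.S6792
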