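import Groth.Statements.S6794
import Groth.Agent.S6792
import Mathlib

set_option autoImplicit false
open CategoryTheory CategoryTheory.Limits
universe v u
open SpSeq SpSeq.FilCx

namespace Groth.Agent.S6794

section helpers
open Opposite
set_option linter.unusedSectionVars false
open CategoryTheory CategoryTheory.Limits
variable {A : Type u} [Category.{v} A] [Abelian A]

/-- factoring through a subobject is detected by the cokernel. -/
lemma factors_iff_comp_cokernel {X W : A} (T : Subobject X) (x : W ⟶ X) :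
    T.Factors x ↔ x ≫ cokernel.π T.arrow = 0 := by
  constructor
  · intro h
    rw [← T.factorThru_arrow x h, Category.assoc, cokernel.condition, comp_zero]
  · intro h
    exact (Subobject.factors_iff _ _).2 ⟨Abelian.monoLift T.arrow x h, Abelian.monoLift_comp T.arrow x h⟩

lemma factors_of_epi_comp {X W W' : A} (T : Subobject X) (π : W' ⟶ W) [Epi π] (x : W ⟶ X)
    (h : T.Factors (π ≫ x)) : T.Factors x := by
  rw [factors_iff_comp_cokernel] at h ⊢
  rw [Category.assoc] at h
  exact (cancel_epi π).1 (by rw [h, comp_zero])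

lemma le_of_factors_refinement {X : A} (S T : Subobject X)
    (h : ∃ (W' : A) (π : W' ⟶ (S : A)) (_ : Epi π), T.Factors (π ≫ S.arrow)) : S ≤ T := by
  obtain ⟨W', π, hπ, h⟩ := h
  have h' := factors_of_epi_comp T π S.arrow h
  exact Subobject.le_of_comm (T.factorThru S.arrow h') (T.factorThru_arrow _ _)

lemma image_refinement {X Y W : A} (f : X ⟶ Y) (x : W ⟶ Y) (h : (imageSubobject f).Factors x) :
    ∃ (W' : A) (π : W' ⟶ W) (_ : Epi π) (y : W' ⟶ X), π ≫ x = y ≫ f := by
  obtain ⟨W', π, hπ, y, hy⟩ := surjective_up_to_refinements_of_epi (factorThruImageSubobject f)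
    ((imageSubobject f).factorThru x h)
  refine ⟨W', π, hπ, y, ?_⟩
  rw [← (imageSubobject f).factorThru_arrow x h, ← Category.assoc, hy, Category.assoc,
    imageSubobject_arrow_comp]

lemma image_factors_comp {X Y W : A} (f : X ⟶ Y) (y : W ⟶ X) : (imageSubobject f).Factors (y ≫ f) :=
  imageSubobject_factors_comp_self f y

variable (K : SpSeq.FilCx A)

/-- the `q`-th step as a complex -/
noncomputable abbrev Lq (q : ℤ) : CochainComplex A ℤ := (K.fil q : CochainComplex A ℤ)
/-- the inclusion of the `q`-th step -/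
noncomputable abbrev ιq (q : ℤ) : Lq K q ⟶ K.obj := (K.fil q).arrow

instance (q n : ℤ) : Mono ((ιq K q).f n) := inferInstance

lemma filX_factors_iff {W : A} (q n : ℤ) (x : W ⟶ K.obj.X n) :
    (K.filX q n).Factors x ↔ ∃ y : W ⟶ (Lq K q).X n, y ≫ (ιq K q).f n = x := by
  dsimp only [filX]
  exact Subobject.mk_factors_iff _ _

lemma filX_factors_comp {W : A} (q n : ℤ) (y : W ⟶ (Lq K q).X n) :
    (K.filX q n).Factors (y ≫ (ιq K q).f n) :=
  (filX_factors_iff K q n _).2 ⟨y, rfl⟩

lemma filX_factors_of_le {W : A} {q q' : ℤ} (h : q ≤ q') (n : ℤ) {x : W ⟶ K.obj.X n}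
    (hx : (K.filX q' n).Factors x) : (K.filX q n).Factors x :=
  Subobject.factors_of_le x (K.filX_anti n h) hx

lemma cocycle_of_comp {W : A} (q n m : ℤ) (y : W ⟶ (Lq K q).X n)
    (h : (y ≫ (ιq K q).f n) ≫ K.obj.d n m = 0) : y ≫ (Lq K q).d n m = 0 := by
  rw [← cancel_mono ((ιq K q).f m), Category.assoc, ← (ιq K q).comm n m, ← Category.assoc, h,
    zero_comp]

lemma image_fil_factors {W : A} (q m n : ℤ) (y : W ⟶ (Lq K q).X m) :
    (imageSubobject ((K.filX q m).arrow ≫ K.obj.d m n)).Factors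
      ((y ≫ (ιq K q).f m) ≫ K.obj.d m n) := by
  have e : y ≫ (ιq K q).f m =
      (y ≫ (Subobject.underlyingIso ((ιq K q).f m)).inv) ≫ (K.filX q m).arrow := by
    dsimp only [filX]
    rw [Category.assoc, Subobject.underlyingIso_arrow]
  rw [e, Category.assoc]
  exact imageSubobject_factors_comp_self _ _

lemma image_fil_factors' {W : A} (q q' m n : ℤ) (h : q' = q) (y : W ⟶ (Lq K q).X m) :
    (imageSubobject ((K.filX q' m).arrow ≫ K.obj.d m n)).Factors
      ((y ≫ (ιq K q).f m) ≫ K.obj.d m n) := by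
  subst h
  exact image_fil_factors K _ _ _ _

/-- `Z`-chase. -/
lemma ZSub_le_ZTop (p n : ℤ) (r : ℕ) (hr : 1 ≤ r)
    (hex : IsZero ((Lq K (p + r)).homology (n + 1))) : K.ZSub r p n ≤ K.ZTop p n := by
  dsimp only [ZSub, ZTop]
  refine sup_le ?_ le_sup_right
  apply le_of_factors_refinement
  have hS := Subobject.factors_self
    (K.filX p n ⊓ (Subobject.pullback (K.obj.d n (n + 1))).obj (K.filX (p + r) (n + 1)))
  rw [Subobject.inf_factors] at hS
  obtain ⟨hS1, hS2⟩ := hS
  rw [pullback_factors_iff] at hS2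
  obtain ⟨y', hy'⟩ := (filX_factors_iff K _ _ _).1 hS2
  have hy'd : y' ≫ (Lq K (p + r)).d (n + 1) (n + 1 + 1) = 0 := by
    apply cocycle_of_comp
    rw [hy', Category.assoc, HomologicalComplex.d_comp_d, comp_zero]
  have hexact : (Lq K (p + r)).ExactAt (n + 1) := by
    rw [HomologicalComplex.exactAt_iff_isZero_homology]; exact hex
  obtain ⟨W', π, hπ, y₁, hy₁⟩ :=
    ((Lq K (p + r)).exactAt_iff_exact_up_to_refinements n (n + 1) (n + 1 + 1) (by simp)
      (by simp)).1 hexact y' hy'd
  refine ⟨W', π, hπ, ?_⟩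
  have hdecomp : π ≫ (K.filX p n ⊓ (Subobject.pullback (K.obj.d n (n + 1))).obj
      (K.filX (p + r) (n + 1))).arrow =
      (π ≫ (K.filX p n ⊓ (Subobject.pullback (K.obj.d n (n + 1))).obj
      (K.filX (p + r) (n + 1))).arrow + (-y₁) ≫ (ιq K (p + r)).f n) + y₁ ≫ (ιq K (p + r)).f n := by
    rw [Preadditive.neg_comp]; abel
  rw [hdecomp]
  apply Subobject.factors_add
  · apply Subobject.sup_factors_of_factors_left
    rw [Subobject.inf_factors]
    constructor
    · apply Subobject.factors_add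
      · exact Subobject.factors_of_factors_right _ hS1
      · exact filX_factors_of_le K (by omega) n (filX_factors_comp K _ _ _)
    · rw [kernelSubobject_factors_iff, Preadditive.add_comp, Category.assoc, ← hy',
        ← Category.assoc, hy₁, Category.assoc, Category.assoc, (ιq K (p + r)).comm n (n + 1),
        Preadditive.neg_comp]
      abel
  · apply Subobject.sup_factors_of_factors_right
    exact filX_factors_of_le K (by omega) n (filX_factors_comp K _ _ _)

/-- `B`-chase. -/
lemma BBot_le_BSub (p n : ℤ) (r : ℕ) (hr : 1 ≤ r)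
    (hmono : Mono (HomologicalComplex.homologyMap (ιq K (p - r + 1)) n)) :
    K.BBot p n ≤ K.BSub r p n := by
  dsimp only [BBot, BSub]
  refine sup_le ?_ le_sup_right
  apply le_of_factors_refinement
  have hS := Subobject.factors_self (K.filX p n ⊓ imageSubobject (K.obj.d (n - 1) n))
  rw [Subobject.inf_factors] at hS
  obtain ⟨hS1, hS2⟩ := hS
  obtain ⟨W', π, hπ, w, hw⟩ := image_refinement _ _ hS2
  obtain ⟨yq, hyq⟩ := (filX_factors_iff K (p - r + 1) n _).1
    (filX_factors_of_le K (by omega : p - r + 1 ≤ p) n hS1)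
  have hcoc : (π ≫ yq) ≫ (Lq K (p - r + 1)).d n (n + 1) = 0 := by
    apply cocycle_of_comp
    rw [Category.assoc π yq, hyq, hw, Category.assoc, HomologicalComplex.d_comp_d, comp_zero]
  obtain ⟨W'', π', hπ', x₁, hx₁⟩ :=
    (HomologicalComplex.mono_homologyMap_iff_up_to_refinements (ιq K (p - r + 1)) (n - 1) n (n + 1)
      (by simp) (by simp)).1 hmono (π ≫ yq) hcoc w (by rw [Category.assoc, hyq, hw])
  have : Epi (π' ≫ π) := epi_comp _ _
  refine ⟨W'', π' ≫ π, inferInstance, ?_⟩
  apply Subobject.sup_factors_of_factors_left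
  rw [Subobject.inf_factors]
  constructor
  · exact Subobject.factors_of_factors_right _ hS1
  · have e : (π' ≫ π) ≫ (K.filX p n ⊓ imageSubobject (K.obj.d (n - 1) n)).arrow =
        (x₁ ≫ (ιq K (p - r + 1)).f (n - 1)) ≫ K.obj.d (n - 1) n := by
      rw [Category.assoc, ← hyq, ← Category.assoc π, ← Category.assoc π', hx₁, Category.assoc,
        Category.assoc, (ιq K (p - r + 1)).comm (n - 1) n]
    rw [e]
    exact image_fil_factors K _ _ _ _

lemma stepLE_f_comp {p q : ℤ} (h : p ≤ q) (n : ℤ) :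
    (K.stepLE h).f n ≫ (ιq K p).f n = (ιq K q).f n := by
  rw [← HomologicalComplex.comp_f]
  congr 1
  exact Subobject.ofLE_arrow _

/-- `E₁`-chase. -/
lemma ZSub_one_le_BSub_one (p n : ℤ)
    (hm : Mono (HomologicalComplex.homologyMap (K.stepLE (Int.le_add_one (le_refl p))) (n + 1)))
    (he : Epi (HomologicalComplex.homologyMap (K.stepLE (Int.le_add_one (le_refl p))) n)) :
    K.ZSub 1 p n ≤ K.BSub 1 p n := by
  dsimp only [ZSub, BSub]
  simp only [Nat.cast_one]
  refine sup_le ?_ le_sup_right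
  apply le_of_factors_refinement
  have hS := Subobject.factors_self
    (K.filX p n ⊓ (Subobject.pullback (K.obj.d n (n + 1))).obj (K.filX (p + 1) (n + 1)))
  rw [Subobject.inf_factors] at hS
  obtain ⟨hS1, hS2⟩ := hS
  rw [pullback_factors_iff] at hS2
  obtain ⟨y, hy⟩ := (filX_factors_iff K _ _ _).1 hS1
  obtain ⟨y', hy'⟩ := (filX_factors_iff K _ _ _).1 hS2
  set j := K.stepLE (Int.le_add_one (le_refl p)) with hj
  have hjι : ∀ m, j.f m ≫ (ιq K p).f m = (ιq K (p + 1)).f m := fun m => stepLE_f_comp K _ m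
  have hy'd : y' ≫ (Lq K (p + 1)).d (n + 1) (n + 1 + 1) = 0 := by
    apply cocycle_of_comp
    rw [hy', Category.assoc, HomologicalComplex.d_comp_d, comp_zero]
  have hyy' : y' ≫ j.f (n + 1) = y ≫ (Lq K p).d n (n + 1) := by
    rw [← cancel_mono ((ιq K p).f (n + 1)), Category.assoc, hjι, hy', Category.assoc,
      ← (ιq K p).comm n (n + 1), ← Category.assoc, hy]
  obtain ⟨W', π, hπ, y₁, hy₁⟩ :=
    (HomologicalComplex.mono_homologyMap_iff_up_to_refinements j n (n + 1) (n + 1 + 1)
      (by simp) (by simp)).1 hm y' hy'd y hyy'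
  have hz : (π ≫ y + (-y₁) ≫ j.f n) ≫ (Lq K p).d n (n + 1) = 0 := by
    rw [Preadditive.add_comp, Category.assoc, ← hyy', ← Category.assoc, hy₁, Category.assoc,
      Category.assoc, j.comm n (n + 1), Preadditive.neg_comp]
    abel
  obtain ⟨W'', π', hπ', x₂, hx₂, u, hu⟩ :=
    (HomologicalComplex.epi_homologyMap_iff_up_to_refinements j (n - 1) n (n + 1)
      (by simp) (by simp)).1 he (π ≫ y + (-y₁) ≫ j.f n) hz
  have : Epi (π' ≫ π) := epi_comp _ _
  refine ⟨W'', π' ≫ π, inferInstance, ?_⟩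
  have e : (π' ≫ π) ≫ (K.filX p n ⊓ (Subobject.pullback (K.obj.d n (n + 1))).obj
      (K.filX (p + 1) (n + 1))).arrow =
      (u ≫ (ιq K p).f (n - 1)) ≫ K.obj.d (n - 1) n +
        (x₂ + π' ≫ y₁) ≫ (ιq K (p + 1)).f n := by
    have h1 : π' ≫ π ≫ y = x₂ ≫ j.f n + u ≫ (Lq K p).d (n - 1) n + π' ≫ y₁ ≫ j.f n := by
      have := hu
      rw [Preadditive.comp_add, Preadditive.neg_comp, Preadditive.comp_neg] at this
      rw [← sub_eq_add_neg, sub_eq_iff_eq_add] at this
      rw [this]
    have h2 : (π' ≫ π) ≫ y ≫ (ιq K p).f n = (π' ≫ π ≫ y) ≫ (ιq K p).f n := by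
      simp only [Category.assoc]
    rw [← hy, h2, h1]
    simp only [Preadditive.add_comp, Category.assoc, hjι, (ιq K p).comm (n - 1) n]
    abel
  rw [e]
  apply Subobject.factors_add
  · apply Subobject.sup_factors_of_factors_left
    rw [Subobject.inf_factors]
    constructor
    · rw [Category.assoc, (ιq K p).comm (n - 1) n, ← Category.assoc]
      exact filX_factors_comp K _ _ _
    · exact image_fil_factors' K _ _ _ _ (by norm_num) _
  · apply Subobject.sup_factors_of_factors_right
    exact filX_factors_comp K _ _ _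

lemma filH_bot_of_isZero (p n : ℤ) (h : IsZero ((Lq K p).homology n)) : K.filH p n = ⊥ := by
  dsimp only [filH]
  rw [eq_bot_iff]
  exact imageSubobject_le _ 0 (by rw [zero_comp]; exact (h.eq_of_src _ _).symm)

lemma filH_top_of_epi (p n : ℤ) (h : Epi (HomologicalComplex.homologyMap (ιq K p) n)) :
    K.filH p n = ⊤ :=
  Groth.Agent.S6792.imageSubobject_eq_top_of_epi _

lemma homologyMap_stepLE_comp {p q : ℤ} (h : p ≤ q) (n : ℤ) :
    HomologicalComplex.homologyMap (K.stepLE h) n ≫ HomologicalComplex.homologyMap (ιq K p) n =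
      HomologicalComplex.homologyMap (ιq K q) n := by
  rw [← HomologicalComplex.homologyMap_comp]
  congr 1
  exact Subobject.ofLE_arrow _

lemma isIso_homologyMap_stepLE {p q : ℤ} (h : p ≤ q) (n : ℤ)
    (hp : IsIso (HomologicalComplex.homologyMap (ιq K p) n))
    (hq : IsIso (HomologicalComplex.homologyMap (ιq K q) n)) :
    IsIso (HomologicalComplex.homologyMap (K.stepLE h) n) := by
  have e := homologyMap_stepLE_comp K h n
  have : IsIso (HomologicalComplex.homologyMap (K.stepLE h) n ≫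
      HomologicalComplex.homologyMap (ιq K p) n) := by rw [e]; exact hq
  exact IsIso.of_isIso_comp_right _ (HomologicalComplex.homologyMap (ιq K p) n)

section main
variable (h0 : ∀ n : ℤ, ∃ p₀ : ℤ, ∀ p : ℤ, p₀ ≤ p →
    IsZero ((K.fil p : CochainComplex A ℤ).homology n))
  (h1 : ∀ n : ℤ, ∃ p₁ : ℤ, ∀ p : ℤ, p ≤ p₁ →
    IsIso (HomologicalComplex.homologyMap (K.fil p).arrow n))

include h0 h1 in
lemma hfil_finite (n : ℤ) : (K.HFil n).IsFinite := by
  obtain ⟨p₀, hp₀⟩ := h0 n
  obtain ⟨p₁, hp₁⟩ := h1 n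
  refine ⟨⟨p₁, ?_⟩, ⟨p₀, ?_⟩⟩
  · have := hp₁ p₁ le_rfl
    exact filH_top_of_epi K p₁ n inferInstance
  · exact filH_bot_of_isZero K _ _ (hp₀ p₀ le_rfl)

include h0 h1 in
lemma bounded1 : K.IsBounded 1 := by
  intro n
  obtain ⟨a0, ha0⟩ := h0 n
  obtain ⟨a1, ha1⟩ := h0 (n + 1)
  obtain ⟨b0, hb0⟩ := h1 n
  obtain ⟨b1, hb1⟩ := h1 (n + 1)
  apply Set.Finite.subset (Set.finite_Ico (min b0 b1) (max a0 a1))
  intro p hp
  simp only [Set.mem_ofPred_eq] at hp
  by_contra hcon
  apply hp
  apply Groth.Agent.S6792.isZero_subquot_of_eq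
  refine le_antisymm ?_ (K.BSub_le_ZSub 1 p n)
  simp only [Set.mem_Ico, not_and_or, not_le, not_lt] at hcon
  rcases hcon with h | h
  · -- p < min b0 b1
    have hb0' : p + 1 ≤ b0 := by have := min_le_left b0 b1; omega
    have hb1' : p + 1 ≤ b1 := by have := min_le_right b0 b1; omega
    have i1 := isIso_homologyMap_stepLE K (Int.le_add_one (le_refl p)) (n + 1)
      (hb1 p (by omega)) (hb1 (p + 1) hb1')
    have i2 := isIso_homologyMap_stepLE K (Int.le_add_one (le_refl p)) n
      (hb0 p (by omega)) (hb0 (p + 1) hb0')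
    exact ZSub_one_le_BSub_one K p n inferInstance inferInstance
  · -- max a0 a1 ≤ p
    have ha0' : a0 ≤ p := le_trans (le_max_left a0 a1) h
    have ha1' : a1 ≤ p + 1 := by have := le_max_right a0 a1; omega
    exact ZSub_one_le_BSub_one K p n ((ha1 (p + 1) ha1').mono _) ((ha0 p ha0').epi _)

include h0 in
lemma exists_r_Z (p n : ℤ) : ∃ r₀ : ℕ, ∀ r : ℕ, r₀ ≤ r → K.ZSub r p n = K.ZTop p n := by
  obtain ⟨a1, ha1⟩ := h0 (n + 1)
  refine ⟨max 1 (a1 - p).toNat, fun r hr => ?_⟩
  have hr1 : 1 ≤ r := le_trans (le_max_left _ _) hr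
  have hr2 : (a1 - p).toNat ≤ r := le_trans (le_max_right _ _) hr
  refine le_antisymm (ZSub_le_ZTop K p n r hr1 (ha1 _ ?_)) (Groth.Agent.S6792.ZTop_le_ZSub K r p n)
  have := Int.self_le_toNat (a1 - p)
  omega

include h1 in
lemma exists_r_B (p n : ℤ) : ∃ r₀ : ℕ, ∀ r : ℕ, r₀ ≤ r → K.BSub r p n = K.BBot p n := by
  obtain ⟨b0, hb0⟩ := h1 n
  refine ⟨max 1 (p + 1 - b0).toNat, fun r hr => ?_⟩
  have hr1 : 1 ≤ r := le_trans (le_max_left _ _) hr
  have hr2 : (p + 1 - b0).toNat ≤ r := le_trans (le_max_right _ _) hr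
  have hle : p - r + 1 ≤ b0 := by
    have := Int.self_le_toNat (p + 1 - b0)
    omega
  have := hb0 _ hle
  exact le_antisymm (Groth.Agent.S6792.BSub_le_BBot K r p n)
    (BBot_le_BSub K p n r hr1 inferInstance)

include h0 in
lemma regular : K.IsRegular := by
  intro p n
  obtain ⟨r₀, h⟩ := exists_r_Z K h0 p n
  exact ⟨r₀, fun r hr => by rw [h r hr, h r₀ le_rfl]⟩

include h0 h1 in
lemma weakly : K.WeaklyConverges := by
  intro p n
  constructor
  · obtain ⟨r₀, h⟩ := exists_r_Z K h0 p n
    constructor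
    · rintro _ ⟨r, rfl⟩
      exact Groth.Agent.S6792.ZTop_le_ZSub K r p n
    · intro S hS
      have := hS ⟨r₀, rfl⟩
      dsimp only at this
      rwa [h r₀ le_rfl] at this
  · obtain ⟨r₀, h⟩ := exists_r_B K h1 p n
    constructor
    · rintro _ ⟨r, rfl⟩
      exact Groth.Agent.S6792.BSub_le_BBot K r p n
    · intro S hS
      have := hS ⟨r₀, rfl⟩
      dsimp only at this
      rwa [h r₀ le_rfl] at this

include h0 h1 in
lemma abuts : K.Abuts := by
  refine ⟨weakly K h0 h1, fun n => ?_⟩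
  obtain ⟨⟨a, ha⟩, ⟨b, hb⟩⟩ := hfil_finite K h0 h1 n
  constructor
  · constructor
    · rintro _ ⟨r, rfl⟩
      exact bot_le
    · intro S hS
      have := hS ⟨b, rfl⟩
      rwa [hb] at this
  · constructor
    · rintro _ ⟨r, rfl⟩
      exact le_top
    · intro S hS
      have := hS ⟨a, rfl⟩
      rwa [ha] at this

include h0 h1 in
theorem main6794 : K.IsBounded 1 ∧ (∀ n : ℤ, (K.HFil n).IsFinite) ∧ K.Converges :=
  ⟨bounded1 K h0 h1, hfil_finite K h0 h1, regular K h0, abuts K h0 h1,
    fun n => Groth.Agent.S6792.complete_of_finite _ (hfil_finite K h0 h1 n)⟩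

end main

end helpers

/-- If the cohomology of the filtration steps of a filtered complex vanishes in each degree for large
filtration index and maps isomorphically to the cohomology of the whole complex for small filtration
index, then the spectral sequence is bounded from page `1` on, the induced filtrations on cohomology
are finite, and the spectral sequence converges. (The published statement asserts boundedness
without naming a page, which read from page `0` fails for an acyclic complex with an infinite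
filtration by acyclic subcomplexes; this row asserts boundedness from page `1`, which is what the
published proof shows.) -/
theorem result {A : Type u} [Category.{v} A] [Abelian A] (K : SpSeq.FilCx A) (h0 : ∀ n : ℤ, ∃ p₀ : ℤ, ∀ p : ℤ, p₀ ≤ p → IsZero ((K.fil p : CochainComplex A ℤ).homology n)) (h1 : ∀ n : ℤ, ∃ p₁ : ℤ, ∀ p : ℤ, p ≤ p₁ → IsIso (HomologicalComplex.homologyMap (K.fil p).arrow n)) : K.IsBounded 1 ∧ (∀ n : ℤ, (K.HFil n).IsFinite) ∧ K.Converges := by
  exact main6794 K h0 h1

end Groth.Agent.S6794
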