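import Groth.Statements.S6793
import Groth.Agent.S6792
import Groth.Agent.S6794
import Mathlib

set_option autoImplicit false
open CategoryTheory CategoryTheory.Limits
universe v u
open SpSeq SpSeq.FilCx

namespace Groth.Agent.S6793

section helpers
open Opposite
set_option linter.unusedSectionVars false
open CategoryTheory CategoryTheory.Limits
variable {A : Type u} [Category.{v} A] [Abelian A]

lemma exact_mk₄ {X0 X1 X2 X3 X4 : A} (f₁ : X0 ⟶ X1) (f₂ : X1 ⟶ X2) (f₃ : X2 ⟶ X3) (f₄ : X3 ⟶ X4)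
    (w₁ : f₁ ≫ f₂ = 0) (w₂ : f₂ ≫ f₃ = 0) (w₃ : f₃ ≫ f₄ = 0)
    (h₁ : (ShortComplex.mk f₁ f₂ w₁).Exact) (h₂ : (ShortComplex.mk f₂ f₃ w₂).Exact)
    (h₃ : (ShortComplex.mk f₃ f₄ w₃).Exact) : (ComposableArrows.mk₄ f₁ f₂ f₃ f₄).Exact := by
  apply ComposableArrows.exact_of_δ₀
  · exact ComposableArrows.exact₂_mk _ w₁ h₁
  · apply ComposableArrows.exact_of_δ₀
    · exact ComposableArrows.exact₂_mk _ w₂ h₂
    · exact ComposableArrows.exact₂_mk _ w₃ h₃

section closure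
variable (P : ObjectProperty A) [P.IsClosedUnderIsomorphisms] (h0 : ∃ Z : A, IsZero Z ∧ P Z)
  (hP : ∀ S : ComposableArrows A 4, S.Exact → P (S.obj 0) → P (S.obj 1) → P (S.obj 3) →
    P (S.obj 4) → P (S.obj 2))

include h0 in
lemma P_zero {Z : A} (hZ : IsZero Z) : P Z := by
  obtain ⟨Z0, hZ0, hP0⟩ := h0
  exact P.prop_of_iso (hZ0.iso hZ) hP0

include h0 hP in
lemma P_ker (S : ShortComplex A) (hS : S.Exact) (hf : Mono S.f) (h2 : P S.X₂) (h3 : P S.X₃) :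
    P S.X₁ := by
  obtain ⟨Z0, hz, hP0⟩ := h0
  have hex := exact_mk₄ (0 : Z0 ⟶ Z0) (0 : Z0 ⟶ S.X₁) S.f S.g (by simp) (by simp)
    S.zero (ShortComplex.exact_of_isZero_X₂ _ hz)
    ((ShortComplex.exact_iff_mono _ (by rfl)).2 hf) hS
  exact hP _ hex hP0 hP0 h2 h3

include h0 hP in
lemma P_coker (S : ShortComplex A) (hS : S.Exact) (hg : Epi S.g) (h1 : P S.X₁) (h2 : P S.X₂) :
    P S.X₃ := by
  obtain ⟨Z0, hz, hP0⟩ := h0
  have hex := exact_mk₄ S.f S.g (0 : S.X₃ ⟶ Z0) (0 : Z0 ⟶ Z0) S.zero (by simp)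
    (by simp) hS ((ShortComplex.exact_iff_epi _ (by rfl)).2 hg)
    (ShortComplex.exact_of_isZero_X₂ _ hz)
  exact hP _ hex h1 h2 hP0 hP0

include h0 hP in
lemma P_ext (S : ShortComplex A) (hS : S.Exact) (hf : Mono S.f) (hg : Epi S.g) (h1 : P S.X₁)
    (h3 : P S.X₃) : P S.X₂ := by
  obtain ⟨Z0, hz, hP0⟩ := h0
  have hex := exact_mk₄ (0 : Z0 ⟶ S.X₁) S.f S.g (0 : S.X₃ ⟶ Z0) (by simp) S.zero
    (by simp) ((ShortComplex.exact_iff_mono _ (by rfl)).2 hf) hS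
    ((ShortComplex.exact_iff_epi _ (by rfl)).2 hg)
  exact hP _ hex hP0 h1 h3 hP0

end closure

section subquot
open Groth.Agent.S6794

lemma factors_sub' {X W : A} {P : Subobject X} (f g : W ⟶ X) (wf : P.Factors f)
    (wg : P.Factors g) : P.Factors (f - g) :=
  (Subobject.factors_iff _ _).2 ⟨P.factorThru f wf - P.factorThru g wg, by simp⟩

lemma sup_refinement {X W : A} (S T : Subobject X) (x : W ⟶ X) (h : (S ⊔ T).Factors x) :
    ∃ (W' : A) (π : W' ⟶ W) (_ : Epi π) (s t : W' ⟶ X),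
      S.Factors s ∧ T.Factors t ∧ π ≫ x = s + t := by
  have hle : S ⊔ T ≤ imageSubobject (biprod.desc S.arrow T.arrow) := by
    apply sup_le
    · exact Subobject.le_of_comm (biprod.inl ≫ factorThruImageSubobject _) (by simp)
    · exact Subobject.le_of_comm (biprod.inr ≫ factorThruImageSubobject _) (by simp)
  obtain ⟨W', π, hπ, y, hy⟩ := image_refinement _ x (Subobject.factors_of_le x hle h)
  refine ⟨W', π, hπ, (y ≫ biprod.fst) ≫ S.arrow, (y ≫ biprod.snd) ≫ T.arrow,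
    Subobject.factors_comp_arrow _, Subobject.factors_comp_arrow _, ?_⟩
  rw [hy, biprod.desc_eq, Preadditive.comp_add]
  simp only [Category.assoc]

variable {X : A}

/-- the projection to a subquotient -/
noncomputable def sqπ (Z B : Subobject X) (h : B ≤ Z) : (Z : A) ⟶ subquot Z B h :=
  cokernel.π (B.ofLE Z h)

instance (Z B : Subobject X) (h : B ≤ Z) : Epi (sqπ Z B h) := by
  unfold sqπ subquot
  infer_instance

lemma ofLE_sqπ (Z B : Subobject X) (h : B ≤ Z) : B.ofLE Z h ≫ sqπ Z B h = 0 :=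
  cokernel.condition _

/-- descent from a subquotient -/
noncomputable def sqDesc (Z B : Subobject X) (h : B ≤ Z) {T : A} (g : (Z : A) ⟶ T)
    (hg : B.ofLE Z h ≫ g = 0) : subquot Z B h ⟶ T :=
  cokernel.desc (B.ofLE Z h) g hg

lemma sqπ_desc (Z B : Subobject X) (h : B ≤ Z) {T : A} (g : (Z : A) ⟶ T)
    (hg : B.ofLE Z h ≫ g = 0) : sqπ Z B h ≫ sqDesc Z B h g hg = g :=
  cokernel.π_desc _ _ _

lemma sqπ_lift_of_zero {W : A} (Z B : Subobject X) (h : B ≤ Z) (z : W ⟶ (Z : A))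
    (hz : z ≫ sqπ Z B h = 0) : ∃ b : W ⟶ (B : A), b ≫ B.ofLE Z h = z :=
  ⟨Abelian.monoLift (B.ofLE Z h) z hz, Abelian.monoLift_comp (B.ofLE Z h) z hz⟩

lemma sqπ_eq_zero_iff {W : A} (Z B : Subobject X) (h : B ≤ Z) (z : W ⟶ (Z : A)) :
    z ≫ sqπ Z B h = 0 ↔ B.Factors (z ≫ Z.arrow) := by
  constructor
  · intro hz
    obtain ⟨b, hb⟩ := sqπ_lift_of_zero Z B h z hz
    refine (Subobject.factors_iff _ _).2 ⟨b, ?_⟩
    rw [← hb, Category.assoc, Subobject.ofLE_arrow]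
    rfl
  · intro hb
    have e : z = B.factorThru _ hb ≫ B.ofLE Z h := by
      rw [← cancel_mono Z.arrow, Category.assoc, Subobject.ofLE_arrow, Subobject.factorThru_arrow]
    rw [e, Category.assoc, ofLE_sqπ, comp_zero]

lemma sq_lift {W : A} (Z B : Subobject X) (h : B ≤ Z) (y : W ⟶ subquot Z B h) :
    ∃ (W' : A) (π : W' ⟶ W) (_ : Epi π) (x : W' ⟶ X) (hx : Z.Factors x),
      π ≫ y = Z.factorThru x hx ≫ sqπ Z B h := by
  obtain ⟨W', π, hπ, z, hz⟩ := surjective_up_to_refinements_of_epi (sqπ Z B h) y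
  refine ⟨W', π, hπ, z ≫ Z.arrow, Subobject.factors_comp_arrow _, ?_⟩
  rw [hz]
  congr 1
  rw [← cancel_mono Z.arrow, Subobject.factorThru_arrow]

variable {Y : A}

/-- induced map on subquotients -/
noncomputable def sqMap (f : X ⟶ Y) (Z B : Subobject X) (h : B ≤ Z) (Z' B' : Subobject Y)
    (h' : B' ≤ Z') (hZ : Z'.Factors (Z.arrow ≫ f)) (hB : B'.Factors (B.arrow ≫ f)) :
    subquot Z B h ⟶ subquot Z' B' h' :=
  sqDesc Z B h (Z'.factorThru _ hZ ≫ sqπ Z' B' h') (by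
    have e : B.ofLE Z h ≫ Z'.factorThru _ hZ = B'.factorThru _ hB ≫ B'.ofLE Z' h' := by
      rw [← cancel_mono Z'.arrow, Category.assoc, Category.assoc, Subobject.factorThru_arrow,
        Subobject.ofLE_arrow, Subobject.factorThru_arrow, ← Category.assoc, Subobject.ofLE_arrow]
    rw [← Category.assoc, e, Category.assoc, ofLE_sqπ, comp_zero])

lemma sqπ_sqMap (f : X ⟶ Y) (Z B : Subobject X) (h : B ≤ Z) (Z' B' : Subobject Y)
    (h' : B' ≤ Z') (hZ : Z'.Factors (Z.arrow ≫ f)) (hB : B'.Factors (B.arrow ≫ f)) :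
    sqπ Z B h ≫ sqMap f Z B h Z' B' h' hZ hB = Z'.factorThru _ hZ ≫ sqπ Z' B' h' := by
  dsimp only [sqMap]
  rw [sqπ_desc]

/-- image of an element -/
lemma sq_elem_map (f : X ⟶ Y) (Z B : Subobject X) (h : B ≤ Z) (Z' B' : Subobject Y)
    (h' : B' ≤ Z') (hZ : Z'.Factors (Z.arrow ≫ f)) (hB : B'.Factors (B.arrow ≫ f))
    {W : A} (x : W ⟶ X) (hx : Z.Factors x) (hx' : Z'.Factors (x ≫ f)) :
    (Z.factorThru x hx ≫ sqπ Z B h) ≫ sqMap f Z B h Z' B' h' hZ hB =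
      Z'.factorThru (x ≫ f) hx' ≫ sqπ Z' B' h' := by
  rw [Category.assoc, sqπ_sqMap, ← Category.assoc]
  congr 1
  rw [← cancel_mono Z'.arrow, Category.assoc, Subobject.factorThru_arrow,
    Subobject.factorThru_arrow, ← Category.assoc, Subobject.factorThru_arrow]

lemma factors_map_of_factors (f : X ⟶ Y) (Z : Subobject X) (Z' : Subobject Y)
    (hZ : Z'.Factors (Z.arrow ≫ f)) {W : A} (x : W ⟶ X) (hx : Z.Factors x) :
    Z'.Factors (x ≫ f) := by
  rw [← Z.factorThru_arrow x hx, Category.assoc]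
  exact Subobject.factors_of_factors_right _ hZ

lemma sq_elem_eq_zero_iff (Z B : Subobject X) (h : B ≤ Z) {W : A} (x : W ⟶ X) (hx : Z.Factors x) :
    Z.factorThru x hx ≫ sqπ Z B h = 0 ↔ B.Factors x := by
  rw [sqπ_eq_zero_iff, Subobject.factorThru_arrow]

lemma sq_elem_eq_iff (Z B : Subobject X) (h : B ≤ Z) {W : A} (x₁ x₂ : W ⟶ X)
    (h₁ : Z.Factors x₁) (h₂ : Z.Factors x₂) :
    Z.factorThru x₁ h₁ ≫ sqπ Z B h = Z.factorThru x₂ h₂ ≫ sqπ Z B h ↔ B.Factors (x₁ - x₂) := by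
  rw [← sub_eq_zero, ← Preadditive.sub_comp, sqπ_eq_zero_iff, Preadditive.sub_comp,
    Subobject.factorThru_arrow, Subobject.factorThru_arrow]

lemma sq_elem_comp (Z B : Subobject X) (h : B ≤ Z) {W W' : A} (π : W' ⟶ W) (x : W ⟶ X)
    (hx : Z.Factors x) :
    π ≫ Z.factorThru x hx ≫ sqπ Z B h =
      Z.factorThru (π ≫ x) (Subobject.factors_of_factors_right _ hx) ≫ sqπ Z B h := by
  rw [← Category.assoc]
  congr 1
  rw [← cancel_mono Z.arrow, Category.assoc, Subobject.factorThru_arrow,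
    Subobject.factorThru_arrow]

lemma sqMap_mono (f : X ⟶ Y) (Z B : Subobject X) (h : B ≤ Z) (Z' B' : Subobject Y)
    (h' : B' ≤ Z') (hZ : Z'.Factors (Z.arrow ≫ f)) (hB : B'.Factors (B.arrow ≫ f))
    (hk : ∀ ⦃W : A⦄ (x : W ⟶ X), Z.Factors x → B'.Factors (x ≫ f) → B.Factors x) :
    Mono (sqMap f Z B h Z' B' h' hZ hB) := by
  apply Preadditive.mono_of_cancel_zero
  intro W g hg
  obtain ⟨W', π, hπ, x, hx, hxg⟩ := sq_lift Z B h g
  have hx' := factors_map_of_factors f Z Z' hZ x hx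
  have h1 : Z'.factorThru (x ≫ f) hx' ≫ sqπ Z' B' h' = 0 := by
    rw [← sq_elem_map f Z B h Z' B' h' hZ hB x hx hx', ← hxg, Category.assoc, hg, comp_zero]
  rw [sq_elem_eq_zero_iff] at h1
  have h2 := hk x hx h1
  rw [← sq_elem_eq_zero_iff Z B h x hx] at h2
  rw [h2] at hxg
  exact (cancel_epi π).1 (by rw [hxg, comp_zero])

lemma sqMap_epi (f : X ⟶ Y) (Z B : Subobject X) (h : B ≤ Z) (Z' B' : Subobject Y)
    (h' : B' ≤ Z') (hZ : Z'.Factors (Z.arrow ≫ f)) (hB : B'.Factors (B.arrow ≫ f))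
    (he : ∀ ⦃W : A⦄ (y : W ⟶ Y), Z'.Factors y → ∃ (W' : A) (π : W' ⟶ W) (_ : Epi π)
      (x : W' ⟶ X), Z.Factors x ∧ B'.Factors (π ≫ y - x ≫ f)) :
    Epi (sqMap f Z B h Z' B' h' hZ hB) := by
  rw [epi_iff_surjective_up_to_refinements]
  intro W g
  obtain ⟨W', π, hπ, y, hy, hyg⟩ := sq_lift Z' B' h' g
  obtain ⟨W'', π', hπ', x, hx, hxy⟩ := he y hy
  have : Epi (π' ≫ π) := epi_comp _ _
  refine ⟨W'', π' ≫ π, inferInstance, Z.factorThru x hx ≫ sqπ Z B h, ?_⟩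
  have hx' := factors_map_of_factors f Z Z' hZ x hx
  rw [sq_elem_map f Z B h Z' B' h' hZ hB x hx hx', Category.assoc, hyg, sq_elem_comp,
    sq_elem_eq_iff]
  exact hxy

lemma sqMap_comp_eq_zero {Y' : A} (f : X ⟶ Y) (g : Y ⟶ Y') (Z₁ B₁ : Subobject X) (h₁ : B₁ ≤ Z₁)
    (Z₂ B₂ : Subobject Y) (h₂ : B₂ ≤ Z₂) (Z₃ B₃ : Subobject Y') (h₃ : B₃ ≤ Z₃)
    (hZf : Z₂.Factors (Z₁.arrow ≫ f)) (hBf : B₂.Factors (B₁.arrow ≫ f))
    (hZg : Z₃.Factors (Z₂.arrow ≫ g)) (hBg : B₃.Factors (B₂.arrow ≫ g))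
    (hz : B₃.Factors (Z₁.arrow ≫ f ≫ g)) :
    sqMap f Z₁ B₁ h₁ Z₂ B₂ h₂ hZf hBf ≫ sqMap g Z₂ B₂ h₂ Z₃ B₃ h₃ hZg hBg = 0 := by
  rw [← cancel_epi (sqπ Z₁ B₁ h₁), comp_zero, ← Category.assoc, sqπ_sqMap, Category.assoc,
    sqπ_sqMap, ← Category.assoc, sqπ_eq_zero_iff]
  simp only [Category.assoc, Subobject.factorThru_arrow]
  rw [← Category.assoc, Subobject.factorThru_arrow, Category.assoc]
  exact hz

lemma sq_exact {Y' : A} (f : X ⟶ Y) (g : Y ⟶ Y') (Z₁ B₁ : Subobject X) (h₁ : B₁ ≤ Z₁)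
    (Z₂ B₂ : Subobject Y) (h₂ : B₂ ≤ Z₂) (Z₃ B₃ : Subobject Y') (h₃ : B₃ ≤ Z₃)
    (hZf : Z₂.Factors (Z₁.arrow ≫ f)) (hBf : B₂.Factors (B₁.arrow ≫ f))
    (hZg : Z₃.Factors (Z₂.arrow ≫ g)) (hBg : B₃.Factors (B₂.arrow ≫ g))
    (w : sqMap f Z₁ B₁ h₁ Z₂ B₂ h₂ hZf hBf ≫ sqMap g Z₂ B₂ h₂ Z₃ B₃ h₃ hZg hBg = 0)
    (hex : ∀ ⦃W : A⦄ (y : W ⟶ Y), Z₂.Factors y → B₃.Factors (y ≫ g) →
      ∃ (W' : A) (π : W' ⟶ W) (_ : Epi π) (x : W' ⟶ X), Z₁.Factors x ∧
        B₂.Factors (π ≫ y - x ≫ f)) :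
    (ShortComplex.mk _ _ w).Exact := by
  rw [ShortComplex.exact_iff_exact_up_to_refinements]
  intro W y₂ hy₂
  dsimp only at y₂ hy₂
  obtain ⟨W', π, hπ, y, hy, hyg⟩ := sq_lift Z₂ B₂ h₂ y₂
  have hy' := factors_map_of_factors g Z₂ Z₃ hZg y hy
  have h1 : B₃.Factors (y ≫ g) := by
    rw [← sq_elem_eq_zero_iff Z₃ B₃ h₃ _ hy', ← sq_elem_map g Z₂ B₂ h₂ Z₃ B₃ h₃ hZg hBg y hy hy',
      ← hyg, Category.assoc, hy₂, comp_zero]
  obtain ⟨W'', π', hπ', x, hx, hxy⟩ := hex y hy h1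
  have : Epi (π' ≫ π) := epi_comp _ _
  refine ⟨W'', π' ≫ π, inferInstance, Z₁.factorThru x hx ≫ sqπ Z₁ B₁ h₁, ?_⟩
  have hx' := factors_map_of_factors f Z₁ Z₂ hZf x hx
  dsimp only
  rw [sq_elem_map f Z₁ B₁ h₁ Z₂ B₂ h₂ hZf hBf x hx hx', Category.assoc, hyg, sq_elem_comp,
    sq_elem_eq_iff]
  exact hxy

/-- map of subquotients induced by the identity -/
noncomputable def sqIncl (Z B Z' B' : Subobject X) (h : B ≤ Z) (h' : B' ≤ Z') (hZ : Z ≤ Z')
    (hB : B ≤ B') : subquot Z B h ⟶ subquot Z' B' h' :=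
  sqMap (𝟙 X) Z B h Z' B' h'
    (by rw [Category.comp_id]; exact Subobject.factors_of_le _ hZ (Subobject.factors_self _))
    (by rw [Category.comp_id]; exact Subobject.factors_of_le _ hB (Subobject.factors_self _))

lemma sqIncl_mono (Z B Z' B' : Subobject X) (h : B ≤ Z) (h' : B' ≤ Z') (hZ : Z ≤ Z')
    (hB : B ≤ B')
    (hk : ∀ ⦃W : A⦄ (x : W ⟶ X), Z.Factors x → B'.Factors x → B.Factors x) :
    Mono (sqIncl Z B Z' B' h h' hZ hB) := by
  apply sqMap_mono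
  intro W x hx hb
  rw [Category.comp_id] at hb
  exact hk x hx hb

lemma sqIncl_epi (Z B Z' B' : Subobject X) (h : B ≤ Z) (h' : B' ≤ Z') (hZ : Z ≤ Z')
    (hB : B ≤ B')
    (he : ∀ ⦃W : A⦄ (y : W ⟶ X), Z'.Factors y → ∃ (W' : A) (π : W' ⟶ W) (_ : Epi π)
      (x : W' ⟶ X), Z.Factors x ∧ B'.Factors (π ≫ y - x)) :
    Epi (sqIncl Z B Z' B' h h' hZ hB) := by
  apply sqMap_epi
  intro W y hy
  obtain ⟨W', π, hπ, x, hx, hxy⟩ := he y hy
  exact ⟨W', π, hπ, x, hx, by rw [Category.comp_id]; exact hxy⟩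

lemma sq_exact_incl_map (g : X ⟶ Y) (Z₁ B₁ Z₂ B₂ : Subobject X) (Z₃ B₃ : Subobject Y)
    (h₁ : B₁ ≤ Z₁) (h₂ : B₂ ≤ Z₂) (h₃ : B₃ ≤ Z₃) (hZ : Z₁ ≤ Z₂) (hB : B₁ ≤ B₂)
    (hZg : Z₃.Factors (Z₂.arrow ≫ g)) (hBg : B₃.Factors (B₂.arrow ≫ g))
    (hzero : B₃.Factors (Z₁.arrow ≫ g))
    (hex : ∀ ⦃W : A⦄ (y : W ⟶ X), Z₂.Factors y → B₃.Factors (y ≫ g) →
      ∃ (W' : A) (π : W' ⟶ W) (_ : Epi π) (x : W' ⟶ X), Z₁.Factors x ∧
        B₂.Factors (π ≫ y - x)) :
    ∃ w, (ShortComplex.mk (sqIncl Z₁ B₁ Z₂ B₂ h₁ h₂ hZ hB) (sqMap g Z₂ B₂ h₂ Z₃ B₃ h₃ hZg hBg)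
      w).Exact := by
  have w : sqIncl Z₁ B₁ Z₂ B₂ h₁ h₂ hZ hB ≫ sqMap g Z₂ B₂ h₂ Z₃ B₃ h₃ hZg hBg = 0 := by
    apply sqMap_comp_eq_zero
    rw [Category.id_comp]
    exact hzero
  refine ⟨w, ?_⟩
  apply sq_exact
  intro W y hy hyg
  obtain ⟨W', π, hπ, x, hx, hxy⟩ := hex y hy hyg
  exact ⟨W', π, hπ, x, hx, by rw [Category.comp_id]; exact hxy⟩

lemma sq_exact_incl_incl (Z₁ B₁ Z₂ B₂ Z₃ B₃ : Subobject X)
    (h₁ : B₁ ≤ Z₁) (h₂ : B₂ ≤ Z₂) (h₃ : B₃ ≤ Z₃) (hZ : Z₁ ≤ Z₂) (hB : B₁ ≤ B₂)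
    (hZ' : Z₂ ≤ Z₃) (hB' : B₂ ≤ B₃)
    (hzero : Z₁ ≤ B₃)
    (hex : ∀ ⦃W : A⦄ (y : W ⟶ X), Z₂.Factors y → B₃.Factors y →
      ∃ (W' : A) (π : W' ⟶ W) (_ : Epi π) (x : W' ⟶ X), Z₁.Factors x ∧
        B₂.Factors (π ≫ y - x)) :
    ∃ w, (ShortComplex.mk (sqIncl Z₁ B₁ Z₂ B₂ h₁ h₂ hZ hB) (sqIncl Z₂ B₂ Z₃ B₃ h₂ h₃ hZ' hB')
      w).Exact := by
  apply sq_exact_incl_map
  · rw [Category.comp_id]
    exact Subobject.factors_of_le _ hzero (Subobject.factors_self _)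
  · intro W y hy hyg
    rw [Category.comp_id] at hyg
    exact hex y hy hyg

end subquot

section ss
open Groth.Agent.S6794
variable (K : SpSeq.FilCx A)

/-- classical `Z_r` -/
noncomputable abbrev Zc (r : ℕ) (p n : ℤ) : Subobject (K.obj.X n) :=
  K.filX p n ⊓ (Subobject.pullback (K.obj.d n (n + 1))).obj (K.filX (p + r) (n + 1))

/-- classical `B_r` -/
noncomputable abbrev Bc (r : ℕ) (p n : ℤ) : Subobject (K.obj.X n) :=
  K.filX p n ⊓ imageSubobject ((K.filX (p - r + 1) (n - 1)).arrow ≫ K.obj.d (n - 1) n)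

lemma ZSub_eq (r : ℕ) (p n : ℤ) : K.ZSub r p n = Zc K r p n ⊔ K.filX (p + 1) n := rfl
lemma BSub_eq (r : ℕ) (p n : ℤ) : K.BSub r p n = Bc K r p n ⊔ K.filX (p + 1) n := rfl

lemma Zc_factors_iff {W : A} (r : ℕ) (p n : ℤ) (x : W ⟶ K.obj.X n) :
    (Zc K r p n).Factors x ↔ (K.filX p n).Factors x ∧
      (K.filX (p + r) (n + 1)).Factors (x ≫ K.obj.d n (n + 1)) := by
  rw [Subobject.inf_factors, pullback_factors_iff]

lemma filX_d {W : A} (p n m : ℤ) (x : W ⟶ K.obj.X n) (hx : (K.filX p n).Factors x) :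
    (K.filX p m).Factors (x ≫ K.obj.d n m) := by
  obtain ⟨y, rfl⟩ := (filX_factors_iff K p n x).1 hx
  rw [Category.assoc, (ιq K p).comm n m, ← Category.assoc]
  exact filX_factors_comp K _ _ _

lemma filX_mono {W : A} {p q : ℤ} (h : p ≤ q) (n : ℤ) {x : W ⟶ K.obj.X n}
    (hx : (K.filX q n).Factors x) : (K.filX p n).Factors x :=
  filX_factors_of_le K h n hx

lemma image_fil_intro {W : A} (q m n : ℤ) (u : W ⟶ K.obj.X m) (hu : (K.filX q m).Factors u) :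
    (imageSubobject ((K.filX q m).arrow ≫ K.obj.d m n)).Factors (u ≫ K.obj.d m n) := by
  rw [← (K.filX q m).factorThru_arrow u hu, Category.assoc]
  exact imageSubobject_factors_comp_self _ _

lemma image_fil_refine {W : A} (q m n : ℤ) (s : W ⟶ K.obj.X n)
    (hs : (imageSubobject ((K.filX q m).arrow ≫ K.obj.d m n)).Factors s) :
    ∃ (W' : A) (π : W' ⟶ W) (_ : Epi π) (u : W' ⟶ K.obj.X m), (K.filX q m).Factors u ∧
      π ≫ s = u ≫ K.obj.d m n := by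
  obtain ⟨W', π, hπ, y, hy⟩ := image_refinement _ s hs
  exact ⟨W', π, hπ, y ≫ (K.filX q m).arrow, Subobject.factors_comp_arrow _, by
    rw [hy, Category.assoc]⟩

lemma ZSub_intro {W : A} (r : ℕ) (p n : ℤ) (z f : W ⟶ K.obj.X n) (hz : (Zc K r p n).Factors z)
    (hf : (K.filX (p + 1) n).Factors f) : (K.ZSub r p n).Factors (z + f) := by
  rw [ZSub_eq]
  exact Subobject.factors_add _ _ (Subobject.sup_factors_of_factors_left hz)
    (Subobject.sup_factors_of_factors_right hf)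

lemma ZSub_refine {W : A} (r : ℕ) (p n : ℤ) (x : W ⟶ K.obj.X n) (hx : (K.ZSub r p n).Factors x) :
    ∃ (W' : A) (π : W' ⟶ W) (_ : Epi π) (z f : W' ⟶ K.obj.X n), (Zc K r p n).Factors z ∧
      (K.filX (p + 1) n).Factors f ∧ π ≫ x = z + f := by
  rw [ZSub_eq] at hx
  exact sup_refinement _ _ x hx

lemma BSub_intro {W : A} (r : ℕ) (p n q m : ℤ) (hq : q = p - r + 1) (hm : m = n - 1)
    (u : W ⟶ K.obj.X m)
    (f : W ⟶ K.obj.X n) (hu : (K.filX q m).Factors u)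
    (hud : (K.filX p n).Factors (u ≫ K.obj.d m n))
    (hf : (K.filX (p + 1) n).Factors f) : (K.BSub r p n).Factors (u ≫ K.obj.d m n + f) := by
  subst hq hm
  rw [BSub_eq]
  refine Subobject.factors_add _ _ (Subobject.sup_factors_of_factors_left ?_)
    (Subobject.sup_factors_of_factors_right hf)
  rw [Subobject.inf_factors]
  exact ⟨hud, image_fil_intro K _ _ _ u hu⟩

lemma BSub_refine {W : A} (r : ℕ) (p n m : ℤ) (hm : m = n - 1) (x : W ⟶ K.obj.X n)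
    (hx : (K.BSub r p n).Factors x) :
    ∃ (W' : A) (π : W' ⟶ W) (_ : Epi π) (u : W' ⟶ K.obj.X m) (f : W' ⟶ K.obj.X n),
      (K.filX (p - r + 1) m).Factors u ∧ (K.filX p n).Factors (u ≫ K.obj.d m n) ∧
      (K.filX (p + 1) n).Factors f ∧ π ≫ x = u ≫ K.obj.d m n + f := by
  subst hm
  rw [BSub_eq] at hx
  obtain ⟨W', π, hπ, s, f, hs, hf, hsf⟩ := sup_refinement _ _ x hx
  rw [Subobject.inf_factors] at hs
  obtain ⟨hs1, hs2⟩ := hs
  obtain ⟨W'', π', hπ', u, hu, hus⟩ := image_fil_refine K _ _ _ s hs2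
  have : Epi (π' ≫ π) := epi_comp _ _
  refine ⟨W'', π' ≫ π, inferInstance, u, π' ≫ f, hu, ?_, Subobject.factors_of_factors_right _ hf, ?_⟩
  · rw [← hus]
    exact Subobject.factors_of_factors_right _ hs1
  · rw [Category.assoc, hsf, Preadditive.comp_add, hus]

lemma filX_le_BSub {W : A} (r : ℕ) (p n : ℤ) (f : W ⟶ K.obj.X n)
    (hf : (K.filX (p + 1) n).Factors f) : (K.BSub r p n).Factors f := by
  rw [BSub_eq]
  exact Subobject.sup_factors_of_factors_right hf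

lemma Zc_le_ZSub {W : A} (r : ℕ) (p n : ℤ) (z : W ⟶ K.obj.X n)
    (hz : (Zc K r p n).Factors z) : (K.ZSub r p n).Factors z := by
  rw [ZSub_eq]
  exact Subobject.sup_factors_of_factors_left hz

/-- (c1) -/
lemma c1 {W : A} (r : ℕ) (p n : ℤ) (x : W ⟶ K.obj.X n) (hx : (Zc K r p n).Factors x) :
    (K.ZSub r (p + r) (n + 1)).Factors (x ≫ K.obj.d n (n + 1)) := by
  apply Zc_le_ZSub
  rw [Zc_factors_iff] at hx ⊢
  refine ⟨hx.2, ?_⟩
  rw [Category.assoc, HomologicalComplex.d_comp_d, comp_zero]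
  exact Subobject.factors_zero

/-- (c2) -/
lemma c2 {W : A} (r : ℕ) (p n : ℤ) (x : W ⟶ K.obj.X n) (hx : (Zc K r p n).Factors x)
    (hb : (K.BSub r p n).Factors x) :
    (K.BSub r (p + r) (n + 1)).Factors (x ≫ K.obj.d n (n + 1)) := by
  obtain ⟨W', π, hπ, u, f, hu, hud, hf, hx'⟩ := BSub_refine K r p n (n - 1) rfl x hb
  apply factors_of_epi_comp _ π
  have e : π ≫ x ≫ K.obj.d n (n + 1) = f ≫ K.obj.d n (n + 1) + 0 := by
    rw [← Category.assoc, hx', Preadditive.add_comp, Category.assoc, HomologicalComplex.d_comp_d,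
      comp_zero, zero_add, add_zero]
  rw [e]
  refine BSub_intro K r (p + r) (n + 1) (p + 1) n (by ring) (by ring) f 0 hf ?_
    Subobject.factors_zero
  rw [Zc_factors_iff] at hx
  have h2 := Subobject.factors_of_factors_right π hx.2
  rw [← Category.assoc, hx', Preadditive.add_comp, Category.assoc, HomologicalComplex.d_comp_d,
    comp_zero, zero_add] at h2
  exact h2

/-- (c3) -/
lemma c3 {W : A} (r : ℕ) (p n : ℤ) (x : W ⟶ K.obj.X n) (hx : (Zc K r p n).Factors x) :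
    (K.BSub (r + 1) (p + r) (n + 1)).Factors (x ≫ K.obj.d n (n + 1)) := by
  rw [Zc_factors_iff] at hx
  have := BSub_intro K (r + 1) (p + r) (n + 1) p n (by push_cast; ring) (by ring) x 0 hx.1 hx.2
    Subobject.factors_zero
  rwa [add_zero] at this

/-- (c4) -/
lemma c4 {W : A} (r : ℕ) (p n : ℤ) (y : W ⟶ K.obj.X (n + 1))
    (hy : (K.BSub (r + 1) (p + r) (n + 1)).Factors y) :
    ∃ (W' : A) (π : W' ⟶ W) (_ : Epi π) (x : W' ⟶ K.obj.X n), (Zc K r p n).Factors x ∧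
      (K.BSub r (p + r) (n + 1)).Factors (π ≫ y - x ≫ K.obj.d n (n + 1)) := by
  obtain ⟨W', π, hπ, u, f, hu, hud, hf, hy'⟩ := BSub_refine K (r + 1) (p + r) (n + 1) n (by ring) y hy
  have e : p + (r : ℤ) - ((r + 1 : ℕ) : ℤ) + 1 = p := by push_cast; ring
  rw [e] at hu
  refine ⟨W', π, hπ, u, (Zc_factors_iff K r p n u).2 ⟨hu, hud⟩, ?_⟩
  rw [hy', add_sub_cancel_left]
  exact filX_le_BSub K r (p + r) (n + 1) f hf

/-- (c5) -/
lemma c5 {W : A} (r : ℕ) (p n : ℤ) (x : W ⟶ K.obj.X n) (hx : (Zc K r p n).Factors x)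
    (hb : (K.BSub r (p + r) (n + 1)).Factors (x ≫ K.obj.d n (n + 1))) :
    (K.ZSub (r + 1) p n).Factors x := by
  obtain ⟨W', π, hπ, u, f, hu, hud, hf, hx'⟩ :=
    BSub_refine K r (p + r) (n + 1) n (by ring) _ hb
  have e : p + (r : ℤ) - (r : ℤ) + 1 = p + 1 := by ring
  rw [e] at hu
  apply factors_of_epi_comp _ π
  have e2 : π ≫ x = (π ≫ x - u) + u := by abel
  rw [e2]
  apply ZSub_intro K (r + 1) p n _ _ _ hu
  rw [Zc_factors_iff] at hx ⊢
  constructor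
  · exact factors_sub' _ _ (Subobject.factors_of_factors_right π hx.1)
      (filX_mono K (by omega) n hu)
  · rw [Preadditive.sub_comp, Category.assoc, hx', add_sub_cancel_left]
    have e3 : p + ((r + 1 : ℕ) : ℤ) = p + r + 1 := by push_cast; ring
    rw [e3]
    exact hf

/-- (c6) -/
lemma c6 {W : A} (r : ℕ) (p n : ℤ) (z : W ⟶ K.obj.X n) (hz : (Zc K (r + 1) p n).Factors z) :
    (Zc K r p n).Factors z ∧ (K.BSub r (p + r) (n + 1)).Factors (z ≫ K.obj.d n (n + 1)) := by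
  rw [Zc_factors_iff] at hz
  have e3 : p + ((r + 1 : ℕ) : ℤ) = p + r + 1 := by push_cast; ring
  rw [e3] at hz
  refine ⟨(Zc_factors_iff K r p n z).2 ⟨hz.1, filX_mono K (by omega) (n + 1) hz.2⟩, ?_⟩
  exact filX_le_BSub K r (p + r) (n + 1) _ hz.2

end ss

section step
open Groth.Agent.S6794
variable (K : SpSeq.FilCx A)

lemma BBot_le_ZTop (p n : ℤ) : K.BBot p n ≤ K.ZTop p n :=
  sup_le_sup_right (inf_le_inf_left _
    (le_kernelSubobject _ _ (imageSubobject_arrow_comp_eq_zero (by simp)))) _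

lemma F1 (r : ℕ) (p n : ℤ) : K.BSub r p n ≤ K.ZSub (r + 1) p n :=
  (Groth.Agent.S6792.BSub_le_BBot K r p n).trans
    ((BBot_le_ZTop K p n).trans (Groth.Agent.S6792.ZTop_le_ZSub K (r + 1) p n))

lemma F2 (r : ℕ) (p n : ℤ) : K.BSub r p n ≤ K.BSub (r + 1) p n := by
  apply le_of_factors_refinement
  obtain ⟨W', π, hπ, u, f, hu, hud, hf, hx'⟩ :=
    BSub_refine K r p n (n - 1) rfl _ (Subobject.factors_self (K.BSub r p n))
  refine ⟨W', π, hπ, ?_⟩
  rw [hx']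
  exact BSub_intro K (r + 1) p n (p - ((r + 1 : ℕ) : ℤ) + 1) (n - 1) rfl rfl u f
    (filX_mono K (by push_cast; omega) (n - 1) hu) hud hf

variable (P : ObjectProperty A) [P.IsClosedUnderIsomorphisms] (h0 : ∃ Z : A, IsZero Z ∧ P Z)
  (hP : ∀ S : ComposableArrows A 4, S.Exact → P (S.obj 0) → P (S.obj 1) → P (S.obj 3) →
    P (S.obj 4) → P (S.obj 2))

/-- the kernel numerator -/
noncomputable abbrev Z0 (r : ℕ) (p n : ℤ) : Subobject (K.obj.X n) :=
  Zc K r p n ⊓ (Subobject.pullback (K.obj.d n (n + 1))).obj (K.BSub r (p + r) (n + 1))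

/-- the common denominator -/
noncomputable abbrev B0 (r : ℕ) (p n : ℤ) : Subobject (K.obj.X n) :=
  Zc K r p n ⊓ K.BSub r p n

lemma B0_le_Z0 (r : ℕ) (p n : ℤ) : B0 K r p n ≤ Z0 K r p n := by
  refine le_inf inf_le_left ?_
  have hS := Subobject.factors_self (B0 K r p n)
  rw [Subobject.inf_factors] at hS
  have := c2 K r p n _ hS.1 hS.2
  rw [← pullback_factors_iff] at this
  exact Subobject.le_of_comm (Subobject.factorThru _ _ this) (Subobject.factorThru_arrow _ _ _)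

lemma Z0_factors_iff {W : A} (r : ℕ) (p n : ℤ) (x : W ⟶ K.obj.X n) :
    (Z0 K r p n).Factors x ↔ (Zc K r p n).Factors x ∧
      (K.BSub r (p + r) (n + 1)).Factors (x ≫ K.obj.d n (n + 1)) := by
  rw [Subobject.inf_factors, pullback_factors_iff]

include h0 hP in
lemma step1 (r : ℕ) (p n : ℤ) (hE : P (K.E r p n)) :
    P (subquot (Zc K r p n) (B0 K r p n) inf_le_left) := by
  have hZ : Zc K r p n ≤ K.ZSub r p n := by rw [ZSub_eq]; exact le_sup_left
  have hm : Mono (sqIncl (Zc K r p n) (B0 K r p n) (K.ZSub r p n) (K.BSub r p n) inf_le_left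
      (K.BSub_le_ZSub r p n) hZ inf_le_right) :=
    sqIncl_mono _ _ _ _ _ _ _ _ (fun W x hx hb => (Subobject.inf_factors x).2 ⟨hx, hb⟩)
  have he : Epi (sqIncl (Zc K r p n) (B0 K r p n) (K.ZSub r p n) (K.BSub r p n) inf_le_left
      (K.BSub_le_ZSub r p n) hZ inf_le_right) := by
    apply sqIncl_epi
    intro W y hy
    obtain ⟨W', π, hπ, z, f, hz, hf, hzf⟩ := ZSub_refine K r p n y hy
    exact ⟨W', π, hπ, z, hz, by rw [hzf, add_sub_cancel_left]; exact filX_le_BSub K r p n f hf⟩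
  have := isIso_of_mono_of_epi (sqIncl (Zc K r p n) (B0 K r p n) (K.ZSub r p n) (K.BSub r p n)
    inf_le_left (K.BSub_le_ZSub r p n) hZ inf_le_right)
  exact P.prop_of_iso (asIso (sqIncl (Zc K r p n) (B0 K r p n) (K.ZSub r p n) (K.BSub r p n)
    inf_le_left (K.BSub_le_ZSub r p n) hZ inf_le_right)).symm hE

lemma hZd (r : ℕ) (p n : ℤ) :
    (K.ZSub r (p + r) (n + 1)).Factors ((Zc K r p n).arrow ≫ K.obj.d n (n + 1)) :=
  c1 K r p n _ (Subobject.factors_self _)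

lemma hBd (r : ℕ) (p n : ℤ) :
    (K.BSub r (p + r) (n + 1)).Factors ((B0 K r p n).arrow ≫ K.obj.d n (n + 1)) := by
  have hS := Subobject.factors_self (B0 K r p n)
  rw [Subobject.inf_factors] at hS
  exact c2 K r p n _ hS.1 hS.2

lemma hZd' (r : ℕ) (p n : ℤ) :
    (K.BSub (r + 1) (p + r) (n + 1)).Factors ((Zc K r p n).arrow ≫ K.obj.d n (n + 1)) :=
  c3 K r p n _ (Subobject.factors_self _)

lemma hzero (r : ℕ) (p n : ℤ) :
    (K.BSub r (p + r) (n + 1)).Factors ((Z0 K r p n).arrow ≫ K.obj.d n (n + 1)) :=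
  ((Z0_factors_iff K r p n _).1 (Subobject.factors_self _)).2

lemma hex (r : ℕ) (p n : ℤ) ⦃W : A⦄ (y : W ⟶ K.obj.X n) (hy : (Zc K r p n).Factors y)
    (hyd : (K.BSub r (p + r) (n + 1)).Factors (y ≫ K.obj.d n (n + 1))) :
    ∃ (W' : A) (π : W' ⟶ W) (_ : Epi π) (x : W' ⟶ K.obj.X n), (Z0 K r p n).Factors x ∧
      (B0 K r p n).Factors (π ≫ y - x) :=
  ⟨W, 𝟙 W, inferInstance, y, (Z0_factors_iff K r p n y).2 ⟨hy, hyd⟩, by
    rw [Category.id_comp, sub_self]; exact Subobject.factors_zero⟩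

lemma incl_mono (r : ℕ) (p n : ℤ) :
    Mono (sqIncl (Z0 K r p n) (B0 K r p n) (Zc K r p n) (B0 K r p n) (B0_le_Z0 K r p n)
      inf_le_left inf_le_left le_rfl) :=
  sqIncl_mono _ _ _ _ _ _ _ _ (fun _ _ _ hb => hb)

include h0 hP in
lemma step2 (r : ℕ) (hE : ∀ p n, P (K.E r p n)) (p n : ℤ) :
    P (subquot (Z0 K r p n) (B0 K r p n) (B0_le_Z0 K r p n)) := by
  obtain ⟨w, hw⟩ := sq_exact_incl_map (K.obj.d n (n + 1)) (Z0 K r p n) (B0 K r p n) (Zc K r p n)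
    (B0 K r p n) (K.ZSub r (p + r) (n + 1)) (K.BSub r (p + r) (n + 1)) (B0_le_Z0 K r p n)
    inf_le_left (K.BSub_le_ZSub r (p + r) (n + 1)) inf_le_left le_rfl (hZd K r p n) (hBd K r p n)
    (hzero K r p n) (hex K r p n)
  exact P_ker P h0 hP _ hw (incl_mono K r p n) (step1 K P h0 hP r p n (hE p n)) (hE (p + r) (n + 1))

include h0 hP in
lemma step3 (r : ℕ) (hE : ∀ p n, P (K.E r p n)) (p n : ℤ) :
    P (subquot (K.BSub (r + 1) (p + r) (n + 1)) (K.BSub r (p + r) (n + 1))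
      (F2 K r (p + r) (n + 1))) := by
  obtain ⟨w, hw⟩ := sq_exact_incl_map (K.obj.d n (n + 1)) (Z0 K r p n) (B0 K r p n) (Zc K r p n)
    (B0 K r p n) (K.BSub (r + 1) (p + r) (n + 1)) (K.BSub r (p + r) (n + 1)) (B0_le_Z0 K r p n)
    inf_le_left (F2 K r (p + r) (n + 1)) inf_le_left le_rfl (hZd' K r p n) (hBd K r p n)
    (hzero K r p n) (hex K r p n)
  have hepi : Epi (sqMap (K.obj.d n (n + 1)) (Zc K r p n) (B0 K r p n) inf_le_left
      (K.BSub (r + 1) (p + r) (n + 1)) (K.BSub r (p + r) (n + 1)) (F2 K r (p + r) (n + 1))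
      (hZd' K r p n) (hBd K r p n)) := by
    apply sqMap_epi
    intro W y hy
    exact c4 K r p n y hy
  exact P_coker P h0 hP _ hw hepi (step2 K P h0 hP r hE p n) (step1 K P h0 hP r p n (hE p n))

lemma V_congr (r : ℕ) (p p' n n' : ℤ) (hp : p' = p) (hn : n' = n)
    (h : P (subquot (K.BSub (r + 1) p' n') (K.BSub r p' n') (F2 K r p' n'))) :
    P (subquot (K.BSub (r + 1) p n) (K.BSub r p n) (F2 K r p n)) := by
  subst hp hn
  exact h

include h0 hP in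
lemma step3' (r : ℕ) (hE : ∀ p n, P (K.E r p n)) (p n : ℤ) :
    P (subquot (K.BSub (r + 1) p n) (K.BSub r p n) (F2 K r p n)) :=
  V_congr K P r p (p - r + r) n (n - 1 + 1) (by ring) (by ring)
    (step3 K P h0 hP r hE (p - r) (n - 1))

include h0 hP in
lemma step4 (r : ℕ) (hE : ∀ p n, P (K.E r p n)) (p n : ℤ) :
    P (subquot (K.ZSub (r + 1) p n) (K.BSub r p n) (F1 K r p n)) := by
  have hZ : Z0 K r p n ≤ K.ZSub (r + 1) p n := by
    have hS := (Z0_factors_iff K r p n _).1 (Subobject.factors_self (Z0 K r p n))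
    have := c5 K r p n _ hS.1 hS.2
    exact Subobject.le_of_comm (Subobject.factorThru _ _ this) (Subobject.factorThru_arrow _ _ _)
  have hm : Mono (sqIncl (Z0 K r p n) (B0 K r p n) (K.ZSub (r + 1) p n) (K.BSub r p n)
      (B0_le_Z0 K r p n) (F1 K r p n) hZ inf_le_right) := by
    apply sqIncl_mono
    intro W x hx hb
    exact (Subobject.inf_factors x).2 ⟨((Z0_factors_iff K r p n x).1 hx).1, hb⟩
  have he : Epi (sqIncl (Z0 K r p n) (B0 K r p n) (K.ZSub (r + 1) p n) (K.BSub r p n)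
      (B0_le_Z0 K r p n) (F1 K r p n) hZ inf_le_right) := by
    apply sqIncl_epi
    intro W y hy
    obtain ⟨W', π, hπ, z, f, hz, hf, hzf⟩ := ZSub_refine K (r + 1) p n y hy
    exact ⟨W', π, hπ, z, (Z0_factors_iff K r p n z).2 (c6 K r p n z hz), by
      rw [hzf, add_sub_cancel_left]; exact filX_le_BSub K r p n f hf⟩
  have := isIso_of_mono_of_epi (sqIncl (Z0 K r p n) (B0 K r p n) (K.ZSub (r + 1) p n)
    (K.BSub r p n) (B0_le_Z0 K r p n) (F1 K r p n) hZ inf_le_right)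
  exact P.prop_of_iso (asIso (sqIncl (Z0 K r p n) (B0 K r p n) (K.ZSub (r + 1) p n)
    (K.BSub r p n) (B0_le_Z0 K r p n) (F1 K r p n) hZ inf_le_right)) (step2 K P h0 hP r hE p n)

include h0 hP in
theorem page_step (r : ℕ) (hE : ∀ p n, P (K.E r p n)) (p n : ℤ) : P (K.E (r + 1) p n) := by
  obtain ⟨w, hw⟩ := sq_exact_incl_incl (K.BSub (r + 1) p n) (K.BSub r p n) (K.ZSub (r + 1) p n)
    (K.BSub r p n) (K.ZSub (r + 1) p n) (K.BSub (r + 1) p n) (F2 K r p n) (F1 K r p n)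
    (K.BSub_le_ZSub (r + 1) p n) (K.BSub_le_ZSub (r + 1) p n) le_rfl le_rfl (F2 K r p n) le_rfl
    (fun W y hy hb => ⟨W, 𝟙 W, inferInstance, y, hb, by
      rw [Category.id_comp, sub_self]; exact Subobject.factors_zero⟩)
  have hepi : Epi (sqIncl (K.ZSub (r + 1) p n) (K.BSub r p n) (K.ZSub (r + 1) p n)
      (K.BSub (r + 1) p n) (F1 K r p n) (K.BSub_le_ZSub (r + 1) p n) le_rfl (F2 K r p n)) := by
    apply sqIncl_epi
    intro W y hy
    exact ⟨W, 𝟙 W, inferInstance, y, hy, by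
      rw [Category.id_comp, sub_self]; exact Subobject.factors_zero⟩
  exact P_coker P h0 hP _ hw hepi (step3' K P h0 hP r hE p n) (step4 K P h0 hP r hE p n)

end step

section final
open Groth.Agent.S6794
variable (K : SpSeq.FilCx A)
variable (P : ObjectProperty A) [P.IsClosedUnderIsomorphisms] (h0 : ∃ Z : A, IsZero Z ∧ P Z)
  (hP : ∀ S : ComposableArrows A 4, S.Exact → P (S.obj 0) → P (S.obj 1) → P (S.obj 3) →
    P (S.obj 4) → P (S.obj 2))

lemma subquot_congr {X : A} {Z Z' B B' : Subobject X} (hZ : Z = Z') (hB : B = B') (h : B ≤ Z)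
    (h' : B' ≤ Z') (hp : P (subquot Z B h)) : P (subquot Z' B' h') := by
  subst hZ hB
  exact hp

include h0 hP in
lemma pages (r : ℕ) (hE : ∀ p n, P (K.E r p n)) (s : ℕ) (hs : r ≤ s) : ∀ p n, P (K.E s p n) := by
  induction s, hs using Nat.le_induction with
  | base => exact hE
  | succ s _ ih => exact fun p n => page_step K P h0 hP s ih p n

include h0 hP in
lemma P_Einfty (hK : ∀ n : ℤ, (K.XFil n).IsFinite) (r : ℕ) (hE : ∀ p n, P (K.E r p n))
    (p n : ℤ) : P (subquot (K.ZTop p n) (K.BBot p n) (BBot_le_ZTop K p n)) := by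
  obtain ⟨r₁, h₁⟩ := Groth.Agent.S6792.exists_r_bot K hK p n
  obtain ⟨r₂, h₂⟩ := Groth.Agent.S6792.exists_r_top K hK p n
  have hs1 : r₁ ≤ max r (max r₁ r₂) := le_trans (le_max_left _ _) (le_max_right _ _)
  have hs2 : r₂ ≤ max r (max r₁ r₂) := le_trans (le_max_right _ _) (le_max_right _ _)
  have := pages K P h0 hP r hE (max r (max r₁ r₂)) (le_max_left _ _) p n
  exact subquot_congr P (Groth.Agent.S6792.ZSub_of_bot K (h₁ _ hs1))
    (Groth.Agent.S6792.BSub_of_top K (h₂ _ hs2)) _ _ this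

/-- cycles -/
noncomputable abbrev Zk (n : ℤ) : Subobject (K.obj.X n) := kernelSubobject (K.obj.d n (n + 1))
/-- boundaries -/
noncomputable abbrev Bk (n : ℤ) : Subobject (K.obj.X n) := imageSubobject (K.obj.d (n - 1) n)

lemma Bk_le_Zk (n : ℤ) : Bk K n ≤ Zk K n :=
  le_kernelSubobject _ _ (imageSubobject_arrow_comp_eq_zero (by simp))

/-- the chain -/
noncomputable abbrev Tp (p n : ℤ) : Subobject (K.obj.X n) := (Zk K n ⊓ K.filX p n) ⊔ Bk K n

lemma Tp_anti (n : ℤ) {p q : ℤ} (h : p ≤ q) : Tp K q n ≤ Tp K p n :=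
  sup_le_sup_right (inf_le_inf_left _ (K.filX_anti n h)) _

lemma ZTop_eq (p n : ℤ) : K.ZTop p n = (K.filX p n ⊓ Zk K n) ⊔ K.filX (p + 1) n := rfl
lemma BBot_eq (p n : ℤ) : K.BBot p n = (K.filX p n ⊓ Bk K n) ⊔ K.filX (p + 1) n := rfl

lemma M_le_T (p n : ℤ) : (Zk K n ⊓ K.filX p n) ⊓ K.BBot p n ≤ Tp K (p + 1) n := by
  apply le_of_factors_refinement
  have hS := Subobject.factors_self ((Zk K n ⊓ K.filX p n) ⊓ K.BBot p n)
  rw [Subobject.inf_factors, Subobject.inf_factors] at hS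
  obtain ⟨⟨hz, hf⟩, hb⟩ := hS
  have hb2 : ((K.filX p n ⊓ Bk K n) ⊔ K.filX (p + 1) n).Factors
      ((Zk K n ⊓ K.filX p n) ⊓ K.BBot p n).arrow := hb
  obtain ⟨W', π, hπ, b, f, hb', hf', hbf⟩ := sup_refinement _ _ _ hb2
  rw [Subobject.inf_factors] at hb'
  refine ⟨W', π, hπ, ?_⟩
  have e : b + f = f + b := add_comm _ _
  rw [hbf, e]
  refine Subobject.factors_add _ _ (Subobject.sup_factors_of_factors_left ?_)
    (Subobject.sup_factors_of_factors_right hb'.2)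
  rw [Subobject.inf_factors]
  refine ⟨?_, hf'⟩
  have e2 : f = π ≫ ((Zk K n ⊓ K.filX p n) ⊓ K.BBot p n).arrow - b := by rw [hbf]; abel
  rw [e2]
  exact factors_sub' _ _ (Subobject.factors_of_factors_right π hz)
    (Subobject.factors_of_le _ (Bk_le_Zk K n) hb'.2)

include h0 hP in
lemma P_gr (hK : ∀ n : ℤ, (K.XFil n).IsFinite) (r : ℕ) (hE : ∀ p n, P (K.E r p n))
    (p n : ℤ) : P (subquot (Tp K p n) (Tp K (p + 1) n) (Tp_anti K n (by omega))) := by
  -- the middle object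
  have hM1 : Zk K n ⊓ K.filX p n ≤ K.ZTop p n := by
    rw [ZTop_eq, inf_comm]; exact le_sup_left
  have hm1 : Mono (sqIncl (Zk K n ⊓ K.filX p n) ((Zk K n ⊓ K.filX p n) ⊓ K.BBot p n) (K.ZTop p n)
      (K.BBot p n) inf_le_left (BBot_le_ZTop K p n) hM1 inf_le_right) :=
    sqIncl_mono _ _ _ _ _ _ _ _ (fun W x hx hb => (Subobject.inf_factors x).2 ⟨hx, hb⟩)
  have he1 : Epi (sqIncl (Zk K n ⊓ K.filX p n) ((Zk K n ⊓ K.filX p n) ⊓ K.BBot p n) (K.ZTop p n)
      (K.BBot p n) inf_le_left (BBot_le_ZTop K p n) hM1 inf_le_right) := by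
    apply sqIncl_epi
    intro W y hy
    rw [ZTop_eq] at hy
    obtain ⟨W', π, hπ, z, f, hz, hf, hzf⟩ := sup_refinement _ _ y hy
    refine ⟨W', π, hπ, z, by rw [inf_comm]; exact hz, ?_⟩
    rw [hzf, add_sub_cancel_left, BBot_eq]
    exact Subobject.sup_factors_of_factors_right hf
  have i1 := isIso_of_mono_of_epi (sqIncl (Zk K n ⊓ K.filX p n)
    ((Zk K n ⊓ K.filX p n) ⊓ K.BBot p n) (K.ZTop p n)
    (K.BBot p n) inf_le_left (BBot_le_ZTop K p n) hM1 inf_le_right)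
  have hPM : P (subquot (Zk K n ⊓ K.filX p n) ((Zk K n ⊓ K.filX p n) ⊓ K.BBot p n)
      inf_le_left) :=
    P.prop_of_iso (asIso (sqIncl (Zk K n ⊓ K.filX p n)
      ((Zk K n ⊓ K.filX p n) ⊓ K.BBot p n) (K.ZTop p n)
      (K.BBot p n) inf_le_left (BBot_le_ZTop K p n) hM1 inf_le_right)).symm
      (P_Einfty K P h0 hP hK r hE p n)
  have hm2 : Mono (sqIncl (Zk K n ⊓ K.filX p n) ((Zk K n ⊓ K.filX p n) ⊓ K.BBot p n) (Tp K p n)
      (Tp K (p + 1) n) inf_le_left (Tp_anti K n (by omega)) le_sup_left (M_le_T K p n)) := by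
    apply sqIncl_mono
    intro W x hx ht
    refine (Subobject.inf_factors x).2 ⟨hx, ?_⟩
    rw [Subobject.inf_factors] at hx
    obtain ⟨W', π, hπ, z, b, hz, hb, hzb⟩ := sup_refinement _ _ x ht
    rw [Subobject.inf_factors] at hz
    apply factors_of_epi_comp _ π
    have e : z + b = b + z := add_comm _ _
    rw [hzb, e, BBot_eq]
    refine Subobject.factors_add _ _ (Subobject.sup_factors_of_factors_left ?_)
      (Subobject.sup_factors_of_factors_right hz.2)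
    rw [Subobject.inf_factors]
    refine ⟨?_, hb⟩
    have e2 : b = π ≫ x - z := by rw [hzb]; abel
    rw [e2]
    exact factors_sub' _ _ (Subobject.factors_of_factors_right π hx.2)
      (filX_mono K (by omega) n hz.2)
  have he2 : Epi (sqIncl (Zk K n ⊓ K.filX p n) ((Zk K n ⊓ K.filX p n) ⊓ K.BBot p n) (Tp K p n)
      (Tp K (p + 1) n) inf_le_left (Tp_anti K n (by omega)) le_sup_left (M_le_T K p n)) := by
    apply sqIncl_epi
    intro W y hy
    obtain ⟨W', π, hπ, z, b, hz, hb, hzb⟩ := sup_refinement _ _ y hy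
    refine ⟨W', π, hπ, z, hz, ?_⟩
    rw [hzb, add_sub_cancel_left]
    exact Subobject.sup_factors_of_factors_right hb
  have i2 := isIso_of_mono_of_epi (sqIncl (Zk K n ⊓ K.filX p n)
    ((Zk K n ⊓ K.filX p n) ⊓ K.BBot p n) (Tp K p n)
    (Tp K (p + 1) n) inf_le_left (Tp_anti K n (by omega)) le_sup_left (M_le_T K p n))
  exact P.prop_of_iso (asIso (sqIncl (Zk K n ⊓ K.filX p n)
    ((Zk K n ⊓ K.filX p n) ⊓ K.BBot p n) (Tp K p n)
    (Tp K (p + 1) n) inf_le_left (Tp_anti K n (by omega)) le_sup_left (M_le_T K p n))) hPM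

include h0 hP in
lemma P_chain (hK : ∀ n : ℤ, (K.XFil n).IsFinite) (r : ℕ) (hE : ∀ p n, P (K.E r p n))
    (n a q : ℤ) (haq : a ≤ q) : P (subquot (Tp K a n) (Tp K q n) (Tp_anti K n haq)) := by
  induction q, haq using Int.leInduction with
  | base =>
    exact P_zero P h0 (Groth.Agent.S6792.isZero_subquot_of_eq _ _ _ rfl)
  | succ q haq ih =>
    obtain ⟨w, hw⟩ := sq_exact_incl_incl (Tp K q n) (Tp K (q + 1) n) (Tp K a n) (Tp K (q + 1) n)
      (Tp K a n) (Tp K q n) (Tp_anti K n (by omega)) (Tp_anti K n (by omega)) (Tp_anti K n haq)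
      (Tp_anti K n haq) le_rfl le_rfl (Tp_anti K n (by omega)) le_rfl
      (fun W y hy hb => ⟨W, 𝟙 W, inferInstance, y, hb, by
        rw [Category.id_comp, sub_self]; exact Subobject.factors_zero⟩)
    have hm : Mono (sqIncl (Tp K q n) (Tp K (q + 1) n) (Tp K a n) (Tp K (q + 1) n)
        (Tp_anti K n (by omega)) (Tp_anti K n (by omega)) (Tp_anti K n haq) le_rfl) :=
      sqIncl_mono _ _ _ _ _ _ _ _ (fun _ _ _ hb => hb)
    have he : Epi (sqIncl (Tp K a n) (Tp K (q + 1) n) (Tp K a n) (Tp K q n)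
        (Tp_anti K n (by omega)) (Tp_anti K n haq) le_rfl (Tp_anti K n (by omega))) := by
      apply sqIncl_epi
      intro W y hy
      exact ⟨W, 𝟙 W, inferInstance, y, hy, by
        rw [Category.id_comp, sub_self]; exact Subobject.factors_zero⟩
    exact P_ext P h0 hP _ hw hm he (P_gr K P h0 hP hK r hE q n) ih

/-- the map from cycles to homology -/
noncomputable def zToH (n : ℤ) : (Zk K n : A) ⟶ K.obj.homology n :=
  K.obj.liftCycles (Zk K n).arrow (n + 1) (by simp) (kernelSubobject_arrow_comp _) ≫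
    K.obj.homologyπ n

lemma elem_zToH {W : A} (n : ℤ) (x : W ⟶ K.obj.X n) (hx : (Zk K n).Factors x)
    (hxd : x ≫ K.obj.d n (n + 1) = 0) :
    (Zk K n).factorThru x hx ≫ zToH K n =
      K.obj.liftCycles x (n + 1) (by simp) hxd ≫ K.obj.homologyπ n := by
  dsimp only [zToH]
  rw [← Category.assoc, HomologicalComplex.comp_liftCycles]
  congr 1
  simp only [Subobject.factorThru_arrow]

lemma zToH_zero (n : ℤ) : (Bk K n).ofLE (Zk K n) (Bk_le_Zk K n) ≫ zToH K n = 0 := by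
  obtain ⟨W', π, hπ, y, hy⟩ := image_refinement _ _ (Subobject.factors_self (Bk K n))
  rw [← cancel_epi π, comp_zero]
  have hx : (Zk K n).Factors (π ≫ (Bk K n).arrow) :=
    Subobject.factors_of_le _ (Bk_le_Zk K n)
      (Subobject.factors_of_factors_right π (Subobject.factors_self _))
  have e : π ≫ (Bk K n).ofLE (Zk K n) (Bk_le_Zk K n) = (Zk K n).factorThru _ hx := by
    rw [← cancel_mono (Zk K n).arrow, Category.assoc, Subobject.ofLE_arrow,
      Subobject.factorThru_arrow]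
  have hxd : (π ≫ (Bk K n).arrow) ≫ K.obj.d n (n + 1) = 0 := by
    rw [hy, Category.assoc, HomologicalComplex.d_comp_d, comp_zero]
  rw [← Category.assoc, e, elem_zToH K n _ hx hxd,
    K.obj.liftCycles_comp_homologyπ_eq_zero_iff_up_to_refinements (n - 1) n (n + 1) (by simp)
      (by simp)]
  exact ⟨W', 𝟙 W', inferInstance, y, by rw [Category.id_comp, hy]⟩

/-- the comparison map -/
noncomputable def sqToH (n : ℤ) : subquot (Zk K n) (Bk K n) (Bk_le_Zk K n) ⟶ K.obj.homology n :=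
  sqDesc (Zk K n) (Bk K n) (Bk_le_Zk K n) (zToH K n) (zToH_zero K n)

lemma isIso_sqToH (n : ℤ) : IsIso (sqToH K n) := by
  have hm : Mono (sqToH K n) := by
    apply Preadditive.mono_of_cancel_zero
    intro W g hg
    obtain ⟨W', π, hπ, x, hx, hxg⟩ := sq_lift (Zk K n) (Bk K n) (Bk_le_Zk K n) g
    have hxd : x ≫ K.obj.d n (n + 1) = 0 := (kernelSubobject_factors_iff _ _).1 hx
    have h1 : K.obj.liftCycles x (n + 1) (by simp) hxd ≫ K.obj.homologyπ n = 0 := by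
      rw [← elem_zToH K n x hx hxd]
      have : (Zk K n).factorThru x hx ≫ zToH K n =
          ((Zk K n).factorThru x hx ≫ sqπ _ _ (Bk_le_Zk K n)) ≫ sqToH K n := by
        dsimp only [sqToH]
        rw [Category.assoc, sqπ_desc]
      rw [this, ← hxg, Category.assoc, hg, comp_zero]
    rw [K.obj.liftCycles_comp_homologyπ_eq_zero_iff_up_to_refinements (n - 1) n (n + 1) (by simp)
      (by simp)] at h1
    obtain ⟨W'', π', hπ', x₁, hx₁⟩ := h1
    have hb : (Bk K n).Factors x := by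
      apply factors_of_epi_comp _ π'
      rw [hx₁]
      exact imageSubobject_factors_comp_self _ _
    rw [← sq_elem_eq_zero_iff (Zk K n) (Bk K n) (Bk_le_Zk K n) x hx] at hb
    rw [hb] at hxg
    exact (cancel_epi π).1 (by rw [hxg, comp_zero])
  have he : Epi (sqToH K n) := by
    rw [epi_iff_surjective_up_to_refinements]
    intro W γ
    obtain ⟨W', π, hπ, z, hz, hγ⟩ :=
      K.obj.eq_liftCycles_homologyπ_up_to_refinements γ (n + 1) (by simp)
    have hx : (Zk K n).Factors z := (kernelSubobject_factors_iff _ _).2 hz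
    refine ⟨W', π, hπ, (Zk K n).factorThru z hx ≫ sqπ _ _ (Bk_le_Zk K n), ?_⟩
    dsimp only [sqToH]
    rw [Category.assoc, sqπ_desc, elem_zToH K n z hx hz, hγ]
  exact isIso_of_mono_of_epi _

include h0 hP in
theorem main6793 (hK : ∀ n : ℤ, (K.XFil n).IsFinite) (r : ℕ) (hE : ∀ p n, P (K.E r p n))
    (n : ℤ) : P (K.obj.homology n) := by
  obtain ⟨⟨a, ha⟩, ⟨b, hb⟩⟩ := hK n
  change K.filX a n = ⊤ at ha
  change K.filX b n = ⊥ at hb
  have ha' : K.filX (min a b) n = ⊤ := Groth.Agent.S6792.filX_eq_top K ha (min_le_left a b)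
  have hTa : Tp K (min a b) n = Zk K n := by
    dsimp only [Tp]
    rw [ha', inf_top_eq, sup_eq_left]
    exact Bk_le_Zk K n
  have hTb : Tp K b n = Bk K n := by
    dsimp only [Tp]
    rw [hb, inf_bot_eq, bot_sup_eq]
  have h1 := P_chain K P h0 hP hK r hE n (min a b) b (min_le_right a b)
  have h2 := subquot_congr P hTa hTb _ (Bk_le_Zk K n) h1
  have := isIso_sqToH K n
  exact P.prop_of_iso (asIso (sqToH K n)) h2

end final

end helpers

/-- For a filtered complex with degreewise finite filtration, if all terms of some page of its spectral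
sequence lie in a weak Serre class `P`, then so does each cohomology object. -/
theorem result {A : Type u} [Category.{v} A] [Abelian A] (K : SpSeq.FilCx A) (hK : ∀ n : ℤ, (K.XFil n).IsFinite) (P : ObjectProperty A) [P.IsClosedUnderIsomorphisms] (h0 : ∃ Z : A, IsZero Z ∧ P Z) (hP : ∀ S : ComposableArrows A 4, S.Exact → P (S.obj 0) → P (S.obj 1) → P (S.obj 3) → P (S.obj 4) → P (S.obj 2)) (r : ℕ) (hr : ∀ p n : ℤ, P (K.E r p n)) (n : ℤ) : P (K.obj.homology n) := by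
  exact main6793 K P h0 hP hK r hr n

end Groth.Agent.S6793
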