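import Groth.Statements.S6795
import Mathlib

set_option autoImplicit false
open CategoryTheory CategoryTheory.Limits
universe v u
open CategoryTheory CategoryTheory.Preadditive

namespace Groth.Agent.S6795

theorem hasKernel_of_idem {D : Type u} [Category.{v} D] [Preadditive D] [HasCountableProducts D]
    (hk : ∀ ⦃X Y : D⦄ (f : X ⟶ Y), IsSplitEpi f → HasKernel f) (X : D) (e : X ⟶ X)
    (he : e ≫ e = e) : HasKernel e := by
  have he1 : e ≫ (𝟙 X - e) = 0 := by rw [comp_sub, Category.comp_id, he, sub_self]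
  have he2 : (𝟙 X - e) ≫ e = 0 := by rw [sub_comp, Category.id_comp, he, sub_self]
  have he3 : (𝟙 X - e) ≫ (𝟙 X - e) = 𝟙 X - e := Idempotents.idem_of_id_sub_idem e he
  let F : ℕ → D := fun _ => X
  let T : (∏ᶜ F) ⟶ (∏ᶜ F) := Pi.lift (fun n => Pi.π F n ≫ e + Pi.π F (n+1) ≫ (𝟙 X - e))
  let S : (∏ᶜ F) ⟶ (∏ᶜ F) := Pi.lift (fun n => match n with
    | 0 => Pi.π F 0 ≫ e
    | m+1 => Pi.π F (m+1) ≫ e + Pi.π F m ≫ (𝟙 X - e))
  have hST : S ≫ T = 𝟙 _ := by
    apply Pi.hom_ext
    intro n
    have h1 : ∀ m, S ≫ Pi.π F (m+1) = Pi.π F (m+1) ≫ e + Pi.π F m ≫ (𝟙 X - e) := fun m => by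
      simp only [S, Pi.lift_π]
    have h0 : S ≫ Pi.π F 0 = Pi.π F 0 ≫ e := by simp only [S, Pi.lift_π]
    have hT : T ≫ Pi.π F n = Pi.π F n ≫ e + Pi.π F (n+1) ≫ (𝟙 X - e) := by
      simp only [T, Pi.lift_π]
    rw [Category.assoc, hT, Category.id_comp, comp_add, ← Category.assoc, ← Category.assoc, h1]
    cases n with
    | zero =>
      rw [h0, Category.assoc, he, add_comp, Category.assoc, Category.assoc, he1, he3, comp_zero,
        zero_add, ← comp_add, add_sub_cancel, Category.comp_id]
    | succ m =>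
      rw [h1, add_comp, add_comp, Category.assoc, Category.assoc, Category.assoc, Category.assoc,
        he, he1, he2, he3, comp_zero, comp_zero, add_zero, zero_add, ← comp_add, add_sub_cancel,
        Category.comp_id]
  have : IsSplitEpi T := IsSplitEpi.mk' ⟨S, hST⟩
  have : HasKernel T := hk T this
  have hι : ∀ n, kernel.ι T ≫ Pi.π F n ≫ e + kernel.ι T ≫ Pi.π F (n+1) ≫ (𝟙 X - e) = 0 := by
    intro n
    have := kernel.condition T
    have h2 := congrArg (fun f => f ≫ Pi.π F n) this
    simp only [T, Category.assoc, Pi.lift_π, zero_comp, comp_add] at h2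
    exact h2
  have hιe : ∀ n, kernel.ι T ≫ Pi.π F n ≫ e = 0 := by
    intro n
    have := congrArg (fun f => f ≫ e) (hι n)
    simp only [add_comp, Category.assoc, he, he2, comp_zero, add_zero, zero_comp] at this
    exact this
  have hι1 : ∀ n, kernel.ι T ≫ Pi.π F (n+1) ≫ (𝟙 X - e) = 0 := by
    intro n
    have := hι n
    rw [hιe n, zero_add] at this
    exact this
  have hιs : ∀ n, kernel.ι T ≫ Pi.π F (n+1) = 0 := by
    intro n
    have h := hι1 n
    rw [comp_sub, comp_sub, Category.comp_id, hιe (n+1), sub_zero] at h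
    exact h
  refine HasLimit.mk ⟨KernelFork.ofι (kernel.ι T ≫ Pi.π F 0) (by rw [Category.assoc]; exact hιe 0), ?_⟩
  refine KernelFork.IsLimit.ofι _ _ (fun {W} g hg => kernel.lift T (Pi.lift (fun n => match n with
    | 0 => g
    | m+1 => 0)) ?_) ?_ ?_
  · apply Pi.hom_ext
    intro n
    simp only [T, Category.assoc, Pi.lift_π, zero_comp, comp_add]
    rw [← Category.assoc, ← Category.assoc, Pi.lift_π, Pi.lift_π]
    cases n with
    | zero => simp only [hg, zero_comp, add_zero]
    | succ m => simp only [zero_comp, add_zero]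
  · intro W g hg
    rw [← Category.assoc, kernel.lift_ι, Pi.lift_π]
  · intro W g hg m hm
    rw [← cancel_mono (kernel.ι T), kernel.lift_ι]
    apply Pi.hom_ext
    intro n
    rw [Pi.lift_π]
    cases n with
    | zero => simpa using hm
    | succ k => rw [Category.assoc, hιs, comp_zero]

theorem result {D : Type u} [Category.{v} D] [Preadditive D] [HasCountableProducts D] (hk : ∀ ⦃X Y : D⦄ (f : X ⟶ Y), IsSplitEpi f → HasKernel f) : IsIdempotentComplete D := by
  rw [Idempotents.isIdempotentComplete_iff_idempotents_have_kernels]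
  intro X p hp
  exact hasKernel_of_idem hk X p hp

end Groth.Agent.S6795
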