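import Groth.Statements.S6796
import Mathlib

set_option autoImplicit false
open CategoryTheory CategoryTheory.Limits
universe v u
open CategoryTheory CategoryTheory.Preadditive

namespace Groth.Agent.S6796

theorem hasCokernel_of_idem {D : Type u} [Category.{v} D] [Preadditive D] [HasCountableCoproducts D]
    (hk : ∀ ⦃X Y : D⦄ (f : X ⟶ Y), IsSplitMono f → HasCokernel f) (X : D) (e : X ⟶ X)
    (he : e ≫ e = e) : HasCokernel e := by
  have he1 : e ≫ (𝟙 X - e) = 0 := by rw [comp_sub, Category.comp_id, he, sub_self]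
  have he2 : (𝟙 X - e) ≫ e = 0 := by rw [sub_comp, Category.id_comp, he, sub_self]
  have he3 : (𝟙 X - e) ≫ (𝟙 X - e) = 𝟙 X - e := Idempotents.idem_of_id_sub_idem e he
  let F : ℕ → D := fun _ => X
  let T : (∐ F) ⟶ (∐ F) := Sigma.desc (fun n => e ≫ Sigma.ι F n + (𝟙 X - e) ≫ Sigma.ι F (n+1))
  let S : (∐ F) ⟶ (∐ F) := Sigma.desc (fun n => match n with
    | 0 => e ≫ Sigma.ι F 0
    | m+1 => e ≫ Sigma.ι F (m+1) + (𝟙 X - e) ≫ Sigma.ι F m)
  have hTS : T ≫ S = 𝟙 _ := by
    apply Sigma.hom_ext
    intro n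
    have h1 : ∀ m, Sigma.ι F (m+1) ≫ S = e ≫ Sigma.ι F (m+1) + (𝟙 X - e) ≫ Sigma.ι F m :=
      fun m => by simp only [S, Sigma.ι_desc]
    have h0 : Sigma.ι F 0 ≫ S = e ≫ Sigma.ι F 0 := by simp only [S, Sigma.ι_desc]
    have hT : Sigma.ι F n ≫ T = e ≫ Sigma.ι F n + (𝟙 X - e) ≫ Sigma.ι F (n+1) := by
      simp only [T, Sigma.ι_desc]
    rw [← Category.assoc, hT, Category.comp_id, add_comp, Category.assoc, Category.assoc, h1]
    cases n with
    | zero =>
      rw [h0, ← Category.assoc, he, comp_add, ← Category.assoc, ← Category.assoc, he2, he3,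
        zero_comp, zero_add, ← add_comp, add_sub_cancel, Category.id_comp]
    | succ m =>
      rw [h1, comp_add, comp_add, ← Category.assoc, ← Category.assoc, ← Category.assoc,
        ← Category.assoc, he, he1, he2, he3, zero_comp, zero_comp, add_zero, zero_add, ← add_comp,
        add_sub_cancel, Category.id_comp]
  have : IsSplitMono T := IsSplitMono.mk' ⟨S, hTS⟩
  have : HasCokernel T := hk T this
  have hπ : ∀ n, e ≫ Sigma.ι F n ≫ cokernel.π T + (𝟙 X - e) ≫ Sigma.ι F (n+1) ≫ cokernel.π T = 0 := by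
    intro n
    have := cokernel.condition T
    have h2 := congrArg (fun f => Sigma.ι F n ≫ f) this
    simp only [T, Sigma.ι_desc_assoc, comp_zero, add_comp, Category.assoc] at h2
    exact h2
  have hπe : ∀ n, e ≫ Sigma.ι F n ≫ cokernel.π T = 0 := by
    intro n
    have := congrArg (fun f => e ≫ f) (hπ n)
    simp only [comp_add, ← Category.assoc, he, he1, zero_comp, add_zero, comp_zero] at this
    simpa using this
  have hπ1 : ∀ n, (𝟙 X - e) ≫ Sigma.ι F (n+1) ≫ cokernel.π T = 0 := by
    intro n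
    have := hπ n
    rw [hπe n, zero_add] at this
    exact this
  have hπs : ∀ n, Sigma.ι F (n+1) ≫ cokernel.π T = 0 := by
    intro n
    have h := hπ1 n
    rw [sub_comp, Category.id_comp, hπe (n+1), sub_zero] at h
    exact h
  refine HasColimit.mk ⟨CokernelCofork.ofπ (Sigma.ι F 0 ≫ cokernel.π T) (hπe 0), ?_⟩
  refine CokernelCofork.IsColimit.ofπ _ _ (fun {W} g hg => cokernel.desc T (Sigma.desc (fun n =>
    match n with
    | 0 => g
    | m+1 => 0)) ?_) ?_ ?_
  · apply Sigma.hom_ext
    intro n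
    simp only [T, Sigma.ι_desc_assoc, comp_zero, add_comp, Category.assoc, Sigma.ι_desc]
    cases n with
    | zero => simp only [hg, comp_zero, add_zero]
    | succ m => simp only [comp_zero, add_zero]
  · intro W g hg
    rw [Category.assoc, cokernel.π_desc, Sigma.ι_desc]
  · intro W g hg m hm
    rw [← cancel_epi (cokernel.π T), cokernel.π_desc]
    apply Sigma.hom_ext
    intro n
    rw [Sigma.ι_desc]
    cases n with
    | zero => simpa using hm
    | succ k => rw [← Category.assoc, hπs, zero_comp]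

theorem result {D : Type u} [Category.{v} D] [Preadditive D] [HasCountableCoproducts D] (hk : ∀ ⦃X Y : D⦄ (f : X ⟶ Y), IsSplitMono f → HasCokernel f) : IsIdempotentComplete D := by
  refine ⟨fun X p hp => ?_⟩
  have hq : (𝟙 X - p) ≫ (𝟙 X - p) = 𝟙 X - p := Idempotents.idem_of_id_sub_idem p hp
  have : HasCokernel (𝟙 X - p) := hasCokernel_of_idem hk X _ hq
  have h2 : (𝟙 X - p) ≫ p = 0 := by rw [sub_comp, Category.id_comp, hp, sub_self]
  have h3 : cokernel.π (𝟙 X - p) = p ≫ cokernel.π (𝟙 X - p) := by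
    have := cokernel.condition (𝟙 X - p)
    rw [sub_comp, Category.id_comp, sub_eq_zero] at this
    exact this
  refine ⟨cokernel (𝟙 X - p), cokernel.desc (𝟙 X - p) p h2, cokernel.π (𝟙 X - p), ?_,
    cokernel.π_desc _ _ _⟩
  rw [← cancel_epi (cokernel.π (𝟙 X - p)), ← Category.assoc, cokernel.π_desc, Category.comp_id]
  exact h3.symm

end Groth.Agent.S6796
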