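import Groth.Statements.S6799
import Mathlib

set_option autoImplicit false
open CategoryTheory Opposite
universe u
open SSet

namespace Groth.Agent.S6799
section helpers
set_option linter.unusedSectionVars false
open CategoryTheory SSet MonoidalCategory CartesianMonoidalCategory Simplicial Limits

variable {U V : SSet.{u}}

/-- the simplex of `Δ[1]` is constantly one -/
def IsOne {m : SimplexCategoryᵒᵖ} (s : (Δ[1] : SSet.{u}).obj m) : Prop :=
  ∀ i, (stdSimplex.objEquiv s).toOrderHom i = 1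

lemma isOne_map {m m' : SimplexCategoryᵒᵖ} (φ : m ⟶ m') (s : (Δ[1] : SSet.{u}).obj m)
    (hs : IsOne s) : IsOne ((Δ[1] : SSet.{u}).map φ s) := by
  intro i
  exact hs (φ.unop.toOrderHom i)

lemma isOne_of_map_surj {m m' : SimplexCategoryᵒᵖ} (φ : m ⟶ m') (s : (Δ[1] : SSet.{u}).obj m)
    (hφ : Function.Surjective φ.unop.toOrderHom)
    (hs : IsOne ((Δ[1] : SSet.{u}).map φ s)) : IsOne s := by
  intro i
  obtain ⟨j, rfl⟩ := hφ i
  exact hs j


lemma agree (f₀ f₁ : V ⟶ U) (n : ℕ)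
    (h : ∀ i : ℕ, i < n → f₀.app (op (SimplexCategory.mk i)) = f₁.app (op (SimplexCategory.mk i)))
    {a : SimplexCategory} {b : ℕ} (hb : b ≤ n) (θ : a ⟶ SimplexCategory.mk b)
    (hθ : ¬ Function.Surjective θ.toOrderHom) (v : V.obj (op (SimplexCategory.mk b))) :
    f₀.app (op a) (V.map θ.op v) = f₁.app (op a) (V.map θ.op v) := by
  cases b with
  | zero =>
    exfalso
    apply hθ
    intro y
    exact ⟨0, Subsingleton.elim (α := Fin 1) _ _⟩
  | succ b =>
    obtain ⟨i, θ', rfl⟩ := SimplexCategory.eq_comp_δ_of_not_surjective θ hθ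
    have hb' : b < n := hb
    rw [op_comp, Functor.map_comp_apply]
    have e0 := NatTrans.naturality_apply f₀ θ'.op (V.map (SimplexCategory.δ i).op v)
    have e1 := NatTrans.naturality_apply f₁ θ'.op (V.map (SimplexCategory.δ i).op v)
    rw [e0, e1, h b hb']


open Classical in
noncomputable def tauApp (f₀ f₁ : V ⟶ U) (m : SimplexCategoryᵒᵖ) :
    (V ⊗ Δ[1]).obj m ⟶ U.obj m :=
  ↾fun p => if IsOne p.2 then f₁.app m p.1 else f₀.app m p.1

open Classical in
lemma tauApp_one (f₀ f₁ : V ⟶ U) (m : SimplexCategoryᵒᵖ) (p : (V ⊗ Δ[1]).obj m) (hp : IsOne p.2) :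
    tauApp f₀ f₁ m p = f₁.app m p.1 := by
  show (if IsOne p.2 then f₁.app m p.1 else f₀.app m p.1) = _
  rw [if_pos hp]

open Classical in
lemma tauApp_not (f₀ f₁ : V ⟶ U) (m : SimplexCategoryᵒᵖ) (p : (V ⊗ Δ[1]).obj m) (hp : ¬ IsOne p.2) :
    tauApp f₀ f₁ m p = f₀.app m p.1 := by
  show (if IsOne p.2 then f₁.app m p.1 else f₀.app m p.1) = _
  rw [if_neg hp]

lemma map_fst {m m' : SimplexCategoryᵒᵖ} (φ : m ⟶ m') (p : (V ⊗ Δ[1]).obj m) :
    ((V ⊗ Δ[1]).map φ p).1 = V.map φ p.1 := rfl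

lemma map_snd {m m' : SimplexCategoryᵒᵖ} (φ : m ⟶ m') (p : (V ⊗ Δ[1]).obj m) :
    ((V ⊗ Δ[1]).map φ p).2 = (Δ[1] : SSet.{u}).map φ p.2 := rfl


lemma agree' (f₀ f₁ : V ⟶ U) (n : ℕ)
    (h : ∀ i : ℕ, i < n → f₀.app (op (SimplexCategory.mk i)) = f₁.app (op (SimplexCategory.mk i)))
    {a c : SimplexCategory} (hc : c.len ≤ n) (θ : a ⟶ c)
    (hθ : ¬ Function.Surjective θ.toOrderHom) (v : V.obj (op c)) :
    f₀.app (op a) (V.map θ.op v) = f₁.app (op a) (V.map θ.op v) := by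
  induction c using SimplexCategory.rec with | _ b => exact agree f₀ f₁ n h hc θ hθ v

noncomputable def tau (f₀ f₁ : V ⟶ U) (n : ℕ)
    (h : ∀ i : ℕ, i < n → f₀.app (op (SimplexCategory.mk i)) = f₁.app (op (SimplexCategory.mk i))) :
    (SimplexCategory.Truncated.inclusion n).op ⋙ (V ⊗ Δ[1]) ⟶
      (SimplexCategory.Truncated.inclusion n).op ⋙ U where
  app k := tauApp f₀ f₁ ((SimplexCategory.Truncated.inclusion n).op.obj k)
  naturality k k' φ := by
    ext p
    set φ' := (SimplexCategory.Truncated.inclusion n).op.map φ with hφ'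
    show tauApp f₀ f₁ _ ((V ⊗ Δ[1]).map φ' p) = U.map φ' (tauApp f₀ f₁ _ p)
    by_cases hp : IsOne p.2
    · have hq := isOne_map φ' p.2 hp
      rw [tauApp_one _ _ _ _ hq, tauApp_one _ _ _ _ hp, map_fst, NatTrans.naturality_apply]
    · by_cases hq : IsOne ((V ⊗ Δ[1]).map φ' p).2
      · have hns : ¬ Function.Surjective φ'.unop.toOrderHom :=
          fun hs => hp (isOne_of_map_surj φ' p.2 hs hq)
        rw [tauApp_one _ _ _ _ hq, tauApp_not _ _ _ _ hp, map_fst, ← NatTrans.naturality_apply f₀]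
        exact (agree' f₀ f₁ n h k.unop.property φ'.unop hns p.1).symm
      · rw [tauApp_not _ _ _ _ hq, tauApp_not _ _ _ _ hp, map_fst, NatTrans.naturality_apply]


lemma not_isOne_zero {X : SSet.{u}} {m : SimplexCategoryᵒᵖ} (x : X.obj m) :
    ¬ IsOne ((ι₀ : X ⟶ X ⊗ Δ[1]).app m x).2 := by
  intro h
  have := h 0
  exact zero_ne_one this

lemma isOne_one {X : SSet.{u}} {m : SimplexCategoryᵒᵖ} (x : X.obj m) :
    IsOne ((ι₁ : X ⟶ X ⊗ Δ[1]).app m x).2 := by
  intro i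
  rfl

theorem main6799 (f₀ f₁ : V ⟶ U) (n : ℕ)
    (h : ∀ i : ℕ, i < n → f₀.app (op (SimplexCategory.mk i)) = f₁.app (op (SimplexCategory.mk i)))
    [SimplicialObject.IsCoskeletal U n] : Nonempty (SSet.Homotopy f₀ f₁) := by
  let L := (SimplexCategory.Truncated.inclusion n).op
  let hh : V ⊗ Δ[1] ⟶ U :=
    (U.homEquivOfIsRightKanExtension (𝟙 (L ⋙ U)) (V ⊗ Δ[1])).symm (tau f₀ f₁ n h)
  have hfac : Functor.whiskerLeft L hh = tau f₀ f₁ n h := by
    have := (U.homEquivOfIsRightKanExtension (𝟙 (L ⋙ U)) (V ⊗ Δ[1])).apply_symm_apply (tau f₀ f₁ n h)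
    have e : (U.homEquivOfIsRightKanExtension (𝟙 (L ⋙ U)) (V ⊗ Δ[1])) hh = Functor.whiskerLeft L hh := by
      show Functor.whiskerLeft L hh ≫ 𝟙 _ = _
      rw [Category.comp_id]
    rw [← e]
    exact this
  have hfac' : ∀ (k : (SimplexCategory.Truncated n)ᵒᵖ) (p : (V ⊗ Δ[1]).obj (L.obj k)),
      hh.app (L.obj k) p = tauApp f₀ f₁ (L.obj k) p := by
    intro k p
    have := congrArg (fun t => t.app k) hfac
    exact ConcreteCategory.congr_hom this p
  refine ⟨{ h := hh, h₀ := ?_, h₁ := ?_, rel := ?_ }⟩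
  · show ι₀ ≫ hh = f₀
    apply U.hom_ext_of_isRightKanExtension (𝟙 (L ⋙ U))
    ext k v
    show hh.app (L.obj k) (ι₀.app (L.obj k) v) = f₀.app (L.obj k) v
    rw [hfac', tauApp_not _ _ _ _ (not_isOne_zero v)]
    rfl
  · show ι₁ ≫ hh = f₁
    apply U.hom_ext_of_isRightKanExtension (𝟙 (L ⋙ U))
    ext k v
    show hh.app (L.obj k) (ι₁.app (L.obj k) v) = f₁.app (L.obj k) v
    rw [hfac', tauApp_one _ _ _ _ (isOne_one v)]
    rfl
  · ext n ⟨⟨x, hx⟩, s⟩
    exact hx.elim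


end helpers

/-- Two maps between `n`-coskeletal simplicial sets which agree on simplices of dimension `< n` are
homotopic, by a single homotopy. -/
theorem result {U V : SSet.{u}} (f₀ f₁ : V ⟶ U) (n : ℕ) (h : ∀ i : ℕ, i < n → f₀.app (op (SimplexCategory.mk i)) = f₁.app (op (SimplexCategory.mk i))) [SimplicialObject.IsCoskeletal U n] [SimplicialObject.IsCoskeletal V n] : Nonempty (SSet.Homotopy f₀ f₁) := by
  exact main6799 f₀ f₁ n h

end Groth.Agent.S6799
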