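import Groth.Statements.S6800
import Mathlib

set_option autoImplicit false
open CategoryTheory CategoryTheory.Limits
universe v u
open CategoryTheory CategoryTheory.SimplicialObject CategoryTheory.SimplicialObject.Truncated

namespace Groth.Agent.S6800
open CategoryTheory.Limits
instance finite_opposite' (α : Type*) [Finite α] : Finite αᵒᵖ :=
  Finite.of_equiv α Opposite.equivToOpposite

instance finite_truncated (m : ℕ) : Finite (SimplexCategory.Truncated m) := by
  refine Finite.of_injective (fun a : SimplexCategory.Truncated m => (⟨a.obj.len, Nat.lt_succ_of_le a.property⟩ : Fin (m+1))) ?_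
  rintro ⟨a, ha⟩ ⟨b, hb⟩ h
  simp only [Fin.mk.injEq] at h
  have : a = b := SimplexCategory.ext h
  subst this
  rfl

instance finite_simplex_hom (a b : SimplexCategory) : Finite (a ⟶ b) := by
  refine Finite.of_injective (fun f : a ⟶ b => (f.toOrderHom : Fin (a.len+1) → Fin (b.len+1))) ?_
  intro f g h
  ext x
  exact congrArg (fun k => (k x : ℕ)) h

instance finite_truncated_hom (m : ℕ) (a b : SimplexCategory.Truncated m) : Finite (a ⟶ b) := by
  refine Finite.of_injective (fun f : a ⟶ b => f.hom) ?_
  intro f g h
  exact ObjectProperty.hom_ext _ h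


/-- In a category with finite limits every truncated simplicial object has a pointwise right Kan
extension along the inclusion of the truncated simplex category, i.e. the coskeleton functors exist
and are given by the limit formula. -/
theorem result {C : Type u} [Category.{v} C] [HasFiniteLimits C] (m : ℕ) (U : (SimplexCategory.Truncated m)ᵒᵖ ⥤ C) : (SimplexCategory.Truncated.inclusion m).op.HasPointwiseRightKanExtension U := by
  intro Y
  have : Finite (StructuredArrow Y (SimplexCategory.Truncated.inclusion m).op) := by
    have : ∀ X : (SimplexCategory.Truncated m)ᵒᵖ, Finite (Y ⟶ (SimplexCategory.Truncated.inclusion m).op.obj X) := by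
      intro X
      exact finite_opposite' _
    refine Finite.of_injective (fun a : StructuredArrow Y (SimplexCategory.Truncated.inclusion m).op =>
      (⟨a.right, a.hom⟩ : Σ X : (SimplexCategory.Truncated m)ᵒᵖ, (Y ⟶ (SimplexCategory.Truncated.inclusion m).op.obj X))) ?_
    rintro ⟨⟨⟨⟩⟩, X, f⟩ ⟨⟨⟨⟩⟩, X', f'⟩ h
    simp only [Sigma.mk.injEq] at h
    obtain ⟨rfl, h2⟩ := h
    rw [heq_iff_eq] at h2
    subst h2
    rfl
  have : ∀ a b : StructuredArrow Y (SimplexCategory.Truncated.inclusion m).op, Finite (a ⟶ b) := by
    intro a b
    have : Finite (a.right ⟶ b.right) := finite_opposite' _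
    refine Finite.of_injective (fun f : a ⟶ b => f.right) ?_
    intro f g h
    exact StructuredArrow.hom_ext _ _ h
  let _ : FinCategory (StructuredArrow Y (SimplexCategory.Truncated.inclusion m).op) :=
    { fintypeObj := Fintype.ofFinite _
      fintypeHom := fun a b => Fintype.ofFinite _ }
  have := hasLimitsOfShape_of_hasFiniteLimits (C := C) (StructuredArrow Y (SimplexCategory.Truncated.inclusion m).op)
  infer_instance

end Groth.Agent.S6800
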