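import Groth.Statements.S6801
import Mathlib
import Groth.Agent.Lib.Helper10.ImgSub

set_option autoImplicit false
open CategoryTheory
universe v u
open SpSeq SpSeq.FilObj

namespace Groth.Agent.S6801
open CategoryTheory.Limits

/-- The composite of two strict morphisms of filtered objects is strict when the second one is a
monomorphism. (In general a composite of strict morphisms is not strict.) -/
theorem result {A : Type u} [Category.{v} A] [Abelian A] {K L M : SpSeq.FilObj A} (f : K ⟶ L) (g : L ⟶ M) (hf : SpSeq.FilObj.IsStrict f) (hg : SpSeq.FilObj.IsStrict g) [Mono g.hom] : SpSeq.FilObj.IsStrict (f ≫ g) := by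
  intro p
  have h1 : imageSubobject ((K.fil p).arrow ≫ (f ≫ g).hom) =
      (Subobject.map g.hom).obj (imageSubobject ((K.fil p).arrow ≫ f.hom)) := by
    show imageSubobject ((K.fil p).arrow ≫ (f.hom ≫ g.hom)) = _
    rw [← Category.assoc, Groth.Agent.Helper10.ImgSub.imageSubobject_comp_mono]
  have h2 : imageSubobject (f ≫ g).hom = (Subobject.map g.hom).obj (imageSubobject f.hom) :=
    Groth.Agent.Helper10.ImgSub.imageSubobject_comp_mono f.hom g.hom
  have h3 : (Subobject.map g.hom).obj (L.fil p) = imageSubobject g.hom ⊓ M.fil p := by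
    rw [← hg p, Groth.Agent.Helper10.ImgSub.imageSubobject_comp_mono,
      Groth.Agent.Helper10.ImgSub.imageSubobject_arrow_eq]
  have h4 : imageSubobject (f ≫ g).hom ≤ imageSubobject g.hom :=
    imageSubobject_comp_le f.hom g.hom
  rw [h1, hf p, Subobject.inf_map, h3, ← h2, ← inf_assoc, inf_eq_left.2 h4]

end Groth.Agent.S6801
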