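import Groth.Statements.S6802
import Mathlib
import Groth.Agent.Lib.Helper10.ImgSub

set_option autoImplicit false
open CategoryTheory
universe v u
open SpSeq SpSeq.FilObj

namespace Groth.Agent.S6802
open CategoryTheory.Limits

/-- The composite of two strict morphisms of filtered objects is strict when the first one is an
epimorphism. -/
theorem result {A : Type u} [Category.{v} A] [Abelian A] {K L M : SpSeq.FilObj A} (f : K ⟶ L) (g : L ⟶ M) (hf : SpSeq.FilObj.IsStrict f) (hg : SpSeq.FilObj.IsStrict g) [Epi f.hom] : SpSeq.FilObj.IsStrict (f ≫ g) := by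
  intro p
  have h0 : imageSubobject ((K.fil p).arrow ≫ f.hom) = L.fil p := by
    rw [hf p, Groth.Agent.Helper10.ImgSub.imageSubobject_eq_top_of_epi, top_inf_eq]
  have h2 : imageSubobject (f ≫ g).hom = imageSubobject g.hom :=
    Groth.Agent.Helper10.ImgSub.imageSubobject_epi_comp f.hom g.hom
  have h1 : imageSubobject ((K.fil p).arrow ≫ (f ≫ g).hom) =
      imageSubobject ((L.fil p).arrow ≫ g.hom) := by
    show imageSubobject ((K.fil p).arrow ≫ (f.hom ≫ g.hom)) = _
    rw [← Category.assoc]
    conv_lhs => rw [← imageSubobject_arrow_comp ((K.fil p).arrow ≫ f.hom), Category.assoc]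
    rw [Groth.Agent.Helper10.ImgSub.imageSubobject_epi_comp]
    rw [h0]
  rw [h1, h2, hg p]

end Groth.Agent.S6802
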