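import Groth.Statements.S6803
import Mathlib
import Groth.Agent.Lib.Helper10.FilPushout
import Groth.Agent.S6801

set_option autoImplicit false
open CategoryTheory CategoryTheory.Limits
universe v u
open SpSeq SpSeq.FilObj

namespace Groth.Agent.S6803
open CategoryTheory.Limits Groth.Agent.Helper10.FilStrict

/-- Pushouts exist in the category of filtered objects of an abelian category, and the pushout of a
strict morphism is strict. -/
theorem result {A : Type u} [Category.{v} A] [Abelian A] {K L M : SpSeq.FilObj A} (f : K ⟶ L) (g : K ⟶ M) : HasPushout f g ∧ ∀ (P : SpSeq.FilObj A) (g' : L ⟶ P) (f' : M ⟶ P), IsPushout f g g' f' → SpSeq.FilObj.IsStrict f → SpSeq.FilObj.IsStrict f' := by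
  refine ⟨hasPushout f g, ?_⟩
  intro P g' f' h hf
  let e : poObj f g ≅ P := (poIsColimit f g).coconePointUniqueUpToIso h.isColimit
  have he : poInr f g ≫ e.hom = f' :=
    IsColimit.comp_coconePointUniqueUpToIso_hom (poIsColimit f g) h.isColimit WalkingSpan.right
  have hiso : IsIso e.hom.hom := (SpSeq.FilObj.forget (A := A)).map_isIso e.hom
  have : Mono e.hom.hom := inferInstance
  rw [← he]
  exact Groth.Agent.S6801.result (poInr f g) e.hom (isStrict_poInr f g hf) (isStrict_of_iso e)

end Groth.Agent.S6803
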