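import Groth.Statements.S6804
import Mathlib
import Groth.Agent.Lib.Helper10.FilStrict
import Groth.Agent.S6802

set_option autoImplicit false
open CategoryTheory CategoryTheory.Limits
universe v u
open SpSeq SpSeq.FilObj

namespace Groth.Agent.S6804
open CategoryTheory.Limits Groth.Agent.Helper10.FilStrict

/-- Fibre products exist in the category of filtered objects of an abelian category, and the base change
of a strict morphism is strict. -/
theorem result {A : Type u} [Category.{v} A] [Abelian A] {K L M : SpSeq.FilObj A} (f : L ⟶ K) (g : M ⟶ K) : HasPullback f g ∧ ∀ (P : SpSeq.FilObj A) (g' : P ⟶ L) (f' : P ⟶ M), IsPullback g' f' f g → SpSeq.FilObj.IsStrict f → SpSeq.FilObj.IsStrict f' := by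
  refine ⟨hasPullback f g, ?_⟩
  intro P g' f' h hf
  let e : P ≅ pbObj f g := h.isLimit.conePointUniqueUpToIso (pbIsLimit f g)
  have he : e.hom ≫ pbSnd f g = f' :=
    IsLimit.conePointUniqueUpToIso_hom_comp h.isLimit (pbIsLimit f g) WalkingCospan.right
  have hiso : IsIso e.hom.hom := (SpSeq.FilObj.forget (A := A)).map_isIso e.hom
  have : Epi e.hom.hom := inferInstance
  rw [← he]
  exact Groth.Agent.S6802.result e.hom (pbSnd f g) (isStrict_of_iso e) (isStrict_pbSnd f g hf)

end Groth.Agent.S6804
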