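import Groth.Statements.S6805
import Mathlib

set_option autoImplicit false
open CategoryTheory
universe u
open SSet

namespace Groth.Agent.S6805
section helpers
open Opposite
set_option linter.unusedSectionVars false
set_option autoImplicit false
open CategoryTheory
open SSet Simplicial Opposite

theorem skeleton_hasDimensionLT (X : SSet.{u}) (n : ℕ) : HasDimensionLT (X.skeleton n) n := by
  have : X.skeleton n = ⨆ (i : Fin n), ⨆ (x : X.nonDegenerate i), Subcomplex.ofSimplex x.1 := rfl
  rw [this, hasDimensionLT_iSup_iff]
  intro i
  rw [hasDimensionLT_iSup_iff]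
  intro x
  have hx : Subcomplex.ofSimplex x.1 = Subcomplex.range (SSet.yonedaEquiv.symm x.1) := by
    rw [Subcomplex.range_eq_ofSimplex, Equiv.apply_symm_apply]
  rw [hx]
  have : (Δ[(i : ℕ)] : SSet.{u}).HasDimensionLT n := by
    have h1 : (Δ[(i : ℕ)] : SSet.{u}).HasDimensionLT ((i : ℕ) + 1) := inferInstance
    exact hasDimensionLT_of_le _ ((i : ℕ) + 1) n (by omega)
  infer_instance

theorem main6805 (m : ℕ) (U : SSet.Truncated.{u} m) :
    ((SSet.Truncated.sk m).obj U).HasDimensionLT (m + 1) := by
  set W := (SSet.Truncated.sk m).obj U with hW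
  let V : W.Subcomplex := W.skeleton (m + 1)
  have htr : IsIso ((SSet.truncation m).map V.ι) := by
    have : ∀ X, IsIso (((SSet.truncation m).map V.ι).app X) := by
      intro X
      rw [isIso_iff_bijective]
      constructor
      · intro a b hab
        exact Subtype.ext hab
      · intro y
        have hk : X.unop.obj.len < m + 1 := Nat.lt_succ_of_le X.unop.property
        have : y ∈ (W.skeleton (m+1)).obj (op ⦋X.unop.obj.len⦌) := W.mem_skeleton y hk
        exact ⟨⟨y, this⟩, rfl⟩
    exact NatIso.isIso_of_isIso_app _
  let adj := SSet.skAdj.{u} m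
  let β : U ⟶ (SSet.truncation m).obj (V : SSet) :=
    adj.unit.app U ≫ inv ((SSet.truncation m).map V.ι)
  let β' : W ⟶ (V : SSet) := (adj.homEquiv U (V : SSet)).symm β
  have h : β' ≫ V.ι = 𝟙 W := by
    apply (adj.homEquiv U W).injective
    rw [adj.homEquiv_naturality_right, Equiv.apply_symm_apply]
    dsimp only [β]
    rw [Category.assoc, IsIso.inv_hom_id, Category.comp_id, adj.homEquiv_unit,
      CategoryTheory.Functor.map_id]
    exact (Category.comp_id _).symm
  have htop : V = ⊤ := by
    rw [← top_le_iff]
    intro n x _
    have := congrArg (fun t : W ⟶ W => (ConcreteCategory.hom (t.app n)) x) h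
    simp only [NatTrans.comp_app, NatTrans.id_app] at this
    have h2 : (V.ι.app n) ((β'.app n) x) = x := this
    rw [← h2]
    exact ((β'.app n) x).2
  have h3 : HasDimensionLT (V : SSet) (m+1) := skeleton_hasDimensionLT W (m+1)
  rw [htop] at h3
  exact (hasDimensionLT_subcomplex_top_iff W (m+1)).1 h3


end helpers

/-- The simplicial set freely generated by an `m`-truncated simplicial set (its image under the left
adjoint of `m`-truncation) has only degenerate simplices above dimension `m`. -/
theorem result (m : ℕ) (U : SSet.Truncated.{u} m) : ((SSet.Truncated.sk m).obj U).HasDimensionLT (m + 1) := by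
  exact main6805 m U

end Groth.Agent.S6805
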