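import Groth.Statements.S6818
import Mathlib

set_option autoImplicit false
open CategoryTheory CategoryTheory.Limits Opposite
universe v u
open CategoryTheory CategoryTheory.Abelian

namespace Groth.Agent.S6818
section helpers
open Opposite
set_option linter.unusedSectionVars false
open CategoryTheory CategoryTheory.Limits Opposite
open CategoryTheory.Abelian
variable {A : Type u} [Category.{v} A] [Abelian A]

lemma image_le_iff_factors {X Y : A} (f : X ⟶ Y) (T : Subobject Y) :
    imageSubobject f ≤ T ↔ T.Factors f := by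
  constructor
  · intro h
    have : (imageSubobject f).Factors (𝟙 X ≫ f) := imageSubobject_factors_comp_self f (𝟙 X)
    rw [Category.id_comp] at this
    exact Subobject.factors_of_le f h this
  · intro h
    exact imageSubobject_le f (T.factorThru f h) (T.factorThru_arrow f h)

lemma le_iff_factors {Y : A} (S T : Subobject Y) : S ≤ T ↔ T.Factors S.arrow := by
  constructor
  · intro h
    exact Subobject.factors_of_le _ h (Subobject.factors_self S)
  · intro h
    exact Subobject.le_of_comm (T.factorThru S.arrow h) (T.factorThru_arrow _ h)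

variable (U : SimplicialObject A) (n : ℕ)
  (U' : ∀ m : ℕ, Subobject (U.obj (op (SimplexCategory.mk m))))
  (hU' : ∀ m : ℕ, IsLUB (Set.range (fun φ : Σ i : Fin (n + 1),
    (SimplexCategory.mk m ⟶ SimplexCategory.mk i) => imageSubobject (U.map φ.2.op))) (U' m))

include hU' in
lemma part1 (m m' : ℕ) (ψ : SimplexCategory.mk m' ⟶ SimplexCategory.mk m) :
    imageSubobject ((U' m).arrow ≫ U.map ψ.op) ≤ U' m' := by
  rw [image_le_iff_factors, ← pullback_factors_iff, ← le_iff_factors]
  apply (hU' m).2
  rintro _ ⟨⟨i, φ⟩, rfl⟩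
  dsimp only
  rw [image_le_iff_factors, pullback_factors_iff, ← image_le_iff_factors]
  apply (hU' m').1
  refine ⟨⟨i, ψ ≫ φ⟩, ?_⟩
  dsimp only
  rw [op_comp, U.map_comp]

include hU' in
lemma part2 (i : ℕ) (hi : i ≤ n) : U' i = ⊤ := by
  rw [eq_top_iff]
  refine le_trans ?_ ((hU' i).1 ⟨⟨⟨i, by omega⟩, 𝟙 _⟩, rfl⟩)
  dsimp only
  have : U.map (𝟙 (SimplexCategory.mk i)).op = 𝟙 _ := by
    rw [op_id, U.map_id]
  rw [this, le_iff_factors]
  have := imageSubobject_factors_comp_self (𝟙 (U.obj (op (SimplexCategory.mk i))))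
    (⊤ : Subobject (U.obj (op (SimplexCategory.mk i)))).arrow
  rwa [Category.comp_id] at this


open AlgebraicTopology AlgebraicTopology.DoldKan in
lemma gen_comp_PInfty (m : ℕ) (hm : n < m) (i : Fin (n + 1))
    (φ : SimplexCategory.mk m ⟶ SimplexCategory.mk i) :
    U.map φ.op ≫ (PInfty (X := U)).f m = 0 := by
  obtain ⟨m', rfl⟩ : ∃ m', m = m' + 1 := ⟨m - 1, by omega⟩
  have hni : ¬ Function.Injective φ.toOrderHom := by
    intro hinj
    have := Fintype.card_le_of_injective _ hinj
    simp only [SimplexCategory.len_mk, Fintype.card_fin] at this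
    have := i.2
    omega
  obtain ⟨j, θ', rfl⟩ := SimplexCategory.eq_σ_comp_of_not_injective φ hni
  rw [op_comp, U.map_comp, Category.assoc]
  have := σ_comp_PInfty U j
  rw [SimplicialObject.σ] at this
  rw [this, comp_zero]

open AlgebraicTopology AlgebraicTopology.DoldKan in
include hU' in
lemma part3 (m : ℕ) (hm : n < m) :
    U' m ⊓ AlgebraicTopology.NormalizedMooreComplex.objX U m = ⊥ := by
  rw [eq_bot_iff, le_iff_factors, Subobject.bot_factors_iff_zero]
  set S := U' m ⊓ AlgebraicTopology.NormalizedMooreComplex.objX U m with hS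
  have h1 : S.arrow ≫ (PInfty (X := U)).f m = S.arrow := by
    have hle : S ≤ NormalizedMooreComplex.objX U m := inf_le_right
    have e := HomologicalComplex.congr_hom (inclusionOfMooreComplexMap_comp_PInfty U) m
    rw [HomologicalComplex.comp_f, inclusionOfMooreComplexMap_f] at e
    calc S.arrow ≫ (PInfty (X := U)).f m
        = (S.ofLE _ hle ≫ (NormalizedMooreComplex.objX U m).arrow) ≫ (PInfty (X := U)).f m := by
          rw [Subobject.ofLE_arrow]
      _ = S.ofLE _ hle ≫ ((NormalizedMooreComplex.objX U m).arrow ≫ (PInfty (X := U)).f m) :=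
          Category.assoc _ _ _
      _ = S.ofLE _ hle ≫ (NormalizedMooreComplex.objX U m).arrow :=
          congrArg (S.ofLE _ hle ≫ ·) e
      _ = S.arrow := Subobject.ofLE_arrow _
  have h2 : S.arrow ≫ (PInfty (X := U)).f m = 0 := by
    have hle : S ≤ kernelSubobject ((PInfty (X := U)).f m) := by
      refine le_trans inf_le_left ((hU' m).2 ?_)
      rintro _ ⟨⟨i, φ⟩, rfl⟩
      dsimp only
      rw [image_le_iff_factors]
      exact kernelSubobject_factors _ _ (gen_comp_PInfty U n m hm i φ)
    calc S.arrow ≫ (PInfty (X := U)).f m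
        = (S.ofLE _ hle ≫ (kernelSubobject ((PInfty (X := U)).f m)).arrow) ≫
            (PInfty (X := U)).f m := by rw [Subobject.ofLE_arrow]
      _ = 0 := by rw [Category.assoc, kernelSubobject_arrow_comp, comp_zero]
  rw [← h1, h2]

include hU' in
theorem main6818 : (∀ (m m' : ℕ) (ψ : SimplexCategory.mk m' ⟶ SimplexCategory.mk m),
      imageSubobject ((U' m).arrow ≫ U.map ψ.op) ≤ U' m') ∧ (∀ i : ℕ, i ≤ n → U' i = ⊤) ∧
      (∀ m : ℕ, n < m → U' m ⊓ AlgebraicTopology.NormalizedMooreComplex.objX U m = ⊥) :=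
  ⟨part1 U n U' hU', part2 U n U' hU', part3 U n U' hU'⟩


end helpers

/-- For a simplicial object `U` of an abelian category and `n ≥ 0`, the subobjects `U'_m ⊆ U_m`
generated by the images of all `U_i ⟶ U_m` induced by maps `[m] ⟶ [i]` with `i ≤ n` form a
simplicial subobject equal to `U` in dimensions `≤ n` whose normalized part vanishes in dimensions
`> n`. Here the normalized subobject of `U_m` is the joint kernel of the faces `d_1, …, d_m`; the
published statement uses the faces `d_0, …, d_{m-1}`, the mirror-image convention, and both versions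
hold. -/
theorem result {A : Type u} [Category.{v} A] [Abelian A] (U : SimplicialObject A) (n : ℕ) (U' : ∀ m : ℕ, Subobject (U.obj (op (SimplexCategory.mk m)))) (hU' : ∀ m : ℕ, IsLUB (Set.range (fun φ : Σ i : Fin (n + 1), (SimplexCategory.mk m ⟶ SimplexCategory.mk i) => imageSubobject (U.map φ.2.op))) (U' m)) : (∀ (m m' : ℕ) (ψ : SimplexCategory.mk m' ⟶ SimplexCategory.mk m), imageSubobject ((U' m).arrow ≫ U.map ψ.op) ≤ U' m') ∧ (∀ i : ℕ, i ≤ n → U' i = ⊤) ∧ (∀ m : ℕ, n < m → U' m ⊓ AlgebraicTopology.NormalizedMooreComplex.objX U m = ⊥) := by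
  exact main6818 U n U' hU'

end Groth.Agent.S6818
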