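import Groth.Statements.S6806
import Mathlib
import Groth.Agent.S6818

set_option autoImplicit false
open CategoryTheory CategoryTheory.Limits
universe v u
open CategoryTheory CategoryTheory.Abelian

namespace Groth.Agent.S6806
section helpers
open Opposite
set_option linter.unusedSectionVars false
open CategoryTheory CategoryTheory.Limits Opposite
variable {A : Type u} [Category.{v} A] [Abelian A] (W : SimplicialObject A) (m : ℕ)

/-- the subobject of `W_k` generated by degrees `≤ m` -/
noncomputable def gen (k : ℕ) : Subobject (W.obj (op (SimplexCategory.mk k))) :=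
  letI : Fintype (Σ i : Fin (m + 1), (SimplexCategory.mk k ⟶ SimplexCategory.mk i)) :=
    Fintype.ofFinite _
  Finset.univ.sup (fun φ : Σ i : Fin (m + 1), (SimplexCategory.mk k ⟶ SimplexCategory.mk i) =>
    imageSubobject (W.map φ.2.op))

lemma gen_isLUB (k : ℕ) : IsLUB (Set.range (fun φ : Σ i : Fin (m + 1),
    (SimplexCategory.mk k ⟶ SimplexCategory.mk i) => imageSubobject (W.map φ.2.op))) (gen W m k) := by
  let _ : Fintype (Σ i : Fin (m + 1), (SimplexCategory.mk k ⟶ SimplexCategory.mk i)) :=
    Fintype.ofFinite _
  constructor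
  · rintro _ ⟨φ, rfl⟩
    exact Finset.le_sup (f := fun φ : Σ i : Fin (m + 1),
      (SimplexCategory.mk k ⟶ SimplexCategory.mk i) => imageSubobject (W.map φ.2.op))
      (Finset.mem_univ φ)
  · intro T hT
    exact Finset.sup_le (fun φ _ => hT ⟨φ, rfl⟩)

lemma gen_factors {Δ Δ' : SimplexCategoryᵒᵖ} (ψ : Δ ⟶ Δ') :
    (gen W m Δ'.unop.len).Factors ((gen W m Δ.unop.len).arrow ≫ W.map ψ) :=
  (Groth.Agent.S6818.image_le_iff_factors _ _).1
    ((Groth.Agent.S6818.result W m (gen W m) (gen_isLUB W m)).1 _ _ ψ.unop)

lemma gen_top (i : ℕ) (hi : i ≤ m) : gen W m i = ⊤ :=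
  (Groth.Agent.S6818.result W m (gen W m) (gen_isLUB W m)).2.1 i hi

lemma gen_inf (n : ℕ) (hn : m < n) :
    gen W m n ⊓ AlgebraicTopology.NormalizedMooreComplex.objX W n = ⊥ :=
  (Groth.Agent.S6818.result W m (gen W m) (gen_isLUB W m)).2.2 n hn

/-- the simplicial subobject generated by degrees `≤ m`. -/
noncomputable def V : SimplicialObject A where
  obj Δ := (gen W m Δ.unop.len : A)
  map {Δ Δ'} ψ := (gen W m Δ'.unop.len).factorThru _ (gen_factors W m ψ)
  map_id Δ := by
    rw [← cancel_mono (gen W m Δ.unop.len).arrow, Subobject.factorThru_arrow]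
    simp
  map_comp {Δ Δ' Δ''} ψ ψ' := by
    rw [← cancel_mono (gen W m Δ''.unop.len).arrow, Subobject.factorThru_arrow, Category.assoc,
      Subobject.factorThru_arrow, Subobject.factorThru_arrow_assoc, W.map_comp, Category.assoc]

/-- the inclusion `V ⟶ W`. -/
noncomputable def ι : V W m ⟶ W where
  app Δ := (gen W m Δ.unop.len).arrow
  naturality {Δ Δ'} ψ := by
    dsimp [V]
    rw [Subobject.factorThru_arrow]

instance (Δ : SimplexCategoryᵒᵖ) : Mono ((ι W m).app Δ) :=
  inferInstanceAs (Mono (gen W m Δ.unop.len).arrow)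

lemma isIso_ι_app (Δ : SimplexCategoryᵒᵖ) (h : Δ.unop.len ≤ m) : IsIso ((ι W m).app Δ) := by
  have : IsIso (gen W m Δ.unop.len).arrow :=
    (Subobject.isIso_arrow_iff_eq_top _).2 (gen_top W m _ h)
  exact this


section
variable [∀ F : (SimplexCategory.Truncated m)ᵒᵖ ⥤ A,
    (SimplexCategory.Truncated.inclusion m).op.HasLeftKanExtension F]
  (U : SimplicialObject.Truncated A m)

theorem gen_eq_top_sk (k : ℕ) : gen ((SimplicialObject.Truncated.sk m).obj U) m k = ⊤ := by
  set W := (SimplicialObject.Truncated.sk m).obj U with hW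
  have htr : IsIso ((SimplicialObject.truncation m).map (ι W m)) := by
    have : ∀ X, IsIso (((SimplicialObject.truncation m).map (ι W m)).app X) := by
      intro X
      exact isIso_ι_app W m _ X.unop.property
    exact NatIso.isIso_of_isIso_app _
  let adj := SimplicialObject.skAdj (C := A) m
  let β : U ⟶ (SimplicialObject.truncation m).obj (V W m) :=
    adj.unit.app U ≫ inv ((SimplicialObject.truncation m).map (ι W m))
  let β' : W ⟶ V W m := (adj.homEquiv U (V W m)).symm β
  have h : β' ≫ ι W m = 𝟙 W := by
    apply (adj.homEquiv U W).injective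
    rw [adj.homEquiv_naturality_right, Equiv.apply_symm_apply]
    dsimp only [β]
    rw [Category.assoc, IsIso.inv_hom_id, Category.comp_id, adj.homEquiv_unit,
      CategoryTheory.Functor.map_id]
    exact (Category.comp_id _).symm
  have hs : IsSplitEpi ((ι W m).app (op (SimplexCategory.mk k))) :=
    ⟨⟨β'.app _, by rw [← NatTrans.comp_app, h]; rfl⟩⟩
  have : IsIso (gen W m k).arrow :=
    isIso_of_mono_of_isSplitEpi ((ι W m).app (op (SimplexCategory.mk k)))
  exact (Subobject.isIso_arrow_iff_eq_top _).1 this

theorem main6806 (n : ℕ) (hn : m < n) :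
    AlgebraicTopology.NormalizedMooreComplex.objX ((SimplicialObject.Truncated.sk m).obj U) n = ⊥ := by
  have h := gen_inf ((SimplicialObject.Truncated.sk m).obj U) m n hn
  rwa [gen_eq_top_sk, top_inf_eq] at h

end


end helpers

/-- For an `m`-truncated simplicial object `U` of an abelian category, the normalized Moore complex of
its free extension `i_{m!} U` (left adjoint of truncation) is zero in every degree `n > m`. Here the
normalized complex in degree `n` is the intersection of the kernels of the faces `d_1, …, d_n`; the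
published statement intersects the kernels of `d_0, …, d_{n-1}` instead, and the two versions
correspond under reversal of the ordering of each `[n]`, so both vanish. -/
theorem result {A : Type u} [Category.{v} A] [Abelian A] (m : ℕ) [∀ F : (SimplexCategory.Truncated m)ᵒᵖ ⥤ A, (SimplexCategory.Truncated.inclusion m).op.HasLeftKanExtension F] (U : SimplicialObject.Truncated A m) (n : ℕ) (hn : m < n) : AlgebraicTopology.NormalizedMooreComplex.objX ((SimplicialObject.Truncated.sk m).obj U) n = ⊥ := by
  exact main6806 m U n hn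

end Groth.Agent.S6806
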