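import Groth.Statements.S6807
import Mathlib
import Groth.Agent.Lib.Helper10.MLSeq
import Groth.Agent.S6786

set_option autoImplicit false
open CategoryTheory CategoryTheory.Limits
universe u
open HomAlg3

namespace Groth.Agent.S6807
section helpers
set_option linter.unusedSectionVars false
set_option linter.unusedVariables false
open CategoryTheory.Limits Opposite Groth.Agent.Helper10.MLSeq

/-- variant of the Mittag-Leffler extension lemma without injectivity -/
theorem ml_of_exact {A B C : ℕᵒᵖ ⥤ AddCommGrpCat.{u}} (a : A ⟶ B) (b : B ⟶ C)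
    (hb : ∀ i, Function.Surjective (b.app i).hom)
    (hex : ∀ i, (b.app i).hom.ker = (a.app i).hom.range)
    (hC : ∃ (C₀ : AddCommGrpCat.{u}) (c : (Functor.const ℕᵒᵖ).obj C₀ ⟶ C), DerCA.IsEssConstant C C₀ c)
    (hA : (A ⋙ forget AddCommGrpCat).IsMittagLeffler) :
    (B ⋙ forget AddCommGrpCat).IsMittagLeffler := by
  obtain ⟨C₀, c, i₀, s, hs, hess⟩ := hC
  have hc : ∀ {i j : ℕᵒᵖ} (f : i ⟶ j) (t : C₀), (C.map f).hom ((c.app i).hom t) = (c.app j).hom t := by
    intro i j f t
    have := nat_apply c f t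
    exact this
  have hess' : ∀ j : ℕ, ∃ (k : ℕ) (hi : i₀ ≤ k) (hj : j ≤ k), ∀ z : C.obj (op k),
      (C.map (homOfLE hj).op).hom z = (c.app (op j)).hom (s.hom ((C.map (homOfLE hi).op).hom z)) := by
    intro j
    obtain ⟨k, hi, hj, h⟩ := hess j
    refine ⟨k, hi, hj, fun z => ?_⟩
    have := ConcreteCategory.congr_hom h z
    exact this
  intro j
  obtain ⟨i₁, f₁, hf₁⟩ := hA j
  obtain ⟨k, hi, hj, hk⟩ := hess' i₁.unop
  refine ⟨op k, (homOfLE hj).op ≫ f₁, ?_⟩
  intro l g
  rintro _ ⟨y, rfl⟩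
  change B.obj (op k) at y
  let L : ℕᵒᵖ := op (max l.unop k)
  let fl : L ⟶ l := (homOfLE (le_max_left _ _)).op
  let fk : L ⟶ op k := (homOfLE (le_max_right _ _)).op
  let t : C₀ := s.hom ((C.map (homOfLE hi).op).hom ((b.app (op k)).hom y))
  obtain ⟨y', hy'⟩ := hb L ((c.app L).hom t)
  have hcomm : fl ≫ g = fk ≫ (homOfLE hj).op ≫ f₁ := Subsingleton.elim _ _
  have h1 : (B.map (homOfLE hj).op).hom y - (B.map (fk ≫ (homOfLE hj).op)).hom y' ∈
      (a.app i₁).hom.range := by
    rw [← hex, AddMonoidHom.mem_ker, map_sub, ← nat_apply, ← nat_apply, hy', hc, hk, sub_self]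
  obtain ⟨α, hα⟩ := h1
  obtain ⟨α', hα'⟩ := hf₁ (fk ≫ (homOfLE hj).op ≫ f₁) ⟨α, rfl⟩
  have hα'' : (A.map (fk ≫ (homOfLE hj).op ≫ f₁)).hom α' = (A.map f₁).hom α := hα'
  refine ⟨(B.map fl).hom (y' + (a.app L).hom α'), ?_⟩
  change (B.map g).hom ((B.map fl).hom (y' + (a.app L).hom α')) =
    (B.map ((homOfLE hj).op ≫ f₁)).hom y
  rw [← map_comp_apply, hcomm, map_add, nat_apply, hα'', ← nat_apply, hα, map_sub,
    map_comp_apply B (homOfLE hj).op f₁, ← map_comp_apply B (fk ≫ (homOfLE hj).op) f₁,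
    Category.assoc]
  abel


section complexes

abbrev Cx := HomologicalComplex AddCommGrpCat.{u} (ComplexShape.up ℤ)

/-- `iCycles` as a natural transformation -/
noncomputable def iCyclesNat (j : ℤ) :
    HomologicalComplex.cyclesFunctor AddCommGrpCat.{u} (ComplexShape.up ℤ) j ⟶
      HomologicalComplex.eval AddCommGrpCat.{u} (ComplexShape.up ℤ) j where
  app C := C.iCycles j
  naturality C D φ := HomologicalComplex.cyclesMap_i φ j

lemma toCycles_nat {C D : Cx.{u}} (φ : C ⟶ D) (i j : ℤ) :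
    φ.f i ≫ D.toCycles i j = C.toCycles i j ≫ HomologicalComplex.cyclesMap φ j := by
  rw [← cancel_mono (D.iCycles j)]
  simp

/-- `toCycles` as a natural transformation -/
noncomputable def toCyclesNat (i j : ℤ) :
    HomologicalComplex.eval AddCommGrpCat.{u} (ComplexShape.up ℤ) i ⟶
      HomologicalComplex.cyclesFunctor AddCommGrpCat.{u} (ComplexShape.up ℤ) j where
  app C := C.toCycles i j
  naturality C D φ := toCycles_nat φ i j

variable (C : Cx.{u})

lemma ker_π_eq (i j : ℤ) (hij : i + 1 = j) :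
    (C.homologyπ j).hom.ker = (C.toCycles i j).hom.range := by
  have hprev : (ComplexShape.up ℤ).prev j = i := by simp [← hij]
  have hex : (ShortComplex.mk (C.toCycles i j) (C.homologyπ j)
      (C.toCycles_comp_homologyπ i j)).Exact :=
    ShortComplex.exact_of_g_is_cokernel _ (C.homologyIsCokernel i j hprev)
  rw [ShortComplex.ab_exact_iff_range_eq_ker] at hex
  exact hex.symm

lemma π_surj (j : ℤ) : Function.Surjective (C.homologyπ j).hom := by
  have : Epi (C.homologyπ j) := inferInstance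
  exact (AddCommGrpCat.epi_iff_surjective _).1 this

lemma iCycles_inj (j : ℤ) : Function.Injective (C.iCycles j).hom := by
  have : Mono (C.iCycles j) := inferInstance
  exact (AddCommGrpCat.mono_iff_injective _).1 this

lemma ker_d_eq (i j : ℤ) (hij : i + 1 = j) :
    (C.d i j).hom.ker = (C.iCycles i).hom.range := by
  have hnext : (ComplexShape.up ℤ).next i = j := by simp [← hij]
  have hex : (ShortComplex.mk (C.iCycles i) (C.d i j) (C.iCycles_d i j)).Exact :=
    ShortComplex.exact_of_f_is_kernel _ (C.cyclesIsKernel i j hnext)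
  rw [ShortComplex.ab_exact_iff_range_eq_ker] at hex
  exact hex.symm

lemma ker_toCycles_eq (i j : ℤ) (hij : i + 1 = j) :
    (C.toCycles i j).hom.ker = (C.iCycles i).hom.range := by
  rw [← ker_d_eq C i j hij]
  ext x
  rw [AddMonoidHom.mem_ker, AddMonoidHom.mem_ker]
  have h : (C.d i j).hom x = (C.iCycles j).hom ((C.toCycles i j).hom x) := by
    have := C.toCycles_i i j
    exact (ConcreteCategory.congr_hom this x).symm
  rw [h]
  constructor
  · intro hx; rw [hx, map_zero]
  · intro hx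
    apply iCycles_inj C j
    rw [hx, map_zero]

end complexes


section main

variable (K : ℕᵒᵖ ⥤ Cx.{u}) (n : ℤ)

noncomputable abbrev Kj (j : ℤ) : ℕᵒᵖ ⥤ AddCommGrpCat.{u} := K ⋙ HomologicalComplex.eval _ _ j
noncomputable abbrev Zj (j : ℤ) : ℕᵒᵖ ⥤ AddCommGrpCat.{u} := K ⋙ HomologicalComplex.cyclesFunctor _ _ j
noncomputable abbrev Hj (j : ℤ) : ℕᵒᵖ ⥤ AddCommGrpCat.{u} := K ⋙ HomologicalComplex.homologyFunctor _ _ j

noncomputable def ιZ (j : ℤ) : Zj K j ⟶ Kj K j := Functor.whiskerLeft K (iCyclesNat j)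
noncomputable def tZ (i j : ℤ) : Kj K i ⟶ Zj K j := Functor.whiskerLeft K (toCyclesNat i j)
noncomputable def πH (j : ℤ) : Zj K j ⟶ Hj K j :=
  Functor.whiskerLeft K (HomologicalComplex.natTransHomologyπ _ _ j)

lemma ιZ_app (j : ℤ) (i : ℕᵒᵖ) : (ιZ K j).app i = (K.obj i).iCycles j := rfl
lemma tZ_app (i' j : ℤ) (i : ℕᵒᵖ) : (tZ K i' j).app i = (K.obj i).toCycles i' j := rfl
lemma πH_app (j : ℤ) (i : ℕᵒᵖ) : (πH K j).app i = (K.obj i).homologyπ j := rfl

/-- the comparison iso in each degree -/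
noncomputable def evIso (j : ℤ) : (limit K).X j ≅ limit (Kj K j) :=
  preservesLimitIso (HomologicalComplex.eval _ _ j) K

lemma evIso_π (j : ℤ) (i : ℕᵒᵖ) (x : (limit K).X j) :
    (limit.π (Kj K j) i).hom ((evIso K j).hom.hom x) = ((limit.π K i).f j).hom x := by
  have := preservesLimitIso_hom_π (HomologicalComplex.eval AddCommGrpCat.{u} (ComplexShape.up ℤ) j) K i
  exact ConcreteCategory.congr_hom this x

lemma E1 (j : ℤ) (x y : (limit K).X j)
    (h : ∀ i, ((limit.π K i).f j).hom x = ((limit.π K i).f j).hom y) : x = y := by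
  have h1 : (evIso K j).hom.hom x = (evIso K j).hom.hom y := by
    apply lim_ext
    intro i
    rw [evIso_π, evIso_π, h]
  have h2 := congrArg (evIso K j).inv.hom h1
  have e : ∀ t, (evIso K j).inv.hom ((evIso K j).hom.hom t) = t := fun t =>
    ConcreteCategory.congr_hom (evIso K j).hom_inv_id t
  rwa [e, e] at h2

lemma E2 (j : ℤ) (s : ∀ i : ℕᵒᵖ, (K.obj i).X j)
    (hs : ∀ ⦃i i' : ℕᵒᵖ⦄ (f : i ⟶ i'), ((K.map f).f j).hom (s i) = s i') :
    ∃ x : (limit K).X j, ∀ i, ((limit.π K i).f j).hom x = s i := by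
  obtain ⟨ξ, hξ⟩ := exists_lim (Kj K j) s hs
  refine ⟨(evIso K j).inv.hom ξ, fun i => ?_⟩
  rw [← evIso_π]
  have e : (evIso K j).hom.hom ((evIso K j).inv.hom ξ) = ξ :=
    ConcreteCategory.congr_hom (evIso K j).inv_hom_id ξ
  rw [e, hξ]


variable (h2 : ((K ⋙ HomologicalComplex.eval _ _ (n - 2)) ⋙ forget AddCommGrpCat).IsMittagLeffler)
  (h1 : ((K ⋙ HomologicalComplex.eval _ _ (n - 1)) ⋙ forget AddCommGrpCat).IsMittagLeffler)
  (hH : ∃ (C₀ : AddCommGrpCat.{u}) (c : (Functor.const ℕᵒᵖ).obj C₀ ⟶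
    K ⋙ HomologicalComplex.homologyFunctor _ _ (n - 1)),
    DerCA.IsEssConstant (K ⋙ HomologicalComplex.homologyFunctor _ _ (n - 1)) C₀ c)

include h2 hH in
lemma Z_ml : (Zj K (n - 1) ⋙ forget AddCommGrpCat).IsMittagLeffler := by
  refine ml_of_exact (tZ K (n - 2) (n - 1)) (πH K (n - 1)) ?_ ?_ hH h2
  · intro i
    exact π_surj (K.obj i) (n - 1)
  · intro i
    exact ker_π_eq (K.obj i) (n - 2) (n - 1) (by ring)

include h1 in
lemma app1 : Function.Surjective (limMap (πH K n)).hom := by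
  have key := Groth.Agent.S6786.result (tZ K (n - 1) n) (πH K n) (0 : Hj K n ⟶ Hj K n)
    (fun i => ker_π_eq (K.obj i) (n - 1) n (by ring))
    (fun i => by
      have hs : (((πH K n).app i).hom).range = ⊤ :=
        AddMonoidHom.range_eq_top.2 (π_surj (K.obj i) n)
      rw [hs]
      ext x
      simp) h1
  intro h
  have hh : h ∈ (limMap (0 : Hj K n ⟶ Hj K n)).hom.ker := by
    rw [AddMonoidHom.mem_ker]
    apply lim_ext
    intro i
    rw [limMap_π_hom_apply]
    simp
  rw [key] at hh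
  exact hh

include h2 hH in
lemma app2 : (limMap (πH K n)).hom.ker = (limMap (tZ K (n - 1) n)).hom.range :=
  Groth.Agent.S6786.result (ιZ K (n - 1)) (tZ K (n - 1) n) (πH K n)
    (fun i => ker_toCycles_eq (K.obj i) (n - 1) n (by ring))
    (fun i => ker_π_eq (K.obj i) (n - 1) n (by ring))
    (Z_ml K n h2 hH)


/-- the comparison map -/
noncomputable abbrev P := limit.post K (HomologicalComplex.homologyFunctor AddCommGrpCat.{u} (ComplexShape.up ℤ) n)

lemma P_π (i : ℕᵒᵖ) (η : (limit K).homology n) :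
    (limit.π (Hj K n) i).hom ((P K n).hom η) =
      (HomologicalComplex.homologyMap (limit.π K i) n).hom η := by
  have := limit.post_π K (HomologicalComplex.homologyFunctor AddCommGrpCat.{u} (ComplexShape.up ℤ) n) i
  exact ConcreteCategory.congr_hom this η

lemma hπ_nat {C D : Cx.{u}} (φ : C ⟶ D) (z : C.cycles n) :
    (HomologicalComplex.homologyMap φ n).hom ((C.homologyπ n).hom z) =
      (D.homologyπ n).hom ((HomologicalComplex.cyclesMap φ n).hom z) := by
  have := HomologicalComplex.homologyπ_naturality φ n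
  exact ConcreteCategory.congr_hom this z

lemma ci_nat {C D : Cx.{u}} (φ : C ⟶ D) (z : C.cycles n) :
    (D.iCycles n).hom ((HomologicalComplex.cyclesMap φ n).hom z) =
      (φ.f n).hom ((C.iCycles n).hom z) := by
  have := HomologicalComplex.cyclesMap_i φ n
  exact ConcreteCategory.congr_hom this z

lemma d_nat {C D : Cx.{u}} (φ : C ⟶ D) (i j : ℤ) (x : C.X i) :
    (φ.f j).hom ((C.d i j).hom x) = (D.d i j).hom ((φ.f i).hom x) := by
  have := φ.comm i j
  exact (ConcreteCategory.congr_hom this x).symm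

lemma tc_i (C : Cx.{u}) (i j : ℤ) (x : C.X i) :
    (C.iCycles j).hom ((C.toCycles i j).hom x) = (C.d i j).hom x := by
  have := C.toCycles_i i j
  exact ConcreteCategory.congr_hom this x

include h1 in
lemma P_surj : Function.Surjective (P K n).hom := by
  intro h
  obtain ⟨ζ, hζ⟩ := app1 K n h1 h
  -- components
  let xs : ∀ i : ℕᵒᵖ, (K.obj i).X n := fun i => ((K.obj i).iCycles n).hom ((limit.π (Zj K n) i).hom ζ)
  have hxs : ∀ ⦃i i' : ℕᵒᵖ⦄ (f : i ⟶ i'), ((K.map f).f n).hom (xs i) = xs i' := by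
    intro i i' f
    have e1 := nat_apply (ιZ K n) f ((limit.π (Zj K n) i).hom ζ)
    rw [lim_π_map] at e1
    exact e1
  obtain ⟨x, hx⟩ := E2 K n xs hxs
  have hdx : x ∈ ((limit K).d n (n + 1)).hom.ker := by
    rw [AddMonoidHom.mem_ker]
    apply E1 K (n + 1)
    intro i
    rw [d_nat, hx, map_zero]
    have := (K.obj i).iCycles_d n (n + 1)
    exact ConcreteCategory.congr_hom this _
  rw [ker_d_eq (limit K) n (n + 1) rfl] at hdx
  obtain ⟨z, hz⟩ := hdx
  refine ⟨((limit K).homologyπ n).hom z, ?_⟩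
  apply lim_ext
  intro i
  rw [P_π, hπ_nat, ← hζ, limMap_π_hom_apply, πH_app]
  congr 1
  apply iCycles_inj (K.obj i) n
  rw [ci_nat, hz, hx]

include h2 hH in
lemma P_inj : Function.Injective (P K n).hom := by
  rw [injective_iff_map_eq_zero]
  intro η hη
  obtain ⟨z, rfl⟩ := π_surj (limit K) n η
  let ζs : ∀ i : ℕᵒᵖ, (K.obj i).cycles n := fun i =>
    (HomologicalComplex.cyclesMap (limit.π K i) n).hom z
  have hζs : ∀ ⦃i i' : ℕᵒᵖ⦄ (f : i ⟶ i'), ((Zj K n).map f).hom (ζs i) = ζs i' := by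
    intro i i' f
    show (HomologicalComplex.cyclesMap (K.map f) n).hom
      ((HomologicalComplex.cyclesMap (limit.π K i) n).hom z) = _
    have e : HomologicalComplex.cyclesMap (limit.π K i) n ≫ HomologicalComplex.cyclesMap (K.map f) n =
        HomologicalComplex.cyclesMap (limit.π K i') n := by
      rw [← HomologicalComplex.cyclesMap_comp, limit.w]
    exact ConcreteCategory.congr_hom e z
  obtain ⟨ζ, hζ⟩ := exists_lim (Zj K n) ζs hζs
  have hker : ζ ∈ (limMap (πH K n)).hom.ker := by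
    rw [AddMonoidHom.mem_ker]
    apply lim_ext
    intro i
    rw [limMap_π_hom_apply, hζ, πH_app, map_zero]
    have e4 : ((K.obj i).homologyπ n).hom ((HomologicalComplex.cyclesMap (limit.π K i) n).hom z) = 0 := by
      rw [← hπ_nat, ← P_π, hη, map_zero]
      rfl
    exact e4
  rw [app2 K n h2 hH] at hker
  obtain ⟨y, hy⟩ := hker
  let ys : ∀ i : ℕᵒᵖ, (K.obj i).X (n - 1) := fun i => (limit.π (Kj K (n - 1)) i).hom y
  have hys : ∀ ⦃i i' : ℕᵒᵖ⦄ (f : i ⟶ i'), ((K.map f).f (n - 1)).hom (ys i) = ys i' :=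
    fun i i' f => lim_π_map (Kj K (n - 1)) y f
  obtain ⟨y', hy'⟩ := E2 K (n - 1) ys hys
  have hz : ((limit K).toCycles (n - 1) n).hom y' = z := by
    apply iCycles_inj (limit K) n
    rw [tc_i]
    apply E1 K n
    intro i
    rw [d_nat, hy', ← ci_nat]
    show ((K.obj i).d (n - 1) n).hom (ys i) = ((K.obj i).iCycles n).hom (ζs i)
    have e3 : ζs i = ((K.obj i).toCycles (n - 1) n).hom (ys i) := by
      rw [← hζ i, ← hy, limMap_π_hom_apply]
      rfl
    rw [e3, tc_i]
  rw [← hz]
  have := (limit K).toCycles_comp_homologyπ (n - 1) n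
  exact ConcreteCategory.congr_hom this y'

include h1 h2 hH in
theorem main6807 : IsIso (limit.post K (HomologicalComplex.homologyFunctor AddCommGrpCat.{u} (ComplexShape.up ℤ) n)) := by
  rw [ConcreteCategory.isIso_iff_bijective]
  exact ⟨P_inj K n h2 hH, P_surj K n h1⟩

end main


end helpers

/-- For an inverse system of cochain complexes of abelian groups over `ℕ` whose terms in degrees `n-2`
and `n-1` form Mittag-Leffler systems and whose degree-`(n-1)` cohomologies form an essentially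
constant system, the canonical map from the degree-`n` cohomology of the limit complex to the limit
of the degree-`n` cohomologies is an isomorphism. (The published statement is for four-term
complexes in degrees `-2, …, 1`; only those four degrees of a longer complex enter.) -/
theorem result (K : ℕᵒᵖ ⥤ HomologicalComplex AddCommGrpCat.{u} (ComplexShape.up ℤ)) (n : ℤ) (h2 : ((K ⋙ HomologicalComplex.eval _ _ (n - 2)) ⋙ forget AddCommGrpCat).IsMittagLeffler) (h1 : ((K ⋙ HomologicalComplex.eval _ _ (n - 1)) ⋙ forget AddCommGrpCat).IsMittagLeffler) (hH : ∃ (C₀ : AddCommGrpCat.{u}) (c : (Functor.const ℕᵒᵖ).obj C₀ ⟶ K ⋙ HomologicalComplex.homologyFunctor _ _ (n - 1)), DerCA.IsEssConstant (K ⋙ HomologicalComplex.homologyFunctor _ _ (n - 1)) C₀ c) : IsIso (limit.post K (HomologicalComplex.homologyFunctor _ _ n)) := by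
  exact main6807 K n h2 h1 hH

end Groth.Agent.S6807
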