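import Groth.Statements.S6808
import Mathlib

set_option autoImplicit false
open CategoryTheory Opposite
universe u
open SSet

namespace Groth.Agent.S6808

/-- A map of simplicial sets preserving non-degeneracy of simplices and injective on non-degenerate
simplices is injective in every dimension. -/
theorem result {U V : SSet.{u}} (f : U ⟶ V) (ha : ∀ (n : ℕ) (x : U.obj (op (SimplexCategory.mk n))), x ∈ U.nonDegenerate n → f.app (op (SimplexCategory.mk n)) x ∈ V.nonDegenerate n) (hb : ∀ n : ℕ, Set.InjOn (f.app (op (SimplexCategory.mk n))) (U.nonDegenerate n)) (n : ℕ) : Function.Injective (f.app (op (SimplexCategory.mk n))) := by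
  intro x x' hxx'
  obtain ⟨m, φ, hφ, y, hy⟩ := U.exists_nonDegenerate x
  obtain ⟨m', φ', hφ', y', hy'⟩ := U.exists_nonDegenerate x'
  have nat : ∀ {a b : ℕ} (ψ : SimplexCategory.mk a ⟶ SimplexCategory.mk b) (z : U.obj (op (SimplexCategory.mk b))),
      f.app (op (SimplexCategory.mk a)) (U.map ψ.op z) = V.map ψ.op (f.app (op (SimplexCategory.mk b)) z) := by
    intro a b ψ z
    have := congrArg (fun g => g z) (f.naturality ψ.op)
    simpa only [types_comp_apply] using this
  have h1 : f.app (op (SimplexCategory.mk n)) x = V.map φ.op (f.app _ y.1) := by rw [hy, nat]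
  have h2 : f.app (op (SimplexCategory.mk n)) x = V.map φ'.op (f.app _ y'.1) := by rw [hxx', hy', nat]
  have hm : m = m' := SSet.unique_nonDegenerate_dim V (f.app (op (SimplexCategory.mk n)) x)
    φ ⟨_, ha m y.1 y.2⟩ h1 φ' ⟨_, ha m' y'.1 y'.2⟩ h2
  subst hm
  have hs := SSet.unique_nonDegenerate_simplex V (f.app (op (SimplexCategory.mk n)) x)
    φ ⟨_, ha m y.1 y.2⟩ h1 φ' ⟨_, ha m y'.1 y'.2⟩ h2
  have hφφ' := SSet.unique_nonDegenerate_map V (f.app (op (SimplexCategory.mk n)) x)
    φ ⟨_, ha m y.1 y.2⟩ h1 φ' ⟨_, ha m y'.1 y'.2⟩ h2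
  have hyy' : y.1 = y'.1 := hb m y.2 y'.2 (congrArg Subtype.val hs)
  rw [hy, hy', hφφ', hyy']

end Groth.Agent.S6808
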