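import Groth.Statements.S6811
import Mathlib
import Groth.Agent.S6800

set_option autoImplicit false
open CategoryTheory CategoryTheory.Limits
universe v u
open CategoryTheory CategoryTheory.SimplicialObject

namespace Groth.Agent.S6811
open CategoryTheory.Limits CategoryTheory.Functor
section
variable {A B D C : Type*} [Category A] [Category B] [Category D] [Category C]

noncomputable def pointwise_of_comp (L₁ : A ⥤ B) (L₂ : B ⥤ D) [L₂.Full] (X : D ⥤ C)
    (h' : (RightExtension.mk X (𝟙 ((L₁ ⋙ L₂) ⋙ X))).IsPointwiseRightKanExtension) :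
    (RightExtension.mk X (𝟙 (L₂ ⋙ X))).IsPointwiseRightKanExtension := by
  intro Y
  have h : ∀ Y, IsLimit ((RightExtension.mk X (𝟙 ((L₁ ⋙ L₂) ⋙ X))).coneAt Y) := h'
  let mkc : ∀ s : Cone (StructuredArrow.proj Y L₂ ⋙ L₂ ⋙ X),
      Cone (StructuredArrow.proj Y (L₁ ⋙ L₂) ⋙ (L₁ ⋙ L₂) ⋙ X) := fun s =>
    { pt := s.pt
      π :=
        { app := fun g => s.π.app ((StructuredArrow.pre Y L₁ L₂).obj g)
          naturality := fun g₁ g₂ φ => by
            have := s.π.naturality ((StructuredArrow.pre Y L₁ L₂).map φ)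
            exact this } }
  have key : ∀ (s : Cone (StructuredArrow.proj Y L₂ ⋙ L₂ ⋙ X)) (j : StructuredArrow Y L₂),
      (h Y).lift (mkc s) ≫ X.map j.hom = s.π.app j := by
    intro s j
    refine (h (L₂.obj j.right)).hom_ext ?_
    rintro ⟨⟨⟨⟩⟩, k, φ⟩
    obtain ⟨ψ, rfl⟩ := L₂.map_surjective φ
    have h1 : (h Y).lift (mkc s) ≫ X.map (j.hom ≫ L₂.map ψ) ≫ 𝟙 _ =
        s.π.app (StructuredArrow.mk (Y := L₁.obj k) (j.hom ≫ L₂.map ψ)) :=
      (h Y).fac (mkc s) (StructuredArrow.mk (j.hom ≫ L₂.map ψ))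
    have h2 : s.π.app (StructuredArrow.mk (Y := L₁.obj k) (j.hom ≫ L₂.map ψ)) =
        s.π.app j ≫ X.map (L₂.map ψ) :=
      (s.w (StructuredArrow.homMk (f := j)
        (f' := StructuredArrow.mk (Y := L₁.obj k) (j.hom ≫ L₂.map ψ)) ψ (by simp))).symm
    have aux : ∀ {P : C} {Y₁ Y₂ Y₃ : D} (l : P ⟶ X.obj Y₁) (a : Y₁ ⟶ Y₂) (b : Y₂ ⟶ Y₃)
        (u : P ⟶ X.obj Y₂) (t : P ⟶ X.obj Y₃), l ≫ X.map (a ≫ b) ≫ 𝟙 _ = t → t = u ≫ X.map b →
        (l ≫ X.map a) ≫ X.map b ≫ 𝟙 _ = u ≫ X.map b ≫ 𝟙 _ := by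
      intro P Y₁ Y₂ Y₃ l a b u t e1 e2
      subst e2
      simpa using e1
    exact aux ((h Y).lift (mkc s)) j.hom (L₂.map ψ) (s.π.app j) _ h1 h2
  exact
    { lift := fun s => (h Y).lift (mkc s)
      fac := fun s j => by
        change (h Y).lift (mkc s) ≫ X.map j.hom ≫ 𝟙 _ = s.π.app j
        rw [Category.comp_id]
        exact key s j
      uniq := fun s m hm => by
        refine (h Y).hom_ext ?_
        intro g
        have h1 := key s ((StructuredArrow.pre Y L₁ L₂).obj g)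
        have h2 : m ≫ X.map g.hom ≫ 𝟙 _ = s.π.app ((StructuredArrow.pre Y L₁ L₂).obj g) :=
          hm ((StructuredArrow.pre Y L₁ L₂).obj g)
        change m ≫ X.map g.hom ≫ 𝟙 _ = (h Y).lift (mkc s) ≫ X.map g.hom ≫ 𝟙 _
        rw [h2, Category.comp_id]
        exact h1.symm }
end


/-- In a category with finite limits, an `n`-coskeletal simplicial object is `m`-coskeletal for every `m
≥ n`. -/
theorem result {C : Type u} [Category.{v} C] [HasFiniteLimits C] (U : SimplicialObject C) {n m : ℕ} (h : n ≤ m) [U.IsCoskeletal n] : U.IsCoskeletal m := by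
  have := Groth.Agent.S6800.result n ((SimplexCategory.Truncated.inclusion n).op ⋙ U)
  have hn : (RightExtension.mk U (𝟙 ((SimplexCategory.Truncated.inclusion n).op ⋙ U))).IsPointwiseRightKanExtension :=
    isPointwiseRightKanExtensionOfIsRightKanExtension _ _
  have hm := pointwise_of_comp (SimplexCategory.Truncated.incl n m h).op (SimplexCategory.Truncated.inclusion m).op U hn
  constructor
  exact hm.isRightKanExtension

end Groth.Agent.S6811
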