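import Groth.Statements.S6812
import Mathlib
import Groth.Agent.S6805

set_option autoImplicit false
open CategoryTheory
universe u
open SSet

namespace Groth.Agent.S6812
section helpers
open Opposite
set_option linter.unusedSectionVars false
set_option autoImplicit false
open CategoryTheory
open SSet Simplicial Opposite

variable (U : SSet.{u}) (n : ℕ)

/-- the counit -/
noncomputable abbrev ε : (SSet.Truncated.sk n).obj ((SSet.truncation n).obj U) ⟶ U :=
  (SSet.skAdj n).counit.app U

instance : ((SSet.Truncated.sk n).obj ((SSet.truncation n).obj U)).HasDimensionLT (n + 1) :=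
  Groth.Agent.S6805.main6805 n _

theorem isIso_tr : IsIso ((SSet.truncation n).map (ε U n)) := by
  have h := (SSet.skAdj.{u} n).right_triangle_components U
  have : IsIso ((SSet.skAdj.{u} n).unit.app ((SSet.truncation n).obj U)) := inferInstance
  have h3 : IsIso ((SSet.skAdj.{u} n).unit.app ((SSet.truncation n).obj U) ≫
      (SSet.truncation n).map (ε U n)) := by
    rw [h]; exact IsIso.id _
  exact IsIso.of_isIso_comp_left ((SSet.skAdj.{u} n).unit.app ((SSet.truncation n).obj U)) _

theorem bij (k : ℕ) (hk : k ≤ n) : Function.Bijective ((ε U n).app (op ⦋k⦌)) := by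
  have := isIso_tr U n
  have h2 : IsIso (((SSet.truncation n).map (ε U n)).app (op ⟨⦋k⦌, hk⟩)) := inferInstance
  rw [isIso_iff_bijective] at h2
  exact h2



/-- shorthand -/
noncomputable abbrev X : SSet.{u} := (SSet.Truncated.sk n).obj ((SSet.truncation n).obj U)

theorem ε_map {j k : ℕ} (f : ⦋j⦌ ⟶ ⦋k⦌) (x : (X U n) _⦋k⦌) :
    (ε U n).app (op ⦋j⦌) ((X U n).map f.op x) = U.map f.op ((ε U n).app (op ⦋k⦌) x) :=
  NatTrans.naturality_apply (ε U n) f.op x

theorem nondeg (j : ℕ) (x : (X U n).nonDegenerate j) :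
    (ε U n).app (op ⦋j⦌) x.1 ∈ U.nonDegenerate j := by
  have hj : j < n + 1 := (X U n).dim_lt_of_nonDegenerate x (n + 1)
  rw [mem_nonDegenerate_iff_notMem_degenerate, SSet.mem_degenerate_iff]
  rintro ⟨i, hi, τ, _, u, hu⟩
  obtain ⟨u', rfl⟩ := (bij U n i (by omega)).2 u
  have h1 : (ε U n).app (op ⦋j⦌) ((X U n).map τ.op u') = (ε U n).app (op ⦋j⦌) x.1 := by
    rw [ε_map]; exact hu
  have h2 := (bij U n j (by omega)).1 h1
  have h3 : x.1 ∈ (X U n).degenerate j := by
    rw [SSet.mem_degenerate_iff]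
    exact ⟨i, hi, τ, inferInstance, u', h2⟩
  exact (mem_nonDegenerate_iff_notMem_degenerate _ _).1 x.2 h3

theorem inj (k : ℕ) : Function.Injective ((ε U n).app (op ⦋k⦌)) := by
  intro x y hxy
  obtain ⟨m₁, f₁, _, x', rfl⟩ := (X U n).exists_nonDegenerate x
  obtain ⟨m₂, f₂, _, y', rfl⟩ := (X U n).exists_nonDegenerate y
  rw [ε_map, ε_map] at hxy
  have hm : m₁ = m₂ := U.unique_nonDegenerate_dim _ f₁ ⟨_, nondeg U n m₁ x'⟩ rfl
    f₂ ⟨_, nondeg U n m₂ y'⟩ hxy
  subst hm
  have hs := U.unique_nonDegenerate_simplex _ f₁ ⟨_, nondeg U n m₁ x'⟩ rfl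
    f₂ ⟨_, nondeg U n m₁ y'⟩ hxy
  have hf := U.unique_nonDegenerate_map _ f₁ ⟨_, nondeg U n m₁ x'⟩ rfl
    f₂ ⟨_, nondeg U n m₁ y'⟩ hxy
  have hm1 : m₁ ≤ n := Nat.le_of_lt_succ ((X U n).dim_lt_of_nonDegenerate x' (n + 1))
  have h4 : x'.1 = y'.1 := (bij U n m₁ hm1).1 (congrArg Subtype.val hs)
  rw [hf, h4]

theorem main6812 : Mono ((SSet.skAdj n).counit.app U) ∧
    SSet.Subcomplex.range ((SSet.skAdj n).counit.app U) = U.skeleton (n + 1) := by
  constructor
  · have : ∀ k, Mono ((ε U n).app k) := by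
      intro k
      induction k using Opposite.rec with | _ k =>
      induction k using SimplexCategory.rec with | _ k =>
      rw [mono_iff_injective]
      exact inj U n k
    exact NatTrans.mono_of_mono_app _
  · apply le_antisymm
    · rw [Subcomplex.le_iff_contains_nonDegenerate]
      rintro k u ⟨x, hx⟩
      have hxn : x ∈ (X U n).nonDegenerate k := by
        rw [mem_nonDegenerate_iff_notMem_degenerate]
        intro hdeg
        have := degenerate_app_apply hdeg (ε U n)
        rw [hx] at this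
        exact (mem_nonDegenerate_iff_notMem_degenerate _ _).1 u.2 this
      have hk : k < n + 1 := (X U n).dim_lt_of_nonDegenerate ⟨x, hxn⟩ (n + 1)
      exact U.mem_skeleton _ hk
    · have : U.skeleton (n+1) = ⨆ (i : Fin (n+1)), ⨆ (x : U.nonDegenerate i), Subcomplex.ofSimplex x.1 := rfl
      rw [this]
      refine iSup_le (fun i => iSup_le (fun x => ?_))
      rw [Subcomplex.ofSimplex_le_iff]
      obtain ⟨x', hx'⟩ := (bij U n i (Nat.le_of_lt_succ i.2)).2 x.1
      exact ⟨x', hx'⟩


end helpers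

/-- For a simplicial set `U`, the counit `i_{n!} sk_n U ⟶ U` of the skeleton adjunction is a
monomorphism whose image is the subcomplex of `U` generated by its simplices of dimension `≤ n`. -/
theorem result (U : SSet.{u}) (n : ℕ) : Mono ((SSet.skAdj n).counit.app U) ∧ SSet.Subcomplex.range ((SSet.skAdj n).counit.app U) = U.skeleton (n + 1) := by
  exact main6812 U n

end Groth.Agent.S6812
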