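import Groth.Statements.S6813
import Mathlib
import Groth.Agent.S6800

set_option autoImplicit false
open CategoryTheory CategoryTheory.Limits
universe v u
open CategoryTheory CategoryTheory.SimplicialObject

namespace Groth.Agent.S6813
open CategoryTheory.Limits CategoryTheory.Functor

/-- For `k ≥ 1` the forgetful functor from the over category `C/X` to `C` (with `C` having finite
limits) commutes with `cosk_k`; stated as: a `k`-coskeletal simplicial object of `C/X` has
`k`-coskeletal underlying simplicial object in `C`. -/
theorem result {C : Type u} [Category.{v} C] [HasFiniteLimits C] (X : C) (k : ℕ) (hk : 1 ≤ k) (V : SimplicialObject (Over X)) [V.IsCoskeletal k] : SimplicialObject.IsCoskeletal (V ⋙ Over.forget X) k := by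
  have : NeZero k := ⟨by omega⟩
  have := Groth.Agent.S6800.result k ((SimplexCategory.Truncated.inclusion k).op ⋙ V)
  have hV : (RightExtension.mk V (𝟙 ((SimplexCategory.Truncated.inclusion k).op ⋙ V))).IsPointwiseRightKanExtension :=
    isPointwiseRightKanExtensionOfIsRightKanExtension _ _
  have hfin : ((SimplexCategory.Truncated.inclusion k).op).Final := inferInstance
  have hW : (RightExtension.mk (V ⋙ Over.forget X)
      (𝟙 ((SimplexCategory.Truncated.inclusion k).op ⋙ V ⋙ Over.forget X))).IsPointwiseRightKanExtension := by
    intro Y
    have hconn : IsConnected (StructuredArrow Y (SimplexCategory.Truncated.inclusion k).op) :=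
      Functor.Final.out Y
    have h1 : IsLimit ((RightExtension.mk V (𝟙 ((SimplexCategory.Truncated.inclusion k).op ⋙ V))).coneAt Y) := hV Y
    have h2 := isLimitOfPreserves (Over.forget X) h1
    refine IsLimit.ofIsoLimit h2 (Cone.ext (Iso.refl _) ?_)
    intro j
    change (V.map j.hom ≫ 𝟙 _).left = 𝟙 _ ≫ (V.map j.hom).left ≫ 𝟙 _
    simp
  constructor
  exact hW.isRightKanExtension

end Groth.Agent.S6813
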