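import Groth.Statements.S6815
import Mathlib

set_option autoImplicit false
open CategoryTheory CategoryTheory.Limits
universe w v u
open CategoryTheory CategoryTheory.SimplicialObject

namespace Groth.Agent.S6815

open Opposite Simplicial

section
variable {C : Type u} [Category.{v} C] {T : Type w} [HasLimitsOfShape (Discrete T) C]

/-- joint monicity of the evaluated projections -/
theorem pi_hom_ext (Y : T → SimplicialObject C) (k : SimplexCategoryᵒᵖ) {W : C}
    (f g : W ⟶ (∏ᶜ Y).obj k) (h : ∀ t, f ≫ (Pi.π Y t).app k = g ≫ (Pi.π Y t).app k) : f = g := by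
  have isLim : IsLimit (((evaluation SimplexCategoryᵒᵖ C).obj k).mapCone (limit.cone (Discrete.functor Y))) :=
    isLimitOfPreserves _ (limit.isLimit _)
  apply isLim.hom_ext
  rintro ⟨t⟩
  exact h t

theorem pi_exists_lift (Y : T → SimplicialObject C) (k : SimplexCategoryᵒᵖ) {W : C}
    (f : ∀ t, W ⟶ (Y t).obj k) : ∃ l : W ⟶ (∏ᶜ Y).obj k, ∀ t, l ≫ (Pi.π Y t).app k = f t := by
  have isLim : IsLimit (((evaluation SimplexCategoryᵒᵖ C).obj k).mapCone (limit.cone (Discrete.functor Y))) :=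
    isLimitOfPreserves _ (limit.isLimit _)
  let c : Cone (Discrete.functor Y ⋙ (evaluation SimplexCategoryᵒᵖ C).obj k) :=
    { pt := W, π := Discrete.natTrans (fun t => f t.as) }
  refine ⟨isLim.lift c, fun t => ?_⟩
  exact isLim.fac c ⟨t⟩

noncomputable def piLift (Y : T → SimplicialObject C) (k : SimplexCategoryᵒᵖ) {W : C}
    (f : ∀ t, W ⟶ (Y t).obj k) : W ⟶ (∏ᶜ Y).obj k := (pi_exists_lift Y k f).choose

@[reassoc (attr := simp)]
theorem piLift_π (Y : T → SimplicialObject C) (k : SimplexCategoryᵒᵖ) {W : C}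
    (f : ∀ t, W ⟶ (Y t).obj k) (t : T) : piLift Y k f ≫ (Pi.π Y t).app k = f t :=
  (pi_exists_lift Y k f).choose_spec t

@[reassoc]
theorem δ_π (Y : T → SimplicialObject C) (t : T) {n : ℕ} (i : Fin (n + 2)) :
    (∏ᶜ Y).δ i ≫ (Pi.π Y t).app (op ⦋n⦌) = (Pi.π Y t).app (op ⦋n + 1⦌) ≫ (Y t).δ i :=
  (Pi.π Y t).naturality _

@[reassoc]
theorem σ_π (Y : T → SimplicialObject C) (t : T) {n : ℕ} (i : Fin (n + 1)) :
    (∏ᶜ Y).σ i ≫ (Pi.π Y t).app (op ⦋n + 1⦌) = (Pi.π Y t).app (op ⦋n⦌) ≫ (Y t).σ i :=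
  (Pi.π Y t).naturality _

@[reassoc]
theorem map_π {X Y : T → SimplicialObject C} (a : ∀ t, X t ⟶ Y t) (t : T) (k : SimplexCategoryᵒᵖ) :
    (Limits.Pi.map a).app k ≫ (Pi.π Y t).app k = (Pi.π X t).app k ≫ (a t).app k := by
  rw [← NatTrans.comp_app, ← NatTrans.comp_app, Limits.Pi.map_π]

noncomputable def prodHomotopy {X Y : T → SimplicialObject C} (a b : ∀ t, X t ⟶ Y t)
    (H : ∀ t, SimplicialObject.Homotopy (a t) (b t)) :
    SimplicialObject.Homotopy (Limits.Pi.map a) (Limits.Pi.map b) where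
  h {n} i := piLift Y (op ⦋n + 1⦌) (fun t => (Pi.π X t).app (op ⦋n⦌) ≫ (H t).h i)
  h_zero_comp_δ_zero n := by
    apply pi_hom_ext
    intro t
    simp only [Category.assoc, δ_π, piLift_π_assoc, map_π, (H t).h_zero_comp_δ_zero]
  h_last_comp_δ_last n := by
    apply pi_hom_ext
    intro t
    simp only [Category.assoc, δ_π, piLift_π_assoc, map_π, (H t).h_last_comp_δ_last]
  h_succ_comp_δ_castSucc_of_lt i j hij := by
    apply pi_hom_ext
    intro t
    simp only [Category.assoc, δ_π, piLift_π_assoc, piLift_π, δ_π_assoc,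
      (H t).h_succ_comp_δ_castSucc_of_lt i j hij]
  h_succ_comp_δ_castSucc_succ j := by
    apply pi_hom_ext
    intro t
    simp only [Category.assoc, δ_π, piLift_π_assoc, (H t).h_succ_comp_δ_castSucc_succ j]
  h_castSucc_comp_δ_succ_of_lt i j hji := by
    apply pi_hom_ext
    intro t
    simp only [Category.assoc, δ_π, piLift_π_assoc, piLift_π, δ_π_assoc,
      (H t).h_castSucc_comp_δ_succ_of_lt i j hji]
  h_comp_σ_castSucc_of_le i j hij := by
    apply pi_hom_ext
    intro t
    simp only [Category.assoc, σ_π, piLift_π_assoc, piLift_π, σ_π_assoc,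
      (H t).h_comp_σ_castSucc_of_le i j hij]
  h_comp_σ_succ_of_lt i j hji := by
    apply pi_hom_ext
    intro t
    simp only [Category.assoc, σ_π, piLift_π_assoc, piLift_π, σ_π_assoc,
      (H t).h_comp_σ_succ_of_lt i j hji]

end

/-- Homotopies between the factors of two product morphisms of simplicial objects assemble to a homotopy
between the products. -/
theorem result {C : Type u} [Category.{v} C] {T : Type w} [HasLimitsOfShape (Discrete T) C] {X Y : T → SimplicialObject C} (a b : ∀ t, X t ⟶ Y t) (h : ∀ t, Nonempty (SimplicialObject.Homotopy (a t) (b t))) : Nonempty (SimplicialObject.Homotopy (Limits.Pi.map a) (Limits.Pi.map b)) := by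
  exact ⟨prodHomotopy a b (fun t => (h t).some)⟩

end Groth.Agent.S6815
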