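import Groth.Statements.S6816
import Mathlib

set_option autoImplicit false
open CategoryTheory CategoryTheory.Limits
universe v u
open CochainComplex

namespace Groth.Agent.S6816
open CategoryTheory.Limits CategoryTheory.Category
set_option backward.defeqAttrib.useBackward true in
set_option backward.isDefEq.respectTransparency false in
open CochainComplex HomologicalComplex HomComplex in
theorem aux {C : Type u} [Category.{v} C] [Preadditive C] [HasBinaryBiproducts C] (S : ShortComplex (CochainComplex C ℤ)) (σ σ' : ∀ n : ℤ, (S.map (HomologicalComplex.eval C (ComplexShape.up ℤ) n)).Splitting) : Nonempty (Homotopy (CochainComplex.homOfDegreewiseSplit S σ) (CochainComplex.homOfDegreewiseSplit S σ')) := by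
  let h : Cochain S.X₃ S.X₁ 0 := Cochain.ofHoms (fun n => (σ' n).s ≫ (σ n).r)
  have key : (cocycleOfDegreewiseSplit S σ').1 = (cocycleOfDegreewiseSplit S σ).1 + δ 0 1 h := by
    ext p q hpq
    obtain rfl : q = p + 1 := by lia
    have := mono_of_mono_fac (σ (p + 1)).f_r
    have r_f := fun n => (σ n).r_f
    have s_g := fun n => (σ n).s_g
    have r_f' := fun n => (σ' n).r_f
    have s_g' := fun n => (σ' n).s_g
    dsimp at this r_f s_g r_f' s_g'
    rw [Cochain.add_v, δ_v 0 1 rfl _ p (p + 1) rfl p (p + 1) (by lia) rfl]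
    simp only [cocycleOfDegreewiseSplit, Cocycle.mk_coe, Cochain.mk_v, h, Cochain.ofHoms_v]
    rw [← cancel_mono (S.f.f (p + 1))]
    have E1 : (σ' p).s ≫ S.X₂.d p (p + 1) ≫ S.g.f (p + 1) = S.X₃.d p (p + 1) := by
      rw [← S.g.comm, reassoc_of% (s_g' p)]
    have E2 : (σ p).s ≫ S.X₂.d p (p + 1) ≫ S.g.f (p + 1) = S.X₃.d p (p + 1) := by
      rw [← S.g.comm, reassoc_of% (s_g p)]
    have E3 : (σ p).r ≫ S.X₁.d p (p + 1) ≫ S.f.f (p + 1) =
        S.X₂.d p (p + 1) - S.g.f p ≫ (σ p).s ≫ S.X₂.d p (p + 1) := by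
      rw [← S.f.comm, reassoc_of% (r_f p), Preadditive.sub_comp, id_comp, assoc]
    have hs : ∀ n, (σ n).s ≫ 𝟙 (S.X₂.X n) = (σ n).s := fun n => comp_id _
    have hs' : ∀ n, (σ' n).s ≫ 𝟙 (S.X₂.X n) = (σ' n).s := fun n => comp_id _
    simp only [Preadditive.add_comp, Preadditive.neg_comp,
      Preadditive.comp_sub, assoc,
      Int.negOnePow_one, Units.neg_smul, one_smul, r_f, r_f', E3, comp_id, reassoc_of% E1,
      reassoc_of% E2, reassoc_of% s_g', hs, hs']
    have fin : ∀ {G : Type v} [AddCommGroup G] (a b c e : G),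
        a - b = c - e + (a - c + -(b - e)) := by intros; abel
    exact fin _ _ _ _
  refine ⟨(Cochain.equivHomotopy _ _).symm ⟨h.rightShift 1 (-1) (by lia), ?_⟩⟩
  have e1 : ∀ τ : ∀ n : ℤ, (S.map (HomologicalComplex.eval C (ComplexShape.up ℤ) n)).Splitting,
      Cochain.ofHom (homOfDegreewiseSplit S τ) =
        (cocycleOfDegreewiseSplit S τ).1.rightShift 1 0 (zero_add 1) := by
    intro τ
    simp [homOfDegreewiseSplit]
  rw [e1, e1, key, Cochain.rightShift_add, Cochain.δ_rightShift h 1 (-1) 0 (by lia) 1 (by lia)]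
  simp


/-- The boundary morphisms `C ⟶ A⟦1⟧` attached to two degreewise splittings of a degreewise split
sequence `A ⟶ B ⟶ C` of cochain complexes are homotopic. -/
theorem result {C : Type u} [Category.{v} C] [Preadditive C] [HasBinaryBiproducts C] (S : ShortComplex (CochainComplex C ℤ)) (σ σ' : ∀ n : ℤ, (S.map (HomologicalComplex.eval C (ComplexShape.up ℤ) n)).Splitting) : Nonempty (Homotopy (CochainComplex.homOfDegreewiseSplit S σ) (CochainComplex.homOfDegreewiseSplit S σ')) := by
  exact aux S σ σ'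

end Groth.Agent.S6816
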