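import Groth.Statements.S6817
import Mathlib

set_option autoImplicit false
open CategoryTheory
universe u
open SSet

namespace Groth.Agent.S6817
section helpers
open Opposite
set_option linter.unusedSectionVars false
set_option autoImplicit false
open CategoryTheory
open SSet Simplicial Opposite AlgebraicTopology AlgebraicTopology.DoldKan

section crit
variable {ι : Type*} {c : ComplexShape ι} {K L : HomologicalComplex AddCommGrpCat.{u} c} (φ : K ⟶ L)

theorem mono_crit (i j k : ι) (hi : c.prev j = i) (hk : c.next j = k)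
    (H : ∀ x : K.X j, K.d j k x = 0 → (∃ y : L.X i, φ.f j x = L.d i j y) →
      ∃ x₁ : K.X i, x = K.d i j x₁) : Mono (HomologicalComplex.homologyMap φ j) := by
  rw [HomologicalComplex.mono_homologyMap_iff_up_to_refinements φ i j k hi hk]
  intro A x₂ hx₂ y₁ hy₁
  have hx : ∀ a : A, ∃ x₁ : K.X i, x₂ a = K.d i j x₁ := by
    intro a
    refine H (x₂ a) ?_ ⟨y₁ a, ?_⟩
    · have := congrArg (fun t => t a) hx₂
      simpa using this
    · have := congrArg (fun t => t a) hy₁
      simpa using this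
  choose s hs using hx
  refine ⟨AddCommGrpCat.of (FreeAbelianGroup A), AddCommGrpCat.ofHom (FreeAbelianGroup.lift id), ?_,
    AddCommGrpCat.ofHom (FreeAbelianGroup.lift s), ?_⟩
  · rw [AddCommGrpCat.epi_iff_surjective]
    intro a
    exact ⟨FreeAbelianGroup.of a, by simp⟩
  · ext a
    simp [hs]

theorem epi_crit (i j k : ι) (hi : c.prev j = i) (hk : c.next j = k)
    (H : ∀ y : L.X j, L.d j k y = 0 →
      ∃ x : K.X j, K.d j k x = 0 ∧ ∃ y₁ : L.X i, y = φ.f j x + L.d i j y₁) :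
    Epi (HomologicalComplex.homologyMap φ j) := by
  rw [HomologicalComplex.epi_homologyMap_iff_up_to_refinements φ i j k hi hk]
  intro A y₂ hy₂
  have hx : ∀ a : A, ∃ x : K.X j, K.d j k x = 0 ∧ ∃ y₁ : L.X i, y₂ a = φ.f j x + L.d i j y₁ := by
    intro a
    refine H (y₂ a) ?_
    have := congrArg (fun t => t a) hy₂
    simpa using this
  choose s hs t ht using hx
  refine ⟨AddCommGrpCat.of (FreeAbelianGroup A), AddCommGrpCat.ofHom (FreeAbelianGroup.lift id), ?_,
    AddCommGrpCat.ofHom (FreeAbelianGroup.lift s), ?_, AddCommGrpCat.ofHom (FreeAbelianGroup.lift t), ?_⟩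
  · rw [AddCommGrpCat.epi_iff_surjective]
    intro a
    exact ⟨FreeAbelianGroup.of a, by simp⟩
  · ext a
    simp [hs]
  · ext a
    simp [ht]

end crit

section htpy
variable {ι : Type*} {c : ComplexShape ι} {K L : HomologicalComplex AddCommGrpCat.{u} c} {φ ψ : K ⟶ L}

theorem htpy_apply (h : Homotopy φ ψ) (i j k : ι) (hi : c.prev j = i) (hk : c.next j = k)
    (z : K.X j) (hz : K.d j k z = 0) :
    φ.f j z = L.d i j (h.hom j i z) + ψ.f j z := by
  subst hi hk
  have := congrArg (fun t => t z) (h.comm j)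
  simp only [dNext, prevD] at this
  simpa [hz] using this

end htpy

theorem hom_sum_apply {M N : AddCommGrpCat.{u}} {α : Type*} (s : Finset α) (f : α → (M ⟶ N)) (x : M) :
    (∑ i ∈ s, f i) x = ∑ i ∈ s, f i x := by
  classical
  induction s using Finset.induction_on with
  | empty => simp
  | insert a s ha ih => rw [Finset.sum_insert ha, Finset.sum_insert ha]; simp [ih]

variable (X : SimplicialObject AddCommGrpCat.{u})

/-- the differential as an additive map -/
def dd (n : ℕ) : X _⦋n+1⦌ →+ X _⦋n⦌ := ((AlternatingFaceMapComplex.obj X).d (n+1) n).hom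

theorem dd_eq (n : ℕ) (w : X _⦋n+1⦌) : (AlternatingFaceMapComplex.obj X).d (n+1) n w = dd X n w := rfl

theorem d_apply (n : ℕ) (w : X _⦋n+1⦌) :
    (AlternatingFaceMapComplex.obj X).d (n+1) n w = ∑ i : Fin (n+2), (-1 : ℤ) ^ (i : ℕ) • X.δ i w := by
  rw [AlternatingFaceMapComplex.obj_d_eq, hom_sum_apply]
  simp

theorem d_eq_δ0 (n : ℕ) (w : X _⦋n+1⦌) (hw : ∀ j : Fin (n+1), X.δ j.succ w = 0) :
    (AlternatingFaceMapComplex.obj X).d (n+1) n w = X.δ 0 w := by
  rw [d_apply, Fin.sum_univ_succ]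
  simp [hw]

/-- normalized elements -/
def Norm (n : ℕ) (x : X _⦋n⦌) : Prop :=
  match n, x with
  | 0, _ => True
  | m+1, x => ∀ j : Fin (m+2), X.δ j x = 0

theorem Norm.d_eq_zero {n : ℕ} {x : X _⦋n⦌} (hx : Norm X n x) (k : ℕ) :
    (AlternatingFaceMapComplex.obj X).d n k x = 0 := by
  by_cases hk : k + 1 = n
  · subst hk
    rw [d_apply]
    simp [hx _]
  · rw [HomologicalComplex.shape _ _ _ (by simpa using hk)]
    simp

theorem PInfty_δ_succ (n : ℕ) (j : Fin (n+1)) (w : X _⦋n+1⦌) :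
    X.δ j.succ ((PInfty : AlternatingFaceMapComplex.obj X ⟶ _).f (n+1) w) = 0 := by
  have h := HigherFacesVanish.of_P (X := X) (n+1) n j (by omega)
  rw [← PInfty_f] at h
  have := congrArg (fun t => t w) h
  simpa using this



theorem PInfty_comm_apply (n : ℕ) (w : X _⦋n+1⦌) :
    (AlternatingFaceMapComplex.obj X).d (n+1) n ((PInfty : AlternatingFaceMapComplex.obj X ⟶ _).f (n+1) w)
      = (PInfty : AlternatingFaceMapComplex.obj X ⟶ _).f n ((AlternatingFaceMapComplex.obj X).d (n+1) n w) := by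
  have := congrArg (fun t => t w) ((PInfty : AlternatingFaceMapComplex.obj X ⟶ _).comm (n+1) n)
  simpa using this

/-- (E1) -/
theorem exists_norm (n : ℕ) (x : X _⦋n⦌)
    (hx : (AlternatingFaceMapComplex.obj X).d n ((ComplexShape.down ℕ).next n) x = 0) :
    ∃ (x' : X _⦋n⦌) (v : X _⦋n+1⦌), Norm X n x' ∧
      x = x' + dd X n v := by
  cases n with
  | zero => exact ⟨x, 0, trivial, by simp⟩
  | succ m =>
    have hx' : (AlternatingFaceMapComplex.obj X).d (m+1) m x = 0 := by
      rw [ChainComplex.next_nat_succ] at hx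
      exact hx
    refine ⟨(PInfty : AlternatingFaceMapComplex.obj X ⟶ _).f (m+1) x,
      - (homotopyPInftyToId X).hom (m+1) (m+2) x, ?_, ?_⟩
    · have h1 : ∀ j : Fin (m+1), X.δ j.succ ((PInfty : AlternatingFaceMapComplex.obj X ⟶ _).f (m+1) x) = 0 :=
        fun j => PInfty_δ_succ X m j x
      intro j
      refine Fin.cases ?_ h1 j
      rw [← d_eq_δ0 X m _ h1, PInfty_comm_apply, hx']
      simp
    · have := htpy_apply (homotopyPInftyToId X) (m+2) (m+1) m (by simp) (by simp) x hx'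
      simp only [HomologicalComplex.id_f] at this
      rw [this]
      simp [dd]

theorem PInfty_norm (n : ℕ) (x : X _⦋n⦌) (hx : Norm X n x) :
    (PInfty : AlternatingFaceMapComplex.obj X ⟶ _).f n x = x := by
  cases n with
  | zero => simp
  | succ m =>
    let N : AddSubgroup (X _⦋m+1⦌) :=
      { carrier := {x | ∀ j : Fin (m+2), X.δ j x = 0}
        zero_mem' := by intro j; simp
        add_mem' := by intro a b ha hb j; simp [ha j, hb j]
        neg_mem' := by intro a ha j; simp [ha j] }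
    let φ : AddCommGrpCat.of N ⟶ X _⦋m+1⦌ := AddCommGrpCat.ofHom N.subtype
    have hφ : HigherFacesVanish (m+1) φ := by
      intro j _
      ext ⟨a, ha⟩
      simpa [φ] using ha j.succ
    have := HigherFacesVanish.comp_P_eq_self hφ
    rw [← PInfty_f] at this
    have h2 := congrArg (fun t => t ⟨x, hx⟩) this
    simpa [φ] using h2

/-- (E2) -/
theorem exists_norm_bd (n : ℕ) (x : X _⦋n⦌) (hx : Norm X n x) (w : X _⦋n+1⦌)
    (hw : x = (AlternatingFaceMapComplex.obj X).d (n+1) n w) :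
    ∃ w' : X _⦋n+1⦌, X.δ 0 w' = x ∧ ∀ j : Fin (n+1), X.δ j.succ w' = 0 := by
  refine ⟨(PInfty : AlternatingFaceMapComplex.obj X ⟶ _).f (n+1) w, ?_, fun j => PInfty_δ_succ X n j w⟩
  rw [← d_eq_δ0 X n _ (fun j => PInfty_δ_succ X n j w), PInfty_comm_apply, ← hw, PInfty_norm X n x hx]



section sharp
variable {X}
variable {Y : SimplicialObject AddCommGrpCat.{u}}

/-- underlying simplicial set -/
abbrev U (X : SimplicialObject AddCommGrpCat.{u}) : SSet.{u} := X ⋙ forget AddCommGrpCat.{u}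

/-- evaluate -/
def ev (a : U X ⟶ U Y) (n : ℕ) (x : X _⦋n⦌) : Y _⦋n⦌ := a.app (op ⦋n⦌) x

theorem ev_δ (a : U X ⟶ U Y) (n : ℕ) (j : Fin (n+2)) (x : X _⦋n+1⦌) :
    Y.δ j (ev a (n+1) x) = ev a n (X.δ j x) := by
  have := NatTrans.naturality_apply a (SimplexCategory.δ j).op x
  exact this.symm

/-- the normalisation of a set map -/
def sharp (a : U X ⟶ U Y) (n : ℕ) (x : X _⦋n⦌) : Y _⦋n⦌ := ev a n x - ev a n 0

theorem sharp_δ (a : U X ⟶ U Y) (n : ℕ) (j : Fin (n+2)) (x : X _⦋n+1⦌) :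
    Y.δ j (sharp a (n+1) x) = sharp a n (X.δ j x) := by
  simp [sharp, ev_δ]

theorem sharp_zero (a : U X ⟶ U Y) (n : ℕ) : sharp a n 0 = 0 := by simp [sharp]

theorem sharp_norm (a : U X ⟶ U Y) (n : ℕ) (x : X _⦋n⦌) (hx : Norm X n x) : Norm Y n (sharp a n x) := by
  cases n with
  | zero => trivial
  | succ m =>
    intro j
    rw [sharp_δ, hx j, sharp_zero]

end sharp



section free
variable {X}
variable {Y : SimplicialObject AddCommGrpCat.{u}}

/-- free simplicial abelian group on the underlying simplicial set -/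
noncomputable abbrev ZZ (X : SimplicialObject AddCommGrpCat.{u}) : SimplicialObject AddCommGrpCat.{u} :=
  ((SimplicialObject.whiskering _ _).obj AddCommGrpCat.free).obj (U X)

/-- counit -/
noncomputable def eps (Y : SimplicialObject AddCommGrpCat.{u}) : ZZ Y ⟶ Y where
  app n := (AddCommGrpCat.ofHom (FreeAbelianGroup.lift (fun y : Y.obj n => y)) : AddCommGrpCat.of (FreeAbelianGroup (Y.obj n)) ⟶ Y.obj n)
  naturality m n θ := by
    apply AddCommGrpCat.hom_ext
    apply FreeAbelianGroup.lift_ext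
    intro y
    change FreeAbelianGroup.lift (fun y : Y.obj n => y) (FreeAbelianGroup.map _ (FreeAbelianGroup.of y)) =
      Y.map θ (FreeAbelianGroup.lift (fun y : Y.obj m => y) (FreeAbelianGroup.of y))
    rw [FreeAbelianGroup.map_of_apply, FreeAbelianGroup.lift_apply_of, FreeAbelianGroup.lift_apply_of]
    rfl

/-- the linearization of a set map -/
noncomputable def lin (a : U X ⟶ U Y) : ZZ X ⟶ Y :=
  ((SimplicialObject.whiskering _ _).obj AddCommGrpCat.free).map a ≫ eps Y

/-- generators -/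
noncomputable def gen (n : ℕ) (x : X _⦋n⦌) : (ZZ X) _⦋n⦌ := (FreeAbelianGroup.of x : FreeAbelianGroup (X _⦋n⦌))

theorem lin_gen (a : U X ⟶ U Y) (n : ℕ) (x : X _⦋n⦌) :
    (lin a).app (op ⦋n⦌) (gen n x) = ev a n x := by
  change FreeAbelianGroup.lift (fun y : Y.obj (op ⦋n⦌) => y)
    (FreeAbelianGroup.map _ (FreeAbelianGroup.of x)) = _
  rw [FreeAbelianGroup.map_of_apply, FreeAbelianGroup.lift_apply_of]
  rfl

/-- the chain homotopy -/
noncomputable def linHtpy {a b : U X ⟶ U Y} (H : SSet.Homotopy a b) :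
    Homotopy ((alternatingFaceMapComplex _).map (lin a)) ((alternatingFaceMapComplex _).map (lin b)) :=
  ((H.toSimplicialObjectHomotopy.whiskerRight AddCommGrpCat.free).postcomp (eps Y)).toChainHomotopy

/-- the basic cycle -/
noncomputable def ee (n : ℕ) (x : X _⦋n⦌) : (ZZ X) _⦋n⦌ := gen n x - gen n 0

theorem ee_zero (n : ℕ) : ee (X := X) n 0 = 0 := sub_self _

theorem ZZ_δ_gen (n : ℕ) (j : Fin (n+2)) (x : X _⦋n+1⦌) :
    (ZZ X).δ j (gen (n+1) x) = gen n (X.δ j x) := by
  change FreeAbelianGroup.map _ (FreeAbelianGroup.of x) = _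
  rw [FreeAbelianGroup.map_of_apply]
  rfl

theorem ee_δ (n : ℕ) (j : Fin (n+2)) (x : X _⦋n+1⦌) :
    (ZZ X).δ j (ee (n+1) x) = ee n (X.δ j x) := by
  unfold ee
  rw [map_sub, ZZ_δ_gen, ZZ_δ_gen]
  simp

theorem ee_norm (n : ℕ) (x : X _⦋n⦌) (hx : Norm X n x) : Norm (ZZ X) n (ee n x) := by
  cases n with
  | zero => trivial
  | succ m =>
    intro j
    rw [ee_δ, hx j, ee_zero]

theorem lin_ee (a : U X ⟶ U Y) (n : ℕ) (x : X _⦋n⦌) :
    (lin a).app (op ⦋n⦌) (ee n x) = sharp a n x := by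
  unfold ee sharp
  rw [map_sub, lin_gen, lin_gen]

/-- (C2) -/
theorem sharp_htpy {a b : U X ⟶ U Y} (H : SSet.Homotopy a b) (n : ℕ) (x : X _⦋n⦌) (hx : Norm X n x) :
    ∃ w : Y _⦋n+1⦌, sharp a n x = dd Y n w + sharp b n x := by
  have := htpy_apply (linHtpy H) (n+1) n _ (by simp) rfl (ee n x)
    (Norm.d_eq_zero (ZZ X) (ee_norm n x hx) _)
  rw [alternatingFaceMapComplex_map_f, alternatingFaceMapComplex_map_f] at this
  rw [lin_ee, lin_ee] at this
  exact ⟨_, this⟩

end free



section main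
variable {X}
variable {Y : SimplicialObject AddCommGrpCat.{u}} (f : X ⟶ Y) (g : U Y ⟶ U X)

/-- underlying map of simplicial sets -/
abbrev Uf : U X ⟶ U Y := Functor.whiskerRight f (forget AddCommGrpCat.{u})

theorem ev_Uf (n : ℕ) (x : X _⦋n⦌) : ev (Uf f) n x = f.app (op ⦋n⦌) x := rfl

theorem sharp_Uf (n : ℕ) (x : X _⦋n⦌) : sharp (Uf f) n x = f.app (op ⦋n⦌) x := by
  simp [sharp, ev_Uf]

theorem sharp_id (n : ℕ) (x : X _⦋n⦌) : sharp (𝟙 (U X)) n x = x := by
  change x - 0 = x
  simp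

theorem sharp_comp_Uf_g (n : ℕ) (x : X _⦋n⦌) :
    sharp (Uf f ≫ g) n x = sharp g n (f.app (op ⦋n⦌) x) := by
  change ev g n (f.app (op ⦋n⦌) x) - ev g n (f.app (op ⦋n⦌) 0) = _
  rw [map_zero]
  rfl

theorem sharp_comp_g_Uf (n : ℕ) (y : Y _⦋n⦌) :
    sharp (g ≫ Uf f) n y = f.app (op ⦋n⦌) (sharp g n y) := by
  change f.app (op ⦋n⦌) (ev g n y) - f.app (op ⦋n⦌) (ev g n 0) = _
  rw [← map_sub]
  rfl

theorem f_dd (n : ℕ) (w : X _⦋n+1⦌) :
    f.app (op ⦋n⦌) (dd X n w) = dd Y n (f.app (op ⦋n+1⦌) w) := by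
  have := congrArg (fun t => t w) (((alternatingFaceMapComplex _).map f).comm (n+1) n)
  simp only [alternatingFaceMapComplex_map_f] at this
  exact this.symm

theorem htpy_symm {a b : U X ⟶ U Y}
    (h : Nonempty (SSet.Homotopy a b) ∨ Nonempty (SSet.Homotopy b a))
    (n : ℕ) (x : X _⦋n⦌) (hx : Norm X n x) :
    ∃ w : Y _⦋n+1⦌, sharp a n x = dd Y n w + sharp b n x := by
  rcases h with ⟨⟨H⟩⟩ | ⟨⟨H⟩⟩
  · exact sharp_htpy H n x hx
  · obtain ⟨w, hw⟩ := sharp_htpy H n x hx
    refine ⟨-w, ?_⟩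
    rw [hw, map_neg]
    abel

theorem main6817 (f : X ⟶ Y) (g : U Y ⟶ U X)
    (hX : Nonempty (SSet.Homotopy (Uf f ≫ g) (𝟙 _)) ∨ Nonempty (SSet.Homotopy (𝟙 _) (Uf f ≫ g)))
    (hY : Nonempty (SSet.Homotopy (g ≫ Uf f) (𝟙 _)) ∨ Nonempty (SSet.Homotopy (𝟙 _) (g ≫ Uf f))) :
    QuasiIso ((AlgebraicTopology.alternatingFaceMapComplex AddCommGrpCat.{u}).map f) := by
  rw [quasiIso_iff]
  intro n
  rw [quasiIsoAt_iff_isIso_homologyMap]
  have hmono : Mono (HomologicalComplex.homologyMap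
      ((AlgebraicTopology.alternatingFaceMapComplex AddCommGrpCat.{u}).map f) n) := by
    refine mono_crit _ (n+1) n _ (by simp) rfl ?_
    intro x hx hy
    obtain ⟨y, hy⟩ := hy
    change Y _⦋n+1⦌ at y
    change X _⦋n⦌ at x
    obtain ⟨x', v, hx'N, hx'⟩ := exists_norm X n x hx
    have hfx' : f.app (op ⦋n⦌) x' = dd Y n (y - f.app (op ⦋n+1⦌) v) := by
      have h1 : f.app (op ⦋n⦌) x = dd Y n y := hy
      rw [hx', map_add, f_dd] at h1
      rw [map_sub, ← h1]
      abel
    have hN : Norm Y n (f.app (op ⦋n⦌) x') := by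
      rw [← sharp_Uf]
      exact sharp_norm _ n x' hx'N
    obtain ⟨w', hw'0, hw'⟩ := exists_norm_bd Y n _ hN _ hfx'
    have h3 : dd X n (sharp g (n+1) w') = sharp g n (f.app (op ⦋n⦌) x') := by
      have := d_eq_δ0 X n (sharp g (n+1) w') (fun j => by rw [sharp_δ, hw' j, sharp_zero])
      rw [sharp_δ, hw'0] at this
      exact this
    obtain ⟨w'', hw''⟩ := htpy_symm hX n x' hx'N
    rw [sharp_comp_Uf_g, sharp_id, ← h3] at hw''
    refine ⟨sharp g (n+1) w' - w'' + v, ?_⟩
    change x = dd X n _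
    rw [map_add, map_sub, hw'', hx']
    abel
  have hepi : Epi (HomologicalComplex.homologyMap
      ((AlgebraicTopology.alternatingFaceMapComplex AddCommGrpCat.{u}).map f) n) := by
    refine epi_crit _ (n+1) n _ (by simp) rfl ?_
    intro y hy
    change Y _⦋n⦌ at y
    obtain ⟨y', v, hy'N, hy'⟩ := exists_norm Y n y hy
    have hxN : Norm X n (sharp g n y') := sharp_norm g n y' hy'N
    refine ⟨sharp g n y', Norm.d_eq_zero X hxN _, ?_⟩
    obtain ⟨w, hw⟩ := htpy_symm hY n y' hy'N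
    rw [sharp_comp_g_Uf, sharp_id] at hw
    refine ⟨v - w, ?_⟩
    change y = f.app (op ⦋n⦌) (sharp g n y') + dd Y n (v - w)
    rw [hw, hy', map_sub]
    abel
  exact isIso_of_mono_of_epi _

end main


end helpers

/-- A homomorphism of simplicial abelian groups whose underlying map of simplicial sets is a homotopy
equivalence induces a quasi-isomorphism of associated chain complexes. (The published statement
allows the composites with a homotopy inverse to be joined to the identities by chains of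
homotopies; this row assumes single homotopies, in either direction.) -/
theorem result {X Y : SimplicialObject AddCommGrpCat.{u}} (f : X ⟶ Y) (g : (Y ⋙ forget AddCommGrpCat.{u} : SSet.{u}) ⟶ (X ⋙ forget AddCommGrpCat.{u} : SSet.{u})) (hX : Nonempty (SSet.Homotopy (Functor.whiskerRight f (forget AddCommGrpCat.{u}) ≫ g) (𝟙 _)) ∨ Nonempty (SSet.Homotopy (𝟙 _) (Functor.whiskerRight f (forget AddCommGrpCat.{u}) ≫ g))) (hY : Nonempty (SSet.Homotopy (g ≫ Functor.whiskerRight f (forget AddCommGrpCat.{u})) (𝟙 _)) ∨ Nonempty (SSet.Homotopy (𝟙 _) (g ≫ Functor.whiskerRight f (forget AddCommGrpCat.{u})))) : QuasiIso ((AlgebraicTopology.alternatingFaceMapComplex AddCommGrpCat.{u}).map f) := by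
  exact main6817 f g hX hY

end Groth.Agent.S6817
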