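import Groth.Statements.S6819
import Mathlib
import Groth.Agent.S6806

set_option autoImplicit false
open CategoryTheory CategoryTheory.Limits Opposite
universe v u
open CategoryTheory CategoryTheory.Abelian

namespace Groth.Agent.S6819
section helpers
open Opposite
set_option linter.unusedSectionVars false
open CategoryTheory CategoryTheory.Limits Opposite

section Fin
variable (n : ℕ) (Y : SimplexCategoryᵒᵖ)

instance finite_J : Finite (CostructuredArrow (SimplexCategory.Truncated.inclusion n).op Y) := by
  let f : (Σ (k : Fin (n + 1)), (Y.unop ⟶ SimplexCategory.mk k)) →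
      CostructuredArrow (SimplexCategory.Truncated.inclusion n).op Y :=
    fun p => CostructuredArrow.mk
      (Y := (op ⟨SimplexCategory.mk p.1, Nat.le_of_lt_succ p.1.2⟩ : (SimplexCategory.Truncated n)ᵒᵖ))
      p.2.op
  apply Finite.of_surjective f
  intro x
  refine ⟨⟨⟨x.left.unop.obj.len, Nat.lt_succ_of_le x.left.unop.property⟩, x.hom.unop⟩, ?_⟩
  exact (CostructuredArrow.eq_mk x).symm

instance finite_J_hom (x y : CostructuredArrow (SimplexCategory.Truncated.inclusion n).op Y) :
    Finite (x ⟶ y) := by
  have h1 : Finite (x.left ⟶ y.left) := by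
    have h2 : Finite (y.left.unop ⟶ x.left.unop) := by
      apply Finite.of_injective (fun f : y.left.unop ⟶ x.left.unop => f.hom)
      intro f g h
      exact ObjectProperty.hom_ext _ h
    exact Finite.of_injective (fun f : x.left ⟶ y.left => f.unop) (fun f g h => Quiver.Hom.unop_inj h)
  exact @Finite.of_injective _ _ h1 (fun f : x ⟶ y => (CostructuredArrow.proj _ _).map f)
    (fun f g h => (CostructuredArrow.proj _ _).map_injective h)

noncomputable instance finCat_J :
    FinCategory (CostructuredArrow (SimplexCategory.Truncated.inclusion n).op Y) where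
  fintypeObj := Fintype.ofFinite _
  fintypeHom _ _ := Fintype.ofFinite _

end Fin

instance pointwise {A : Type u} [Category.{v} A] [Abelian A] (n : ℕ)
    (F : (SimplexCategory.Truncated n)ᵒᵖ ⥤ A) :
    (SimplexCategory.Truncated.inclusion n).op.HasPointwiseLeftKanExtension F := by
  intro Y
  dsimp only [Functor.HasPointwiseLeftKanExtensionAt]
  infer_instance


variable {A : Type u} [Category.{v} A] [Abelian A] (U : SimplicialObject A) (n : ℕ)
  [∀ F : (SimplexCategory.Truncated n)ᵒᵖ ⥤ A,
    (SimplexCategory.Truncated.inclusion n).op.HasLeftKanExtension F]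

open Groth.Agent.S6818 (image_le_iff_factors le_iff_factors)

/-- the counit -/
noncomputable abbrev ε : (SimplicialObject.sk n).obj U ⟶ U := (SimplicialObject.skAdj n).counit.app U

lemma isIso_tr_ε : IsIso ((SimplicialObject.truncation n).map (ε U n)) := by
  have h := (SimplicialObject.skAdj (C := A) n).right_triangle_components U
  have : IsIso ((SimplicialObject.skAdj (C := A) n).unit.app ((SimplicialObject.truncation n).obj U)) := by
    dsimp only [SimplicialObject.skAdj]
    infer_instance
  exact IsIso.of_isIso_fac_left h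

lemma isIso_ε_app (Δ : SimplexCategoryᵒᵖ) (h : Δ.unop.len ≤ n) : IsIso ((ε U n).app Δ) := by
  have := isIso_tr_ε U n
  have h2 : IsIso (((SimplicialObject.truncation n).map (ε U n)).app (op ⟨Δ.unop, h⟩)) := inferInstance
  exact h2


section image
variable (U' : ∀ m : ℕ, Subobject (U.obj (op (SimplexCategory.mk m))))
  (hU' : ∀ m : ℕ, IsLUB (Set.range (fun φ : Σ i : Fin (n + 1),
    (SimplexCategory.mk m ⟶ SimplexCategory.mk i) => imageSubobject (U.map φ.2.op))) (U' m))

include hU' in
lemma le_image (m : ℕ) :
    U' m ≤ imageSubobject ((ε U n).app (op (SimplexCategory.mk m))) := by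
  apply (hU' m).2
  rintro _ ⟨⟨i, φ⟩, rfl⟩
  dsimp only
  have hi : IsIso ((ε U n).app (op (SimplexCategory.mk i))) :=
    isIso_ε_app U n _ (Nat.le_of_lt_succ i.2)
  have e : U.map φ.op = (inv ((ε U n).app (op (SimplexCategory.mk i))) ≫
      ((SimplicialObject.sk n).obj U).map φ.op) ≫ (ε U n).app (op (SimplexCategory.mk m)) := by
    rw [Category.assoc, (ε U n).naturality, IsIso.inv_hom_id_assoc]
  rw [e]
  exact imageSubobject_comp_le _ _

include hU' in
lemma image_le (m : ℕ) :
    imageSubobject ((ε U n).app (op (SimplexCategory.mk m))) ≤ U' m := by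
  rw [image_le_iff_factors]
  have key : (⊤ : Subobject (((SimplicialObject.sk n).obj U).obj (op (SimplexCategory.mk m)))) ≤
      (Subobject.pullback ((ε U n).app (op (SimplexCategory.mk m)))).obj (U' m) := by
    rw [← Groth.Agent.S6806.gen_eq_top_sk n ((SimplicialObject.truncation n).obj U) m]
    apply (Groth.Agent.S6806.gen_isLUB _ n m).2
    rintro _ ⟨⟨i, φ⟩, rfl⟩
    dsimp only
    rw [image_le_iff_factors, pullback_factors_iff]
    have nat : ((SimplicialObject.Truncated.sk n).obj ((SimplicialObject.truncation n).obj U)).map φ.op ≫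
      (ε U n).app (op (SimplexCategory.mk m)) = (ε U n).app (op (SimplexCategory.mk i)) ≫ U.map φ.op :=
      (ε U n).naturality φ.op
    rw [nat]
    apply Subobject.factors_of_factors_right
    rw [← image_le_iff_factors]
    exact (hU' m).1 ⟨⟨i, φ⟩, rfl⟩
  have h2 := (le_iff_factors _ _).1 key
  rw [pullback_factors_iff] at h2
  have h3 : IsIso (⊤ : Subobject (((SimplicialObject.sk n).obj U).obj
      (op (SimplexCategory.mk m)))).arrow := inferInstance
  have h4 := Subobject.factors_of_factors_right (inv (⊤ : Subobject
    (((SimplicialObject.sk n).obj U).obj (op (SimplexCategory.mk m)))).arrow) h2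
  rwa [IsIso.inv_hom_id_assoc] at h4

end image


section mono
open AlgebraicTopology

lemma objX_sk_eq_bot (m : ℕ) (hm : n < m) :
    NormalizedMooreComplex.objX ((SimplicialObject.sk n).obj U) m = ⊥ :=
  Groth.Agent.S6806.result n ((SimplicialObject.truncation n).obj U) m hm

lemma mono_kernel_ι_app (Δ : SimplexCategoryᵒᵖ) : Mono ((kernel.ι (ε U n)).app Δ) :=
  (NatTrans.mono_iff_mono_app (kernel.ι (ε U n))).1 inferInstance Δ

lemma objX_kernel_arrow (m : ℕ) :
    (NormalizedMooreComplex.objX (kernel (ε U n)) m).arrow = 0 := by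
  have := mono_kernel_ι_app U n (op (SimplexCategory.mk m))
  by_cases hm : m ≤ n
  · have hi : IsIso ((ε U n).app (op (SimplexCategory.mk m))) := isIso_ε_app U n _ hm
    have h0 : (kernel.ι (ε U n)).app (op (SimplexCategory.mk m)) = 0 := by
      have hc := NatTrans.congr_app (kernel.condition (ε U n)) (op (SimplexCategory.mk m))
      rw [NatTrans.comp_app] at hc
      rw [← cancel_mono ((ε U n).app (op (SimplexCategory.mk m))), hc, zero_comp]
      rfl
    have hz : IsZero ((kernel (ε U n)).obj (op (SimplexCategory.mk m))) :=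
      IsZero.of_mono_eq_zero _ h0
    exact hz.eq_of_tgt _ _
  · have hb := objX_sk_eq_bot U n m (by omega)
    have harr : (NormalizedMooreComplex.objX ((SimplicialObject.sk n).obj U) m).arrow = 0 := by
      rw [hb]; exact Subobject.bot_arrow
    rw [← cancel_mono ((kernel.ι (ε U n)).app (op (SimplexCategory.mk m))), zero_comp]
    have e : (NormalizedMooreComplex.map (kernel.ι (ε U n))).f m ≫
        (NormalizedMooreComplex.objX ((SimplicialObject.sk n).obj U) m).arrow =
        (NormalizedMooreComplex.objX (kernel (ε U n)) m).arrow ≫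
          (kernel.ι (ε U n)).app (op (SimplexCategory.mk m)) := by
      rw [NormalizedMooreComplex.map_f]
      exact Subobject.factorThru_arrow _ _ _
    rw [← e, harr]
    exact comp_zero

lemma isZero_kernel : IsZero (kernel (ε U n)) := by
  apply IsZero.of_full_of_faithful_of_isZero
    (CategoryTheory.Abelian.DoldKan.equivalence (A := A)).functor
  change IsZero (NormalizedMooreComplex.obj (kernel (ε U n)))
  rw [IsZero.iff_id_eq_zero]
  ext m
  have hz : IsZero ((NormalizedMooreComplex.objX (kernel (ε U n)) m : A)) :=
    IsZero.of_mono_eq_zero _ (objX_kernel_arrow U n m)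
  exact hz.eq_of_src _ _

lemma mono_ε : Mono (ε U n) :=
  Preadditive.mono_of_kernel_zero ((isZero_kernel U n).eq_of_src _ _)

end mono

theorem main6819 (U' : ∀ m : ℕ, Subobject (U.obj (op (SimplexCategory.mk m))))
    (hU' : ∀ m : ℕ, IsLUB (Set.range (fun φ : Σ i : Fin (n + 1),
      (SimplexCategory.mk m ⟶ SimplexCategory.mk i) => imageSubobject (U.map φ.2.op))) (U' m))
    (m : ℕ) :
    Mono (((SimplicialObject.skAdj n).counit.app U).app (op (SimplexCategory.mk m))) ∧
      imageSubobject (((SimplicialObject.skAdj n).counit.app U).app (op (SimplexCategory.mk m))) =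
        U' m := by
  refine ⟨?_, le_antisymm (image_le U n U' hU' m) (le_image U n U' hU' m)⟩
  have := mono_ε U n
  exact (NatTrans.mono_iff_mono_app (ε U n)).1 this _


end helpers

/-- For a simplicial object `U` of an abelian category, the counit `i_{n!} sk_n U ⟶ U` of the skeleton
adjunction is a monomorphism in each degree, with image the subobject generated by the images of the
maps `U_i ⟶ U_m` induced by `[m] ⟶ [i]`, `i ≤ n`. -/
theorem result {A : Type u} [Category.{v} A] [Abelian A] (U : SimplicialObject A) (n : ℕ) (U' : ∀ m : ℕ, Subobject (U.obj (op (SimplexCategory.mk m)))) (hU' : ∀ m : ℕ, IsLUB (Set.range (fun φ : Σ i : Fin (n + 1), (SimplexCategory.mk m ⟶ SimplexCategory.mk i) => imageSubobject (U.map φ.2.op))) (U' m)) [∀ F : (SimplexCategory.Truncated n)ᵒᵖ ⥤ A, (SimplexCategory.Truncated.inclusion n).op.HasLeftKanExtension F] (m : ℕ) : Mono (((SimplicialObject.skAdj n).counit.app U).app (op (SimplexCategory.mk m))) ∧ imageSubobject (((SimplicialObject.skAdj n).counit.app U).app (op (SimplexCategory.mk m))) = U' m := by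
  exact main6819 U n U' hU' m

end Groth.Agent.S6819
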