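import Groth.Statements.S6820
import Mathlib

set_option autoImplicit false
universe u
open Smoothing

namespace Groth.Agent.S6820

/-- Let A be a Noetherian ring, M a finite A-module, S a multiplicative subset of A and π an element of
A such that on the localised module S⁻¹M the kernels of multiplication by π and by π² agree. Then
there is an element s of S such that for every n > 0 the kernels of multiplication by sⁿπ and by
(sⁿπ)² on M agree. (Kernel equalities are written as implications, the reverse inclusions being
automatic.) -/
theorem result {A : Type u} [CommRing A] [IsNoetherianRing A]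
    (M : Type u) [AddCommGroup M] [Module A M] [Module.Finite A M] (S : Submonoid A) (π : A)
    (h : ∀ m : LocalizedModule S M, π ^ 2 • m = 0 → π • m = 0) :
    ∃ s ∈ S, ∀ n : ℕ, 0 < n → ∀ m : M, (s ^ n * π) ^ 2 • m = 0 → (s ^ n * π) • m = 0 := by
  classical
  have hN : IsNoetherian A M := isNoetherian_of_isNoetherianRing_of_finite A M
  let f := LocalizedModule.mkLinearMap S M
  let T : Submodule A M := LinearMap.ker f
  obtain ⟨G, hG⟩ : T.FG := IsNoetherian.noetherian T
  have hc : ∀ t : M, ∃ c : S, t ∈ T → c • t = 0 := by
    intro t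
    by_cases ht : t ∈ T
    · obtain ⟨c, hc⟩ := (IsLocalizedModule.eq_zero_iff S f).1 (LinearMap.mem_ker.1 ht)
      exact ⟨c, fun _ => hc⟩
    · exact ⟨1, fun h => absurd h ht⟩
  choose c hc using hc
  let s : S := ∏ t ∈ G, c t
  have hs : ∀ x ∈ T, (s : A) • x = 0 := by
    intro x hx
    rw [← hG] at hx
    induction hx using Submodule.span_induction with
    | mem x hx =>
      have hxT : x ∈ T := by rw [← hG]; exact Submodule.subset_span hx
      have h1 : (c x : A) • x = 0 := hc x hxT
      have h2 : (s : A) = (∏ t ∈ G.erase x, (c t : A)) * (c x : A) := by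
        simp only [s, Submonoid.coe_finsetProd]
        rw [Finset.prod_erase_mul _ _ (by exact_mod_cast hx)]
      rw [h2, mul_smul, h1, smul_zero]
    | zero => simp
    | add x y _ _ hx hy => rw [smul_add, hx, hy, add_zero]
    | smul a x _ hx => rw [smul_comm, hx, smul_zero]
  refine ⟨s, s.2, ?_⟩
  intro n hn m hm
  have h1 : π ^ 2 • f m = 0 := by
    have : ((s : A) ^ n * π) ^ 2 • f m = 0 := by rw [← map_smul, hm, map_zero]
    rw [mul_pow, mul_smul] at this
    have hu : IsUnit ((algebraMap A (Module.End A (LocalizedModule S M))) (((s ^ n) ^ 2 : S) : A)) :=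
      IsLocalizedModule.map_units f _
    have h3 := (Module.End.isUnit_iff _).1 hu
    apply h3.1
    rw [map_zero, Module.algebraMap_end_apply]
    simpa using this
  have h2 : π • f m = 0 := h (f m) h1
  have h3 : π • m ∈ T := by
    show f (π • m) = 0
    rw [map_smul, h2]
  have h4 := hs _ h3
  obtain ⟨k, rfl⟩ : ∃ k, n = k + 1 := ⟨n - 1, by omega⟩
  rw [mul_smul, pow_succ, mul_smul, h4, smul_zero]

end Groth.Agent.S6820
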