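import Groth.Statements.S6826
import Mathlib
import Groth.Agent.Lib.Helper2.SyLiftC
import Groth.Agent.Lib.Helper2.LiftSm3
import Groth.Agent.Lib.Helper2.KosDescent
import Groth.Agent.Lib.Helper6.KRCotB
import Groth.Agent.S2044
import Groth.Agent.S9287
import Groth.Agent.S9269
import Groth.Agent.Lib.Helper27.SyntAway2
-- import your own Groth.Agent.* helpers here

set_option autoImplicit false
universe u
open Smoothing

namespace Groth.Agent.S6826

section

open TensorProduct Groth.Agent.Helper2.LiftSm Groth.Agent.Helper2.SyLift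
open CategoryTheory CategoryTheory.Limits AlgebraicGeometry Opposite Topology

set_option maxHeartbeats 3200000 in
theorem exists_lift {R A₀ : Type u} [CommRing R] (I : Ideal R) [CommRing A₀]
    [Algebra (R ⧸ I) A₀] (h : Synt.IsSyntomic (R ⧸ I) A₀)
    [Algebra R A₀] [IsScalarTower R (R ⧸ I) A₀] :
    ∃ (A : Type u) (_ : CommRing A) (_ : Algebra R A), Synt.IsSyntomic R A ∧
      ∃ Φ : A →ₐ[R] A₀, Function.Surjective Φ ∧ RingHom.ker Φ = I.map (algebraMap R A) := by
  classical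
  obtain ⟨hflat, hlci⟩ := (Groth.Agent.S9287.result (R ⧸ I) A₀).mp h
  haveI := hflat
  haveI hfp : Algebra.FinitePresentation (R ⧸ I) A₀ := h.2.1
  obtain ⟨hft, m, f₀, hf₀, hKR₀⟩ := hlci
  obtain ⟨n, ⟨Pg⟩⟩ :=
    (Algebra.FiniteType.iff_exists_generators (R := R ⧸ I) (S := A₀)).mp hft
  -- the polynomial rings
  let mapQ : MvPolynomial (Fin n) R →+* MvPolynomial (Fin n) (R ⧸ I) :=
    MvPolynomial.map (Ideal.Quotient.mk I)
  have hmapQ_surj : Function.Surjective mapQ :=
    MvPolynomial.map_surjective _ Ideal.Quotient.mk_surjective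
  let πb : MvPolynomial (Fin n) (R ⧸ I) →ₐ[R ⧸ I] A₀ := MvPolynomial.aeval Pg.val
  have hπb : Function.Surjective πb := by
    intro a
    obtain ⟨f, rfl⟩ := Pg.algebraMap_surjective a
    exact ⟨f, (Pg.algebraMap_apply f).symm⟩
  let π : MvPolynomial (Fin n) R →ₐ[R] A₀ := MvPolynomial.aeval Pg.val
  have hπmap : ∀ q, πb (mapQ q) = π q := by
    intro q
    change MvPolynomial.aeval Pg.val (MvPolynomial.map (algebraMap R (R ⧸ I)) q) = _
    rw [MvPolynomial.aeval_map_algebraMap]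
  have hπ : Function.Surjective π := by
    intro a
    obtain ⟨f₀, rfl⟩ := hπb a
    obtain ⟨f, rfl⟩ := hmapQ_surj f₀
    exact ⟨f, (hπmap f).symm⟩
  -- the kernel upstairs is Koszul-regular
  have hKRb : LCI.IsKoszulRegularIdeal (RingHom.ker πb.toRingHom) :=
    Groth.Agent.S9269.result (R ⧸ I) A₀ m n f₀ hf₀ πb hπb hKR₀
  set 𝔞b : Ideal (MvPolynomial (Fin n) (R ⧸ I)) := RingHom.ker πb.toRingHom with h𝔞b
  have hkerπ : ∀ q, q ∈ RingHom.ker π ↔ mapQ q ∈ 𝔞b := by
    intro q
    rw [RingHom.mem_ker, ← hπmap]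
    exact Iff.rfl
  have hkermapQ : RingHom.ker mapQ = I.map (algebraMap R (MvPolynomial (Fin n) R)) := by
    rw [MvPolynomial.ker_map, Ideal.mk_ker, MvPolynomial.algebraMap_eq]
  have hmapker : Ideal.map mapQ (RingHom.ker π) = 𝔞b := by
    apply le_antisymm
    · rw [Ideal.map_le_iff_le_comap]
      intro q hq
      exact (hkerπ q).mp hq
    · intro f₀ hf₀
      obtain ⟨f, rfl⟩ := hmapQ_surj f₀
      exact Ideal.mem_map_of_mem _ ((hkerπ f).mpr hf₀)
  -- finite generation of the kernel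
  obtain ⟨F, hF⟩ : ∃ F : Finset (MvPolynomial (Fin n) R), RingHom.ker π =
      Ideal.span (F : Set (MvPolynomial (Fin n) R)) ⊔
        I.map (algebraMap R (MvPolynomial (Fin n) R)) := by
    have hfg : 𝔞b.FG := Algebra.FinitePresentation.ker_fG_of_surjective πb hπb
    obtain ⟨F₀, hF₀⟩ := hfg
    refine ⟨F₀.image (Function.surjInv hmapQ_surj), ?_⟩
    have h1 : Ideal.map mapQ (Ideal.span ((F₀.image (Function.surjInv hmapQ_surj) : Finset _) :
        Set (MvPolynomial (Fin n) R))) = 𝔞b := by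
      rw [Ideal.map_span, ← hF₀]
      congr 1
      ext x
      simp only [Finset.coe_image, Set.mem_image, Finset.mem_coe, exists_exists_and_eq_and,
        Function.surjInv_eq hmapQ_surj, exists_eq_right]
    have h2 : RingHom.ker π = Ideal.comap mapQ 𝔞b := by
      ext q
      exact hkerπ q
    have h3 := Ideal.comap_map_of_surjective mapQ hmapQ_surj
      (Ideal.span ((F₀.image (Function.surjInv hmapQ_surj) : Finset _) :
        Set (MvPolynomial (Fin n) R)))
    rw [← RingHom.ker_eq_comap_bot, hkermapQ] at h3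
    refine (h2.trans ?_).trans h3
    exact congrArg (Ideal.comap mapQ) h1.symm
  -- the conormal module and its module structures
  obtain ⟨hfinb, hprojb⟩ := Groth.Agent.Helper6.KRCot.cotangent_finite_projective_of_kr 𝔞b hKRb
  letI : Module (MvPolynomial (Fin n) R) 𝔞b.Cotangent :=
    Module.compHom 𝔞b.Cotangent mapQ
  have hQsmul : ∀ (q : MvPolynomial (Fin n) R) (p : 𝔞b.Cotangent), q • p = mapQ q • p :=
    fun _ _ => rfl
  let Δ : RingHom.ker π →ₗ[MvPolynomial (Fin n) R] 𝔞b.Cotangent :=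
    { toFun := fun f => 𝔞b.toCotangent ⟨mapQ f.1, (hkerπ f.1).mp f.2⟩
      map_add' := fun f f' => by
        rw [← map_add]
        congr 1
        exact Subtype.ext (map_add mapQ f.1 f'.1)
      map_smul' := fun q f => by
        rw [RingHom.id_apply, hQsmul, ← map_smul]
        congr 1
        exact Subtype.ext (map_mul mapQ q f.1) }
  have hΔ : Function.Surjective Δ := by
    intro p
    obtain ⟨⟨f₀, hf₀⟩, rfl⟩ := Ideal.toCotangent_surjective 𝔞b p
    obtain ⟨f, rfl⟩ := hmapQ_surj f₀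
    exact ⟨⟨f, (hkerπ f).mpr hf₀⟩, rfl⟩
  have hΔker : ∀ f : RingHom.ker π, Δ f = 0 ↔
      (f : MvPolynomial (Fin n) R) ∈ (RingHom.ker π) ^ 2 ⊔
        I.map (algebraMap R (MvPolynomial (Fin n) R)) := by
    intro f
    change 𝔞b.toCotangent ⟨mapQ f.1, (hkerπ f.1).mp f.2⟩ = 0 ↔ _
    rw [Ideal.toCotangent_eq_zero]
    change mapQ f.1 ∈ 𝔞b ^ 2 ↔ _
    rw [← hmapker, ← Ideal.map_pow, ← Ideal.mem_comap,
      Ideal.comap_map_of_surjective mapQ hmapQ_surj, ← RingHom.ker_eq_comap_bot, hkermapQ]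
  have h𝔞P₀ : ∀ f ∈ RingHom.ker π, ∀ p : 𝔞b.Cotangent, f • p = 0 := by
    intro f hf p
    obtain ⟨x, rfl⟩ := Ideal.toCotangent_surjective 𝔞b p
    rw [hQsmul, ← map_smul, Ideal.toCotangent_eq_zero]
    change mapQ f * x.1 ∈ 𝔞b ^ 2
    rw [pow_two]
    exact Ideal.mul_mem_mul ((hkerπ f).mp hf) x.2
  -- the `Q ⧸ 𝔞`-module structure on the conormal module
  let κ : (MvPolynomial (Fin n) R ⧸ RingHom.ker π) →+* (MvPolynomial (Fin n) (R ⧸ I) ⧸ 𝔞b) :=
    Ideal.quotientMap 𝔞b mapQ (fun q hq => (hkerπ q).mp hq)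
  letI algκ : Algebra (MvPolynomial (Fin n) R ⧸ RingHom.ker π)
      (MvPolynomial (Fin n) (R ⧸ I) ⧸ 𝔞b) := RingHom.toAlgebra' κ (fun c x => mul_comm (κ c) x)
  have hκmk : ∀ q, κ (Ideal.Quotient.mk _ q) = Ideal.Quotient.mk 𝔞b (mapQ q) := fun q => rfl
  have hκbij : Function.Bijective (algebraMap (MvPolynomial (Fin n) R ⧸ RingHom.ker π)
      (MvPolynomial (Fin n) (R ⧸ I) ⧸ 𝔞b)) := by
    constructor
    · rw [injective_iff_map_eq_zero]
      intro y hy
      obtain ⟨q, rfl⟩ := Ideal.Quotient.mk_surjective y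
      rw [Ideal.Quotient.eq_zero_iff_mem, hkerπ]
      have h1 : Ideal.Quotient.mk 𝔞b (mapQ q) = 0 := hy
      exact Ideal.Quotient.eq_zero_iff_mem.mp h1
    · intro y
      obtain ⟨f₀, rfl⟩ := Ideal.Quotient.mk_surjective y
      obtain ⟨f, rfl⟩ := hmapQ_surj f₀
      exact ⟨Ideal.Quotient.mk _ f, rfl⟩
  letI : Module (MvPolynomial (Fin n) R ⧸ RingHom.ker π) 𝔞b.Cotangent :=
    Module.compHom 𝔞b.Cotangent κ
  haveI : IsScalarTower (MvPolynomial (Fin n) R ⧸ RingHom.ker π)
      (MvPolynomial (Fin n) (R ⧸ I) ⧸ 𝔞b) 𝔞b.Cotangent :=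
    IsScalarTower.of_algebraMap_smul fun _ _ => rfl
  haveI := hfinb
  haveI := hprojb
  obtain ⟨hfin, hproj⟩ := finite_projective_of_bijective
    (S := MvPolynomial (Fin n) R ⧸ RingHom.ker π) (A := MvPolynomial (Fin n) (R ⧸ I) ⧸ 𝔞b)
    (M := 𝔞b.Cotangent) hκbij
  obtain ⟨T, _, _, hetale, hβ, P', _, _, hP'fin, hP'proj, ⟨θ⟩⟩ :=
    Groth.Agent.S2044.result (RingHom.ker π) 𝔞b.Cotangent
  letI : Algebra R T :=
    ((algebraMap (MvPolynomial (Fin n) R) T).comp (algebraMap R (MvPolynomial (Fin n) R))).toAlgebra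
  haveI : IsScalarTower R (MvPolynomial (Fin n) R) T :=
    IsScalarTower.of_algebraMap_eq (fun _ => rfl)
  haveI : Algebra.Smooth R (MvPolynomial (Fin n) R) := ⟨inferInstance, inferInstance⟩
  haveI : Algebra.Smooth (MvPolynomial (Fin n) R) T := inferInstance
  haveI : Algebra.Smooth R T := Algebra.Smooth.comp R (MvPolynomial (Fin n) R) T
  haveI : Module.Flat (MvPolynomial (Fin n) R) T := inferInstance
  have hone := mk_one_bijective (S := MvPolynomial (Fin n) R ⧸ RingHom.ker π)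
    (A := T ⧸ (RingHom.ker π).map (algebraMap (MvPolynomial (Fin n) R) T))
    (M := 𝔞b.Cotangent) hβ
  let j : 𝔞b.Cotangent →+
      ((T ⧸ (RingHom.ker π).map (algebraMap (MvPolynomial (Fin n) R) T)) ⊗[T] P') :=
    { toFun := fun p => θ.symm ((1 : T ⧸ (RingHom.ker π).map (algebraMap (MvPolynomial (Fin n) R) T))
        ⊗ₜ[MvPolynomial (Fin n) R ⧸ RingHom.ker π] p)
      map_zero' := by rw [tmul_zero, map_zero]
      map_add' := fun p p' => by rw [tmul_add, map_add] }
  have hj : Function.Bijective j := θ.symm.bijective.comp hone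
  have hjsmul : ∀ (q : MvPolynomial (Fin n) R) (p : 𝔞b.Cotangent),
      j (q • p) = (algebraMap (MvPolynomial (Fin n) R) T q) • j p := by
    intro q p
    have h1 : q • p = (Ideal.Quotient.mk (RingHom.ker π) q) • p := by
      change mapQ q • p = κ (Ideal.Quotient.mk (RingHom.ker π) q) • p
      rw [hκmk, ← Ideal.Quotient.algebraMap_eq, algebraMap_smul]
    change θ.symm ((1 : T ⧸ (RingHom.ker π).map (algebraMap (MvPolynomial (Fin n) R) T))
        ⊗ₜ[MvPolynomial (Fin n) R ⧸ RingHom.ker π] (q • p)) = _ • θ.symm _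
    rw [h1, TensorProduct.tmul_smul, TensorProduct.smul_tmul', Algebra.smul_def, mul_one,
      Ideal.Quotient.algebraMap_quotient_map_quotient]
    have h2 : (Ideal.Quotient.mk ((RingHom.ker π).map (algebraMap (MvPolynomial (Fin n) R) T))
        (algebraMap (MvPolynomial (Fin n) R) T q)) ⊗ₜ[MvPolynomial (Fin n) R ⧸ RingHom.ker π] p =
        (Ideal.Quotient.mk ((RingHom.ker π).map (algebraMap (MvPolynomial (Fin n) R) T))
        (algebraMap (MvPolynomial (Fin n) R) T q)) •
          ((1 : T ⧸ (RingHom.ker π).map (algebraMap (MvPolynomial (Fin n) R) T))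
            ⊗ₜ[MvPolynomial (Fin n) R ⧸ RingHom.ker π] p) := by
      rw [TensorProduct.smul_tmul', smul_eq_mul, mul_one]
    rw [h2, map_smul]
    rfl
  -- Koszul-regularity of the reduction of `𝔞T`
  let ρ : MvPolynomial (Fin n) (R ⧸ I) →+* T ⧸ I.map (algebraMap R T) :=
    MvPolynomial.eval₂Hom (algebraMap (R ⧸ I) (T ⧸ I.map (algebraMap R T)))
      (fun i => Ideal.Quotient.mk _ (algebraMap (MvPolynomial (Fin n) R) T (MvPolynomial.X i)))
  have hρ : ρ.comp mapQ = (Ideal.Quotient.mk (I.map (algebraMap R T))).comp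
      (algebraMap (MvPolynomial (Fin n) R) T) := by
    apply MvPolynomial.ringHom_ext
    · intro r
      change ρ (MvPolynomial.map (Ideal.Quotient.mk I) (MvPolynomial.C r)) = _
      rw [MvPolynomial.map_C]
      change MvPolynomial.eval₂Hom _ _ (MvPolynomial.C (Ideal.Quotient.mk I r)) = _
      rw [MvPolynomial.eval₂Hom_C, Ideal.Quotient.algebraMap_quotient_map_quotient]
      rfl
    · intro i
      change ρ (MvPolynomial.map (Ideal.Quotient.mk I) (MvPolynomial.X i)) = _
      rw [MvPolynomial.map_X]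
      change MvPolynomial.eval₂Hom _ _ (MvPolynomial.X i) = _
      rw [MvPolynomial.eval₂Hom_X']
      rfl
  letI algρ : Algebra (MvPolynomial (Fin n) (R ⧸ I)) (T ⧸ I.map (algebraMap R T)) :=
    RingHom.toAlgebra' ρ (fun c x => mul_comm (ρ c) x)
  haveI : Module.Flat (MvPolynomial (Fin n) (R ⧸ I)) (T ⧸ I.map (algebraMap R T)) := by
    refine Groth.Agent.Helper27.SyntAway.flat_of_surjective_square (Q := MvPolynomial (Fin n) R) (T := T)
      (Qb := MvPolynomial (Fin n) (R ⧸ I)) (Tb := T ⧸ I.map (algebraMap R T))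
      mapQ hmapQ_surj (Ideal.Quotient.mk _) Ideal.Quotient.mk_surjective hρ.symm ?_
    rw [Ideal.mk_ker, hkermapQ, Ideal.map_map, ← IsScalarTower.algebraMap_eq]
  have hKR : LCI.IsKoszulRegularIdeal (((RingHom.ker π).map
      (algebraMap (MvPolynomial (Fin n) R) T)).map
      (Ideal.Quotient.mk (I.map (algebraMap R T)))) := by
    have h1 := Groth.Agent.Helper2.KosDescent.kr_map_of_flat
      (B := MvPolynomial (Fin n) (R ⧸ I)) (B'' := T ⧸ I.map (algebraMap R T)) 𝔞b hKRb
    have h2 : 𝔞b.map (algebraMap (MvPolynomial (Fin n) (R ⧸ I)) (T ⧸ I.map (algebraMap R T))) =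
        ((RingHom.ker π).map (algebraMap (MvPolynomial (Fin n) R) T)).map
          (Ideal.Quotient.mk (I.map (algebraMap R T))) := by
      rw [← hmapker, Ideal.map_map, Ideal.map_map]
      congr 1
    rw [← h2]
    exact h1
  exact coreS (RingHom.ker π) I π hπ (fun q => RingHom.mem_ker) hβ Δ hΔ hΔker h𝔞P₀ F hF j hj
    hjsmul hKR

theorem main {R A₀ : Type u} [CommRing R] (I : Ideal R) [CommRing A₀]
    [Algebra (R ⧸ I) A₀] (h : Synt.IsSyntomic (R ⧸ I) A₀) :
    ∃ (A : Type u) (_ : CommRing A) (_ : Algebra R A), Synt.IsSyntomic R A ∧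
      Nonempty ((A ⧸ I.map (algebraMap R A)) ≃ₐ[R ⧸ I] A₀) := by
  letI : Algebra R A₀ := ((algebraMap (R ⧸ I) A₀).comp (Ideal.Quotient.mk I)).toAlgebra
  haveI : IsScalarTower R (R ⧸ I) A₀ := IsScalarTower.of_algebraMap_eq (fun _ => rfl)
  obtain ⟨A, _, _, hsm, Φ, hΦsurj, hΦker⟩ := exists_lift (R := R) (A₀ := A₀) I h
  refine ⟨A, inferInstance, inferInstance, hsm, ⟨?_⟩⟩
  let φ : (A ⧸ I.map (algebraMap R A)) →+* A₀ :=
    Ideal.Quotient.lift _ (Φ : A →+* A₀) (fun a ha => by
      rw [← hΦker] at ha; exact ha)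
  have hφbij : Function.Bijective φ := by
    constructor
    · rw [injective_iff_map_eq_zero]
      intro y hy
      obtain ⟨a, rfl⟩ := Ideal.Quotient.mk_surjective y
      rw [Ideal.Quotient.eq_zero_iff_mem, ← hΦker]
      exact hy
    · intro a₀
      obtain ⟨a, rfl⟩ := hΦsurj a₀
      exact ⟨Ideal.Quotient.mk _ a, rfl⟩
  refine AlgEquiv.ofBijective { toRingHom := φ, commutes' := ?_ } hφbij
  intro r
  obtain ⟨r', rfl⟩ := Ideal.Quotient.mk_surjective r
  change φ (algebraMap (R ⧸ I) (A ⧸ I.map (algebraMap R A)) (Ideal.Quotient.mk I r')) = _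
  rw [Ideal.Quotient.algebraMap_quotient_map_quotient]
  change Φ (algebraMap R A r') = _
  rw [Φ.commutes]
  rfl

end

/-- Let R → R₀ be a surjective ring map with kernel I (so R₀ = R/I) and A₀ a syntomic R₀-algebra (flat,
finitely presented, with local complete intersection fibres). Then there is a syntomic R-algebra A
with A/IA isomorphic to A₀ as an R/I-algebra. -/
theorem result {R A₀ : Type u} [CommRing R] (I : Ideal R) [CommRing A₀]
    [Algebra (R ⧸ I) A₀] (h : Synt.IsSyntomic (R ⧸ I) A₀) :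
    ∃ (A : Type u) (_ : CommRing A) (_ : Algebra R A), Synt.IsSyntomic R A ∧
      Nonempty ((A ⧸ I.map (algebraMap R A)) ≃ₐ[R ⧸ I] A₀) := by
  exact Groth.Agent.S6826.main I h

end Groth.Agent.S6826
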