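import Groth.Statements.S6829
import Mathlib

set_option autoImplicit false
universe u
open Smoothing

namespace Groth.Agent.S6829

section helpers
open TensorProduct MvPolynomial


variable {R A : Type u} [CommRing R] [CommRing A] [Algebra R A]

theorem aeval_hom (P : Smoothing.MarkedPresentation R A) :
    aeval (fun i => P.hom (X i)) = P.hom := by
  apply MvPolynomial.algHom_ext
  intro i
  simp

noncomputable def gens (P : Smoothing.MarkedPresentation R A) : Algebra.Generators R A (Fin P.n) :=
  Algebra.Generators.ofSurjective (fun i => P.hom (X i)) (by rw [aeval_hom]; exact P.surj)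

noncomputable def pres (P : Smoothing.MarkedPresentation R A) :
    Algebra.Presentation R A (Fin P.n) (Fin P.m) where
  toGenerators := gens P
  relation := P.rel
  span_range_relation_eq_ker := by
    rw [Algebra.Generators.ker_eq_ker_aeval_val]
    show _ = RingHom.ker (aeval (fun i => P.hom (X i)))
    rw [aeval_hom, ← P.ker_eq]
    rfl

variable (R' : Type u) [CommRing R'] [Algebra R R']

/-- the base-changed hom -/
noncomputable def hom' (P : Smoothing.MarkedPresentation R A) :
    MvPolynomial (Fin P.n) R' →ₐ[R'] R' ⊗[R] A :=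
  aeval (fun i => (1 : R') ⊗ₜ[R] P.hom (X i))

theorem hom'_map (P : Smoothing.MarkedPresentation R A) (p : MvPolynomial (Fin P.n) R) :
    hom' R' P (MvPolynomial.map (algebraMap R R') p) = (1 : R') ⊗ₜ[R] P.hom p := by
  induction p using MvPolynomial.induction_on with
  | C a =>
    simp only [hom', map_C, aeval_C, Algebra.TensorProduct.algebraMap_apply, Algebra.algebraMap_self,
      RingHom.id_apply, AlgHom.commutes]
    rw [Algebra.algebraMap_eq_smul_one, smul_tmul, ← Algebra.algebraMap_eq_smul_one]
    rw [show P.hom (C a) = algebraMap R A a from by rw [← MvPolynomial.algebraMap_eq, AlgHom.commutes]]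
  | add p q hp hq => simp only [map_add, hp, hq, tmul_add]
  | mul_X p i hp =>
    simp only [map_mul, hp, map_X]
    simp [hom']

noncomputable def bc (P : Smoothing.MarkedPresentation R A) :
    Smoothing.MarkedPresentation R' (R' ⊗[R] A) where
  n := P.n
  m := P.m
  c := P.c
  hcn := P.hcn
  hcm := P.hcm
  rel j := MvPolynomial.map (algebraMap R R') (P.rel j)
  hom := hom' R' P
  surj := ((gens P).baseChange R').aeval_val_surjective
  ker_eq := by
    have := (pres P).span_range_relation_eq_ker_baseChange R'
    rw [show (Set.range fun j => MvPolynomial.map (algebraMap R R') (P.rel j)) =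
      Set.range fun i ↦ (MvPolynomial.map (algebraMap R R')) ((pres P).relation i) from rfl, this]
    rfl

theorem jac_map {n m c : ℕ} (f : Fin m → MvPolynomial (Fin n) R) (rows : Fin c → Fin m)
    (cols : Fin c → Fin n) :
    Smoothing.jacobianMinor (fun j => MvPolynomial.map (algebraMap R R') (f j)) rows cols =
      MvPolynomial.map (algebraMap R R') (Smoothing.jacobianMinor f rows cols) := by
  unfold Smoothing.jacobianMinor
  rw [RingHom.map_det]
  congr 1
  ext j k
  simp [pderiv_map]

theorem killsTail (P : Smoothing.MarkedPresentation R A) (a : A) (h : Smoothing.KillsTail P a) :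
    Smoothing.KillsTail (bc R' P) ((1 : R') ⊗ₜ[R] a) := by
  intro b'' hb'' j' hj
  let b' : MvPolynomial (Fin P.n) R' := b''
  let j : Fin P.m := j'
  have hb' : hom' R' P b' = (1 : R') ⊗ₜ[R] a := hb''
  set φ := MvPolynomial.map (σ := Fin P.n) (algebraMap R R') with hφ
  let rel' : Fin P.m → MvPolynomial (Fin P.n) R' := fun j => φ (P.rel j)
  have hker : RingHom.ker (hom' R' P).toRingHom = Ideal.span (Set.range rel') := (bc R' P).ker_eq
  show b' * rel' j ∈ Ideal.span (rel' '' {j' : Fin P.m | (j' : ℕ) < P.c}) ⊔
      Ideal.span (Set.range rel') ^ 2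
  obtain ⟨a₀, ha₀⟩ := P.surj a
  have h0 := h a₀ ha₀ j hj
  have h1 : φ (a₀ * P.rel j) ∈ Ideal.span (rel' '' {j' : Fin P.m | (j' : ℕ) < P.c}) ⊔
      Ideal.span (Set.range rel') ^ 2 := by
    have := Ideal.mem_map_of_mem φ h0
    rw [Ideal.map_sup, Ideal.map_pow, Ideal.map_span, Ideal.map_span, ← Set.range_comp,
      ← Set.image_comp] at this
    exact this
  have h2 : (b' - φ a₀) ∈ Ideal.span (Set.range rel') := by
    rw [← hker, RingHom.mem_ker, map_sub, sub_eq_zero]
    show hom' R' P b' = hom' R' P (φ a₀)
    rw [hb', hom'_map, ha₀]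
  have h3 : (b' - φ a₀) * rel' j ∈ Ideal.span (Set.range rel') ^ 2 := by
    rw [pow_two]
    exact Ideal.mul_mem_mul h2 (Ideal.subset_span ⟨j, rfl⟩)
  have : b' * rel' j = φ (a₀ * P.rel j) + (b' - φ a₀) * rel' j := by
    rw [map_mul]
    show _ = φ a₀ * φ (P.rel j) + (b' - φ a₀) * φ (P.rel j)
    ring
  rw [this]
  exact Ideal.add_mem _ h1 (Ideal.mem_sup_right h3)

theorem main6829 (a : A) :
    (Smoothing.IsElementaryStandard R A a →
        Smoothing.IsElementaryStandard R' (R' ⊗[R] A) ((1 : R') ⊗ₜ[R] a)) ∧
      (Smoothing.IsStrictlyStandard R A a →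
        Smoothing.IsStrictlyStandard R' (R' ⊗[R] A) ((1 : R') ⊗ₜ[R] a)) := by
  constructor
  · rintro ⟨P, ⟨a', ha'⟩, hk⟩
    refine ⟨bc R' P, ⟨(1 : R') ⊗ₜ[R] a', ?_⟩, killsTail R' P a hk⟩
    show _ = _ * hom' R' P (Smoothing.jacobianMinor (fun j => MvPolynomial.map (algebraMap R R') (P.rel j)) _ _)
    rw [jac_map, hom'_map, ha', Algebra.TensorProduct.tmul_mul_tmul, mul_one]
    rfl
  · rintro ⟨P, hmem, hk⟩
    refine ⟨bc R' P, ?_, killsTail R' P a hk⟩
    have := Ideal.mem_map_of_mem (Algebra.TensorProduct.includeRight (R := R) (A := R') (B := A)).toRingHom hmem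
    rw [Ideal.map_span, ← Set.range_comp] at this
    have hcols : ∀ cols : Fin P.c → Fin P.n,
        (bc R' P).hom (Smoothing.jacobianMinor (bc R' P).rel (Fin.castLE (bc R' P).hcm) cols) =
        (Algebra.TensorProduct.includeRight (R := R) (A := R') (B := A)).toRingHom
          (P.hom (Smoothing.jacobianMinor P.rel (Fin.castLE P.hcm) cols)) := by
      intro cols
      show hom' R' P (Smoothing.jacobianMinor (fun j => MvPolynomial.map (algebraMap R R') (P.rel j)) _ _) = _
      rw [jac_map, hom'_map]
      rfl
    have hf : (fun cols : Fin P.c → Fin P.n =>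
        (bc R' P).hom (Smoothing.jacobianMinor (bc R' P).rel (Fin.castLE (bc R' P).hcm) cols)) =
        ((Algebra.TensorProduct.includeRight (R := R) (A := R') (B := A)).toRingHom ∘
          fun cols => P.hom (Smoothing.jacobianMinor P.rel (Fin.castLE P.hcm) cols)) := funext hcols
    show _ ∈ Ideal.span (Set.range (fun cols : Fin P.c → Fin P.n =>
        (bc R' P).hom (Smoothing.jacobianMinor (bc R' P).rel (Fin.castLE (bc R' P).hcm) cols)))
    rw [hf]
    exact this


end helpers

open TensorProduct in
/-- Let A be a finitely presented R-algebra, R → R' a ring map and a ∈ A. If a is elementary standard,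
resp. strictly standard, in A over R, then a ⊗ 1 is elementary standard, resp. strictly standard, in
A ⊗_R R' over R' (written here as 1 ⊗ a in R' ⊗_R A). -/
theorem result {R A R' : Type u} [CommRing R] [CommRing A] [Algebra R A]
    [Algebra.FinitePresentation R A] [CommRing R'] [Algebra R R'] (a : A) :
    (Smoothing.IsElementaryStandard R A a →
        Smoothing.IsElementaryStandard R' (R' ⊗[R] A) ((1 : R') ⊗ₜ[R] a)) ∧
      (Smoothing.IsStrictlyStandard R A a →
        Smoothing.IsStrictlyStandard R' (R' ⊗[R] A) ((1 : R') ⊗ₜ[R] a)) := by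
  exact main6829 R' a

end Groth.Agent.S6829
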