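import Groth.Statements.S6832
import Groth.Agent.Lib.Helper10.PresRel

set_option autoImplicit false
set_option linter.unusedSectionVars false
set_option linter.unusedVariables false
universe u
open CategoryTheory CategoryTheory.Limits TopologicalSpace
open ModSite

namespace Groth.Agent.S6832

open Opposite
open Groth.Agent.Helper17.MT Groth.Agent.Helper17.GN Groth.Agent.Helper17.FS
open Groth.Agent.Helper10.PresRel

section Alg

theorem comb_identity {R : Type*} [CommRing R] {N : Type*} [AddCommGroup N] [Module R N]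
    {Kg Kp Kr : Type*} [Fintype Kg] [Fintype Kp] [Fintype Kr]
    (Γ : Kg → N) (g : Kp → N) (A : Kp → Kg → R) (Rr : Kr → Kg → R) (c : Kp → R) (d : Kr → R)
    (h : ∀ k, ∑ j, c j * A j k = ∑ e, d e * Rr e k) :
    ∑ j, c j • g j =
      ∑ e, d e • (∑ k, Rr e k • Γ k) + ∑ j, c j • (g j - ∑ k, A j k • Γ k) := by
  have e1 : ∑ e, d e • (∑ k, Rr e k • Γ k) = ∑ k, (∑ e, d e * Rr e k) • Γ k := by
    simp_rw [Finset.smul_sum, smul_smul]
    rw [Finset.sum_comm]
    simp_rw [Finset.sum_smul]
  have e2 : ∑ j, c j • (g j - ∑ k, A j k • Γ k) =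
      ∑ j, c j • g j - ∑ k, (∑ j, c j * A j k) • Γ k := by
    simp_rw [smul_sub, Finset.smul_sum, smul_smul, Finset.sum_sub_distrib]
    congr 1
    rw [Finset.sum_comm]
    simp_rw [Finset.sum_smul]
  rw [e1, e2]
  simp_rw [h]
  abel

end Alg

section Space

variable {X : TopCat.{u}} (O : TopCat.Sheaf CommRingCat.{u} X)

theorem ι_injective {G F : ModSite.Mod O} (θ : G ⟶ F) (W : Opens X) :
    Function.Injective ((kernel.ι θ).val.app (op W)).hom := by
  have h1 : Mono ((SheafOfModules.forget _).map (kernel.ι θ)) := inferInstance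
  exact (PresheafOfModules.mono_iff_surjective _).mp h1 (X := op W)

theorem ι_θ {G F : ModSite.Mod O} (θ : G ⟶ F) (W : Opens X) (m : ModSite.sect (kernel θ) W) :
    (θ.val.app (op W)).hom (((kernel.ι θ).val.app (op W)).hom m) = 0 := by
  have h := congrArg (fun (φ : kernel θ ⟶ F) => (φ.val.app (op W)).hom m) (kernel.condition θ)
  exact h

theorem exists_ker_section {G F : ModSite.Mod O} (θ : G ⟶ F) [Epi θ] (W : Opens X)
    (m : ModSite.sect G W) (hm : (θ.val.app (op W)).hom m = 0) :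
    ∃ n : ModSite.sect (kernel θ) W, ((kernel.ι θ).val.app (op W)).hom n = m := by
  let S : ShortComplex (ModSite.Mod O) := ShortComplex.mk (kernel.ι θ) θ (kernel.condition _)
  have hS : S.ShortExact :=
    { exact := ShortComplex.exact_of_f_is_kernel _ (kernelIsKernel θ)
      mono_f := inferInstanceAs (Mono (kernel.ι θ))
      epi_g := inferInstanceAs (Epi θ) }
  exact exact_sections O S hS W m hm

theorem rres_eq {U V : Opens X} (g g' : V ⟶ U) (a : O.obj.obj (op U)) :
    rres (O := O) g a = rres g' a := by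
  rw [Subsingleton.elim g g']

theorem core {G F : ModSite.Mod O} (θ : G ⟶ F) [Epi θ] (U : Opens X)
    {Kg Kp Kr : Type u} [Fintype Kg] [DecidableEq Kg] [Fintype Kp] [DecidableEq Kp]
    [Fintype Kr] [DecidableEq Kr]
    (f' : Kg → ModSite.sect F U) (γ' : Kg → ModSite.sect G U) (g' : Kp → ModSite.sect G U)
    (a' : Kp → Kg → O.obj.obj (op U)) (r' : Kr → Kg → O.obj.obj (op U))
    (H1 : ∀ k, (θ.val.app (op U)).hom (γ' k) = f' k)
    (H2 : ∀ j, (θ.val.app (op U)).hom (g' j) = ∑ k, a' j k • f' k)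
    (H3 : ∀ e, ∑ k, r' e k • f' k = 0)
    (H4 : ∀ (W : Opens X) (a : W ⟶ U) (m : ModSite.sect G W) (y : X), y ∈ W →
      ∃ (W' : Opens X) (h : W' ⟶ W), y ∈ W' ∧ ∃ c : Kp → O.obj.obj (op W'),
        res G h m = ∑ j, c j • res G (h ≫ a) (g' j))
    (H5 : ∀ (W : Opens X) (a : W ⟶ U) (v : Kg → O.obj.obj (op W)) (y : X), y ∈ W →
      ∑ k, v k • res F a (f' k) = 0 →
      ∃ (W' : Opens X) (h : W' ⟶ W), y ∈ W' ∧ ∃ d : Kr → O.obj.obj (op W'),
        ∀ k, rres h (v k) = ∑ e, d e * rres (h ≫ a) (r' e k)) :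
    ∃ σ : Kr ⊕ Kp → ModSite.sect (kernel θ) U,
      Epi (πS (O.over U) ((ModSite.restr O U).obj (kernel θ))
        (fun t => secOf O U (kernel θ) (σ t))) := by
  -- the kernel elements
  let ρ' : Kr → ModSite.sect G U := fun e => ∑ k, r' e k • γ' k
  let δ : Kp → ModSite.sect G U := fun j => g' j - ∑ k, a' j k • γ' k
  have hρ' : ∀ e, (θ.val.app (op U)).hom (ρ' e) = 0 := by
    intro e
    rw [map_sum']
    refine Eq.trans (Finset.sum_congr rfl (fun k _ => ?_)) (H3 e)
    rw [map_smul', H1]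
  have hδ : ∀ j, (θ.val.app (op U)).hom (δ j) = 0 := by
    intro j
    change (θ.val.app (op U)).hom (g' j - ∑ k, a' j k • γ' k) = 0
    rw [map_sub, H2, map_sum', sub_eq_zero]
    refine Finset.sum_congr rfl (fun k _ => ?_)
    rw [map_smul', H1]
  choose nρ hnρ using fun e => exists_ker_section O θ U (ρ' e) (hρ' e)
  choose nδ hnδ using fun j => exists_ker_section O θ U (δ j) (hδ j)
  refine ⟨Sum.elim nρ nδ, ?_⟩
  apply epi_πS_of_pointwise O (kernel θ) U (Sum.elim nρ nδ)
  intro W a₀ m y hy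
  let m' : ModSite.sect G W := ((kernel.ι θ).val.app (op W)).hom m
  have hm' : (θ.val.app (op W)).hom m' = 0 := ι_θ O θ W m
  obtain ⟨W₁, h₁, hyW₁, c, hc⟩ := H4 W a₀ m' y hy
  let v : Kg → O.obj.obj (op W₁) := fun k => ∑ j, c j * rres (h₁ ≫ a₀) (a' j k)
  have hv : ∑ k, v k • res F (h₁ ≫ a₀) (f' k) = 0 := by
    have e0 : (θ.val.app (op W₁)).hom (res G h₁ m') = 0 := by
      rw [map_res, hm']
      exact res_zero F h₁
    rw [hc, map_sum'] at e0
    refine Eq.trans ?_ e0
    have e1 : ∀ j, (θ.val.app (op W₁)).hom (c j • res G (h₁ ≫ a₀) (g' j)) =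
        ∑ k, (c j * rres (h₁ ≫ a₀) (a' j k)) • res F (h₁ ≫ a₀) (f' k) := by
      intro j
      rw [map_smul', map_res, H2, res_sum, Finset.smul_sum]
      refine Finset.sum_congr rfl (fun k _ => ?_)
      rw [res_smul, smul_smul]
    rw [Finset.sum_congr rfl (fun j _ => e1 j), Finset.sum_comm]
    refine Finset.sum_congr rfl (fun k _ => ?_)
    exact Finset.sum_smul
  obtain ⟨W₂, h₂, hyW₂, d, hd⟩ := H5 W₁ (h₁ ≫ a₀) v y hyW₁ hv
  refine ⟨W₂, h₂ ≫ h₁, hyW₂, Sum.elim d (fun j => rres h₂ (c j)), ?_⟩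
  apply ι_injective O θ W₂
  let q : W₂ ⟶ U := (h₂ ≫ h₁) ≫ a₀
  have hh : ∀ k, ∑ j, rres h₂ (c j) * rres q (a' j k) = ∑ e, d e * rres q (r' e k) := by
    intro k
    have e0 := hd k
    change rres h₂ (∑ j, c j * rres (h₁ ≫ a₀) (a' j k)) = _ at e0
    rw [rres_sum] at e0
    refine Eq.trans (Finset.sum_congr rfl (fun j _ => ?_)) (e0.trans
      (Finset.sum_congr rfl (fun e _ => ?_)))
    · rw [rres_mul, ← rres_comp]
      congr 1
    · congr 1
  have lhs : ((kernel.ι θ).val.app (op W₂)).hom (res (kernel θ) (h₂ ≫ h₁) m) =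
      ∑ j, rres h₂ (c j) • res G q (g' j) := by
    rw [map_res, res_comp]
    change res G h₂ (res G h₁ m') = _
    rw [hc, res_sum]
    refine Finset.sum_congr rfl (fun j _ => ?_)
    rw [res_smul]
    congr 1
    exact res_res O G _ _ _ _
  have rhs : ((kernel.ι θ).val.app (op W₂)).hom
      (∑ t, (Sum.elim d (fun j => rres h₂ (c j)) t) •
        res (kernel θ) ((h₂ ≫ h₁) ≫ a₀) (Sum.elim nρ nδ t)) =
      ∑ e, d e • (∑ k, rres q (r' e k) • res G q (γ' k)) +
        ∑ j, rres h₂ (c j) • (res G q (g' j) - ∑ k, rres q (a' j k) • res G q (γ' k)) := by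
    rw [map_sum', Fintype.sum_sum_type]
    congr 1
    · refine Finset.sum_congr rfl (fun e _ => ?_)
      change ((kernel.ι θ).val.app (op W₂)).hom (d e • res (kernel θ) q (nρ e)) = _
      rw [map_smul', map_res, hnρ e]
      congr 1
      change res G q (∑ k, r' e k • γ' k) = _
      rw [res_sum]
      refine Finset.sum_congr rfl (fun k _ => ?_)
      rw [res_smul]
    · refine Finset.sum_congr rfl (fun j _ => ?_)
      change ((kernel.ι θ).val.app (op W₂)).hom (rres h₂ (c j) • res (kernel θ) q (nδ j)) = _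
      rw [map_smul', map_res, hnδ j]
      congr 1
      change res G q (g' j - ∑ k, a' j k • γ' k) = _
      rw [res_sub, res_sum]
      congr 1
      refine Finset.sum_congr rfl (fun k _ => ?_)
      rw [res_smul]
  rw [lhs, rhs]
  exact comb_identity (fun k => res G q (γ' k)) (fun j => res G q (g' j))
    (fun j k => rres q (a' j k)) (fun e k => rres q (r' e k)) (fun j => rres h₂ (c j)) d hh

end Space

/-- On a ringed space (X, O), if θ : G → F is a surjective map of O-modules with G of finite type and F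
of finite presentation, then Ker(θ) is of finite type. (Part (1) of the source is the case G = O^r.) -/
theorem result {X : TopCat.{u}} (O : TopCat.Sheaf CommRingCat.{u} X)
    {G F : ModSite.Mod O} (θ : G ⟶ F) [Epi θ] [SheafOfModules.IsFiniteType (R := ModSite.ringSh O) G]
    [SheafOfModules.IsFinitePresentation (R := ModSite.ringSh O) F] : SheafOfModules.IsFiniteType (R := ModSite.ringSh O) (kernel θ) := by
  classical
  apply isFiniteType_of_local
  intro x
  obtain ⟨UF, hxF, Kg, Kr, _, _, _, _, f, r, hgen, hrel, hrelgen⟩ :=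
    exists_presentation_near O F x
  obtain ⟨UG, hxG, Kp, _, _, sG, hsG⟩ := exists_generators_near O G x
  let g : Kp → ModSite.sect G UG := fun j =>
    secAt (O.over UG) ((ModSite.restr O UG).obj G) (sG j) (Over.mk (𝟙 UG))
  obtain ⟨V₁, hxV₁, hV₁⟩ := exists_common_open x
    (fun (k : Kg) (V : Opens X) => ∃ (h : V ⟶ UF) (t : ModSite.sect G V),
      (θ.val.app (op V)).hom t = res F h (f k))
    (by
      rintro k V V' hle ⟨h, t, ht⟩
      refine ⟨homOfLE hle ≫ h, res G (homOfLE hle) t, ?_⟩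
      rw [map_res, ht, res_comp])
    (by
      intro k
      obtain ⟨W', h, hxW', t, ht⟩ := exists_lift_space O θ UF (f k) x hxF
      exact ⟨W', hxW', h, t, ht⟩)
  choose h₁ γ hγ using hV₁
  obtain ⟨V₂, hxV₂, hV₂⟩ := exists_common_open x
    (fun (j : Kp) (V : Opens X) => ∃ (hG : V ⟶ UG) (hF : V ⟶ UF) (a : Kg → O.obj.obj (op V)),
      (θ.val.app (op V)).hom (res G hG (g j)) = ∑ k, a k • res F hF (f k))
    (by
      rintro j V V' hle ⟨hG, hF, a, ha⟩
      refine ⟨homOfLE hle ≫ hG, homOfLE hle ≫ hF, fun k => rres (homOfLE hle) (a k), ?_⟩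
      rw [res_comp, map_res, ha, res_sum]
      refine Finset.sum_congr rfl (fun k _ => ?_)
      rw [res_smul, res_comp])
    (by
      intro j
      obtain ⟨W', h, hxW', a, ha⟩ := hgen (UG ⊓ UF) (homOfLE inf_le_right)
        ((θ.val.app (op (UG ⊓ UF))).hom (res G (homOfLE inf_le_left) (g j))) x ⟨hxG, hxF⟩
      refine ⟨W', hxW', h ≫ homOfLE inf_le_left, h ≫ homOfLE inf_le_right, a, ?_⟩
      rw [res_comp, map_res]
      exact ha)
  choose hG₂ hF₂ a ha using hV₂
  let U : Opens X := V₁ ⊓ (V₂ ⊓ (UF ⊓ UG))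
  have hxU : x ∈ U := ⟨hxV₁, hxV₂, hxF, hxG⟩
  let b₁ : U ⟶ V₁ := homOfLE inf_le_left
  let b₂ : U ⟶ V₂ := homOfLE (inf_le_right.trans inf_le_left)
  let bF : U ⟶ UF := homOfLE (inf_le_right.trans (inf_le_right.trans inf_le_left))
  let bG : U ⟶ UG := homOfLE (inf_le_right.trans (inf_le_right.trans inf_le_right))
  obtain ⟨σ, hσ⟩ := core O θ U (fun k => res F bF (f k)) (fun k => res G b₁ (γ k))
    (fun j => res G bG (g j)) (fun j k => rres b₂ (a j k)) (fun e k => rres bF (r e k))
    (by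
      intro k
      rw [map_res, hγ k]
      exact res_res O F _ _ _ _)
    (by
      intro j
      have e0 := congrArg (res F b₂) (ha j)
      rw [← map_res, res_sum] at e0
      refine Eq.trans ?_ (e0.trans (Finset.sum_congr rfl (fun k _ => ?_)))
      · congr 1
        exact (res_res O G _ _ _ _).symm
      · rw [res_smul]
        congr 1
        exact res_res O F _ _ _ _)
    (by
      intro e
      have e0 := congrArg (res F bF) (hrel e)
      rw [res_sum, res_zero] at e0
      refine Eq.trans (Finset.sum_congr rfl (fun k _ => ?_)) e0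
      rw [res_smul])
    (by
      intro W a₀ m y hy
      obtain ⟨W', h, hyW', c, hc⟩ := loc_comb_space O G UG sG W (a₀ ≫ bG) m y hy
      refine ⟨W', h, hyW', c, hc.trans (Finset.sum_congr rfl (fun j _ => ?_))⟩
      congr 1
      exact (res_res O G _ _ _ _).symm)
    (by
      intro W a₀ v y hy hv
      have hv' : ∑ k, v k • res F (a₀ ≫ bF) (f k) = 0 := by
        refine Eq.trans (Finset.sum_congr rfl (fun k _ => ?_)) hv
        congr 1
        exact (res_res O F _ _ _ _).symm
      obtain ⟨W', h, hyW', d, hd⟩ := hrelgen W (a₀ ≫ bF) v y hy hv'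
      refine ⟨W', h, hyW', d, fun k => (hd k).trans (Finset.sum_congr rfl (fun e _ => ?_))⟩
      congr 1
      rw [← rres_comp]
      congr 1)
  exact ⟨U, hxU, Kr ⊕ Kp, inferInstance, inferInstance, _, hσ⟩

end Groth.Agent.S6832
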