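import Groth.Statements.S6833
import Groth.Agent.Lib.Helper10.PresLocal

set_option autoImplicit false
set_option linter.unusedSectionVars false
set_option linter.unusedVariables false
universe u
open CategoryTheory CategoryTheory.Limits TopologicalSpace
open ModSite

namespace Groth.Agent.S6833

open Opposite
open Groth.Agent.Helper17.MT Groth.Agent.Helper17.GN Groth.Agent.Helper17.FS
open Groth.Agent.Helper10.PresRel Groth.Agent.Helper10.PresLocal

section Space

variable {X : TopCat.{u}} (O : TopCat.Sheaf CommRingCat.{u} X)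

theorem π_φ {G F : ModSite.Mod O} (φ : G ⟶ F) (W : Opens X) (u : ModSite.sect G W) :
    ((cokernel.π φ).val.app (op W)).hom ((φ.val.app (op W)).hom u) = 0 := by
  have h := congrArg (fun (ψ : G ⟶ cokernel φ) => (ψ.val.app (op W)).hom u) (cokernel.condition φ)
  exact h

/-- a section killed by the projection to the cokernel locally comes from the source -/
theorem exists_preimage_of_π_eq_zero {G F : ModSite.Mod O} (φ : G ⟶ F) (W : Opens X)
    (t : ModSite.sect F W) (ht : ((cokernel.π φ).val.app (op W)).hom t = 0) (y : X) (hy : y ∈ W) :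
    ∃ (W' : Opens X) (h : W' ⟶ W), y ∈ W' ∧ ∃ u : ModSite.sect G W',
      (φ.val.app (op W')).hom u = res F h t := by
  let p := cokernel.π φ
  let S : ShortComplex (ModSite.Mod O) := ShortComplex.mk (kernel.ι p) p (kernel.condition _)
  have hS : S.ShortExact :=
    { exact := ShortComplex.exact_of_f_is_kernel _ (kernelIsKernel p)
      mono_f := inferInstanceAs (Mono (kernel.ι p))
      epi_g := inferInstanceAs (Epi (cokernel.π φ)) }
  obtain ⟨n, hn⟩ := exact_sections O S hS W t ht
  obtain ⟨W', h, hyW', u, hu⟩ := exists_lift_space O (Abelian.factorThruImage φ) W n y hy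
  refine ⟨W', h, hyW', u, ?_⟩
  have hfac := congrArg (fun (ψ : G ⟶ F) => (ψ.val.app (op W')).hom u) (Abelian.image.fac φ)
  refine hfac.symm.trans ?_
  change ((kernel.ι p).val.app (op W')).hom
    (((Abelian.factorThruImage φ).val.app (op W')).hom u) = _
  rw [hu, map_res]
  exact congrArg _ hn

end Space

/-- On a ringed space (X, O), if φ : G → F is a map of O-modules with G of finite type and F of finite
presentation, then Coker(φ) is of finite presentation. -/
theorem result {X : TopCat.{u}} (O : TopCat.Sheaf CommRingCat.{u} X)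
    {G F : ModSite.Mod O} (φ : G ⟶ F) [SheafOfModules.IsFiniteType (R := ModSite.ringSh O) G] [SheafOfModules.IsFinitePresentation (R := ModSite.ringSh O) F] :
    SheafOfModules.IsFinitePresentation (R := ModSite.ringSh O) (cokernel φ) := by
  classical
  apply isFinitePresentation_of_local
  intro x
  obtain ⟨UF, hxF, Kg, Kr, _, _, _, _, f, r, hgen, hrel, hrelgen⟩ :=
    exists_presentation_near O F x
  obtain ⟨UG, hxG, Kp, _, _, sG, hsG⟩ := exists_generators_near O G x
  let g : Kp → ModSite.sect G UG := fun j =>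
    secAt (O.over UG) ((ModSite.restr O UG).obj G) (sG j) (Over.mk (𝟙 UG))
  let Q : ModSite.Mod O := cokernel φ
  let p : F ⟶ Q := cokernel.π φ
  obtain ⟨V₂, hxV₂, hV₂⟩ := exists_common_open x
    (fun (j : Kp) (V : Opens X) => ∃ (hG : V ⟶ UG) (hF : V ⟶ UF) (a : Kg → O.obj.obj (op V)),
      (φ.val.app (op V)).hom (res G hG (g j)) = ∑ k, a k • res F hF (f k))
    (by
      rintro j V V' hle ⟨hG, hF, a, ha⟩
      refine ⟨homOfLE hle ≫ hG, homOfLE hle ≫ hF, fun k => rres (homOfLE hle) (a k), ?_⟩
      rw [res_comp, map_res, ha, res_sum]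
      refine Finset.sum_congr rfl (fun k _ => ?_)
      rw [res_smul, res_comp])
    (by
      intro j
      obtain ⟨W', h, hxW', a, ha⟩ := hgen (UG ⊓ UF) (homOfLE inf_le_right)
        ((φ.val.app (op (UG ⊓ UF))).hom (res G (homOfLE inf_le_left) (g j))) x ⟨hxG, hxF⟩
      refine ⟨W', hxW', h ≫ homOfLE inf_le_left, h ≫ homOfLE inf_le_right, a, ?_⟩
      rw [res_comp, map_res]
      exact ha)
  choose hG₂ hF₂ a ha using hV₂
  let U : Opens X := V₂ ⊓ (UF ⊓ UG)
  have hxU : x ∈ U := ⟨hxV₂, hxF, hxG⟩
  let b₂ : U ⟶ V₂ := homOfLE inf_le_left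
  let bF : U ⟶ UF := homOfLE (inf_le_right.trans inf_le_left)
  let bG : U ⟶ UG := homOfLE (inf_le_right.trans inf_le_right)
  let f' : Kg → ModSite.sect F U := fun k => res F bF (f k)
  let r' : Kr → Kg → O.obj.obj (op U) := fun e k => rres bF (r e k)
  let a' : Kp → Kg → O.obj.obj (op U) := fun j k => rres b₂ (a j k)
  have H2 : ∀ j, (φ.val.app (op U)).hom (res G bG (g j)) = ∑ k, a' j k • f' k := by
    intro j
    have e0 := congrArg (res F b₂) (ha j)
    rw [← map_res, res_sum] at e0
    refine Eq.trans ?_ (e0.trans (Finset.sum_congr rfl (fun k _ => ?_)))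
    · congr 1
      exact (res_res O G _ _ _ _).symm
    · rw [res_smul]
      congr 1
      exact res_res O F _ _ _ _
  have H3 : ∀ e, ∑ k, r' e k • f' k = 0 := by
    intro e
    have e0 := congrArg (res F bF) (hrel e)
    rw [res_sum, res_zero] at e0
    refine Eq.trans (Finset.sum_congr rfl (fun k _ => ?_)) e0
    rw [res_smul]
  obtain ⟨P, hP⟩ := presentation_of_pointwise O Q U
    (fun k => (p.val.app (op U)).hom (f' k)) (Sum.elim r' a')
    (by
      intro W a₀ m y hy
      obtain ⟨W₁, h₁, hyW₁, t, ht⟩ := exists_lift_space O p W m y hy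
      obtain ⟨W₂, h₂, hyW₂, c, hc⟩ := hgen W₁ (h₁ ≫ a₀ ≫ bF) t y hyW₁
      refine ⟨W₂, h₂ ≫ h₁, hyW₂, c, ?_⟩
      rw [res_comp, ← ht, ← map_res, hc, map_sum']
      refine Finset.sum_congr rfl (fun k _ => ?_)
      rw [map_smul']
      congr 1
      rw [← map_res]
      congr 1
      exact (res_res O F _ _ _ _).symm)
    (by
      rintro (e | j)
      · change ∑ k, r' e k • (p.val.app (op U)).hom (f' k) = 0
        have e0 := congrArg (p.val.app (op U)).hom (H3 e)
        rw [map_sum', map_zero] at e0
        refine Eq.trans (Finset.sum_congr rfl (fun k _ => ?_)) e0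
        rw [map_smul']
      · change ∑ k, a' j k • (p.val.app (op U)).hom (f' k) = 0
        have e0 := congrArg (p.val.app (op U)).hom (H2 j)
        rw [map_sum', π_φ] at e0
        refine Eq.trans (Finset.sum_congr rfl (fun k _ => ?_)) e0.symm
        rw [map_smul'])
    (by
      intro W a₀ v y hy hv
      let t : ModSite.sect F W := ∑ k, v k • res F a₀ (f' k)
      have ht : (p.val.app (op W)).hom t = 0 := by
        rw [map_sum']
        refine Eq.trans (Finset.sum_congr rfl (fun k _ => ?_)) hv
        rw [map_smul', map_res]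
      obtain ⟨W₁, h₁, hyW₁, u, hu⟩ := exists_preimage_of_π_eq_zero O φ W t ht y hy
      obtain ⟨W₂, h₂, hyW₂, c, hc⟩ := loc_comb_space O G UG sG W₁ (h₁ ≫ a₀ ≫ bG) u y hyW₁
      let q₂ : W₂ ⟶ U := h₂ ≫ h₁ ≫ a₀
      let v' : Kg → O.obj.obj (op W₂) := fun k =>
        rres (h₂ ≫ h₁) (v k) - ∑ j, c j * rres q₂ (a' j k)
      have hv' : ∑ k, v' k • res F (q₂ ≫ bF) (f k) = 0 := by
        have e1 : ∑ k, rres (h₂ ≫ h₁) (v k) • res F (q₂ ≫ bF) (f k) =
            (φ.val.app (op W₂)).hom (res G h₂ u) := by
          rw [map_res, hu, ← res_comp]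
          change _ = res F (h₂ ≫ h₁) (∑ k, v k • res F a₀ (f' k))
          rw [res_sum]
          refine Finset.sum_congr rfl (fun k _ => ?_)
          rw [res_smul]
          congr 1
          rw [res_res O F (h₂ ≫ h₁) a₀ q₂]
          exact (res_res O F _ _ _ _).symm
        have e2 : (φ.val.app (op W₂)).hom (res G h₂ u) =
            ∑ k, (∑ j, c j * rres q₂ (a' j k)) • res F (q₂ ≫ bF) (f k) := by
          rw [hc, map_sum']
          have e3 : ∀ j, (φ.val.app (op W₂)).hom (c j • res G (h₂ ≫ (h₁ ≫ a₀ ≫ bG)) (g j)) =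
              ∑ k, (c j * rres q₂ (a' j k)) • res F (q₂ ≫ bF) (f k) := by
            intro j
            rw [map_smul']
            have e5 : res G (h₂ ≫ (h₁ ≫ a₀ ≫ bG)) (g j) = res G q₂ (res G bG (g j)) :=
              (res_res O G _ _ _ _).symm
            rw [e5, map_res, H2 j, res_sum, Finset.smul_sum]
            refine Finset.sum_congr rfl (fun k _ => ?_)
            rw [res_smul, smul_smul]
            congr 1
            exact res_res O F _ _ _ _
          rw [Finset.sum_congr rfl (fun j _ => e3 j), Finset.sum_comm]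
          refine Finset.sum_congr rfl (fun k _ => ?_)
          rw [Finset.sum_smul]
        simp only [v', sub_smul, Finset.sum_sub_distrib]
        rw [e1, e2, sub_self]
      obtain ⟨W₃, h₃, hyW₃, d, hd⟩ := hrelgen W₂ (q₂ ≫ bF) v' y hyW₂ hv'
      refine ⟨W₃, h₃ ≫ h₂ ≫ h₁, hyW₃, Sum.elim d (fun j => rres h₃ (c j)), fun k => ?_⟩
      rw [Fintype.sum_sum_type]
      have e4 := hd k
      change rres h₃ (rres (h₂ ≫ h₁) (v k) - ∑ j, c j * rres q₂ (a' j k)) = _ at e4
      rw [Groth.Agent.Helper17.ST.rres_sub, rres_sum, sub_eq_iff_eq_add] at e4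
      rw [rres_comp (h₂ ≫ h₁) h₃, e4]
      congr 1
      · refine Finset.sum_congr rfl (fun e _ => ?_)
        congr 1
        change _ = rres _ (rres bF (r e k))
        rw [← rres_comp]
        congr 1
      · refine Finset.sum_congr rfl (fun j _ => ?_)
        change _ = rres h₃ (c j) * rres _ (a' j k)
        rw [rres_mul, ← rres_comp]
        congr 1)
  exact ⟨U, hxU, P, hP⟩

end Groth.Agent.S6833
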