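import Groth.Statements.S6834
import Groth.Agent.Lib.Helper10.LocFinMod
import Groth.Agent.Lib.Helper17.GN4

set_option autoImplicit false
set_option linter.unusedSectionVars false
universe u
open CategoryTheory CategoryTheory.Limits TopologicalSpace
open ModSite

namespace Groth.Agent.S6834

open Opposite
open Groth.Agent.Helper17.MT Groth.Agent.Helper17.GN

section Site

variable {C : Type u} [SmallCategory C] {J : GrothendieckTopology C} (O : Sheaf J CommRingCat.{u})

theorem mono_ι {I : Type u} [Preorder I] [Nonempty I] [IsDirected I (· ≤ ·)]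
    (D : I ⥤ ModSite.Mod O) (c : Cocone D) (hc : IsColimit c)
    (hmono : ∀ (i j : I) (f : i ⟶ j), Mono (D.map f)) (i : I) : Mono (c.ι.app i) := by
  let T := SheafOfModules.toSheaf.{u} (ModSite.ringSh O)
  have hp := Groth.Agent.Helper10.LocFinMod.preservesColimits_toSheaf (ModSite.ringSh O)
  have hc' := isColimitOfPreserves T hc
  have : ∀ (j j' : I) (φ : j ⟶ j'), Mono ((D ⋙ T).map φ) := fun j j' φ => by
    have := hmono j j' φ
    dsimp
    infer_instance
  have h := hc'.mono_ι_app_of_isFiltered i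
  exact T.mono_of_mono_map h

end Site

section Space

variable {X : TopCat.{u}} (O : TopCat.Sheaf CommRingCat.{u} X)
  {I : Type u} [Preorder I] [Nonempty I] [IsDirected I (· ≤ ·)] (D : I ⥤ ModSite.Mod O)
  (c : Cocone D) (hc : IsColimit c)

theorem ι_map (i j : I) (h : i ≤ j) (W : Opens X) (τ : ModSite.sect (D.obj i) W) :
    ((c.ι.app j).val.app (op W)).hom (((D.map (homOfLE h)).val.app (op W)).hom τ) =
      ((c.ι.app i).val.app (op W)).hom τ := by
  have := c.w (homOfLE h)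
  rw [← this]
  rfl

theorem collapse (W : Opens X) (T : Finset I) (t : ∀ k, ModSite.sect (D.obj k) W) :
    ∃ (i : I) (τ : ModSite.sect (D.obj i) W),
      ((c.ι.app i).val.app (op W)).hom τ = ∑ k ∈ T, ((c.ι.app k).val.app (op W)).hom (t k) := by
  classical
  induction T using Finset.induction_on with
  | empty => exact ⟨Classical.arbitrary I, 0, by simp⟩
  | insert a T ha ih =>
    obtain ⟨i, τ, h⟩ := ih
    obtain ⟨j, hij, haj⟩ := exists_ge_ge i a
    refine ⟨j, ((D.map (homOfLE hij)).val.app (op W)).hom τ +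
      ((D.map (homOfLE haj)).val.app (op W)).hom (t a), ?_⟩
    rw [map_add, ι_map, ι_map, Finset.sum_insert ha, h, add_comm]

include hc

theorem loc_stage (W : Opens X) (m : ModSite.sect c.pt W) (y : X) (hy : y ∈ W) :
    ∃ (W' : Opens X) (h : W' ⟶ W), y ∈ W' ∧ ∃ (i : I) (τ : ModSite.sect (D.obj i) W'),
      ((c.ι.app i).val.app (op W')).hom τ = res c.pt h m := by
  obtain ⟨S, hS, hloc⟩ := Groth.Agent.Helper10.LocFinMod.locally_finite_sum_cocone O D c hc W m
  obtain ⟨W', h, hh, hyW'⟩ := hS y hy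
  obtain ⟨T, t, ht⟩ := hloc h hh
  obtain ⟨i, τ, hτ⟩ := collapse O D c W' T t
  exact ⟨W', h, hyW', i, τ, hτ.trans ht.symm⟩

theorem loc_stage_fin {K : Type u} [Fintype K] (U₀ : Opens X) (σ : K → ModSite.sect c.pt U₀)
    (x : X) (hx : x ∈ U₀) :
    ∃ (W : Opens X) (h : W ⟶ U₀), x ∈ W ∧ ∃ i : I, ∀ j, i ≤ j →
      ∀ k, ∃ τ : ModSite.sect (D.obj j) W,
        ((c.ι.app j).val.app (op W)).hom τ = res c.pt h (σ k) := by
  classical
  obtain ⟨W, hxW, hW⟩ := exists_common_open x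
    (fun (k : K) (W : Opens X) => ∃ (h : W ⟶ U₀) (i : I) (τ : ModSite.sect (D.obj i) W),
      ((c.ι.app i).val.app (op W)).hom τ = res c.pt h (σ k))
    (by
      rintro k W W' hle ⟨h, i, τ, hτ⟩
      refine ⟨homOfLE hle ≫ h, i, res (D.obj i) (homOfLE hle) τ, ?_⟩
      rw [map_res, hτ, res_comp]
      rfl)
    (by
      intro k
      obtain ⟨W', h, hxW', i, τ, hτ⟩ := loc_stage O D c hc U₀ (σ k) x hx
      exact ⟨W', hxW', h, i, τ, hτ⟩)
  choose h i τ hτ using hW
  obtain ⟨i₀, hi₀⟩ := Finset.exists_le (Finset.univ.image i)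
  refine ⟨W ⊓ U₀, homOfLE inf_le_right, ⟨hxW, hx⟩, i₀, fun j hj k => ?_⟩
  have hik : i k ≤ j := (hi₀ (i k) (Finset.mem_image_of_mem i (Finset.mem_univ k))).trans hj
  refine ⟨((D.map (homOfLE hik)).val.app (op (W ⊓ U₀))).hom
    (res (D.obj (i k)) (homOfLE inf_le_left) (τ k)), ?_⟩
  rw [ι_map, map_res, hτ k]
  exact res_res O c.pt _ _ _ _

theorem part1 [CompactSpace X] [SheafOfModules.IsFiniteType (R := ModSite.ringSh O) c.pt] :
    ∃ i : I, Epi (c.ι.app i) := by
  classical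
  have key : ∀ x : X, ∃ (W : Opens X), x ∈ W ∧ ∃ i : I, ∀ j, i ≤ j →
      ∀ (W₁ : Opens X) (a : W₁ ⟶ W) (m : ModSite.sect c.pt W₁) (y : X), y ∈ W₁ →
        ∃ (W' : Opens X) (h : W' ⟶ W₁), y ∈ W' ∧ ∃ τ : ModSite.sect (D.obj j) W',
          ((c.ι.app j).val.app (op W')).hom τ = res c.pt h m := by
    intro x
    obtain ⟨U₀, hxU₀, K, _, _, s, hs⟩ := exists_generators_near O c.pt x
    let s₀ : K → ModSite.sect c.pt U₀ := fun k =>
      secAt (O.over U₀) ((ModSite.restr O U₀).obj c.pt) (s k) (Over.mk (𝟙 U₀))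
    obtain ⟨W, hW, hxW, i, hi⟩ := loc_stage_fin O D c hc U₀ s₀ x hxU₀
    refine ⟨W, hxW, i, fun j hj W₁ a m y hy => ?_⟩
    choose τ hτ using hi j hj
    obtain ⟨W', h, hyW', cf, hcf⟩ := loc_comb_space O c.pt U₀ s W₁ (a ≫ hW) m y hy
    refine ⟨W', h, hyW', ∑ k, cf k • res (D.obj j) (h ≫ a) (τ k), ?_⟩
    rw [hcf, map_sum']
    refine Finset.sum_congr rfl (fun k _ => ?_)
    rw [map_smul', map_res, hτ k]
    congr 1
    exact res_res O c.pt _ _ _ _
  choose W hxW i hi using key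
  obtain ⟨t, ht⟩ := isCompact_univ.elim_finite_subcover (fun x => (W x : Set X))
    (fun x => (W x).isOpen) (fun x _ => Set.mem_iUnion.mpr ⟨x, hxW x⟩)
  obtain ⟨i₀, hi₀⟩ := Finset.exists_le (t.image i)
  refine ⟨i₀, ?_⟩
  rw [epi_iff_isLocallySurjective]
  refine ⟨fun {W₁} m => ?_⟩
  intro y hy
  obtain ⟨x, hxt, hyx⟩ : ∃ x ∈ t, y ∈ W x := by
    have := ht (Set.mem_univ y)
    simpa using this
  have hix : i x ≤ i₀ := hi₀ (i x) (Finset.mem_image_of_mem i hxt)
  obtain ⟨W', h, hyW', τ, hτ⟩ := hi x i₀ hix (W₁ ⊓ W x) (homOfLE inf_le_right)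
    (res c.pt (homOfLE inf_le_left) m) y ⟨hy, hyx⟩
  refine ⟨W', h ≫ homOfLE inf_le_left, ⟨τ, ?_⟩, hyW'⟩
  exact hτ.trans (res_comp c.pt _ _ m).symm

end Space

/-- Let (X, O) be a ringed space with X quasi-compact, I a directed preordered set (nonempty, with upper
bounds for pairs), (F_i) a system of O-modules over I and F = colim F_i. If F is of finite type then
F_i → F is surjective for some i; if moreover all transition maps are injective then F_i → F is an
isomorphism for some i. -/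
theorem result {X : TopCat.{u}} (O : TopCat.Sheaf CommRingCat.{u} X)
    [CompactSpace X] {I : Type u} [Preorder I] [Nonempty I] [IsDirected I (· ≤ ·)] (D : I ⥤ ModSite.Mod O)
    (c : Cocone D) (hc : IsColimit c) [SheafOfModules.IsFiniteType (R := ModSite.ringSh O) c.pt] :
    (∃ i : I, Epi (c.ι.app i)) ∧
      ((∀ (i j : I) (f : i ⟶ j), Mono (D.map f)) → ∃ i : I, IsIso (c.ι.app i)) := by
  obtain ⟨i₀, hi₀⟩ := part1 O D c hc
  refine ⟨⟨i₀, hi₀⟩, fun hmono => ⟨i₀, ?_⟩⟩
  have := mono_ι O D c hc hmono i₀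
  exact isIso_of_mono_of_epi _

end Groth.Agent.S6834
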