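import Groth.Statements.S6836
import Groth.Agent.Lib.Helper17.GN4
import Groth.Agent.S13799

set_option autoImplicit false
set_option linter.unusedSectionVars false
set_option linter.unusedVariables false
universe u
open CategoryTheory CategoryTheory.Limits TopologicalSpace
open ModSite

namespace Groth.Agent.S6836

open Opposite
open Groth.Agent.Helper17.MT Groth.Agent.Helper17.GN Groth.Agent.Helper17.FS

section Alg

theorem inj_of_basis_in_range {R : Type*} [Ring R] (hcomm : ∀ a b : R, a * b = b * a)
    {M N : Type*} [AddCommGroup M] [Module R M] [AddCommGroup N] [Module R N]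
    {I : Type*} [Fintype I] [DecidableEq I]
    (eM : M ≃ₗ[R] (I → R)) (eN : N ≃ₗ[R] (I → R)) (f : M →ₗ[R] N)
    (h : ∀ k, eN.symm (Pi.single k 1) ∈ LinearMap.range f) : Function.Injective f := by
  let _ : CommRing R := { (inferInstance : Ring R) with mul_comm := hcomm }
  have hsurj : Function.Surjective f := by
    rw [← LinearMap.range_eq_top, eq_top_iff]
    let b : Module.Basis I R N := (Pi.basisFun R I).map eN.symm
    rw [← b.span_eq, Submodule.span_le]
    rintro _ ⟨k, rfl⟩
    have : b k = eN.symm (Pi.single k 1) := by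
      simp [b]
    rw [this]
    exact h k
  have : Module.Finite R N := Module.Finite.equiv eN.symm
  exact OrzechProperty.injective_of_surjective_of_injective
    (eN.symm.toLinearMap ∘ₗ eM.toLinearMap) f
    (eN.symm.injective.comp eM.injective) hsurj

end Alg

section Site

variable {C : Type u} [SmallCategory C] {J : GrothendieckTopology C} (O : Sheaf J CommRingCat.{u})
  {I : Type u} [Fintype I] [DecidableEq I]

/-- coordinates on the sections of a finite free module -/
noncomputable def frEquiv (Y : C) :
    (SheafOfModules.free (R := ModSite.ringSh O) I).val.obj (op Y)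
      ≃ₗ[(ModSite.ringSh O).obj.obj (op Y)] (I → (ModSite.ringSh O).obj.obj (op Y)) :=
  LinearEquiv.ofLinearMap (ofFr O) (toFr O) (LinearMap.ext fun r => ofFr_toFr O r)
    (LinearMap.ext fun s => toFr_ofFr O s)

theorem frEquiv_symm_single (Y : C) (k : I) :
    (frEquiv O (I := I) Y).symm (Pi.single k 1) = eB O k := by
  change toFr O (Pi.single k 1) = _
  unfold toFr
  rw [Fintype.linearCombination_apply_single, one_smul]

/-- sections of a module isomorphic to a finite free module -/
noncomputable def secEquiv {F : ModSite.Mod O}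
    (α : F ≅ SheafOfModules.free (R := ModSite.ringSh O) I) (Y : C) :
    F.val.obj (op Y) ≃ₗ[(ModSite.ringSh O).obj.obj (op Y)]
      (I → (ModSite.ringSh O).obj.obj (op Y)) :=
  (((SheafOfModules.forget _ ⋙ PresheafOfModules.evaluation _ (op Y)).mapIso α).toLinearEquiv).trans
    (frEquiv O Y)

theorem secEquiv_symm_single {F : ModSite.Mod O}
    (α : F ≅ SheafOfModules.free (R := ModSite.ringSh O) I) (Y : C) (k : I) :
    (secEquiv O α Y).symm (Pi.single k 1) = (α.inv.val.app (op Y)).hom (eB O k) := by
  change (α.inv.val.app (op Y)).hom ((frEquiv O (I := I) Y).symm (Pi.single k 1)) = _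
  rw [frEquiv_symm_single]

theorem map_eB {Y Y' : C} (g : Y' ⟶ Y) (k : I) :
    res (SheafOfModules.free (R := ModSite.ringSh O) I) g (eB O k (X := Y)) = eB O k (X := Y') := by
  have nat := PresheafOfModules.naturality_apply
    (SheafOfModules.ιFree (R := ModSite.ringSh O) k).val g.op
    (1 : (ModSite.ringSh O).obj.obj (op Y))
  refine nat.symm.trans ?_
  unfold eB
  congr 1
  exact map_one ((ModSite.ringSh O).obj.map g.op).hom

end Site

section Space

variable {X : TopCat.{u}} (O : TopCat.Sheaf CommRingCat.{u} X) {I : Type u} [Fintype I]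
  [DecidableEq I]

/-- the local basis sections attached to a trivialisation -/
noncomputable def bvec {F : ModSite.Mod O} (U : Opens X)
    (α : (ModSite.restr O U).obj F ≅ SheafOfModules.free (R := ModSite.ringSh (O.over U)) I)
    {V : Opens X} (a : V ⟶ U) (k : I) : ModSite.sect F V :=
  (α.inv.val.app (op (Over.mk a))).hom (eB (O.over U) k)

theorem res_bvec {F : ModSite.Mod O} (U : Opens X)
    (α : (ModSite.restr O U).obj F ≅ SheafOfModules.free (R := ModSite.ringSh (O.over U)) I)
    {V V' : Opens X} (a : V ⟶ U) (h : V' ⟶ V) (k : I) :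
    res F h (bvec O U α a k) = bvec O U α (h ≫ a) k := by
  have nat := PresheafOfModules.naturality_apply α.inv.val
    (Over.homMk h : Over.mk (h ≫ a) ⟶ Over.mk a).op (eB (O.over U) k)
  have e := map_eB (O.over U) (Over.homMk h : Over.mk (h ≫ a) ⟶ Over.mk a) k
  exact nat.symm.trans
    (congrArg (fun z => (α.inv.val.app (op (Over.mk (h ≫ a)))).hom z) e)

/-- the coordinates, over the ring of sections of `O` -/
noncomputable def secEquivAbs {F : ModSite.Mod O} (U : Opens X)
    (α : (ModSite.restr O U).obj F ≅ SheafOfModules.free (R := ModSite.ringSh (O.over U)) I)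
    {V : Opens X} (a : V ⟶ U) :
    F.val.obj (op V) ≃ₗ[(ModSite.ringSh O).obj.obj (op V)]
      (I → (ModSite.ringSh O).obj.obj (op V)) :=
  secEquiv (O.over U) α (Over.mk a)

theorem secEquivAbs_symm_single {F : ModSite.Mod O} (U : Opens X)
    (α : (ModSite.restr O U).obj F ≅ SheafOfModules.free (R := ModSite.ringSh (O.over U)) I)
    {V : Opens X} (a : V ⟶ U) (k : I) :
    (secEquivAbs O U α a).symm (Pi.single k 1) = bvec O U α a k :=
  secEquiv_symm_single (O.over U) α (Over.mk a) k

theorem injective_app_of_epi {F G : ModSite.Mod O} (φ : F ⟶ G) [Epi φ]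
    (hF : ∀ x : X, ∃ U : Opens X, x ∈ U ∧
      Nonempty ((ModSite.restr O U).obj F ≅ SheafOfModules.free I))
    (hG : ∀ x : X, ∃ U : Opens X, x ∈ U ∧
      Nonempty ((ModSite.restr O U).obj G ≅ SheafOfModules.free I))
    (W : Opens X) : Function.Injective (φ.val.app (op W)).hom := by
  rw [injective_iff_map_eq_zero]
  intro m hm
  let S : Sieve W :=
    { arrows := fun V g => res F g m = 0
      downward_closed := by
        intro V V' g hg g'
        show res F (g' ≫ g) m = 0
        rw [res_comp, hg]
        exact res_zero F g' }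
  refine Groth.Agent.S13799.sep (Opens.grothendieckTopology X) (ModSite.toAb F) S ?_ m 0 ?_
  swap
  · intro V g hg
    exact hg.trans (res_zero F g).symm
  intro y hy
  obtain ⟨UF, hyF, ⟨α⟩⟩ := hF y
  obtain ⟨UG, hyG, ⟨β⟩⟩ := hG y
  let b : I → ModSite.sect G UG := fun k => bvec O UG β (𝟙 UG) k
  obtain ⟨V₁, hyV₁, hV₁⟩ := exists_common_open y
    (fun (k : I) (V : Opens X) => ∃ (h : V ⟶ UG) (t : ModSite.sect F V),
      (φ.val.app (op V)).hom t = res G h (b k))
    (by
      rintro k V V' hle ⟨h, t, ht⟩
      refine ⟨homOfLE hle ≫ h, res F (homOfLE hle) t, ?_⟩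
      rw [map_res, ht, res_comp])
    (by
      intro k
      obtain ⟨W', h, hyW', t, ht⟩ := exists_lift_space O φ UG (b k) y hyG
      exact ⟨W', hyW', h, t, ht⟩)
  choose h t ht using hV₁
  let V' : Opens X := V₁ ⊓ (UF ⊓ (UG ⊓ W))
  have hyV' : y ∈ V' := ⟨hyV₁, hyF, hyG, hy⟩
  let a₁ : V' ⟶ V₁ := homOfLE inf_le_left
  let aF : V' ⟶ UF := homOfLE (inf_le_right.trans inf_le_left)
  let aG : V' ⟶ UG := homOfLE (inf_le_right.trans (inf_le_right.trans inf_le_left))
  let aW : V' ⟶ W := homOfLE (inf_le_right.trans (inf_le_right.trans inf_le_right))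
  have key : Function.Injective (φ.val.app (op V')).hom := by
    refine inj_of_basis_in_range (R := (ModSite.ringSh O).obj.obj (op V'))
      (fun a b => mul_comm (G := O.obj.obj (op V')) a b)
      (secEquivAbs O UF α aF) (secEquivAbs O UG β aG)
      (φ.val.app (op V')).hom (fun k => ⟨res F a₁ (t k), ?_⟩)
    rw [secEquivAbs_symm_single]
    have e1 : (φ.val.app (op V')).hom (res F a₁ (t k)) = res G aG (b k) := by
      rw [map_res, ht k]
      exact res_res O G _ _ _ _
    refine e1.trans ?_
    exact res_bvec O UG β (𝟙 UG) aG k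
  refine ⟨V', aW, ?_, hyV'⟩
  show res F aW m = 0
  apply key
  rw [map_zero]
  have := map_res O φ aW m
  rw [hm] at this
  exact this.trans (res_zero G aW)

end Space

/-- On a ringed space (X, O), let r ≥ 0 and let φ : F → G be a map of O-modules which are both finite
locally free of rank r (every point has an open neighbourhood U with F|_U ≅ O_U^r, the free
O_U-module on r generators, and likewise for G). Then φ is an isomorphism if and only if it is
surjective. -/
theorem result {X : TopCat.{u}} (O : TopCat.Sheaf CommRingCat.{u} X) (r : ℕ)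
    {F G : ModSite.Mod O}
    (hF : ∀ x : X, ∃ U : Opens X, x ∈ U ∧
      Nonempty ((ModSite.restr O U).obj F ≅ SheafOfModules.free (ULift.{u} (Fin r))))
    (hG : ∀ x : X, ∃ U : Opens X, x ∈ U ∧
      Nonempty ((ModSite.restr O U).obj G ≅ SheafOfModules.free (ULift.{u} (Fin r))))
    (φ : F ⟶ G) : IsIso φ ↔ Epi φ := by
  constructor
  · intro h
    infer_instance
  · intro h
    have hmono : Mono φ := by
      apply (SheafOfModules.forget _).mono_of_mono_map
      apply PresheafOfModules.mono_of_injective
      intro W
      exact injective_app_of_epi O φ hF hG W.unop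
    exact isIso_of_mono_of_epi φ

end Groth.Agent.S6836
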