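import Groth.Statements.S6842
import Groth.Agent.Lib.Helper10.LocFinMod
import Groth.Agent.S13799

set_option autoImplicit false
set_option linter.unusedSectionVars false
set_option linter.unusedVariables false
universe u
open CategoryTheory CategoryTheory.Limits TopologicalSpace
open ModSite

namespace Groth.Agent.S6842

open Opposite

section Proj

variable {C : Type u} [SmallCategory C] {J : GrothendieckTopology C} (O : Sheaf J CommRingCat.{u})
  {I : Type u} (F : I → ModSite.Mod O) [HasCoproduct F]

/-- the projections from the coproduct -/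
noncomputable def π (j : I) : ∐ F ⟶ F j := by
  classical
  exact Sigma.desc (fun i => if h : i = j then eqToHom (by rw [h]) else 0)

lemma ι_π_self (i : I) : Sigma.ι F i ≫ π O F i = 𝟙 _ := by
  classical
  simp [π]

lemma ι_π_ne (i j : I) (h : i ≠ j) : Sigma.ι F i ≫ π O F j = 0 := by
  classical
  simp [π, h]

lemma π_ι_apply_self (i : I) (V : C) (x : ModSite.sect (F i) V) :
    ((π O F i).val.app (op V)).hom (((Sigma.ι F i).val.app (op V)).hom x) = x := by
  have h := congrArg (fun (m : F i ⟶ F i) => (m.val.app (op V)).hom x) (ι_π_self O F i)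
  exact h

lemma π_ι_apply_ne (i j : I) (h : i ≠ j) (V : C) (x : ModSite.sect (F i) V) :
    ((π O F j).val.app (op V)).hom (((Sigma.ι F i).val.app (op V)).hom x) = 0 := by
  have h := congrArg (fun (m : F i ⟶ F j) => (m.val.app (op V)).hom x) (ι_π_ne O F i j h)
  exact h

open Classical in
lemma π_sum (T : Finset I) (V : C) (t : ∀ i, ModSite.sect (F i) V) (j : I) :
    ((π O F j).val.app (op V)).hom (∑ i ∈ T, ((Sigma.ι F i).val.app (op V)).hom (t i)) =
      if j ∈ T then t j else 0 := by
  rw [map_sum]
  split_ifs with hj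
  · rw [Finset.sum_eq_single j]
    · exact π_ι_apply_self O F j V (t j)
    · intro i _ hij
      exact π_ι_apply_ne O F i j hij V (t i)
    · intro h
      exact (h hj).elim
  · refine Finset.sum_eq_zero (fun i hi => ?_)
    have hij : i ≠ j := fun e => hj (e ▸ hi)
    exact π_ι_apply_ne O F i j hij V (t i)

/-- restriction on the underlying abelian sheaf -/
noncomputable abbrev ρ (M : ModSite.Mod O) {U V : C} (f : V ⟶ U) :
    ModSite.sect M U →+ ModSite.sect M V :=
  ((ModSite.toAb M).obj.map f.op).hom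

lemma nat_res {M N : ModSite.Mod O} (φ : M ⟶ N) {U V : C} (f : V ⟶ U) (x : ModSite.sect M U) :
    (φ.val.app (op V)).hom (ρ O M f x) = ρ O N f ((φ.val.app (op U)).hom x) :=
  NatTrans.naturality_apply ((SheafOfModules.toSheaf.{u} (ModSite.ringSh O)).map φ).hom f.op x

/-- local finiteness, indexed by `I` -/
lemma loc_fin (W : C) (s : ModSite.sect (∐ F) W) :
    ∃ S ∈ J W, ∀ ⦃V : C⦄ (f : V ⟶ W), S f →
      ∃ (T : Finset I) (t : ∀ i, ModSite.sect (F i) V),
        ρ O (∐ F) f s = ∑ i ∈ T, ((Sigma.ι F i).val.app (op V)).hom (t i) := by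
  classical
  obtain ⟨S, hS, hloc⟩ := Groth.Agent.Helper10.LocFinMod.locally_finite_sum_cocone O
    (Discrete.functor F) (colimit.cocone _) (colimit.isColimit _) W s
  refine ⟨S, hS, fun V f hf => ?_⟩
  obtain ⟨T, t, ht⟩ := hloc f hf
  refine ⟨T.map ⟨Discrete.as, fun a b h => Discrete.ext h⟩, fun i => t ⟨i⟩, ?_⟩
  rw [Finset.sum_map]
  exact ht

end Proj

/-- Let (X, O) be a ringed space, (F_i)_{i ∈ I} a family of O-modules and U ⊆ X a quasi-compact open.
Then the canonical map ⊕_i F_i(U) → (⊕_i F_i)(U) is bijective: every section of the direct sum over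
U is a finite sum of images of sections of the F_i over U (surjectivity), and such a finite sum
vanishes only if each term's section is zero (injectivity). -/
theorem result {X : TopCat.{u}} (O : TopCat.Sheaf CommRingCat.{u} X)
    {I : Type u} (F : I → ModSite.Mod O) [HasCoproduct F] (U : Opens X) (hU : IsCompact (U : Set X)) :
    (∀ s : ModSite.sect (∐ F) U, ∃ (S : Finset I) (t : ∀ i, ModSite.sect (F i) U),
        s = ∑ i ∈ S, ((Sigma.ι F i).val.app (Opposite.op U)).hom (t i)) ∧
      ∀ (S : Finset I) (t : ∀ i, ModSite.sect (F i) U),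
        ∑ i ∈ S, ((Sigma.ι F i).val.app (Opposite.op U)).hom (t i) = 0 → ∀ i ∈ S, t i = 0 := by
  classical
  constructor
  · intro s
    obtain ⟨S, hS, hloc⟩ := loc_fin O F U s
    have hcov : ∀ x : U, ∃ (V : Opens X) (f : V ⟶ U), S f ∧ (x : X) ∈ V := fun x => hS x.1 x.2
    choose V f hSf hxV using hcov
    choose T t ht using fun x : U => hloc (f x) (hSf x)
    obtain ⟨fin, hfin⟩ := hU.elim_finite_subcover (fun x : U => ((V x : Opens X) : Set X))
      (fun x => (V x).isOpen) (fun y hy => Set.mem_iUnion.2 ⟨⟨y, hy⟩, hxV ⟨y, hy⟩⟩)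
    let Ttot : Finset I := fin.biUnion T
    let tt : ∀ i, ModSite.sect (F i) U := fun i => ((π O F i).val.app (op U)).hom s
    refine ⟨Ttot, tt, ?_⟩
    let S'' : Sieve U :=
      { arrows := fun W g => ρ O (∐ F) g s =
          ρ O (∐ F) g (∑ i ∈ Ttot, ((Sigma.ι F i).val.app (op U)).hom (tt i))
        downward_closed := by
          intro W W' g hg g'
          show ρ O (∐ F) (g' ≫ g) s = ρ O (∐ F) (g' ≫ g) _
          have e := congrArg (ρ O (∐ F) g') hg
          exact (Groth.Agent.S13799.res_comp _ (ModSite.toAb (∐ F)) g' g _).trans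
            (e.trans (Groth.Agent.S13799.res_comp _ (ModSite.toAb (∐ F)) g' g _).symm) }
    refine Groth.Agent.S13799.sep (Opens.grothendieckTopology X) (ModSite.toAb (∐ F)) S'' ?_ _ _
      (fun W g hg => hg)
    intro y hy
    obtain ⟨x, hx, hyx⟩ : ∃ x ∈ fin, y ∈ V x := by
      have := hfin hy
      simpa using this
    refine ⟨V x, f x, ?_, hyx⟩
    show ρ O (∐ F) (f x) s =
      ρ O (∐ F) (f x) (∑ i ∈ Ttot, ((Sigma.ι F i).val.app (op U)).hom (tt i))
    have h1 : ∀ i, ρ O (∐ F) (f x) (((Sigma.ι F i).val.app (op U)).hom (tt i)) =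
        ((Sigma.ι F i).val.app (op (V x))).hom (if i ∈ T x then t x i else 0) := by
      intro i
      rw [← nat_res, ← nat_res, ht x, π_sum]
    rw [map_sum]
    simp_rw [h1]
    rw [ht x]
    have hsub : T x ⊆ Ttot := Finset.subset_biUnion_of_mem T hx
    rw [← Finset.sum_subset hsub]
    · refine Finset.sum_congr rfl (fun i hi => ?_)
      rw [if_pos hi]
    · intro i _ hi
      rw [if_neg hi, map_zero]
  · intro S t h i hi
    have h2 := congrArg ((π O F i).val.app (op U)).hom h
    rw [π_sum, if_pos hi, map_zero] at h2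
    exact h2

end Groth.Agent.S6842
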