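import Groth.Statements.S6847
import Groth.Agent.Lib.Helper10.HomData

set_option autoImplicit false
set_option linter.unusedSectionVars false
set_option linter.unusedVariables false
universe u
open CategoryTheory CategoryTheory.Limits TopologicalSpace
open ModSite

namespace Groth.Agent.S6847

open Opposite
open Groth.Agent.Helper17.MT Groth.Agent.Helper17.GN Groth.Agent.Helper17.FS
open Groth.Agent.Helper10.PresRel Groth.Agent.Helper10.PresLocal Groth.Agent.Helper10.GermSp
open Groth.Agent.Helper10.DirCol Groth.Agent.Helper10.HomData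
open Groth.Agent.S6846 (N cc' res_N smul_N lift_c lift_c_fin exists_open_preimage_le cc'_res)

section Gen

variable {X : TopCat.{u}} (O : TopCat.Sheaf CommRingCat.{u} X)

theorem epi_of_pointwise {M M' : ModSite.Mod O} (g : M ⟶ M')
    (h : ∀ (W : Opens X) (m' : ModSite.sect M' W) (y : X), y ∈ W →
      ∃ (W' : Opens X) (h : W' ⟶ W), y ∈ W' ∧ ∃ t : ModSite.sect M W',
        (g.val.app (op W')).hom t = res M' h m') : Epi g := by
  rw [epi_iff_isLocallySurjective]
  refine ⟨fun {U} m' => ?_⟩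
  intro y hy
  obtain ⟨W', h', hyW', t, ht⟩ := h U m' y hy
  exact ⟨W', h', ⟨t, ht⟩, hyW'⟩

end Gen

section Push

variable {Z X : TopCat.{u}} (i : Z ⟶ X)
    (O_Z : TopCat.Sheaf CommRingCat.{u} Z) (O_X : TopCat.Sheaf CommRingCat.{u} X)
    (c : O_X ⟶ ((TopologicalSpace.Opens.map i).sheafPushforwardContinuous CommRingCat.{u}
      (Opens.grothendieckTopology X) (Opens.grothendieckTopology Z)).obj O_Z)

/-- the pushforward functor -/
noncomputable abbrev P : ModSite.Mod O_Z ⥤ ModSite.Mod O_X :=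
  (ModSite.RMor.ofFlat (TopologicalSpace.Opens.map i) c).push

theorem P_map_app {F F' : ModSite.Mod O_Z} (φ : F ⟶ F') (V : Opens X)
    (m : ModSite.sect F ((Opens.map i).obj V)) :
    (((P i O_Z O_X c).map φ).val.app (op V)).hom m =
      (φ.val.app (op ((Opens.map i).obj V))).hom m := rfl

variable (hi : Topology.IsClosedEmbedding i)
include hi

/-- the complement of the image -/
def Vc : Opens X := ⟨(Set.range i)ᶜ, hi.isClosed_range.isOpen_compl⟩

theorem zero_of_disjoint (F : ModSite.Mod O_Z) (V : Opens X) (hV : V ≤ Vc i hi)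
    (m : ModSite.sect F ((Opens.map i).obj V)) : m = 0 :=
  Groth.Agent.S6848.eq_zero_of_locally O_Z F _ m (fun w hw => absurd ⟨w, rfl⟩ (hV hw))

theorem preservesEpi {F F' : ModSite.Mod O_Z} (φ : F ⟶ F') [Epi φ] :
    Epi ((P i O_Z O_X c).map φ) := by
  apply epi_of_pointwise O_X
  intro V n x hx
  by_cases hxr : x ∈ Set.range i
  · obtain ⟨z, rfl⟩ := hxr
    let n' : ModSite.sect F' ((Opens.map i).obj V) := n
    obtain ⟨W₁, h₁, hzW₁, t, ht⟩ := exists_lift_space O_Z φ ((Opens.map i).obj V) n' z hx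
    obtain ⟨V₂, hV₂, hle⟩ := exists_open_preimage_le i hi W₁ z hzW₁
    let V₃ : Opens X := V₂ ⊓ V
    let e₃ : (Opens.map i).obj V₃ ⟶ W₁ := homOfLE (fun w hw => hle hw.1)
    refine ⟨V₃, homOfLE inf_le_right, ⟨hV₂, hx⟩, res F e₃ t, ?_⟩
    have e1 : (φ.val.app (op ((Opens.map i).obj V₃))).hom (res F e₃ t) =
        res F' e₃ ((φ.val.app (op W₁)).hom t) := map_res O_Z φ e₃ t
    refine (P_map_app i O_Z O_X c φ V₃ _).trans (e1.trans ?_)
    rw [ht, ← res_comp]
    exact res_eq O_Z F' _ _ n'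
  · let V₃ : Opens X := V ⊓ Vc i hi
    refine ⟨V₃, homOfLE inf_le_left, ⟨hx, hxr⟩, 0, ?_⟩
    rw [map_zero]
    exact (zero_of_disjoint i O_Z hi F' V₃ inf_le_right _).symm

theorem faithful_aux {F F' : ModSite.Mod O_Z} (φ φ' : F ⟶ F')
    (h : (P i O_Z O_X c).map φ = (P i O_Z O_X c).map φ') : φ = φ' := by
  apply hom_ext_sec O_Z
  intro W m
  apply eq_of_locally O_Z F' W
  intro z hz
  obtain ⟨V, hV, hle⟩ := exists_open_preimage_le i hi W z hz
  refine ⟨(Opens.map i).obj V, homOfLE hle, hV, ?_⟩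
  rw [← map_res, ← map_res, ← P_map_app i O_Z O_X c φ, ← P_map_app i O_Z O_X c φ', h]

theorem preservesFiniteColimits_P : PreservesFiniteColimits (P i O_Z O_X c) := by
  rw [Functor.preservesFiniteColimits_iff_forall_exact_map_and_epi]
  intro S hS
  have hlim : PreservesFiniteLimits (P i O_Z O_X c) := inferInstance
  have h1 := (Functor.preservesFiniteLimits_iff_forall_exact_map_and_mono
    (P i O_Z O_X c)).mp hlim S hS
  have := hS.epi_g
  exact ⟨h1.1, preservesEpi i O_Z O_X c hi S.g⟩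

omit hi in
example (V V' : Opens X) :
    (Opens.map i).obj (V ⊓ V') = (Opens.map i).obj V ⊓ (Opens.map i).obj V' := rfl

section Full

variable {F F' : ModSite.Mod O_Z} (ψ : (P i O_Z O_X c).obj F ⟶ (P i O_Z O_X c).obj F')

/-- the action of `ψ` on sections -/
noncomputable def ψa (V : Opens X) (m : ModSite.sect F ((Opens.map i).obj V)) :
    ModSite.sect F' ((Opens.map i).obj V) :=
  (ψ.val.app (op V)).hom m

omit hi in
theorem ψa_res {V V' : Opens X} (g : V' ⟶ V) (m : ModSite.sect F ((Opens.map i).obj V)) :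
    ψa i O_Z O_X c ψ V' (res F ((Opens.map i).map g) m) =
      res F' ((Opens.map i).map g) (ψa i O_Z O_X c ψ V m) :=
  map_res O_X ψ g m

omit hi in
theorem ψa_add (V : Opens X) (m m' : ModSite.sect F ((Opens.map i).obj V)) :
    ψa i O_Z O_X c ψ V (m + m') = ψa i O_Z O_X c ψ V m + ψa i O_Z O_X c ψ V m' :=
  map_add (ψ.val.app (op V)).hom m m'

omit hi in
theorem ψa_smul (V : Opens X) (b : O_X.obj.obj (op V))
    (m : ModSite.sect F ((Opens.map i).obj V)) :
    ψa i O_Z O_X c ψ V (cc' i O_Z O_X c V b • m) =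
      cc' i O_Z O_X c V b • ψa i O_Z O_X c ψ V m :=
  (ψ.val.app (op V)).hom.map_smul b m

/-- the relation defining the preimage morphism -/
def RelF (W : Opens Z) (m : ModSite.sect F W) (t : ModSite.sect F' W) : Prop :=
  ∀ (V : Opens X) (e : (Opens.map i).obj V ⟶ W),
    res F' e t = ψa i O_Z O_X c ψ V (res F e m)

theorem exists_relF (W : Opens Z) (m : ModSite.sect F W) :
    ∃ t, RelF i O_Z O_X c ψ W m t := by
  obtain ⟨t, ht⟩ := glue O_Z F' W (ι := {V : Opens X // (Opens.map i).obj V ≤ W})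
    (fun ξ => (Opens.map i).obj ξ.1) (fun ξ => ξ.2)
    (by
      intro z hz
      obtain ⟨V, hV, hle⟩ := exists_open_preimage_le i hi W z hz
      exact ⟨⟨V, hle⟩, hV⟩)
    (fun ξ => ψa i O_Z O_X c ψ ξ.1 (res F (homOfLE ξ.2) m))
    (by
      intro ξ ξ'
      have e1 := ψa_res i O_Z O_X c ψ (homOfLE (inf_le_left : ξ.1 ⊓ ξ'.1 ≤ ξ.1))
        (res F (homOfLE ξ.2) m)
      have e2 := ψa_res i O_Z O_X c ψ (homOfLE (inf_le_right : ξ.1 ⊓ ξ'.1 ≤ ξ'.1))
        (res F (homOfLE ξ'.2) m)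
      rw [← res_comp] at e1 e2
      refine Eq.trans (Eq.trans ?_ e1.symm) (Eq.trans ?_ (Eq.trans e2 ?_))
      · exact res_eq O_Z F' _ _ _
      · congr 1
      · exact res_eq O_Z F' _ _ _)
  refine ⟨t, ?_⟩
  intro V e
  have := ht ⟨V, leOfHom e⟩
  refine Eq.trans (res_eq O_Z F' _ _ _) (this.trans ?_)
  congr 1

/-- the value of the preimage morphism -/
noncomputable def valF (W : Opens Z) (m : ModSite.sect F W) : ModSite.sect F' W :=
  (exists_relF i O_Z O_X c hi ψ W m).choose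

theorem valF_rel (W : Opens Z) (m : ModSite.sect F W) :
    RelF i O_Z O_X c ψ W m (valF i O_Z O_X c hi ψ W m) :=
  (exists_relF i O_Z O_X c hi ψ W m).choose_spec

theorem relF_unique (W : Opens Z) (m : ModSite.sect F W) (t t' : ModSite.sect F' W)
    (h : ∀ z ∈ W, ∃ (V : Opens X) (e : (Opens.map i).obj V ⟶ W), z ∈ (Opens.map i).obj V ∧
      res F' e t = ψa i O_Z O_X c ψ V (res F e m))
    (h' : RelF i O_Z O_X c ψ W m t') : t = t' := by
  apply eq_of_locally O_Z F' W
  intro z hz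
  obtain ⟨V, e, hzV, he⟩ := h z hz
  exact ⟨_, e, hzV, he.trans (h' V e).symm⟩

theorem valF_eq (W : Opens Z) (m : ModSite.sect F W) (t : ModSite.sect F' W)
    (h : ∀ z ∈ W, ∃ (V : Opens X) (e : (Opens.map i).obj V ⟶ W), z ∈ (Opens.map i).obj V ∧
      res F' e t = ψa i O_Z O_X c ψ V (res F e m)) :
    valF i O_Z O_X c hi ψ W m = t :=
  (relF_unique i O_Z O_X c hi ψ W m t _ h (valF_rel i O_Z O_X c hi ψ W m)).symm

theorem cover_z (W : Opens Z) (z : Z) (hz : z ∈ W) :
    ∃ (V : Opens X) (e : (Opens.map i).obj V ⟶ W), z ∈ (Opens.map i).obj V := by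
  obtain ⟨V, hV, hle⟩ := exists_open_preimage_le i hi W z hz
  exact ⟨V, homOfLE hle, hV⟩

theorem valF_res {W W₁ : Opens Z} (g : W₁ ⟶ W) (m : ModSite.sect F W) :
    valF i O_Z O_X c hi ψ W₁ (res F g m) = res F' g (valF i O_Z O_X c hi ψ W m) := by
  apply valF_eq
  intro z hz
  obtain ⟨V, e, hzV⟩ := cover_z i hi W₁ z hz
  refine ⟨V, e, hzV, ?_⟩
  rw [← res_comp, ← res_comp]
  exact valF_rel i O_Z O_X c hi ψ W m V (e ≫ g)

theorem valF_add (W : Opens Z) (m m' : ModSite.sect F W) :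
    valF i O_Z O_X c hi ψ W (m + m') =
      valF i O_Z O_X c hi ψ W m + valF i O_Z O_X c hi ψ W m' := by
  apply valF_eq
  intro z hz
  obtain ⟨V, e, hzV⟩ := cover_z i hi W z hz
  refine ⟨V, e, hzV, ?_⟩
  rw [res_add, res_add, ψa_add, valF_rel i O_Z O_X c hi ψ W m V e,
    valF_rel i O_Z O_X c hi ψ W m' V e]

theorem valF_smul (hc : Sheaf.IsLocallySurjective c) (W : Opens Z) (b : O_Z.obj.obj (op W))
    (m : ModSite.sect F W) :
    valF i O_Z O_X c hi ψ W (b • m) = b • valF i O_Z O_X c hi ψ W m := by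
  apply valF_eq
  intro z hz
  obtain ⟨V, e, hzV⟩ := cover_z i hi W z hz
  obtain ⟨V', g, hzV', b', hb'⟩ := lift_c i O_Z O_X c hc V (rres e b) (i z) hzV
  refine ⟨V', (Opens.map i).map g ≫ e, hzV', ?_⟩
  rw [res_smul, res_smul, rres_comp, ← hb', ψa_smul,
    valF_rel i O_Z O_X c hi ψ W m V' _]

/-- the underlying morphism of abelian presheaves -/
noncomputable def abHomF : F.val.presheaf ⟶ F'.val.presheaf where
  app W := AddCommGrpCat.ofHom
    (AddMonoidHom.mk' (valF i O_Z O_X c hi ψ W.unop) (valF_add i O_Z O_X c hi ψ W.unop))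
  naturality := by
    intro W W' g
    ext m
    exact valF_res i O_Z O_X c hi ψ g.unop m

/-- the preimage of `ψ` under the pushforward -/
noncomputable def preim (hc : Sheaf.IsLocallySurjective c) : F ⟶ F' :=
  ⟨PresheafOfModules.homMk (abHomF i O_Z O_X c hi ψ)
    (fun W r m => valF_smul i O_Z O_X c hi ψ hc W.unop r m)⟩

theorem map_preim (hc : Sheaf.IsLocallySurjective c) :
    (P i O_Z O_X c).map (preim i O_Z O_X c hi ψ hc) = ψ := by
  apply hom_ext_sec O_X
  intro V m
  show valF i O_Z O_X c hi ψ ((Opens.map i).obj V) m = ψa i O_Z O_X c ψ V m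
  have h := valF_rel i O_Z O_X c hi ψ ((Opens.map i).obj V) m V (𝟙 _)
  rw [res_id, res_id] at h
  exact h

end Full

omit hi in
theorem ann_of_essImage (G : ModSite.Mod O_X) (h : (P i O_Z O_X c).essImage G) (U : Opens X)
    (a : O_X.obj.obj (op U)) (ha : cc' i O_Z O_X c U a = 0) (s : ModSite.sect G U) :
    a • s = 0 := by
  obtain ⟨F, ⟨e⟩⟩ := h
  have h1 : (e.inv.val.app (op U)).hom (a • s) = 0 := by
    refine ((e.inv.val.app (op U)).hom.map_smul a s).trans ?_
    show cc' i O_Z O_X c U a •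
      (show ModSite.sect F ((Opens.map i).obj U) from (e.inv.val.app (op U)).hom s) = 0
    rw [ha, zero_smul]
  have h2 := congrArg (e.hom.val.app (op U)).hom h1
  rw [map_zero] at h2
  refine Eq.trans ?_ h2
  have h3 := congrArg (fun φ => (φ.val.app (op U)).hom (a • s)) e.inv_hom_id
  exact h3.symm

section Vmax

/-- the largest open of `X` with a given preimage -/
def Vmax (W : Opens Z) : Opens X :=
  ⟨(i '' ((W : Set Z)ᶜ))ᶜ, (hi.isClosedMap _ W.isOpen.isClosed_compl).isOpen_compl⟩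

theorem mem_Vmax (W : Opens Z) (x : X) : x ∈ Vmax i hi W ↔ ∀ z, i z = x → z ∈ W := by
  change x ∉ i '' ((W : Set Z)ᶜ) ↔ _
  constructor
  · intro h z hz
    by_contra hzW
    exact h ⟨z, hzW, hz⟩
  · rintro h ⟨z, hzW, hz⟩
    exact hzW (h z hz)

theorem Vmax_mono {W W' : Opens Z} (h : W ≤ W') : Vmax i hi W ≤ Vmax i hi W' := by
  intro x hx
  rw [mem_Vmax] at hx ⊢
  exact fun z hz => h (hx z hz)

theorem map_Vmax_le (W : Opens Z) : (Opens.map i).obj (Vmax i hi W) ≤ W := by
  intro z hz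
  exact (mem_Vmax i hi W (i z)).mp hz z rfl

theorem le_map_Vmax (W : Opens Z) : W ≤ (Opens.map i).obj (Vmax i hi W) := by
  intro z hz
  refine (mem_Vmax i hi W (i z)).mpr (fun z' hz' => ?_)
  have : z' = z := hi.injective hz'
  rw [this]
  exact hz

theorem le_Vmax_map (V : Opens X) : V ≤ Vmax i hi ((Opens.map i).obj V) := by
  intro x hx
  refine (mem_Vmax i hi _ x).mpr (fun z hz => ?_)
  show i z ∈ V
  rw [hz]
  exact hx

theorem Vmax_inf_le (W W' : Opens Z) : Vmax i hi W ⊓ Vmax i hi W' ≤ Vmax i hi (W ⊓ W') := by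
  rintro x ⟨hx, hx'⟩
  have h1 := (mem_Vmax i hi W x).mp hx
  have h2 := (mem_Vmax i hi W' x).mp hx'
  exact (mem_Vmax i hi _ x).mpr (fun z hz => ⟨h1 z hz, h2 z hz⟩)

theorem Vc_le_Vmax (W : Opens Z) : Vc i hi ≤ Vmax i hi W := by
  intro x hx
  refine (mem_Vmax i hi W x).mpr (fun z hz => ?_)
  exact absurd ⟨z, hz⟩ hx

theorem mem_Vmax_iSup {ι : Type u} (W : ι → Opens Z) (x : X) (hx : x ∈ Vmax i hi (iSup W)) :
    x ∈ Vc i hi ∨ ∃ j, x ∈ Vmax i hi (W j) := by
  by_cases hxr : x ∈ Set.range i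
  · right
    obtain ⟨z, rfl⟩ := hxr
    have hz : z ∈ iSup W := (mem_Vmax i hi _ (i z)).mp hx z rfl
    obtain ⟨j, hj⟩ := Opens.mem_iSup.mp hz
    exact ⟨j, le_map_Vmax i hi (W j) hj⟩
  · exact Or.inl hxr

end Vmax

section EssIm

variable (G : ModSite.Mod O_X)
  (hA : ∀ (U : Opens X) (a : O_X.obj.obj (op U)), cc' i O_Z O_X c U a = 0 →
    ∀ s : ModSite.sect G U, a • s = 0)
  (hc : Sheaf.IsLocallySurjective c)

omit hi in
theorem cc'_sub (V : Opens X) (a b : O_X.obj.obj (op V)) :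
    cc' i O_Z O_X c V (a - b) = cc' i O_Z O_X c V a - cc' i O_Z O_X c V b :=
  map_sub (c.hom.app (op V)).hom a b

omit hi in
theorem cc'_add (V : Opens X) (a b : O_X.obj.obj (op V)) :
    cc' i O_Z O_X c V (a + b) = cc' i O_Z O_X c V a + cc' i O_Z O_X c V b :=
  map_add (c.hom.app (op V)).hom a b

omit hi in
theorem cc'_mul (V : Opens X) (a b : O_X.obj.obj (op V)) :
    cc' i O_Z O_X c V (a * b) = cc' i O_Z O_X c V a * cc' i O_Z O_X c V b :=
  map_mul (c.hom.app (op V)).hom a b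

omit hi in
theorem cc'_one (V : Opens X) : cc' i O_Z O_X c V 1 = 1 :=
  map_one (c.hom.app (op V)).hom

include hA in
theorem G_zero (V : Opens X) (hV : V ≤ Vc i hi) (s : ModSite.sect G V) : s = 0 := by
  have h1 : cc' i O_Z O_X c V 1 = 0 :=
    Groth.Agent.S6848.ring_eq_zero_of_locally O_Z _ _
      (fun w hw => absurd ⟨w, rfl⟩ (hV hw))
  have := hA V 1 h1 s
  rwa [one_smul] at this

include hA in
omit hi in
theorem smul_eq_of_cc' (V : Opens X) (a b : O_X.obj.obj (op V))
    (h : cc' i O_Z O_X c V a = cc' i O_Z O_X c V b) (s : ModSite.sect G V) : a • s = b • s := by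
  have h1 : cc' i O_Z O_X c V (a - b) = 0 := by rw [cc'_sub, h, sub_self]
  have h2 := hA V (a - b) h1 s
  rw [sub_smul] at h2
  exact sub_eq_zero.mp h2

/-- the comparison morphism for preimages -/
def eW (W : Opens Z) : (Opens.map i).obj (Vmax i hi W) ⟶ W := homOfLE (map_Vmax_le i hi W)

/-- the relation defining the scalar multiplication -/
def RelS (W : Opens Z) (b : O_Z.obj.obj (op W)) (s t : ModSite.sect G (Vmax i hi W)) : Prop :=
  ∀ (V' : Opens X) (g : V' ⟶ Vmax i hi W) (b' : O_X.obj.obj (op V')),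
    cc' i O_Z O_X c V' b' = rres ((Opens.map i).map g ≫ eW i hi W) b →
    res G g t = b' • res G g s

include hc in
theorem cover_y (W : Opens Z) (b : O_Z.obj.obj (op W)) (y : X) (hy : y ∈ Vmax i hi W) :
    ∃ (V' : Opens X) (g : V' ⟶ Vmax i hi W) (b' : O_X.obj.obj (op V')), y ∈ V' ∧
      cc' i O_Z O_X c V' b' = rres ((Opens.map i).map g ≫ eW i hi W) b := by
  obtain ⟨V', g, hyV', b', hb'⟩ :=
    lift_c i O_Z O_X c hc (Vmax i hi W) (rres (eW i hi W) b) y hy
  refine ⟨V', g, b', hyV', ?_⟩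
  rw [hb', ← rres_comp]

/-- index type for the gluing -/
structure IdxS (W : Opens Z) (b : O_Z.obj.obj (op W)) where
  V' : Opens X
  g : V' ⟶ Vmax i hi W
  b' : O_X.obj.obj (op V')
  h : cc' i O_Z O_X c V' b' = rres ((Opens.map i).map g ≫ eW i hi W) b

include hA hc in
theorem exists_relS (W : Opens Z) (b : O_Z.obj.obj (op W)) (s : ModSite.sect G (Vmax i hi W)) :
    ∃ t, RelS i O_Z O_X c hi G W b s t := by
  obtain ⟨t, ht⟩ := glue O_X G (Vmax i hi W) (ι := IdxS i O_Z O_X c hi W b)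
    (fun ξ => ξ.V') (fun ξ => leOfHom ξ.g)
    (by
      intro y hy
      obtain ⟨V', g, b', hyV', hb'⟩ := cover_y i O_Z O_X c hi hc W b y hy
      exact ⟨⟨V', g, b', hb'⟩, hyV'⟩)
    (fun ξ => ξ.b' • res G ξ.g s)
    (by
      intro ξ ξ'
      rw [res_smul, res_smul, ← res_comp, ← res_comp]
      have e0 : res G (homOfLE (inf_le_left : ξ.V' ⊓ ξ'.V' ≤ ξ.V') ≫ ξ.g) s =
          res G (homOfLE (inf_le_right : ξ.V' ⊓ ξ'.V' ≤ ξ'.V') ≫ ξ'.g) s := res_eq O_X G _ _ s
      rw [e0]
      apply smul_eq_of_cc' i O_Z O_X c G hA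
      rw [cc'_res, cc'_res, ξ.h, ξ'.h, ← rres_comp, ← rres_comp]
      exact rres_eq O_Z _ _ b)
  refine ⟨t, ?_⟩
  intro V' g b' hb'
  have := ht ⟨V', g, b', hb'⟩
  exact Eq.trans (res_eq O_X G _ _ t) this

include hA hc

/-- the scalar multiplication by functions on `Z` -/
noncomputable def smulF (W : Opens Z) (b : O_Z.obj.obj (op W))
    (s : ModSite.sect G (Vmax i hi W)) : ModSite.sect G (Vmax i hi W) :=
  (exists_relS i O_Z O_X c hi G hA hc W b s).choose

theorem smulF_rel (W : Opens Z) (b : O_Z.obj.obj (op W)) (s : ModSite.sect G (Vmax i hi W)) :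
    RelS i O_Z O_X c hi G W b s (smulF i O_Z O_X c hi G hA hc W b s) :=
  (exists_relS i O_Z O_X c hi G hA hc W b s).choose_spec

theorem smulF_eq (W : Opens Z) (b : O_Z.obj.obj (op W)) (s t : ModSite.sect G (Vmax i hi W))
    (h : ∀ y ∈ Vmax i hi W, ∃ (V' : Opens X) (g : V' ⟶ Vmax i hi W)
      (b' : O_X.obj.obj (op V')), y ∈ V' ∧
        cc' i O_Z O_X c V' b' = rres ((Opens.map i).map g ≫ eW i hi W) b ∧
        res G g t = b' • res G g s) :
    smulF i O_Z O_X c hi G hA hc W b s = t := by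
  symm
  apply eq_of_locally O_X G _
  intro y hy
  obtain ⟨V', g, b', hyV', hb', ht⟩ := h y hy
  exact ⟨V', g, hyV', ht.trans (smulF_rel i O_Z O_X c hi G hA hc W b s V' g b' hb').symm⟩

theorem cover_y2 (W : Opens Z) (b₁ b₂ : O_Z.obj.obj (op W)) (y : X) (hy : y ∈ Vmax i hi W) :
    ∃ (V' : Opens X) (g : V' ⟶ Vmax i hi W) (b₁' b₂' : O_X.obj.obj (op V')), y ∈ V' ∧
      cc' i O_Z O_X c V' b₁' = rres ((Opens.map i).map g ≫ eW i hi W) b₁ ∧
      cc' i O_Z O_X c V' b₂' = rres ((Opens.map i).map g ≫ eW i hi W) b₂ := by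
  obtain ⟨V₁, g₁, b₁', hy₁, h₁⟩ := cover_y i O_Z O_X c hi hc W b₁ y hy
  obtain ⟨V₂, g₂, hy₂, b₂', h₂⟩ := lift_c i O_Z O_X c hc V₁
    (rres ((Opens.map i).map g₁ ≫ eW i hi W) b₂) y hy₁
  refine ⟨V₂, g₂ ≫ g₁, rres g₂ b₁', b₂', hy₂, ?_, ?_⟩
  · rw [cc'_res, h₁, ← rres_comp]
    exact rres_eq O_Z _ _ b₁
  · rw [h₂, ← rres_comp]
    exact rres_eq O_Z _ _ b₂

theorem smulF_one (W : Opens Z) (s : ModSite.sect G (Vmax i hi W)) :
    smulF i O_Z O_X c hi G hA hc W 1 s = s := by
  apply smulF_eq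
  intro y hy
  refine ⟨Vmax i hi W, 𝟙 _, 1, hy, ?_, ?_⟩
  · rw [cc'_one]
    exact (map_one (O_Z.obj.map _).hom).symm
  · rw [one_smul]

theorem smulF_mul (W : Opens Z) (b₁ b₂ : O_Z.obj.obj (op W))
    (s : ModSite.sect G (Vmax i hi W)) :
    smulF i O_Z O_X c hi G hA hc W (b₁ * b₂) s =
      smulF i O_Z O_X c hi G hA hc W b₁ (smulF i O_Z O_X c hi G hA hc W b₂ s) := by
  apply smulF_eq
  intro y hy
  obtain ⟨V', g, b₁', b₂', hyV', h₁, h₂⟩ := cover_y2 i O_Z O_X c hi G hA hc W b₁ b₂ y hy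
  refine ⟨V', g, b₁' * b₂', hyV', ?_, ?_⟩
  · rw [cc'_mul, h₁, h₂, rres_mul]
  · rw [smulF_rel i O_Z O_X c hi G hA hc W b₁ _ V' g b₁' h₁,
      smulF_rel i O_Z O_X c hi G hA hc W b₂ _ V' g b₂' h₂, mul_smul]

theorem smulF_add (W : Opens Z) (b : O_Z.obj.obj (op W))
    (s s' : ModSite.sect G (Vmax i hi W)) :
    smulF i O_Z O_X c hi G hA hc W b (s + s') =
      smulF i O_Z O_X c hi G hA hc W b s + smulF i O_Z O_X c hi G hA hc W b s' := by
  apply smulF_eq
  intro y hy
  obtain ⟨V', g, b', hyV', h₁⟩ := cover_y i O_Z O_X c hi hc W b y hy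
  refine ⟨V', g, b', hyV', h₁, ?_⟩
  rw [res_add, res_add, smul_add, smulF_rel i O_Z O_X c hi G hA hc W b s V' g b' h₁,
    smulF_rel i O_Z O_X c hi G hA hc W b s' V' g b' h₁]

theorem add_smulF (W : Opens Z) (b₁ b₂ : O_Z.obj.obj (op W))
    (s : ModSite.sect G (Vmax i hi W)) :
    smulF i O_Z O_X c hi G hA hc W (b₁ + b₂) s =
      smulF i O_Z O_X c hi G hA hc W b₁ s + smulF i O_Z O_X c hi G hA hc W b₂ s := by
  apply smulF_eq
  intro y hy
  obtain ⟨V', g, b₁', b₂', hyV', h₁, h₂⟩ := cover_y2 i O_Z O_X c hi G hA hc W b₁ b₂ y hy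
  refine ⟨V', g, b₁' + b₂', hyV', ?_, ?_⟩
  · rw [cc'_add, h₁, h₂]
    exact (map_add (O_Z.obj.map _).hom b₁ b₂).symm
  · rw [res_add, add_smul, smulF_rel i O_Z O_X c hi G hA hc W b₁ s V' g b₁' h₁,
      smulF_rel i O_Z O_X c hi G hA hc W b₂ s V' g b₂' h₂]

theorem smulF_res {W W' : Opens Z} (g : W' ⟶ W) (b : O_Z.obj.obj (op W))
    (s : ModSite.sect G (Vmax i hi W)) :
    res G (homOfLE (Vmax_mono i hi (leOfHom g))) (smulF i O_Z O_X c hi G hA hc W b s) =
      smulF i O_Z O_X c hi G hA hc W' (rres g b)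
        (res G (homOfLE (Vmax_mono i hi (leOfHom g))) s) := by
  symm
  apply smulF_eq
  intro y hy
  obtain ⟨V', g', b', hyV', h₁⟩ := cover_y i O_Z O_X c hi hc W' (rres g b) y hy
  refine ⟨V', g', b', hyV', h₁, ?_⟩
  rw [← res_comp, ← res_comp]
  apply smulF_rel i O_Z O_X c hi G hA hc W b s V' _ b'
  rw [h₁, ← rres_comp]
  exact rres_eq O_Z _ _ b

omit hA hc in
/-- the functor of largest opens -/
def VmaxF : Opens Z ⥤ Opens X where
  obj := Vmax i hi
  map f := homOfLE (Vmax_mono i hi (leOfHom f))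

omit hA hc in
/-- the underlying abelian presheaf of the module on `Z` -/
noncomputable def Fab : (Opens Z)ᵒᵖ ⥤ AddCommGrpCat.{u} := (VmaxF i hi).op ⋙ G.val.presheaf

/-- the module structure on the sections -/
@[reducible] noncomputable def modF (W : Opens Z) :
    Module (O_Z.obj.obj (op W)) (ModSite.sect G (Vmax i hi W)) :=
  letI : SMul (O_Z.obj.obj (op W)) (ModSite.sect G (Vmax i hi W)) :=
    ⟨smulF i O_Z O_X c hi G hA hc W⟩
  Module.ofMinimalAxioms (smulF_add i O_Z O_X c hi G hA hc W)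
    (add_smulF i O_Z O_X c hi G hA hc W) (smulF_mul i O_Z O_X c hi G hA hc W)
    (smulF_one i O_Z O_X c hi G hA hc W)

/-- the presheaf of modules on `Z` -/
noncomputable def FP : PresheafOfModules.{u} (ModSite.ringSh O_Z).obj :=
  letI : ∀ W : (Opens Z)ᵒᵖ, Module ((ModSite.ringSh O_Z).obj.obj W) ((Fab i O_X hi G).obj W) :=
    fun W => modF i O_Z O_X c hi G hA hc W.unop
  PresheafOfModules.ofPresheaf (Fab i O_X hi G) (by
    intro W W' f r m
    exact smulF_res i O_Z O_X c hi G hA hc f.unop r m)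

omit hc in
theorem isSheaf_Fab :
    Presheaf.IsSheaf (Opens.grothendieckTopology Z) (Fab i O_X hi G) := by
  refine (TopCat.Presheaf.isSheaf_iff_isSheafUniqueGluing (Fab i O_X hi G)).mpr ?_
  intro ι W sf hcompat
  let s : ∀ j, ModSite.sect G (Vmax i hi (W j)) := sf
  let Uo : Option ι → Opens X := fun o => Option.elim o (Vc i hi) (fun j => Vmax i hi (W j))
  have hle : ∀ o, Uo o ≤ Vmax i hi (iSup W) := by
    intro o
    cases o with
    | none => exact Vc_le_Vmax i hi _
    | some j => exact Vmax_mono i hi (le_iSup W j)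
  let so : ∀ o, ModSite.sect G (Uo o) := fun o =>
    match o with
    | none => 0
    | some j => s j
  obtain ⟨t, ht⟩ := glue O_X G (Vmax i hi (iSup W)) Uo hle
    (by
      intro y hy
      rcases mem_Vmax_iSup i hi W y hy with h | ⟨j, hj⟩
      · exact ⟨none, h⟩
      · exact ⟨some j, hj⟩)
    so
    (by
      intro o o'
      cases o with
      | none =>
        exact (G_zero i O_Z O_X c hi G hA _ inf_le_left _).trans
          (G_zero i O_Z O_X c hi G hA _ inf_le_left _).symm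
      | some j =>
        cases o' with
        | none =>
          exact (G_zero i O_Z O_X c hi G hA _ inf_le_right _).trans
            (G_zero i O_Z O_X c hi G hA _ inf_le_right _).symm
        | some k =>
          have hq : Vmax i hi (W j) ⊓ Vmax i hi (W k) ≤ Vmax i hi (W j ⊓ W k) :=
            Vmax_inf_le i hi _ _
          have e1 : res G (homOfLE hq)
              (res G (homOfLE (Vmax_mono i hi (inf_le_left : W j ⊓ W k ≤ W j))) (s j)) =
            res G (homOfLE hq)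
              (res G (homOfLE (Vmax_mono i hi (inf_le_right : W j ⊓ W k ≤ W k))) (s k)) :=
            congrArg (res G (homOfLE hq)) (hcompat j k)
          rw [← res_comp, ← res_comp] at e1
          refine Eq.trans (res_eq O_X G _ _ _) (e1.trans (res_eq O_X G _ _ _)))
  refine ⟨t, fun j => ?_, fun t' ht' => ?_⟩
  · exact Eq.trans (res_eq O_X G _ _ t) (ht (some j))
  · apply eq_of_locally O_X G _
    intro y hy
    rcases mem_Vmax_iSup i hi W y hy with h | ⟨j, hj⟩
    · refine ⟨Vc i hi, homOfLE (Vc_le_Vmax i hi _), h, ?_⟩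
      exact (G_zero i O_Z O_X c hi G hA _ le_rfl _).trans
        (G_zero i O_Z O_X c hi G hA _ le_rfl _).symm
    · refine ⟨Vmax i hi (W j), homOfLE (Vmax_mono i hi (le_iSup W j)), hj, ?_⟩
      have e1 : res G (homOfLE (Vmax_mono i hi (le_iSup W j))) t' = s j :=
        Eq.trans (res_eq O_X G _ _ t') (ht' j)
      exact e1.trans (ht (some j)).symm

/-- the module on `Z` whose pushforward is `G` -/
noncomputable def FZ : ModSite.Mod O_Z :=
  ⟨FP i O_Z O_X c hi G hA hc, isSheaf_Fab i O_Z O_X c hi G hA⟩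

/-- the comparison on abelian presheaves -/
noncomputable def θab :
    ((P i O_Z O_X c).obj (FZ i O_Z O_X c hi G hA hc)).val.presheaf ⟶ G.val.presheaf where
  app V := G.val.presheaf.map (homOfLE (le_Vmax_map i hi V.unop)).op
  naturality := by
    intro V V' f
    show G.val.presheaf.map _ ≫ G.val.presheaf.map _ =
      G.val.presheaf.map _ ≫ G.val.presheaf.map _
    rw [← Functor.map_comp, ← Functor.map_comp]
    congr 1

omit hi hA hc in
theorem rres_id' (W : Opens Z) (g : W ⟶ W) (a : O_Z.obj.obj (op W)) : rres g a = a := by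
  have h1 : g = 𝟙 W := Subsingleton.elim _ _
  rw [h1]
  unfold rres
  rw [op_id, O_Z.obj.map_id]
  rfl

/-- the comparison morphism -/
noncomputable def θ : (P i O_Z O_X c).obj (FZ i O_Z O_X c hi G hA hc) ⟶ G :=
  ⟨PresheafOfModules.homMk (θab i O_Z O_X c hi G hA hc) (by
    intro V r m
    have h := smulF_rel i O_Z O_X c hi G hA hc ((Opens.map i).obj V.unop)
      (cc' i O_Z O_X c V.unop r) m V.unop (homOfLE (le_Vmax_map i hi V.unop)) r
      (rres_id' O_Z _ _ _).symm
    exact h)⟩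

theorem θ_app (V : Opens X)
    (m : ModSite.sect G (Vmax i hi ((Opens.map i).obj V))) :
    ((θ i O_Z O_X c hi G hA hc).val.app (op V)).hom m =
      res G (homOfLE (le_Vmax_map i hi V)) m := rfl

theorem θ_injective (V : Opens X) :
    Function.Injective ((θ i O_Z O_X c hi G hA hc).val.app (op V)).hom := by
  rw [injective_iff_map_eq_zero]
  intro m₀ hm
  let m : ModSite.sect G (Vmax i hi ((Opens.map i).obj V)) := m₀
  have hm' : res G (homOfLE (le_Vmax_map i hi V)) m = 0 := hm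
  show m = 0
  apply Groth.Agent.S6848.eq_zero_of_locally O_X G _ m
  intro y hy
  by_cases hyr : y ∈ Set.range i
  · obtain ⟨z, rfl⟩ := hyr
    have hzV : i z ∈ V := (mem_Vmax i hi _ (i z)).mp hy z rfl
    exact ⟨V, homOfLE (le_Vmax_map i hi V), hzV, hm'⟩
  · exact ⟨Vc i hi, homOfLE (Vc_le_Vmax i hi _), hyr,
      G_zero i O_Z O_X c hi G hA _ le_rfl _⟩

theorem θ_surjective (V : Opens X) :
    Function.Surjective ((θ i O_Z O_X c hi G hA hc).val.app (op V)).hom := by
  intro s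
  let Uo : Option PUnit.{u + 1} → Opens X := fun o => Option.elim o (Vc i hi) (fun _ => V)
  have hle : ∀ o, Uo o ≤ Vmax i hi ((Opens.map i).obj V) := by
    intro o
    cases o with
    | none => exact Vc_le_Vmax i hi _
    | some j => exact le_Vmax_map i hi V
  let so : ∀ o, ModSite.sect G (Uo o) := fun o =>
    match o with
    | none => 0
    | some _ => s
  obtain ⟨t, ht⟩ := glue O_X G (Vmax i hi ((Opens.map i).obj V)) Uo hle
    (by
      intro y hy
      by_cases hyr : y ∈ Set.range i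
      · obtain ⟨z, rfl⟩ := hyr
        exact ⟨some PUnit.unit, (mem_Vmax i hi _ (i z)).mp hy z rfl⟩
      · exact ⟨none, hyr⟩)
    so
    (by
      intro o o'
      cases o with
      | none =>
        exact (G_zero i O_Z O_X c hi G hA _ inf_le_left _).trans
          (G_zero i O_Z O_X c hi G hA _ inf_le_left _).symm
      | some j =>
        cases o' with
        | none =>
          exact (G_zero i O_Z O_X c hi G hA _ inf_le_right _).trans
            (G_zero i O_Z O_X c hi G hA _ inf_le_right _).symm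
        | some k => exact res_eq O_X G _ _ s)
  exact ⟨t, (θ_app i O_Z O_X c hi G hA hc V t).trans (ht (some PUnit.unit))⟩

theorem essImage_of_ann : (P i O_Z O_X c).essImage G := by
  have hmono : Mono (θ i O_Z O_X c hi G hA hc) := by
    apply (SheafOfModules.forget _).mono_of_mono_map
    apply PresheafOfModules.mono_of_injective
    intro V
    exact θ_injective i O_Z O_X c hi G hA hc V.unop
  have hepi : Epi (θ i O_Z O_X c hi G hA hc) := by
    apply (SheafOfModules.forget _).epi_of_epi_map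
    apply PresheafOfModules.epi_of_surjective
    intro V
    exact θ_surjective i O_Z O_X c hi G hA hc V.unop
  have hiso : IsIso (θ i O_Z O_X c hi G hA hc) := isIso_of_mono_of_epi _
  exact ⟨FZ i O_Z O_X c hi G hA hc, ⟨asIso (θ i O_Z O_X c hi G hA hc)⟩⟩

end EssIm

end Push

theorem result {Z X : TopCat.{u}} (i : Z ⟶ X)
    (O_Z : TopCat.Sheaf CommRingCat.{u} Z) (O_X : TopCat.Sheaf CommRingCat.{u} X)
    (c : O_X ⟶ ((TopologicalSpace.Opens.map i).sheafPushforwardContinuous CommRingCat.{u}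
      (Opens.grothendieckTopology X) (Opens.grothendieckTopology Z)).obj O_Z)
    (hi : Topology.IsClosedEmbedding i) (hc : Sheaf.IsLocallySurjective c) :
    PreservesFiniteColimits (ModSite.RMor.ofFlat (TopologicalSpace.Opens.map i) c).push ∧
      (ModSite.RMor.ofFlat (TopologicalSpace.Opens.map i) c).push.Full ∧
      (ModSite.RMor.ofFlat (TopologicalSpace.Opens.map i) c).push.Faithful ∧
      ∀ G : ModSite.Mod O_X,
        (ModSite.RMor.ofFlat (TopologicalSpace.Opens.map i) c).push.essImage G ↔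
          ∀ (U : Opens X) (a : (ModSite.ringSh O_X).obj.obj (Opposite.op U)),
            ((ModSite.RMor.ofFlat (TopologicalSpace.Opens.map i) c).sharpR.hom.app (Opposite.op U)).hom a = 0 →
              ∀ s : ModSite.sect G U, a • s = 0 := by
  refine ⟨preservesFiniteColimits_P i O_Z O_X c hi, ?_, ?_, ?_⟩
  · exact ⟨fun {F F'} ψ => ⟨preim i O_Z O_X c hi ψ hc, map_preim i O_Z O_X c hi ψ hc⟩⟩
  · exact ⟨fun {F F'} φ φ' h => faithful_aux i O_Z O_X c hi φ φ' h⟩
  · intro G
    constructor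
    · intro h U a ha s
      exact ann_of_essImage i O_Z O_X c G h U a ha s
    · intro h
      exact essImage_of_ann i O_Z O_X c hi G (fun U a ha s => h U a ha s) hc

end Groth.Agent.S6847
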