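import Groth.Statements.S6849
import Groth.Agent.S6848
import Groth.Agent.S6836
import Groth.Agent.S6833

set_option autoImplicit false
set_option linter.unusedSectionVars false
set_option linter.unusedVariables false
universe u
open CategoryTheory CategoryTheory.Limits TopologicalSpace
open ModSite

namespace Groth.Agent.S6849

open Opposite
open Groth.Agent.Helper17.MT Groth.Agent.Helper17.GN Groth.Agent.Helper17.FS
open Groth.Agent.Helper10.PresRel Groth.Agent.Helper10.PresLocal Groth.Agent.Helper10.GermSp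

section Alg

theorem alg_free {R : Type u} [CommRing R] [IsLocalRing R] {M N : Type u} [AddCommGroup M]
    [Module R M] [AddCommGroup N] [Module R N] {I : Type u} [Fintype I]
    (e : (I → R) ≃ₗ[R] N) (i : M →ₗ[R] N) (p : N →ₗ[R] M) (h : ∀ m, p (i m) = m) :
    ∃ n : ℕ, Nonempty (M ≃ₗ[R] (Fin n → R)) := by
  have hNfree : Module.Free R N := Module.Free.of_equiv e
  have hNfin : Module.Finite R N := Module.Finite.equiv e
  have hMproj : Module.Projective R M := Module.Projective.of_split i p (LinearMap.ext h)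
  have hMfin : Module.Finite R M :=
    Module.Finite.of_surjective p (fun m => ⟨i m, h m⟩)
  have hMfree : Module.Free R M := Module.free_of_flat_of_isLocalRing
  exact ⟨Module.finrank R M, ⟨(Module.finBasis R M).equivFun⟩⟩

end Alg

section FreePres

variable {C : Type u} [SmallCategory C] {J : GrothendieckTopology C} {R : Sheaf J RingCat.{u}}
  [HasSheafify J AddCommGrpCat.{u}] [J.WEqualsLocallyBijective AddCommGrpCat.{u}]

/-- the evident presentation of a free module -/
noncomputable def freePres (I : Type u) : (SheafOfModules.free (R := R) I).Presentation :=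
  SheafOfModules.presentationOfIsCokernelFree (ι := PEmpty.{u + 1}) (σ := I)
    (0 : SheafOfModules.free PEmpty.{u + 1} ⟶ SheafOfModules.free I) (𝟙 _) (by simp)
    (CokernelCofork.IsColimit.ofId _ rfl)

theorem freePres_isFinite (I : Type u) [Finite I] : (freePres (R := R) I).IsFinite where
  isFiniteType_generators := ⟨inferInstanceAs (Finite I)⟩
  isFiniteType_relations := ⟨inferInstanceAs (Finite PEmpty.{u + 1})⟩

theorem exists_finite_presentation_of_iso_free {M : SheafOfModules.{u} R} (I : Type u) [Finite I]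
    (α : M ≅ SheafOfModules.free (R := R) I) : ∃ P : M.Presentation, P.IsFinite := by
  have := freePres_isFinite (R := R) I
  exact ⟨(freePres (R := R) I).ofIsIso α.inv, inferInstance⟩

end FreePres

section Space

variable {X : TopCat.{u}} (O : TopCat.Sheaf CommRingCat.{u} X)

theorem gr_sub (x : X) {U : Opens X} (hx : x ∈ U) (a b : O.obj.obj (op U)) :
    gr x hx (a - b) = gr x hx a - gr x hx b :=
  map_sub ((pt x).toPresheafFiber U (fibElt x U hx) O.obj).hom a b

theorem gr_surj (x : X) (a : ModSite.stalkRing (pt x) O) :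
    ∃ (U : Opens X) (hx : x ∈ U) (a₀ : O.obj.obj (op U)), gr x hx a₀ = a := by
  obtain ⟨V, _, hxV, s, hs⟩ := gr_surj_finite (O := O) x (fun _ : Unit => a) ⊤ trivial
  exact ⟨V, hxV, s (), hs ()⟩

theorem isUnit_gr_of_isUnit_germ (x : X) (U : Opens X) (hx : x ∈ U) (a₀ : O.obj.obj (op U))
    (hu : IsUnit (O.presheaf.germ U x hx a₀)) : IsUnit (gr x hx a₀) := by
  obtain ⟨t', ht'⟩ := hu.exists_right_inv
  obtain ⟨V, hxV, b₀, hb₀⟩ := O.presheaf.exists_germ_eq t'
  let W : Opens X := U ⊓ V
  have hxW : x ∈ W := ⟨hx, hxV⟩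
  let iU : W ⟶ U := homOfLE inf_le_left
  let iV : W ⟶ V := homOfLE inf_le_right
  have e1 : O.presheaf.germ W x hxW (rres iU a₀ * rres iV b₀) =
      O.presheaf.germ W x hxW 1 := by
    rw [map_mul, map_one]
    have h1 : O.presheaf.germ W x hxW (rres iU a₀) = O.presheaf.germ U x hx a₀ :=
      O.presheaf.germ_res_apply iU x hxW a₀
    have h2 : O.presheaf.germ W x hxW (rres iV b₀) = O.presheaf.germ V x hxV b₀ :=
      O.presheaf.germ_res_apply iV x hxW b₀
    rw [h1, h2, hb₀, ht']
  obtain ⟨W', hxW', j1, j2, e2⟩ := O.presheaf.germ_eq x hxW hxW _ _ e1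
  have e3 : rres j1 (rres iU a₀ * rres iV b₀) = 1 := by
    refine Eq.trans e2 ?_
    exact map_one (O.obj.map j2.op).hom
  refine IsUnit.of_mul_eq_one (gr x hxV b₀) ?_
  rw [← gr_res x (j1 ≫ iU) hxW' hx a₀, ← gr_res x (j1 ≫ iV) hxW' hxV b₀, ← gr_mul,
    rres_comp, rres_comp, ← rres_mul, e3, gr_one]

theorem isLocalRing_stalkRing (x : X) (h : IsLocalRing (O.presheaf.stalk x)) :
    IsLocalRing (ModSite.stalkRing (pt x) O) := by
  have hnt : Nontrivial (ModSite.stalkRing (pt x) O) := by
    refine ⟨⟨0, 1, fun h01 => ?_⟩⟩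
    have e0 : gr x (Opens.mem_top x) (0 : O.obj.obj (op ⊤)) =
        gr x (Opens.mem_top x) 1 := by
      rw [gr_zero, gr_one]
      exact h01
    obtain ⟨V, g, hxV, hg⟩ := gr_eq x (Opens.mem_top x) 0 1 e0
    have e1 := congrArg (O.presheaf.germ V x hxV) hg
    rw [rres_zero, map_zero] at e1
    have e2 : rres g (1 : O.obj.obj (op ⊤)) = 1 := map_one (O.obj.map g.op).hom
    rw [e2, map_one] at e1
    exact zero_ne_one e1
  refine IsLocalRing.of_isUnit_or_isUnit_one_sub_self (fun a => ?_)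
  obtain ⟨U, hx, a₀, rfl⟩ := gr_surj O x a
  rcases IsLocalRing.isUnit_or_isUnit_one_sub_self (O.presheaf.germ U x hx a₀) with hu | hu
  · exact Or.inl (isUnit_gr_of_isUnit_germ O x U hx a₀ hu)
  · right
    have e1 : 1 - gr x hx a₀ = gr x hx (1 - a₀) := by rw [gr_sub, gr_one]
    rw [e1]
    apply isUnit_gr_of_isUnit_germ O x U hx (1 - a₀)
    rw [map_sub, map_one]
    exact hu

theorem stalk_retract {F H : ModSite.Mod O} (i : F ⟶ H) (p : H ⟶ F) (hip : i ≫ p = 𝟙 F) (x : X)
    (m : ModSite.stalkMod (pt x) F) :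
    (ModSite.stalkMap (pt x) p).hom ((ModSite.stalkMap (pt x) i).hom m) = m := by
  obtain ⟨V, g, hxV, s, hs⟩ := gm_surj_finite x F (fun _ : Unit => m) ⊤ (Opens.mem_top x)
  have hm : m = ModSite.germ (pt x) F V (fibElt x V hxV) (s ()) := (hs ()).symm
  rw [hm, stalkMap_germ, stalkMap_germ]
  congr 1
  have := congrArg (fun f => (f.val.app (op V)).hom (s ())) hip
  exact this

theorem fp_of_locallyFree (H : ModSite.Mod O)
    (hH : ∀ x : X, ∃ (U : Opens X) (n : ℕ), x ∈ U ∧
      Nonempty ((ModSite.restr O U).obj H ≅ SheafOfModules.free (ULift.{u} (Fin n)))) :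
    SheafOfModules.IsFinitePresentation (R := ModSite.ringSh O) H := by
  apply isFinitePresentation_of_local O H
  intro x
  obtain ⟨U, n, hxU, ⟨α⟩⟩ := hH x
  obtain ⟨P, hP⟩ := exists_finite_presentation_of_iso_free (ULift.{u} (Fin n)) α
  exact ⟨U, hxU, P, hP⟩

theorem fp_of_retract {F H : ModSite.Mod O}
    [SheafOfModules.IsFinitePresentation (R := ModSite.ringSh O) H]
    (i : F ⟶ H) (p : H ⟶ F) (hip : i ≫ p = 𝟙 F) :
    SheafOfModules.IsFinitePresentation (R := ModSite.ringSh O) F := by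
  let φ : H ⟶ H := 𝟙 H - p ≫ i
  have hφp : φ ≫ p = 0 := by
    simp only [φ, Preadditive.sub_comp, Category.id_comp, Category.assoc, hip, Category.comp_id,
      sub_self]
  have hfp := Groth.Agent.S6833.result O φ
  let fwd : cokernel φ ⟶ F := cokernel.desc φ p hφp
  let bwd : F ⟶ cokernel φ := i ≫ cokernel.π φ
  have h1 : bwd ≫ fwd = 𝟙 F := by
    simp only [bwd, fwd, Category.assoc, cokernel.π_desc, hip]
  have hπ : cokernel.π φ = p ≫ i ≫ cokernel.π φ := by
    have := cokernel.condition φ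
    simp only [φ, Preadditive.sub_comp, Category.id_comp, Category.assoc] at this
    exact sub_eq_zero.mp this
  have h2 : fwd ≫ bwd = 𝟙 _ := by
    apply coequalizer.hom_ext
    simp only [fwd, bwd, cokernel.π_desc_assoc, Category.comp_id]
    exact hπ.symm
  let e : cokernel φ ≅ F := ⟨fwd, bwd, h2, h1⟩
  exact (SheafOfModules.isFinitePresentation (ModSite.ringSh O)).prop_of_iso e hfp

section StalkFree

open Groth.Agent.S6836

variable {I : Type u} [Fintype I] [DecidableEq I]

theorem alg_comb {R M : Type*} [Semiring R] [AddCommMonoid M] [Module R M]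
    {I : Type*} [Fintype I] [DecidableEq I] (e : M ≃ₗ[R] (I → R)) (c : I → R) :
    e (∑ k, c k • e.symm (Pi.single k 1)) = c := by
  rw [map_sum]
  simp_rw [map_smul, LinearEquiv.apply_symm_apply]
  funext j
  rw [Finset.sum_apply]
  simp [Pi.single_apply]

theorem secEquivAbs_comb {F : ModSite.Mod O} (U : Opens X)
    (α : (ModSite.restr O U).obj F ≅ SheafOfModules.free (R := ModSite.ringSh (O.over U)) I)
    {V : Opens X} (a : V ⟶ U) (c : I → O.obj.obj (op V)) :
    secEquivAbs O U α a (∑ k, c k • bvec O U α a k) = c := by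
  have h := alg_comb (secEquivAbs O U α a) c
  simp_rw [secEquivAbs_symm_single] at h
  exact h

theorem sec_eq_comb {F : ModSite.Mod O} (U : Opens X)
    (α : (ModSite.restr O U).obj F ≅ SheafOfModules.free (R := ModSite.ringSh (O.over U)) I)
    {V : Opens X} (a : V ⟶ U) (s : ModSite.sect F V) :
    ∃ c : I → O.obj.obj (op V), s = ∑ k, c k • bvec O U α a k := by
  refine ⟨secEquivAbs O U α a s, ?_⟩
  apply (secEquivAbs O U α a).injective
  exact (secEquivAbs_comb O U α a _).symm

theorem comb_eq_zero {F : ModSite.Mod O} (U : Opens X)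
    (α : (ModSite.restr O U).obj F ≅ SheafOfModules.free (R := ModSite.ringSh (O.over U)) I)
    {V : Opens X} (a : V ⟶ U) (c : I → O.obj.obj (op V))
    (h : ∑ k, c k • bvec O U α a k = 0) : c = 0 := by
  have := secEquivAbs_comb O U α a c
  rw [h, map_zero] at this
  exact this.symm

theorem gm_bvec {F : ModSite.Mod O} (U : Opens X)
    (α : (ModSite.restr O U).obj F ≅ SheafOfModules.free (R := ModSite.ringSh (O.over U)) I)
    (x : X) (hx : x ∈ U) {V : Opens X} (g : V ⟶ U) (hxV : x ∈ V) (k : I) :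
    gm x F hxV (bvec O U α g k) = gm x F hx (bvec O U α (𝟙 U) k) := by
  have := gm_res x F g hxV hx (bvec O U α (𝟙 U) k)
  rw [res_bvec, Category.comp_id] at this
  exact this

theorem stalk_free {F : ModSite.Mod O} (U : Opens X)
    (α : (ModSite.restr O U).obj F ≅ SheafOfModules.free (R := ModSite.ringSh (O.over U)) I)
    (x : X) (hx : x ∈ U) :
    Nonempty ((I → ModSite.stalkRing (pt x) O) ≃ₗ[ModSite.stalkRing (pt x) O]
      ModSite.stalkMod (pt x) F) := by
  let β : I → ModSite.stalkMod (pt x) F := fun k => gm x F hx (bvec O U α (𝟙 U) k)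
  let Φ : (I → ModSite.stalkRing (pt x) O) →ₗ[ModSite.stalkRing (pt x) O]
      ModSite.stalkMod (pt x) F := Fintype.linearCombination (ModSite.stalkRing (pt x) O) β
  have hΦ : ∀ γ, Φ γ = ∑ k, γ k • β k := fun γ => Fintype.linearCombination_apply _ _ _
  refine ⟨LinearEquiv.ofBijective Φ ⟨?_, ?_⟩⟩
  · rw [injective_iff_map_eq_zero]
    intro γ hγ
    obtain ⟨V, g, hxV, c, hc⟩ := gr_surj_finite (O := O) x γ U hx
    have e1 : gm x F hxV (∑ k, c k • bvec O U α g k) = 0 := by
      rw [gm_sum]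
      rw [hΦ] at hγ
      refine Eq.trans (Finset.sum_congr rfl fun k _ => ?_) hγ
      rw [gm_smul, hc k, gm_bvec O U α x hx g hxV k]
    obtain ⟨W, h, hxW, hW⟩ := gm_eq_zero x F hxV _ e1
    rw [res_sum] at hW
    have e2 : ∑ k, rres h (c k) • bvec O U α (h ≫ g) k = 0 := by
      refine Eq.trans (Finset.sum_congr rfl fun k _ => ?_) hW
      rw [res_smul, res_bvec]
    have e3 := comb_eq_zero O U α (h ≫ g) _ e2
    funext k
    rw [← hc k, ← gr_res x h hxW hxV]
    have e4 : rres h (c k) = 0 := congrFun e3 k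
    rw [e4]
    exact gr_zero x hxW
  · intro m
    obtain ⟨V, g, hxV, s, hs⟩ := gm_surj_finite x F (fun _ : Unit => m) U hx
    obtain ⟨c, hc⟩ := sec_eq_comb O U α g (s ())
    refine ⟨fun k => gr x hxV (c k), ?_⟩
    rw [hΦ]
    refine Eq.trans ?_ (hs ())
    rw [hc, gm_sum]
    refine Finset.sum_congr rfl fun k _ => ?_
    rw [gm_smul, gm_bvec O U α x hx g hxV k]

end StalkFree

end Space

theorem result {X : TopCat.{u}}
    (O : TopCat.Sheaf CommRingCat.{u} X) (hO : ∀ x : X, IsLocalRing (O.presheaf.stalk x)) {F H : ModSite.Mod O}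
    (hH : ∀ x : X, ∃ (U : Opens X) (n : ℕ), x ∈ U ∧
      Nonempty ((ModSite.restr O U).obj H ≅ SheafOfModules.free (ULift.{u} (Fin n))))
    (i : F ⟶ H) (p : H ⟶ F) (hip : i ≫ p = 𝟙 F) (x : X) :
    ∃ (U : Opens X) (n : ℕ), x ∈ U ∧
      Nonempty ((ModSite.restr O U).obj F ≅ SheafOfModules.free (ULift.{u} (Fin n))) := by
  classical
  have hfpH := fp_of_locallyFree O H hH
  have hfpF := fp_of_retract O i p hip
  obtain ⟨U, n, hxU, ⟨α⟩⟩ := hH x
  obtain ⟨e⟩ := stalk_free O U α x hxU
  have hloc := isLocalRing_stalkRing O x (hO x)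
  obtain ⟨r, ⟨e'⟩⟩ := alg_free e (ModSite.stalkMap (pt x) i).hom (ModSite.stalkMap (pt x) p).hom
    (stalk_retract O i p hip x)
  obtain ⟨V, hxV, hV⟩ := Groth.Agent.S6848.result O F x r ⟨e'⟩
  exact ⟨V, r, hxV, hV⟩

end Groth.Agent.S6849
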