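import Groth.Statements.S6858
import Groth.Agent.S6849

set_option autoImplicit false
set_option linter.unusedSectionVars false
set_option linter.unusedVariables false
universe u
open CategoryTheory CategoryTheory.Limits TopologicalSpace
open ModSite

namespace Groth.Agent.S6858

open Opposite
open Groth.Agent.Helper17.MT Groth.Agent.Helper17.GN Groth.Agent.Helper17.FS
open Groth.Agent.Helper10.PresRel Groth.Agent.Helper10.PresLocal Groth.Agent.Helper10.GermSp

section Alg

theorem alg_inj {R M N : Type*} [Semiring R] [AddCommMonoid M] [Module R M] [AddCommMonoid N]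
    [Module R N] {S : Type*} [Fintype S] [DecidableEq S] (θ : M →ₗ[R] N) (e : N ≃ₗ[R] (S → R))
    (b : S → M) (hb : ∀ s, θ (b s) = e.symm (Pi.single s 1)) (c : S → R)
    (h : ∑ s, c s • b s = 0) : c = 0 := by
  have h1 := congrArg θ h
  rw [map_sum, map_zero] at h1
  simp_rw [map_smul, hb] at h1
  have h2 := Groth.Agent.S6849.alg_comb e c
  rw [h1, map_zero] at h2
  exact h2.symm

end Alg

section Site

variable {C : Type u} [SmallCategory C] {J : GrothendieckTopology C} (O : Sheaf J CommRingCat.{u})
  {I : Type u}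

/-- the basis sections of a free module on an arbitrary index type -/
noncomputable def eA (k : I) (Y : C) :
    (SheafOfModules.free (R := ModSite.ringSh O) I).val.obj (op Y) :=
  (SheafOfModules.ιFree (R := ModSite.ringSh O) k).val.app (op Y)
    (1 : (ModSite.ringSh O).obj.obj (op Y))

theorem map_eA {Y Y' : C} (g : Y' ⟶ Y) (k : I) :
    res (SheafOfModules.free (R := ModSite.ringSh O) I) g (eA O k Y) = eA O k Y' := by
  have nat := PresheafOfModules.naturality_apply
    (SheafOfModules.ιFree (R := ModSite.ringSh O) k).val g.op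
    (1 : (ModSite.ringSh O).obj.obj (op Y))
  refine nat.symm.trans ?_
  unfold eA
  congr 1
  exact map_one ((ModSite.ringSh O).obj.map g.op).hom

theorem freeMap_eA {S : Type u} [Fintype S] [DecidableEq S] (q : I → S) (k : I) (Y : C) :
    ((SheafOfModules.freeMap (R := ModSite.ringSh O) q).val.app (op Y)).hom (eA O k Y) =
      eB O (q k) (X := Y) := by
  have h := congrArg (fun φ => (φ.val.app (op Y)).hom (1 : (ModSite.ringSh O).obj.obj (op Y)))
    (SheafOfModules.ιFree_freeMap (R := ModSite.ringSh O) q k)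
  exact h

end Site

section Space

variable {X : TopCat.{u}} (O : TopCat.Sheaf CommRingCat.{u} X)

theorem nontrivial_stalkRing (x : X) (h : Nontrivial (O.presheaf.stalk x)) :
    Nontrivial (ModSite.stalkRing (pt x) O) := by
  refine ⟨⟨0, 1, fun h01 => ?_⟩⟩
  have e0 : gr x (Opens.mem_top x) (0 : O.obj.obj (op ⊤)) =
      gr x (Opens.mem_top x) 1 := by
    rw [gr_zero, gr_one]
    exact h01
  obtain ⟨V, g, hxV, hg⟩ := gr_eq x (Opens.mem_top x) 0 1 e0
  have e1 := congrArg (O.presheaf.germ V x hxV) hg
  rw [rres_zero, map_zero] at e1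
  have e2 : rres g (1 : O.obj.obj (op ⊤)) = 1 := map_one (O.obj.map g.op).hom
  rw [e2, map_one] at e1
  exact zero_ne_one e1

variable {I : Type u}

/-- the local basis sections attached to a trivialisation, arbitrary index type -/
noncomputable def bv {F : ModSite.Mod O} (U : Opens X)
    (α : (ModSite.restr O U).obj F ≅ SheafOfModules.free (R := ModSite.ringSh (O.over U)) I)
    {V : Opens X} (a : V ⟶ U) (k : I) : ModSite.sect F V :=
  (α.inv.val.app (op (Over.mk a))).hom (eA (O.over U) k (Over.mk a))

theorem res_bv {F : ModSite.Mod O} (U : Opens X)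
    (α : (ModSite.restr O U).obj F ≅ SheafOfModules.free (R := ModSite.ringSh (O.over U)) I)
    {V V' : Opens X} (a : V ⟶ U) (h : V' ⟶ V) (k : I) :
    res F h (bv O U α a k) = bv O U α (h ≫ a) k := by
  have nat := PresheafOfModules.naturality_apply α.inv.val
    (Over.homMk h : Over.mk (h ≫ a) ⟶ Over.mk a).op (eA (O.over U) k (Over.mk a))
  have e := map_eA (O.over U) (Over.homMk h : Over.mk (h ≫ a) ⟶ Over.mk a) k
  exact nat.symm.trans
    (congrArg (fun z => (α.inv.val.app (op (Over.mk (h ≫ a)))).hom z) e)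

theorem gm_bv {F : ModSite.Mod O} (U : Opens X)
    (α : (ModSite.restr O U).obj F ≅ SheafOfModules.free (R := ModSite.ringSh (O.over U)) I)
    (x : X) (hx : x ∈ U) {V : Opens X} (g : V ⟶ U) (hxV : x ∈ V) (k : I) :
    gm x F hxV (bv O U α g k) = gm x F hx (bv O U α (𝟙 U) k) := by
  have := gm_res x F g hxV hx (bv O U α (𝟙 U) k)
  rw [res_bv, Category.comp_id] at this
  exact this

theorem key_inj {F : ModSite.Mod O} (U : Opens X)
    (α : (ModSite.restr O U).obj F ≅ SheafOfModules.free (R := ModSite.ringSh (O.over U)) I)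
    {S : Type u} [Fintype S] [DecidableEq S] (q : I → S) (j : S → I) (hqj : ∀ s, q (j s) = s)
    {V : Opens X} (a : V ⟶ U) (c : S → O.obj.obj (op V))
    (h : ∑ s, c s • bv O U α a (j s) = 0) : c = 0 := by
  let θ : (ModSite.restr O U).obj F ⟶ SheafOfModules.free (R := ModSite.ringSh (O.over U)) S :=
    α.hom ≫ SheafOfModules.freeMap q
  refine alg_inj (R := (ModSite.ringSh (O.over U)).obj.obj (op (Over.mk a)))
    (θ.val.app (op (Over.mk a))).hom (Groth.Agent.S6836.frEquiv (O.over U) (Over.mk a))
    (fun s => bv O U α a (j s)) ?_ c h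
  intro s
  rw [Groth.Agent.S6836.frEquiv_symm_single]
  have e1 : ∀ y, (α.hom.val.app (op (Over.mk a))).hom ((α.inv.val.app (op (Over.mk a))).hom y) = y := by
    intro y
    have := congrArg (fun φ => (φ.val.app (op (Over.mk a))).hom y) α.inv_hom_id
    exact this
  show ((SheafOfModules.freeMap (R := ModSite.ringSh (O.over U)) q).val.app (op (Over.mk a))).hom
    ((α.hom.val.app (op (Over.mk a))).hom ((α.inv.val.app (op (Over.mk a))).hom
      (eA (O.over U) (j s) (Over.mk a)))) = _
  rw [e1, freeMap_eA, hqj]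

theorem card_le {F : ModSite.Mod O} (x : X) (hnt : Nontrivial (ModSite.stalkRing (pt x) O))
    {I₀ : Type u} [Fintype I₀] [DecidableEq I₀] (U : Opens X) (hx : x ∈ U)
    (α : (ModSite.restr O U).obj F ≅ SheafOfModules.free (R := ModSite.ringSh (O.over U)) I₀)
    {I' : Type u} (U' : Opens X) (hx' : x ∈ U')
    (α' : (ModSite.restr O U').obj F ≅ SheafOfModules.free (R := ModSite.ringSh (O.over U')) I')
    {S : Type u} [Fintype S] [DecidableEq S] (j : S → I') (hj : Function.Injective j) :
    Fintype.card S ≤ Fintype.card I₀ := by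
  rcases isEmpty_or_nonempty S with hS | hS
  · rw [Fintype.card_eq_zero]
    exact Nat.zero_le _
  let q : I' → S := Function.invFun j
  have hqj : ∀ s, q (j s) = s := Function.leftInverse_invFun hj
  obtain ⟨e⟩ := Groth.Agent.S6849.stalk_free O U α x hx
  let β : S → ModSite.stalkMod (pt x) F := fun s => gm x F hx' (bv O U' α' (𝟙 U') (j s))
  let Ψ : (S → ModSite.stalkRing (pt x) O) →ₗ[ModSite.stalkRing (pt x) O]
      ModSite.stalkMod (pt x) F := Fintype.linearCombination (ModSite.stalkRing (pt x) O) β
  have hΨ : ∀ γ, Ψ γ = ∑ s, γ s • β s := fun γ => Fintype.linearCombination_apply _ _ _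
  have hinj : Function.Injective Ψ := by
    rw [injective_iff_map_eq_zero]
    intro γ hγ
    obtain ⟨V, g, hxV, c, hc⟩ := gr_surj_finite (O := O) x γ U' hx'
    have e1 : gm x F hxV (∑ s, c s • bv O U' α' g (j s)) = 0 := by
      rw [gm_sum]
      rw [hΨ] at hγ
      refine Eq.trans (Finset.sum_congr rfl fun s _ => ?_) hγ
      rw [gm_smul, hc s, gm_bv O U' α' x hx' g hxV (j s)]
    obtain ⟨W, h, hxW, hW⟩ := gm_eq_zero x F hxV _ e1
    rw [res_sum] at hW
    have e2 : ∑ s, rres h (c s) • bv O U' α' (h ≫ g) (j s) = 0 := by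
      refine Eq.trans (Finset.sum_congr rfl fun s _ => ?_) hW
      rw [res_smul, res_bv]
    have e3 := key_inj O U' α' q j hqj (h ≫ g) _ e2
    funext s
    rw [← hc s, ← gr_res x h hxW hxV]
    have e4 : rres h (c s) = 0 := congrFun e3 s
    rw [e4]
    exact gr_zero x hxW
  exact card_le_of_injective (ModSite.stalkRing (pt x) O) (e.symm.toLinearMap ∘ₗ Ψ)
    (e.symm.injective.comp hinj)

theorem finite_of_finite {F : ModSite.Mod O} (x : X) (hnt : Nontrivial (ModSite.stalkRing (pt x) O))
    {I₀ : Type u} [Finite I₀] (U : Opens X) (hx : x ∈ U)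
    (α : (ModSite.restr O U).obj F ≅ SheafOfModules.free (R := ModSite.ringSh (O.over U)) I₀)
    {I' : Type u} (U' : Opens X) (hx' : x ∈ U')
    (α' : (ModSite.restr O U').obj F ≅ SheafOfModules.free (R := ModSite.ringSh (O.over U')) I') :
    Finite I' := by
  classical
  have := Fintype.ofFinite I₀
  by_contra hinf
  rw [not_finite_iff_infinite] at hinf
  let j : ULift.{u} (Fin (Fintype.card I₀ + 1)) → I' :=
    fun s => Infinite.natEmbedding I' (s.down : ℕ)
  have hj : Function.Injective j := by
    intro a b hab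
    have h1 := (Infinite.natEmbedding I').injective hab
    exact ULift.ext _ _ (Fin.ext h1)
  have h2 := card_le O x hnt U hx α U' hx' α' j hj
  simp at h2

theorem card_eq {F : ModSite.Mod O} (x : X) (hnt : Nontrivial (ModSite.stalkRing (pt x) O))
    {I₀ : Type u} (U : Opens X) (hx : x ∈ U)
    (α : (ModSite.restr O U).obj F ≅ SheafOfModules.free (R := ModSite.ringSh (O.over U)) I₀)
    {I' : Type u} (U' : Opens X) (hx' : x ∈ U')
    (α' : (ModSite.restr O U').obj F ≅ SheafOfModules.free (R := ModSite.ringSh (O.over U')) I') :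
    ENat.card I₀ = ENat.card I' := by
  classical
  rcases finite_or_infinite I₀ with hI | hI
  · have hI' : Finite I' := finite_of_finite O x hnt U hx α U' hx' α'
    have := Fintype.ofFinite I₀
    have := Fintype.ofFinite I'
    have h1 := card_le O x hnt U hx α U' hx' α' (id : I' → I') Function.injective_id
    have h2 := card_le O x hnt U' hx' α' U hx α (id : I₀ → I₀) Function.injective_id
    rw [ENat.card_eq_coe_fintype_card, ENat.card_eq_coe_fintype_card, le_antisymm h2 h1]
  · have hI' : Infinite I' := by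
      by_contra hfin
      rw [not_infinite_iff_finite] at hfin
      have := finite_of_finite O x hnt U' hx' α' U hx α
      exact not_finite I₀
    rw [ENat.card_eq_top_of_infinite, ENat.card_eq_top_of_infinite]

end Space

theorem result {X : TopCat.{u}} (O : TopCat.Sheaf CommRingCat.{u} X)
    (hO : ∀ x : X, Nontrivial (O.presheaf.stalk x)) (F : ModSite.Mod O)
    [SheafOfModules.IsLocallyFree (R := ModSite.ringSh O) F] :
    ∃ rk : X → ℕ∞, IsLocallyConstant rk ∧
      ∀ (x : X) (U : Opens X) (I : Type u), x ∈ U →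
        Nonempty ((ModSite.restr O U).obj F ≅ SheafOfModules.free I) → ENat.card I = rk x := by
  classical
  obtain ⟨q, hq⟩ := SheafOfModules.IsLocallyFree.exists_isLocallyFreeData
    (R := ModSite.ringSh O) (M := F)
  have hcov : ∀ x : X, ∃ i : q.I, x ∈ q.X i := by
    intro x
    obtain ⟨V, f, hf, hxV⟩ := q.coversTop ⊤ x (by trivial)
    obtain ⟨i, ⟨hi⟩⟩ := (Sieve.mem_ofObjects_iff ..).mp hf
    exact ⟨i, leOfHom hi hxV⟩
  choose idx hidx using hcov
  have hnt : ∀ x, Nontrivial (ModSite.stalkRing (pt x) O) :=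
    fun x => nontrivial_stalkRing O x (hO x)
  let triv : ∀ i : q.I, (ModSite.restr O (q.X i)).obj F ≅
      SheafOfModules.free (R := ModSite.ringSh (O.over (q.X i))) (q.generators i).I :=
    fun i => (asIso (q.generators i).π).symm
  refine ⟨fun x => ENat.card (q.generators (idx x)).I, ?_, ?_⟩
  · rw [IsLocallyConstant.iff_exists_open]
    intro x
    refine ⟨q.X (idx x), (q.X (idx x)).isOpen, hidx x, fun y hy => ?_⟩
    exact card_eq O y (hnt y) _ (hidx y) (triv (idx y)) _ hy (triv (idx x))
  · rintro x U I hxU ⟨α⟩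
    exact card_eq O x (hnt x) U hxU α _ (hidx x) (triv (idx x))

end Groth.Agent.S6858
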