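import Groth.Statements.S6860
import Mathlib

set_option autoImplicit false
universe u
open Smoothing

namespace Groth.Agent.S6860

section helpers
open MvPolynomial


variable {A : Type u} [CommRing A]

theorem sub_C_mem {n : ℕ} (e : Fin n → A) (p : MvPolynomial (Fin n) A) :
    p - C (aeval (R := A) e p) ∈ Ideal.span (Set.range fun k : Fin n => (X k - C (e k) : MvPolynomial (Fin n) A)) := by
  induction p using MvPolynomial.induction_on with
  | C a => simp
  | add p q hp hq =>
    have : p + q - C (aeval (R := A) e (p + q)) = (p - C (aeval (R := A) e p)) + (q - C (aeval (R := A) e q)) := by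
      rw [map_add, map_add]; ring
    rw [this]
    exact Ideal.add_mem _ hp hq
  | mul_X p i hp =>
    have : p * X i - C (aeval (R := A) e (p * X i)) =
        (p - C (aeval (R := A) e p)) * X i + C (aeval (R := A) e p) * (X i - C (e i)) := by
      rw [map_mul, aeval_X, map_mul]; ring
    rw [this]
    exact Ideal.add_mem _ (Ideal.mul_mem_right _ _ hp)
      (Ideal.mul_mem_left _ _ (Ideal.subset_span ⟨i, rfl⟩))

theorem aeval_surj {n : ℕ} (e : Fin n → A) : Function.Surjective (aeval (R := A) e) :=
  fun a => ⟨C a, by simp⟩

noncomputable def Qpre {n : ℕ} (e : Fin n → A) :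
    Algebra.PreSubmersivePresentation A A (Fin n) (Fin n) where
  toGenerators := Algebra.Generators.ofSurjective e (aeval_surj e)
  relation k := X k - C (e k)
  span_range_relation_eq_ker := by
    rw [Algebra.Generators.ker_eq_ker_aeval_val]
    show _ = RingHom.ker (aeval (R := A) e)
    apply le_antisymm
    · rw [Ideal.span_le]
      rintro _ ⟨k, rfl⟩
      simp [RingHom.mem_ker]
    · intro p hp
      rw [RingHom.mem_ker] at hp
      have := sub_C_mem e p
      rw [hp] at this
      simpa using this
  map := id
  map_inj := Function.injective_id

theorem Qpre_jacobian {n : ℕ} (e : Fin n → A) : (Qpre e).jacobian = 1 := by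
  classical
  rw [Algebra.PreSubmersivePresentation.jacobian_eq_jacobiMatrix_det]
  have : (Qpre e).jacobiMatrix = 1 := by
    refine Matrix.ext fun i j => ?_
    rw [Algebra.PreSubmersivePresentation.jacobiMatrix_apply]
    show pderiv (id i) (X j - C (e j)) = _
    simp only [id_eq, map_sub, pderiv_C, sub_zero, pderiv_X, Matrix.one_apply]
    by_cases h : i = j
    · subst h; simp
    · rw [Pi.single_apply]
      simp [h, Ne.symm h]
  rw [this, Matrix.det_one, map_one]

noncomputable def Q {n : ℕ} (e : Fin n → A) :
    Algebra.SubmersivePresentation A A (Fin n) (Fin n) where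
  toPreSubmersivePresentation := Qpre e
  jacobian_isUnit := by rw [Qpre_jacobian]; exact isUnit_one

theorem main6860 {R : Type u} [CommRing R] [Algebra R A] [Algebra.IsStandardSmooth R A] (E : Finset A) :
    ∃ (ι σ : Type) (_ : Finite ι) (_ : Finite σ) (P : Algebra.SubmersivePresentation R A ι σ),
      (↑E : Set A) ⊆ Set.range (P.val ∘ P.map) := by
  obtain ⟨ι, σ, hσ, hι, ⟨P⟩⟩ := Algebra.IsStandardSmooth.out (R := R) (S := A)
  let n := E.card
  let e : Fin n → A := fun k => (E.equivFin.symm k : A)
  refine ⟨Fin n ⊕ ι, Fin n ⊕ σ, inferInstance, inferInstance, (Q e).comp P, ?_⟩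
  intro a ha
  refine ⟨Sum.inl (E.equivFin ⟨a, ha⟩), ?_⟩
  show e (E.equivFin ⟨a, ha⟩) = a
  simp [e]


end helpers

/-- Let R → A be standard smooth and E ⊆ A a finite subset. Then A admits a standard smooth presentation
A = R[x₁, …, x_N]/(f₁, …, f_c) (a submersive presentation: finitely many generators and relations,
an injection from the relations to the variables picking the distinguished variables, and the
Jacobian of the relations with respect to the distinguished variables invertible in A) in which
every element of E is the class of a distinguished variable. (The published statement arranges E to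
be exactly the classes of the first n = |E| variables, all of them distinguished, with c ≥ n; this
row states that E is contained in the set of classes of the distinguished variables, which is what
that arrangement gives.) -/
theorem result {R A : Type u} [CommRing R] [CommRing A] [Algebra R A]
    [Algebra.IsStandardSmooth R A] (E : Finset A) :
    ∃ (ι σ : Type) (_ : Finite ι) (_ : Finite σ) (P : Algebra.SubmersivePresentation R A ι σ),
      (↑E : Set A) ⊆ Set.range (P.val ∘ P.map) := by
  exact main6860 E

end Groth.Agent.S6860
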