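import Groth.Statements.S6862
import Mathlib

set_option autoImplicit false
universe u
open CAlg

namespace Groth.Agent.S6862

/-- reshuffle `c × ((a × n') × n) ≃ ((a × c) × n) × n'` -/
def shuf1 (R : Type u) [CommRing R] (A Cc N' N : Type u) [AddCommGroup A] [Module R A]
    [AddCommGroup Cc] [Module R Cc] [AddCommGroup N'] [Module R N'] [AddCommGroup N] [Module R N] :
    (Cc × ((A × N') × N)) ≃ₗ[R] (((A × Cc) × N) × N') where
  toFun x := (((x.2.1.1, x.1), x.2.2), x.2.1.2)
  invFun y := (y.1.1.2, ((y.1.1.1, y.2), y.1.2))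
  map_add' _ _ := rfl
  map_smul' _ _ := rfl
  left_inv _ := rfl
  right_inv _ := rfl

/-- reshuffle `(a × c) × (n' × n'') ≃ (a × n') × (c × n'')` -/
def shuf2 (R : Type u) [CommRing R] (A Cc N' N'' : Type u) [AddCommGroup A] [Module R A]
    [AddCommGroup Cc] [Module R Cc] [AddCommGroup N'] [Module R N'] [AddCommGroup N'']
    [Module R N''] :
    ((A × Cc) × (N' × N'')) ≃ₗ[R] ((A × N') × (Cc × N'')) where
  toFun x := ((x.1.1, x.2.1), (x.1.2, x.2.2))
  invFun y := ((y.1.1, y.2.1), (y.1.2, y.2.2))
  map_add' _ _ := rfl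
  map_smul' _ _ := rfl
  left_inv _ := rfl
  right_inv _ := rfl

/-- reshuffle `a × ((c × n'') × n) ≃ ((a × c) × n) × n''` -/
def shuf3 (R : Type u) [CommRing R] (A Cc N'' N : Type u) [AddCommGroup A] [Module R A]
    [AddCommGroup Cc] [Module R Cc] [AddCommGroup N''] [Module R N''] [AddCommGroup N]
    [Module R N] :
    (A × ((Cc × N'') × N)) ≃ₗ[R] (((A × Cc) × N) × N'') where
  toFun x := (((x.1, x.2.1.1), x.2.2), x.2.1.2)
  invFun y := (y.1.1.1, ((y.1.1.2, y.2), y.1.2))
  map_add' _ _ := rfl
  map_smul' _ _ := rfl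
  left_inv _ := rfl
  right_inv _ := rfl

/-- Let `R` be a commutative ring and `P'`, `P`, `P''` finitely generated projective `R`-modules in an
exact sequence `0 → P' → P → P'' → 0`. Whenever two of the three are stably free, the remaining one
is stably free too (all three cases are stated). -/
theorem result {R : Type u} [CommRing R] {P' P P'' : Type u}
    [AddCommGroup P'] [Module R P'] [Module.Finite R P'] [Module.Projective R P']
    [AddCommGroup P] [Module R P] [Module.Finite R P] [Module.Projective R P]
    [AddCommGroup P''] [Module R P''] [Module.Finite R P''] [Module.Projective R P'']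
    (f : P' →ₗ[R] P) (g : P →ₗ[R] P'') (hf : Function.Injective f) (hg : Function.Surjective g)
    (hfg : Function.Exact f g) :
    (Module.IsStablyFree R P' → Module.IsStablyFree R P → Module.IsStablyFree R P'') ∧
    (Module.IsStablyFree R P' → Module.IsStablyFree R P'' → Module.IsStablyFree R P) ∧
    (Module.IsStablyFree R P → Module.IsStablyFree R P'' → Module.IsStablyFree R P') := by
  obtain ⟨l, hl⟩ := Module.projective_lifting_property g LinearMap.id hg
  let e : P ≃ₗ[R] P' × P'' := (hfg.splitSurjectiveEquiv hf ⟨l, hl⟩).1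
  refine ⟨?_, ?_, ?_⟩
  · intro h' h
    obtain ⟨N', _, _, _, _, hN'⟩ := Module.IsStablyFree.exist_free_prod R P'
    obtain ⟨N, _, _, _, _, hN⟩ := Module.IsStablyFree.exist_free_prod R P
    have : Module.Free R (((P' × P'') × N) × N') :=
      Module.Free.of_equiv (((e.prodCongr (LinearEquiv.refl R N))).prodCongr (LinearEquiv.refl R N'))
    have : Module.Free R (P'' × ((P' × N') × N)) :=
      Module.Free.of_equiv (shuf1 R P' P'' N' N).symm
    exact Module.IsStablyFree.of_free_prod R P'' ((P' × N') × N)
  · intro h' h''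
    obtain ⟨N', _, _, _, _, hN'⟩ := Module.IsStablyFree.exist_free_prod R P'
    obtain ⟨N'', _, _, _, _, hN''⟩ := Module.IsStablyFree.exist_free_prod R P''
    have : Module.Free R ((P' × P'') × (N' × N'')) :=
      Module.Free.of_equiv (shuf2 R P' P'' N' N'').symm
    have : Module.Free R (P × (N' × N'')) :=
      Module.Free.of_equiv ((e.prodCongr (LinearEquiv.refl R (N' × N''))).symm)
    exact Module.IsStablyFree.of_free_prod R P (N' × N'')
  · intro h h''
    obtain ⟨N, _, _, _, _, hN⟩ := Module.IsStablyFree.exist_free_prod R P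
    obtain ⟨N'', _, _, _, _, hN''⟩ := Module.IsStablyFree.exist_free_prod R P''
    have : Module.Free R (((P' × P'') × N) × N'') :=
      Module.Free.of_equiv (((e.prodCongr (LinearEquiv.refl R N))).prodCongr (LinearEquiv.refl R N''))
    have : Module.Free R (P' × ((P'' × N'') × N)) :=
      Module.Free.of_equiv (shuf3 R P' P'' N'' N).symm
    exact Module.IsStablyFree.of_free_prod R P' ((P'' × N'') × N)

end Groth.Agent.S6862
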