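import Groth.Statements.S6863
import Mathlib

set_option autoImplicit false
universe u
open TensorProduct
open CAlg

namespace Groth.Agent.S6863
theorem aux6863 {R : Type u} [CommRing R] (I : Ideal R)
    (hI : I ≤ Ideal.jacobson (⊥ : Ideal R)) (E : Type u) [AddCommGroup E] [Module (R ⧸ I) E]
    [Module.Finite (R ⧸ I) E] [Module.IsStablyFree (R ⧸ I) E] :
    ∃ (M : Type u) (_ : AddCommGroup M) (_ : Module R M), Module.Finite R M ∧ Module.IsStablyFree R M ∧
      Nonempty ((R ⧸ I) ⊗[R] M ≃ₗ[R ⧸ I] E) := by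
  classical
  obtain ⟨N, _, _, hNfin, hNfree, hfree⟩ := Module.IsStablyFree.exist_free_prod (R ⧸ I) E
  let ιN := Module.Free.ChooseBasisIndex (R ⧸ I) N
  let ιT := Module.Free.ChooseBasisIndex (R ⧸ I) (E × N)
  let bN := Module.Free.chooseBasis (R ⧸ I) N
  let bT := Module.Free.chooseBasis (R ⧸ I) (E × N)
  let eN : N ≃ₗ[R ⧸ I] (ιN → R ⧸ I) := bN.equivFun
  let eT : (ιT → R ⧸ I) ≃ₗ[R ⧸ I] E × N := bT.equivFun.symm
  let φb : (ιT → R ⧸ I) →ₗ[R ⧸ I] (ιN → R ⧸ I) :=
    eN.toLinearMap ∘ₗ LinearMap.snd (R ⧸ I) E N ∘ₗ eT.toLinearMap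
  have hφb_surj : Function.Surjective φb := by
    intro w
    refine ⟨eT.symm (0, eN.symm w), ?_⟩
    simp [φb]
  let Ab : Matrix ιN ιT (R ⧸ I) := LinearMap.toMatrix' φb
  let A : Matrix ιN ιT R := fun i j => Function.surjInv Ideal.Quotient.mk_surjective (Ab i j)
  have hA : A.map (Ideal.Quotient.mk I) = Ab := by
    ext i j
    exact Function.surjInv_eq Ideal.Quotient.mk_surjective (Ab i j)
  let φ : (ιT → R) →ₗ[R] (ιN → R) := Matrix.toLin' A
  have hcompat : ∀ v : ιT → R, φb (fun j => Ideal.Quotient.mk I (v j)) =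
      fun i => Ideal.Quotient.mk I (φ v i) := by
    intro v
    have h1 : φb = Matrix.toLin' Ab := (Matrix.toLin'_toMatrix' φb).symm
    rw [h1]
    ext i
    rw [Matrix.toLin'_apply, Matrix.toLin'_apply, ← hA]
    exact (RingHom.map_mulVec (Ideal.Quotient.mk I) A v i).symm
  -- surjectivity of φ by Nakayama
  have hφ_surj : Function.Surjective φ := by
    rw [← LinearMap.range_eq_top, eq_top_iff]
    refine Submodule.le_of_le_smul_of_le_jacobson_bot (Module.Finite.fg_top) hI ?_
    intro w _
    obtain ⟨xb, hxb⟩ := hφb_surj (fun i => Ideal.Quotient.mk I (w i))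
    let v : ιT → R := fun j => Function.surjInv Ideal.Quotient.mk_surjective (xb j)
    have hv : (fun j => Ideal.Quotient.mk I (v j)) = xb := by
      ext j; exact Function.surjInv_eq Ideal.Quotient.mk_surjective (xb j)
    have h2 : ∀ i, w i - φ v i ∈ I := by
      intro i
      rw [← Ideal.Quotient.eq]
      have := congrFun (hcompat v) i
      rw [hv, hxb] at this
      exact this
    have h3 : w - φ v ∈ I • (⊤ : Submodule R (ιN → R)) := by
      have : w - φ v = ∑ i, (w - φ v) i • (Pi.single i (1 : R) : ιN → R) := by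
        ext k
        simp [Finset.sum_apply, Pi.single_apply]
      rw [this]
      exact Submodule.sum_mem (I • (⊤ : Submodule R (ιN → R))) fun i _ => Submodule.smul_mem_smul (h2 i) Submodule.mem_top
    have : w = φ v + (w - φ v) := by abel
    rw [this]
    exact Submodule.add_mem_sup (LinearMap.mem_range_self φ v) h3
  -- splitting
  obtain ⟨s, hs⟩ := Module.projective_lifting_property φ LinearMap.id hφ_surj
  let M := LinearMap.ker φ
  have hex : Function.Exact M.subtype φ := LinearMap.exact_subtype_ker_map φ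
  obtain ⟨e, he1, he2⟩ := hex.splitSurjectiveEquiv M.injective_subtype ⟨s, hs⟩
  have hMfin : Module.Finite R M :=
    Module.Finite.of_surjective (LinearMap.fst R M (ιN → R) ∘ₗ e.toLinearMap)
      (fun x => ⟨e.symm (x, 0), by simp⟩)
  have hfree' : Module.Free R (M × (ιN → R)) := Module.Free.of_equiv e
  have hMsf : Module.IsStablyFree R M := Module.IsStablyFree.of_free_prod R M (ιN → R)
  refine ⟨M, inferInstance, inferInstance, hMfin, hMsf, ?_⟩
  -- the isomorphism
  let β : (R ⧸ I) ⊗[R] M →ₗ[R ⧸ I] (R ⧸ I) ⊗[R] (ιT → R) := M.subtype.baseChange (R ⧸ I)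
  let γ : (R ⧸ I) ⊗[R] (ιT → R) →ₗ[R ⧸ I] (R ⧸ I) ⊗[R] (ιN → R) := φ.baseChange (R ⧸ I)
  let psT := TensorProduct.piScalarRight R (R ⧸ I) (R ⧸ I) ιT
  let psN := TensorProduct.piScalarRight R (R ⧸ I) (R ⧸ I) ιN
  have hC : ∀ z, psN (γ z) = φb (psT z) := by
    intro z
    induction z using TensorProduct.induction_on with
    | zero => simp
    | add x y hx hy => simp only [map_add, hx, hy]
    | tmul a v =>
      simp only [γ, psN, psT, LinearMap.baseChange_tmul, TensorProduct.piScalarRight_apply,
        TensorProduct.piScalarRightHom_tmul]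
      have h1 : (fun j => v j • a) = a • (fun j => Ideal.Quotient.mk I (v j)) := by
        ext j
        simp [Algebra.smul_def, mul_comm]
      have h2 : (fun i => φ v i • a) = a • (fun i => Ideal.Quotient.mk I (φ v i)) := by
        ext i
        simp [Algebra.smul_def, mul_comm]
      rw [h1, h2, map_smul, hcompat]
  have hexβγ : Function.Exact β γ := by
    have := lTensor_exact (R ⧸ I) hex hφ_surj
    intro z
    exact this z
  have hβinj : Function.Injective β := by
    let r : (ιT → R) →ₗ[R] M := LinearMap.fst R M (ιN → R) ∘ₗ e.toLinearMap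
    have hr : r ∘ₗ M.subtype = LinearMap.id := by
      apply LinearMap.ext
      intro x
      have : M.subtype x = e.symm (x, 0) := by
        rw [he1]; rfl
      change (e (M.subtype x)).1 = x
      rw [this, LinearEquiv.apply_symm_apply]
    have : (r.baseChange (R ⧸ I)) ∘ₗ β = LinearMap.id := by
      rw [← LinearMap.baseChange_comp, hr, LinearMap.baseChange_id]
    exact Function.LeftInverse.injective (g := r.baseChange (R ⧸ I))
      (fun x => LinearMap.congr_fun this x)
  let Φ : (R ⧸ I) ⊗[R] M →ₗ[R ⧸ I] E :=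
    LinearMap.fst (R ⧸ I) E N ∘ₗ eT.toLinearMap ∘ₗ psT.toLinearMap ∘ₗ β
  refine ⟨LinearEquiv.ofBijective Φ ⟨?_, ?_⟩⟩
  · rw [← LinearMap.ker_eq_bot, LinearMap.ker_eq_bot']
    intro x hx
    have h1 : (eT (psT (β x))).1 = 0 := hx
    have h2 : φb (psT (β x)) = 0 := by
      rw [← hC, hexβγ.apply_apply_eq_zero, map_zero]
    have h3 : (eT (psT (β x))).2 = 0 := by
      have : eN ((eT (psT (β x))).2) = 0 := h2
      exact (LinearEquiv.map_eq_zero_iff eN).1 this
    have h4 : eT (psT (β x)) = 0 := Prod.ext h1 h3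
    have h5 : β x = 0 := by
      have := (LinearEquiv.map_eq_zero_iff eT).1 h4
      exact (LinearEquiv.map_eq_zero_iff psT).1 this
    exact hβinj (by rw [h5, map_zero])
  · intro x
    let y := eT.symm (x, 0)
    have hy : φb y = 0 := by simp [φb, y]
    have hz : γ (psT.symm y) = 0 := by
      have := hC (psT.symm y)
      rw [LinearEquiv.apply_symm_apply, hy] at this
      exact (LinearEquiv.map_eq_zero_iff psN).1 this
    obtain ⟨t, ht⟩ := (hexβγ _).1 hz
    refine ⟨t, ?_⟩
    change (eT (psT (β t))).1 = x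
    rw [ht, LinearEquiv.apply_symm_apply]
    simp [y]


/-- Let `I` be an ideal of a commutative ring `R` contained in the Jacobson radical (equivalently, `1 +
i` is a unit for each `i ∈ I`). Then each finitely generated stably free module `E` over `R/I`
lifts: there is a finite stably free `R`-module `M` with `M/IM ≅ E` (existence of an isomorphism
only; the published statement names no map). -/
theorem result {R : Type u} [CommRing R] (I : Ideal R)
    (hI : I ≤ Ideal.jacobson (⊥ : Ideal R)) (E : Type u) [AddCommGroup E] [Module (R ⧸ I) E]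
    [Module.Finite (R ⧸ I) E] [Module.IsStablyFree (R ⧸ I) E] :
    ∃ (M : Type u) (_ : AddCommGroup M) (_ : Module R M), Module.Finite R M ∧ Module.IsStablyFree R M ∧
      Nonempty ((R ⧸ I) ⊗[R] M ≃ₗ[R ⧸ I] E) := by
  exact aux6863 I hI E

end Groth.Agent.S6863
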