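import Groth.Statements.S6864
import Mathlib

set_option autoImplicit false
universe u
open TensorProduct
open CAlg

namespace Groth.Agent.S6864

open scoped TensorProduct

theorem one_tmul_eq_zero_iff {R : Type u} [CommRing R] (I : Ideal R) {M : Type u} [AddCommGroup M]
    [Module R M] (m : M) : ((1 : R ⧸ I) ⊗ₜ[R] m = 0) ↔ m ∈ I • (⊤ : Submodule R M) := by
  rw [← (TensorProduct.quotTensorEquivQuotSMul M I).map_eq_zero_iff,
    TensorProduct.quotTensorEquivQuotSMul_mk_one_tmul, Submodule.Quotient.mk_eq_zero]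

theorem exists_one_tmul {R : Type u} [CommRing R] (I : Ideal R) {M : Type u} [AddCommGroup M]
    [Module R M] (t : (R ⧸ I) ⊗[R] M) : ∃ m : M, t = (1 : R ⧸ I) ⊗ₜ[R] m := by
  obtain ⟨m, hm⟩ := Submodule.Quotient.mk_surjective _ (TensorProduct.quotTensorEquivQuotSMul M I t)
  refine ⟨m, ?_⟩
  rw [← TensorProduct.quotTensorEquivQuotSMul_symm_mk, hm, LinearEquiv.symm_apply_apply]

/-- Let `I` be an ideal of a commutative ring `R` contained in the Jacobson radical and let `φ : P → P'`
be an `R`-linear map between finite projective `R`-modules. If the induced map `P/IP → P'/IP'` is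
bijective, then `φ` is bijective. -/
theorem result {R : Type u} [CommRing R] (I : Ideal R)
    (hI : I ≤ Ideal.jacobson (⊥ : Ideal R)) {P P' : Type u}
    [AddCommGroup P] [Module R P] [Module.Finite R P] [Module.Projective R P]
    [AddCommGroup P'] [Module R P'] [Module.Finite R P'] [Module.Projective R P'] (φ : P →ₗ[R] P')
    (h : Function.Bijective (φ.baseChange (R ⧸ I))) : Function.Bijective φ := by
  have hsurj : Function.Surjective φ := by
    rw [← LinearMap.range_eq_top, eq_top_iff]
    apply Submodule.le_of_le_smul_of_le_jacobson_bot (R := R) (M := P') (I := I)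
      Module.Finite.fg_top hI
    intro p' _
    obtain ⟨t, ht⟩ := h.2 ((1 : R ⧸ I) ⊗ₜ[R] p')
    obtain ⟨p, rfl⟩ := exists_one_tmul I t
    rw [LinearMap.baseChange_tmul] at ht
    have h0 : (1 : R ⧸ I) ⊗ₜ[R] (p' - φ p) = 0 := by
      rw [TensorProduct.tmul_sub, ht, sub_self]
    have hmem := (one_tmul_eq_zero_iff I _).mp h0
    have : p' = φ p + (p' - φ p) := by abel
    rw [this]
    exact Submodule.add_mem_sup ⟨p, rfl⟩ hmem
  refine ⟨?_, hsurj⟩
  obtain ⟨s, hs⟩ := Module.projective_lifting_property φ LinearMap.id hsurj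
  let π : P →ₗ[R] P := LinearMap.id - s ∘ₗ φ
  have hπker : ∀ p, π p ∈ LinearMap.ker φ := by
    intro p
    have := LinearMap.congr_fun hs (φ p)
    simp only [LinearMap.comp_apply, LinearMap.id_apply] at this
    simp [π, this]
  have hπid : ∀ k ∈ LinearMap.ker φ, π k = k := by
    intro k hk
    rw [LinearMap.mem_ker] at hk
    simp [π, hk]
  have hrange : LinearMap.range π = LinearMap.ker φ := by
    apply le_antisymm
    · rintro _ ⟨p, rfl⟩; exact hπker p
    · intro k hk; exact ⟨k, hπid k hk⟩
  have hKfg : (LinearMap.ker φ).FG := by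
    rw [← hrange, LinearMap.range_eq_map]
    exact Module.Finite.fg_top.map π
  have hKle : LinearMap.ker φ ≤ I • LinearMap.ker φ := by
    intro k hk
    have h0 : (1 : R ⧸ I) ⊗ₜ[R] k = 0 := by
      apply h.1
      rw [LinearMap.baseChange_tmul, LinearMap.mem_ker.mp hk, TensorProduct.tmul_zero, map_zero]
    have hmem := (one_tmul_eq_zero_iff I _).mp h0
    have h1 : π k ∈ (I • (⊤ : Submodule R P)).map π := Submodule.mem_map_of_mem hmem
    rw [Submodule.map_smul'', Submodule.map_top, hrange, hπid k hk] at h1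
    exact h1
  have hK : LinearMap.ker φ = ⊥ :=
    Submodule.eq_bot_of_le_smul_of_le_jacobson_bot I _ hKfg hKle hI
  exact LinearMap.ker_eq_bot.mp hK

end Groth.Agent.S6864
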