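import Groth.Statements.S6865
import Groth.Agent.S6864

set_option autoImplicit false
universe u
open TensorProduct
open CAlg

namespace Groth.Agent.S6865

/-- Let `I` be an ideal of a commutative ring `R` contained in the Jacobson radical and let `P, P'` be
finite projective `R`-modules. If `P/IP` and `P'/IP'` are isomorphic `R/I`-modules, then `P` and
`P'` are isomorphic. -/
theorem result {R : Type u} [CommRing R] (I : Ideal R)
    (hI : I ≤ Ideal.jacobson (⊥ : Ideal R)) (P P' : Type u)
    [AddCommGroup P] [Module R P] [Module.Finite R P] [Module.Projective R P]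
    [AddCommGroup P'] [Module R P'] [Module.Finite R P'] [Module.Projective R P']
    (e : (R ⧸ I) ⊗[R] P ≃ₗ[R ⧸ I] (R ⧸ I) ⊗[R] P') : Nonempty (P ≃ₗ[R] P') := by
  let ι' : P' →ₗ[R] (R ⧸ I) ⊗[R] P' := TensorProduct.mk R (R ⧸ I) P' 1
  have hι' : Function.Surjective ι' := by
    intro t
    obtain ⟨m, rfl⟩ := Groth.Agent.S6864.exists_one_tmul I t
    exact ⟨m, rfl⟩
  let ψ : P →ₗ[R] (R ⧸ I) ⊗[R] P' :=
    (e.restrictScalars R).toLinearMap ∘ₗ TensorProduct.mk R (R ⧸ I) P 1
  obtain ⟨φ, hφ⟩ := Module.projective_lifting_property ι' ψ hι'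
  have hbc : ∀ t, φ.baseChange (R ⧸ I) t = e t := by
    intro t
    obtain ⟨p, rfl⟩ := Groth.Agent.S6864.exists_one_tmul I t
    rw [LinearMap.baseChange_tmul]
    have := LinearMap.congr_fun hφ p
    simpa [ι', ψ] using this
  have hbij : Function.Bijective (φ.baseChange (R ⧸ I)) := by
    have : ⇑(φ.baseChange (R ⧸ I)) = ⇑e := funext hbc
    rw [this]
    exact e.bijective
  exact ⟨LinearEquiv.ofBijective φ (Groth.Agent.S6864.result I hI φ hbij)⟩

end Groth.Agent.S6865
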