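import Groth.Statements.S6866
import Mathlib

set_option autoImplicit false
universe u
open TensorProduct
open CAlg

namespace Groth.Agent.S6866

/-- If `M` is a torsion free module over a domain `R` and `R → R'` is a flat ring map to another domain,
then `R' ⊗_R M` is torsion free over `R'`. -/
theorem result (R R' : Type u) [CommRing R] [IsDomain R] [CommRing R']
    [IsDomain R'] [Algebra R R'] [Module.Flat R R'] (M : Type u) [AddCommGroup M] [Module R M]
    [Module.IsTorsionFree R M] : Module.IsTorsionFree R' (R' ⊗[R] M) := by
  classical
  let K := FractionRing R
  let N := K ⊗[R] M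
  -- N is flat over R
  haveI : Module.Flat R N := Module.Flat.trans R K N
  -- ι : M → N injective
  let ι : M →ₗ[R] N := TensorProduct.mk R K M 1
  have hι : Function.Injective ι := by
    rw [← LinearMap.ker_eq_bot, LinearMap.ker_eq_bot']
    intro m hm
    have := (IsLocalizedModule.eq_zero_iff (nonZeroDivisors R) ι).mp hm
    obtain ⟨c, hc⟩ := this
    have hc0 : (c : R) ≠ 0 := nonZeroDivisors.ne_zero c.2
    have : (c : R) • m = 0 := hc
    rcases smul_eq_zero.mp this with h | h
    · exact absurd h hc0
    · exact h
  -- base change injective
  have hinj : Function.Injective (ι.baseChange R') :=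
    Module.Flat.lTensor_preserves_injective_linearMap (M := R') ι hι
  -- R' ⊗ N torsion-free
  have hN : Module.IsTorsionFree R' (R' ⊗[R] N) := by
    refine ⟨fun r hr => ?_⟩
    have h1 : Function.Injective (LinearMap.mulLeft R r) := hr.1
    have h2 : Function.Injective ((LinearMap.mulLeft R r).rTensor N) :=
      Module.Flat.rTensor_preserves_injective_linearMap _ h1
    have h3 : ∀ x : R' ⊗[R] N, (LinearMap.mulLeft R r).rTensor N x = r • x := by
      intro x
      induction x with
      | zero => simp
      | tmul a n => simp [TensorProduct.smul_tmul']
      | add x y hx hy => rw [map_add, hx, hy, smul_add]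
    intro x y hxy
    apply h2
    rw [h3, h3]
    exact hxy
  exact Function.Injective.moduleIsTorsionFree (ι.baseChange R') hinj (fun r m => map_smul _ r m)

end Groth.Agent.S6866
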