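import Groth.Statements.S6868
import Groth.Agent.S2085

set_option autoImplicit false
universe u
open CAlg

namespace Groth.Agent.S6868

/-- (1) ⇔ (3) ⇔ (4): for a Noetherian domain `R` and a nonzero finite `R`-module `M`, torsion-freeness
of `M` is equivalent to `(0)` being the unique associated prime of `M`, and also to the conjunction:
`(0)` belongs to the support of `M` and `M` satisfies Serre's condition `(S_1)`. (The published
statement also lists embedding into a finite free module and the absence of embedded associated
primes; this row states the other three conditions.) -/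
theorem result (R : Type u) [CommRing R]
    [IsDomain R] [IsNoetherianRing R] (M : Type u) [AddCommGroup M] [Module R M] [Module.Finite R M] [Nontrivial M] :
    (Module.IsTorsionFree R M ↔ associatedPrimes R M = {⊥}) ∧
    (Module.IsTorsionFree R M ↔
      (⟨⊥, Ideal.isPrime_bot⟩ : PrimeSpectrum R) ∈ Module.support R M ∧ LocCoh.HasSk 1 R M) := by
  have hU := biUnion_associatedPrimes_eq_compl_regular R M
  have hreg_iff : ∀ r : R, IsSMulRegular M r ↔ ∀ p ∈ associatedPrimes R M, r ∉ p := by
    intro r
    constructor
    · intro hr p hp hrp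
      have hmem : r ∈ (⋃ p ∈ associatedPrimes R M, (p : Set R)) :=
        Set.mem_iUnion₂.mpr ⟨p, hp, hrp⟩
      rw [hU] at hmem
      exact hmem hr
    · intro hall
      by_contra hr
      have hmem : r ∈ ({r : R | IsSMulRegular M r}ᶜ : Set R) := hr
      rw [← hU] at hmem
      obtain ⟨p, hp, hrp⟩ := Set.mem_iUnion₂.mp hmem
      exact hall p hp hrp
  have hne : (associatedPrimes R M).Nonempty := associatedPrimes.nonempty R M
  have hbotprime : (⊥ : Ideal R).IsPrime := Ideal.isPrime_bot
  have part1 : Module.IsTorsionFree R M ↔ associatedPrimes R M = {⊥} := by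
    constructor
    · intro hTF
      rw [Set.eq_singleton_iff_nonempty_unique_mem]
      refine ⟨hne, fun p hp => ?_⟩
      rw [eq_bot_iff]
      intro r hr
      rw [Ideal.mem_bot]
      by_contra hr0
      have h1 : IsSMulRegular M r := hTF.isSMulRegular (IsRegular.of_ne_zero hr0)
      exact (hreg_iff r).mp h1 p hp hr
    · intro hAss
      refine ⟨fun r hr => ?_⟩
      rw [hreg_iff r]
      intro p hp
      rw [hAss, Set.mem_singleton_iff] at hp
      rw [hp, Ideal.mem_bot]
      exact hr.ne_zero
  refine ⟨part1, ?_⟩
  rw [part1]
  have hminbot : (⊥ : Ideal R) ∈ (⊥ : Ideal R).minimalPrimes :=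
    ⟨⟨hbotprime, le_rfl⟩, fun q _ _ => bot_le⟩
  constructor
  · intro hAss
    have hbotAss : (⊥ : Ideal R) ∈ associatedPrimes R M := by
      rw [hAss]; exact Set.mem_singleton _
    have hann : Module.annihilator R M = ⊥ := by
      rw [eq_bot_iff]
      exact le_of_eq_of_le Submodule.annihilator_top.symm
        (IsAssociatedPrime.annihilator_le hbotAss)
    refine ⟨?_, ?_⟩
    · rw [Module.mem_support_iff_of_finite]
      exact hann.le
    · apply (Groth.Agent.S2085.result (R := R) (M := M)).mp
      intro p hp
      rw [hAss, Set.mem_singleton_iff] at hp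
      rw [hp, hann]
      exact hminbot
  · rintro ⟨hsupp, hS1⟩
    rw [Module.mem_support_iff_of_finite] at hsupp
    have hann : Module.annihilator R M ≤ ⊥ := hsupp
    have hall := (Groth.Agent.S2085.result (R := R) (M := M)).mpr hS1
    rw [Set.eq_singleton_iff_nonempty_unique_mem]
    refine ⟨hne, fun p hp => ?_⟩
    have hpmin := hall p hp
    exact le_antisymm (hpmin.2 ⟨hbotprime, hann⟩ bot_le) bot_le

end Groth.Agent.S6868
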