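import Groth.Statements.S6870
import Mathlib

set_option autoImplicit false
universe u
open CAlg

namespace Groth.Agent.S6870

/-- A finite module over a domain is, up to multiplication by a nonzero element, a retract of a
finite free module. -/
theorem key (R : Type u) [CommRing R] [IsDomain R] (M : Type u) [AddCommGroup M] [Module R M]
    [Module.Finite R M] :
    ∃ (n : ℕ) (φ : M →ₗ[R] (Fin n → R)) (μ : (Fin n → R) →ₗ[R] M) (d : R), d ≠ 0 ∧
      ∀ x, μ (φ x) = d • x := by
  classical
  let S := nonZeroDivisors R
  let K := Localization S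
  let V := LocalizedModule S M
  let ι : M →ₗ[R] V := LocalizedModule.mkLinearMap S M
  have hker : ∀ m : M, ι m = 0 → ∃ c : S, (c : R) • m = 0 :=
    fun m hm => (IsLocalizedModule.eq_zero_iff S ι).mp hm
  let n := Module.finrank K V
  let b : Module.Basis (Fin n) K V := Module.finBasis K V
  let g : M →ₗ[R] (Fin n → K) := (b.equivFun.restrictScalars R).toLinearMap ∘ₗ ι
  have hg0 : ∀ m : M, g m = 0 → ι m = 0 := by
    intro m hm
    have : b.equivFun (ι m) = 0 := hm
    exact b.equivFun.map_eq_zero_iff.mp this
  obtain ⟨k, s, hs⟩ := Module.Finite.exists_fin (R := R) (M := M)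
  obtain ⟨d₁, hd₁⟩ := IsLocalization.exist_integer_multiples S
    (Finset.univ : Finset (Fin k × Fin n)) (fun ij => g (s ij.1) ij.2)
  let j : (Fin n → R) →ₗ[R] (Fin n → K) := (Algebra.linearMap R K).compLeft (Fin n)
  have hj : Function.Injective j := by
    intro x y hxy
    funext i
    have := congrFun hxy i
    exact IsFractionRing.injective R K this
  have hmem : ∀ m : M, (d₁ : R) • g m ∈ LinearMap.range j := by
    intro m
    have hm : m ∈ Submodule.span R (Set.range s) := by rw [hs]; trivial
    induction hm using Submodule.span_induction with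
    | mem x hx =>
      obtain ⟨i, rfl⟩ := hx
      choose r hr using fun l : Fin n => hd₁ (i, l) (Finset.mem_univ _)
      refine ⟨r, ?_⟩
      funext l
      simp only [j, LinearMap.compLeft_apply, Function.comp_apply, Algebra.linearMap_apply,
        Pi.smul_apply]
      exact hr l
    | zero => simp
    | add x y _ _ hx hy =>
      rw [map_add, smul_add]
      exact Submodule.add_mem _ hx hy
    | smul a x _ hx =>
      rw [map_smul, smul_comm]
      exact Submodule.smul_mem _ a hx
  let f' : M →ₗ[R] LinearMap.range j :=
    LinearMap.codRestrict (LinearMap.range j) ((d₁ : R) • g) hmem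
  let φ : M →ₗ[R] (Fin n → R) := (LinearEquiv.ofInjective j hj).symm.toLinearMap ∘ₗ f'
  have hφ : ∀ x, j (φ x) = (d₁ : R) • g x := by
    intro x
    have := (LinearEquiv.ofInjective j hj).apply_symm_apply (f' x)
    exact congrArg Subtype.val this
  -- numerators for the basis vectors
  choose ms hms using fun i => IsLocalizedModule.surj S ι (b i)
  let t : R := ∏ i, ((ms i).2 : R)
  let ti : Fin n → R := fun i => ∏ l ∈ Finset.univ.erase i, ((ms l).2 : R)
  have hti : ∀ i, ((ms i).2 : R) * ti i = t :=
    fun i => Finset.mul_prod_erase Finset.univ (fun l => ((ms l).2 : R)) (Finset.mem_univ i)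
  have htS : t ∈ S := Submonoid.prod_mem _ (fun i _ => (ms i).2.2)
  let μ₀ : (Fin n → R) →ₗ[R] M := Fintype.linearCombination R (fun i => ti i • (ms i).1)
  have hιm : ∀ i, ι (ti i • (ms i).1) = t • b i := by
    intro i
    rw [map_smul, ← hms i, Submonoid.smul_def, smul_smul, mul_comm, hti i]
  have hgm : ∀ i, g (ti i • (ms i).1) = t • (Pi.single i (1 : K) : Fin n → K) := by
    intro i
    change b.equivFun (ι (ti i • (ms i).1)) = _
    rw [hιm i]
    have h1 : b.equivFun (t • b i) = t • b.equivFun (b i) :=
      map_smul (b.equivFun.restrictScalars R) t (b i)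
    rw [h1]
    congr 1
    funext l
    rw [Module.Basis.equivFun_self, Pi.single_apply]
    simp only [eq_comm]
  have hgμ : ∀ r : Fin n → R, g (μ₀ r) = t • j r := by
    intro r
    simp only [μ₀, Fintype.linearCombination_apply, map_sum, map_smul, hgm]
    funext l
    simp only [j, LinearMap.compLeft_apply, Function.comp_apply, Algebra.linearMap_apply,
      Pi.smul_apply, Finset.sum_apply, Pi.single_apply]
    rw [Finset.sum_eq_single l]
    · simp only [if_true]
      rw [smul_comm, Algebra.smul_def (r l), mul_one]
    · intro i _ hi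
      rw [if_neg (Ne.symm hi), smul_zero, smul_zero]
    · intro h; exact absurd (Finset.mem_univ l) h
  -- the defect lands in the torsion
  let δ : M →ₗ[R] M := μ₀ ∘ₗ φ - (t * (d₁ : R)) • LinearMap.id
  have hδ : ∀ x, ι (δ x) = 0 := by
    intro x
    apply hg0
    simp only [δ, LinearMap.sub_apply, LinearMap.coe_comp, Function.comp_apply,
      LinearMap.smul_apply, LinearMap.id_coe, id_eq, map_sub, map_smul]
    rw [hgμ, hφ, smul_smul, sub_self]
  choose c hc using fun l : Fin k => hker (δ (s l)) (hδ (s l))
  let d₂ : R := ∏ l, (c l : R)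
  have hd₂S : d₂ ∈ S := Submonoid.prod_mem _ (fun l _ => (c l).2)
  have hd₂ : ∀ x, d₂ • δ x = 0 := by
    intro x
    have hx : x ∈ Submodule.span R (Set.range s) := by rw [hs]; trivial
    induction hx using Submodule.span_induction with
    | mem x hx =>
      obtain ⟨l, rfl⟩ := hx
      have : d₂ = (∏ l' ∈ Finset.univ.erase l, (c l' : R)) * (c l : R) := by
        rw [mul_comm]
        exact (Finset.mul_prod_erase Finset.univ (fun l' => (c l' : R)) (Finset.mem_univ l)).symm
      rw [this, mul_smul, hc l, smul_zero]
    | zero => simp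
    | add x y _ _ hx hy => rw [map_add, smul_add, hx, hy, add_zero]
    | smul a x _ hx => rw [map_smul, smul_comm, hx, smul_zero]
  refine ⟨n, φ, d₂ • μ₀, d₂ * (t * (d₁ : R)), ?_, ?_⟩
  · exact mul_ne_zero (nonZeroDivisors.ne_zero hd₂S)
      (mul_ne_zero (nonZeroDivisors.ne_zero htS) (nonZeroDivisors.coe_ne_zero d₁))
  · intro x
    have h1 : μ₀ (φ x) = δ x + (t * (d₁ : R)) • x := by
      simp [δ]
    rw [LinearMap.smul_apply, h1, smul_add, hd₂ x, zero_add, smul_smul]

/-- Let `R` be a domain, `M` a finite `R`-module and `j : M → M**` the evaluation map into the double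
dual. Then one nonzero `c ∈ R` kills the kernel of `j` and multiplies `M**` into the image of `j`.
(The published statement says only that the kernel and cokernel of `j` are torsion; this row gives
one such `c` for both.) -/
theorem result (R : Type u) [CommRing R] [IsDomain R] (M : Type u)
    [AddCommGroup M] [Module R M] [Module.Finite R M] :
    ∃ c : R, c ≠ 0 ∧ (∀ x : M, Module.Dual.eval R M x = 0 → c • x = 0) ∧
      ∀ y : Module.Dual R (Module.Dual R M), c • y ∈ LinearMap.range (Module.Dual.eval R M) := by
  classical
  obtain ⟨n, φ, μ, d, hd, h⟩ := key R M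
  refine ⟨d, hd, ?_, ?_⟩
  · intro x hx
    have hφx : φ x = 0 := by
      funext i
      have := LinearMap.congr_fun hx ((LinearMap.proj i : (Fin n → R) →ₗ[R] R) ∘ₗ φ)
      simpa using this
    rw [← h x, hφx, map_zero]
  · intro y
    let e : Fin n → (Fin n → R) := fun i j => if i = j then 1 else 0
    let p : Fin n → Module.Dual R M := fun i => (LinearMap.proj i : (Fin n → R) →ₗ[R] R) ∘ₗ φ
    let r : Fin n → R := fun i => y (p i)
    refine ⟨μ r, ?_⟩
    ext ψ
    have h1 : d • ψ = ∑ i, ψ (μ (e i)) • p i := by
      ext x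
      rw [LinearMap.smul_apply, ← map_smul ψ, ← h x]
      have := LinearMap.pi_apply_eq_sum_univ (ψ ∘ₗ μ) (φ x)
      simp only [LinearMap.coe_comp, Function.comp_apply] at this
      rw [this, LinearMap.sum_apply]
      refine Finset.sum_congr rfl (fun i _ => ?_)
      simp only [LinearMap.smul_apply, p, LinearMap.coe_comp, Function.comp_apply,
        LinearMap.proj_apply, smul_eq_mul, e]
      ring
    have h2 : ψ (μ r) = ∑ i, r i • ψ (μ (e i)) := by
      have := LinearMap.pi_apply_eq_sum_univ (ψ ∘ₗ μ) r
      simpa only [LinearMap.coe_comp, Function.comp_apply] using this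
    rw [Module.Dual.eval_apply, LinearMap.smul_apply, h2]
    have h3 : d • y ψ = y (d • ψ) := (map_smul y d ψ).symm
    rw [h3, h1, map_sum]
    refine Finset.sum_congr rfl (fun i _ => ?_)
    rw [map_smul, smul_eq_mul, smul_eq_mul, mul_comm]

end Groth.Agent.S6870
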