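import Groth.Statements.S6873
import Groth.Agent.S6872

set_option autoImplicit false
universe u
open CAlg

namespace Groth.Agent.S6873

theorem quot_torsionFree {R X : Type*} [CommRing R] [IsDomain R] [AddCommGroup X] [Module R X]
    (P : Submodule R X) (h : ∀ r : R, r ≠ 0 → ∀ x, r • x ∈ P → x ∈ P) :
    Module.IsTorsionFree R (X ⧸ P) := by
  refine ⟨fun r hr a b hab => ?_⟩
  have hr0 : r ≠ 0 := hr.ne_zero
  obtain ⟨x, rfl⟩ := P.mkQ_surjective a
  obtain ⟨y, rfl⟩ := P.mkQ_surjective b
  have h1 : P.mkQ (r • (x - y)) = 0 := by
    rw [smul_sub, map_sub, map_smul, map_smul]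
    exact sub_eq_zero.mpr hab
  have h2 : r • (x - y) ∈ P := by
    rw [← Submodule.ker_mkQ P]; exact h1
  have h3 := h r hr0 _ h2
  have h4 : P.mkQ (x - y) = 0 := by
    rw [← Submodule.ker_mkQ P] at h3; exact h3
  rw [map_sub] at h4
  exact sub_eq_zero.mp h4

/-- For a Noetherian domain `R`, a finite `R`-module `M` is reflexive if and only if `M` admits an
injective `R`-linear map into `Rⁿ`, for some `n`, whose cokernel is torsion free. -/
theorem result (R : Type u) [CommRing R] [IsDomain R]
    [IsNoetherianRing R] (M : Type u) [AddCommGroup M] [Module R M] [Module.Finite R M] :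
    Module.IsReflexive R M ↔ ∃ (n : ℕ) (f : M →ₗ[R] (Fin n → R)), Function.Injective f ∧
      Module.IsTorsionFree R ((Fin n → R) ⧸ LinearMap.range f) := by
  classical
  constructor
  · intro hM
    have : Module.Finite R (Module.Dual R M) := inferInstance
    obtain ⟨n, π, hπ⟩ := Module.Finite.exists_fin' R (Module.Dual R M)
    let e : Fin n → (Fin n → R) := fun i j => if i = j then 1 else 0
    let φ : Fin n → Module.Dual R M := fun i => π (e i)
    let f : M →ₗ[R] (Fin n → R) := LinearMap.pi (fun i => φ i)
    have hπr : ∀ r : Fin n → R, π r = ∑ i, r i • φ i :=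
      fun r => LinearMap.pi_apply_eq_sum_univ π r
    refine ⟨n, f, ?_, ?_⟩
    · rw [injective_iff_map_eq_zero]
      intro m hm
      apply (Module.bijective_dual_eval R M).1
      rw [map_zero]
      ext ψ
      obtain ⟨r, rfl⟩ := hπ ψ
      rw [hπr, Module.Dual.eval_apply, LinearMap.sum_apply, LinearMap.zero_apply]
      refine Finset.sum_eq_zero (fun i _ => ?_)
      have : φ i m = 0 := congrFun hm i
      rw [LinearMap.smul_apply, this, smul_zero]
    · apply quot_torsionFree
      intro a ha x hx
      obtain ⟨m, hm⟩ := hx
      let xt : (Fin n → R) →ₗ[R] R := Fintype.linearCombination R x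
      have hle : LinearMap.ker π ≤ LinearMap.ker xt := by
        intro r hr
        rw [LinearMap.mem_ker] at hr ⊢
        have h1 : a * xt r = (π r) m := by
          rw [hπr, LinearMap.sum_apply]
          simp only [xt, Fintype.linearCombination_apply, Finset.mul_sum, smul_eq_mul,
            LinearMap.smul_apply]
          refine Finset.sum_congr rfl (fun i _ => ?_)
          have : φ i m = a * x i := congrFun hm i
          rw [this]; ring
        rw [hr, LinearMap.zero_apply] at h1
        exact (mul_eq_zero.mp h1).resolve_left ha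
      let ξ : Module.Dual R (Module.Dual R M) :=
        (LinearMap.ker π).liftQ xt hle ∘ₗ (π.quotKerEquivOfSurjective hπ).symm.toLinearMap
      obtain ⟨m', hm'⟩ := (Module.bijective_dual_eval R M).2 ξ
      refine ⟨m', ?_⟩
      funext i
      have h1 : f m' i = Module.Dual.eval R M m' (φ i) := rfl
      rw [h1, hm']
      simp only [ξ, LinearMap.coe_comp, LinearEquiv.coe_coe, Function.comp_apply, φ]
      have : (π.quotKerEquivOfSurjective hπ).symm (π (e i)) = (LinearMap.ker π).mkQ (e i) := by
        rw [LinearEquiv.symm_apply_eq]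
        rfl
      rw [this]
      change xt (e i) = x i
      simp only [xt, Fintype.linearCombination_apply, e, smul_eq_mul]
      rw [Finset.sum_eq_single i]
      · simp
      · intro j _ hj
        rw [if_neg (Ne.symm hj), zero_mul]
      · intro h; exact absurd (Finset.mem_univ i) h
  · rintro ⟨n, f, hf, htf⟩
    have := htf
    exact Groth.Agent.S6872.result R f (LinearMap.range f).mkQ hf (LinearMap.exact_map_mkQ_range f)

end Groth.Agent.S6873
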