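import Groth.Statements.S6874
import Mathlib
import Groth.Agent.S6866
import Groth.Agent.S6872
import Groth.Agent.S6873

set_option autoImplicit false
universe u
open TensorProduct
open CAlg

namespace Groth.Agent.S6874

/-- For a flat ring map `R → R'` between Noetherian domains and a finite reflexive `R`-module `M`, the
base change `R' ⊗_R M` is a (finite) reflexive `R'`-module. -/
theorem result (R R' : Type u) [CommRing R] [IsDomain R]
    [IsNoetherianRing R] [CommRing R'] [IsDomain R'] [IsNoetherianRing R'] [Algebra R R'] [Module.Flat R R']
    (M : Type u) [AddCommGroup M] [Module R M] [Module.Finite R M] [Module.IsReflexive R M] :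
    Module.IsReflexive R' (R' ⊗[R] M) := by
  classical
  obtain ⟨n, f, hf, hQ⟩ := (Groth.Agent.S6873.result R M).mp inferInstance
  let Q := (Fin n → R) ⧸ LinearMap.range f
  let g : (Fin n → R) →ₗ[R] Q := (LinearMap.range f).mkQ
  have hg : Function.Surjective g := Submodule.mkQ_surjective _
  have hex : Function.Exact f g := by
    intro y
    rw [← LinearMap.mem_ker, Submodule.ker_mkQ]
    rfl
  have hQ' : Module.IsTorsionFree R' (R' ⊗[R] Q) := Groth.Agent.S6866.result R R' Q
  have hinj : Function.Injective (f.baseChange R') :=
    Module.Flat.lTensor_preserves_injective_linearMap (M := R') f hf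
  have hex' : Function.Exact (f.baseChange R') (g.baseChange R') := by
    have := lTensor_exact R' hex hg
    intro y
    have h := this y
    simpa [LinearMap.baseChange_eq_ltensor] using h
  exact Groth.Agent.S6872.result R' (f.baseChange R') (g.baseChange R') hinj hex'

end Groth.Agent.S6874
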