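import Groth.Statements.S6871
import Mathlib
import Groth.Agent.S6874

set_option autoImplicit false
universe u
open CAlg

namespace Groth.Agent.S6871

section
variable {R : Type u} [CommRing R] [IsDomain R] [IsNoetherianRing R]
variable (S : Submonoid R) (M : Type u) [AddCommGroup M] [Module R M] [Module.Finite R M]

/-- localization map on duals -/
noncomputable def D : Module.Dual R M →ₗ[R] Module.Dual (Localization S) (LocalizedModule S M) :=
  IsLocalizedModule.mapExtendScalars S (LocalizedModule.mkLinearMap S M)
    (Algebra.linearMap R (Localization S)) (Localization S)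

lemma D_apply (ψ : Module.Dual R M) (x : M) :
    D S M ψ (LocalizedModule.mkLinearMap S M x) = algebraMap R (Localization S) (ψ x) := by
  simp only [D, IsLocalizedModule.mapExtendScalars_apply_apply, IsLocalizedModule.map_apply]
  rfl

instance instD : IsLocalizedModule S (D S M) := by
  haveI := Module.finitePresentation_of_finite R M
  exact Module.FinitePresentation.isLocalizedModule_mapExtendScalars S _ _ _

/-- localization map on double duals -/
noncomputable def DD : Module.Dual R (Module.Dual R M) →ₗ[R]
    Module.Dual (Localization S) (Module.Dual (Localization S) (LocalizedModule S M)) :=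
  IsLocalizedModule.mapExtendScalars S (D S M)
    (Algebra.linearMap R (Localization S)) (Localization S)

lemma DD_apply (φ : Module.Dual R (Module.Dual R M)) (ψ : Module.Dual R M) :
    DD S M φ (D S M ψ) = algebraMap R (Localization S) (φ ψ) := by
  simp only [DD, IsLocalizedModule.mapExtendScalars_apply_apply, IsLocalizedModule.map_apply]
  rfl

instance instDD : IsLocalizedModule S (DD S M) := by
  haveI : Module.Finite R (Module.Dual R M) := by
    have : IsNoetherian R (M →ₗ[R] R) := inferInstance
    exact Module.IsNoetherian.finite R (M →ₗ[R] R)
  haveI := Module.finitePresentation_of_finite R (Module.Dual R M)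
  exact Module.FinitePresentation.isLocalizedModule_mapExtendScalars S _ _ _

lemma DD_eval (x : M) : DD S M (Module.Dual.eval R M x) =
    Module.Dual.eval (Localization S) (LocalizedModule S M) (LocalizedModule.mkLinearMap S M x) := by
  apply LinearMap.restrictScalars_injective R
  apply IsLocalizedModule.linearMap_ext S (D S M) (Algebra.linearMap R (Localization S))
  ext ψ
  show DD S M (Module.Dual.eval R M x) (D S M ψ) = (D S M ψ) (LocalizedModule.mkLinearMap S M x)
  rw [DD_apply, D_apply]
  rfl

end

theorem of_maximal (R : Type u) [CommRing R] [IsDomain R] [IsNoetherianRing R] (M : Type u)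
    [AddCommGroup M] [Module R M] [Module.Finite R M]
    (h : ∀ (m : Ideal R) (_ : m.IsMaximal),
        Module.IsReflexive (Localization.AtPrime m) (LocalizedModule m.primeCompl M)) :
    Module.IsReflexive R M := by
  constructor
  refine bijective_of_isLocalized_maximal (fun P _ => LocalizedModule P.primeCompl M)
    (fun P _ => LocalizedModule.mkLinearMap P.primeCompl M)
    (fun P _ => Module.Dual (Localization.AtPrime P)
      (Module.Dual (Localization.AtPrime P) (LocalizedModule P.primeCompl M)))
    (fun P _ => DD P.primeCompl M) (Module.Dual.eval R M) ?_
  intro P hP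
  have key : IsLocalizedModule.map P.primeCompl (LocalizedModule.mkLinearMap P.primeCompl M)
      (DD P.primeCompl M) (Module.Dual.eval R M) =
      (Module.Dual.eval (Localization.AtPrime P) (LocalizedModule P.primeCompl M)).restrictScalars R := by
    apply IsLocalizedModule.ext P.primeCompl (LocalizedModule.mkLinearMap P.primeCompl M)
      (IsLocalizedModule.map_units (DD P.primeCompl M))
    rw [IsLocalizedModule.map_comp]
    ext x : 1
    exact DD_eval P.primeCompl M x
  rw [key]
  haveI := h P hP
  exact Module.bijective_dual_eval (Localization.AtPrime P) (LocalizedModule P.primeCompl M)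

theorem to_prime (R : Type u) [CommRing R] [IsDomain R] [IsNoetherianRing R] (M : Type u)
    [AddCommGroup M] [Module R M] [Module.Finite R M] [Module.IsReflexive R M]
    (p : Ideal R) [p.IsPrime] :
    Module.IsReflexive (Localization.AtPrime p) (LocalizedModule p.primeCompl M) := by
  haveI : IsDomain (Localization.AtPrime p) :=
    IsLocalization.isDomain_localization (Ideal.primeCompl_le_nonZeroDivisors p)
  haveI : IsNoetherianRing (Localization.AtPrime p) :=
    IsLocalization.isNoetherianRing p.primeCompl _ inferInstance
  haveI : Module.Flat R (Localization.AtPrime p) := IsLocalization.flat _ p.primeCompl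
  haveI := Groth.Agent.S6874.result R (Localization.AtPrime p) M
  let e := (IsLocalizedModule.isBaseChange p.primeCompl (Localization.AtPrime p)
    (LocalizedModule.mkLinearMap p.primeCompl M)).equiv
  exact Module.equiv e


/-- Let `R` be a Noetherian domain and `M` a finite `R`-module. Then `M` is reflexive if and only if
`M_𝔭` is a reflexive `R_𝔭`-module for every prime `𝔭`, if and only if `M_𝔪` is a reflexive
`R_𝔪`-module for every maximal ideal `𝔪`. -/
theorem result (R : Type u) [CommRing R] [IsDomain R] [IsNoetherianRing R] (M : Type u)
    [AddCommGroup M] [Module R M] [Module.Finite R M] :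
    (Module.IsReflexive R M ↔
      ∀ (p : Ideal R) [p.IsPrime], Module.IsReflexive (Localization.AtPrime p) (LocalizedModule p.primeCompl M)) ∧
    (Module.IsReflexive R M ↔
      ∀ (m : Ideal R) (_ : m.IsMaximal),
        Module.IsReflexive (Localization.AtPrime m) (LocalizedModule m.primeCompl M)) := by
  refine ⟨⟨fun h p hp => ?_, fun h => ?_⟩, ⟨fun h m hm => ?_, fun h => ?_⟩⟩
  · exact to_prime R M p
  · exact of_maximal R M (fun m hm => by haveI := hm.isPrime; exact h m)
  · haveI := hm.isPrime
    exact to_prime R M m
  · exact of_maximal R M h

end Groth.Agent.S6871
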