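import Groth.Statements.S6878
import Mathlib

set_option autoImplicit false
universe u
open CAlg

namespace Groth.Agent.S6878

/-- Let `R` be a Noetherian ring and `φ : M → N` a map of `R`-modules. Suppose that for every prime `𝔭`
of `R` either `M_𝔭 → N_𝔭` is injective or `𝔭` is not an associated prime of `M`. Then `φ` is
injective. -/
theorem result (R : Type u) [CommRing R]
    [IsNoetherianRing R] {M N : Type u} [AddCommGroup M] [Module R M] [AddCommGroup N] [Module R N] (φ : M →ₗ[R] N)
    (h : ∀ (p : Ideal R) [p.IsPrime],
      Function.Injective (LocalizedModule.map p.primeCompl φ) ∨ p ∉ associatedPrimes R M) :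
    Function.Injective φ := by
  rw [injective_iff_map_eq_zero]
  intro x hx
  by_contra hx0
  have hnt : Nontrivial (LinearMap.ker φ) :=
    ⟨⟨⟨x, hx⟩, 0, fun h => hx0 (congrArg Subtype.val h)⟩⟩
  obtain ⟨p, hp⟩ := associatedPrimes.nonempty R (LinearMap.ker φ)
  have hpM : p ∈ associatedPrimes R M :=
    IsAssociatedPrime.map_of_injective (LinearMap.ker φ).subtype hp
      (LinearMap.ker φ).subtype_injective
  haveI := hp.isPrime
  rcases h p with hinj | hn
  · obtain ⟨hprime, y, hy⟩ := (isAssociatedPrime_iff).mp hp
    have h1 : LocalizedModule.map p.primeCompl φ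
        (LocalizedModule.mkLinearMap p.primeCompl M y.1) = 0 := by
      rw [LocalizedModule.mkLinearMap_apply, LocalizedModule.map_mk, LinearMap.mem_ker.mp y.2,
        LocalizedModule.zero_mk]
    have h2 := hinj (h1.trans (map_zero _).symm)
    obtain ⟨s, hs⟩ := (IsLocalizedModule.eq_zero_iff p.primeCompl
      (LocalizedModule.mkLinearMap p.primeCompl M)).mp h2
    have hmem : (s : R) ∈ (⊥ : Submodule R (LinearMap.ker φ)).colon {y} := by
      rw [Submodule.mem_colon_singleton, Submodule.mem_bot]
      exact Subtype.ext hs
    have : (s : R) ∈ p := hy ▸ hmem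
    exact s.2 this
  · exact hn hpM

end Groth.Agent.S6878
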