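import Groth.Statements.S6882
import Mathlib

set_option autoImplicit false
universe u
open CAlg

namespace Groth.Agent.S6882

/-- For a finite module `M` over a discrete valuation ring `R`, the evaluation map from `M` to its
double dual `M**` is surjective. -/
theorem result (R : Type u) [CommRing R] [IsDomain R]
    [IsDiscreteValuationRing R] (M : Type u) [AddCommGroup M] [Module R M] [Module.Finite R M] :
    Function.Surjective (Module.Dual.eval R M) := by
  classical
  let T := Submodule.torsion R M
  let π : M →ₗ[R] M ⧸ T := T.mkQ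
  haveI : Module.Free R (M ⧸ T) := Module.free_of_finite_type_torsion_free'
  haveI : Module.IsReflexive R (M ⧸ T) := inferInstance
  -- every functional on `M` kills torsion
  have hkill : ∀ h : Module.Dual R M, T ≤ LinearMap.ker h := by
    intro h t ht
    obtain ⟨a, ha⟩ := (Submodule.mem_torsion_iff t).mp ht
    rw [LinearMap.mem_ker]
    have h1 : (a : R) • h t = 0 := by
      rw [← map_smul]
      have : (a : R) • t = 0 := ha
      rw [this, map_zero]
    have ha0 : (a : R) ≠ 0 := nonZeroDivisors.coe_ne_zero a
    rcases smul_eq_zero.mp h1 with h2 | h2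
    · exact absurd h2 ha0
    · exact h2
  intro ξ
  -- the induced element of the double dual of `M ⧸ T`
  let ξ' : Module.Dual R (Module.Dual R (M ⧸ T)) :=
    ξ.comp (LinearMap.lcomp R R π)
  obtain ⟨f, hf⟩ := (Module.bijective_dual_eval R (M ⧸ T)).2 ξ'
  obtain ⟨m, hm⟩ := T.mkQ_surjective f
  refine ⟨m, ?_⟩
  ext h
  have hfac : h = (T.liftQ h (hkill h)).comp π := by
    ext x
    simp [π]
  have h3 : ξ' (T.liftQ h (hkill h)) = ξ h := by
    change ξ ((T.liftQ h (hkill h)).comp π) = ξ h
    rw [← hfac]
  rw [← h3, ← hf]
  simp only [Module.Dual.eval_apply]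
  rw [← hm]
  simp

end Groth.Agent.S6882
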