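import Groth.Statements.S6886
import Mathlib

set_option autoImplicit false
universe u
open TensorProduct
open CAlg

namespace Groth.Agent.S6886

section helpers
open Polynomial

lemma multi_split : ∀ (n : ℕ) (R : Type u) [CommRing R] [Nontrivial R] (P : Fin n → R[X])
    (_ : ∀ i, (P i).Monic),
    ∃ (S : Type u) (_ : CommRing S) (_ : Algebra R S) (_ : Module.Finite R S) (_ : Module.Free R S)
      (_ : Nontrivial S), ∀ i, ((P i).map (algebraMap R S)).Splits := by
  intro n
  induction n with
  | zero =>
    intro R _ _ P hP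
    exact ⟨R, inferInstance, inferInstance, inferInstance, inferInstance, inferInstance,
      fun i => i.elim0⟩
  | succ n ih =>
    intro R _ _ P hP
    obtain ⟨S₁, _, _, _, _, _, hS₁⟩ := (hP 0).exists_splits_map
    obtain ⟨S₂, _, _, _, _, _, hS₂⟩ := ih S₁ (fun i => (P i.succ).map (algebraMap R S₁))
      (fun i => (hP _).map _)
    algebraize [(algebraMap S₁ S₂).comp (algebraMap R S₁)]
    refine ⟨S₂, ‹_›, ‹_›, .trans S₁ _, .trans (S := S₁), ‹_›, ?_⟩
    intro i
    rw [IsScalarTower.algebraMap_eq R S₁ S₂, ← Polynomial.map_map]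
    refine Fin.cases ?_ ?_ i
    · exact hS₁.map _
    · intro j; exact hS₂ j

/-- a monic split polynomial is a product of linear factors indexed by `Fin d` -/
lemma exists_fin_roots {S : Type u} [CommRing S] (f : S[X]) (hf : f.Monic) (hs : f.Splits) :
    ∃ (d : ℕ) (α : Fin d → S), f = ∏ j, (X - C (α j)) := by
  obtain ⟨m, hm⟩ := splits_iff_exists_multiset.1 hs
  rw [hf.leadingCoeff, C_1, one_mul] at hm
  refine ⟨m.toList.length, fun j => m.toList[j.1], ?_⟩
  rw [hm]
  have h1 := Fin.prod_univ_fun_getElem m.toList (fun a => (X - C a : S[X]))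
  rw [h1, ← Multiset.prod_coe, ← Multiset.map_coe, Multiset.coe_toList]


theorem main6886 (R S : Type u) [CommRing R] [CommRing S] [Algebra R S] [Module.Finite R S] :
    ∃ (R' : Type u) (_ : CommRing R') (_ : Algebra R R'), Module.Finite R R' ∧ Module.Free R R' ∧
      Function.Injective (algebraMap R R') ∧
      ∃ (n : ℕ) (d : Fin n → ℕ) (α : (i : Fin n) → Fin (d i) → R')
        (φ : MvPolynomial (Fin n) R' →ₐ[R'] R' ⊗[R] S), Function.Surjective φ ∧
          ∀ i, φ (∏ j, (MvPolynomial.X i - MvPolynomial.C (α i j))) = 0 := by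
  rcases subsingleton_or_nontrivial R with hR | hR
  · refine ⟨R, inferInstance, inferInstance, inferInstance, inferInstance, Function.injective_id,
      0, Fin.elim0, fun i => i.elim0, MvPolynomial.aeval (fun i => i.elim0), ?_, fun i => i.elim0⟩
    have : Subsingleton (R ⊗[R] S) := Module.subsingleton R _
    intro y
    exact ⟨0, Subsingleton.elim _ _⟩
  · obtain ⟨n, s, hs⟩ := Module.Finite.exists_fin (R := R) (M := S)
    have hint : ∀ i, IsIntegral R (s i) := fun i => Algebra.IsIntegral.isIntegral (s i)
    choose P hPm hPz using hint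
    obtain ⟨R', _, _, hfin, hfree, hnt, hsplit⟩ := multi_split n R P hPm
    choose d α hα using fun i =>
      exists_fin_roots ((P i).map (algebraMap R R')) ((hPm i).map _) (hsplit i)
    refine ⟨R', ‹_›, ‹_›, hfin, hfree, FaithfulSMul.algebraMap_injective R R', n, d, α,
      MvPolynomial.aeval (fun i => (1 : R') ⊗ₜ[R] s i), ?_, ?_⟩
    · -- surjective
      intro y
      rw [← AlgHom.mem_range]
      induction y using TensorProduct.induction_on with
      | zero => exact Subalgebra.zero_mem _
      | add y z hy hz => exact Subalgebra.add_mem _ hy hz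
      | tmul r' t =>
        have ht : t ∈ Submodule.span R (Set.range s) := by rw [hs]; trivial
        obtain ⟨c, rfl⟩ := (Submodule.mem_span_range_iff_exists_fun R).1 ht
        rw [TensorProduct.tmul_sum]
        refine Subalgebra.sum_mem _ (fun i _ => ?_)
        have h1 : r' ⊗ₜ[R] (c i • s i) = (r' * algebraMap R R' (c i)) • ((1 : R') ⊗ₜ[R] s i) := by
          rw [TensorProduct.smul_tmul', smul_eq_mul, mul_one, TensorProduct.tmul_smul,
            TensorProduct.smul_tmul', Algebra.smul_def, mul_comm]
        rw [h1]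
        refine Subalgebra.smul_mem _ ?_ _
        exact ⟨MvPolynomial.X i, by simp⟩
    · intro i
      rw [map_prod]
      simp only [map_sub, MvPolynomial.aeval_X, MvPolynomial.aeval_C]
      have h1 : Polynomial.aeval ((1 : R') ⊗ₜ[R] s i) ((P i).map (algebraMap R R')) =
          ∏ j, ((1 : R') ⊗ₜ[R] s i - algebraMap R' (R' ⊗[R] S) (α i j)) := by
        rw [hα i, map_prod]
        simp only [map_sub, Polynomial.aeval_X, Polynomial.aeval_C]
      rw [← h1, Polynomial.aeval_map_algebraMap]
      have h2 : (1 : R') ⊗ₜ[R] s i = (Algebra.TensorProduct.includeRight : S →ₐ[R] R' ⊗[R] S) (s i) :=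
        rfl
      rw [h2, Polynomial.aeval_algHom_apply, Polynomial.aeval_def, hPz i, map_zero]


end helpers

/-- Let `R → S` be a finite ring map. One can find an extension `R ⊆ R'` of rings, with `R'` finite and
free as an `R`-module, for which the ring `S ⊗_R R'` arises as a quotient of `R'[T_1, …,
T_n]/(P_1(T_1), …, P_n(T_n))` with each `P_i(T) = ∏_j (T - α_{ij})` a product of linear factors over
`R'`. -/
theorem result (R S : Type u) [CommRing R] [CommRing S] [Algebra R S]
    [Module.Finite R S] :
    ∃ (R' : Type u) (_ : CommRing R') (_ : Algebra R R'), Module.Finite R R' ∧ Module.Free R R' ∧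
      Function.Injective (algebraMap R R') ∧
      ∃ (n : ℕ) (d : Fin n → ℕ) (α : (i : Fin n) → Fin (d i) → R')
        (φ : MvPolynomial (Fin n) R' →ₐ[R'] R' ⊗[R] S), Function.Surjective φ ∧
          ∀ i, φ (∏ j, (MvPolynomial.X i - MvPolynomial.C (α i j))) = 0 := by
  exact main6886 R S

end Groth.Agent.S6886
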