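import Groth.Statements.S6888
import Mathlib

set_option autoImplicit false
universe u
open Polynomial
open CAlg

namespace Groth.Agent.S6888

section
variable {A : Type u} [CommRing A] (I : Ideal A)

theorem glue (a₀ : A) : ∀ (L : List (A × A)),
    (∀ p ∈ L, IsIdempotentElem p.2 ∧ (1 - p.2) * (a₀ - p.1) ∈ I) →
    ∃ a : A, a - a₀ ∈ I ∧ ∃ G : A,
      (L.map (fun p => a - p.1)).prod = (L.map (fun p => p.2)).prod * G := by
  intro L
  induction L with
  | nil => intro _; exact ⟨a₀, by simp, 1, by simp⟩
  | cons p L ih =>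
    intro h
    obtain ⟨a', ha', G, hG⟩ := ih (fun q hq => h q (List.mem_cons_of_mem _ hq))
    obtain ⟨he, hp⟩ := h p List.mem_cons_self
    have e2 : p.2 * p.2 = p.2 := he
    refine ⟨(1 - p.2) * p.1 + p.2 * a', ?_, (a' - p.1) * G, ?_⟩
    · have : (1 - p.2) * p.1 + p.2 * a' - a₀ = - ((1 - p.2) * (a₀ - p.1)) + p.2 * (a' - a₀) := by
        ring
      rw [this]
      exact I.add_mem (I.neg_mem hp) (I.mul_mem_left _ ha')
    · simp only [List.map_cons, List.prod_cons]
      have key : ∀ (M : List (A × A)),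
          p.2 * (M.map (fun q => (1 - p.2) * p.1 + p.2 * a' - q.1)).prod =
            p.2 * (M.map (fun q => a' - q.1)).prod := by
        intro M
        induction M with
        | nil => simp
        | cons q M ihM =>
          simp only [List.map_cons, List.prod_cons]
          have h1 : p.2 * ((1 - p.2) * p.1 + p.2 * a' - q.1) = p.2 * (a' - q.1) := by
            linear_combination (a' - p.1) * e2
          calc p.2 * (((1 - p.2) * p.1 + p.2 * a' - q.1) *
                (M.map (fun q => (1 - p.2) * p.1 + p.2 * a' - q.1)).prod)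
              = (p.2 * ((1 - p.2) * p.1 + p.2 * a' - q.1)) *
                (p.2 * (M.map (fun q => (1 - p.2) * p.1 + p.2 * a' - q.1)).prod) := by
                rw [mul_mul_mul_comm, e2]
            _ = (p.2 * (a' - q.1)) * (p.2 * (M.map (fun q => a' - q.1)).prod) := by rw [h1, ihM]
            _ = p.2 * ((a' - q.1) * (M.map (fun q => a' - q.1)).prod) := by
                rw [mul_mul_mul_comm, e2]
      have h3 : (1 - p.2) * p.1 + p.2 * a' - p.1 = p.2 * (a' - p.1) := by ring
      rw [h3]
      calc p.2 * (a' - p.1) * (L.map (fun q => (1 - p.2) * p.1 + p.2 * a' - q.1)).prod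
          = (a' - p.1) * (p.2 * (L.map (fun q => (1 - p.2) * p.1 + p.2 * a' - q.1)).prod) := by ring
        _ = (a' - p.1) * (p.2 * (L.map (fun q => a' - q.1)).prod) := by rw [key]
        _ = (a' - p.1) * (p.2 * ((L.map (fun p => p.2)).prod * G)) := by rw [hG]
        _ = p.2 * (L.map (fun p => p.2)).prod * ((a' - p.1) * G) := by ring

theorem prod_snd (a₀ : A) : ∀ (L : List (A × A)),
    (∀ p ∈ L, ∃ t : A ⧸ I, Ideal.Quotient.mk I p.2 = t * Ideal.Quotient.mk I (a₀ - p.1)) →
    ∃ T : A ⧸ I, Ideal.Quotient.mk I (L.map (fun p => p.2)).prod =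
      T * Ideal.Quotient.mk I (L.map (fun p => a₀ - p.1)).prod := by
  intro L
  induction L with
  | nil => intro _; exact ⟨1, by simp⟩
  | cons p L ih =>
    intro h
    obtain ⟨T, hT⟩ := ih (fun q hq => h q (List.mem_cons_of_mem _ hq))
    obtain ⟨t, ht⟩ := h p List.mem_cons_self
    refine ⟨t * T, ?_⟩
    simp only [List.map_cons, List.prod_cons, map_mul, ht, hT]
    ring

theorem prod_idem : ∀ (L : List (A × A)), (∀ p ∈ L, IsIdempotentElem p.2) →
    IsIdempotentElem (L.map (fun p => p.2)).prod := by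
  intro L
  induction L with
  | nil => intro _; simp [IsIdempotentElem]
  | cons p L ih =>
    intro h
    have h1 : p.2 * p.2 = p.2 := h p List.mem_cons_self
    have h2 : (L.map (fun p => p.2)).prod * (L.map (fun p => p.2)).prod = (L.map (fun p => p.2)).prod :=
      ih (fun q hq => h q (List.mem_cons_of_mem _ hq))
    simp only [List.map_cons, List.prod_cons]
    show p.2 * _ * (p.2 * _) = p.2 * _
    rw [mul_mul_mul_comm, h1, h2]

theorem idem_zero (hI : I ≤ Ideal.jacobson (⊥ : Ideal A)) (x : A) (hx : IsIdempotentElem x) (hxI : x ∈ I) :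
    x = 0 := by
  have h1 : x ∈ Ideal.jacobson (⊥ : Ideal A) := hI hxI
  have h3 := (Ideal.mem_jacobson_bot.1 h1) (-1)
  have h2 : (x * -1 + 1) * x = 0 := by
    have := hx.eq
    linear_combination -this
  exact (h3.mul_right_eq_zero).1 h2

end

/-- Let `A` be absolutely integrally closed (every monic polynomial over `A` is a product of linear
factors) and `I ⊆ A` an ideal contained in the Jacobson radical such that `A → A/I` is surjective
(hence bijective) on idempotents. Then `(A, I)` is a henselian pair. (The published statement also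
records the converse, which holds for every henselian pair; this row states the sufficiency only.) -/
theorem result (A : Type u) [CommRing A]
    (hA : ∀ f : A[X], f.Monic → ∃ s : Multiset A, f = (s.map fun a => X - C a).prod) (I : Ideal A)
    (hI : I ≤ Ideal.jacobson (⊥ : Ideal A))
    (hidem : ∀ e : A ⧸ I, IsIdempotentElem e → ∃ e' : A, IsIdempotentElem e' ∧ Ideal.Quotient.mk I e' = e) :
    HenselianRing A I := by
  classical
  refine ⟨hI, ?_⟩
  intro f hf a₀ ha₀ hunit
  obtain ⟨s, hs⟩ := hA f hf
  obtain ⟨l, rfl⟩ := Quot.exists_rep s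
  have hfeval : ∀ a, f.eval a = (l.map (fun b => a - b)).prod := by
    intro a
    rw [hs]
    show eval a (Multiset.map (fun a => X - C a) (l : Multiset A)).prod = _
    rw [Multiset.map_coe, Multiset.prod_coe, Polynomial.eval_list_prod, List.map_map]
    congr 1
    apply List.map_congr_left
    intro b _
    simp
  have hroot : ∀ b ∈ l, f.eval b = 0 := by
    intro b hb
    rw [hfeval]
    apply List.prod_eq_zero
    rw [List.mem_map]
    exact ⟨b, hb, sub_self b⟩
  obtain ⟨w, hw⟩ := hunit.exists_left_inv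
  have h0 : Ideal.Quotient.mk I (f.eval a₀) = 0 := Ideal.Quotient.eq_zero_iff_mem.2 ha₀
  have hE : ∀ b : A, ∃ e : A, b ∈ l → (IsIdempotentElem e ∧ (1 - e) * (a₀ - b) ∈ I ∧
      ∃ t, Ideal.Quotient.mk I e = t * Ideal.Quotient.mk I (a₀ - b)) := by
    intro b
    by_cases hb : b ∈ l
    · obtain ⟨k, hk⟩ := f.binomExpansion a₀ (b - a₀)
      rw [add_sub_cancel, hroot b hb] at hk
      obtain ⟨u, hu⟩ : ∃ u, u = Ideal.Quotient.mk I (a₀ - b) := ⟨_, rfl⟩
      have h1 : Ideal.Quotient.mk I (f.derivative.eval a₀) * u = Ideal.Quotient.mk I k * u ^ 2 := by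
        have := congrArg (Ideal.Quotient.mk I) hk
        simp only [map_zero, map_add, map_mul, map_pow, h0, zero_add] at this
        have hu' : Ideal.Quotient.mk I (b - a₀) = -u := by
          rw [hu, ← map_neg]; congr 1; ring
        rw [hu'] at this
        linear_combination this
      have h2 : u = w * Ideal.Quotient.mk I k * u ^ 2 := by
        calc u = (w * Ideal.Quotient.mk I (f.derivative.eval a₀)) * u := by rw [hw, one_mul]
          _ = w * (Ideal.Quotient.mk I (f.derivative.eval a₀) * u) := by ring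
          _ = w * (Ideal.Quotient.mk I k * u ^ 2) := by rw [h1]
          _ = _ := by ring
      obtain ⟨t, ht⟩ : ∃ t, t = w * Ideal.Quotient.mk I k := ⟨_, rfl⟩
      rw [← ht] at h2
      have hidem' : IsIdempotentElem (t * u) := by
        show t * u * (t * u) = t * u
        calc t * u * (t * u) = t * (t * u ^ 2) := by ring
          _ = t * u := by rw [← h2]
      obtain ⟨e, he, hee⟩ := hidem (t * u) hidem'
      refine ⟨e, fun _ => ⟨he, ?_, t, by rw [hee, hu]⟩⟩
      rw [← Ideal.Quotient.eq_zero_iff_mem, map_mul, map_sub, map_one, hee, ← hu]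
      linear_combination h2
    · exact ⟨0, fun h => absurd h hb⟩
  choose E hE using hE
  obtain ⟨L, hL⟩ : ∃ L : List (A × A), L = l.map (fun b => (b, E b)) := ⟨_, rfl⟩
  have hmem : ∀ p ∈ L, p.1 ∈ l ∧ p.2 = E p.1 := by
    intro p hp
    rw [hL, List.mem_map] at hp
    obtain ⟨b, hb, rfl⟩ := hp
    exact ⟨hb, rfl⟩
  have hL1 : ∀ a : A, L.map (fun p => a - p.1) = l.map (fun b => a - b) := by
    intro a
    rw [hL, List.map_map]
    rfl
  obtain ⟨a, haI, G, hG⟩ := glue I a₀ L (fun p hp => by
    obtain ⟨h1, h2⟩ := hmem p hp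
    rw [h2]
    exact ⟨(hE p.1 h1).1, (hE p.1 h1).2.1⟩)
  obtain ⟨T, hT⟩ := prod_snd I a₀ L (fun p hp => by
    obtain ⟨h1, h2⟩ := hmem p hp
    rw [h2]
    exact (hE p.1 h1).2.2)
  have hid := prod_idem L (fun p hp => by
    obtain ⟨h1, h2⟩ := hmem p hp
    rw [h2]
    exact (hE p.1 h1).1)
  rw [hL1, ← hfeval, h0, mul_zero, Ideal.Quotient.eq_zero_iff_mem] at hT
  have hz := idem_zero I hI _ hid hT
  refine ⟨a, ?_, haI⟩
  show f.eval a = 0
  rw [hfeval, ← hL1, hG, hz, zero_mul]

end Groth.Agent.S6888
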