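import Groth.Statements.S6891
import Mathlib
import Groth.Agent.Lib.Helper10.Fitting
import Groth.Agent.Lib.Helper10.FittingB

set_option autoImplicit false
universe u
open Fitt

namespace Groth.Agent.S6891

section helpers
open Groth.Agent.Lib.Helper10.Fitting
open Matrix Finset

theorem fitt_zero_quot {R : Type*} [CommRing R] (I : Ideal R) : Fitt.ideal R (R ⧸ I) 0 = I := by
  have hx : Submodule.span R (Set.range (fun _ : Fin 1 => (1 : R ⧸ I))) = ⊤ := by
    rw [eq_top_iff]
    rintro y -
    obtain ⟨r, rfl⟩ := Ideal.Quotient.mk_surjective y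
    have : (Ideal.Quotient.mk I r) = r • (1 : R ⧸ I) := by
      rw [Algebra.smul_def]; simp
    rw [this]
    exact Submodule.smul_mem _ _ (Submodule.subset_span ⟨0, rfl⟩)
  rw [fitt_eq_Jo _ hx]
  apply le_antisymm
  · refine Ideal.span_le.2 ?_
    rintro d ⟨a, hrel, rfl⟩
    have := hrel 0 (by simp)
    unfold IsRel at this
    rw [Matrix.det_fin_one]
    simp only [Finset.univ_unique, Fin.default_eq_zero, Fin.isValue, Finset.sum_singleton] at this
    rw [Algebra.smul_def, mul_one] at this
    exact Ideal.Quotient.eq_zero_iff_mem.1 this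
  · intro r hr
    refine Ideal.subset_span ⟨Matrix.of (fun _ _ => r), ?_, by simp⟩
    intro i _
    unfold IsRel
    simp only [Finset.univ_unique, Fin.default_eq_zero, Fin.isValue, Matrix.of_apply, Finset.sum_singleton]
    rw [Algebra.smul_def, mul_one]
    exact Ideal.Quotient.eq_zero_iff_mem.2 hr

theorem main {R : Type*} [CommRing R] (M : Type*) [AddCommGroup M]
    [Module R M] [Module.Finite R M] (I : Ideal R) :
    Fitt.ideal R M 0 ≤ Module.annihilator R M ∧
    PrimeSpectrum.zeroLocus (Fitt.ideal R M 0 : Set R) = Module.support R M ∧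
    Fitt.ideal R (R ⧸ I) 0 = I := by
  refine ⟨fitt_zero_le_annihilator, ?_, fitt_zero_quot I⟩
  rw [Module.support_eq_zeroLocus]
  apply Set.Subset.antisymm
  · intro p hp
    obtain ⟨n, x, hx⟩ := Module.Finite.exists_fin (R := R) (M := M)
    rw [PrimeSpectrum.mem_zeroLocus] at hp ⊢
    intro r hr
    have h1 := hp (pow_mem_fitt_zero x hx r hr)
    exact p.2.mem_of_pow_mem n h1
  · exact PrimeSpectrum.zeroLocus_anti_mono fitt_zero_le_annihilator

end helpers

/-- Let `M` be a finite `R`-module. Then `Fit_0(M) ⊆ Ann_R(M)`, the closed set `V(Fit_0(M))` equals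
`Supp(M)`, and for an ideal `I` one has `Fit_0(R/I) = I`. -/
theorem result {R : Type u} [CommRing R] (M : Type u) [AddCommGroup M]
    [Module R M] [Module.Finite R M] (I : Ideal R) :
    Fitt.ideal R M 0 ≤ Module.annihilator R M ∧
    PrimeSpectrum.zeroLocus (Fitt.ideal R M 0 : Set R) = Module.support R M ∧
    Fitt.ideal R (R ⧸ I) 0 = I := by
  exact main M I

end Groth.Agent.S6891
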