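import Groth.Statements.S6896
import Mathlib
import Groth.Agent.Lib.Helper10.FittingE

set_option autoImplicit false
universe u
open Fitt

namespace Groth.Agent.S6896

section helpers
open Groth.Agent.Lib.Helper10.Fitting
open Matrix Finset

variable {R : Type*} [CommRing R] {M : Type*} [AddCommGroup M] [Module R M]

/-- the good case: a generator equal to a unit multiple of `f`. -/
lemma good_case {n : ℕ} (k : ℕ) (f : R) (x : Fin n → M)
    (hx : Submodule.span R (Set.range x) = ⊤) (hJ : Jo (R := R) x k = Ideal.span {f})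
    (a : Matrix (Fin n) (Fin n) R) (hrel : ∀ i : Fin n, (i : ℕ) < n - k → IsRel x (a i))
    (t : R) (ht : IsUnit t) (hdet : a.det = f * t) :
    ∃ g : Fin k → M ⧸ LinearMap.ker (f • (LinearMap.id : M →ₗ[R] M)),
      Submodule.span R (Set.range g) = ⊤ := by
  set N := LinearMap.ker (f • (LinearMap.id : M →ₗ[R] M)) with hN
  set y := mulFam a x with hy
  have hy0 : ∀ i : Fin n, (i : ℕ) < n - k → y i = 0 := fun i hi => hrel i hi
  -- adjugate entries in free rows lie in (f)
  have hadj : ∀ (j i : Fin n), ∃ β : R, a.adjugate j i • y i = (f * β) • y i := by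
    intro j i
    by_cases hi : (i : ℕ) < n - k
    · exact ⟨0, by rw [hy0 i hi, smul_zero, smul_zero]⟩
    · have hmem : a.adjugate j i ∈ Jo (R := R) x k := by
        rw [Matrix.adjugate_apply]
        refine Ideal.subset_span ⟨_, fun l hl => ?_, rfl⟩
        have hne : l ≠ i := by
          intro h; subst h; exact hi hl
        rw [Matrix.updateRow_ne hne]
        exact hrel l hl
      rw [hJ, Ideal.mem_span_singleton] at hmem
      obtain ⟨β, hβ⟩ := hmem
      exact ⟨β, by rw [hβ]⟩
  choose β hβ using hadj
  have hkey : ∀ j, a.det • x j = ∑ i, (f * β j i) • y i := by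
    intro j
    have h1 : mulFam a.adjugate y = fun j => a.det • x j := by
      rw [hy, ← mulFam_mul, Matrix.adjugate_mul, mulFam_smul_one]
    have h2 := congrFun h1 j
    rw [← h2]
    simp only [mulFam]
    exact Finset.sum_congr rfl (fun i _ => hβ j i)
  refine exists_span_of_tail k (fun i => N.mkQ (y i)) ?_ (fun i hi => by rw [hy0 i hi, map_zero])
  rw [eq_top_iff]
  rintro q -
  obtain ⟨m, rfl⟩ := N.mkQ_surjective q
  have hm : m ∈ Submodule.span R (Set.range x) := by rw [hx]; trivial
  induction hm using Submodule.span_induction with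
  | mem z hz =>
    obtain ⟨j, rfl⟩ := hz
    have h3 : t • x j - ∑ i, β j i • y i ∈ N := by
      rw [hN, LinearMap.mem_ker]
      simp only [LinearMap.smul_apply, LinearMap.id_coe, id_eq, smul_sub, Finset.smul_sum]
      rw [smul_smul, ← hdet, hkey j]
      simp only [mul_smul]
      exact sub_self _
    have h4 : N.mkQ (t • x j) = ∑ i, β j i • N.mkQ (y i) := by
      have := (Submodule.Quotient.mk_eq_zero N).2 h3
      rw [Submodule.Quotient.mk_sub, sub_eq_zero] at this
      rw [Submodule.mkQ_apply, this, ← Submodule.mkQ_apply, map_sum]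
      simp
    obtain ⟨u, rfl⟩ := ht
    have h5 : N.mkQ (x j) = (↑u⁻¹ : R) • N.mkQ ((u : R) • x j) := by
      rw [map_smul, smul_smul]; simp
    rw [h5, h4]
    refine Submodule.smul_mem _ _ (Submodule.sum_mem _ (fun i _ => Submodule.smul_mem _ _ ?_))
    exact Submodule.subset_span ⟨i, rfl⟩
  | zero => rw [map_zero]; exact Submodule.zero_mem _
  | add z w _ _ hz hw => rw [map_add]; exact Submodule.add_mem _ hz hw
  | smul r z _ hz => rw [map_smul]; exact Submodule.smul_mem _ _ hz

theorem main [IsLocalRing R] [Module.Finite R M] (k : ℕ) (f : R)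
    (hf : Fitt.ideal R M k = Ideal.span {f}) :
    ∃ g : Fin k → M ⧸ LinearMap.ker (f • (LinearMap.id : M →ₗ[R] M)),
      Submodule.span R (Set.range g) = ⊤ := by
  obtain ⟨n, x, hx⟩ := Module.Finite.exists_fin (R := R) (M := M)
  rw [fitt_eq_Jo x hx] at hf
  by_cases hgood : ∃ (a : Matrix (Fin n) (Fin n) R) (t : R),
      (∀ i : Fin n, (i : ℕ) < n - k → IsRel x (a i)) ∧ IsUnit t ∧ a.det = f * t
  · obtain ⟨a, t, hrel, ht, hdet⟩ := hgood
    exact good_case k f x hx hf a hrel t ht hdet
  · push Not at hgood
    have hle : Jo (R := R) x k ≤ Ideal.span {f} * IsLocalRing.maximalIdeal R := by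
      refine Ideal.span_le.2 ?_
      rintro d ⟨a, hrel, rfl⟩
      have hmem : a.det ∈ Jo (R := R) x k := Ideal.subset_span ⟨a, hrel, rfl⟩
      rw [hf, Ideal.mem_span_singleton] at hmem
      obtain ⟨t, ht⟩ := hmem
      rw [SetLike.mem_coe, Ideal.mem_span_singleton_mul]
      refine ⟨t, ?_, ht.symm⟩
      rw [IsLocalRing.mem_maximalIdeal]
      intro hu
      exact hgood a t hrel hu ht
    have hf0 : f = 0 := by
      have h1 : f ∈ Ideal.span {f} * IsLocalRing.maximalIdeal R := by
        apply hle
        rw [hf]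
        exact Ideal.mem_span_singleton_self f
      rw [Ideal.mem_span_singleton_mul] at h1
      obtain ⟨μ, hμ, h2⟩ := h1
      have hu : IsUnit (1 - μ) := IsLocalRing.isUnit_one_sub_self_of_mem_nonunits μ hμ
      have h3 : f * (1 - μ) = 0 := by rw [mul_sub, mul_one, h2, sub_self]
      exact (hu.mul_left_eq_zero).1 h3
    subst hf0
    have hsub : Subsingleton (M ⧸ LinearMap.ker ((0 : R) • (LinearMap.id : M →ₗ[R] M))) := by
      rw [Submodule.Quotient.subsingleton_iff]
      simp
    refine ⟨fun _ => 0, ?_⟩
    rw [eq_top_iff]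
    intro q _
    rw [Subsingleton.elim q 0]
    exact Submodule.zero_mem _

end helpers

/-- Let `R` be a local ring, `M` a finite `R`-module and `k ≥ 0` with `Fit_k(M) = (f)` principal. Then
the quotient `M'` of `M` by the submodule `{x ∈ M | f x = 0}` can be generated by `k` elements. -/
theorem result {R : Type u} [CommRing R] [IsLocalRing R]
    (M : Type u) [AddCommGroup M] [Module R M] [Module.Finite R M] (k : ℕ) (f : R)
    (hf : Fitt.ideal R M k = Ideal.span {f}) :
    ∃ g : Fin k → M ⧸ LinearMap.ker (f • (LinearMap.id : M →ₗ[R] M)),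
      Submodule.span R (Set.range g) = ⊤ := by
  exact main k f hf

end Groth.Agent.S6896
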