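import Groth.Statements.S6898
import Mathlib

set_option autoImplicit false
universe u
open TensorProduct
open CAlg

namespace Groth.Agent.S6898

section helpers

section gen
variable {A : Type u} [CommRing A] {M : Type u} [AddCommGroup M] [Module A M]

/-- finite representation of elements of `I • ⊤` -/
lemma exists_rep (I : Ideal A) (x : M) (hx : x ∈ I • (⊤ : Submodule A M)) :
    ∃ (n : ℕ) (a : Fin n → A) (m : Fin n → M), (∀ i, a i ∈ I) ∧ x = ∑ i, a i • m i := by
  have h1 : x ∈ I • Submodule.span A (Set.range (id : M → M)) := by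
    rw [Set.range_id, Submodule.span_univ]; exact hx
  rw [Submodule.mem_ideal_smul_span_iff_exists_sum] at h1
  obtain ⟨c, hc, rfl⟩ := h1
  let e := c.support.equivFin
  refine ⟨c.support.card, fun i => c (e.symm i), fun i => (e.symm i : M), fun i => hc _, ?_⟩
  rw [Finsupp.sum]
  rw [← Finset.sum_coe_sort c.support (fun y => c y • id y)]
  exact (Equiv.sum_comp e.symm (fun y : c.support => c y • (y : M))).symm

/-- elements of `span(range a) • ⊤` are combinations of the `a i` -/
lemma exists_rep_span {ι : Type*} [Fintype ι] (a : ι → A) (x : M)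
    (hx : x ∈ Ideal.span (Set.range a) • (⊤ : Submodule A M)) :
    ∃ m : ι → M, x = ∑ i, a i • m i := by
  refine Submodule.smul_induction_on (p := fun x => ∃ m : ι → M, x = ∑ i, a i • m i) hx ?_ ?_
  · intro r hr y _
    obtain ⟨c, rfl⟩ := (Submodule.mem_span_range_iff_exists_fun A).1 hr
    refine ⟨fun i => c i • y, ?_⟩
    rw [Finset.sum_smul]
    refine Finset.sum_congr rfl (fun i _ => ?_)
    rw [smul_smul, smul_eq_mul, mul_comm]
  · rintro y z ⟨m1, rfl⟩ ⟨m2, rfl⟩
    exact ⟨fun i => m1 i + m2 i, by simp [smul_add, Finset.sum_add_distrib]⟩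

lemma sum_mem_smul_top (I : Ideal A) {ι : Type*} (s : Finset ι) (a : ι → A) (m : ι → M)
    (ha : ∀ i ∈ s, a i ∈ I) : ∑ i ∈ s, a i • m i ∈ I • (⊤ : Submodule A M) :=
  Submodule.sum_mem _ (fun i hi => Submodule.smul_mem_smul (ha i hi) Submodule.mem_top)

/-- `1 ⊗ z = 0` in `(A/J) ⊗ M` forces `z ∈ J M`. -/
lemma mem_smul_top_of_tmul_eq_zero (J : Ideal A) (z : M)
    (hz : (1 : A ⧸ J) ⊗ₜ[A] z = 0) : z ∈ J • (⊤ : Submodule A M) := by
  have h1 := congrArg (TensorProduct.quotTensorEquivQuotSMul M J) hz
  rw [TensorProduct.quotTensorEquivQuotSMul_mk_one_tmul, map_zero,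
    Submodule.Quotient.mk_eq_zero] at h1
  exact h1

end gen


section loc
variable {A : Type u} [CommRing A] [IsLocalRing A] {M : Type u} [AddCommGroup M] [Module A M]

open IsLocalRing

/-- the reduction step -/
lemma reduce (x : M) (I : Ideal A) (hx : IsLeast {J : Ideal A | x ∈ J • (⊤ : Submodule A M)} I)
    (k : ℕ) (a : Fin (k+1) → A) (m : Fin (k+1) → M) (ha : ∀ i, a i ∈ I) (hxa : x = ∑ i, a i • m i)
    (c : Fin (k+1) → A) (i₀ : Fin (k+1)) (hc : IsUnit (c i₀))
    (hz : ∑ i, c i • m i ∈ maximalIdeal A • (⊤ : Submodule A M)) :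
    ∃ (a' : Fin k → A) (m' : Fin k → M), (∀ i, a' i ∈ I) ∧ x = ∑ i, a' i • m' i := by
  obtain ⟨w, hw⟩ := hc.exists_left_inv
  set z := ∑ i, c i • m i with hzdef
  let a' : Fin k → A := fun j => a (i₀.succAbove j) - a i₀ * w * c (i₀.succAbove j)
  have ha' : ∀ j, a' j ∈ I := fun j =>
    I.sub_mem (ha _) (I.mul_mem_right _ (I.mul_mem_right _ (ha i₀)))
  have hx2 : x = ∑ j, a' j • m (i₀.succAbove j) + (a i₀ * w) • z := by
    rw [hxa, hzdef, Fin.sum_univ_succAbove _ i₀, Fin.sum_univ_succAbove (fun i => c i • m i) i₀]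
    simp only [a', sub_smul, Finset.sum_sub_distrib, smul_add, Finset.smul_sum, smul_smul]
    have : a i₀ * w * c i₀ = a i₀ := by rw [mul_assoc, hw, mul_one]
    rw [this]; abel
  let I₂ : Ideal A := Ideal.span (Set.range a')
  have hxmem : x ∈ (I₂ ⊔ maximalIdeal A • I) • (⊤ : Submodule A M) := by
    rw [hx2]
    refine Submodule.add_mem _ ?_ ?_
    · exact sum_mem_smul_top _ _ _ _
        (fun j _ => Ideal.mem_sup_left (Ideal.subset_span ⟨j, rfl⟩))
    · have h1 : (a i₀ * w) • z ∈ I • (maximalIdeal A • (⊤ : Submodule A M)) :=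
        Submodule.smul_mem_smul (I.mul_mem_right _ (ha i₀)) hz
      rw [← Submodule.mul_smul, mul_comm] at h1
      exact Submodule.smul_mono_left le_sup_right h1
  have hle : I ≤ I₂ ⊔ maximalIdeal A • I := hx.2 hxmem
  have hIspan : I = Ideal.span (Set.range a) := by
    apply le_antisymm
    · apply hx.2
      show x ∈ Ideal.span (Set.range a) • (⊤ : Submodule A M)
      rw [hxa]
      exact sum_mem_smul_top _ _ _ _ (fun i _ => Ideal.subset_span ⟨i, rfl⟩)
    · exact Ideal.span_le.2 (by rintro _ ⟨i, rfl⟩; exact ha i)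
  have hIfg : I.FG := by
    rw [hIspan]
    classical
    exact ⟨Finset.univ.image a, by simp⟩
  have hI_le : I ≤ I₂ :=
    Submodule.le_of_le_smul_of_le_jacobson_bot hIfg
      (IsLocalRing.jacobson_eq_maximalIdeal ⊥ bot_ne_top).ge hle
  have hxI₂ : x ∈ I₂ • (⊤ : Submodule A M) := Submodule.smul_mono_left hI_le hx.1
  obtain ⟨m', hm'⟩ := exists_rep_span a' x hxI₂
  exact ⟨a', m', ha', hm'⟩

lemma one_tmul_sum {n : ℕ} (c : Fin n → A) (m : Fin n → M) :
    (1 : ResidueField A) ⊗ₜ[A] (∑ i, c i • m i) =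
      ∑ i, residue A (c i) • ((1 : ResidueField A) ⊗ₜ[A] m i) := by
  rw [TensorProduct.tmul_sum]
  refine Finset.sum_congr rfl (fun i _ => ?_)
  rw [TensorProduct.smul_tmul', smul_eq_mul, mul_one, TensorProduct.tmul_smul,
    TensorProduct.smul_tmul', Algebra.smul_def, mul_one]
  rfl

lemma exists_indep_rep (x : M) (I : Ideal A)
    (hx : IsLeast {J : Ideal A | x ∈ J • (⊤ : Submodule A M)} I) :
    ∃ (n : ℕ) (a : Fin n → A) (m : Fin n → M), (∀ i, a i ∈ I) ∧ x = ∑ i, a i • m i ∧
      LinearIndependent (ResidueField A) (fun i => (1 : ResidueField A) ⊗ₜ[A] m i) := by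
  obtain ⟨n, a, m, ha, hxa⟩ := exists_rep I x hx.1
  induction n with
  | zero => exact ⟨0, a, m, ha, hxa, linearIndependent_empty_type⟩
  | succ k ih =>
    by_cases hli : LinearIndependent (ResidueField A) (fun i => (1 : ResidueField A) ⊗ₜ[A] m i)
    · exact ⟨k + 1, a, m, ha, hxa, hli⟩
    · rw [Fintype.not_linearIndependent_iff] at hli
      obtain ⟨g, hg, i₀, hi₀⟩ := hli
      choose c hc using fun i => residue_surjective (g i)
      have hunit : IsUnit (c i₀) := by
        rw [← residue_ne_zero_iff_isUnit, hc]; exact hi₀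
      have hz : ∑ i, c i • m i ∈ maximalIdeal A • (⊤ : Submodule A M) := by
        apply mem_smul_top_of_tmul_eq_zero
        have := one_tmul_sum c m
        simp only [hc] at this
        rw [hg] at this
        exact this
      obtain ⟨a', m', ha', hxa'⟩ := reduce x I hx k a m ha hxa c i₀ hunit hz
      exact ih a' m' ha' hxa'

end loc


section mat
variable {A : Type u} [CommRing A] [IsLocalRing A] {N : Type u} [AddCommGroup N] [Module A N]

open IsLocalRing Matrix

lemma coeff_mem [Module.Flat A N] (J : Ideal A) {n : ℕ} (a : Fin n → A) (v : Fin n → N)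
    (hli : LinearIndependent (ResidueField A) (fun i => (1 : ResidueField A) ⊗ₜ[A] v i))
    (h : ∑ i, a i • v i ∈ J • (⊤ : Submodule A N)) : ∀ i, a i ∈ J := by
  classical
  obtain ⟨K, c, n', hc, hrep⟩ := exists_rep J _ h
  -- the relation
  have hrel : ∑ t : Fin n ⊕ Fin K, (Sum.elim a (fun k => - c k) t) • (Sum.elim v n' t) = 0 := by
    rw [Fintype.sum_sum_type]
    simp only [Sum.elim_inl, Sum.elim_inr, neg_smul, Finset.sum_neg_distrib]
    rw [hrep, add_neg_cancel]
  obtain ⟨l, B, y, hxy, hfB⟩ := Module.Flat.isTrivialRelation_of_sum_smul_eq_zero hrel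
  -- b_j ∈ J
  have hb : ∀ j, ∑ i, a i * B (Sum.inl i) j ∈ J := by
    intro j
    have h1 := hfB j
    rw [Fintype.sum_sum_type] at h1
    simp only [Sum.elim_inl, Sum.elim_inr, neg_mul, Finset.sum_neg_distrib] at h1
    rw [add_neg_eq_zero] at h1
    rw [h1]
    exact J.sum_mem (fun k _ => J.mul_mem_right _ (hc k))
  -- residues of B
  let Bb : Matrix (Fin n) (Fin l) (ResidueField A) := fun i j => residue A (B (Sum.inl i) j)
  let T : (Fin n → ResidueField A) →ₗ[ResidueField A] (Fin l → ResidueField A) := Bb.vecMulLinear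
  have hT : Function.Injective T := by
    rw [← LinearMap.ker_eq_bot, LinearMap.ker_eq_bot']
    intro lam hlam
    have h2 : ∑ i, lam i • ((1 : ResidueField A) ⊗ₜ[A] v i) = 0 := by
      have h3 : ∀ i, (1 : ResidueField A) ⊗ₜ[A] v i =
          ∑ j, Bb i j • ((1 : ResidueField A) ⊗ₜ[A] y j) := by
        intro i
        have := hxy (Sum.inl i)
        simp only [Sum.elim_inl] at this
        rw [this]
        exact one_tmul_sum _ _
      simp only [h3, Finset.smul_sum, smul_smul]
      rw [Finset.sum_comm]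
      simp only [← Finset.sum_smul]
      refine Finset.sum_eq_zero (fun j _ => ?_)
      have h4 : ∑ i, lam i * Bb i j = 0 := by
        have := congrFun hlam j
        simpa [T, Matrix.vecMulLinear_apply, Matrix.vecMul, dotProduct] using this
      rw [h4, zero_smul]
    funext i
    exact (Fintype.linearIndependent_iff.1 hli lam h2 i)
  obtain ⟨g, hg⟩ := LinearMap.exists_leftInverse_of_injective T (LinearMap.ker_eq_bot.2 hT)
  let Cb : Matrix (Fin l) (Fin n) (ResidueField A) := fun j k => g (Pi.single j 1) k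
  have hBC : Bb * Cb = 1 := by
    ext i k
    have h5 : T (Pi.single i 1) = Bb i := by
      funext j
      simp [T, Matrix.vecMulLinear_apply, Matrix.vecMul, dotProduct, Pi.single_apply]
    have h6 : g (Bb i) = Pi.single i 1 := by
      rw [← h5]
      exact DFunLike.congr_fun hg (Pi.single i 1)
    have h7 : Bb i = ∑ j, Bb i j • (Pi.single j 1 : Fin l → ResidueField A) := by
      funext j'
      simp [Finset.sum_apply, Pi.single_apply]
    rw [Matrix.mul_apply]
    have h8 : g (Bb i) k = ∑ j, Bb i j * Cb j k := by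
      conv_lhs => rw [h7]
      rw [map_sum, Finset.sum_apply]
      refine Finset.sum_congr rfl (fun j _ => ?_)
      rw [map_smul]
      rfl
    rw [← h8, h6, Matrix.one_apply, Pi.single_apply]
    simp [eq_comm]
  choose C hC using fun j k => residue_surjective (Cb j k)
  let B' : Matrix (Fin n) (Fin l) A := fun i j => B (Sum.inl i) j
  let C' : Matrix (Fin l) (Fin n) A := fun j k => C j k
  let P : Matrix (Fin n) (Fin n) A := B' * C'
  have hPres : (residue A).mapMatrix P = 1 := by
    have : (residue A).mapMatrix P = Bb * Cb := by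
      ext i k
      simp only [RingHom.mapMatrix_apply, Matrix.map_apply, P, Matrix.mul_apply, map_sum, map_mul]
      refine Finset.sum_congr rfl (fun j _ => ?_)
      rw [show residue A (C' j k) = Cb j k from hC j k]
    rw [this, hBC]
  have hdet : IsUnit P.det := by
    rw [← residue_ne_zero_iff_isUnit, RingHom.map_det, hPres, Matrix.det_one]
    exact one_ne_zero
  -- a ᵥ* P ∈ J
  have haP : ∀ k, (a ᵥ* P) k ∈ J := by
    intro k
    have : (a ᵥ* P) k = ∑ j, (∑ i, a i * B (Sum.inl i) j) * C' j k := by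
      simp only [P, ← Matrix.vecMul_vecMul]
      simp only [Matrix.vecMul, dotProduct]
      rfl
    rw [this]
    exact J.sum_mem (fun j _ => J.mul_mem_right _ (hb j))
  intro i
  have h9 : a = (a ᵥ* P) ᵥ* P⁻¹ := by
    rw [Matrix.vecMul_vecMul, Matrix.mul_nonsing_inv P hdet, Matrix.vecMul_one]
  rw [h9]
  simp only [Matrix.vecMul, dotProduct]
  exact J.sum_mem (fun k _ => J.mul_mem_right _ (haP k))

end mat

theorem main6898 {A : Type u} [CommRing A] [IsLocalRing A] {M N : Type u}
    [AddCommGroup M] [Module A M] [Module.Flat A M] [AddCommGroup N] [Module A N] [Module.Flat A N] (u : M →ₗ[A] N)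
    (hu : Function.Injective (u.baseChange (IsLocalRing.ResidueField A))) (x : M) (I : Ideal A)
    (hx : IsLeast {J : Ideal A | x ∈ J • (⊤ : Submodule A M)} I) :
    IsLeast {J : Ideal A | u x ∈ J • (⊤ : Submodule A N)} I := by
  obtain ⟨n, a, m, ha, hxa, hli⟩ := exists_indep_rep x I hx
  have hux : u x = ∑ i, a i • u (m i) := by rw [hxa, map_sum]; simp
  have hli' : LinearIndependent (IsLocalRing.ResidueField A)
      (fun i => (1 : IsLocalRing.ResidueField A) ⊗ₜ[A] u (m i)) := by
    have := hli.map' (u.baseChange (IsLocalRing.ResidueField A)) (LinearMap.ker_eq_bot.2 hu)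
    exact this
  have hIspan : I = Ideal.span (Set.range a) := by
    apply le_antisymm
    · apply hx.2
      show x ∈ Ideal.span (Set.range a) • (⊤ : Submodule A M)
      rw [hxa]
      exact sum_mem_smul_top _ _ _ _ (fun i _ => Ideal.subset_span ⟨i, rfl⟩)
    · exact Ideal.span_le.2 (by rintro _ ⟨i, rfl⟩; exact ha i)
  constructor
  · show u x ∈ I • (⊤ : Submodule A N)
    rw [hux]
    exact sum_mem_smul_top _ _ _ _ (fun i _ => ha i)
  · intro J hJ
    have hJ' : ∑ i, a i • u (m i) ∈ J • (⊤ : Submodule A N) := by rw [← hux]; exact hJ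
    have := coeff_mem J a (fun i => u (m i)) hli' hJ'
    rw [hIspan]
    exact Ideal.span_le.2 (by rintro _ ⟨i, rfl⟩; exact this i)


end helpers

/-- Let `(A, 𝔪)` be a local ring and `u : M → N` a linear map between flat `A`-modules whose reduction
`M/𝔪M → N/𝔪N` is injective. If `I` is the content ideal of some `x ∈ M` (the least ideal `I` with `x
∈ IM`), then `I` is also the least ideal `J` with `u(x) ∈ J·N`. -/
theorem result {A : Type u} [CommRing A] [IsLocalRing A] {M N : Type u}
    [AddCommGroup M] [Module A M] [Module.Flat A M] [AddCommGroup N] [Module A N] [Module.Flat A N] (u : M →ₗ[A] N)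
    (hu : Function.Injective (u.baseChange (IsLocalRing.ResidueField A))) (x : M) (I : Ideal A)
    (hx : IsLeast {J : Ideal A | x ∈ J • (⊤ : Submodule A M)} I) :
    IsLeast {J : Ideal A | u x ∈ J • (⊤ : Submodule A N)} I := by
  exact main6898 u hu x I hx

end Groth.Agent.S6898
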