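import Groth.Statements.S6899
import Mathlib

set_option autoImplicit false
universe u
open TensorProduct
open EtAlg

namespace Groth.Agent.S6899

/-- Let `B' = B ×_A A'` be a fibre square of rings with `A' → A` surjective, and let `(N₁, M₁', φ₁) →
(N₂, M₂', φ₂)` be a morphism of glueing data (a `B`-linear `u : N₁ → N₂` and an `A'`-linear `v : M₁'
→ M₂'` compatible with the `φ_i`) with `u` and `v` surjective. Then the induced map of glued modules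
`N₁ ×_{φ₁} M₁' → N₂ ×_{φ₂} M₂'` is surjective. -/
theorem result (B' B A' A : Type u) [CommRing B'] [CommRing B] [CommRing A'] [CommRing A]
    [Algebra B' B] [Algebra B' A'] [Algebra B A] [Algebra A' A] [Algebra B' A] [IsScalarTower B' B A] [IsScalarTower B' A' A]
    (hsq : EtMil.IsFibreSquare B' B A' A)
    {N₁ N₂ M₁' M₂' : Type u} [AddCommGroup N₁] [Module B N₁] [Module B' N₁] [IsScalarTower B' B N₁]
    [AddCommGroup N₂] [Module B N₂] [Module B' N₂] [IsScalarTower B' B N₂]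
    [AddCommGroup M₁'] [Module A' M₁'] [Module B' M₁'] [IsScalarTower B' A' M₁']
    [AddCommGroup M₂'] [Module A' M₂'] [Module B' M₂'] [IsScalarTower B' A' M₂']
    (φ₁ : A ⊗[B] N₁ ≃ₗ[A] A ⊗[A'] M₁') (φ₂ : A ⊗[B] N₂ ≃ₗ[A] A ⊗[A'] M₂') (u : N₁ →ₗ[B] N₂) (v : M₁' →ₗ[A'] M₂')
    (hc : (v.baseChange A).comp φ₁.toLinearMap = φ₂.toLinearMap.comp (u.baseChange A))
    (hu : Function.Surjective u) (hv : Function.Surjective v) :
    ∀ y : N₂ × M₂', y ∈ EtMil.glue B' φ₂ → ∃ x : N₁ × M₁', x ∈ EtMil.glue B' φ₁ ∧ u x.1 = y.1 ∧ v x.2 = y.2 := by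
  obtain ⟨hsurj, hfib⟩ := hsq
  intro y hy
  obtain ⟨n₁, hn₁⟩ := hu y.1
  obtain ⟨m₁, hm₁⟩ := hv y.2
  have hy' : φ₂ ((1 : A) ⊗ₜ[B] y.1) = (1 : A) ⊗ₜ[A'] y.2 := hy
  have hd : (v.baseChange A) (φ₁ ((1 : A) ⊗ₜ[B] n₁) - (1 : A) ⊗ₜ[A'] m₁) = 0 := by
    have h1 := congrArg (fun h => h ((1 : A) ⊗ₜ[B] n₁)) hc
    simp only [LinearMap.comp_apply, LinearEquiv.coe_coe, LinearMap.baseChange_tmul] at h1
    rw [map_sub, h1, LinearMap.baseChange_tmul, hn₁, hm₁, hy', sub_self]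
  have hd' : (LinearMap.lTensor A v) (φ₁ ((1 : A) ⊗ₜ[B] n₁) - (1 : A) ⊗ₜ[A'] m₁) = 0 := by
    rw [← hd]
    rfl
  obtain ⟨z, hz⟩ := (lTensor_exact A (LinearMap.exact_subtype_ker_map v) hv _).1 hd'
  have hK : ∀ z : A ⊗[A'] (LinearMap.ker v), ∃ k : M₁', v k = 0 ∧
      (LinearMap.lTensor A (LinearMap.ker v).subtype) z = (1 : A) ⊗ₜ[A'] k := by
    intro z
    induction z using TensorProduct.induction_on with
    | zero => exact ⟨0, by simp, by simp⟩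
    | tmul a k =>
      obtain ⟨a', rfl⟩ := hsurj a
      refine ⟨a' • k.1, ?_, ?_⟩
      · rw [map_smul, (LinearMap.mem_ker.1 k.2), smul_zero]
      · rw [LinearMap.lTensor_tmul, Submodule.subtype_apply, ← TensorProduct.smul_tmul,
          Algebra.smul_def, mul_one]
    | add z₁ z₂ h₁ h₂ =>
      obtain ⟨k₁, h₁a, h₁b⟩ := h₁
      obtain ⟨k₂, h₂a, h₂b⟩ := h₂
      refine ⟨k₁ + k₂, ?_, ?_⟩
      · rw [map_add, h₁a, h₂a, add_zero]
      · rw [map_add, h₁b, h₂b, TensorProduct.tmul_add]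
  obtain ⟨k, hk1, hk2⟩ := hK z
  refine ⟨(n₁, m₁ + k), ?_, hn₁, ?_⟩
  · show φ₁ ((1 : A) ⊗ₜ[B] n₁) = (1 : A) ⊗ₜ[A'] (m₁ + k)
    rw [TensorProduct.tmul_add, ← hk2, hz]
    abel
  · show v (m₁ + k) = y.2
    rw [map_add, hk1, add_zero, hm₁]

end Groth.Agent.S6899
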