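import Groth.Statements.S6902
import Groth.Agent.Lib.Helper5.KFlat3

set_option autoImplicit false
universe u
open CategoryTheory CategoryTheory.Limits MonoidalCategory
open DRing

namespace Groth.Agent.S6902

/-- Let `0 → K₁• → K₂• → K₃• → 0` be a short exact sequence of complexes of `R`-modules such that every
term `K₃^n` is flat. If two out of the three complexes are K-flat, so is the third. -/
theorem result (R : Type u) [CommRing R] (S : ShortComplex (DRing.Cx R))
    (hS : S.ShortExact) (h3 : DRing.TermwiseFlat S.X₃) :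
    (((∀ L : DRing.Cx R, (∀ i : ℤ, IsZero (L.homology i)) → ∀ i : ℤ, IsZero ((L ⊗ S.X₁).homology i))) → ((∀ L : DRing.Cx R, (∀ i : ℤ, IsZero (L.homology i)) → ∀ i : ℤ, IsZero ((L ⊗ S.X₂).homology i))) → (∀ L : DRing.Cx R, (∀ i : ℤ, IsZero (L.homology i)) → ∀ i : ℤ, IsZero ((L ⊗ S.X₃).homology i))) ∧
    (((∀ L : DRing.Cx R, (∀ i : ℤ, IsZero (L.homology i)) → ∀ i : ℤ, IsZero ((L ⊗ S.X₁).homology i))) → ((∀ L : DRing.Cx R, (∀ i : ℤ, IsZero (L.homology i)) → ∀ i : ℤ, IsZero ((L ⊗ S.X₃).homology i))) → (∀ L : DRing.Cx R, (∀ i : ℤ, IsZero (L.homology i)) → ∀ i : ℤ, IsZero ((L ⊗ S.X₂).homology i))) ∧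
    (((∀ L : DRing.Cx R, (∀ i : ℤ, IsZero (L.homology i)) → ∀ i : ℤ, IsZero ((L ⊗ S.X₂).homology i))) → ((∀ L : DRing.Cx R, (∀ i : ℤ, IsZero (L.homology i)) → ∀ i : ℤ, IsZero ((L ⊗ S.X₃).homology i))) → (∀ L : DRing.Cx R, (∀ i : ℤ, IsZero (L.homology i)) → ∀ i : ℤ, IsZero ((L ⊗ S.X₁).homology i))) := by

  have key : ∀ L : DRing.Cx R, (Groth.Agent.Helper5.KF.tensorSC L S).ShortExact := by
    intro L
    have hdeg := (HomologicalComplex.shortExact_iff_degreewise_shortExact S).mp hS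
    have hinjq : ∀ q : ℤ, Function.Injective (S.f.f q) := fun q => (hdeg q).moduleCat_injective_f
    have hsurjq : ∀ q : ℤ, Function.Surjective (S.g.f q) := fun q => (hdeg q).moduleCat_surjective_g
    have hexq : ∀ q : ℤ, Function.Exact (S.f.f q) (S.g.f q) := fun q =>
      (ShortComplex.ShortExact.moduleCat_exact_iff_function_exact _).mp (hdeg q).exact
    apply Groth.Agent.Helper5.KF.shortExact_tensorSC
    · intro p q
      haveI := h3 q
      exact LinearMap.lTensor_injective_of_exact_of_flat (S.g.f q).hom (hsurjq q) (S.f.f q).hom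
        (hinjq q) (hexq q) (L.X p)
    · intro p q
      exact LinearMap.lTensor_surjective (L.X p) (hsurjq q)
    · intro p q
      exact lTensor_exact (L.X p) (hexq q) (hsurjq q)
  refine ⟨fun h1 h2 L hL => ?_, fun h1 h3' L hL => ?_, fun h2 h3' L hL => ?_⟩
  · exact (Groth.Agent.Helper5.KF.acyclic_of_shortExact _ (key L)).1 (h1 L hL) (h2 L hL)
  · exact (Groth.Agent.Helper5.KF.acyclic_of_shortExact _ (key L)).2.1 (h1 L hL) (h3' L hL)
  · exact (Groth.Agent.Helper5.KF.acyclic_of_shortExact _ (key L)).2.2 (h2 L hL) (h3' L hL)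

end Groth.Agent.S6902
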