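import Groth.Statements.S6904
import Groth.Agent.Lib.Helper5.KFlat9

set_option autoImplicit false
universe u
open CategoryTheory CategoryTheory.Limits MonoidalCategory
open DRing

namespace Groth.Agent.S6904

/-- Let `K•` be a complex of `R`-modules such that `K• ⊗_R M` is acyclic for every finitely presented
`R`-module `M`. Then `K•` is K-flat. -/
theorem result (R : Type u) [CommRing R] (K : DRing.Cx R)
    (hK : ∀ (M : Type u) [AddCommGroup M] [Module R M], Module.FinitePresentation R M →
      (∀ i : ℤ, IsZero ((DRing.tensorCx K (ModuleCat.of R M)).homology i))) :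
    (∀ L : DRing.Cx R, (∀ i : ℤ, IsZero (L.homology i)) → ∀ i : ℤ, IsZero ((L ⊗ K).homology i)) := by
  intro L _ i
  exact (HomologicalComplex.exactAt_iff_isZero_homology _ _).mp
    (Groth.Agent.Helper5.KF.exactAt_tensor_of_modAcyclic
      (Groth.Agent.Helper5.KF.modAcyclic_of_tensorCx K hK) L i)

end Groth.Agent.S6904
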