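import Groth.Statements.S6908
import Groth.Agent.Lib.Helper5.KFlat15

set_option autoImplicit false
universe u
open CategoryTheory CategoryTheory.Limits MonoidalCategory
open DRing

namespace Groth.Agent.S6908

/-- For a morphism `a : K• → L•` of complexes of `R`-modules with `K•` K-flat, there are a K-flat
complex `N•`, maps `b : K• → N•` and `c : N• → L•` with `c` a quasi-isomorphism and `a` homotopic to
`c ∘ b`; if the terms of `K•` are flat, `N•` may be chosen with flat terms as well. -/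
theorem result (R : Type u) [CommRing R] (K L : DRing.Cx R) (a : K ⟶ L)
    (hK : (∀ L : DRing.Cx R, (∀ i : ℤ, IsZero (L.homology i)) → ∀ i : ℤ, IsZero ((L ⊗ K).homology i))) :
    (∃ (N : DRing.Cx R) (b : K ⟶ N) (c : N ⟶ L), (∀ L : DRing.Cx R, (∀ i : ℤ, IsZero (L.homology i)) → ∀ i : ℤ, IsZero ((L ⊗ N).homology i)) ∧
      QuasiIso c ∧ Nonempty (Homotopy a (b ≫ c))) ∧
    (DRing.TermwiseFlat K → ∃ (N : DRing.Cx R) (b : K ⟶ N) (c : N ⟶ L), (∀ L : DRing.Cx R, (∀ i : ℤ, IsZero (L.homology i)) → ∀ i : ℤ, IsZero ((L ⊗ N).homology i)) ∧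
      DRing.TermwiseFlat N ∧ QuasiIso c ∧ Nonempty (Homotopy a (b ≫ c))) := by
  have key : ∀ (_ : True), ∃ (N : DRing.Cx R) (b : K ⟶ N) (c : N ⟶ L),
      (∀ L : DRing.Cx R, (∀ i : ℤ, IsZero (L.homology i)) → ∀ i : ℤ, IsZero ((L ⊗ N).homology i)) ∧
      (DRing.TermwiseFlat K → DRing.TermwiseFlat N) ∧ QuasiIso c ∧
      Nonempty (Homotopy a (b ≫ c)) := by
    intro _
    let s₀ : Groth.Agent.Helper5.KF.Stage L := ⟨K, a⟩
    refine ⟨Groth.Agent.Helper5.KF.Rel.resK L s₀,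
      CategoryTheory.Limits.colimit.ι (Groth.Agent.Helper5.KF.Rel.resF L s₀) 0,
      Groth.Agent.Helper5.KF.Rel.resf L s₀,
      Groth.Agent.Helper5.KF.Rel.resK_KFl L s₀ hK,
      fun h => Groth.Agent.Helper5.KF.Rel.resK_flat L s₀ h,
      Groth.Agent.Helper5.KF.Rel.resf_quasiIso L s₀, ⟨Homotopy.ofEq ?_⟩⟩
    exact (Groth.Agent.Helper5.KF.Rel.ι_resf L s₀ 0).symm
  obtain ⟨N, b, c, h1, h2, h3, h4⟩ := key trivial
  exact ⟨⟨N, b, c, h1, h3, h4⟩, fun hfl => ⟨N, b, c, h1, h2 hfl, h3, h4⟩⟩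

end Groth.Agent.S6908
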