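import Groth.Statements.S6909
import Mathlib

set_option autoImplicit false
universe u
open CAlg

namespace Groth.Agent.S6909

section
variable {A : Type u} [CommRing A] (I : Ideal A)
  {L M N : Type u} [AddCommGroup L] [Module A L] [AddCommGroup M] [Module A M] [AddCommGroup N] [Module A N]

theorem map_pow_smul (h : M →ₗ[A] N) (j : ℕ) (hh : ∀ x, h x ∈ I ^ j • (⊤ : Submodule A N)) (k : ℕ)
    (x : M) (hx : x ∈ I ^ k • (⊤ : Submodule A M)) : h x ∈ I ^ (k + j) • (⊤ : Submodule A N) := by
  have h1 : h x ∈ (I ^ k • (⊤ : Submodule A M)).map h := Submodule.mem_map_of_mem hx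
  rw [Submodule.map_smul''] at h1
  have h2 : (⊤ : Submodule A M).map h ≤ I ^ j • (⊤ : Submodule A N) := by
    rintro _ ⟨y, _, rfl⟩
    exact hh y
  have h3 : I ^ k • (⊤ : Submodule A M).map h ≤ I ^ k • (I ^ j • (⊤ : Submodule A N)) :=
    Submodule.smul_mono le_rfl h2
  have h4 := h3 h1
  rwa [← Submodule.mul_smul, ← pow_add] at h4

theorem pow_smul_anti {k k' : ℕ} (h : k ≤ k') : I ^ k' • (⊤ : Submodule A M) ≤ I ^ k • (⊤ : Submodule A M) :=
  Submodule.smul_mono_left (Ideal.pow_le_pow_right h)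

theorem step (f f' : L →ₗ[A] M) (g g' : M →ₗ[A] N) (c : ℕ)
    (hf : (∀ n : ℕ, c ≤ n → LinearMap.range f ⊓ (I ^ n • (⊤ : Submodule A M)) ≤ Submodule.map f (I ^ (n - c) • (⊤ : Submodule A L))))
    (hg : (∀ n : ℕ, c ≤ n → LinearMap.range g ⊓ (I ^ n • (⊤ : Submodule A N)) ≤ Submodule.map g (I ^ (n - c) • (⊤ : Submodule A M))))
    (hex : Function.Exact f g)
    (hff' : ∀ x : L, f x - f' x ∈ I ^ (c + 1) • (⊤ : Submodule A M))
    (hgg' : ∀ y : M, g y - g' y ∈ I ^ (c + 1) • (⊤ : Submodule A N))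
    (k : ℕ) (x : M) (hx : x ∈ I ^ k • (⊤ : Submodule A M))
    (hgx : g' x ∈ I ^ (k + c + 1) • (⊤ : Submodule A N)) :
    ∃ (l : L) (x' : M), x' ∈ I ^ (k + 1) • (⊤ : Submodule A M) ∧ x = f' l + x' := by
  have h1 : (g - g') x ∈ I ^ (k + (c + 1)) • (⊤ : Submodule A N) :=
    map_pow_smul I (g - g') (c + 1) (fun y => by simpa using hgg' y) k x hx
  have h2 : g x ∈ I ^ (k + c + 1) • (⊤ : Submodule A N) := by
    have : g x = g' x + (g - g') x := by simp
    rw [this]
    exact Submodule.add_mem _ hgx (by rwa [← add_assoc] at h1)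
  have h3 : g x ∈ Submodule.map g (I ^ (k + c + 1 - c) • (⊤ : Submodule A M)) :=
    hg (k + c + 1) (by omega) ⟨⟨x, rfl⟩, h2⟩
  have hk1 : k + c + 1 - c = k + 1 := by omega
  rw [hk1] at h3
  obtain ⟨y, hy, hgy⟩ := h3
  have h4 : x - y ∈ LinearMap.range f := by
    rw [← LinearMap.exact_iff.1 hex, LinearMap.mem_ker, map_sub, hgy, sub_self]
  have h5 : x - y ∈ I ^ k • (⊤ : Submodule A M) :=
    Submodule.sub_mem _ hx (pow_smul_anti I (Nat.le_succ k) hy)
  obtain ⟨l, hl, hfl⟩ : ∃ l : L, l ∈ I ^ (k - c) • (⊤ : Submodule A L) ∧ f l = x - y := by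
    by_cases hck : c ≤ k
    · obtain ⟨l, hl, hfl⟩ := hf k hck ⟨h4, h5⟩
      exact ⟨l, hl, hfl⟩
    · obtain ⟨l, hfl⟩ := h4
      refine ⟨l, ?_, hfl⟩
      have : k - c = 0 := by omega
      rw [this, pow_zero, Ideal.one_eq_top, Submodule.top_smul]
      trivial
  have h6 : (f - f') l ∈ I ^ (k - c + (c + 1)) • (⊤ : Submodule A M) :=
    map_pow_smul I (f - f') (c + 1) (fun y => by simpa using hff' y) (k - c) l hl
  have h7 : (f - f') l ∈ I ^ (k + 1) • (⊤ : Submodule A M) :=
    pow_smul_anti I (by omega) h6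
  refine ⟨l, y + (f - f') l, Submodule.add_mem _ hy h7, ?_⟩
  have : f l = x - y := hfl
  simp only [LinearMap.sub_apply]
  rw [this]
  abel

end

/-- Let `A` be a Noetherian ring, `I ⊆ A` an ideal inside the Jacobson radical, and `L → M → N` two
complexes `(f, g)` and `(f', g')` of finite `A`-modules with `f' ≡ f` modulo `I^{c+1}M` and `g' ≡ g`
modulo `I^{c+1}N`. If `c` works in the Artin–Rees lemma for `f` and for `g` (that is `f(L) ∩ IⁿM ⊆
f(I^{n-c}L)` for `n ≥ c`, and likewise for `g`) and `(f, g)` is exact, then `c` works for `g'` and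
`(f', g')` is exact. -/
theorem result {A : Type u} [CommRing A] [IsNoetherianRing A] (I : Ideal A)
    (hI : I ≤ Ideal.jacobson (⊥ : Ideal A)) {L M N : Type u} [AddCommGroup L] [Module A L] [Module.Finite A L]
    [AddCommGroup M] [Module A M] [Module.Finite A M] [AddCommGroup N] [Module A N] [Module.Finite A N]
    (f f' : L →ₗ[A] M) (g g' : M →ₗ[A] N) (c : ℕ) (hgf : g.comp f = 0) (hgf' : g'.comp f' = 0)
    (hf : (∀ n : ℕ, c ≤ n → LinearMap.range f ⊓ (I ^ n • (⊤ : Submodule A M)) ≤ Submodule.map f (I ^ (n - c) • (⊤ : Submodule A L))))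
    (hg : (∀ n : ℕ, c ≤ n → LinearMap.range g ⊓ (I ^ n • (⊤ : Submodule A N)) ≤ Submodule.map g (I ^ (n - c) • (⊤ : Submodule A M))))
    (hex : Function.Exact f g)
    (hff' : ∀ x : L, f x - f' x ∈ I ^ (c + 1) • (⊤ : Submodule A M))
    (hgg' : ∀ y : M, g y - g' y ∈ I ^ (c + 1) • (⊤ : Submodule A N)) :
    (∀ n : ℕ, c ≤ n → LinearMap.range g' ⊓ (I ^ n • (⊤ : Submodule A N)) ≤ Submodule.map g' (I ^ (n - c) • (⊤ : Submodule A M))) ∧
    Function.Exact f' g' := by
  have hg'f' : ∀ l, g' (f' l) = 0 := fun l => by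
    have := congrArg (fun h => h l) hgf'
    simpa using this
  constructor
  · intro n hn y hy
    obtain ⟨⟨x, rfl⟩, hyn⟩ := hy
    have key : ∀ k, k ≤ n - c → ∃ xk ∈ I ^ k • (⊤ : Submodule A M), g' xk = g' x := by
      intro k
      induction k with
      | zero =>
        intro _
        refine ⟨x, ?_, rfl⟩
        rw [pow_zero, Ideal.one_eq_top, Submodule.top_smul]
        trivial
      | succ k ih =>
        intro hk
        obtain ⟨xk, hxk, hgxk⟩ := ih (by omega)
        have h1 : g' xk ∈ I ^ (k + c + 1) • (⊤ : Submodule A N) := by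
          rw [hgxk]
          exact pow_smul_anti I (by omega) hyn
        obtain ⟨l, x', hx', hxx'⟩ := step I f f' g g' c hf hg hex hff' hgg' k xk hxk h1
        refine ⟨x', hx', ?_⟩
        rw [← hgxk, hxx', map_add, hg'f', zero_add]
    obtain ⟨xk, hxk, hgxk⟩ := key (n - c) le_rfl
    exact ⟨xk, hxk, hgxk⟩
  · rw [LinearMap.exact_iff]
    apply le_antisymm
    · intro x hx
      rw [LinearMap.mem_ker] at hx
      have key : ∀ k, ∃ l : L, x - f' l ∈ I ^ k • (⊤ : Submodule A M) := by
        intro k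
        induction k with
        | zero =>
          refine ⟨0, ?_⟩
          rw [pow_zero, Ideal.one_eq_top, Submodule.top_smul]
          trivial
        | succ k ih =>
          obtain ⟨l, hl⟩ := ih
          have h1 : g' (x - f' l) ∈ I ^ (k + c + 1) • (⊤ : Submodule A N) := by
            rw [map_sub, hx, hg'f', sub_zero]
            exact Submodule.zero_mem _
          obtain ⟨l', x', hx', hxx'⟩ := step I f f' g g' c hf hg hex hff' hgg' k (x - f' l) hl h1
          refine ⟨l + l', ?_⟩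
          have : x - f' (l + l') = x' := by
            rw [map_add, ← sub_sub, hxx']
            abel
          rw [this]
          exact hx'
      let Q := M ⧸ LinearMap.range f'
      have hQ : (LinearMap.range f').mkQ x ∈ (⨅ i : ℕ, I ^ i • ⊤ : Submodule A Q) := by
        rw [Submodule.mem_iInf]
        intro k
        obtain ⟨l, hl⟩ := key k
        have h1 : (LinearMap.range f').mkQ x = (LinearMap.range f').mkQ (x - f' l) := by
          rw [map_sub]
          have : (LinearMap.range f').mkQ (f' l) = 0 := by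
            rw [Submodule.mkQ_apply, Submodule.Quotient.mk_eq_zero]
            exact ⟨l, rfl⟩
          rw [this, sub_zero]
        rw [h1]
        have h2 : (LinearMap.range f').mkQ (x - f' l) ∈ (I ^ k • (⊤ : Submodule A M)).map (LinearMap.range f').mkQ :=
          Submodule.mem_map_of_mem hl
        rw [Submodule.map_smul''] at h2
        exact Submodule.smul_mono le_rfl le_top h2
      rw [Ideal.iInf_pow_smul_eq_bot_of_le_jacobson I hI, Submodule.mem_bot, Submodule.mkQ_apply,
        Submodule.Quotient.mk_eq_zero] at hQ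
      exact hQ
    · rintro _ ⟨l, rfl⟩
      exact hg'f' l

end Groth.Agent.S6909
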