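import Groth.Statements.S6910
import Groth.Agent.S6909

set_option autoImplicit false
universe u
open CAlg

namespace Groth.Agent.S6910

section
variable {A : Type u} [CommRing A] (I : Ideal A)
  {M N : Type u} [AddCommGroup M] [Module A M] [AddCommGroup N] [Module A N]

theorem half (g g' : M →ₗ[A] N) (c : ℕ)
    (hg : (∀ n : ℕ, c ≤ n → LinearMap.range g ⊓ (I ^ n • (⊤ : Submodule A N)) ≤ Submodule.map g (I ^ (n - c) • (⊤ : Submodule A M))))
    (hgg' : ∀ y : M, g y - g' y ∈ I ^ (c + 1) • (⊤ : Submodule A N)) (n : ℕ) :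
    LinearMap.range g ⊓ I ^ n • (⊤ : Submodule A N) ≤
      I ^ (n + 1) • (⊤ : Submodule A N) ⊔ (LinearMap.range g' ⊓ I ^ n • (⊤ : Submodule A N)) := by
  intro y hy
  obtain ⟨x, hx, hgx⟩ : ∃ x : M, x ∈ I ^ (n - c) • (⊤ : Submodule A M) ∧ g x = y := by
    by_cases hcn : c ≤ n
    · obtain ⟨x, hx, hgx⟩ := hg n hcn hy
      exact ⟨x, hx, hgx⟩
    · obtain ⟨⟨x, hgx⟩, _⟩ := hy
      refine ⟨x, ?_, hgx⟩
      have : n - c = 0 := by omega
      rw [this, pow_zero, Ideal.one_eq_top, Submodule.top_smul]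
      trivial
  have h1 : (g - g') x ∈ I ^ (n - c + (c + 1)) • (⊤ : Submodule A N) :=
    S6909.map_pow_smul I (g - g') (c + 1) (fun y => by simpa using hgg' y) (n - c) x hx
  have h2 : (g - g') x ∈ I ^ (n + 1) • (⊤ : Submodule A N) :=
    S6909.pow_smul_anti I (by omega) h1
  have h3 : y = (g - g') x + g' x := by rw [← hgx]; simp
  rw [h3]
  refine Submodule.add_mem_sup h2 ⟨⟨x, rfl⟩, ?_⟩
  have h4 : g' x = y - (g - g') x := by rw [h3]; abel
  rw [h4]
  exact Submodule.sub_mem _ hy.2 (S6909.pow_smul_anti I (Nat.le_succ n) h2)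

end

/-- Let `A` be a Noetherian ring, `I ⊆ A` an ideal inside the Jacobson radical, and `L → M → N` two
complexes `(f, g)` and `(f', g')` of finite `A`-modules with `f' ≡ f` modulo `I^{c+1}M` and `g' ≡ g`
modulo `I^{c+1}N`, such that the Artin–Rees bound holds with constant `c` for both `f` and `g`, and
`(f, g)` is exact. Then for every `n` the submodules `I^{n+1}N + g(M) ∩ IⁿN` and `I^{n+1}N + g'(M) ∩
IⁿN` of `N` are equal; consequently the associated graded modules of `Coker g` and `Coker g'` with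
respect to `I` coincide degreewise as subquotients of `N`. -/
theorem result {A : Type u} [CommRing A] [IsNoetherianRing A] (I : Ideal A)
    (hI : I ≤ Ideal.jacobson (⊥ : Ideal A)) {L M N : Type u} [AddCommGroup L] [Module A L] [Module.Finite A L]
    [AddCommGroup M] [Module A M] [Module.Finite A M] [AddCommGroup N] [Module A N] [Module.Finite A N]
    (f f' : L →ₗ[A] M) (g g' : M →ₗ[A] N) (c : ℕ) (hgf : g.comp f = 0) (hgf' : g'.comp f' = 0)
    (hf : (∀ n : ℕ, c ≤ n → LinearMap.range f ⊓ (I ^ n • (⊤ : Submodule A M)) ≤ Submodule.map f (I ^ (n - c) • (⊤ : Submodule A L))))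
    (hg : (∀ n : ℕ, c ≤ n → LinearMap.range g ⊓ (I ^ n • (⊤ : Submodule A N)) ≤ Submodule.map g (I ^ (n - c) • (⊤ : Submodule A M))))
    (hex : Function.Exact f g)
    (hff' : ∀ x : L, f x - f' x ∈ I ^ (c + 1) • (⊤ : Submodule A M))
    (hgg' : ∀ y : M, g y - g' y ∈ I ^ (c + 1) • (⊤ : Submodule A N)) (n : ℕ) :
    I ^ (n + 1) • (⊤ : Submodule A N) ⊔ (LinearMap.range g ⊓ I ^ n • (⊤ : Submodule A N)) =
      I ^ (n + 1) • (⊤ : Submodule A N) ⊔ (LinearMap.range g' ⊓ I ^ n • (⊤ : Submodule A N)) := by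
  have hg' := (S6909.result I hI f f' g g' c hgf hgf' hf hg hex hff' hgg').1
  have hg'g : ∀ y : M, g' y - g y ∈ I ^ (c + 1) • (⊤ : Submodule A N) := by
    intro y
    have := Submodule.neg_mem _ (hgg' y)
    rwa [neg_sub] at this
  apply le_antisymm
  · exact sup_le le_sup_left (half I g g' c hg hgg' n)
  · exact sup_le le_sup_left (half I g' g c hg' hg'g n)

end Groth.Agent.S6910
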