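import Groth.Statements.S6911
import Mathlib

set_option autoImplicit false
universe u
open TensorProduct
open CAlg

namespace Groth.Agent.S6911

section helpers

variable {A : Type*} [CommRing A] (B : Type*) [CommRing B] [Algebra A B]
variable {M N : Type*} [AddCommGroup M] [Module A M] [AddCommGroup N] [Module A N]

lemma range_baseChange (f : M →ₗ[A] N) :
    LinearMap.range (f.baseChange B) = (LinearMap.range f).baseChange B := by
  unfold Submodule.baseChange
  have h1 : f = (LinearMap.range f).subtype ∘ₗ f.rangeRestrict := rfl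
  conv_lhs => rw [h1, LinearMap.baseChange_comp]
  rw [LinearMap.range_comp_of_range_eq_top]
  rw [LinearMap.range_eq_top]
  exact LinearMap.lTensor_surjective B (LinearMap.surjective_rangeRestrict f)

lemma ker_mkQ_baseChange (P : Submodule A N) :
    LinearMap.ker (P.mkQ.baseChange B) = P.baseChange B := by
  unfold Submodule.baseChange
  have hex : Function.Exact P.subtype P.mkQ := by
    rw [LinearMap.exact_iff]; simp
  have := lTensor_exact B hex P.mkQ_surjective
  rw [LinearMap.exact_iff] at this
  ext x
  rw [LinearMap.mem_ker, LinearMap.mem_range]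
  have h2 : x ∈ LinearMap.ker (LinearMap.lTensor B P.mkQ) ↔ x ∈ LinearMap.range (LinearMap.lTensor B P.subtype) := by
    rw [this]
  exact h2

lemma baseChange_inf [Module.Flat A B] (P Q : Submodule A N) :
    (P ⊓ Q).baseChange B = P.baseChange B ⊓ Q.baseChange B := by
  apply le_antisymm
  · exact le_inf (Submodule.baseChange_mono B inf_le_left) (Submodule.baseChange_mono B inf_le_right)
  · rintro x ⟨hxP, hxQ⟩
    obtain ⟨y, rfl⟩ := hxQ
    rw [SetLike.mem_coe, ← ker_mkQ_baseChange, LinearMap.mem_ker, ← LinearMap.comp_apply,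
      ← LinearMap.baseChange_comp] at hxP
    have h1 := Module.Flat.ker_lTensor_eq B B (P.mkQ ∘ₗ Q.subtype)
    have h2 : y ∈ LinearMap.ker (AlgebraTensorModule.lTensor B B (P.mkQ ∘ₗ Q.subtype)) := hxP
    rw [h1] at h2
    obtain ⟨z, rfl⟩ := h2
    clear hxP h1
    induction z using TensorProduct.induction_on with
    | zero => simp
    | tmul b k =>
      have hk : ((k : Q) : N) ∈ P ⊓ Q := by
        refine ⟨?_, (k : Q).2⟩
        have := k.2
        rw [LinearMap.mem_ker, LinearMap.comp_apply, Submodule.mkQ_apply,
          Submodule.Quotient.mk_eq_zero] at this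
        exact this
      exact Submodule.tmul_mem_baseChange_of_mem b hk
    | add z w hz hw =>
      rw [map_add, map_add]
      exact Submodule.add_mem _ hz hw

lemma baseChange_smul (I : Ideal A) (P : Submodule A N) :
    (I • P).baseChange B = I.map (algebraMap A B) • P.baseChange B := by
  apply le_antisymm
  · rw [Submodule.baseChange_eq_span, Submodule.span_le]
    rintro _ ⟨n, hn, rfl⟩
    refine Submodule.smul_induction_on hn ?_ ?_
    · intro r hr n hn
      have : (TensorProduct.mk A B N 1) (r • n) = algebraMap A B r • ((1 : B) ⊗ₜ[A] n) := by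
        simp only [TensorProduct.mk_apply, TensorProduct.tmul_smul]
        rw [TensorProduct.smul_tmul', TensorProduct.smul_tmul', Algebra.smul_def, smul_eq_mul]
      rw [this]
      exact Submodule.smul_mem_smul (Ideal.mem_map_of_mem _ hr)
        (Submodule.tmul_mem_baseChange_of_mem 1 hn)
    · intro x y hx hy
      rw [map_add]
      exact Submodule.add_mem _ hx hy
  · rw [Submodule.smul_le]
    intro s hs y hy
    rw [Ideal.map] at hs
    induction hs using Submodule.span_induction with
    | mem s hs =>
      obtain ⟨r, hr, rfl⟩ := hs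
      obtain ⟨z, rfl⟩ := hy
      induction z using TensorProduct.induction_on with
      | zero => simp
      | tmul b k =>
        have : algebraMap A B r • (LinearMap.baseChange B P.subtype) (b ⊗ₜ[A] k) =
            b ⊗ₜ[A] (r • (k : N)) := by
          rw [LinearMap.baseChange_tmul, TensorProduct.smul_tmul', TensorProduct.tmul_smul,
            TensorProduct.smul_tmul', smul_eq_mul, Submodule.subtype_apply, Algebra.smul_def]
        rw [this]
        exact Submodule.tmul_mem_baseChange_of_mem b (Submodule.smul_mem_smul hr k.2)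
      | add z w hz hw =>
        rw [map_add, smul_add]
        exact Submodule.add_mem _ hz hw
    | zero => rw [zero_smul]; exact Submodule.zero_mem _
    | add s t _ _ hs ht => rw [add_smul]; exact Submodule.add_mem _ hs ht
    | smul b s _ hs => rw [smul_eq_mul, mul_smul]; exact Submodule.smul_mem _ _ hs

theorem main [Module.Flat A B] (I : Ideal A) (f : M →ₗ[A] N) (c : ℕ)
    (hf : (∀ n : ℕ, c ≤ n → LinearMap.range f ⊓ (I ^ n • (⊤ : Submodule A N)) ≤ Submodule.map f (I ^ (n - c) • (⊤ : Submodule A M)))) :
    ∀ n : ℕ, c ≤ n →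
      LinearMap.range (f.baseChange B) ⊓ ((I.map (algebraMap A B)) ^ n • (⊤ : Submodule B (B ⊗[A] N))) ≤
        Submodule.map (f.baseChange B) ((I.map (algebraMap A B)) ^ (n - c) • (⊤ : Submodule B (B ⊗[A] M))) := by
  intro n hn
  have h1 : (I.map (algebraMap A B)) ^ n • (⊤ : Submodule B (B ⊗[A] N)) =
      (I ^ n • (⊤ : Submodule A N)).baseChange B := by
    rw [baseChange_smul, Submodule.baseChange_top, Ideal.map_pow]
  have h2 : Submodule.map (f.baseChange B) ((I.map (algebraMap A B)) ^ (n - c) • (⊤ : Submodule B (B ⊗[A] M))) =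
      (Submodule.map f (I ^ (n - c) • (⊤ : Submodule A M))).baseChange B := by
    rw [Submodule.map_smul'', Submodule.map_smul'', Submodule.map_top, Submodule.map_top,
      baseChange_smul, range_baseChange, Ideal.map_pow]
  rw [h1, h2, range_baseChange, ← baseChange_inf]
  exact Submodule.baseChange_mono B (hf n hn)

end helpers

/-- Let `A → B` be a flat map of Noetherian rings, `I ⊆ A` an ideal and `f : M → N` a map of finite
`A`-modules such that `c` works for `f` in the Artin–Rees lemma (`f(M) ∩ IⁿN ⊆ f(I^{n-c}M)` for `n ≥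
c`). Then `c` works for `f ⊗ 1 : M ⊗_A B → N ⊗_A B` and the ideal `IB`. -/
theorem result {A B : Type u} [CommRing A] [IsNoetherianRing A] [CommRing B]
    [IsNoetherianRing B] [Algebra A B] [Module.Flat A B] (I : Ideal A) {M N : Type u} [AddCommGroup M] [Module A M]
    [Module.Finite A M] [AddCommGroup N] [Module A N] [Module.Finite A N] (f : M →ₗ[A] N) (c : ℕ)
    (hf : (∀ n : ℕ, c ≤ n → LinearMap.range f ⊓ (I ^ n • (⊤ : Submodule A N)) ≤ Submodule.map f (I ^ (n - c) • (⊤ : Submodule A M)))) :
    ∀ n : ℕ, c ≤ n →
      LinearMap.range (f.baseChange B) ⊓ ((I.map (algebraMap A B)) ^ n • (⊤ : Submodule B (B ⊗[A] N))) ≤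
        Submodule.map (f.baseChange B) ((I.map (algebraMap A B)) ^ (n - c) • (⊤ : Submodule B (B ⊗[A] M))) := by
  exact main B I f c hf

end Groth.Agent.S6911
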