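import Groth.Statements.S6912
import Mathlib

set_option autoImplicit false
universe u
open TensorProduct
open CAlg

namespace Groth.Agent.S6912

/-- Let `R` be a domain and `M`, `N` two `R`-modules; rank means dimension over the fraction field after
base change. Then `rank (M ⊗_R N) = rank M · rank N`, and when `M` is finitely presented also `rank
Hom_R(M, N) = rank M · rank N`. -/
theorem result (R : Type u) [CommRing R] [IsDomain R] (M N : Type u)
    [AddCommGroup M] [Module R M] [AddCommGroup N] [Module R N] :
    Module.rank R (M ⊗[R] N) = Module.rank R M * Module.rank R N ∧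
    (Module.FinitePresentation R M → Module.rank R (M →ₗ[R] N) = Module.rank R M * Module.rank R N) := by
  classical
  let K := FractionRing R
  have hrk : ∀ (X : Type u) [AddCommGroup X] [Module R X],
      Module.rank K (K ⊗[R] X) = Module.rank R X :=
    fun X _ _ => (TensorProduct.isBaseChange R X K).rank_eq
  constructor
  · rw [← hrk (M ⊗[R] N), ← hrk M, ← hrk N, ← rank_tensorProduct']
    exact LinearEquiv.rank_eq (TensorProduct.AlgebraTensorModule.distribBaseChange R K M N)
  · intro hfp
    let M' := LocalizedModule (nonZeroDivisors R) M
    let N' := LocalizedModule (nonZeroDivisors R) N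
    have h1 : Module.rank R (M' →ₗ[K] N') = Module.rank R (M →ₗ[R] N) :=
      IsLocalizedModule.rank_eq (nonZeroDivisors R) le_rfl
        (LocalizedModule.map (nonZeroDivisors R) (M := M) (N := N))
    have h2 : Module.rank K (M' →ₗ[K] N') = Module.rank R (M' →ₗ[K] N') :=
      IsLocalization.rank_eq K (nonZeroDivisors R) le_rfl
    have h3 : Module.rank K M' = Module.rank R M := by
      rw [IsLocalization.rank_eq K (nonZeroDivisors R) le_rfl]
      exact IsLocalizedModule.rank_eq (nonZeroDivisors R) le_rfl
        (LocalizedModule.mkLinearMap (nonZeroDivisors R) M)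
    have h4 : Module.rank K N' = Module.rank R N := by
      rw [IsLocalization.rank_eq K (nonZeroDivisors R) le_rfl]
      exact IsLocalizedModule.rank_eq (nonZeroDivisors R) le_rfl
        (LocalizedModule.mkLinearMap (nonZeroDivisors R) N)
    have h5 : Module.rank K (M' →ₗ[K] N') = Module.rank K M' * Module.rank K N' := by
      rw [← LinearEquiv.rank_eq (dualTensorHomEquiv K M' N'), rank_tensorProduct',
        Module.dual_rank_eq, Cardinal.lift_id]
    rw [← h1, ← h2, h5, h3, h4]

end Groth.Agent.S6912
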