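import Groth.Statements.S6913
import Mathlib

set_option autoImplicit false
universe u
open CAlg

namespace Groth.Agent.S6913
theorem part3 (R : Type u) [CommRing R] [IsDomain R] (M : Type u) [AddCommGroup M]
    [Module R M] [Module.Finite R M] :
    ∃ g : (Fin (Module.finrank R M) → R) →ₗ[R] M, Function.Injective g ∧
      ∀ x : M, ∃ c : R, c ≠ 0 ∧ c • x ∈ LinearMap.range g := by
  obtain ⟨v, hv⟩ := exists_linearIndependent_of_le_finrank (R := R) (M := M) (le_refl _)
  refine ⟨Fintype.linearCombination R v, ?_, ?_⟩
  · exact linearIndependent_iff_injective_fintypeLinearCombination.1 hv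
  · intro x
    by_contra hx
    push Not at hx
    have hli : LinearIndependent R (Fin.cons x v : Fin (Module.finrank R M + 1) → M) := by
      refine LinearIndependent.finCons' x v hv ?_
      intro c y hy hcy
      by_contra hc
      apply hx c hc
      have : c • x = -y := eq_neg_of_add_eq_zero_left hcy
      rw [this, Fintype.range_linearCombination]
      exact Submodule.neg_mem _ hy
    have := hli.fintype_card_le_finrank
    simp at this


/-- Let `R` be a domain and `M` a finite `R`-module, of (finite) rank `r`. Then: some linear map `M →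
R^r` has torsion kernel and torsion cokernel; some nonzero `f ∈ R` makes `M_f` free of rank `r` over
`R_f`; and some injective linear map `R^r → M` has torsion cokernel. -/
theorem result (R : Type u) [CommRing R] [IsDomain R] (M : Type u) [AddCommGroup M]
    [Module R M] [Module.Finite R M] :
    (∃ h : M →ₗ[R] (Fin (Module.finrank R M) → R),
      (∀ x : M, h x = 0 → ∃ c : R, c ≠ 0 ∧ c • x = 0) ∧
      (∀ y : Fin (Module.finrank R M) → R, ∃ c : R, c ≠ 0 ∧ c • y ∈ LinearMap.range h)) ∧
    (∃ f : R, f ≠ 0 ∧ Module.Free (Localization.Away f) (LocalizedModule (Submonoid.powers f) M) ∧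
      Module.finrank (Localization.Away f) (LocalizedModule (Submonoid.powers f) M) = Module.finrank R M) ∧
    (∃ g : (Fin (Module.finrank R M) → R) →ₗ[R] M, Function.Injective g ∧
      ∀ x : M, ∃ c : R, c ≠ 0 ∧ c • x ∈ LinearMap.range g) := by
  obtain ⟨g, hginj, hg⟩ := part3 R M
  -- uniform c
  have huni : ∃ c : R, c ≠ 0 ∧ ∀ x : M, c • x ∈ LinearMap.range g := by
    classical
    obtain ⟨s, hs⟩ := (Module.Finite.fg_top : (⊤ : Submodule R M).FG)
    choose cf hcf0 hcf using hg
    refine ⟨∏ m ∈ s, cf m, Finset.prod_ne_zero_iff.2 fun m _ => hcf0 m, ?_⟩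
    intro x
    have hx : x ∈ Submodule.span R (s : Set M) := by rw [hs]; trivial
    induction hx using Submodule.span_induction with
    | mem m hm =>
      rw [← Finset.mul_prod_erase s cf hm, mul_comm, mul_smul]
      exact Submodule.smul_mem _ _ (hcf m)
    | zero => simp
    | add a b _ _ ha hb => rw [smul_add]; exact Submodule.add_mem _ ha hb
    | smul r a _ ha => rw [smul_comm]; exact Submodule.smul_mem _ _ ha
  obtain ⟨c, hc0, hc⟩ := huni
  refine ⟨?_, ?_, ⟨g, hginj, hg⟩⟩
  · -- h = g⁻¹ ∘ (c • ·)
    let e := LinearEquiv.ofInjective g hginj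
    let h : M →ₗ[R] (Fin (Module.finrank R M) → R) :=
      e.symm.toLinearMap ∘ₗ (LinearMap.codRestrict (LinearMap.range g) (c • LinearMap.id) hc)
    have hh : ∀ x, g (h x) = c • x := by
      intro x
      have : (e (h x) : M) = c • x := by
        simp [h]
      exact this
    refine ⟨h, ?_, ?_⟩
    · intro x hx
      refine ⟨c, hc0, ?_⟩
      rw [← hh x, hx, map_zero]
    · intro y
      refine ⟨c, hc0, g y, ?_⟩
      apply hginj
      rw [hh, map_smul]
  · refine ⟨c, hc0, ?_⟩
    let S := Submonoid.powers c
    let gl : LocalizedModule S (Fin (Module.finrank R M) → R) →ₗ[Localization S] LocalizedModule S M :=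
      LocalizedModule.map S g
    have hinj : Function.Injective gl := LocalizedModule.map_injective S g hginj
    have hsurj : Function.Surjective gl := by
      intro z
      induction z using LocalizedModule.induction_on with
      | h m s =>
        obtain ⟨y, hy⟩ := hc m
        refine ⟨LocalizedModule.mk y (⟨c, Submonoid.mem_powers c⟩ * s), ?_⟩
        change LocalizedModule.map S g (LocalizedModule.mk y _) = _
        rw [LocalizedModule.map_mk, hy, LocalizedModule.mk_eq]
        refine ⟨1, ?_⟩
        simp only [one_smul, Submonoid.smul_def, Submonoid.coe_mul, mul_smul]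
        rw [smul_comm]
    let el : LocalizedModule S (Fin (Module.finrank R M) → R) ≃ₗ[Localization S] LocalizedModule S M :=
      LinearEquiv.ofBijective gl ⟨hinj, hsurj⟩
    have hfree : Module.Free (Localization S) (LocalizedModule S (Fin (Module.finrank R M) → R)) :=
      Module.free_of_isLocalizedModule S (LocalizedModule.mkLinearMap S _)
    have hnt : Nontrivial (Localization S) := by
      have : S ≤ nonZeroDivisors R := Submonoid.powers_le.2 (mem_nonZeroDivisors_of_ne_zero hc0)
      exact (IsLocalization.isDomain_localization this).toNontrivial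
    refine ⟨Module.Free.of_equiv el, ?_⟩
    change Module.finrank (Localization S) (LocalizedModule S M) = _
    rw [← el.finrank_eq, Module.finrank_of_isLocalizedModule_of_free (Localization S) S
      (LocalizedModule.mkLinearMap S _)]
    simp

end Groth.Agent.S6913
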