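import Groth.Statements.S6914
import Mathlib
import Groth.Agent.Lib.Helper10.FittingE
import Groth.Agent.S6894
import Groth.Agent.S6896

set_option autoImplicit false
universe u
open TensorProduct
open Fitt

namespace Groth.Agent.S6914

section helpers
open Groth.Agent.Lib.Helper10.Fitting
open Matrix Finset TensorProduct


/-- in (a copy of) the affine blow-up algebra, `I R₁ = a R₁`. -/
lemma map_eq_span {R : Type u} [CommRing R] (I : Ideal R) (a : R) (ha : a ∈ I)
    (R₁ : Type u) [CommRing R₁] [Algebra R R₁] (e : R₁ ≃ₐ[R] ↥(BlowUp.affineAlgebra R I a)) :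
    I.map (algebraMap R R₁) = Ideal.span {algebraMap R R₁ a} := by
  apply le_antisymm
  · rw [Ideal.map_le_iff_le_comap]
    intro x hx
    rw [Ideal.mem_comap, Ideal.mem_span_singleton]
    -- x = a * (x/a)
    let q : ↥(BlowUp.affineAlgebra R I a) :=
      ⟨IsLocalization.mk' (Localization.Away a) x ⟨a, Submonoid.mem_powers a⟩,
        Algebra.subset_adjoin ⟨x, hx, rfl⟩⟩
    refine ⟨e.symm q, ?_⟩
    apply e.injective
    rw [map_mul, AlgEquiv.apply_symm_apply, AlgEquiv.commutes, AlgEquiv.commutes]
    apply Subtype.ext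
    simp only [Subalgebra.coe_algebraMap, MulMemClass.coe_mul, q]
    exact (IsLocalization.mk'_spec' (Localization.Away a) x ⟨a, Submonoid.mem_powers a⟩).symm
  · rw [Ideal.span_le]
    rintro _ rfl
    exact Ideal.mem_map_of_mem _ ha

/-- the strict-transform lemma in general form -/
theorem strict_top {S : Type u} [CommRing S] (N : Type u) [AddCommGroup N] [Module S N]
    [Module.Finite S N] (k : ℕ) (b : S) (hFit : Fitt.ideal S N k = Ideal.span {b}) :
    Fitt.ideal S (N ⧸ FlatCA.powTorsion S b N) k = ⊤ := by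
  by_contra hne
  obtain ⟨q, hqmax, hle⟩ := Ideal.exists_le_maximal _ hne
  have hqp := hqmax.isPrime
  set T := FlatCA.powTorsion S b N with hT
  apply (Groth.Agent.S6894.part2 (M := N ⧸ T) k q).2 ?_ hle
  -- work over the local ring
  let A := Localization.AtPrime q
  let Nq := LocalizedModule q.primeCompl N
  have hbc := IsLocalizedModule.isBaseChange q.primeCompl A
    (LocalizedModule.mkLinearMap q.primeCompl N)
  have hFitq : Fitt.ideal A Nq k = Ideal.span {algebraMap S A b} := by
    rw [fitt_isBaseChange A _ hbc, hFit, Ideal.map_span, Set.image_singleton]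
  obtain ⟨g₀, hg₀⟩ := Groth.Agent.S6896.main (R := A) (M := Nq) k (algebraMap S A b) hFitq
  -- the map to the localized quotient
  let φ : Nq →ₗ[A] LocalizedModule q.primeCompl (N ⧸ T) := LocalizedModule.map q.primeCompl T.mkQ
  have hφsurj : Function.Surjective φ := LocalizedModule.map_surjective _ _ T.mkQ_surjective
  have hker : LinearMap.ker ((algebraMap S A b) • (LinearMap.id : Nq →ₗ[A] Nq)) ≤ LinearMap.ker φ := by
    intro n' hn'
    rw [LinearMap.mem_ker] at hn' ⊢
    induction n' using LocalizedModule.induction_on with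
    | h n s =>
      simp only [LinearMap.smul_apply, LinearMap.id_coe, id_eq] at hn'
      rw [algebraMap_smul, LocalizedModule.smul'_mk, ← LocalizedModule.zero_mk s,
        LocalizedModule.mk_eq] at hn'
      obtain ⟨u, hu⟩ := hn'
      simp only [smul_zero] at hu
      have h1 : ((u : S) * (s : S)) • n ∈ T := by
        rw [hT, FlatCA.powTorsion]
        refine Submodule.mem_iSup_of_mem 1 ?_
        rw [Submodule.mem_torsionBy_iff, pow_one]
        have h2 : (u : S) • (s : S) • b • n = 0 := hu
        rw [smul_smul]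
        rw [smul_smul, smul_smul] at h2
        rw [← h2]
        congr 1
        ring
      show LocalizedModule.map q.primeCompl T.mkQ (LocalizedModule.mk n s) = 0
      rw [LocalizedModule.map_mk, ← LocalizedModule.zero_mk s, LocalizedModule.mk_eq]
      refine ⟨u, ?_⟩
      simp only [smul_zero]
      have h3 : T.mkQ (((u : S) * (s : S)) • n) = 0 := by
        rw [Submodule.mkQ_apply, Submodule.Quotient.mk_eq_zero]
        exact h1
      rw [map_smul, mul_smul] at h3
      exact h3
  let ψ := Submodule.liftQ _ φ hker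
  have hψsurj : Function.Surjective ψ := by
    intro y
    obtain ⟨n', rfl⟩ := hφsurj y
    exact ⟨Submodule.Quotient.mk n', rfl⟩
  refine ⟨ψ ∘ g₀, ?_⟩
  rw [Set.range_comp, ← Submodule.map_span, hg₀, Submodule.map_top, LinearMap.range_eq_top.2 hψsurj]

theorem main {R : Type u} [CommRing R] (M : Type u) [AddCommGroup M] [Module R M]
    [Module.Finite R M] (k : ℕ) (a : R) (ha : a ∈ Fitt.ideal R M k)
    (R₁ : Type u) [CommRing R₁] [Algebra R R₁] (e : R₁ ≃ₐ[R] ↥(BlowUp.affineAlgebra R (Fitt.ideal R M k) a)) :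
    Fitt.ideal R₁ ((R₁ ⊗[R] M) ⧸ FlatCA.powTorsion R₁ (algebraMap R R₁ a) (R₁ ⊗[R] M)) k = ⊤ := by
  apply strict_top
  rw [fitt_baseChange R₁ k, map_eq_span _ a ha R₁ e]

end helpers

/-- Let `M` be a finite `R`-module, `k ≥ 0`, `I = Fit_k(M)` and `a ∈ I`; let `R₁ ≅ R[I/a]` be (a copy
of) the affine blow-up algebra and `M' = (M ⊗_R R₁)/(a-power torsion)` the strict transform. Then
`Fit_k(M') = R₁`. -/
theorem result {R : Type u} [CommRing R] (M : Type u) [AddCommGroup M] [Module R M]
    [Module.Finite R M] (k : ℕ) (a : R) (ha : a ∈ Fitt.ideal R M k)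
    (R₁ : Type u) [CommRing R₁] [Algebra R R₁] (e : R₁ ≃ₐ[R] ↥(BlowUp.affineAlgebra R (Fitt.ideal R M k) a)) :
    Fitt.ideal R₁ ((R₁ ⊗[R] M) ⧸ FlatCA.powTorsion R₁ (algebraMap R R₁ a) (R₁ ⊗[R] M)) k = ⊤ := by
  exact main M k a ha R₁ e

end Groth.Agent.S6914
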