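import Groth.Statements.S6915
import Mathlib
import Groth.Agent.Lib.Helper10.FittingE
import Groth.Agent.S6895
import Groth.Agent.S6914

set_option autoImplicit false
universe u
open TensorProduct
open Fitt

namespace Groth.Agent.S6915

section helpers
open Groth.Agent.Lib.Helper10.Fitting
open Matrix Finset TensorProduct


lemma fitt_mono {R : Type*} [CommRing R] {M : Type*} [AddCommGroup M] [Module R M] {j k : ℕ}
    (h : j ≤ k) : Fitt.ideal R M j ≤ Fitt.ideal R M k := by
  refine Ideal.span_le.2 ?_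
  rintro d ⟨n, x, a, hx, hrel, rfl⟩
  exact Ideal.subset_span ⟨n, x, a, hx, fun i hi => hrel i (by omega), rfl⟩

/-- `a` becomes a nonzerodivisor in the affine blowup algebra -/
lemma a_regular {R : Type u} [CommRing R] (I : Ideal R) (a : R)
    (R₁ : Type u) [CommRing R₁] [Algebra R R₁] (e : R₁ ≃ₐ[R] ↥(BlowUp.affineAlgebra R I a))
    (m : ℕ) (y : R₁) (h : algebraMap R R₁ a ^ m * y = 0) : y = 0 := by
  apply e.injective
  rw [map_zero]
  apply Subtype.ext
  have h1 := congrArg (fun z => ((e z : ↥(BlowUp.affineAlgebra R I a)) : Localization.Away a)) h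
  simp only [map_mul, map_pow, AlgEquiv.commutes, map_zero, MulMemClass.coe_mul,
    SubmonoidClass.coe_pow, Subalgebra.coe_algebraMap, ZeroMemClass.coe_zero] at h1
  have hu : IsUnit (algebraMap R (Localization.Away a) a ^ m) :=
    (IsLocalization.Away.algebraMap_isUnit a).pow m
  exact (hu.mul_right_eq_zero).1 h1

/-- lower Fitting ideals are `a`-power torsion -/
lemma low_fitt_torsion {R : Type u} [CommRing R] (M : Type u) [AddCommGroup M]
    [Module R M] [Module.Finite R M] (k : ℕ)
    (hfree : ∀ (p : Ideal R) [p.IsPrime], ¬ Fitt.ideal R M k ≤ p →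
      Module.Free (Localization.AtPrime p) (LocalizedModule p.primeCompl M) ∧
        Module.finrank (Localization.AtPrime p) (LocalizedModule p.primeCompl M) = k)
    (a : R) (ha : a ∈ Fitt.ideal R M k) (j : ℕ) (hj : j < k) (d : R) (hd : d ∈ Fitt.ideal R M j) :
    ∃ m : ℕ, a ^ m * d = 0 := by
  by_contra hcon
  push Not at hcon
  let I : Ideal R := LinearMap.ker (LinearMap.toSpanSingleton R R d)
  have hdisj : Disjoint (I : Set R) (Submonoid.powers a) := by
    rw [Set.disjoint_left]
    rintro _ hI ⟨m, rfl⟩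
    apply hcon m
    have : a ^ m ∈ I := hI
    rw [LinearMap.mem_ker, LinearMap.toSpanSingleton_apply, smul_eq_mul] at this
    exact this
  obtain ⟨p, hp, hIp, hpdisj⟩ := Ideal.exists_le_prime_disjoint I (Submonoid.powers a) hdisj
  have hap : a ∉ p := by
    intro hap
    exact Set.disjoint_left.1 hpdisj hap (Submonoid.mem_powers a)
  have hnle : ¬ Fitt.ideal R M k ≤ p := fun hle => hap (hle ha)
  obtain ⟨hfr, hrank⟩ := hfree p hnle
  have b := Module.finBasisOfFinrankEq (Localization.AtPrime p)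
    (LocalizedModule p.primeCompl M) hrank
  have h1 := (fitt_of_basis b j).1 hj
  rw [fitt_isBaseChange (Localization.AtPrime p) (LocalizedModule.mkLinearMap p.primeCompl M)
    (IsLocalizedModule.isBaseChange p.primeCompl _ _)] at h1
  have h2 : algebraMap R (Localization.AtPrime p) d = 0 := by
    have := Ideal.mem_map_of_mem (algebraMap R (Localization.AtPrime p)) hd
    rwa [h1, Ideal.mem_bot] at this
  rw [IsLocalization.map_eq_zero_iff p.primeCompl] at h2
  obtain ⟨⟨u, hu⟩, hud⟩ := h2
  have h3 : u ∈ I := by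
    rw [LinearMap.mem_ker, LinearMap.toSpanSingleton_apply, smul_eq_mul]
    exact hud
  exact hu (hIp h3)

lemma mem_powTorsion {S : Type u} [CommRing S] (b : S) (N : Type u) [AddCommGroup N] [Module S N]
    (x : N) : x ∈ FlatCA.powTorsion S b N ↔ ∃ n : ℕ, b ^ n • x = 0 := by
  unfold FlatCA.powTorsion
  rw [Submodule.mem_iSup_of_directed]
  · simp only [Submodule.mem_torsionBy_iff]
  · apply Monotone.directed_le
    intro n m hnm x hx
    rw [Submodule.mem_torsionBy_iff] at hx ⊢
    obtain ⟨l, rfl⟩ := Nat.exists_eq_add_of_le hnm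
    rw [pow_add, mul_comm, mul_smul, hx, smul_zero]

/-- general strict transform lemma for lower Fitting ideals -/
lemma low_strict {S : Type u} [CommRing S] (N : Type u) [AddCommGroup N] [Module S N]
    [Module.Finite S N] (b : S) (j : ℕ)
    (hN : ∀ d₀ ∈ Fitt.ideal S N j, ∃ m : ℕ, b ^ m * d₀ = 0)
    (d : S) (hd : d ∈ Fitt.ideal S (N ⧸ FlatCA.powTorsion S b N) j) : ∃ m : ℕ, b ^ m * d = 0 := by
  set T := FlatCA.powTorsion S b N with hT
  let B := Localization.Away b
  let φ : LocalizedModule (Submonoid.powers b) N →ₗ[B] LocalizedModule (Submonoid.powers b) (N ⧸ T) :=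
    LocalizedModule.map (Submonoid.powers b) T.mkQ
  have hφsurj : Function.Surjective φ := LocalizedModule.map_surjective _ _ T.mkQ_surjective
  have hφinj : Function.Injective φ := by
    rw [← LinearMap.ker_eq_bot, eq_bot_iff]
    intro n' hn'
    rw [LinearMap.mem_ker] at hn'
    rw [Submodule.mem_bot]
    induction n' using LocalizedModule.induction_on with
    | h n s =>
      change LocalizedModule.map (Submonoid.powers b) T.mkQ (LocalizedModule.mk n s) = 0 at hn'
      rw [LocalizedModule.map_mk, ← LocalizedModule.zero_mk s, LocalizedModule.mk_eq] at hn'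
      obtain ⟨⟨_, i, rfl⟩, hu⟩ := hn'
      simp only [smul_zero] at hu
      obtain ⟨_, l, rfl⟩ := s
      have h1 : (b ^ i * b ^ l) • n ∈ T := by
        rw [← Submodule.Quotient.mk_eq_zero, ← Submodule.mkQ_apply, map_smul, mul_smul]
        exact hu
      rw [hT, mem_powTorsion] at h1
      obtain ⟨m, hm⟩ := h1
      rw [← LocalizedModule.zero_mk (⟨b ^ l, l, rfl⟩ : Submonoid.powers b), LocalizedModule.mk_eq]
      refine ⟨⟨b ^ (m + i), m + i, rfl⟩, ?_⟩
      simp only [smul_zero]
      show b ^ (m + i) • b ^ l • n = 0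
      rw [← hm, smul_smul, smul_smul]
      congr 1
      ring
  let ε := LinearEquiv.ofBijective φ ⟨hφinj, hφsurj⟩
  have h1 := fitt_congr ε j
  rw [fitt_isBaseChange B (LocalizedModule.mkLinearMap (Submonoid.powers b) N)
      (IsLocalizedModule.isBaseChange (Submonoid.powers b) _ _),
    fitt_isBaseChange B (LocalizedModule.mkLinearMap (Submonoid.powers b) (N ⧸ T))
      (IsLocalizedModule.isBaseChange (Submonoid.powers b) _ _)] at h1
  have h2 : (Fitt.ideal S N j).map (algebraMap S B) = ⊥ := by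
    rw [eq_bot_iff, Ideal.map_le_iff_le_comap]
    intro d₀ hd₀
    rw [Ideal.mem_comap, Ideal.mem_bot, IsLocalization.map_eq_zero_iff (Submonoid.powers b)]
    obtain ⟨m, hm⟩ := hN d₀ hd₀
    exact ⟨⟨b ^ m, m, rfl⟩, hm⟩
  have h3 : algebraMap S B d = 0 := by
    have := Ideal.mem_map_of_mem (algebraMap S B) hd
    rwa [← h1, h2, Ideal.mem_bot] at this
  rw [IsLocalization.map_eq_zero_iff (Submonoid.powers b)] at h3
  obtain ⟨⟨_, m, rfl⟩, hm⟩ := h3
  exact ⟨m, hm⟩

theorem main {R : Type u} [CommRing R] (M : Type u) [AddCommGroup M]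
    [Module R M] [Module.Finite R M] (k : ℕ)
    (hfree : ∀ (p : Ideal R) [p.IsPrime], ¬ Fitt.ideal R M k ≤ p →
      Module.Free (Localization.AtPrime p) (LocalizedModule p.primeCompl M) ∧
        Module.finrank (Localization.AtPrime p) (LocalizedModule p.primeCompl M) = k)
    (a : R) (ha : a ∈ Fitt.ideal R M k) (R₁ : Type u) [CommRing R₁] [Algebra R R₁] (e : R₁ ≃ₐ[R] ↥(BlowUp.affineAlgebra R (Fitt.ideal R M k) a)) :
    ∀ (p' : Ideal R₁) [p'.IsPrime], ∃ g : R₁, g ∉ p' ∧
      Module.Free (Localization.Away g) (LocalizedModule (Submonoid.powers g) ((R₁ ⊗[R] M) ⧸ FlatCA.powTorsion R₁ (algebraMap R R₁ a) (R₁ ⊗[R] M))) ∧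
      Module.finrank (Localization.Away g) (LocalizedModule (Submonoid.powers g) ((R₁ ⊗[R] M) ⧸ FlatCA.powTorsion R₁ (algebraMap R R₁ a) (R₁ ⊗[R] M))) = k := by
  apply Groth.Agent.S6895.backward
  constructor
  · intro j hj
    rw [eq_bot_iff]
    intro d hd
    rw [Ideal.mem_bot]
    have hN : ∀ d₀ ∈ Fitt.ideal R₁ (R₁ ⊗[R] M) j, ∃ m : ℕ, algebraMap R R₁ a ^ m * d₀ = 0 := by
      intro d₀ hd₀
      rw [fitt_baseChange R₁ j, Ideal.map] at hd₀
      induction hd₀ using Submodule.span_induction with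
      | mem x hx =>
        obtain ⟨d', hd', rfl⟩ := hx
        obtain ⟨m, hm⟩ := low_fitt_torsion M k hfree a ha j hj d' hd'
        exact ⟨m, by rw [← map_pow, ← map_mul, hm, map_zero]⟩
      | zero => exact ⟨0, by simp⟩
      | add x y _ _ hx hy =>
        obtain ⟨m1, h1⟩ := hx
        obtain ⟨m2, h2⟩ := hy
        refine ⟨m1 + m2, ?_⟩
        have e1 : algebraMap R R₁ a ^ (m1 + m2) * x = algebraMap R R₁ a ^ m2 * (algebraMap R R₁ a ^ m1 * x) := by
          ring
        have e2 : algebraMap R R₁ a ^ (m1 + m2) * y = algebraMap R R₁ a ^ m1 * (algebraMap R R₁ a ^ m2 * y) := by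
          ring
        rw [mul_add, e1, e2, h1, h2, mul_zero, mul_zero, add_zero]
      | smul r x _ hx =>
        obtain ⟨m, hm⟩ := hx
        exact ⟨m, by rw [smul_eq_mul, mul_left_comm, hm, mul_zero]⟩
    obtain ⟨m, hm⟩ := low_strict (R₁ ⊗[R] M) (algebraMap R R₁ a) j hN d hd
    exact a_regular _ a R₁ e m d hm
  · intro j hj
    rw [eq_top_iff, ← Groth.Agent.S6914.main M k a ha R₁ e]
    exact fitt_mono hj

end helpers

/-- Let `M` be a finite `R`-module, `k ≥ 0` and `I = Fit_k(M)`, and assume `M_𝔭` is free of rank `k` for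
every prime `𝔭` not containing `I`. Then for every `a ∈ I` and (a copy `R₁` of) the affine blow-up
algebra `R[I/a]`, the strict transform `M' = (M ⊗_R R₁)/(a-power torsion)` is finite locally free of
rank `k`: every prime of `R₁` has a basic open neighbourhood over which `M'` is free of rank `k`. -/
theorem result {R : Type u} [CommRing R] (M : Type u) [AddCommGroup M]
    [Module R M] [Module.Finite R M] (k : ℕ)
    (hfree : ∀ (p : Ideal R) [p.IsPrime], ¬ Fitt.ideal R M k ≤ p →
      Module.Free (Localization.AtPrime p) (LocalizedModule p.primeCompl M) ∧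
        Module.finrank (Localization.AtPrime p) (LocalizedModule p.primeCompl M) = k)
    (a : R) (ha : a ∈ Fitt.ideal R M k) (R₁ : Type u) [CommRing R₁] [Algebra R R₁] (e : R₁ ≃ₐ[R] ↥(BlowUp.affineAlgebra R (Fitt.ideal R M k) a)) :
    ∀ (p' : Ideal R₁) [p'.IsPrime], ∃ g : R₁, g ∉ p' ∧
      Module.Free (Localization.Away g) (LocalizedModule (Submonoid.powers g) ((R₁ ⊗[R] M) ⧸ FlatCA.powTorsion R₁ (algebraMap R R₁ a) (R₁ ⊗[R] M))) ∧
      Module.finrank (Localization.Away g) (LocalizedModule (Submonoid.powers g) ((R₁ ⊗[R] M) ⧸ FlatCA.powTorsion R₁ (algebraMap R R₁ a) (R₁ ⊗[R] M))) = k := by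
  exact main M k hfree a ha R₁ e

end Groth.Agent.S6915
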