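import Groth.Statements.S6916
import Mathlib

set_option autoImplicit false
universe u
open TensorProduct
open EtAlg

namespace Groth.Agent.S6916

/-- Let `B' = B ×_A A'` be a fibre square of rings with `A' → A` surjective and `L'` any `B'`-module.
Then the canonical map from `L'` to the glueing of `(L' ⊗_{B'} B, L' ⊗_{B'} A')` is surjective:
every pair `(x, y) ∈ (B ⊗_{B'} L') × (A' ⊗_{B'} L')` with equal images in `A ⊗_{B'} L'` is of the
form `(1 ⊗ l, 1 ⊗ l)`. (It is in general not injective.) -/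
theorem result (B' B A' A : Type u) [CommRing B'] [CommRing B] [CommRing A'] [CommRing A]
    [Algebra B' B] [Algebra B' A'] [Algebra B A] [Algebra A' A] [Algebra B' A] [IsScalarTower B' B A] [IsScalarTower B' A' A]
    (hsq : EtMil.IsFibreSquare B' B A' A)
    (L' : Type u) [AddCommGroup L'] [Module B' L'] (x : B ⊗[B'] L') (y : A' ⊗[B'] L')
    (hxy : (IsScalarTower.toAlgHom B' B A).toLinearMap.rTensor L' x = (IsScalarTower.toAlgHom B' A' A).toLinearMap.rTensor L' y) :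
    ∃ l : L', (1 : B) ⊗ₜ[B'] l = x ∧ (1 : A') ⊗ₜ[B'] l = y := by
  obtain ⟨hsurj, hfib⟩ := hsq
  -- B' → B is surjective
  have hBsurj : Function.Surjective (algebraMap B' B) := by
    intro b
    obtain ⟨a', ha'⟩ := hsurj (algebraMap B A b)
    obtain ⟨b', ⟨hb', _⟩, _⟩ := hfib b a' ha'.symm
    exact ⟨b', hb'⟩
  -- every element of B ⊗ L' is 1 ⊗ l
  have hall : ∀ x : B ⊗[B'] L', ∃ l₀ : L', (1 : B) ⊗ₜ[B'] l₀ = x := by
    intro x
    induction x using TensorProduct.induction_on with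
    | zero => exact ⟨0, by simp⟩
    | tmul b l =>
      obtain ⟨b', rfl⟩ := hBsurj b
      refine ⟨b' • l, ?_⟩
      rw [← TensorProduct.smul_tmul, Algebra.smul_def, mul_one]
    | add x₁ x₂ h₁ h₂ =>
      obtain ⟨l₁, rfl⟩ := h₁
      obtain ⟨l₂, rfl⟩ := h₂
      exact ⟨l₁ + l₂, by rw [TensorProduct.tmul_add]⟩
  obtain ⟨l₀, hl₀⟩ := hall x
  let φ : A' →ₗ[B'] A := (IsScalarTower.toAlgHom B' A' A).toLinearMap
  let K : Submodule B' A' := LinearMap.ker φ
  have hφsurj : Function.Surjective φ := hsurj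
  have hy0 : φ.rTensor L' (y - (1 : A') ⊗ₜ[B'] l₀) = 0 := by
    rw [map_sub, ← hxy, ← hl₀]
    simp [φ]
  obtain ⟨z, hz⟩ := (rTensor_exact L' (LinearMap.exact_subtype_ker_map φ) hφsurj _).1 hy0
  have hK : ∀ z : K ⊗[B'] L', ∃ l₁ : L', K.subtype.rTensor L' z = (1 : A') ⊗ₜ[B'] l₁ ∧
      (1 : B) ⊗ₜ[B'] l₁ = 0 := by
    intro z
    induction z using TensorProduct.induction_on with
    | zero => exact ⟨0, by simp, by simp⟩
    | tmul k l =>
      have hk : algebraMap A' A k.1 = 0 := k.2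
      obtain ⟨j, ⟨hj1, hj2⟩, _⟩ := hfib 0 k.1 (by rw [map_zero, hk])
      refine ⟨j • l, ?_, ?_⟩
      · rw [LinearMap.rTensor_tmul, Submodule.subtype_apply, ← TensorProduct.smul_tmul,
          Algebra.smul_def, mul_one, hj2]
      · rw [← TensorProduct.smul_tmul, Algebra.smul_def, mul_one, hj1, TensorProduct.zero_tmul]
    | add z₁ z₂ h₁ h₂ =>
      obtain ⟨l₁, h₁a, h₁b⟩ := h₁
      obtain ⟨l₂, h₂a, h₂b⟩ := h₂
      refine ⟨l₁ + l₂, ?_, ?_⟩
      · rw [map_add, h₁a, h₂a, TensorProduct.tmul_add]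
      · rw [TensorProduct.tmul_add, h₁b, h₂b, add_zero]
  obtain ⟨l₁, hl₁a, hl₁b⟩ := hK z
  refine ⟨l₀ + l₁, ?_, ?_⟩
  · rw [TensorProduct.tmul_add, hl₀, hl₁b, add_zero]
  · rw [TensorProduct.tmul_add, ← hl₁a, hz]
    abel

end Groth.Agent.S6916
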