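import Groth.Statements.S6920
import Mathlib

set_option autoImplicit false
universe u
open CategoryTheory CategoryTheory.Limits MonoidalCategory
open DRing

namespace Groth.Agent.S6920

section helpers
open TensorProduct


/-- for an epimorphism of rings, `R`-linear maps between `S`-modules are `S`-linear -/
lemma smul_of_isEpi {R S : Type*} [CommRing R] [CommRing S] [Algebra R S] [Algebra.IsEpi R S]
    {M N : Type*} [AddCommGroup M] [Module R M] [Module S M] [IsScalarTower R S M]
    [AddCommGroup N] [Module R N] [Module S N] [IsScalarTower R S N] (g : M →ₗ[R] N)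
    (s : S) (m : M) : g (s • m) = s • g m := by
  have key : ∀ x : M, g x = TensorProduct.lid' R S N (g.baseChange S ((TensorProduct.lid' R S M).symm x)) := by
    intro x
    rw [TensorProduct.lid'_symm_apply, LinearMap.baseChange_tmul, TensorProduct.lid'_apply_tmul, one_smul]
  rw [key (s • m), map_smul, map_smul, map_smul, ← key m]

theorem full_restrictScalars {R S : Type u} [CommRing R] [CommRing S] (φ : R →+* S)
    (hφ : Epi (CommRingCat.ofHom φ)) : (ModuleCat.restrictScalars.{u} φ).Full := by
  algebraize [φ]
  have hepi : Algebra.IsEpi R S := CommRingCat.epi_iff_epi.mp hφ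
  constructor
  intro M N g
  let _ : Module S ((ModuleCat.restrictScalars φ).obj M) := inferInstanceAs (Module S M)
  let _ : Module S ((ModuleCat.restrictScalars φ).obj N) := inferInstanceAs (Module S N)
  have : IsScalarTower R S ((ModuleCat.restrictScalars φ).obj M) :=
    IsScalarTower.of_algebraMap_smul (fun r x => rfl)
  have : IsScalarTower R S ((ModuleCat.restrictScalars φ).obj N) :=
    IsScalarTower.of_algebraMap_smul (fun r x => rfl)
  refine ⟨ModuleCat.ofHom
    { toFun := fun m => g.hom m
      map_add' := fun x y => map_add g.hom x y
      map_smul' := fun s m => smul_of_isEpi (R := R) (S := S) g.hom s m }, ?_⟩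
  ext m
  rfl

lemma acyclic_restrict {R S : Type u} [CommRing R] [CommRing S] (φ : R →+* S)
    (L : DRing.Cx S) (hL : L.Acyclic) : ((DRing.restrictCx φ).obj L).Acyclic := by
  intro i
  have h := hL i
  rw [HomologicalComplex.exactAt_iff] at h ⊢
  exact h.map (ModuleCat.restrictScalars φ)

theorem main (R S : Type u) [CommRing R] [CommRing S] (φ : R →+* S)
    (hφ : Epi (CommRingCat.ofHom φ)) (I : DRing.Cx S)
    [CochainComplex.IsKInjective ((DRing.restrictCx φ).obj I)] : CochainComplex.IsKInjective I := by
  have := full_restrictScalars φ hφ
  constructor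
  intro L f hL
  let F := ModuleCat.restrictScalars.{u} φ
  obtain ⟨h⟩ := CochainComplex.IsKInjective.nonempty_homotopy_zero
    ((DRing.restrictCx φ).map f) (acyclic_restrict φ L hL)
  refine ⟨{ hom := fun i j => F.preimage (h.hom i j)
            zero := fun i j hij => F.map_injective (by rw [F.map_preimage, h.zero i j hij, F.map_zero]; rfl)
            comm := fun i => F.map_injective ?_ }⟩
  have hc := h.comm i
  rw [dNext_eq _ (show (ComplexShape.up ℤ).Rel i (i + 1) from rfl),
    prevD_eq _ (show (ComplexShape.up ℤ).Rel (i - 1) i by simp)] at hc ⊢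
  simp only [HomologicalComplex.zero_f, add_zero, Functor.map_add, Functor.map_comp,
    F.map_preimage] at hc ⊢
  exact hc

end helpers

/-- For an epimorphism of rings `φ : R → S` and a complex `I•` of `S`-modules, if the underlying complex
of `R`-modules of `I•` is K-injective, then `I•` itself is K-injective over `S`. -/
theorem result (R S : Type u) [CommRing R] [CommRing S] (φ : R →+* S)
    (hφ : Epi (CommRingCat.ofHom φ)) (I : DRing.Cx S)
    [CochainComplex.IsKInjective ((DRing.restrictCx φ).obj I)] : CochainComplex.IsKInjective I := by
  exact main R S φ hφ I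

end Groth.Agent.S6920
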