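import Groth.Statements.S6924
import Mathlib
import Groth.Agent.Lib.Helper10.FittingE
import Groth.Agent.S6895
import Groth.Agent.S6914
import Groth.Agent.S6915

set_option autoImplicit false
universe u
open TensorProduct
open Fitt

namespace Groth.Agent.S6924

section helpers
open Groth.Agent.Lib.Helper10.Fitting
open Matrix Finset TensorProduct

section quot
variable {R : Type u} [CommRing R] {n : ℕ} (K : Submodule R (Fin n → R))

/-- images of the standard basis in the quotient -/
def qgen : Fin n → (Fin n → R) ⧸ K := fun i => K.mkQ (Pi.single i 1)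

lemma sum_qgen (v : Fin n → R) : ∑ j, v j • qgen K j = K.mkQ v := by
  unfold qgen
  simp only [← map_smul, ← map_sum]
  congr 1
  funext i
  simp [Finset.sum_apply, Pi.single_apply]

lemma isRel_qgen (v : Fin n → R) : IsRel (qgen K) v ↔ v ∈ K := by
  unfold IsRel
  rw [sum_qgen, Submodule.mkQ_apply, Submodule.Quotient.mk_eq_zero]

lemma span_qgen : Submodule.span R (Set.range (qgen K)) = ⊤ := by
  have h1 := span_single_eq_top (R := R) n
  have h2 : qgen K = K.mkQ ∘ (fun j : Fin n => (Pi.single j (1 : R) : Fin n → R)) := rfl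
  rw [h2, Set.range_comp, ← Submodule.map_span, h1, Submodule.map_top, Submodule.range_mkQ]

lemma Jo_qgen_mono {K K' : Submodule R (Fin n → R)} (h : K ≤ K') (r : ℕ) :
    Jo (R := R) (qgen K) r ≤ Jo (R := R) (qgen K') r := by
  refine Ideal.span_le.2 ?_
  rintro d ⟨a, hrel, rfl⟩
  exact Ideal.subset_span
    ⟨a, fun i hi => (isRel_qgen K' _).2 (h ((isRel_qgen K _).1 (hrel i hi))), rfl⟩

lemma exists_fg_sub {M : Type u} [AddCommGroup M] [Module R M] (x : Fin n → M) (r : ℕ) (y : R)
    (hy : y ∈ Jo x r) :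
    ∃ K : Submodule R (Fin n → R), K ≤ relMod x ∧ K.FG ∧ y ∈ Jo (R := R) (qgen K) r := by
  unfold Jo at hy
  induction hy using Submodule.span_induction with
  | mem d hd =>
    obtain ⟨a, hrel, rfl⟩ := hd
    classical
    let W : Finset (Fin n → R) := (Finset.univ.filter (fun i : Fin n => (i : ℕ) < n - r)).image a
    refine ⟨Submodule.span R (W : Set (Fin n → R)), ?_, ⟨W, rfl⟩, ?_⟩
    · refine Submodule.span_le.2 ?_
      intro v hv
      simp only [W, Finset.coe_image, Set.mem_image, Finset.mem_coe, Finset.mem_filter,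
        Finset.mem_univ, true_and] at hv
      obtain ⟨i, hi, rfl⟩ := hv
      rw [SetLike.mem_coe, mem_relMod]
      exact hrel i hi
    · refine Ideal.subset_span ⟨a, fun i hi => ?_, rfl⟩
      rw [isRel_qgen]
      apply Submodule.subset_span
      simp only [W, Finset.coe_image, Set.mem_image, Finset.mem_coe, Finset.mem_filter,
        Finset.mem_univ, true_and]
      exact ⟨i, hi, rfl⟩
  | zero => exact ⟨⊥, bot_le, Submodule.fg_bot, Ideal.zero_mem _⟩
  | add y₁ y₂ _ _ h₁ h₂ =>
    obtain ⟨K₁, hK₁, hfg₁, hy₁⟩ := h₁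
    obtain ⟨K₂, hK₂, hfg₂, hy₂⟩ := h₂
    exact ⟨K₁ ⊔ K₂, sup_le hK₁ hK₂, hfg₁.sup hfg₂,
      Ideal.add_mem _ (Jo_qgen_mono le_sup_left r hy₁) (Jo_qgen_mono le_sup_right r hy₂)⟩
  | smul c y₁ _ h₁ =>
    obtain ⟨K₁, hK₁, hfg₁, hy₁⟩ := h₁
    exact ⟨K₁, hK₁, hfg₁, Ideal.mul_mem_left _ c hy₁⟩

end quot


section hyp
variable {R : Type u} [CommRing R] (M : Type u) [AddCommGroup M] [Module R M] [Module.Finite R M]
  (f : R) (r : ℕ)
  (hf : ∀ (p : Ideal R) [p.IsPrime], f ∉ p → ∃ g : R, g ∉ p ∧ g ∈ (Ideal.span {f}).radical ∧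
      Module.Free (Localization.Away g) (LocalizedModule (Submonoid.powers g) M) ∧
        Module.finrank (Localization.Away g) (LocalizedModule (Submonoid.powers g) M) = r)

include hf in
lemma mem_radical_fitt : f ∈ (Fitt.ideal R M r).radical := by
  rw [Ideal.radical_eq_sInf, Ideal.mem_sInf]
  rintro p ⟨hle, hp⟩
  by_contra hfp
  obtain ⟨g, hg, -, hfree, hrank⟩ := hf p hfp
  have := Groth.Agent.S6895.away_nontrivial p g hg
  have b := Module.finBasisOfFinrankEq (Localization.Away g)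
    (LocalizedModule (Submonoid.powers g) M) hrank
  have h1 := (fitt_of_basis b r).2 le_rfl
  rw [fitt_isBaseChange (Localization.Away g) (LocalizedModule.mkLinearMap (Submonoid.powers g) M)
    (IsLocalizedModule.isBaseChange (Submonoid.powers g) _ _)] at h1
  apply Groth.Agent.S6895.map_ne_top p g hg
  rw [eq_top_iff, ← h1]
  exact Ideal.map_mono hle

include hf in
lemma low_torsion (j : ℕ) (hj : j < r) (d : R) (hd : d ∈ Fitt.ideal R M j) :
    ∃ m : ℕ, f ^ m * d = 0 := by
  by_contra hcon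
  push Not at hcon
  let I : Ideal R := LinearMap.ker (LinearMap.toSpanSingleton R R d)
  have hdisj : Disjoint (I : Set R) (Submonoid.powers f) := by
    rw [Set.disjoint_left]
    rintro _ hI ⟨m, rfl⟩
    apply hcon m
    have : f ^ m ∈ I := hI
    rw [LinearMap.mem_ker, LinearMap.toSpanSingleton_apply, smul_eq_mul] at this
    exact this
  obtain ⟨p, hp, hIp, hpdisj⟩ := Ideal.exists_le_prime_disjoint I (Submonoid.powers f) hdisj
  have hfp : f ∉ p := by
    intro hfp
    exact Set.disjoint_left.1 hpdisj hfp (Submonoid.mem_powers f)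
  obtain ⟨g, hg, -, hfree, hrank⟩ := hf p hfp
  have := Groth.Agent.S6895.away_nontrivial p g hg
  have b := Module.finBasisOfFinrankEq (Localization.Away g)
    (LocalizedModule (Submonoid.powers g) M) hrank
  have h1 := (fitt_of_basis b j).1 hj
  rw [fitt_isBaseChange (Localization.Away g) (LocalizedModule.mkLinearMap (Submonoid.powers g) M)
    (IsLocalizedModule.isBaseChange (Submonoid.powers g) _ _)] at h1
  have h2 : algebraMap R (Localization.Away g) d = 0 := by
    have := Ideal.mem_map_of_mem (algebraMap R (Localization.Away g)) hd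
    rwa [h1, Ideal.mem_bot] at this
  rw [IsLocalization.map_eq_zero_iff (Submonoid.powers g)] at h2
  obtain ⟨⟨_, l, rfl⟩, hl⟩ := h2
  have h3 : g ^ l ∈ I := by
    rw [LinearMap.mem_ker, LinearMap.toSpanSingleton_apply, smul_eq_mul]
    exact hl
  exact hg (hp.mem_of_pow_mem l (hIp h3))

end hyp

/-- torsion elements of an ideal stay torsion after extension -/
lemma map_torsion {R : Type u} [CommRing R] (F : Ideal R) (a : R)
    (h : ∀ d ∈ F, ∃ m : ℕ, a ^ m * d = 0) (R₁ : Type u) [CommRing R₁] [Algebra R R₁] :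
    ∀ d₀ ∈ F.map (algebraMap R R₁), ∃ m : ℕ, algebraMap R R₁ a ^ m * d₀ = 0 := by
  intro d₀ hd₀
  rw [Ideal.map] at hd₀
  induction hd₀ using Submodule.span_induction with
  | mem x hx =>
    obtain ⟨d', hd', rfl⟩ := hx
    obtain ⟨m, hm⟩ := h d' hd'
    exact ⟨m, by rw [← map_pow, ← map_mul, hm, map_zero]⟩
  | zero => exact ⟨0, by simp⟩
  | add x y _ _ hx hy =>
    obtain ⟨m1, h1⟩ := hx
    obtain ⟨m2, h2⟩ := hy
    refine ⟨m1 + m2, ?_⟩
    have e1 : algebraMap R R₁ a ^ (m1 + m2) * x = algebraMap R R₁ a ^ m2 * (algebraMap R R₁ a ^ m1 * x) := by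
      ring
    have e2 : algebraMap R R₁ a ^ (m1 + m2) * y = algebraMap R R₁ a ^ m1 * (algebraMap R R₁ a ^ m2 * y) := by
      ring
    rw [mul_add, e1, e2, h1, h2, mul_zero, mul_zero, add_zero]
  | smul c x _ hx =>
    obtain ⟨m, hm⟩ := hx
    exact ⟨m, by rw [smul_eq_mul, mul_left_comm, hm, mul_zero]⟩

/-- if `(f) · J = (b)` with `b` regular then `J` is principal, generated by a divisor of `b`. -/
lemma principal_of_mul {A : Type u} [CommRing A] (f b : A) (J : Ideal A)
    (hb : ∀ y : A, b * y = 0 → y = 0) (h : Ideal.span {f} * J = Ideal.span {b}) :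
    ∃ j₀ : A, J = Ideal.span {j₀} ∧ b = f * j₀ := by
  have hbmem : b ∈ Ideal.span {f} * J := by rw [h]; exact Ideal.mem_span_singleton_self b
  rw [Ideal.mem_span_singleton_mul] at hbmem
  obtain ⟨j₀, hj₀, hbj⟩ := hbmem
  have hfreg : ∀ y : A, f * y = 0 → y = 0 := by
    intro y hy
    apply hb
    rw [← hbj, mul_right_comm, hy, zero_mul]
  refine ⟨j₀, le_antisymm ?_ ?_, hbj.symm⟩
  · intro j hj
    have h1 : f * j ∈ Ideal.span {b} := by
      rw [← h]
      exact Ideal.mul_mem_mul (Ideal.mem_span_singleton_self f) hj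
    rw [Ideal.mem_span_singleton'] at h1
    obtain ⟨c, hc⟩ := h1
    rw [Ideal.mem_span_singleton']
    refine ⟨c, ?_⟩
    have h2 : f * (c * j₀ - j) = 0 := by
      rw [mul_sub, ← hc, ← hbj]; ring
    exact sub_eq_zero.1 (hfreg _ h2)
  · rw [Ideal.span_le]
    rintro _ rfl
    exact hj₀


theorem main6924 {R : Type u} [CommRing R] (M : Type u) [AddCommGroup M]
    [Module R M] [Module.Finite R M] (f : R) (r : ℕ)
    (hf : ∀ (p : Ideal R) [p.IsPrime], f ∉ p → ∃ g : R, g ∉ p ∧ g ∈ (Ideal.span {f}).radical ∧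
      Module.Free (Localization.Away g) (LocalizedModule (Submonoid.powers g) M) ∧
        Module.finrank (Localization.Away g) (LocalizedModule (Submonoid.powers g) M) = r) :
    ∃ I : Ideal R, I.FG ∧ I.radical = (Ideal.span {f}).radical ∧ ∀ a ∈ I, ∀ (R₁ : Type u) [CommRing R₁] [Algebra R R₁] (e : R₁ ≃ₐ[R] ↥(BlowUp.affineAlgebra R I a)),
      ∀ (p' : Ideal R₁) [p'.IsPrime], ∃ g : R₁, g ∉ p' ∧
        Module.Free (Localization.Away g) (LocalizedModule (Submonoid.powers g) ((R₁ ⊗[R] M) ⧸ FlatCA.powTorsion R₁ (algebraMap R R₁ a) (R₁ ⊗[R] M))) ∧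
        Module.finrank (Localization.Away g) (LocalizedModule (Submonoid.powers g) ((R₁ ⊗[R] M) ⧸ FlatCA.powTorsion R₁ (algebraMap R R₁ a) (R₁ ⊗[R] M))) = r := by
  obtain ⟨n, x, hx⟩ := Module.Finite.exists_fin (R := R) (M := M)
  obtain ⟨N, hN⟩ := mem_radical_fitt M f r hf
  rw [fitt_eq_Jo x hx] at hN
  obtain ⟨K, hK, hKfg, hyK⟩ := exists_fg_sub x r (f ^ N) hN
  have hspan₀ := span_qgen K
  have hfit₀ : f ^ N ∈ Fitt.ideal R ((Fin n → R) ⧸ K) r := by
    rw [fitt_eq_Jo (qgen K) hspan₀]; exact hyK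
  have hfp : Module.FinitePresentation R ((Fin n → R) ⧸ K) :=
    Module.finitePresentation_of_free_of_surjective K.mkQ K.mkQ_surjective
      (by rw [Submodule.ker_mkQ]; exact hKfg)
  have hF₀fg : (Fitt.ideal R ((Fin n → R) ⧸ K) r).FG := fitt_fg r
  let π : ((Fin n → R) ⧸ K) →ₗ[R] M := K.liftQ (Fintype.linearCombination R x) hK
  have hπ : Function.Surjective π := by
    rw [← LinearMap.range_eq_top, Submodule.range_liftQ, Fintype.range_linearCombination, hx]
  refine ⟨Ideal.span {f} * Fitt.ideal R ((Fin n → R) ⧸ K) r, ?_, ?_, ?_⟩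
  · exact Ideal.FG.mul ⟨{f}, by simp⟩ hF₀fg
  · rw [Ideal.radical_mul]
    apply inf_eq_left.2
    apply Ideal.radical_le_radical_iff.2
    rw [Ideal.span_le, Set.singleton_subset_iff]
    exact ⟨N, hfit₀⟩
  · intro a ha R₁ _ _ e p' _
    set b : R₁ := algebraMap R R₁ a with hb
    have hbreg : ∀ (m : ℕ) (y : R₁), b ^ m * y = 0 → y = 0 :=
      fun m y h => Groth.Agent.S6915.a_regular _ a R₁ e m y h
    have hmap := Groth.Agent.S6914.map_eq_span _ a ha R₁ e
    rw [Ideal.map_mul, Ideal.map_span, Set.image_singleton] at hmap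
    obtain ⟨j₀, hj₀, hbj⟩ := principal_of_mul (algebraMap R R₁ f) b _
      (fun y hy => hbreg 1 y (by rwa [pow_one])) hmap
    -- c with a = f * c
    obtain ⟨c, -, hac⟩ := Ideal.mem_span_singleton_mul.1 ha
    apply Groth.Agent.S6895.backward
    constructor
    · intro j hj
      rw [eq_bot_iff]
      intro d hd
      rw [Ideal.mem_bot]
      have hN' : ∀ d₀ ∈ Fitt.ideal R₁ (R₁ ⊗[R] M) j, ∃ m : ℕ, b ^ m * d₀ = 0 := by
        rw [fitt_baseChange R₁ j]
        apply map_torsion
        intro d' hd'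
        obtain ⟨m, hm⟩ := low_torsion M f r hf j hj d' hd'
        refine ⟨m, ?_⟩
        rw [← hac, mul_pow, mul_right_comm, hm, zero_mul]
      obtain ⟨m, hm⟩ := Groth.Agent.S6915.low_strict (R₁ ⊗[R] M) b j hN' d hd
      exact hbreg m d hm
    · intro j hj
      rw [eq_top_iff]
      -- Fit_r of the strict transform of M₀ w.r.t. j₀ is ⊤
      have h1 : Fitt.ideal R₁ ((R₁ ⊗[R] ((Fin n → R) ⧸ K)) ⧸
          FlatCA.powTorsion R₁ j₀ (R₁ ⊗[R] ((Fin n → R) ⧸ K))) r = ⊤ := by
        apply Groth.Agent.S6914.strict_top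
        rw [fitt_baseChange R₁ r, hj₀]
      -- the surjection of strict transforms
      have hle : FlatCA.powTorsion R₁ j₀ (R₁ ⊗[R] ((Fin n → R) ⧸ K)) ≤
          (FlatCA.powTorsion R₁ b (R₁ ⊗[R] M)).comap (π.baseChange R₁) := by
        intro y hy
        rw [Groth.Agent.S6915.mem_powTorsion] at hy
        obtain ⟨m, hm⟩ := hy
        rw [Submodule.mem_comap, Groth.Agent.S6915.mem_powTorsion]
        refine ⟨m, ?_⟩
        rw [hbj, mul_pow, mul_smul, ← map_smul, hm, map_zero, smul_zero]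
      let Φ := Submodule.mapQ _ _ (π.baseChange R₁) hle
      have hΦ : Function.Surjective Φ := by
        intro z
        obtain ⟨z', rfl⟩ := Submodule.mkQ_surjective _ z
        obtain ⟨y, rfl⟩ := LinearMap.lTensor_surjective R₁ hπ z'
        exact ⟨Submodule.mkQ _ y, rfl⟩
      calc (⊤ : Ideal R₁) = _ := h1.symm
        _ ≤ Fitt.ideal R₁ ((R₁ ⊗[R] M) ⧸ FlatCA.powTorsion R₁ b (R₁ ⊗[R] M)) r :=
            fitt_le_of_surjective Φ hΦ r
        _ ≤ _ := Groth.Agent.S6915.fitt_mono hj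


end helpers

/-- Let `M` be a finite `R`-module and `f ∈ R` such that every prime of `D(f)` has a basic open
neighbourhood `D(g) ⊆ D(f)` with `M_g` free of rank `r` (in other words `M_f` is, locally on `D(f)`,
free of rank `r`). Then there is a finitely generated ideal `I ⊆ R` with `V(I) = V(f)` such that for
every `a ∈ I` and (a copy `R₁` of) the affine blow-up algebra `R[I/a]`, the strict transform `(M ⊗_R
R₁)/(a-power torsion)` is finite locally free of rank `r` over `R₁`. -/
theorem result {R : Type u} [CommRing R] (M : Type u) [AddCommGroup M]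
    [Module R M] [Module.Finite R M] (f : R) (r : ℕ)
    (hf : ∀ (p : Ideal R) [p.IsPrime], f ∉ p → ∃ g : R, g ∉ p ∧ g ∈ (Ideal.span {f}).radical ∧
      Module.Free (Localization.Away g) (LocalizedModule (Submonoid.powers g) M) ∧
        Module.finrank (Localization.Away g) (LocalizedModule (Submonoid.powers g) M) = r) :
    ∃ I : Ideal R, I.FG ∧ I.radical = (Ideal.span {f}).radical ∧ ∀ a ∈ I, ∀ (R₁ : Type u) [CommRing R₁] [Algebra R R₁] (e : R₁ ≃ₐ[R] ↥(BlowUp.affineAlgebra R I a)),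
      ∀ (p' : Ideal R₁) [p'.IsPrime], ∃ g : R₁, g ∉ p' ∧
        Module.Free (Localization.Away g) (LocalizedModule (Submonoid.powers g) ((R₁ ⊗[R] M) ⧸ FlatCA.powTorsion R₁ (algebraMap R R₁ a) (R₁ ⊗[R] M))) ∧
        Module.finrank (Localization.Away g) (LocalizedModule (Submonoid.powers g) ((R₁ ⊗[R] M) ⧸ FlatCA.powTorsion R₁ (algebraMap R R₁ a) (R₁ ⊗[R] M))) = r := by
  exact main6924 M f r hf

end Groth.Agent.S6924
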