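import Groth.Statements.S6929
import Mathlib

set_option autoImplicit false
universe u
open EtAlg

namespace Groth.Agent.S6929

section helpers


/-- finite products of finite type algebras are of finite type -/
theorem finiteType_pi (R : Type*) [CommRing R] {ι : Type*} [Fintype ι] [DecidableEq ι]
    (A : ι → Type*) [∀ i, CommRing (A i)] [∀ i, Algebra R (A i)]
    (hA : ∀ i, Algebra.FiniteType R (A i)) : Algebra.FiniteType R (∀ i, A i) := by
  choose s hs using fun i => (hA i).out
  let G : Set (∀ i, A i) := ⋃ i, (Pi.single i '' ((s i : Set (A i)) ∪ {1}))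
  have hGfin : G.Finite := by
    refine Set.finite_iUnion (fun i => Set.Finite.image _ ?_)
    exact (s i).finite_toSet.union (Set.finite_singleton _)
  refine ⟨⟨hGfin.toFinset, ?_⟩⟩
  rw [Set.Finite.coe_toFinset, eq_top_iff]
  rintro x -
  have hsingle : ∀ i (a : A i), (Pi.single i a : ∀ i, A i) ∈ Algebra.adjoin R G := by
    intro i a
    have ha : a ∈ Algebra.adjoin R (s i : Set (A i)) := by rw [hs i]; trivial
    have h1 : (Pi.single i (1 : A i) : ∀ i, A i) ∈ Algebra.adjoin R G :=
      Algebra.subset_adjoin (Set.mem_iUnion.2 ⟨i, ⟨1, Or.inr rfl, rfl⟩⟩)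
    induction ha using Algebra.adjoin_induction with
    | mem a ha =>
      exact Algebra.subset_adjoin (Set.mem_iUnion.2 ⟨i, ⟨a, Or.inl ha, rfl⟩⟩)
    | algebraMap r =>
      have : (Pi.single i (algebraMap R (A i) r) : ∀ i, A i) = r • Pi.single i (1 : A i) := by
        rw [← Pi.single_smul, Algebra.smul_def, mul_one]
      rw [this]
      exact Subalgebra.smul_mem _ h1 r
    | add a b _ _ ha hb =>
      rw [Pi.single_add]
      exact Subalgebra.add_mem _ ha hb
    | mul a b _ _ ha hb =>
      rw [Pi.single_mul]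
      exact Subalgebra.mul_mem _ ha hb
  have hx : x = ∑ i, Pi.single i (x i) := by
    funext j
    simp [Finset.sum_apply, Pi.single_apply]
  rw [hx]
  exact Subalgebra.sum_mem _ (fun i _ => hsingle i (x i))

theorem main (R : Type u) [CommRing R] [IsNoetherianRing R] {ι : Type u} [Fintype ι]
    (Q : Type u) [CommRing Q] [Algebra R Q] [Algebra.FiniteType R Q] (A B : ι → Type u) [∀ i, CommRing (A i)]
    [∀ i, CommRing (B i)] [∀ i, Algebra R (A i)] [∀ i, Algebra R (B i)] (hA : ∀ i, Algebra.FiniteType R (A i))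
    (hB : ∀ i, Algebra.FiniteType R (B i)) (φ : ∀ i, A i →ₐ[R] B i) (ψ : ∀ i, Q →ₐ[R] B i)
    (hφ : ∀ i, Function.Surjective (φ i)) (hψ : ∀ i, Function.Surjective (ψ i)) :
    Algebra.FiniteType R ↥(AlgHom.equalizer ((AlgHom.pi ψ).comp (AlgHom.fst R Q (∀ i, A i)))
      ((AlgHom.pi fun i => (φ i).comp (Pi.evalAlgHom R A i)).comp (AlgHom.snd R Q (∀ i, A i)))) := by
  classical
  set P := AlgHom.equalizer ((AlgHom.pi ψ).comp (AlgHom.fst R Q (∀ i, A i)))
      ((AlgHom.pi fun i => (φ i).comp (Pi.evalAlgHom R A i)).comp (AlgHom.snd R Q (∀ i, A i))) with hP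
  have hmem : ∀ (q : Q) (a : ∀ i, A i), (q, a) ∈ P ↔ ∀ i, ψ i q = φ i (a i) := by
    intro q a
    rw [hP, AlgHom.mem_equalizer]
    simp only [AlgHom.coe_comp, Function.comp_apply, AlgHom.fst_apply, AlgHom.snd_apply]
    constructor
    · intro h i
      exact congrFun h i
    · intro h
      funext i
      exact h i
  have : Algebra.FiniteType R (∀ i, A i) := finiteType_pi R A hA
  have hAC : (⊤ : Subalgebra R (Q × ∀ i, A i)).FG := Algebra.FiniteType.out
  constructor
  refine fg_of_fg_of_fg R P (Q × ∀ i, A i) hAC ?_ Subtype.val_injective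
  -- the spanning set
  let e₀ : Q × (∀ i, A i) := (1, 0)
  let e : ι → Q × (∀ i, A i) := fun i => (0, Pi.single i 1)
  refine ⟨insert e₀ (Finset.univ.image e), ?_⟩
  rw [eq_top_iff]
  rintro ⟨q, a⟩ -
  choose a' ha' using fun i => hφ i (ψ i q)
  choose qq hqq using fun i => hψ i (φ i (a i))
  choose b hb using fun (i j : ι) => hφ j (ψ j (qq i))
  let p₀ : P := ⟨(q, a'), (hmem _ _).2 (fun i => (ha' i).symm)⟩
  let pp : ι → P := fun i => ⟨(qq i, Function.update (b i) i (a i)), (hmem _ _).2 (fun j => by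
    by_cases hj : j = i
    · subst hj
      rw [Function.update_self, hqq]
    · rw [Function.update_of_ne hj, hb])⟩
  have hsum : ((q, a) : Q × (∀ i, A i)) = p₀ • e₀ + ∑ i, pp i • e i := by
    simp only [Subalgebra.smul_def, p₀, pp, e₀, e]
    ext
    · simp [Prod.fst_sum]
    · rename_i j
      simp only [smul_eq_mul, Prod.mk_mul_mk, mul_one, mul_zero, Prod.snd_add, Prod.snd_sum,
        Pi.add_apply, Pi.zero_apply, zero_add, Finset.sum_apply, Pi.mul_apply, Pi.single_apply,
        mul_ite]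
      rw [Finset.sum_eq_single j]
      · simp
      · intro i _ hij
        rw [Pi.single_eq_of_ne (Ne.symm hij), mul_zero]
      · intro h; exact absurd (Finset.mem_univ j) h
  rw [hsum]
  refine Submodule.add_mem _ (Submodule.smul_mem _ _ (Submodule.subset_span (by simp))) ?_
  refine Submodule.sum_mem _ (fun i _ => Submodule.smul_mem _ _ (Submodule.subset_span ?_))
  simp

end helpers

/-- Let `R` be a Noetherian ring, `ι` a finite index type, and `φ_i : A_i → B_i`, `ψ_i : Q → B_i`
surjective `R`-algebra maps, where `Q` and all `A_i`, `B_i` are `R`-algebras of finite type. Then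
the fibre product ring `P = Q ×_{∏ B_i} ∏ A_i` (pairs `(q, a)` with `ψ_i(q) = φ_i(a_i)` for all `i`)
is an `R`-algebra of finite type. -/
theorem result (R : Type u) [CommRing R] [IsNoetherianRing R] {ι : Type u} [Fintype ι]
    (Q : Type u) [CommRing Q] [Algebra R Q] [Algebra.FiniteType R Q] (A B : ι → Type u) [∀ i, CommRing (A i)]
    [∀ i, CommRing (B i)] [∀ i, Algebra R (A i)] [∀ i, Algebra R (B i)] (hA : ∀ i, Algebra.FiniteType R (A i))
    (hB : ∀ i, Algebra.FiniteType R (B i)) (φ : ∀ i, A i →ₐ[R] B i) (ψ : ∀ i, Q →ₐ[R] B i)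
    (hφ : ∀ i, Function.Surjective (φ i)) (hψ : ∀ i, Function.Surjective (ψ i)) :
    Algebra.FiniteType R ↥(AlgHom.equalizer ((AlgHom.pi ψ).comp (AlgHom.fst R Q (∀ i, A i)))
      ((AlgHom.pi fun i => (φ i).comp (Pi.evalAlgHom R A i)).comp (AlgHom.snd R Q (∀ i, A i)))) := by
  exact main R Q A B hA hB φ ψ hφ hψ

end Groth.Agent.S6929
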