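import Groth.Statements.S6932
-- import your own Groth.Agent.* helpers here
import Groth.Agent.Lib.Helper27.LfpC

set_option autoImplicit false
universe u
open CAlg

namespace Groth.Agent.S6932

/-- Let `R → S` be a ring map of finite type with `S` flat over `R`, such that `R → ∏_j R_{𝔭_j}` is
injective for some finite set of primes `𝔭_j` and each localization `S_𝔭` (at a prime `𝔭` of `R`) is
a finitely presented `R_𝔭`-algebra. Then `S` is a finitely presented `R`-algebra. -/
theorem result {R S : Type u} [CommRing R] [CommRing S]
    [Algebra R S] [Algebra.FiniteType R S] [Module.Flat R S] (s : Finset (PrimeSpectrum R))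
    (hs : Function.Injective fun r : R => fun p : s => algebraMap R (Localization.AtPrime p.1.asIdeal) r)
    (hloc : ∀ (p : Ideal R) [p.IsPrime],
      Algebra.FinitePresentation (Localization.AtPrime p) (Localization (Algebra.algebraMapSubmonoid S p.primeCompl))) :
    Algebra.FinitePresentation R S := by
  classical
  obtain ⟨n, φ, hφ⟩ := Algebra.FiniteType.iff_quotient_mvPolynomial''.1
    (inferInstance : Algebra.FiniteType R S)
  refine Algebra.FinitePresentation.of_surjective hφ ?_
  letI : Algebra (MvPolynomial (Fin n) R) S := φ.toRingHom.toAlgebra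
  haveI : IsScalarTower R (MvPolynomial (Fin n) R) S :=
    IsScalarTower.of_algebraMap_eq' (by
      ext r
      exact (φ.commutes r).symm)
  let π : MvPolynomial (Fin n) R →ₗ[MvPolynomial (Fin n) R] S :=
    Algebra.linearMap (MvPolynomial (Fin n) R) S
  have hπ : ∀ x, π x = φ x := fun x => rfl
  have hπs : Function.Surjective π := hφ
  have key : (LinearMap.ker π).FG := by
    refine Groth.Agent.Helper27.Lfp.ker_fg s hs π hπs ?_
    intro p hp
    obtain ⟨W, hW1, hW2⟩ := Groth.Agent.Helper27.Lfp.exists_finset_of_localization_fp φ hφ p (hloc p)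
    refine ⟨W, fun w hw => hW1 w hw, ?_⟩
    intro x hx
    obtain ⟨t, ht, htx⟩ := hW2 x hx
    refine ⟨t, ht, ?_⟩
    rw [MvPolynomial.algebraMap_eq, smul_eq_mul]
    exact htx
  have heq : RingHom.ker φ.toRingHom = LinearMap.ker π := by
    ext x
    rfl
  rw [heq]
  exact key

end Groth.Agent.S6932
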