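import Groth.Statements.S6934
import Mathlib

set_option autoImplicit false
universe u
open EtAlg

namespace Groth.Agent.S6934

/-- Let `s : B → R`, `t : R' → R` be ring maps and `B' = B ×_R R'` the fibre product ring, i.e. a ring
`B'` with maps `p : B' → B`, `q : B' → R'`, `s ∘ p = t ∘ q`, such that `(p, q)` is injective with
image the pairs `(b, r')` with `s(b) = t(r')`. Let `h ∈ B'` with images `g = p(h)`, `f = q(h)`. Then
the square of localizations `B'_h → B_g`, `B'_h → R'_f`, `B_g → R_{s(g)}`, `R'_f → R_{t(f)} =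
R_{s(g)}` (the induced maps) is cartesian as well: `B'_h = B_g ×_{R_{s(g)}} R'_f`. -/
theorem result {B R R' B' : Type u} [CommRing B] [CommRing R] [CommRing R'] [CommRing B']
    (s : B →+* R) (t : R' →+* R) (p : B' →+* B) (q : B' →+* R') (hc : s.comp p = t.comp q)
    (hinj : ∀ x y : B', p x = p y → q x = q y → x = y) (hsurj : ∀ (b : B) (r' : R'), s b = t r' → ∃ x : B', p x = b ∧ q x = r')
    (h : B') (Bh Bg Rf Rsg : Type u) [CommRing Bh] [CommRing Bg] [CommRing Rf] [CommRing Rsg]
    [Algebra B' Bh] [IsLocalization.Away h Bh] [Algebra B Bg] [IsLocalization.Away (p h) Bg]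
    [Algebra R' Rf] [IsLocalization.Away (q h) Rf] [Algebra R Rsg] [IsLocalization.Away (s (p h)) Rsg]
    (pL : Bh →+* Bg) (qL : Bh →+* Rf) (sL : Bg →+* Rsg) (tL : Rf →+* Rsg)
    (hp : pL.comp (algebraMap B' Bh) = (algebraMap B Bg).comp p) (hq : qL.comp (algebraMap B' Bh) = (algebraMap R' Rf).comp q)
    (hs : sL.comp (algebraMap B Bg) = (algebraMap R Rsg).comp s) (ht : tL.comp (algebraMap R' Rf) = (algebraMap R Rsg).comp t) :
    (∀ x y : Bh, pL x = pL y → qL x = qL y → x = y) ∧
    (∀ (b : Bg) (r : Rf), sL b = tL r → ∃ x : Bh, pL x = b ∧ qL x = r) := by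
  have hpa : ∀ a : B', pL (algebraMap B' Bh a) = algebraMap B Bg (p a) :=
    fun a => RingHom.congr_fun hp a
  have hqa : ∀ a : B', qL (algebraMap B' Bh a) = algebraMap R' Rf (q a) :=
    fun a => RingHom.congr_fun hq a
  have hsa : ∀ a : B, sL (algebraMap B Bg a) = algebraMap R Rsg (s a) :=
    fun a => RingHom.congr_fun hs a
  have hta : ∀ a : R', tL (algebraMap R' Rf a) = algebraMap R Rsg (t a) :=
    fun a => RingHom.congr_fun ht a
  have hca : ∀ a : B', s (p a) = t (q a) := fun a => RingHom.congr_fun hc a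
  have uh : IsUnit (algebraMap B' Bh h) := IsLocalization.Away.algebraMap_isUnit h
  have ug : IsUnit (algebraMap B Bg (p h)) := IsLocalization.Away.algebraMap_isUnit (p h)
  have uf : IsUnit (algebraMap R' Rf (q h)) := IsLocalization.Away.algebraMap_isUnit (q h)
  constructor
  · intro x y hpxy hqxy
    obtain ⟨k, b', hz⟩ := IsLocalization.Away.surj h (x - y)
    have hp0 : algebraMap B Bg (p b') = algebraMap B Bg 0 := by
      rw [← hpa, ← hz, map_mul, map_sub, hpxy, sub_self, zero_mul, map_zero]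
    have hq0 : algebraMap R' Rf (q b') = algebraMap R' Rf 0 := by
      rw [← hqa, ← hz, map_mul, map_sub, hqxy, sub_self, zero_mul, map_zero]
    obtain ⟨N, hN⟩ := IsLocalization.Away.exists_of_eq (p h) hp0
    obtain ⟨M, hM⟩ := IsLocalization.Away.exists_of_eq (q h) hq0
    rw [mul_zero] at hN hM
    have h0 : h ^ (N + M) * b' = 0 := by
      apply hinj
      · rw [map_mul, map_pow, map_zero, pow_add, mul_comm (p h ^ N) (p h ^ M), mul_assoc, hN,
          mul_zero]
      · rw [map_mul, map_pow, map_zero, pow_add, mul_assoc, hM, mul_zero]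
    have h1 : algebraMap B' Bh b' = 0 := by
      have h2 : algebraMap B' Bh h ^ (N + M) * algebraMap B' Bh b' = 0 := by
        rw [← map_pow, ← map_mul, h0, map_zero]
      exact (uh.pow (N + M)).mul_right_eq_zero.mp h2
    rw [h1] at hz
    exact sub_eq_zero.mp ((uh.pow k).mul_left_eq_zero.mp hz)
  · intro b r hbr
    obtain ⟨k₁, b₀, hb⟩ := IsLocalization.Away.surj (p h) b
    obtain ⟨k₂, r₀, hr⟩ := IsLocalization.Away.surj (q h) r
    have hσ' : algebraMap R Rsg (t (q h)) = algebraMap R Rsg (s (p h)) := by rw [hca]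
    have e1 : sL b * algebraMap R Rsg (s (p h)) ^ k₁ = algebraMap R Rsg (s b₀) := by
      rw [← hsa b₀, ← hb, map_mul, map_pow, hsa]
    have e2 : tL r * algebraMap R Rsg (s (p h)) ^ k₂ = algebraMap R Rsg (t r₀) := by
      rw [← hta r₀, ← hr, map_mul, map_pow, hta, hσ']
    have e3 : algebraMap R Rsg (s ((p h) ^ k₂ * b₀)) = algebraMap R Rsg (t ((q h) ^ k₁ * r₀)) := by
      rw [map_mul, map_mul, map_pow, map_pow, map_mul t, map_mul, map_pow t, map_pow, ← e1, ← e2,
        hσ', hbr]
      ring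
    obtain ⟨N, hN⟩ := IsLocalization.Away.exists_of_eq (s (p h)) e3
    have e4 : s ((p h) ^ N * ((p h) ^ k₂ * b₀)) = t ((q h) ^ N * ((q h) ^ k₁ * r₀)) := by
      rw [map_mul, map_mul t, map_pow, map_pow t, ← hca h]
      exact hN
    obtain ⟨x₀, hx₀p, hx₀q⟩ := hsurj _ _ e4
    obtain ⟨w, hw⟩ := IsUnit.exists_right_inv (uh.pow (N + k₁ + k₂))
    have hxw : algebraMap B' Bh x₀ * w * algebraMap B' Bh h ^ (N + k₁ + k₂) =
        algebraMap B' Bh x₀ := by
      rw [mul_assoc, mul_comm w, hw, mul_one]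
    refine ⟨algebraMap B' Bh x₀ * w, ?_, ?_⟩
    · apply (ug.pow (N + k₁ + k₂)).mul_left_inj.mp
      have h1 : pL (algebraMap B' Bh x₀ * w) * algebraMap B Bg (p h) ^ (N + k₁ + k₂) =
          pL (algebraMap B' Bh x₀ * w * algebraMap B' Bh h ^ (N + k₁ + k₂)) := by
        rw [map_mul pL (algebraMap B' Bh x₀ * w), map_pow, hpa]
      rw [h1, hxw, hpa, hx₀p, map_mul, map_mul, map_pow, map_pow, ← hb]
      ring
    · apply (uf.pow (N + k₁ + k₂)).mul_left_inj.mp
      have h1 : qL (algebraMap B' Bh x₀ * w) * algebraMap R' Rf (q h) ^ (N + k₁ + k₂) =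
          qL (algebraMap B' Bh x₀ * w * algebraMap B' Bh h ^ (N + k₁ + k₂)) := by
        rw [map_mul qL (algebraMap B' Bh x₀ * w), map_pow, hqa]
      rw [h1, hxw, hqa, hx₀q, map_mul, map_mul, map_pow, map_pow, ← hr]
      ring

end Groth.Agent.S6934
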