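import Groth.Statements.S6936
import Groth.Agent.Lib.Helper11.MPC3
open Groth.Agent.Helper11.MPC Groth.Agent.Helper11.DC CategoryTheory DerivedCategory

set_option autoImplicit false
universe u
open CategoryTheory CategoryTheory.Limits
attribute [local instance] HasDerivedCategory.standard
open DRing

namespace Groth.Agent.S6936

/-- Let R be a commutative ring, m an integer and K an object of D(R). If H^i(K) = 0 for every i > m +
1, H^(m+1)(K) is a finitely presented R-module and H^m(K) is a finitely generated R-module, then K
is m-pseudo-coherent. -/
theorem result (R : Type u) [CommRing R]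
    (m : ℤ) (K : Dual.D R) (hvan : ∀ i : ℤ, m + 1 < i → Subsingleton (Dual.HD R K i))
    (hfp : Module.FinitePresentation R (Dual.HD R K (m + 1))) (hfin : Module.Finite R (Dual.HD R K m)) :
    DRing.IsPseudoCoherent R m K := by
  refine mpc_of_homology K (m + 1) (fun i hi => ?_) (fun i hi => ?_)
  · haveI := hvan i hi
    exact ModuleCat.isZero_of_subsingleton _
  · by_cases h1 : i = m
    · subst h1
      refine mpc_single_of_module _ ?_
      have e : i - i = 0 := by ring
      rw [e]
      exact pc0_of_finite (Dual.HD R K i)
    · by_cases h2 : i = m + 1
      · subst h2
        refine mpc_single_of_module _ ?_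
        have e : m - (m + 1) = -1 := by ring
        rw [e]
        exact pcNeg1_of_fp (Dual.HD R K (m + 1))
      · haveI := hvan i (by omega)
        exact mpc_zero m _ (Functor.map_isZero _ (ModuleCat.isZero_of_subsingleton _))

end Groth.Agent.S6936
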