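import Groth.Statements.S6946
import Groth.Agent.Lib.Helper11.TorAmp8
open Groth.Agent.Helper11.TA CategoryTheory

set_option autoImplicit false
universe u
open CategoryTheory CategoryTheory.Limits
attribute [local instance] HasDerivedCategory.standard
open DRing

namespace Groth.Agent.S6946

/-- With the definition of tor dimension: let R be a commutative ring, M an R-module and d a natural
number. Then Tor_p^R(M, N) = 0 for every R-module N and every p > d if and only if M[0] is
isomorphic in D(R) to a complex of flat modules vanishing outside [-d, 0] (a flat resolution of M of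
length d). In particular M has tor dimension 0 (Tor_p^R(M, N) = 0 for every N and every p > 0) if
and only if M is flat. -/
theorem result (R : Type u) [CommRing R] (M : Type u)
    [AddCommGroup M] [Module R M] (d : ℕ) :
    (DRing.HasTorDimLE R d M ↔ DRing.HasTorAmplitudeIn R (-(d : ℤ)) 0 (Dual.inD R M)) ∧
      (DRing.HasTorDimLE R 0 M ↔ Module.Flat R M) := by
  have key : ∀ d : ℕ, DRing.HasTorDimLE R d M ↔
      ∀ (N : ModuleCat.{u} R) (p : ℕ), d < p →
        Limits.IsZero (((Tor (ModuleCat.{u} R) p).obj (ModuleCat.of R M)).obj N) := by
    intro d
    constructor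
    · intro h N p hp
      haveI := h N p hp
      exact ModuleCat.isZero_of_subsingleton _
    · intro h N _ _ p hp
      exact ModuleCat.subsingleton_of_isZero (h (ModuleCat.of R N) p hp)
  refine ⟨?_, ?_⟩
  · rw [key d, hasTorAmplitudeIn_iff_torVan]
    exact (torVan_single_iff (ModuleCat.of R M) d).symm
  · rw [key 0]
    constructor
    · intro h
      exact flat_of_tor_one (fun N => h N 1 (by omega))
    · intro h N p hp
      obtain ⟨n, rfl⟩ : ∃ n, p = n + 1 := ⟨p - 1, by omega⟩
      exact Groth.Agent.Helper18.TorLib.isZero_tor_succ_of_flat_left (ModuleCat.of R M) N n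

end Groth.Agent.S6946
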