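import Groth.Statements.S6950
import Groth.Agent.Lib.Helper11.TorAmp10
open Groth.Agent.Helper11.TA CategoryTheory

set_option autoImplicit false
universe u
open CategoryTheory CategoryTheory.Limits
attribute [local instance] HasDerivedCategory.standard
open DRing

namespace Groth.Agent.S6950

/-- Let R → R' be a faithfully flat homomorphism of commutative rings, K a cochain complex of R-modules
and a, b integers. If the termwise base change K ⊗_R R' has tor amplitude in [a, b] as an object of
D(R'), then K has tor amplitude in [a, b] as an object of D(R). -/
theorem result {R R' : Type u} [CommRing R] [CommRing R']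
    [Algebra R R'] [Module.FaithfullyFlat R R'] (K : DRing.Cx R) (a b : ℤ)
    (hK : DRing.HasTorAmplitudeIn R' a b (DRing.toD (((ModuleCat.extendScalars (algebraMap R R')).mapHomologicalComplex
        (ComplexShape.up ℤ)).obj K))) :
    DRing.HasTorAmplitudeIn R a b (DRing.toD K) := by
  have hff : (algebraMap R R').FaithfullyFlat :=
    RingHom.faithfullyFlat_algebraMap_iff.mpr inferInstance
  refine hasTorAmplitudeIn_of_torVan (torVan_descent (ι := Unit) (fun _ => R')
    (fun _ => algebraMap R R') (fun _ => hff.flat) ?_ K a b
    (fun _ => torVan_of_hasTorAmplitudeIn hK))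
  intro H hH
  exact isZero_of_es_isZero (algebraMap R R') hff H (hH ())

end Groth.Agent.S6950
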