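import Groth.Statements.S6957
import Groth.Agent.Lib.Helper11.LDer4
import Groth.Agent.Lib.Helper11.MPC12
open CategoryTheory Limits DerivedCategory Pretriangulated ZeroObject Groth.Agent.Helper11.MPC Groth.Agent.Helper11.DC Groth.Agent.Helper11.GenRes Groth.Agent.Helper11.TA Groth.Agent.Helper11.LDer

set_option autoImplicit false
universe u
open CategoryTheory CategoryTheory.Limits
attribute [local instance] HasDerivedCategory.standard
open DRing

namespace Groth.Agent.S6957

/-- Let A → B be a homomorphism of commutative rings such that the derived base change D(A) → D(B)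
exists, and let K be a perfect object of D(A). Then K ⊗^L_A B is a perfect object of D(B). -/
theorem result {A B : Type u} [CommRing A] [CommRing B] (φ : A →+* B)
    [DRing.HasLBaseChange φ] (K : Dual.D A) (hK : DRing.IsPerfect A K) :
    DRing.IsPerfect B ((DRing.LBaseChange φ).obj K) := by
  obtain ⟨E, a, b, hE, hfp, ⟨e⟩⟩ := hK
  obtain ⟨e'⟩ := nonempty_LBaseChange_iso_of_projRes φ K E b (fun i hi => hE i (Or.inr hi))
    (fun i => (hfp i).2) e
  refine ⟨(esC φ).obj E, a, b, ?_, ?_, ⟨e'.symm⟩⟩
  · intro i hi
    exact (es φ).map_isZero (hE i hi)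
  · intro i
    haveI := (hfp i).1
    haveI := (hfp i).2
    exact ⟨es_finite φ (E.X i), es_projective φ (E.X i)⟩

end Groth.Agent.S6957
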