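import Groth.Statements.S6961
import Groth.Agent.Lib.Helper11.MPC8
open CategoryTheory Groth.Agent.Helper11.MPC Groth.Agent.Helper11.DC Groth.Agent.Helper11.GenRes Groth.Agent.Helper11.TA

set_option autoImplicit false
universe u
open CategoryTheory CategoryTheory.Limits
attribute [local instance] HasDerivedCategory.standard
open DRing

namespace Groth.Agent.S6961

/-- Let R → R' be a faithfully flat homomorphism of commutative rings and K a cochain complex of
R-modules. If the termwise base change K ⊗_R R' is a perfect object of D(R'), then K is a perfect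
object of D(R). -/
theorem result {R R' : Type u} [CommRing R] [CommRing R'] [Algebra R R']
    [Module.FaithfullyFlat R R'] (K : DRing.Cx R)
    (hK : DRing.IsPerfect R' (DRing.toD (((ModuleCat.extendScalars (algebraMap R R')).mapHomologicalComplex
        (ComplexShape.up ℤ)).obj K))) :
    DRing.IsPerfect R (DRing.toD K) := by
  have hφ : (algebraMap R R').FaithfullyFlat :=
    (RingHom.faithfullyFlat_algebraMap_iff).mpr inferInstance
  have hpc : DRing.IsPseudoCoherent' R (DRing.toD K) :=
    pc'_of_forall_mpc (fun m' => mpc_descent_ff (algebraMap R R') hφ m' K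
      (mpc_of_pc' (pc_of_perfect hK) m'))
  obtain ⟨a, b, hv⟩ := torVan_of_perfect hK
  have hv' : TorVan a b (DerivedCategory.Q.obj K) :=
    torVan_descent (ι := Unit) (fun _ => R') (fun _ => algebraMap R R') (fun _ => hφ.flat)
      (fun H hH => isZero_of_es_isZero (algebraMap R R') hφ H (hH ())) K a b (fun _ => hv)
  exact isPerfect_of_pc_of_torVan hpc hv'

end Groth.Agent.S6961
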