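import Groth.Statements.S6962
import Groth.Agent.Lib.Helper11.DCRegular
open Groth.Agent.Helper11.DC

set_option autoImplicit false
universe u
open CategoryTheory CategoryTheory.Limits
attribute [local instance] HasDerivedCategory.standard
open DRing

namespace Groth.Agent.S6962

/-- Let R be a regular commutative ring, i.e. R is Noetherian and its localization at every prime ideal
is a regular local ring. Then an R-module M is perfect (M[0] is isomorphic in D(R) to a bounded
complex of finite projective modules) if and only if M is finitely generated. -/
theorem result (R : Type u) [CommRing R] [IsNoetherianRing R]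
    (hreg : ∀ p : PrimeSpectrum R, IsRegularLocalRing (Localization.AtPrime p.asIdeal))
    (M : Type u) [AddCommGroup M] [Module R M] :
    DRing.IsPerfectModule R M ↔ Module.Finite R M := by
  constructor
  · rintro ⟨E, a, b, hE, hfp, ⟨e⟩⟩
    have h1 := homology_finite_of_finite_term E 0 (hfp 0).1
    have e2 : (DerivedCategory.homologyFunctor (ModuleCat.{u} R) 0).obj (DerivedCategory.Q.obj E) ≅
        ModuleCat.of R M :=
      (DerivedCategory.homologyFunctor (ModuleCat.{u} R) 0).mapIso e ≪≫
        (DerivedCategory.singleFunctorCompHomologyFunctorIso (ModuleCat.{u} R) 0).app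
          (ModuleCat.of R M)
    exact Module.Finite.equiv e2.toLinearEquiv
  · intro hfin
    haveI : IsRegularRing R := isRegularRing_iff.mpr (fun p hp => hreg ⟨p, hp⟩)
    obtain ⟨d, hd⟩ :=
      Groth.Agent.Lead.PD.exists_hasProjectiveDimensionLE_of_isRegularRing (A := R) M
    exact isPerfect_of_hasProjectiveDimensionLT d (ModuleCat.of R M) hfin hd

end Groth.Agent.S6962
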