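import Groth.Statements.S6966
import Groth.Agent.Lib.Helper11.ExtRep3
import Groth.Agent.Lib.Helper11.DCProj
open CategoryTheory Limits DerivedCategory

set_option autoImplicit false
universe u
open CategoryTheory CategoryTheory.Limits
attribute [local instance] HasDerivedCategory.standard
open CAlg

namespace Groth.Agent.S6966

/-- Let R be a commutative ring, I an ideal of R and M an R-module. Then the following two conditions
coincide: for each a ∈ I, the endomorphism of M given by multiplication by a can be written as a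
composite M → P → M with P some projective R-module; and for every R-module N and every a ∈ I, a
annihilates Ext^1_R(M, N) = Hom(M[0], N[1]) in D(R). -/
theorem result (R : Type u) [CommRing R] (I : Ideal R) (M : Type u)
    [AddCommGroup M] [Module R M] :
    (∀ a ∈ I, ∃ (P : Type u) (_ : AddCommGroup P) (_ : Module R P) (_ : Module.Projective R P)
        (f : M →ₗ[R] P) (g : P →ₗ[R] M), g ∘ₗ f = a • LinearMap.id) ↔
      ∀ (N : Type u) [AddCommGroup N] [Module R N], ∀ a ∈ I,
        ∀ x : DRing.ExtD R (Dual.inD R M) (Dual.inD R N) 1, a • x = 0 := by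
  constructor
  · intro h N _ _ a ha x
    obtain ⟨P, _, _, hP, f, g, hgf⟩ := h a ha
    haveI : Projective (ModuleCat.of R P) :=
      (IsProjective.iff_projective (R := R) (P := P)).mp hP
    have h1 : a • x = (a • 𝟙 (Dual.inD R M)) ≫ x := by
      rw [Linear.smul_comp, Category.id_comp]
    have h2 : a • 𝟙 (Dual.inD R M) =
        (DerivedCategory.singleFunctor (ModuleCat.{u} R) 0).map (ModuleCat.ofHom f) ≫
          (DerivedCategory.singleFunctor (ModuleCat.{u} R) 0).map (ModuleCat.ofHom g) := by
      rw [← Functor.map_comp, ← ModuleCat.ofHom_comp, hgf]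
      have : ModuleCat.ofHom (a • (LinearMap.id : M →ₗ[R] M)) = a • 𝟙 (ModuleCat.of R M) := rfl
      rw [this, Functor.map_smul, CategoryTheory.Functor.map_id]
    rw [h1, h2, Category.assoc]
    haveI : ((Dual.inD R N)⟦(1 : ℤ)⟧).IsLE (-1) :=
      DerivedCategory.TStructure.t.isLE_shift (Dual.inD R N) 0 1 (-1) (by norm_num)
    rw [Groth.Agent.Helper11.DC.single_proj_to_isLE_eq_zero (ModuleCat.of R P)
      ((Dual.inD R N)⟦(1 : ℤ)⟧) (-1) (by norm_num)
      ((DerivedCategory.singleFunctor (ModuleCat.{u} R) 0).map (ModuleCat.ofHom g) ≫ x),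
      comp_zero]
  · intro h a ha
    let F := M →₀ R
    let π : F →ₗ[R] M := Finsupp.linearCombination R id
    have hπ : Function.Surjective π := Finsupp.linearCombination_id_surjective R M
    let K : Submodule R F := LinearMap.ker π
    let e : (F ⧸ K) ≃ₗ[R] M := π.quotKerEquivOfSurjective hπ
    have he : ∀ v : F, e (K.mkQ v) = π v := fun v => rfl
    let x : Dual.inD R M ⟶ (Dual.inD R K)⟦(1 : ℤ)⟧ :=
      (DerivedCategory.singleFunctor (ModuleCat.{u} R) 0).map (ModuleCat.ofHom e.symm.toLinearMap) ≫
        Groth.Agent.Helper11.ExtRep.quotδ K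
    have hx := h K a ha x
    have hT := (Groth.Agent.Helper11.ExtRep.quotSC_shortExact K).singleTriangle_distinguished
    have h1 : (a • (DerivedCategory.singleFunctor (ModuleCat.{u} R) 0).map
        (ModuleCat.ofHom e.symm.toLinearMap)) ≫ Groth.Agent.Helper11.ExtRep.quotδ K = 0 := by
      rw [Linear.smul_comp]
      exact hx
    obtain ⟨g', hg'⟩ : ∃ g' : Dual.inD R M ⟶ Dual.inD R F,
        a • (DerivedCategory.singleFunctor (ModuleCat.{u} R) 0).map
          (ModuleCat.ofHom e.symm.toLinearMap) =
        g' ≫ (DerivedCategory.singleFunctor (ModuleCat.{u} R) 0).map (ModuleCat.ofHom K.mkQ) :=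
      Pretriangulated.Triangle.coyoneda_exact₃ _ hT _ h1
    obtain ⟨f', hf'⟩ : ∃ f' : ModuleCat.of R M ⟶ ModuleCat.of R F,
        (DerivedCategory.singleFunctor (ModuleCat.{u} R) 0).map f' = g' :=
      (DerivedCategory.singleFunctor (ModuleCat.{u} R) 0).map_surjective g'
    have h2 : (DerivedCategory.singleFunctor (ModuleCat.{u} R) 0).map
        (a • ModuleCat.ofHom e.symm.toLinearMap) =
        (DerivedCategory.singleFunctor (ModuleCat.{u} R) 0).map
          (f' ≫ ModuleCat.ofHom K.mkQ) := by
      rw [Functor.map_smul, Functor.map_comp, hf']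
      exact hg'
    have h3 := (DerivedCategory.singleFunctor (ModuleCat.{u} R) 0).map_injective h2
    refine ⟨F, inferInstance, inferInstance, inferInstance, f'.hom, π, ?_⟩
    apply LinearMap.ext
    intro v
    have h4 := congrArg (fun φ => e (φ.hom v)) h3
    simp only at h4
    have h5 : e ((a • ModuleCat.ofHom e.symm.toLinearMap).hom v) = a • v := by
      show e (a • e.symm v) = a • v
      rw [map_smul, LinearEquiv.apply_symm_apply]
    have h6 : e ((f' ≫ ModuleCat.ofHom K.mkQ).hom v) = π (f'.hom v) := he _
    rw [h5, h6] at h4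
    exact h4.symm


end Groth.Agent.S6966
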