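import Groth.Statements.S6973
import Groth.Agent.Lib.Helper11.Lift9
import Groth.Agent.Lib.Helper1.HPProj
import Groth.Agent.Lib.Helper1.HPEquiv

set_option autoImplicit false
universe u
open CategoryTheory CategoryTheory.Limits
attribute [local instance] HasDerivedCategory.standard
open DRing

namespace Groth.Agent.S6973

/-- Let (R, I) be a henselian pair such that the derived base change D(R) → D(R/I) exists, K a
pseudo-coherent object of D(R), and E a bounded above cochain complex of finite projective
R/I-modules which is isomorphic in D(R/I) to K ⊗^L_R R/I. Then there is a bounded above cochain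
complex P of finite projective R-modules, isomorphic to K in D(R), whose termwise reduction P ⊗_R
R/I is isomorphic to E as a complex, and such that P^i is free for every i for which E^i is free. -/
theorem result (R : Type u) [CommRing R]
    (I : Ideal R) [HenselianRing R I] [DRing.HasLBaseChange (Ideal.Quotient.mk I)] (K : Dual.D R)
    (hK : DRing.IsPseudoCoherent' R K) (E : DRing.Cx (R ⧸ I)) (b : ℤ) (hEb : DRing.VanishesAbove E b)
    (hEp : DRing.TermwiseFiniteProjective E)
    (hE : Nonempty (DRing.toD E ≅ (DRing.LBaseChange (Ideal.Quotient.mk I)).obj K)) :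
    ∃ (P : DRing.Cx R) (b' : ℤ), DRing.VanishesAbove P b' ∧ DRing.TermwiseFiniteProjective P ∧
      Nonempty (DRing.toD P ≅ K) ∧ Nonempty ((((ModuleCat.extendScalars (Ideal.Quotient.mk I)).mapHomologicalComplex (ComplexShape.up ℤ)).obj P) ≅ E) ∧
      ∀ i : ℤ, Module.Free (R ⧸ I) (E.X i) → Module.Free R (P.X i) := by
  classical
  obtain ⟨Q, c, hQc, hQ, ⟨eQ⟩⟩ := hK
  have hjac : I ≤ Ideal.jacobson (⊥ : Ideal R) := HenselianRing.jac
  have hG : Groth.Agent.Helper1.GabberProp R I := Groth.Agent.Helper1.gabberProp_of_henselianRing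
  let Pc : ObjectProperty (ModuleCat.{u} R) :=
    fun X => Module.Finite R X ∧ Module.Projective R X
  haveI : Pc.IsClosedUnderIsomorphisms := ⟨fun {X Y} e h => by
    haveI := h.1
    haveI := h.2
    exact ⟨Module.Finite.equiv e.toLinearEquiv, Module.Projective.of_equiv e.toLinearEquiv⟩⟩
  have h1 : ∀ X : ModuleCat.{u} R, Pc X → Module.Projective R X := fun X h => h.2
  have h2 : ∀ X Y : ModuleCat.{u} R, Pc X → (Pc (ModuleCat.of R (X × Y)) ↔ Pc Y) := by
    intro X Y hX
    haveI := hX.1
    haveI := hX.2
    constructor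
    · intro hXY
      haveI : Module.Finite R (X × Y) := hXY.1
      haveI : Module.Projective R (X × Y) := hXY.2
      refine ⟨Module.Finite.of_surjective (LinearMap.snd R X Y) LinearMap.snd_surjective, ?_⟩
      exact Module.Projective.of_split (LinearMap.inr R X Y) (LinearMap.snd R X Y)
        (by ext y; rfl)
    · intro hY
      haveI := hY.1
      haveI := hY.2
      exact ⟨inferInstanceAs (Module.Finite R (X × Y)),
        inferInstanceAs (Module.Projective R (X × Y))⟩
  have h3 : ∀ (X Y : ModuleCat.{u} R) (f : X ⟶ Y), Pc X → Pc Y →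
      LinearMap.range f.hom ⊔ I • (⊤ : Submodule R Y) = ⊤ → Function.Surjective f.hom :=
    fun X Y f _ hY h => by
      haveI := hY.1
      exact Groth.Agent.Helper11.Lift.surjective_of_jacobson hjac f.hom h
  have hlift : ∀ i : ℤ, ∃ X : ModuleCat.{u} R, Pc X ∧
      Nonempty (TensorProduct R (R ⧸ I) X ≃ₗ[R ⧸ I] E.X i) ∧
      (Module.Free (R ⧸ I) (E.X i) → Module.Free R X) := by
    intro i
    haveI := (hEp i).1
    haveI := (hEp i).2
    by_cases hf : Module.Free (R ⧸ I) (E.X i)
    · obtain ⟨F, hF1, hF2, hF3⟩ := Groth.Agent.Helper11.Lift.exists_free_lift (I := I) (E.X i)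
      haveI := hF2
      exact ⟨F, ⟨hF1, inferInstance⟩, hF3, fun _ => hF2⟩
    · obtain ⟨P, _, _, hP1, hP2, hP3⟩ :=
        Groth.Agent.Helper1.exists_finite_projective_lift hG (E.X i)
      exact ⟨ModuleCat.of R P, ⟨hP1, hP2⟩, hP3, fun h => absurd h hf⟩
  choose X hX he hfree using hlift
  obtain ⟨d, sq, hv, hiso, hred⟩ := Groth.Agent.Helper11.Lift.exists_representative Pc Q E X
    (fun i => (he i).some) h1 h2 h3 K c hQc
    (fun i => by
      haveI := (hQ i).2
      exact ⟨(hQ i).1, inferInstance⟩) eQ b hEb hX hE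
  exact ⟨CochainComplex.of X d sq, max b (c + 1), hv, fun i => hX i, hiso, hred,
    fun i h => hfree i h⟩

end Groth.Agent.S6973
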