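import Groth.Statements.S6974
import Groth.Agent.Lib.Helper11.LocalPerf6

set_option autoImplicit false
universe u
open CategoryTheory CategoryTheory.Limits
attribute [local instance] HasDerivedCategory.standard
open DRing

namespace Groth.Agent.S6974

/-- Let R be a commutative ring such that the derived base change D(R) → D(R/m) exists for every ideal
m, let K be a pseudo-coherent object of D(R) and a, b integers. If for every maximal ideal m of R
the cohomology H^i(K ⊗^L_R R/m) vanishes for all i outside [a, b], then K is perfect and has tor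
amplitude in [a, b]. -/
theorem result (R : Type u) [CommRing R]
    [∀ m : Ideal R, DRing.HasLBaseChange (Ideal.Quotient.mk m)] (K : Dual.D R)
    (hK : DRing.IsPseudoCoherent' R K) (a b : ℤ)
    (h : ∀ (m : Ideal R), m.IsMaximal → ∀ i : ℤ, (i < a ∨ b < i) →
      Subsingleton (Dual.HD (R ⧸ m) ((DRing.LBaseChange (Ideal.Quotient.mk m)).obj K) i)) :
    DRing.IsPerfect R K ∧ DRing.HasTorAmplitudeIn R a b K := by
  obtain ⟨E, b₀, hEb, hEff, ⟨e⟩⟩ := hK
  have hEproj : ∀ i, Module.Projective R (E.X i) := fun i => by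
    haveI := (hEff i).2
    infer_instance
  have hTA : DRing.HasTorAmplitudeIn R a b (DerivedCategory.Q.obj E) := by
    refine Groth.Agent.Helper11.LocalPerf.hasTorAmplitudeIn_of_fibres E b₀ hEb hEproj
      (fun i => (hEff i).1) a b (fun m hm i hi => ?_)
    obtain ⟨eL⟩ := Groth.Agent.Helper11.LDer.nonempty_LBaseChange_iso_of_projRes
      (Ideal.Quotient.mk m) K E b₀ hEb hEproj e
    haveI := h m hm i hi
    exact (ModuleCat.isZero_of_subsingleton _).of_iso
      ((DerivedCategory.homologyFunctor (ModuleCat.{u} (R ⧸ m)) i).mapIso eL.symm)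
  obtain ⟨F, hF, hFf, ⟨eF⟩⟩ := hTA
  have hTA' : DRing.HasTorAmplitudeIn R a b K := ⟨F, hF, hFf, ⟨eF ≪≫ e⟩⟩
  exact ⟨(Groth.Agent.S6954.result R K).mpr ⟨⟨E, b₀, hEb, hEff, ⟨e⟩⟩, ⟨a, b, hTA'⟩⟩, hTA'⟩

end Groth.Agent.S6974
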