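import Groth.Statements.S6977
import Groth.Agent.Lib.Helper11.Proj5
import Groth.Agent.Lib.Helper11.RelPerfBC
import Groth.Agent.Lib.Helper11.LocalPerf5
import Groth.Agent.S6954

set_option autoImplicit false
universe u
open CategoryTheory CategoryTheory.Limits
attribute [local instance] HasDerivedCategory.standard
open DRing

namespace Groth.Agent.S6977

/-- Let A → B be a flat local homomorphism of local commutative rings such that B/m_A B is a regular
local ring of dimension d, and assume the derived base change D(A) → D(κ_A) to the residue field of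
A exists. Let a, b be integers and K a pseudo-coherent object of D(B) such that H^i((K regarded in
D(A)) ⊗^L_A κ_A) = 0 for every i outside [a, b]. Then K is perfect as an object of D(B) and has tor
amplitude in [a - d, b] over B. -/
theorem result {A B : Type u} [CommRing A] [CommRing B] [IsLocalRing A]
    [IsLocalRing B] [Algebra A B] [IsLocalHom (algebraMap A B)] [Module.Flat A B] (d : ℕ)
    [IsRegularLocalRing (B ⧸ (IsLocalRing.maximalIdeal A).map (algebraMap A B))]
    (hd : ringKrullDim (B ⧸ (IsLocalRing.maximalIdeal A).map (algebraMap A B)) = d)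
    [DRing.HasLBaseChange (IsLocalRing.residue A)] (a b : ℤ) (K : Dual.D B) (hK : DRing.IsPseudoCoherent' B K)
    (h : ∀ i : ℤ, (i < a ∨ b < i) → Subsingleton (Dual.HD (IsLocalRing.ResidueField A)
      ((DRing.LBaseChange (IsLocalRing.residue A)).obj ((DRing.restrictD (algebraMap A B)).obj K)) i)) :
    DRing.IsPerfect B K ∧ DRing.HasTorAmplitudeIn B (a - d) b K := by
  obtain ⟨T, c, hTc, hTf, ⟨e⟩⟩ := hK
  have hTp : ∀ i, Module.Projective B (T.X i) := fun i => by
    haveI := (hTf i).2
    infer_instance
  have hTflat : ∀ i, Module.Flat B (T.X i) := fun i => by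
    haveI := hTp i
    infer_instance
  have hrsflat : ∀ i, Module.Flat A (((Groth.Agent.Helper11.Dev.rsC (algebraMap A B)).obj T).X i) :=
    fun i => by
      haveI := hTflat i
      exact Groth.Agent.Helper11.RPBC.flat_restrictScalars A B (T.X i)
  have hrsc : DRing.VanishesAbove ((Groth.Agent.Helper11.Dev.rsC (algebraMap A B)).obj T) c :=
    fun i hi => (ModuleCat.restrictScalars.{u} (algebraMap A B)).map_isZero (hTc i hi)
  have eR : DerivedCategory.Q.obj ((Groth.Agent.Helper11.Dev.rsC (algebraMap A B)).obj T) ≅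
      (DRing.restrictD (algebraMap A B)).obj K :=
    ((ModuleCat.restrictScalars.{u} (algebraMap A B)).mapDerivedCategoryFactors.app T).symm ≪≫
      (DRing.restrictD (algebraMap A B)).mapIso e
  have hres : Groth.Agent.Helper11.TA.HasProjRes
      (DerivedCategory.Q.obj ((Groth.Agent.Helper11.Dev.rsC (algebraMap A B)).obj T)) :=
    Groth.Agent.Helper11.PRT.hasProjRes_of_isLE _ c
      (Groth.Agent.Helper11.PcBC.isLE_of_vanishesAbove _ c hrsc)
  obtain ⟨eL⟩ := Groth.Agent.Helper11.LDer.nonempty_LBaseChange_iso_of_flat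
    (IsLocalRing.residue A) _ c hrsc hrsflat hres
  have hfib : ∀ i : ℤ, (i < a ∨ b < i) → IsZero (((Groth.Agent.Helper11.TA.esC
      (IsLocalRing.residue A)).obj
      ((Groth.Agent.Helper11.Dev.rsC (algebraMap A B)).obj T)).homology i) := fun i hi => by
    haveI := h i hi
    have h0 : IsZero ((DerivedCategory.homologyFunctor (ModuleCat.{u} (IsLocalRing.ResidueField A))
        i).obj ((DRing.LBaseChange (IsLocalRing.residue A)).obj
          ((DRing.restrictD (algebraMap A B)).obj K))) := ModuleCat.isZero_of_subsingleton _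
    have h1 := h0.of_iso ((DerivedCategory.homologyFunctor
      (ModuleCat.{u} (IsLocalRing.ResidueField A)) i).mapIso
      (((DRing.LBaseChange (IsLocalRing.residue A)).mapIso eR).symm ≪≫ eL).symm)
    exact h1.of_iso ((DerivedCategory.homologyFunctorFactors
      (ModuleCat.{u} (IsLocalRing.ResidueField A)) i).app _).symm
  have hTA : DRing.HasTorAmplitudeIn B (a - d) b (DerivedCategory.Q.obj T) := by
    refine Groth.Agent.Helper11.LocalPerf.hasTorAmplitudeIn_of_fibre T c hTc hTp
      (fun i => (hTf i).1) (a - d) b (fun i hi => ?_)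
    have h2 := Groth.Agent.Helper11.ProjF.isZero_homology_tens_residue_of_regular_fibre A B d hd
      T hTflat a b hfib i hi
    have h3 := (Groth.Agent.Helper11.Dev.isZero_homology_tens_quot_iff
      (IsLocalRing.maximalIdeal B) T i).mp h2
    exact h3.of_iso ((DerivedCategory.homologyFunctorFactors
      (ModuleCat.{u} (IsLocalRing.ResidueField B)) i).app _)
  obtain ⟨F, hF, hFf, ⟨eF⟩⟩ := hTA
  have hTA' : DRing.HasTorAmplitudeIn B (a - d) b K := ⟨F, hF, hFf, ⟨eF ≪≫ e⟩⟩
  exact ⟨(Groth.Agent.S6954.result B K).mpr ⟨⟨T, c, hTc, hTf, ⟨e⟩⟩, ⟨a - d, b, hTA'⟩⟩, hTA'⟩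

end Groth.Agent.S6977
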