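import Groth.Statements.S6982
import Groth.Agent.Lib.Helper11.PolyZ2

set_option autoImplicit false
universe u
open CategoryTheory CategoryTheory.Limits
attribute [local instance] HasDerivedCategory.standard
open DRing

namespace Groth.Agent.S6982

/-- Let R be a commutative ring, K an object of D(R) and φ : R[x] → R the R-algebra homomorphism sending
x to 0; assume the derived base change D(R[x]) → D(R) along φ exists. Then the derived base change
along φ of K (regarded as an object of D(R[x]) via φ) is isomorphic in D(R) to K ⊕ K[1]. -/
theorem result (R : Type u) [CommRing R]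
    [DRing.HasLBaseChange (Polynomial.evalRingHom (0 : R))] (K : Dual.D R)
    [HasBinaryBiproduct K ((shiftFunctor (Dual.D R) (1 : ℤ)).obj K)] :
    Nonempty ((DRing.LBaseChange (Polynomial.evalRingHom (0 : R))).obj
        ((DRing.restrictD (Polynomial.evalRingHom (0 : R))).obj K) ≅
      K ⊞ (shiftFunctor (Dual.D R) (1 : ℤ)).obj K) := by
  refine Groth.Agent.Helper11.PolyZ.nonempty_LBaseChange_restrictD_iso
    (Polynomial.C : R →+* Polynomial R) (Polynomial.evalRingHom (0 : R))
    (fun a => ?_) (Polynomial.X : Polynomial R) Polynomial.divX_hom (fun a b => ?_) (fun b => ?_)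
    (fun b => ?_) ?_ K
  · rw [Polynomial.coe_evalRingHom, Polynomial.eval_C]
  · exact Polynomial.divX_C_mul
  · rw [Polynomial.coe_evalRingHom, ← Polynomial.coeff_zero_eq_eval_zero]
    exact Polynomial.X_mul_divX_add b
  · ext n
    show (Polynomial.divX (Polynomial.X * b)).coeff n = b.coeff n
    rw [Polynomial.coeff_divX, Polynomial.coeff_X_mul]
  · rw [Polynomial.coe_evalRingHom, Polynomial.eval_X]

end Groth.Agent.S6982
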