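import Groth.Statements.S6988
import Groth.Agent.Lib.Helper11.MPC12
open CategoryTheory Limits DerivedCategory Pretriangulated ZeroObject Groth.Agent.Helper11.MPC Groth.Agent.Helper11.DC Groth.Agent.Helper11.GenRes Groth.Agent.Helper11.TA

set_option autoImplicit false
universe u
open CategoryTheory CategoryTheory.Limits
attribute [local instance] HasDerivedCategory.standard
open DRing

namespace Groth.Agent.S6988

theorem mono_map_iff_of_natIso {C D : Type*} [Category C] [Category D] {F G : C ⥤ D} (e : F ≅ G)
    {X Y : C} (f : X ⟶ Y) : Mono (F.map f) ↔ Mono (G.map f) := by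
  have h1 : F.map f = e.hom.app X ≫ G.map f ≫ e.inv.app Y := by
    rw [← e.hom.naturality_assoc, Iso.hom_inv_id_app, Category.comp_id]
  have h2 : G.map f = e.inv.app X ≫ F.map f ≫ e.hom.app Y := by
    rw [← e.inv.naturality_assoc, Iso.inv_hom_id_app, Category.comp_id]
  constructor
  · intro _
    rw [h2]
    infer_instance
  · intro _
    rw [h1]
    infer_instance

/-- Let R be a commutative ring, K a pseudo-coherent object of D(R) and i an integer. Then some finitely
presented R-module M admits a morphism K → M[-i] in D(R) that is injective on H^i (here H^i(M[-i]) =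
M). -/
theorem result (R : Type u) [CommRing R] (K : Dual.D R)
    (hK : DRing.IsPseudoCoherent' R K) (i : ℤ) :
    ∃ (M : Type u) (_ : AddCommGroup M) (_ : Module R M) (_ : Module.FinitePresentation R M)
      (f : K ⟶ (shiftFunctor (Dual.D R) (-i)).obj (Dual.inD R M)),
      Mono ((DerivedCategory.homologyFunctor (ModuleCat.{u} R) i).map f) := by
  obtain ⟨E, b, hb, hff, ⟨e⟩⟩ := hK
  let M : ModuleCat.{u} R := E.opcycles i
  -- finite presentation of the opcycles
  have hfp : Module.FinitePresentation R M := by
    haveI := (hff i).1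
    haveI := (hff i).2
    haveI : Module.FinitePresentation R (E.X i) := Module.finitePresentation_of_projective R _
    haveI : Module.FinitePresentation R (E.sc i).X₂ := ‹Module.FinitePresentation R (E.X i)›
    have h1 : Module.FinitePresentation R ((E.sc i).X₂ ⧸ LinearMap.range (E.sc i).f.hom) := by
      refine Module.finitePresentation_of_surjective (Submodule.mkQ _)
        (Submodule.mkQ_surjective _) ?_
      rw [Submodule.ker_mkQ, LinearMap.range_eq_map]
      haveI : Module.Finite R (E.sc i).X₁ := (hff _).1
      exact Submodule.FG.map _ Module.Finite.fg_top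
    exact Module.FinitePresentation.of_equiv (E.sc i).moduleCatOpcyclesIso.symm.toLinearEquiv
  let S : DRing.Cx R := (HomologicalComplex.single (ModuleCat.{u} R) (ComplexShape.up ℤ) i).obj M
  let g : E ⟶ S := HomologicalComplex.mkHomToSingle (E.pOpcycles i) (fun j _ => E.d_pOpcycles j i)
  have hg : g.f i = E.pOpcycles i ≫
      (HomologicalComplex.singleObjXSelf (ComplexShape.up ℤ) i M).inv :=
    HomologicalComplex.mkHomToSingle_f _ _
  haveI : IsIso (S.pOpcycles i) :=
    S.isIso_pOpcycles (i - 1) i (by simp) (by simp [S])
  have h1 : HomologicalComplex.opcyclesMap g i =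
      (HomologicalComplex.singleObjXSelf (ComplexShape.up ℤ) i M).inv ≫ S.pOpcycles i := by
    rw [← cancel_epi (E.pOpcycles i), HomologicalComplex.p_opcyclesMap, hg, Category.assoc]
  haveI : IsIso (HomologicalComplex.opcyclesMap g i) := by
    rw [h1]
    infer_instance
  haveI hmono : Mono (HomologicalComplex.homologyMap g i) := by
    have h2 := HomologicalComplex.homologyι_naturality g i
    haveI : Mono (HomologicalComplex.homologyMap g i ≫ S.homologyι i) := by
      rw [h2]
      infer_instance
    exact mono_of_mono (HomologicalComplex.homologyMap g i) (S.homologyι i)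
  have hmonoQ : Mono ((homologyFunctor (ModuleCat.{u} R) i).map (Q.map g)) :=
    (mono_map_iff_of_natIso (homologyFunctorFactors (ModuleCat.{u} R) i) g).mpr hmono
  let j : ((singleFunctor (ModuleCat.{u} R) 0).obj M)⟦(-i : ℤ)⟧ ≅ Q.obj S :=
    ((singleFunctors (ModuleCat.{u} R)).shiftIso (-i) i 0 (by omega)).app M
  refine ⟨M, inferInstance, inferInstance, hfp, e.inv ≫ Q.map g ≫ j.inv, ?_⟩
  rw [Functor.map_comp, Functor.map_comp]
  haveI h5 : Mono ((homologyFunctor (ModuleCat.{u} R) i).map j.inv) :=
    IsIso.mono_of_iso _
  haveI h6 : Mono ((homologyFunctor (ModuleCat.{u} R) i).map e.inv) :=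
    IsIso.mono_of_iso _
  haveI h7 := mono_comp ((homologyFunctor (ModuleCat.{u} R) i).map (Q.map g))
    ((homologyFunctor (ModuleCat.{u} R) i).map j.inv)
  exact mono_comp _ _

end Groth.Agent.S6988
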