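import Groth.Statements.S6989
import Groth.Agent.S6988
import Groth.Agent.Lib.Helper11.MPC12
import Mathlib.RingTheory.Filtration
open CategoryTheory Limits DerivedCategory Groth.Agent.Helper11.MPC

set_option autoImplicit false
universe u
open CategoryTheory CategoryTheory.Limits
attribute [local instance] HasDerivedCategory.standard
open DRing

namespace Groth.Agent.S6989

/-- Let A be a Noetherian commutative ring, K an object of D(A) whose cohomology vanishes in large
degrees and whose cohomology modules are all finitely generated, m a maximal ideal of A and i an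
integer such that m H^i(K) ≠ H^i(K). Then some finitely generated A-module E killed by a power of m
receives a morphism K → E[-i] in D(A) whose induced map H^i(K) → H^i(E[-i]) is nonzero. -/
theorem result (A : Type u) [CommRing A]
    [IsNoetherianRing A] (K : Dual.D A) (hb : ∃ b : ℤ, ∀ j : ℤ, b < j → Subsingleton (Dual.HD A K j))
    (hfin : ∀ j : ℤ, Module.Finite A (Dual.HD A K j)) (m : Ideal A) [m.IsMaximal] (i : ℤ)
    (hi : m • (⊤ : Submodule A (Dual.HD A K i)) ≠ ⊤) :
    ∃ (E : Type u) (_ : AddCommGroup E) (_ : Module A E) (_ : Module.Finite A E) (n : ℕ)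
      (_ : m ^ n • (⊤ : Submodule A E) = ⊥) (f : K ⟶ (shiftFunctor (Dual.D A) (-i)).obj (Dual.inD A E)),
      (DerivedCategory.homologyFunctor (ModuleCat.{u} A) i).map f ≠ 0 := by
  classical
  obtain ⟨b, hb⟩ := hb
  have hpc : DRing.IsPseudoCoherent' A K := by
    apply pc'_of_forall_mpc
    intro j
    rw [mpc_iff_of_noetherian]
    exact ⟨⟨b, fun l hl => by
      haveI := hb l hl
      exact ModuleCat.isZero_of_subsingleton _⟩, fun l _ => hfin l⟩
  obtain ⟨M, _, _, hMfp, f, hmono⟩ := Groth.Agent.S6988.result A K hpc i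
  let ν : ((DerivedCategory.singleFunctor (ModuleCat.{u} A) 0 ⋙ shiftFunctor (Dual.D A) (-i)) ⋙
      DerivedCategory.homologyFunctor (ModuleCat.{u} A) i) ≅ 𝟭 (ModuleCat.{u} A) :=
    Functor.isoWhiskerRight ((DerivedCategory.singleFunctors (ModuleCat.{u} A)).shiftIso (-i) i 0
      (by omega)) (DerivedCategory.homologyFunctor (ModuleCat.{u} A) i) ≪≫
    DerivedCategory.singleFunctorCompHomologyFunctorIso (ModuleCat.{u} A) i
  let g : (DerivedCategory.homologyFunctor (ModuleCat.{u} A) i).obj K ⟶ ModuleCat.of A M :=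
    (DerivedCategory.homologyFunctor (ModuleCat.{u} A) i).map f ≫ ν.hom.app (ModuleCat.of A M)
  haveI hm1 : Mono ((DerivedCategory.homologyFunctor (ModuleCat.{u} A) i).map f) := hmono
  haveI hm2 : Mono (ν.hom.app (ModuleCat.of A M)) := IsIso.mono_of_iso _
  haveI hgm : Mono g := mono_comp ((DerivedCategory.homologyFunctor (ModuleCat.{u} A) i).map f)
    (ν.hom.app (ModuleCat.of A M))
  have hginj : Function.Injective g.hom := (ModuleCat.mono_iff_injective g).1 hgm
  let H' : Submodule A M := LinearMap.range g.hom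
  obtain ⟨c, hc⟩ := Ideal.exists_pow_inf_eq_pow_smul m H'
  let N : Submodule A M := m ^ (c + 1) • ⊤
  have hnot : ¬ H' ≤ N := by
    intro hle
    apply hi
    have h1 : m ^ (c + 1) • ⊤ ⊓ H' = m ^ (c + 1 - c) • (m ^ c • ⊤ ⊓ H') := hc (c + 1) (by omega)
    have h2 : H' ≤ m • H' := by
      have h3 : H' ≤ m ^ (c + 1) • ⊤ ⊓ H' := le_inf hle le_rfl
      rw [h1] at h3
      have h4 : c + 1 - c = 1 := by omega
      rw [h4, pow_one] at h3
      exact h3.trans (Submodule.smul_mono le_rfl inf_le_right)
    have h5 : m • H' = H' := le_antisymm Submodule.smul_le_right h2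
    have h6 : H' = Submodule.map g.hom ⊤ := (Submodule.map_top g.hom).symm
    rw [h6, ← Submodule.map_smul''] at h5
    exact Submodule.map_injective_of_injective hginj h5
  refine ⟨M ⧸ N, inferInstance, inferInstance, inferInstance, c + 1, ?_,
    f ≫ ((DerivedCategory.singleFunctor (ModuleCat.{u} A) 0).map (ModuleCat.ofHom N.mkQ))⟦-i⟧', ?_⟩
  · rw [eq_bot_iff, Submodule.smul_le]
    intro r hr y _
    obtain ⟨y', rfl⟩ := N.mkQ_surjective y
    rw [Submodule.mem_bot, ← map_smul, Submodule.mkQ_apply, Submodule.Quotient.mk_eq_zero]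
    exact Submodule.smul_mem_smul hr Submodule.mem_top
  · intro h0
    apply hnot
    have nat : (DerivedCategory.homologyFunctor (ModuleCat.{u} A) i).map
                (((DerivedCategory.singleFunctor (ModuleCat.{u} A) 0).map
                  (ModuleCat.ofHom N.mkQ))⟦-i⟧') ≫ ν.hom.app (ModuleCat.of A (M ⧸ N)) =
        ν.hom.app (ModuleCat.of A M) ≫ ModuleCat.ofHom N.mkQ :=
      ν.hom.naturality (ModuleCat.ofHom N.mkQ)
    have hz : g ≫ ModuleCat.ofHom N.mkQ = 0 := by
      calc g ≫ ModuleCat.ofHom N.mkQ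
          = (DerivedCategory.homologyFunctor (ModuleCat.{u} A) i).map f ≫
              (ν.hom.app (ModuleCat.of A M) ≫ ModuleCat.ofHom N.mkQ) := Category.assoc _ _ _
        _ = (DerivedCategory.homologyFunctor (ModuleCat.{u} A) i).map f ≫
              ((DerivedCategory.homologyFunctor (ModuleCat.{u} A) i).map
                (((DerivedCategory.singleFunctor (ModuleCat.{u} A) 0).map
                  (ModuleCat.ofHom N.mkQ))⟦-i⟧') ≫ ν.hom.app (ModuleCat.of A (M ⧸ N))) := by
            rw [nat]
        _ = (DerivedCategory.homologyFunctor (ModuleCat.{u} A) i).map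
              (f ≫ ((DerivedCategory.singleFunctor (ModuleCat.{u} A) 0).map
                  (ModuleCat.ofHom N.mkQ))⟦-i⟧') ≫ ν.hom.app (ModuleCat.of A (M ⧸ N)) := by
            rw [Functor.map_comp, Category.assoc]
        _ = 0 := by rw [h0, zero_comp]
    rintro _ ⟨y, rfl⟩
    have h7 := congrArg (fun φ => φ.hom y) hz
    exact (Submodule.Quotient.mk_eq_zero N).1 h7


end Groth.Agent.S6989
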