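import Groth.Statements.S7000
import Groth.Agent.Lib.Helper11.DCExactH

set_option autoImplicit false
universe u
open CategoryTheory CategoryTheory.Limits
attribute [local instance] HasDerivedCategory.standard
open DRing

namespace Groth.Agent.S7000

/-- Let A → B be a flat homomorphism of commutative rings, m an integer and M an A-module. If M is
m-pseudo-coherent then the B-module B ⊗_A M is m-pseudo-coherent; if M is pseudo-coherent then B ⊗_A
M is pseudo-coherent. -/
theorem result {A B : Type u} [CommRing A] [CommRing B] [Algebra A B]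
    [Module.Flat A B] (m : ℤ) (M : Type u) [AddCommGroup M] [Module A M] :
    (DRing.IsPseudoCoherentModule A m M → DRing.IsPseudoCoherentModule B m (TensorProduct A B M)) ∧
      (DRing.IsPseudoCoherentModule' A M → DRing.IsPseudoCoherentModule' B (TensorProduct A B M)) := by
  rename_i i1 i2 inst i4 i5 i6
  obtain ⟨f, rfl⟩ : ∃ f : A →+* B, inst = f.toAlgebra :=
    ⟨algebraMap A B, Algebra.algebra_ext _ _ (fun r => rfl)⟩
  have hf : f.Flat := i4
  exact ⟨fun hM => Groth.Agent.Helper11.DC.flatBC_pcm f hf m (ModuleCat.of A M) hM,
    fun hM => Groth.Agent.Helper11.DC.flatBC_pc' f hf (ModuleCat.of A M) hM⟩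

end Groth.Agent.S7000
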