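import Groth.Statements.S7005
import Mathlib
import Groth.Agent.Lib.Helper2.RelFP2
-- import your own Groth.Agent.* helpers here

set_option autoImplicit false
universe u
open CAlg

namespace Groth.Agent.S7005

section
open Groth.Agent.Helper2.RelFP TensorProduct

attribute [local instance] MvPolynomial.algebraMvPolynomial

theorem main {R A A' : Type u} [CommRing R] [CommRing A]
    [CommRing A'] [Algebra R A] [Algebra A A'] [Algebra R A'] [IsScalarTower R A A'] [Algebra.FiniteType R A]
    [Algebra.FinitePresentation A A'] (M : Type u) [AddCommGroup M] [Module A M] {n k : ℕ}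
    (α : MvPolynomial (Fin n) R →ₐ[R] A) (hα : Function.Surjective α)
    (hM : @Module.FinitePresentation (MvPolynomial (Fin n) R) (M) _ _ (Module.compHom (M) α.toRingHom))
    (γ : MvPolynomial (Fin k) R →ₐ[R] A') (hγ : Function.Surjective γ) :
    @Module.FinitePresentation (MvPolynomial (Fin k) R) (TensorProduct A A' M) _ _ (Module.compHom (TensorProduct A A' M) γ.toRingHom) := by
  obtain ⟨l, φ, hφ, hkerφ⟩ := Algebra.FinitePresentation.out (R := A) (A := A')
  letI algPA : Algebra (MvPolynomial (Fin n) R) A := α.toRingHom.toAlgebra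
  -- step (i)
  have h1 := fp_tensor_of_isPushout' (P := MvPolynomial (Fin n) R)
    (B₁ := MvPolynomial (Fin l) (MvPolynomial (Fin n) R)) (A := A)
    (A₁ := MvPolynomial (Fin l) A) M hM
  -- step (ii)
  letI algA₁A' : Algebra (MvPolynomial (Fin l) A) A' := φ.toRingHom.toAlgebra
  have hβ : Function.Surjective (algebraMap (MvPolynomial (Fin l) (MvPolynomial (Fin n) R))
      (MvPolynomial (Fin l) A)) := MvPolynomial.map_surjective _ hα
  have h2 := fp_tensor_of_surjective (algebraMap (MvPolynomial (Fin l) (MvPolynomial (Fin n) R))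
      (MvPolynomial (Fin l) A)) hβ (A' := A') hφ hkerφ (MvPolynomial (Fin l) A ⊗[A] M) h1
  -- step (iii)
  haveI : IsScalarTower A (MvPolynomial (Fin l) A) A' :=
    IsScalarTower.of_algebraMap_eq' (RingHom.ext fun a => (φ.commutes a).symm)
  let e := AlgebraTensorModule.cancelBaseChange A (MvPolynomial (Fin l) A) A' A' M
  have h3 := fp_congr _ e h2
  -- step (iv)
  let β₁ : MvPolynomial (Fin l) (MvPolynomial (Fin n) R) →ₐ[R] A' :=
    (φ.restrictScalars R).comp (MvPolynomial.mapAlgHom α)
  have hβ₁ : Function.Surjective β₁ := hφ.comp hβ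
  haveI : Algebra.FinitePresentation R (MvPolynomial (Fin l) (MvPolynomial (Fin n) R)) :=
    Algebra.FinitePresentation.trans R (MvPolynomial (Fin n) R) _
  have h4 := indep (B := MvPolynomial (Fin l) (MvPolynomial (Fin n) R))
    (C := MvPolynomial (Fin k) R) β₁ hβ₁ γ hγ (A' ⊗[A] M)
  exact h4.mp h3

end

/-- Let R → A be a finite type homomorphism of commutative rings, α : R[x_1, ..., x_n] → A a surjective
R-algebra homomorphism and M an A-module which is finitely presented as an R[x_1, ..., x_n]-module
through α. Let A → A' be a ring homomorphism of finite presentation and γ : R[z_1, ..., z_k] → A' a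
surjective R-algebra homomorphism. Then A' ⊗_A M is finitely presented as an R[z_1, ..., z_k]-module
through γ. -/
theorem result {R A A' : Type u} [CommRing R] [CommRing A]
    [CommRing A'] [Algebra R A] [Algebra A A'] [Algebra R A'] [IsScalarTower R A A'] [Algebra.FiniteType R A]
    [Algebra.FinitePresentation A A'] (M : Type u) [AddCommGroup M] [Module A M] {n k : ℕ}
    (α : MvPolynomial (Fin n) R →ₐ[R] A) (hα : Function.Surjective α)
    (hM : @Module.FinitePresentation (MvPolynomial (Fin n) R) (M) _ _ (Module.compHom (M) α.toRingHom))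
    (γ : MvPolynomial (Fin k) R →ₐ[R] A') (hγ : Function.Surjective γ) :
    @Module.FinitePresentation (MvPolynomial (Fin k) R) (TensorProduct A A' M) _ _ (Module.compHom (TensorProduct A A' M) γ.toRingHom) := by
  exact Groth.Agent.S7005.main M α hα hM γ hγ

end Groth.Agent.S7005
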