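import Groth.Statements.S7007
import Mathlib
import Groth.Agent.Lib.Helper2.RelFP
-- import your own Groth.Agent.* helpers here

set_option autoImplicit false
universe u
open CAlg

namespace Groth.Agent.S7007

section
open Groth.Agent.Helper2.RelFP

theorem aux {R A : Type u} [CommRing R] [CommRing A] [Algebra R A]
    {n : ℕ} (α : MvPolynomial (Fin n) R →ₐ[R] A) (hα : Function.Surjective α) (M : Type u) [AddCommGroup M]
    [Module A M] {r : ℕ} (F : Fin r → MvPolynomial (Fin n) R)
    (hf : Ideal.span (Set.range (fun i => α (F i))) = ⊤) (k : Fin r → ℕ)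
    (γ : ∀ i, MvPolynomial (Fin (k i)) R →ₐ[R] Localization.Away (α (F i)))
    (hγ : ∀ i, Function.Surjective (γ i)) :
    @Module.FinitePresentation (MvPolynomial (Fin n) R) (M) _ _ (Module.compHom (M) α.toRingHom) ↔
      ∀ i, @Module.FinitePresentation (MvPolynomial (Fin (k i)) R)
        (LocalizedModule (Submonoid.powers (α (F i))) M) _ _
        (Module.compHom (LocalizedModule (Submonoid.powers (α (F i))) M) (γ i).toRingHom) := by
  have hsurj : ∀ i, Function.Surjective (Localization.awayMapₐ α (F i)) := fun i =>
    IsLocalization.Away.mapₐ_surjective_of_surjective (F i) hα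
  haveI : ∀ i, Algebra.FinitePresentation R (Localization.Away (F i)) := fun i =>
    Algebra.FinitePresentation.trans R (MvPolynomial (Fin n) R) _
  have key : ∀ i, @Module.FinitePresentation (Localization.Away (F i))
      (LocalizedModule (Submonoid.powers (α (F i))) M) _ _
      (Module.compHom _ (Localization.awayMapₐ α (F i)).toRingHom) ↔
      @Module.FinitePresentation (MvPolynomial (Fin (k i)) R)
        (LocalizedModule (Submonoid.powers (α (F i))) M) _ _
        (Module.compHom (LocalizedModule (Submonoid.powers (α (F i))) M) (γ i).toRingHom) :=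
    fun i => indep (B := Localization.Away (F i)) (C := MvPolynomial (Fin (k i)) R)
      (Localization.awayMapₐ α (F i)) (hsurj i) (γ i) (hγ i)
      (LocalizedModule (Submonoid.powers (α (F i))) M)
  constructor
  · intro h i
    exact (key i).mp (fp_localizedModule_of_fp α (F i) M h)
  · intro h
    letI : Module (MvPolynomial (Fin n) R) M := Module.compHom M α.toRingHom
    -- find h0
    have h1 : (1 : A) ∈ Ideal.map α.toRingHom (Ideal.span (Set.range F)) := by
      rw [Ideal.map_span, ← Set.range_comp]
      have : (α.toRingHom ∘ F) = fun i => α (F i) := rfl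
      rw [this, hf]
      trivial
    obtain ⟨p, hp, hp1⟩ := (Ideal.mem_map_iff_of_surjective α.toRingHom hα).mp h1
    have hp1' : α p = 1 := hp1
    set h0 : MvPolynomial (Fin n) R := 1 - p with hh0
    have hh0α : α h0 = 0 := by rw [hh0, map_sub, map_one, hp1', sub_self]
    have hspan : Ideal.span (insert h0 (Set.range F)) = ⊤ := by
      rw [Ideal.eq_top_iff_one]
      have e : (1 : MvPolynomial (Fin n) R) = h0 + p := by rw [hh0]; ring
      rw [e]
      refine Ideal.add_mem _ (Ideal.subset_span (Set.mem_insert _ _)) ?_
      exact Ideal.span_mono (Set.subset_insert _ _) hp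
    refine Module.FinitePresentation.of_localizationSpan (insert h0 (Set.range F)) hspan ?_
    rintro ⟨g, hg⟩
    rcases hg with rfl | ⟨i, rfl⟩
    · haveI : Subsingleton (LocalizedModule (Submonoid.powers h0) M) := by
        rw [LocalizedModule.subsingleton_iff]
        intro m
        refine ⟨h0, Submonoid.mem_powers _, ?_⟩
        show α h0 • m = 0
        rw [hh0α, zero_smul]
      infer_instance
    · exact fp_localizedModule_comp α (F i) M ((key i).mpr (h i))

theorem main {R A : Type u} [CommRing R] [CommRing A] [Algebra R A]
    {n : ℕ} (α : MvPolynomial (Fin n) R →ₐ[R] A) (hα : Function.Surjective α) (M : Type u) [AddCommGroup M]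
    [Module A M] {r : ℕ} (f : Fin r → A) (hf : Ideal.span (Set.range f) = ⊤) (k : Fin r → ℕ)
    (γ : ∀ i, MvPolynomial (Fin (k i)) R →ₐ[R] Localization.Away (f i)) (hγ : ∀ i, Function.Surjective (γ i)) :
    @Module.FinitePresentation (MvPolynomial (Fin n) R) (M) _ _ (Module.compHom (M) α.toRingHom) ↔
      ∀ i, @Module.FinitePresentation (MvPolynomial (Fin (k i)) R) (LocalizedModule (Submonoid.powers (f i)) M) _ _ (Module.compHom (LocalizedModule (Submonoid.powers (f i)) M) (γ i).toRingHom) := by
  choose F hF using fun i => hα (f i)
  obtain rfl : f = fun i => α (F i) := funext fun i => (hF i).symm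
  exact aux α hα M F hf k γ hγ

end

/-- Let R → A be a finite type homomorphism of commutative rings with a surjective R-algebra
homomorphism α : R[x_1, ..., x_n] → A, M an A-module, f_1, ..., f_r elements of A generating the
unit ideal, and for each i a surjective R-algebra homomorphism γ_i : R[z_1, ..., z_(k_i)] → A_(f_i).
Then M is finitely presented as an R[x_1, ..., x_n]-module through α if and only if, for every i,
the localization M_(f_i) is finitely presented as an R[z_1, ..., z_(k_i)]-module through γ_i. -/
theorem result {R A : Type u} [CommRing R] [CommRing A] [Algebra R A]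
    {n : ℕ} (α : MvPolynomial (Fin n) R →ₐ[R] A) (hα : Function.Surjective α) (M : Type u) [AddCommGroup M]
    [Module A M] {r : ℕ} (f : Fin r → A) (hf : Ideal.span (Set.range f) = ⊤) (k : Fin r → ℕ)
    (γ : ∀ i, MvPolynomial (Fin (k i)) R →ₐ[R] Localization.Away (f i)) (hγ : ∀ i, Function.Surjective (γ i)) :
    @Module.FinitePresentation (MvPolynomial (Fin n) R) (M) _ _ (Module.compHom (M) α.toRingHom) ↔
      ∀ i, @Module.FinitePresentation (MvPolynomial (Fin (k i)) R) (LocalizedModule (Submonoid.powers (f i)) M) _ _ (Module.compHom (LocalizedModule (Submonoid.powers (f i)) M) (γ i).toRingHom) := by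
  exact Groth.Agent.S7007.main α hα M f hf k γ hγ

end Groth.Agent.S7007
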