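import Groth.Statements.S7011
import Groth.Agent.Lib.Helper11.Lift9

set_option autoImplicit false
universe u
open CategoryTheory CategoryTheory.Limits
attribute [local instance] HasDerivedCategory.standard
open DRing

namespace Groth.Agent.S7011

/-- Let R be a commutative ring and I an ideal contained in the Jacobson radical of R (every element of
1 + I is a unit), such that the derived base change D(R) → D(R/I) exists. Let K be a pseudo-coherent
object of D(R) and E a bounded above cochain complex of finitely generated stably free R/I-modules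
which is isomorphic in D(R/I) to K ⊗^L_R R/I. Then there is a bounded above cochain complex P of
finitely generated stably free R-modules, isomorphic to K in D(R), whose termwise reduction P ⊗_R
R/I is isomorphic to E as a complex, and such that P^i is free for every i for which E^i is free. -/
theorem result (R : Type u) [CommRing R] (I : Ideal R)
    (hI : I ≤ Ideal.jacobson (⊥ : Ideal R)) [DRing.HasLBaseChange (Ideal.Quotient.mk I)] (K : Dual.D R)
    (hK : DRing.IsPseudoCoherent' R K) (E : DRing.Cx (R ⧸ I)) (b : ℤ) (hEb : DRing.VanishesAbove E b)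
    (hEs : ∀ i : ℤ, Module.Finite (R ⧸ I) (E.X i) ∧ Module.IsStablyFree (R ⧸ I) (E.X i))
    (hE : Nonempty (DRing.toD E ≅ (DRing.LBaseChange (Ideal.Quotient.mk I)).obj K)) :
    ∃ (P : DRing.Cx R) (b' : ℤ), DRing.VanishesAbove P b' ∧
      (∀ i : ℤ, Module.Finite R (P.X i) ∧ Module.IsStablyFree R (P.X i)) ∧
      Nonempty (DRing.toD P ≅ K) ∧ Nonempty ((((ModuleCat.extendScalars (Ideal.Quotient.mk I)).mapHomologicalComplex (ComplexShape.up ℤ)).obj P) ≅ E) ∧
      ∀ i : ℤ, Module.Free (R ⧸ I) (E.X i) → Module.Free R (P.X i) := by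
  classical
  obtain ⟨Q, c, hQc, hQ, ⟨eQ⟩⟩ := hK
  let Pc : ObjectProperty (ModuleCat.{u} R) :=
    fun X => Module.Finite R X ∧ Module.IsStablyFree R X
  haveI : Pc.IsClosedUnderIsomorphisms := ⟨fun {X Y} e h => by
    haveI := h.1
    haveI := h.2
    exact ⟨Module.Finite.equiv e.toLinearEquiv, Module.IsStablyFree.equiv e.toLinearEquiv⟩⟩
  have h1 : ∀ X : ModuleCat.{u} R, Pc X → Module.Projective R X := fun X h => by
    haveI := h.2
    infer_instance
  have h2 : ∀ X Y : ModuleCat.{u} R, Pc X → (Pc (ModuleCat.of R (X × Y)) ↔ Pc Y) := by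
    intro X Y hX
    haveI := hX.1
    haveI := hX.2
    obtain ⟨N', _, _, _, _, hfreeXN'⟩ := Module.IsStablyFree.exist_free_prod R X
    constructor
    · intro hXY
      haveI : Module.Finite R (X × Y) := hXY.1
      haveI : Module.IsStablyFree R (X × Y) := hXY.2
      obtain ⟨N, _, _, _, _, hfreeXYN⟩ := Module.IsStablyFree.exist_free_prod R (X × Y)
      refine ⟨Module.Finite.of_surjective (LinearMap.snd R X Y) LinearMap.snd_surjective, ?_⟩
      let eq : (((X × Y) × N) × N') ≃ₗ[R] (Y × ((X × N') × N)) :=
        { toFun := fun z => (z.1.1.2, ((z.1.1.1, z.2), z.1.2))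
          invFun := fun w => (((w.2.1.1, w.1), w.2.2), w.2.1.2)
          map_add' := fun _ _ => rfl
          map_smul' := fun _ _ => rfl
          left_inv := fun _ => rfl
          right_inv := fun _ => rfl }
      haveI : Module.Free R (Y × ((X × N') × N)) := Module.Free.of_equiv eq
      exact Module.IsStablyFree.of_free_prod R Y ((X × N') × N)
    · intro hY
      haveI := hY.1
      haveI := hY.2
      obtain ⟨N'', _, _, _, _, hfreeYN''⟩ := Module.IsStablyFree.exist_free_prod R Y
      refine ⟨inferInstanceAs (Module.Finite R (X × Y)), ?_⟩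
      haveI : Module.Free R ((X × Y) × (N' × N'')) :=
        Module.Free.of_equiv (LinearEquiv.prodProdProdComm R X Y N' N'').symm
      exact Module.IsStablyFree.of_free_prod R (X × Y) (N' × N'')
  have h3 : ∀ (X Y : ModuleCat.{u} R) (f : X ⟶ Y), Pc X → Pc Y →
      LinearMap.range f.hom ⊔ I • (⊤ : Submodule R Y) = ⊤ → Function.Surjective f.hom :=
    fun X Y f _ hY h => by
      haveI := hY.1
      exact Groth.Agent.Helper11.Lift.surjective_of_jacobson hI f.hom h
  have hlift : ∀ i : ℤ, ∃ X : ModuleCat.{u} R, Pc X ∧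
      Nonempty (TensorProduct R (R ⧸ I) X ≃ₗ[R ⧸ I] E.X i) ∧
      (Module.Free (R ⧸ I) (E.X i) → Module.Free R X) := by
    intro i
    haveI := (hEs i).1
    haveI := (hEs i).2
    by_cases hf : Module.Free (R ⧸ I) (E.X i)
    · obtain ⟨F, hF1, hF2, hF3⟩ := Groth.Agent.Helper11.Lift.exists_free_lift (I := I) (E.X i)
      exact ⟨F, ⟨hF1, inferInstance⟩, hF3, fun _ => hF2⟩
    · obtain ⟨X, hX1, hX2, hX3⟩ :=
        Groth.Agent.Helper11.Lift.exists_stablyFree_lift hI (E.X i)
      exact ⟨X, ⟨hX1, hX2⟩, hX3, fun h => absurd h hf⟩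
  choose X hX he hfree using hlift
  obtain ⟨d, sq, hv, hiso, hred⟩ := Groth.Agent.Helper11.Lift.exists_representative Pc Q E X
    (fun i => (he i).some) h1 h2 h3 K c hQc
    (fun i => by
      haveI := (hQ i).2
      exact ⟨(hQ i).1, inferInstance⟩) eQ b hEb hX hE
  exact ⟨CochainComplex.of X d sq, max b (c + 1), hv, fun i => hX i, hiso, hred,
    fun i h => hfree i h⟩

end Groth.Agent.S7011
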