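import Groth.Statements.S7015
import Mathlib

set_option autoImplicit false
universe u
open CategoryTheory MonoidalCategory
open DRing

namespace Groth.Agent.S7015

open TensorProduct in
theorem fin_proj_of_dualBasis {R : Type u} [CommRing R] {P : Type u} [AddCommGroup P] [Module R P]
    {ι : Type*} (S : Finset ι) (x : ι → P) (φ : ι → (P →ₗ[R] R))
    (h : ∀ p : P, ∑ i ∈ S, φ i p • x i = p) : Module.Finite R P ∧ Module.Projective R P := by
  classical
  let i : P →ₗ[R] (S → R) := LinearMap.pi fun j => φ j.1
  let s : (S → R) →ₗ[R] P := Fintype.linearCombination R (fun j : S => x j.1)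
  have hsi : s ∘ₗ i = LinearMap.id := by
    ext p
    simp only [LinearMap.comp_apply, LinearMap.id_apply, i, s]
    rw [Fintype.linearCombination_apply]
    simp only [LinearMap.pi_apply]
    rw [Finset.sum_coe_sort S (fun j => φ j p • x j)]
    exact h p
  refine ⟨?_, Module.Projective.of_split i s hsi⟩
  exact Module.Finite.of_surjective s (fun p => ⟨i p, LinearMap.congr_fun hsi p⟩)

/-- Let R be a commutative ring and M, N R-modules such that N is a left dual of M for the tensor
product of R-modules, i.e. there are a coevaluation R → M ⊗ N and an evaluation N ⊗ M → R satisfying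
the triangle identities (an exact pairing). Then M and N are finitely generated projective
R-modules. -/
theorem result (R : Type u) [CommRing R] (M N : Type u) [AddCommGroup M]
    [Module R M] [AddCommGroup N] [Module R N] [ExactPairing (ModuleCat.of R M) (ModuleCat.of R N)] :
    Module.Finite R M ∧ Module.Projective R M ∧ Module.Finite R N ∧ Module.Projective R N := by
  classical
  let η : R →ₗ[R] TensorProduct R M N :=
    (ExactPairing.coevaluation (ModuleCat.of R M) (ModuleCat.of R N)).hom
  let ε : TensorProduct R N M →ₗ[R] R :=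
    (ExactPairing.evaluation (ModuleCat.of R M) (ModuleCat.of R N)).hom
  obtain ⟨S, hS⟩ := TensorProduct.exists_finset (η 1)
  have hM : ∀ m : M, ∑ i ∈ S, ε (i.2 ⊗ₜ m) • i.1 = m := by
    intro m
    have h1 := ExactPairing.evaluation_coevaluation (ModuleCat.of R M) (ModuleCat.of R N)
    have h2 := congrArg (fun f => ModuleCat.Hom.hom f) h1
    simp only [ModuleCat.hom_comp, ModuleCat.hom_whiskerRight,
      ModuleCat.hom_hom_associator, ModuleCat.hom_whiskerLeft,
      ModuleCat.hom_hom_leftUnitor,
      ModuleCat.hom_inv_rightUnitor] at h2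
    have h3 := LinearMap.congr_fun h2 ((1 : R) ⊗ₜ[R] m)
    simp only [LinearMap.comp_apply, LinearMap.rTensor_tmul, LinearEquiv.coe_coe,
      TensorProduct.lid_tmul, one_smul, TensorProduct.rid_symm_apply] at h3
    have e1 : (LinearMap.rTensor M η) ((1:R) ⊗ₜ[R] m) = η 1 ⊗ₜ[R] m :=
      LinearMap.rTensor_tmul _ _ _ _
    have e2 : (TensorProduct.lid R M) ((1:R) ⊗ₜ[R] m) = m := by
      rw [TensorProduct.lid_tmul, one_smul]
    replace h3 : (LinearMap.lTensor M ε) ((TensorProduct.assoc R M N M) (η 1 ⊗ₜ[R] m))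
        = m ⊗ₜ[R] (1:R) := by
      rw [e2] at h3; rw [← e1]; exact h3
    rw [hS, TensorProduct.sum_tmul, map_sum, map_sum] at h3
    simp only [TensorProduct.assoc_tmul, LinearMap.lTensor_tmul] at h3
    have h4 := congrArg (TensorProduct.rid R M) h3
    simp only [map_sum, TensorProduct.rid_tmul, one_smul] at h4
    exact h4
  have hN : ∀ n : N, ∑ i ∈ S, ε (n ⊗ₜ i.1) • i.2 = n := by
    intro n
    have h1 := ExactPairing.coevaluation_evaluation (ModuleCat.of R M) (ModuleCat.of R N)
    have h2 := congrArg (fun f => ModuleCat.Hom.hom f) h1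
    simp only [ModuleCat.hom_comp, ModuleCat.hom_whiskerRight,
      ModuleCat.hom_inv_associator, ModuleCat.hom_whiskerLeft,
      ModuleCat.hom_inv_leftUnitor,
      ModuleCat.hom_hom_rightUnitor] at h2
    have h3 := LinearMap.congr_fun h2 (n ⊗ₜ[R] (1 : R))
    simp only [LinearMap.comp_apply, LinearMap.lTensor_tmul, LinearEquiv.coe_coe,
      TensorProduct.rid_tmul, one_smul, TensorProduct.lid_symm_apply] at h3
    have e1 : (LinearMap.lTensor N η) (n ⊗ₜ[R] (1:R)) = n ⊗ₜ[R] η 1 :=
      LinearMap.lTensor_tmul _ _ _ _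
    have e2 : (TensorProduct.rid R N) (n ⊗ₜ[R] (1:R)) = n := by
      rw [TensorProduct.rid_tmul, one_smul]
    replace h3 : (LinearMap.rTensor N ε) ((TensorProduct.assoc R N M N).symm (n ⊗ₜ[R] η 1))
        = (1:R) ⊗ₜ[R] n := by
      rw [e2] at h3; rw [← e1]; exact h3
    rw [hS, TensorProduct.tmul_sum, map_sum, map_sum] at h3
    simp only [TensorProduct.assoc_symm_tmul, LinearMap.rTensor_tmul] at h3
    have h4 := congrArg (TensorProduct.lid R N) h3
    simp only [map_sum, TensorProduct.lid_tmul, one_smul] at h4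
    exact h4
  obtain ⟨h1, h2⟩ := fin_proj_of_dualBasis S (fun i => i.1)
    (fun i => ε ∘ₗ (TensorProduct.mk R N M i.2)) hM
  obtain ⟨h3, h4⟩ := fin_proj_of_dualBasis S (fun i => i.2)
    (fun i => ε ∘ₗ (TensorProduct.mk R N M).flip i.1) hN
  exact ⟨h1, h2, h3, h4⟩

end Groth.Agent.S7015
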