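import Groth.Statements.S7023
import Groth.Agent.Lib.Helper11.MPC12
open CategoryTheory Limits DerivedCategory Groth.Agent.Helper11.MPC Groth.Agent.Helper11.DC Groth.Agent.Helper11.GenRes Groth.Agent.Helper11.TA

set_option autoImplicit false
universe u
open CategoryTheory CategoryTheory.Limits
attribute [local instance] HasDerivedCategory.standard
open DerCA

namespace Groth.Agent.S7023

/-- Let R → A be a finite type homomorphism of commutative rings, m an integer and K a bounded above
cochain complex of A-modules such that the module K^i is (m - i)-pseudo-coherent relative to R for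
every i. Then K is m-pseudo-coherent relative to R. Moreover, K is pseudo-coherent over R as soon as
each of its terms K^i is so. -/
theorem result {R A : Type u} [CommRing R] [CommRing A] [Algebra R A] [Algebra.FiniteType R A] (m : ℤ) (K : DRing.Cx A) (b : ℤ)
    (hb : DRing.VanishesAbove K b) :
    ((∀ i : ℤ, DerCA.IsRelPseudoCoherentModule R A (m - i) (K.X i)) → DerCA.IsRelPseudoCoherent R A m (DRing.toD K)) ∧
      ((∀ i : ℤ, DerCA.IsRelPseudoCoherentModuleAll R A (K.X i)) →
        DerCA.IsRelPseudoCoherentAll R A (DRing.toD K)) := by
  obtain ⟨n, α, hα⟩ := exists_presentation (R := R) (A := A)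
  let φ : MvPolynomial (Fin n) R →+* A := (α : MvPolynomial (Fin n) R →+* A)
  have key : ∀ m' : ℤ, (∀ i : ℤ, DerCA.IsRelPseudoCoherentModule R A (m' - i) (K.X i)) →
      DerCA.IsRelPseudoCoherent R A m' (DRing.toD K) := by
    intro m' h
    rw [rel_iff_via α hα]
    refine mpc_of_iso ((ModuleCat.restrictScalars.{u} φ).mapDerivedCategoryFactors.app K).symm ?_
    refine mpc_of_terms _ b (fun i hi => (ModuleCat.restrictScalars.{u} φ).map_isZero (hb i hi))
      (fun i => mpc_single_of_module _ ?_)
    have h1 := (rel_iff_via α hα (m' - i) _).mp (h i)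
    exact (mpc_restrict_single_iff φ (K.X i) (m' - i)).mp h1
  exact ⟨key m, fun h m' => key m' (fun i => h i (m' - i))⟩

end Groth.Agent.S7023
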