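import Groth.Statements.S7024
import Groth.Agent.Lib.Helper11.MPC12
open CategoryTheory Limits DerivedCategory Groth.Agent.Helper11.MPC Groth.Agent.Helper11.DC Groth.Agent.Helper11.GenRes Groth.Agent.Helper11.TA

set_option autoImplicit false
universe u
open CategoryTheory CategoryTheory.Limits
attribute [local instance] HasDerivedCategory.standard
open DerCA

namespace Groth.Agent.S7024

/-- Let R → A be a finite type homomorphism of commutative rings, m an integer and K an object of D(A)
whose cohomology vanishes in large degrees. If the module H^i(K) is (m - i)-pseudo-coherent relative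
to R for every i, then K is m-pseudo-coherent relative to R. Moreover, K is relatively
pseudo-coherent over R as soon as each cohomology module H^i(K) has this property over R. -/
theorem result {R A : Type u} [CommRing R] [CommRing A] [Algebra R A] [Algebra.FiniteType R A] (m : ℤ) (K : Dual.D A)
    (hb : ∃ b : ℤ, ∀ i : ℤ, b < i → Subsingleton (Dual.HD A K i)) :
    ((∀ i : ℤ, DerCA.IsRelPseudoCoherentModule R A (m - i) (Dual.HD A K i)) → DerCA.IsRelPseudoCoherent R A m K) ∧
      ((∀ i : ℤ, DerCA.IsRelPseudoCoherentModuleAll R A (Dual.HD A K i)) → DerCA.IsRelPseudoCoherentAll R A K) := by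
  obtain ⟨n, α, hα⟩ := exists_presentation (R := R) (A := A)
  let φ : MvPolynomial (Fin n) R →+* A := (α : MvPolynomial (Fin n) R →+* A)
  obtain ⟨b, hb⟩ := hb
  have hK : ∀ i : ℤ, b < i → IsZero ((homologyFunctor (ModuleCat.{u} (MvPolynomial (Fin n) R)) i).obj
      ((DRing.restrictD φ).obj K)) := fun i hi => by
    rw [isZero_homology_restrict_iff]
    haveI := hb i hi
    exact ModuleCat.isZero_of_subsingleton _
  have key : ∀ m' : ℤ, (∀ i : ℤ, DerCA.IsRelPseudoCoherentModule R A (m' - i) (Dual.HD A K i)) →
      DerCA.IsRelPseudoCoherent R A m' K := by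
    intro m' h
    rw [rel_iff_via α hα]
    refine mpc_of_homology _ b hK (fun i _ => mpc_single_of_module _ ?_)
    have h1 := (rel_iff_via α hα (m' - i) _).mp (h i)
    have h2 := (mpc_restrict_single_iff φ _ (m' - i)).mp h1
    exact mpc_of_iso ((singleFunctor (ModuleCat.{u} (MvPolynomial (Fin n) R)) 0).mapIso
      (homologyRestrictIso φ K i).symm) h2
  exact ⟨key m, fun h m' => key m' (fun i => h i (m' - i))⟩

end Groth.Agent.S7024
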