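import Groth.Statements.S7026
import Groth.Agent.Lib.Helper11.MPC12
open CategoryTheory Limits DerivedCategory Groth.Agent.Helper11.MPC Groth.Agent.Helper11.DC Groth.Agent.Helper11.GenRes Groth.Agent.Helper11.TA

set_option autoImplicit false
universe u
open CategoryTheory CategoryTheory.Limits
attribute [local instance] HasDerivedCategory.standard
open DerCA

namespace Groth.Agent.S7026

/-- Let R be a Noetherian commutative ring, R → A a finite type ring homomorphism, m an integer, K an
object of D(A) and M an A-module. Then: m-pseudo-coherence of K relative to R is equivalent to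
H^i(K) vanishing for all large i together with H^i(K) being a finitely generated A-module for each i
≥ m; pseudo-coherence of K relative to R (every degree) is equivalent to the same with H^i(K)
finitely generated for every i; and the A-module M is pseudo-coherent relative to R exactly when M
is finitely generated. -/
theorem result {R A : Type u} [CommRing R]
    [IsNoetherianRing R] [CommRing A] [Algebra R A] [Algebra.FiniteType R A] (m : ℤ) (K : Dual.D A)
    (M : Type u) [AddCommGroup M] [Module A M] :
    (DerCA.IsRelPseudoCoherent R A m K ↔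
      (∃ b : ℤ, ∀ i : ℤ, b < i → Subsingleton (Dual.HD A K i)) ∧ ∀ i : ℤ, m ≤ i → Module.Finite A (Dual.HD A K i)) ∧
    (DerCA.IsRelPseudoCoherentAll R A K ↔
      (∃ b : ℤ, ∀ i : ℤ, b < i → Subsingleton (Dual.HD A K i)) ∧ ∀ i : ℤ, Module.Finite A (Dual.HD A K i)) ∧
    (DerCA.IsRelPseudoCoherentModuleAll R A M ↔ Module.Finite A M) := by
  obtain ⟨n, α, hα⟩ := exists_presentation (R := R) (A := A)
  let φ : MvPolynomial (Fin n) R →+* A := (α : MvPolynomial (Fin n) R →+* A)
  have hz : ∀ i : ℤ, IsZero ((Hf (MvPolynomial (Fin n) R) i).obj ((DRing.restrictD φ).obj K)) ↔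
      Subsingleton (Dual.HD A K i) := fun i => by
    rw [isZero_homology_restrict_iff]
    constructor
    · intro h
      exact ModuleCat.subsingleton_of_isZero h
    · intro h
      exact ModuleCat.isZero_of_subsingleton _
  have hf : ∀ i : ℤ, Module.Finite (MvPolynomial (Fin n) R)
      ((Hf (MvPolynomial (Fin n) R) i).obj ((DRing.restrictD φ).obj K)) ↔
      Module.Finite A (Dual.HD A K i) := fun i => by
    rw [← finite_restrict_iff φ hα ((Hf A i).obj K)]
    constructor
    · intro h
      exact Module.Finite.equiv (homologyRestrictIso φ K i).toLinearEquiv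
    · intro h
      exact Module.Finite.equiv (homologyRestrictIso φ K i).symm.toLinearEquiv
  have key : ∀ m' : ℤ, DerCA.IsRelPseudoCoherent R A m' K ↔
      (∃ b : ℤ, ∀ i : ℤ, b < i → Subsingleton (Dual.HD A K i)) ∧
        ∀ i : ℤ, m' ≤ i → Module.Finite A (Dual.HD A K i) := by
    intro m'
    rw [rel_iff_via α hα]
    unfold DerCA.IsRelPseudoCoherentVia
    rw [mpc_iff_of_noetherian]
    constructor
    · rintro ⟨⟨b, hb⟩, hfin⟩
      exact ⟨⟨b, fun i hi => (hz i).mp (hb i hi)⟩, fun i hi => (hf i).mp (hfin i hi)⟩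
    · rintro ⟨⟨b, hb⟩, hfin⟩
      exact ⟨⟨b, fun i hi => (hz i).mpr (hb i hi)⟩, fun i hi => (hf i).mpr (hfin i hi)⟩
  refine ⟨key m, ⟨fun h => ⟨((key 0).mp (h 0)).1, fun i => ((key i).mp (h i)).2 i le_rfl⟩,
    fun h m' => (key m').mpr ⟨h.1, fun i _ => h.2 i⟩⟩, ?_⟩
  let N : ModuleCat.{u} A := ModuleCat.of A M
  have hj : ∀ j : ℤ, DerCA.IsRelPseudoCoherentModule R A j M ↔
      DRing.IsPseudoCoherent (MvPolynomial (Fin n) R) j
        ((singleFunctor (ModuleCat.{u} (MvPolynomial (Fin n) R)) 0).obj
          ((ModuleCat.restrictScalars.{u} φ).obj N)) := fun j =>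
    (rel_iff_via α hα j _).trans (mpc_restrict_single_iff φ N j)
  constructor
  · intro h
    have h0 := (hj 0).mp (h 0)
    have h1 : Module.Finite (MvPolynomial (Fin n) R) ((ModuleCat.restrictScalars.{u} φ).obj N) :=
      finite_of_pc0 ((ModuleCat.restrictScalars.{u} φ).obj N) h0
    exact (finite_restrict_iff φ hα N).mp h1
  · intro h j
    have h1 : Module.Finite (MvPolynomial (Fin n) R) ((ModuleCat.restrictScalars.{u} φ).obj N) :=
      (finite_restrict_iff φ hα N).mpr h
    exact (hj j).mpr (mpc_of_pc' (@isPseudoCoherentModule'_of_finite _ _ _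
      ((ModuleCat.restrictScalars.{u} φ).obj N) _ _ h1) j)

end Groth.Agent.S7026
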