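import Groth.Statements.S7031
import Groth.Agent.Lib.Helper11.DCRegular
import Groth.Agent.Lib.Helper11.DCTopHom
open Groth.Agent.Helper11.DC

set_option autoImplicit false
universe u
open CategoryTheory CategoryTheory.Limits
attribute [local instance] HasDerivedCategory.standard
open DRing

namespace Groth.Agent.S7031

/-- Let R be a regular commutative ring (Noetherian, with regular local rings at all primes) such that
the derived tensor product - ⊗^L_R M exists on D(R) for every R-module M, and let K be an object of
D(R). Then K is perfect if and only if H^i(K) = 0 outside a bounded range of degrees and every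
H^i(K) is a finitely generated R-module. -/
theorem result (R : Type u) [CommRing R] [IsNoetherianRing R]
    (hreg : ∀ p : PrimeSpectrum R, IsRegularLocalRing (Localization.AtPrime p.asIdeal)) [∀ M : ModuleCat.{u} R, DRing.HasLTensor R M] (K : Dual.D R) :
    DRing.IsPerfect R K ↔
      (∃ a b : ℤ, ∀ i : ℤ, (i < a ∨ b < i) → Subsingleton (Dual.HD R K i)) ∧ ∀ i : ℤ, Module.Finite R (Dual.HD R K i) := by
  constructor
  · rintro ⟨E, a, b, hE, hfp, ⟨e⟩⟩
    refine ⟨⟨a, b, fun i hi => ?_⟩, fun i => ?_⟩
    · have hz := isZero_homology_of_isZero_X E i (hE i hi)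
      exact ModuleCat.subsingleton_of_isZero
        (Limits.IsZero.of_iso hz ((DerivedCategory.homologyFunctor (ModuleCat.{u} R) i).mapIso e.symm))
    · have h1 := homology_finite_of_finite_term E i (hfp i).1
      exact Module.Finite.equiv
        ((DerivedCategory.homologyFunctor (ModuleCat.{u} R) i).mapIso e).toLinearEquiv
  · rintro ⟨⟨a, b, hab⟩, hfin⟩
    haveI : IsRegularRing R := isRegularRing_iff.mpr (fun p hp => hreg ⟨p, hp⟩)
    refine isPerfect_of_homology_aux (b - a).toNat K a b (by omega) ?_ ?_
    · intro i hi
      have := hab i hi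
      exact ModuleCat.isZero_of_subsingleton _
    · intro i
      have := hfin i
      obtain ⟨d, hd⟩ :=
        Groth.Agent.Lead.PD.exists_hasProjectiveDimensionLE_of_isRegularRing (A := R)
          (Dual.HD R K i)
      exact isPerfect_of_hasProjectiveDimensionLT d (ModuleCat.of R (Dual.HD R K i)) (hfin i) hd

end Groth.Agent.S7031
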