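import Groth.Statements.S7035
import Groth.Agent.Lib.Helper11.Proj3
import Groth.Agent.Lib.Helper11.RelPerfBC
import Groth.Agent.S6974

set_option autoImplicit false
universe u
open CategoryTheory CategoryTheory.Limits
attribute [local instance] HasDerivedCategory.standard
open DRing

namespace Groth.Agent.S7035

/-- Let A → B be a flat homomorphism of commutative rings and d a natural number such that for every
prime p of A, with residue field κ(p), every module over κ(p) ⊗_A B has projective dimension at most
d; assume the derived tensor products - ⊗^L M exist on D(κ(p) ⊗_A B) for all p and the derived base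
changes D(B) → D(B/m) exist for all ideals m of B. Let a, b be integers and K an object of D(B)
which is pseudo-coherent over B and, with scalars restricted to A, has tor amplitude in [a, b]. Then
K is perfect over B and has tor amplitude in [a - d, b] over B. -/
theorem result {A B : Type u} [CommRing A] [CommRing B] [Algebra A B]
    [Module.Flat A B] (d : ℕ)
    (hgl : ∀ (p : PrimeSpectrum A) (M : Type u) [AddCommGroup M]
      [Module (TensorProduct A p.asIdeal.ResidueField B) M],
      HasProjectiveDimensionLT (ModuleCat.of (TensorProduct A p.asIdeal.ResidueField B) M) (d + 1))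
    [∀ (p : PrimeSpectrum A) (M : ModuleCat.{u} (TensorProduct A p.asIdeal.ResidueField B)),
      DRing.HasLTensor (TensorProduct A p.asIdeal.ResidueField B) M]
    [∀ m : Ideal B, DRing.HasLBaseChange (Ideal.Quotient.mk m)] (a b : ℤ) (K : Dual.D B)
    (hK : DRing.IsPseudoCoherent' B K)
    (hKa : DRing.HasTorAmplitudeIn A a b ((DRing.restrictD (algebraMap A B)).obj K)) :
    DRing.IsPerfect B K ∧ DRing.HasTorAmplitudeIn B (a - d) b K := by
  obtain ⟨T, c, hTc, hTf, ⟨e⟩⟩ := hK
  have hTp : ∀ i, Module.Projective B (T.X i) := fun i => by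
    haveI := (hTf i).2
    infer_instance
  have hTflat : ∀ i, Module.Flat B (T.X i) := fun i => by
    haveI := hTp i
    infer_instance
  haveI : T.IsKProjective :=
    Groth.Agent.Helper11.DC.isKProjective_of_vanishesAbove T c hTc hTp
  have hrsflat : ∀ i, Module.Flat A (((Groth.Agent.Helper11.Dev.rsC (algebraMap A B)).obj T).X i) :=
    fun i => by
      haveI := hTflat i
      exact Groth.Agent.Helper11.RPBC.flat_restrictScalars A B (T.X i)
  have hrsc : DRing.VanishesAbove ((Groth.Agent.Helper11.Dev.rsC (algebraMap A B)).obj T) c :=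
    fun i hi => (ModuleCat.restrictScalars.{u} (algebraMap A B)).map_isZero (hTc i hi)
  have eR : DerivedCategory.Q.obj ((Groth.Agent.Helper11.Dev.rsC (algebraMap A B)).obj T) ≅
      (DRing.restrictD (algebraMap A B)).obj K :=
    ((ModuleCat.restrictScalars.{u} (algebraMap A B)).mapDerivedCategoryFactors.app T).symm ≪≫
      (DRing.restrictD (algebraMap A B)).mapIso e
  have hTV : Groth.Agent.Helper11.TA.TorVanCx a b
      ((Groth.Agent.Helper11.Dev.rsC (algebraMap A B)).obj T) :=
    Groth.Agent.Helper11.TA.torVanCx_of_torVan
      (Groth.Agent.Helper11.TA.torVan_of_hasTorAmplitudeIn hKa) _ c hrsc hrsflat eR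
  refine Groth.Agent.S6974.result B K ⟨T, c, hTc, hTf, ⟨e⟩⟩ (a - d) b (fun m hm i hi => ?_)
  haveI := hm
  rw [Groth.Agent.Helper11.Dev.subsingleton_HD_LBaseChange_iff (Ideal.Quotient.mk m) T K e i,
    ← Groth.Agent.Helper11.Dev.isZero_homology_tens_quot_iff]
  exact Groth.Agent.Helper11.ProjF.isZero_homology_tens_quot_of_glDim d hgl T hTflat a b hTV m i hi

end Groth.Agent.S7035
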