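import Groth.Statements.S7038
import Groth.Agent.Lib.Helper11.PowTorsion

set_option autoImplicit false
universe u
open LocCoh

namespace Groth.Agent.S7038

/-- For an ideal I of a commutative ring R and an R-module M, if every element of M is killed by a power
of I then the support of M is contained in the closed set V(I); conversely, when I is finitely
generated and the support of M is contained in V(I), every element of M is killed by a power of I.
(Finite generation is used only for the converse.) -/
theorem result {R : Type u} [CommRing R] (I : Ideal R)
    (M : Type u) [AddCommGroup M] [Module R M] :
    (LocCoh.IsPowerTorsion I M → Module.support R M ⊆ PrimeSpectrum.zeroLocus (I : Set R)) ∧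
    (I.FG → Module.support R M ⊆ PrimeSpectrum.zeroLocus (I : Set R) → LocCoh.IsPowerTorsion I M) := by
  exact ⟨Groth.Agent.Helper11.support_subset_zeroLocus_of_isPowerTorsion I M,
    fun hI h => Groth.Agent.Helper11.isPowerTorsion_of_support_subset_zeroLocus I hI M h⟩

end Groth.Agent.S7038
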