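import Groth.Statements.S7041
import Mathlib

set_option autoImplicit false
universe u
open TensorProduct
open LocCoh

namespace Groth.Agent.S7041

/-- Let R → R' be a homomorphism of commutative rings and I an ideal of R such that the induced map
R/I^n → R'/I^n R' is bijective for every n > 0. Then for every R-module M in which every element is
killed by a power of I, the map M → R' ⊗_R M sending m to 1 ⊗ m is bijective. -/
theorem result {R R' : Type u} [CommRing R] [CommRing R'] [Algebra R R']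
    (I : Ideal R)
    (hq : ∀ n : ℕ, 0 < n → Function.Bijective
      (Ideal.quotientMap (Ideal.map (algebraMap R R') (I ^ n)) (algebraMap R R') Ideal.le_comap_map))
    (M : Type u) [AddCommGroup M] [Module R M] (hM : LocCoh.IsPowerTorsion I M) :
    Function.Bijective (fun m : M => (1 : R') ⊗ₜ[R] m) := by
  classical
  -- reformulations of the hypothesis
  have hsurj : ∀ n : ℕ, 0 < n → ∀ r' : R', ∃ r : R,
      algebraMap R R' r - r' ∈ Ideal.map (algebraMap R R') (I ^ n) := by
    intro n hn r'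
    obtain ⟨q, hq'⟩ := (hq n hn).2 (Ideal.Quotient.mk _ r')
    obtain ⟨r, rfl⟩ := Ideal.Quotient.mk_surjective q
    rw [Ideal.quotientMap_mk] at hq'
    exact ⟨r, Ideal.Quotient.eq.1 hq'⟩
  have hinj : ∀ n : ℕ, 0 < n → ∀ r : R,
      algebraMap R R' r ∈ Ideal.map (algebraMap R R') (I ^ n) → r ∈ I ^ n := by
    intro n hn r hr
    have h1 : Ideal.quotientMap (Ideal.map (algebraMap R R') (I ^ n)) (algebraMap R R')
        Ideal.le_comap_map (Ideal.Quotient.mk _ r) = 0 := by
      rw [Ideal.quotientMap_mk]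
      exact Ideal.Quotient.eq_zero_iff_mem.2 hr
    have h2 := (hq n hn).1 (h1.trans (map_zero _).symm)
    exact Ideal.Quotient.eq_zero_iff_mem.1 h2
  -- monotonicity of the ideals
  have hmono : ∀ {n n' : ℕ}, n ≤ n' →
      Ideal.map (algebraMap R R') (I ^ n') ≤ Ideal.map (algebraMap R R') (I ^ n) :=
    fun h => Ideal.map_mono (Ideal.pow_le_pow_right h)
  -- every element is killed by a positive power
  have hM' : ∀ m : M, ∃ n : ℕ, 0 < n ∧ ∀ a ∈ I ^ n, a • m = 0 := by
    intro m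
    obtain ⟨n, hn⟩ := hM m
    exact ⟨n + 1, Nat.succ_pos n, fun a ha => hn a (Ideal.pow_le_pow_right (Nat.le_succ n) ha)⟩
  -- key uniqueness
  have huniq : ∀ (m : M) (r' : R') (n₁ n₂ : ℕ) (r₁ r₂ : R), 0 < n₁ → 0 < n₂ →
      (∀ a ∈ I ^ n₁, a • m = 0) → (∀ a ∈ I ^ n₂, a • m = 0) →
      algebraMap R R' r₁ - r' ∈ Ideal.map (algebraMap R R') (I ^ n₁) →
      algebraMap R R' r₂ - r' ∈ Ideal.map (algebraMap R R') (I ^ n₂) → r₁ • m = r₂ • m := by
    intro m r' n₁ n₂ r₁ r₂ h1 h2 hk1 hk2 hr1 hr2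
    have key : ∀ n : ℕ, 0 < n → (∀ a ∈ I ^ n, a • m = 0) →
        algebraMap R R' r₁ - r' ∈ Ideal.map (algebraMap R R') (I ^ n) →
        algebraMap R R' r₂ - r' ∈ Ideal.map (algebraMap R R') (I ^ n) → r₁ • m = r₂ • m := by
      intro n hn hk ha hb
      have hsub : algebraMap R R' (r₁ - r₂) ∈ Ideal.map (algebraMap R R') (I ^ n) := by
        have := Ideal.sub_mem _ ha hb
        rw [map_sub]
        convert this using 1
        ring
      have := hk _ (hinj n hn _ hsub)
      rw [sub_smul, sub_eq_zero] at this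
      exact this
    rcases le_total n₁ n₂ with h | h
    · exact key n₁ h1 hk1 hr1 (hmono h hr2)
    · exact key n₂ h2 hk2 (hmono h hr1) hr2
  -- the action
  have hex : ∀ (r' : R') (m : M), ∃ y : M, ∀ (n : ℕ) (r : R), 0 < n → (∀ a ∈ I ^ n, a • m = 0) →
      algebraMap R R' r - r' ∈ Ideal.map (algebraMap R R') (I ^ n) → y = r • m := by
    intro r' m
    obtain ⟨n₀, hn₀, hk₀⟩ := hM' m
    obtain ⟨r₀, hr₀⟩ := hsurj n₀ hn₀ r'
    exact ⟨r₀ • m, fun n r hn hk hr => huniq m r' n₀ n r₀ r hn₀ hn hk₀ hk hr₀ hr⟩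
  choose β hβ using hex
  -- common exponent
  have hcommon : ∀ m₁ m₂ : M, ∃ n : ℕ, 0 < n ∧ (∀ a ∈ I ^ n, a • m₁ = 0) ∧
      (∀ a ∈ I ^ n, a • m₂ = 0) := by
    intro m₁ m₂
    obtain ⟨n₁, h1, hk1⟩ := hM' m₁
    obtain ⟨n₂, h2, hk2⟩ := hM' m₂
    refine ⟨max n₁ n₂, lt_of_lt_of_le h1 (le_max_left _ _), ?_, ?_⟩
    · exact fun a ha => hk1 a (Ideal.pow_le_pow_right (le_max_left _ _) ha)
    · exact fun a ha => hk2 a (Ideal.pow_le_pow_right (le_max_right _ _) ha)
  let B : R' →ₗ[R] M →ₗ[R] M := LinearMap.mk₂ R β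
    (by
      intro r'₁ r'₂ m
      obtain ⟨n, hn, hk⟩ := hM' m
      obtain ⟨r₁, hr₁⟩ := hsurj n hn r'₁
      obtain ⟨r₂, hr₂⟩ := hsurj n hn r'₂
      rw [hβ r'₁ m n r₁ hn hk hr₁, hβ r'₂ m n r₂ hn hk hr₂,
        hβ (r'₁ + r'₂) m n (r₁ + r₂) hn hk (by
          have := Ideal.add_mem _ hr₁ hr₂
          rw [map_add]
          convert this using 1
          ring), add_smul])
    (by
      intro c r' m
      obtain ⟨n, hn, hk⟩ := hM' m
      obtain ⟨r, hr⟩ := hsurj n hn r'
      rw [hβ r' m n r hn hk hr, hβ (c • r') m n (c * r) hn hk (by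
          have := Ideal.mul_mem_left _ (algebraMap R R' c) hr
          rw [map_mul, Algebra.smul_def]
          convert this using 1
          ring), mul_smul])
    (by
      intro r' m₁ m₂
      obtain ⟨n, hn, hk1, hk2⟩ := hcommon m₁ m₂
      obtain ⟨r, hr⟩ := hsurj n hn r'
      have hk12 : ∀ a ∈ I ^ n, a • (m₁ + m₂) = 0 := by
        intro a ha
        rw [smul_add, hk1 a ha, hk2 a ha, add_zero]
      rw [hβ r' m₁ n r hn hk1 hr, hβ r' m₂ n r hn hk2 hr, hβ r' (m₁ + m₂) n r hn hk12 hr,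
        smul_add])
    (by
      intro c r' m
      obtain ⟨n, hn, hk⟩ := hM' m
      obtain ⟨r, hr⟩ := hsurj n hn r'
      have hkc : ∀ a ∈ I ^ n, a • (c • m) = 0 := by
        intro a ha
        rw [smul_comm, hk a ha, smul_zero]
      rw [hβ r' m n r hn hk hr, hβ r' (c • m) n r hn hkc hr, smul_comm])
  have hB1 : ∀ m : M, TensorProduct.lift B ((1 : R') ⊗ₜ[R] m) = m := by
    intro m
    obtain ⟨n, hn, hk⟩ := hM' m
    rw [TensorProduct.lift.tmul]
    show β 1 m = m
    rw [hβ 1 m n 1 hn hk (by rw [map_one, sub_self]; exact Ideal.zero_mem _), one_smul]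
  constructor
  · intro m₁ m₂ h
    have := congrArg (TensorProduct.lift B) h
    simp only [hB1] at this
    exact this
  · intro z
    induction z using TensorProduct.induction_on with
    | zero => exact ⟨0, by simp⟩
    | tmul r' m =>
      obtain ⟨n, hn, hk⟩ := hM' m
      obtain ⟨r, hr⟩ := hsurj n hn r'
      refine ⟨r • m, ?_⟩
      show (1 : R') ⊗ₜ[R] (r • m) = r' ⊗ₜ[R] m
      have hzero : ∀ s ∈ Ideal.map (algebraMap R R') (I ^ n), s ⊗ₜ[R] m = (0 : R' ⊗[R] M) := by
        intro s hs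
        refine Submodule.span_induction ?_ ?_ ?_ ?_ hs
        · rintro _ ⟨a, ha, rfl⟩
          have : algebraMap R R' a = a • (1 : R') := by rw [Algebra.smul_def, mul_one]
          rw [this, TensorProduct.smul_tmul, hk a ha, TensorProduct.tmul_zero]
        · exact TensorProduct.zero_tmul _ _
        · intro x y _ _ hx hy
          rw [TensorProduct.add_tmul, hx, hy, add_zero]
        · intro c x _ hx
          have : (c • x) ⊗ₜ[R] m = c • (x ⊗ₜ[R] m) := by
            rw [TensorProduct.smul_tmul']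
          rw [this, hx, smul_zero]
      have h1 : (1 : R') ⊗ₜ[R] (r • m) = (algebraMap R R' r) ⊗ₜ[R] m := by
        rw [← TensorProduct.smul_tmul, Algebra.smul_def, mul_one]
      rw [h1]
      have h2 := hzero _ hr
      rw [TensorProduct.sub_tmul, sub_eq_zero] at h2
      exact h2
    | add x y hx hy =>
      obtain ⟨m₁, h1⟩ := hx
      obtain ⟨m₂, h2⟩ := hy
      exact ⟨m₁ + m₂, by
        show (1 : R') ⊗ₜ[R] (m₁ + m₂) = x + y
        rw [TensorProduct.tmul_add]
        exact congrArg₂ (· + ·) h1 h2⟩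

end Groth.Agent.S7041
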