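import Groth.Statements.S7043
import Groth.Agent.Lib.Helper11.DCSeq

set_option autoImplicit false
universe u
attribute [local instance] HasDerivedCategory.standard
open DRing

namespace Groth.Agent.S7043

/-- Let f be an element of a commutative ring A and let M be an A-module which, placed in degree 0, is
derived complete with respect to the ideal (f). Then the ideal J = ⋂ f^n A annihilates the submodule
⋂ f^n M, which is the kernel of M → lim M/f^n M. (The case M = A says that J has square zero when A
itself is derived complete.) -/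
theorem result {A : Type u} [CommRing A] (f : A)
    (M : Type u) [AddCommGroup M] [Module A M]
    (hc : DRing.IsDerivedComplete (Ideal.span {f}) (Dual.inD A M)) :
    (⨅ n : ℕ, Ideal.span {f ^ n}) • (⨅ n : ℕ, (Ideal.span {f ^ n}) • (⊤ : Submodule A M)) = (⊥ : Submodule A M) := by
  rw [Groth.Agent.Helper11.DC.isDerivedComplete_iff] at hc
  have hT := hc f (Ideal.mem_span_singleton_self f)
  rw [eq_bot_iff, Submodule.smul_le]
  intro a ha m hm
  rw [Submodule.mem_bot]
  have ha' : ∀ n : ℕ, ∃ b, a = f ^ n * b := fun n => by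
    have := (Ideal.mem_iInf.mp ha) n
    rw [Ideal.mem_span_singleton] at this
    exact this
  have hm' : ∀ n : ℕ, ∃ m' : M, m = f ^ n • m' := fun n => by
    have := (Submodule.mem_iInf _).mp hm n
    rw [Submodule.ideal_span_singleton_smul] at this
    obtain ⟨m', -, h⟩ := (Submodule.mem_smul_pointwise_iff_exists _ _ _).mp this
    exact ⟨m', h.symm⟩
  choose b hb using ha'
  choose m' hm'' using hm'
  have key : Groth.Agent.Helper11.DC.Tf M f (fun i => (b (2 * i) * f ^ i) • m) = 0 := by
    funext i
    simp only [Groth.Agent.Helper11.DC.Tf, Pi.zero_apply]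
    have h1 : f ^ (2 * i) * b (2 * i) = f ^ (2 * i) * (f ^ 2 * b (2 * (i + 1))) := by
      rw [← hb (2 * i), ← mul_assoc, ← pow_add, show 2 * i + 2 = 2 * (i + 1) by ring, ← hb]
    have h2 : (b (2 * i) * f ^ i) • m - f • (b (2 * (i + 1)) * f ^ (i + 1)) • m =
        ((b (2 * i) * f ^ i - f * (b (2 * (i + 1)) * f ^ (i + 1))) * f ^ (2 * i)) • m' (2 * i) := by
      rw [mul_smul _ (f ^ (2 * i)) (m' (2 * i)), ← hm'' (2 * i), sub_smul, mul_smul f]
    rw [h2]
    have h3 : (b (2 * i) * f ^ i - f * (b (2 * (i + 1)) * f ^ (i + 1))) * f ^ (2 * i) = 0 := by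
      linear_combination (f ^ i) * h1
    rw [h3, zero_smul]
  have h0 := congrFun ((Groth.Agent.Helper11.DC.Tf_injective_iff f).mp hT.1 _ key) 0
  have hb0 : a = b 0 := by
    have := hb 0
    rwa [pow_zero, one_mul] at this
  simpa [hb0] using h0

end Groth.Agent.S7043
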