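import Groth.Statements.S7046
import Groth.Agent.Lib.Helper11.DCNilp
import Groth.Agent.Lib.Helper11.DCPre

set_option autoImplicit false
universe u
attribute [local instance] HasDerivedCategory.standard
open DRing

namespace Groth.Agent.S7046

/-- A reduced commutative ring A which, placed in degree 0 of D(A), is derived complete with respect to
a finitely generated ideal I is I-adically complete, i.e. separated and complete for the I-adic
topology. -/
theorem result {A : Type u} [CommRing A] [IsReduced A]
    (I : Ideal A) (hI : I.FG) (hc : DRing.IsDerivedComplete I (Dual.inD A A)) :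
    IsAdicComplete I A := by
  rw [Groth.Agent.Helper11.DC.isDerivedComplete_iff] at hc
  obtain ⟨s, rfl⟩ := hI
  have hpre : IsPrecomplete (Ideal.span (s : Set A)) A :=
    Groth.Agent.Helper11.DC.isPrecomplete_of_tf s A (fun g hg => (hc g (Ideal.subset_span hg)).2)
  have hnil := Groth.Agent.Helper11.DC.nilp_aux s.card A s le_rfl hc
  have hhaus : IsHausdorff (Ideal.span (s : Set A)) A := by
    refine ⟨fun x hx => ?_⟩
    have hxJ : x ∈ ⨅ n : ℕ, (Ideal.span (s : Set A)) ^ n := by
      rw [Ideal.mem_iInf]
      intro n
      have := hx n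
      rw [SModEq.zero, smul_eq_mul, Ideal.mul_top] at this
      exact this
    have h1 : x ^ (2 ^ s.card) ∈ (⨅ n : ℕ, (Ideal.span (s : Set A)) ^ n) ^ (2 ^ s.card) :=
      Ideal.pow_mem_pow hxJ _
    rw [hnil, Ideal.mem_bot] at h1
    exact IsReduced.eq_zero x ⟨_, h1⟩
  exact { toIsHausdorff := hhaus, toIsPrecomplete := hpre }

end Groth.Agent.S7046
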