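import Groth.Statements.S7062
import Groth.Agent.Lib.Helper6.EtGlueTor

set_option autoImplicit false
universe u
open EtGlue

namespace Groth.Agent.S7062

/-- For a glueing pair (R → R', f), i.e. R/f^nR → R'/f^nR' is bijective for all n > 0 and the sequence 0
→ R → R' ⊕ R_f → R'_f → 0 is exact, the group Tor_1^R(R', f^n R) vanishes for every n > 0 (Tor
computed by resolving the second argument, the ideal f^n R). -/
theorem result {R R' : Type u} [CommRing R] [CommRing R'] [Algebra R R']
    (f : R) (h : EtGlue.IsGlueingPair R R' f) (n : ℕ) (hn : 0 < n) :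
    Subsingleton (DRing.Tor R 1 R' ↥(Ideal.span ({f ^ n} : Set R))) := by
  let p : R →ₗ[R] ↥(Ideal.span ({f ^ n} : Set R)) :=
    (LinearMap.toSpanSingleton R R (f ^ n)).codRestrict _
      (fun r => Ideal.mem_span_singleton'.2 ⟨r, by simp [LinearMap.toSpanSingleton_apply]⟩)
  have hp : Function.Surjective p := by
    rintro ⟨y, hy⟩
    obtain ⟨r, rfl⟩ := Ideal.mem_span_singleton'.1 hy
    exact ⟨r, Subtype.ext (by simp [p, LinearMap.toSpanSingleton_apply])⟩
  refine Groth.Agent.Helper6.EtGlueTor.subsingleton_tor_one f h (LinearMap.ker p) ?_ p hp rfl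
  intro k hk
  refine ⟨n, ?_⟩
  have := congrArg Subtype.val (LinearMap.mem_ker.1 hk)
  simpa [p, LinearMap.toSpanSingleton_apply, mul_comm] using this

end Groth.Agent.S7062
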