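import Groth.Statements.S7063
import Groth.Agent.Lib.Helper6.EtGlueTor

set_option autoImplicit false
universe u
open EtGlue

namespace Groth.Agent.S7063

/-- For a glueing pair (R → R', f), the group Tor_1^R(R', R/R[f^∞]) vanishes, where R[f^∞] is the
submodule of elements of R killed by a power of f (Tor computed by resolving the second argument). -/
theorem result {R R' : Type u} [CommRing R] [CommRing R']
    [Algebra R R'] (f : R) (h : EtGlue.IsGlueingPair R R' f) :
    Subsingleton (DRing.Tor R 1 R' (R ⧸ DRing.torsionSub (Ideal.span ({f} : Set R)) R)) := by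
  refine Groth.Agent.Helper6.EtGlueTor.subsingleton_tor_one f h
    (DRing.torsionSub (Ideal.span ({f} : Set R)) R) ?_
    (DRing.torsionSub (Ideal.span ({f} : Set R)) R).mkQ (Submodule.mkQ_surjective _)
    (Submodule.ker_mkQ _)
  intro k hk
  obtain ⟨n, hn⟩ := hk
  refine ⟨n, ?_⟩
  have := hn (f ^ n) (Ideal.pow_mem_pow (Ideal.mem_span_singleton_self f) n)
  simpa using this

end Groth.Agent.S7063
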