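import Groth.Statements.S7073
import Groth.Agent.Lib.Helper11.FinProjRes
open Groth.Agent.Helper11.DC CategoryTheory DerivedCategory

set_option autoImplicit false
universe u
attribute [local instance] HasDerivedCategory.standard
open Dual2

namespace Groth.Agent.S7073

/-- For a flat homomorphism of finite presentation R → A of commutative rings, every perfect object of
D(A) is R-perfect, i.e. pseudo-coherent over A and of finite tor dimension as a complex of
R-modules. -/
theorem result (R A : Type u) [CommRing R] [CommRing A] [Algebra R A]
    [Module.Flat R A] [Algebra.FinitePresentation R A] (K : Dual.D A) (hK : DRing.IsPerfect A K) :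
    Dual2.IsRelPerfect R A K := by
  obtain ⟨E, a, b, hE, hfp, ⟨e⟩⟩ := hK
  refine ⟨pc_of_perfect ⟨E, a, b, hE, hfp, ⟨e⟩⟩, a, b,
    ((ModuleCat.restrictScalars (algebraMap R A)).mapHomologicalComplex (ComplexShape.up ℤ)).obj E,
    ?_, ?_, ⟨?_⟩⟩
  · intro i hi
    exact (ModuleCat.restrictScalars (algebraMap R A)).map_isZero (hE i hi)
  · intro i
    haveI := (hfp i).2
    letI : Module R (E.X i) := Module.compHom (E.X i) (algebraMap R A)
    haveI : IsScalarTower R A (E.X i) := ⟨fun r a m => by
      rw [Algebra.smul_def, mul_smul]; rfl⟩
    exact Module.Flat.trans R A (E.X i)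
  · exact ((ModuleCat.restrictScalars (algebraMap R A)).mapDerivedCategoryFactors.app E).symm ≪≫
      (DRing.restrictD (algebraMap R A)).mapIso e

end Groth.Agent.S7073
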