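import Groth.Statements.S7078
import Groth.Agent.Lib.Helper11.DCTwoRep

set_option autoImplicit false
universe u
attribute [local instance] HasDerivedCategory.standard
open CategoryTheory
open DRing

namespace Groth.Agent.S7078

/-- For a commutative ring R and an object K of D(R) whose cohomology modules vanish outside degrees -1
and 0, K is represented by a two-term complex K^{-1} → K^0 with K^0 a free R-module. -/
theorem result {R : Type u} [CommRing R] (K : Dual.D R)
    (hK : ∀ i : ℤ, i ≠ -1 → i ≠ 0 → Subsingleton (Dual.HD R K i)) :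
    ∃ E : DRing.Cx R, DRing.VanishesOutside E (-1) 0 ∧ Module.Free R (E.X 0) ∧ Nonempty (DRing.toD E ≅ K) := by
  have hK' : ∀ i : ℤ, i ≠ -1 → i ≠ 0 →
      Limits.IsZero ((DerivedCategory.homologyFunctor (ModuleCat.{u} R) i).obj K) := by
    intro i h1 h2
    have := hK i h1 h2
    exact ModuleCat.isZero_of_subsingleton _
  let P : ModuleCat.{u} R := ModuleCat.of R (Dual.HD R K 0 →₀ R)
  let p : P ⟶ (DerivedCategory.homologyFunctor (ModuleCat.{u} R) 0).obj K :=
    ModuleCat.ofHom (Finsupp.linearCombination R id)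
  have hp : Epi p := by
    rw [ModuleCat.epi_iff_surjective]
    exact Finsupp.linearCombination_id_surjective R _
  obtain ⟨E', d, ⟨e⟩, _⟩ := Groth.Agent.Helper11.DC.exists_twoTerm_rep K hK' P p
  refine ⟨Groth.Agent.Helper11.DC.twoCx d, Groth.Agent.Helper11.DC.twoCx_vanishes d, ?_, ⟨e.symm⟩⟩
  exact Module.Free.of_equiv (Groth.Agent.Helper11.DC.twoCxZeroEquiv d).symm

end Groth.Agent.S7078
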