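import Groth.Statements.S7079
import Groth.Agent.Lib.Helper11.DCTwoRep

set_option autoImplicit false
universe u
attribute [local instance] HasDerivedCategory.standard
open CategoryTheory
open DRing

namespace Groth.Agent.S7079

/-- For a Noetherian commutative ring R and an object K of D(R) whose cohomology modules vanish outside
degrees -1 and 0 and are finite modules in those two degrees, K is represented by a two-term complex
K^{-1} → K^0 with K^0 finite free and K^{-1} finite. -/
theorem result {R : Type u} [CommRing R] [IsNoetherianRing R] (K : Dual.D R)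
    (hK : ∀ i : ℤ, i ≠ -1 → i ≠ 0 → Subsingleton (Dual.HD R K i))
    (h1 : Module.Finite R (Dual.HD R K (-1))) (h0 : Module.Finite R (Dual.HD R K 0)) :
    ∃ E : DRing.Cx R, DRing.VanishesOutside E (-1) 0 ∧ Module.Free R (E.X 0) ∧ Module.Finite R (E.X 0) ∧
      Module.Finite R (E.X (-1)) ∧ Nonempty (DRing.toD E ≅ K) := by
  have hK' : ∀ i : ℤ, i ≠ -1 → i ≠ 0 →
      Limits.IsZero ((DerivedCategory.homologyFunctor (ModuleCat.{u} R) i).obj K) := by
    intro i h1 h2
    have := hK i h1 h2
    exact ModuleCat.isZero_of_subsingleton _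
  obtain ⟨n, f, hf⟩ := Module.Finite.exists_fin' R (Dual.HD R K 0)
  let P : ModuleCat.{u} R := ModuleCat.of R (ULift.{u} (Fin n) → R)
  let p : P ⟶ (DerivedCategory.homologyFunctor (ModuleCat.{u} R) 0).obj K :=
    ModuleCat.ofHom (f ∘ₗ (LinearEquiv.funCongrLeft R R Equiv.ulift.symm).toLinearMap)
  have hp : Epi p := by
    rw [ModuleCat.epi_iff_surjective]
    exact hf.comp (LinearEquiv.surjective _)
  obtain ⟨E', d, ⟨e⟩, hfin⟩ := Groth.Agent.Helper11.DC.exists_twoTerm_rep K hK' P p
  have hE' : Module.Finite R E' := hfin h1 inferInstance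
  refine ⟨Groth.Agent.Helper11.DC.twoCx d, Groth.Agent.Helper11.DC.twoCx_vanishes d, ?_, ?_, ?_, ⟨e.symm⟩⟩
  · exact Module.Free.of_equiv (Groth.Agent.Helper11.DC.twoCxZeroEquiv d).symm
  · exact Module.Finite.equiv (Groth.Agent.Helper11.DC.twoCxZeroEquiv d).symm
  · exact Module.Finite.equiv (Groth.Agent.Helper11.DC.twoCxNegOneEquiv d).symm

end Groth.Agent.S7079
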