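import Groth.Statements.S7080
import Mathlib.Algebra.Homology.DerivedCategory.TStructure
import Mathlib.Algebra.Homology.DerivedCategory.HomologySequence

set_option autoImplicit false
universe u
attribute [local instance] HasDerivedCategory.standard
open CategoryTheory
open DRing

namespace Groth.Agent.S7080

/-- Let R be a commutative ring and α : K → K' a morphism in D(R) between objects whose cohomology
vanishes outside degrees -1 and 0, such that H^0(α) is an isomorphism and H^{-1}(α) is surjective.
If multiplication by an element f of R is the zero endomorphism of K in D(R), then it is also the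
zero endomorphism of K'. -/
theorem result {R : Type u} [CommRing R] {K K' : Dual.D R} (α : K ⟶ K')
    (hK : ∀ i : ℤ, i ≠ -1 → i ≠ 0 → Subsingleton (Dual.HD R K i))
    (hK' : ∀ i : ℤ, i ≠ -1 → i ≠ 0 → Subsingleton (Dual.HD R K' i))
    (h0 : IsIso ((DerivedCategory.homologyFunctor (ModuleCat.{u} R) 0).map α))
    (h1 : Epi ((DerivedCategory.homologyFunctor (ModuleCat.{u} R) (-1)).map α))
    (f : R) (hf : f • (𝟙 K) = 0) : f • (𝟙 K') = 0 := by
  obtain ⟨C, β, γ, hT⟩ := Pretriangulated.distinguished_cocone_triangle α
  have zK : ∀ i : ℤ, i ≠ -1 → i ≠ 0 →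
      Limits.IsZero ((DerivedCategory.homologyFunctor (ModuleCat.{u} R) i).obj K) := by
    intro i h1 h2
    have := hK i h1 h2
    exact ModuleCat.isZero_of_subsingleton _
  have zK' : ∀ i : ℤ, i ≠ -1 → i ≠ 0 →
      Limits.IsZero ((DerivedCategory.homologyFunctor (ModuleCat.{u} R) i).obj K') := by
    intro i h1 h2
    have := hK' i h1 h2
    exact ModuleCat.isZero_of_subsingleton _
  have hCle : C.IsLE (-2) := by
    rw [DerivedCategory.isLE_iff]
    intro i hi
    have ex := DerivedCategory.HomologySequence.exact₃ (Pretriangulated.Triangle.mk α β γ) hT i (i + 1) rfl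
    by_cases hi1 : i = -1
    · subst hi1
      have hβ : (DerivedCategory.homologyFunctor (ModuleCat.{u} R) (-1)).map β = 0 :=
        (DerivedCategory.HomologySequence.epi_homologyMap_mor₁_iff
          (Pretriangulated.Triangle.mk α β γ) hT (-1)).mp h1
      have hδ : DerivedCategory.HomologySequence.δ (Pretriangulated.Triangle.mk α β γ) (-1) (-1 + 1) rfl = 0 := by
        have hmono : Mono ((DerivedCategory.homologyFunctor (ModuleCat.{u} R) (-1 + 1)).map α) := by
          have : IsIso ((DerivedCategory.homologyFunctor (ModuleCat.{u} R) (-1 + 1)).map α) := h0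
          infer_instance
        exact (DerivedCategory.HomologySequence.mono_homologyMap_mor₁_iff
          (Pretriangulated.Triangle.mk α β γ) hT (-1) (-1 + 1) rfl).mp hmono
      exact ex.isZero_of_both_zeros hβ hδ
    · by_cases hi0 : i = 0
      · subst hi0
        have hβ : (DerivedCategory.homologyFunctor (ModuleCat.{u} R) 0).map β = 0 := by
          have hepi : Epi ((DerivedCategory.homologyFunctor (ModuleCat.{u} R) 0).map α) := inferInstance
          exact (DerivedCategory.HomologySequence.epi_homologyMap_mor₁_iff
            (Pretriangulated.Triangle.mk α β γ) hT 0).mp hepi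
        exact ex.isZero_of_both_zeros hβ ((zK (0 + 1) (by norm_num) (by norm_num)).eq_of_tgt _ _)
      · exact ex.isZero_of_both_zeros ((zK' i hi1 hi0).eq_of_src _ _)
          ((zK (i + 1) (by omega) (by omega)).eq_of_tgt _ _)
  have hK'ge : K'.IsGE (-1) := by
    rw [DerivedCategory.isGE_iff]
    intro i hi
    exact zK' i (by omega) (by omega)
  have hcomp : α ≫ (f • 𝟙 K') = 0 := by
    rw [Linear.comp_smul, Category.comp_id, ← Category.id_comp α, ← Linear.smul_comp, hf, Limits.zero_comp]
  obtain ⟨g, hg⟩ : ∃ g : C ⟶ K', f • 𝟙 K' = β ≫ g :=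
    Pretriangulated.Triangle.yoneda_exact₂ (Pretriangulated.Triangle.mk α β γ) hT (f • 𝟙 K') hcomp
  have hg0 : g = 0 := DerivedCategory.TStructure.t.zero g (-2) (-1) (by norm_num)
  rw [hg, hg0, Limits.comp_zero]

end Groth.Agent.S7080
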