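import Groth.Statements.S7081
import Groth.Agent.Lib.Helper11.DCHeart

set_option autoImplicit false
universe u
attribute [local instance] HasDerivedCategory.standard
open CategoryTheory
open DRing

namespace Groth.Agent.S7081

/-- Let R be a commutative ring and φ : K₁ → K₂, ψ : K₂ → K₃ morphisms in D(R) between objects whose
cohomology vanishes outside degrees -1 and 0. If φ induces the zero map on H^0 and ψ induces the
zero map on H^{-1}, then the composite K₁ → K₃ is zero. -/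
theorem result {R : Type u} [CommRing R] {K₁ K₂ K₃ : Dual.D R}
    (φ : K₁ ⟶ K₂) (ψ : K₂ ⟶ K₃)
    (h₁ : ∀ i : ℤ, i ≠ -1 → i ≠ 0 → Subsingleton (Dual.HD R K₁ i))
    (h₂ : ∀ i : ℤ, i ≠ -1 → i ≠ 0 → Subsingleton (Dual.HD R K₂ i))
    (h₃ : ∀ i : ℤ, i ≠ -1 → i ≠ 0 → Subsingleton (Dual.HD R K₃ i))
    (hφ : (DerivedCategory.homologyFunctor (ModuleCat.{u} R) 0).map φ = 0)
    (hψ : (DerivedCategory.homologyFunctor (ModuleCat.{u} R) (-1)).map ψ = 0) :
    φ ≫ ψ = 0 := by
  have hK1 : K₁.IsLE 0 := by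
    rw [DerivedCategory.isLE_iff]
    intro i hi
    have := h₁ i (by omega) (by omega)
    exact ModuleCat.isZero_of_subsingleton _
  have hK3 : K₃.IsGE (-1) := by
    rw [DerivedCategory.isGE_iff]
    intro i hi
    have := h₃ i (by omega) (by omega)
    exact ModuleCat.isZero_of_subsingleton _
  obtain ⟨X, Y, hX, hY, a, b, c, hT⟩ :=
    DerivedCategory.TStructure.t.exists_triangle K₂ (-1) 0 (by norm_num)
  have : X.IsLE (-1) := ⟨hX⟩
  have : Y.IsGE 0 := ⟨hY⟩
  have h1 : φ ≫ b = 0 := by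
    apply Groth.Agent.Helper11.DC.eq_zero_of_homology_map_eq_zero K₁ Y 0
    rw [Functor.map_comp, hφ, Limits.zero_comp]
  obtain ⟨φ', hφ'⟩ : ∃ φ' : K₁ ⟶ X, φ = φ' ≫ a :=
    Pretriangulated.Triangle.coyoneda_exact₂ (Pretriangulated.Triangle.mk a b c) hT φ h1
  have h2 : a ≫ ψ = 0 := by
    apply Groth.Agent.Helper11.DC.eq_zero_of_homology_map_eq_zero X K₃ (-1)
    rw [Functor.map_comp, hψ, Limits.comp_zero]
  rw [hφ', Category.assoc, h2, Limits.comp_zero]

end Groth.Agent.S7081
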