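import Groth.Statements.S7082
import Groth.Agent.Lib.Helper11.DCHomK3
open Groth.Agent.Helper11.DC

set_option autoImplicit false
universe u
attribute [local instance] HasDerivedCategory.standard
open CategoryTheory
open DRing

namespace Groth.Agent.S7082

/-- (1)⇔(3): let R be a commutative ring, I an ideal and K an object of D(R) whose cohomology vanishes
outside degrees -1 and 0. Then I annihilates Ext^1_R(K, N) = Hom_{D(R)}(K, N[1]) for every R-module
N if and only if, for every two-term complex E in degrees -1 and 0 with E^0 projective that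
represents K, and every a in I, multiplication by a on E^{-1} factors through the differential
E^{-1} → E^0. -/
theorem result {R : Type u} [CommRing R] (I : Ideal R) (K : Dual.D R)
    (hK : ∀ i : ℤ, i ≠ -1 → i ≠ 0 → Subsingleton (Dual.HD R K i)) :
    (∀ (N : Type u) [AddCommGroup N] [Module R N] (a : R), a ∈ I →
        ∀ ξ : K ⟶ (Dual.inD R N)⟦(1 : ℤ)⟧, a • ξ = 0) ↔
      ∀ (E : DRing.Cx R), DRing.VanishesOutside E (-1) 0 → Module.Projective R (E.X 0) →
        Nonempty (DRing.toD E ≅ K) → ∀ a : R, a ∈ I →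
          ∃ h : E.X 0 ⟶ E.X (-1), E.d (-1) 0 ≫ h = a • 𝟙 (E.X (-1)) := by
  have hK' : ∀ i : ℤ, i ≠ -1 → i ≠ 0 →
      Limits.IsZero ((DerivedCategory.homologyFunctor (ModuleCat.{u} R) i).obj K) := by
    intro i h1 h2
    have := hK i h1 h2
    exact ModuleCat.isZero_of_subsingleton _
  constructor
  · rintro hyp E hE hE0 ⟨e⟩ a ha
    have hf : E.d (-2) (-1) ≫ 𝟙 (E.X (-1)) = 0 :=
      (hE (-2) (Or.inl (by norm_num))).eq_of_src _ _
    have h1 := hyp (E.X (-1)) a ha
      (e.inv ≫ DerivedCategory.Q.map (toS (𝟙 (E.X (-1))) hf) ≫ (ι1 (E.X (-1))).inv)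
    have e1 : e.hom ≫ (a • (e.inv ≫ DerivedCategory.Q.map (toS (𝟙 (E.X (-1))) hf) ≫
        (ι1 (E.X (-1))).inv)) ≫ (ι1 (E.X (-1))).hom =
        a • DerivedCategory.Q.map (toS (𝟙 (E.X (-1))) hf) := by
      rw [Linear.smul_comp, Linear.comp_smul]
      congr 1
      simp
    have h2 : a • DerivedCategory.Q.map (toS (𝟙 (E.X (-1))) hf) = 0 :=
      e1.symm.trans ((congrArg (fun t => e.hom ≫ t ≫ (ι1 (E.X (-1))).hom) h1).trans
        (by rw [Limits.zero_comp, Limits.comp_zero]))
    rw [← Functor.map_smul, smul_toS] at h2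
    obtain ⟨h, hh⟩ := (ext1_zero_iff E (fun i hi => hE i (Or.inr hi)) hE0 _ _).mp h2
    exact ⟨h, hh⟩
  · intro hyp N _ _ a ha ξ
    obtain ⟨E, hE, hfree, ⟨e⟩⟩ := exists_twoTerm_free K hK'
    have hE0 : Module.Projective R (E.X 0) := Module.Projective.of_free
    obtain ⟨f, hf, hξ⟩ := ext1_surj E (fun i hi => hE i (Or.inr hi)) hE0 (ModuleCat.of R N)
      (e.hom ≫ ξ ≫ (ι1 (ModuleCat.of R N)).hom)
    obtain ⟨h, hh⟩ := hyp E hE hE0 ⟨e⟩ a ha
    have h0 : DerivedCategory.Q.map (toS (a • f) (by rw [Linear.comp_smul, hf, smul_zero])) = 0 :=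
      ext1_zero_of_factor _ _ (h ≫ f) (by
        rw [← Category.assoc, hh, Linear.smul_comp, Category.id_comp])
    rw [← smul_toS a f hf, Functor.map_smul, ← hξ] at h0
    have e2 : a • ξ = e.inv ≫ (a • (e.hom ≫ ξ ≫ (ι1 (ModuleCat.of R N)).hom)) ≫
        (ι1 (ModuleCat.of R N)).inv := by
      rw [Linear.smul_comp, Linear.comp_smul]
      congr 1
      simp
    rw [e2, h0, Limits.zero_comp, Limits.comp_zero]

end Groth.Agent.S7082
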