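import Groth.Statements.S7083
import Mathlib.Algebra.Homology.DerivedCategory.TStructure
import Mathlib.Algebra.Homology.DerivedCategory.HomologySequence

set_option autoImplicit false
universe u
attribute [local instance] HasDerivedCategory.standard
open CategoryTheory
open DRing

namespace Groth.Agent.S7083

/-- Let R be a commutative ring, I an ideal, and α : K → K' a morphism in D(R) between objects whose
cohomology vanishes outside degrees -1 and 0, such that H^0(α) is an isomorphism and H^{-1}(α) is
surjective. If I annihilates Ext^1_R(K, N) = Hom_{D(R)}(K, N[1]) for every R-module N, then I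
annihilates Ext^1_R(K', N) for every R-module N. -/
theorem result {R : Type u} [CommRing R] (I : Ideal R) {K K' : Dual.D R}
    (α : K ⟶ K')
    (hK : ∀ i : ℤ, i ≠ -1 → i ≠ 0 → Subsingleton (Dual.HD R K i))
    (hK' : ∀ i : ℤ, i ≠ -1 → i ≠ 0 → Subsingleton (Dual.HD R K' i))
    (h0 : IsIso ((DerivedCategory.homologyFunctor (ModuleCat.{u} R) 0).map α))
    (h1 : Epi ((DerivedCategory.homologyFunctor (ModuleCat.{u} R) (-1)).map α))
    (hI : ∀ (N : Type u) [AddCommGroup N] [Module R N] (a : R), a ∈ I →
        ∀ ξ : K ⟶ (Dual.inD R N)⟦(1 : ℤ)⟧, a • ξ = 0)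
    (N : Type u) [AddCommGroup N] [Module R N] (a : R) (ha : a ∈ I) (ξ : K' ⟶ (Dual.inD R N)⟦(1 : ℤ)⟧) :
    a • ξ = 0 := by
  obtain ⟨C, β, γ, hT⟩ := Pretriangulated.distinguished_cocone_triangle α
  have zK : ∀ i : ℤ, i ≠ -1 → i ≠ 0 →
      Limits.IsZero ((DerivedCategory.homologyFunctor (ModuleCat.{u} R) i).obj K) := by
    intro i h1 h2
    have := hK i h1 h2
    exact ModuleCat.isZero_of_subsingleton _
  have zK' : ∀ i : ℤ, i ≠ -1 → i ≠ 0 →
      Limits.IsZero ((DerivedCategory.homologyFunctor (ModuleCat.{u} R) i).obj K') := by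
    intro i h1 h2
    have := hK' i h1 h2
    exact ModuleCat.isZero_of_subsingleton _
  have hCle : C.IsLE (-2) := by
    rw [DerivedCategory.isLE_iff]
    intro i hi
    have ex := DerivedCategory.HomologySequence.exact₃ (Pretriangulated.Triangle.mk α β γ) hT i (i + 1) rfl
    by_cases hi1 : i = -1
    · subst hi1
      have hβ : (DerivedCategory.homologyFunctor (ModuleCat.{u} R) (-1)).map β = 0 :=
        (DerivedCategory.HomologySequence.epi_homologyMap_mor₁_iff
          (Pretriangulated.Triangle.mk α β γ) hT (-1)).mp h1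
      have hδ : DerivedCategory.HomologySequence.δ (Pretriangulated.Triangle.mk α β γ) (-1) (-1 + 1) rfl = 0 := by
        have hmono : Mono ((DerivedCategory.homologyFunctor (ModuleCat.{u} R) (-1 + 1)).map α) := by
          have : IsIso ((DerivedCategory.homologyFunctor (ModuleCat.{u} R) (-1 + 1)).map α) := h0
          infer_instance
        exact (DerivedCategory.HomologySequence.mono_homologyMap_mor₁_iff
          (Pretriangulated.Triangle.mk α β γ) hT (-1) (-1 + 1) rfl).mp hmono
      exact ex.isZero_of_both_zeros hβ hδ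
    · by_cases hi0 : i = 0
      · subst hi0
        have hβ : (DerivedCategory.homologyFunctor (ModuleCat.{u} R) 0).map β = 0 := by
          have hepi : Epi ((DerivedCategory.homologyFunctor (ModuleCat.{u} R) 0).map α) := inferInstance
          exact (DerivedCategory.HomologySequence.epi_homologyMap_mor₁_iff
            (Pretriangulated.Triangle.mk α β γ) hT 0).mp hepi
        exact ex.isZero_of_both_zeros hβ ((zK (0 + 1) (by norm_num) (by norm_num)).eq_of_tgt _ _)
      · exact ex.isZero_of_both_zeros ((zK' i hi1 hi0).eq_of_src _ _)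
          ((zK (i + 1) (by omega) (by omega)).eq_of_tgt _ _)
  have hNge : ((Dual.inD R N)⟦(1 : ℤ)⟧).IsGE (-1) :=
    DerivedCategory.TStructure.t.isGE_shift _ 0 1 (-1) (by norm_num)
  have hcomp : α ≫ (a • ξ) = 0 := by
    rw [Linear.comp_smul]
    exact hI N a ha (α ≫ ξ)
  obtain ⟨g, hg⟩ : ∃ g : C ⟶ (Dual.inD R N)⟦(1 : ℤ)⟧, a • ξ = β ≫ g :=
    Pretriangulated.Triangle.yoneda_exact₂ (Pretriangulated.Triangle.mk α β γ) hT (a • ξ) hcomp
  have hg0 : g = 0 := DerivedCategory.TStructure.t.zero g (-2) (-1) (by norm_num)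
  rw [hg, hg0, Limits.comp_zero]

end Groth.Agent.S7083
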