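import Groth.Statements.S7084
import Groth.Agent.Lib.Helper11.Dev6

set_option autoImplicit false
universe u
attribute [local instance] HasDerivedCategory.standard
open CategoryTheory
open LocCoh

namespace Groth.Agent.S7084

/-- Parts (1)–(2) in the case of a module killed by a power of the ideal: let R be a commutative ring, I
an ideal and K an object of D(R) such that K ⊗^L_R R/I has no cohomology in positive degrees. Then
for every R-module N annihilated by some power of I, K ⊗^L_R N has no cohomology in positive
degrees. (The published statement allows any I-power torsion module N; this row takes N annihilated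
by a single power of I, the case the published argument carries out in full, which contains the case
N = R/I^n.) The derived tensor products with modules are total left derived functors, assumed to
exist. -/
theorem result {R : Type u} [CommRing R] (I : Ideal R)
    [DRing.HasLTensor R (ModuleCat.of R (R ⧸ I))] (K : Dual.D R)
    (hK : ∀ i : ℤ, 0 < i → Subsingleton (Dual.HD R ((DRing.LTensor R (ModuleCat.of R (R ⧸ I))).obj K) i))
    (N : Type u) [AddCommGroup N] [Module R N] (n : ℕ) (hN : I ^ n • (⊤ : Submodule R N) = ⊥)
    [DRing.HasLTensor R (ModuleCat.of R N)] (i : ℤ) (hi : 0 < i) :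
    Subsingleton (Dual.HD R ((DRing.LTensor R (ModuleCat.of R N)).obj K) i) := by
  obtain ⟨T, hTk, hTp, ⟨e⟩⟩ := Groth.Agent.Helper11.Tel.exists_kprojective_rep K
  haveI := hTk
  rw [Groth.Agent.Helper11.Dev.subsingleton_HD_LTensor_iff (ModuleCat.of R N) T K e i]
  have hb : ∀ j : ℤ, 0 < j → CategoryTheory.Limits.IsZero (((Groth.Agent.Helper11.TA.esC (Ideal.Quotient.mk I)).obj T).homology j) :=
    fun j hj => (Groth.Agent.Helper11.Dev.isZero_homology_tens_quot_iff I T j).mp
      ((Groth.Agent.Helper11.Dev.subsingleton_HD_LTensor_iff (ModuleCat.of R (R ⧸ I)) T K e j).mp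
        (hK j hj))
  exact Groth.Agent.Helper11.Dev.isZero_homology_tens_of_pow_killed I T
    (fun j => by haveI := hTp j; infer_instance) 0 hb n N hN i hi

end Groth.Agent.S7084
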