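import Groth.Statements.S7089
import Groth.Agent.Lib.Helper11.GenRes

set_option autoImplicit false
universe u
open CategoryTheory
open LocCoh

namespace Groth.Agent.S7089

/-- Let R be a commutative ring, I an ideal and M an R-module in which every element is killed by a
power of I. Then M has a left resolution by modules each of which is a direct sum of copies of R/I^n
for varying n: there are a chain complex K of R-modules, a quasi-isomorphism from K to M placed in
degree 0, and for each i an isomorphism of K_i with such a direct sum. -/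
theorem result {R : Type u} [CommRing R] (I : Ideal R)
    (M : Type u) [AddCommGroup M] [Module R M] (hM : LocCoh.IsPowerTorsion I M) :
    ∃ (K : ChainComplex (ModuleCat.{u} R) ℕ) (π : K ⟶ (ChainComplex.single₀ (ModuleCat.{u} R)).obj (ModuleCat.of R M)),
      QuasiIso π ∧ ∀ i : ℕ, ∃ (ι : Type u) (n : ι → ℕ),
        Nonempty (K.X i ≅ ModuleCat.of R (DirectSum ι fun j => R ⧸ I ^ n j)) := by
  classical
  -- power torsion of direct sums of quotients
  have hsum : ∀ (ι : Type u) (n : ι → ℕ),
      LocCoh.IsPowerTorsion I (DirectSum ι fun j => R ⧸ I ^ n j) := by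
    intro ι n x
    induction x using DirectSum.induction_on with
    | zero => exact ⟨0, fun a _ => smul_zero a⟩
    | of i x =>
      refine ⟨n i, fun a ha => ?_⟩
      obtain ⟨r, rfl⟩ := Ideal.Quotient.mk_surjective x
      have h0 : a • (Ideal.Quotient.mk (I ^ n i) r) = 0 := by
        rw [Algebra.smul_def]
        change Ideal.Quotient.mk (I ^ n i) a * Ideal.Quotient.mk (I ^ n i) r = 0
        rw [← map_mul]
        exact Ideal.Quotient.eq_zero_iff_mem.mpr (Ideal.mul_mem_right _ _ ha)
      have h1 := (DirectSum.lof R ι (fun j => R ⧸ I ^ n j) i).map_smul a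
        (Ideal.Quotient.mk (I ^ n i) r)
      have h2 : DirectSum.of (fun j => R ⧸ I ^ n j) i (Ideal.Quotient.mk (I ^ n i) r)
          = DirectSum.lof R ι (fun j => R ⧸ I ^ n j) i (Ideal.Quotient.mk (I ^ n i) r) := rfl
      rw [h2, ← h1, h0, map_zero]
    | add x y hx hy =>
      obtain ⟨k, hk⟩ := hx
      obtain ⟨l, hl⟩ := hy
      refine ⟨max k l, fun a ha => ?_⟩
      rw [smul_add, hk a (Ideal.pow_le_pow_right (le_max_left k l) ha),
        hl a (Ideal.pow_le_pow_right (le_max_right k l) ha), add_zero]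
  -- covers
  have hcov : ∀ K : ModuleCat.{u} R, ∃ (F : ModuleCat.{u} R) (p : F ⟶ K), Epi p ∧
      (LocCoh.IsPowerTorsion I K → LocCoh.IsPowerTorsion I F ∧
        ∃ (ι : Type u) (n : ι → ℕ),
          Nonempty (F ≅ ModuleCat.of R (DirectSum ι fun j => R ⧸ I ^ n j))) := by
    intro K
    by_cases hK : LocCoh.IsPowerTorsion I K
    · choose n hn using hK
      have hle : ∀ m : K, I ^ n m ≤ LinearMap.ker (LinearMap.toSpanSingleton R K m) := by
        intro m a ha
        rw [LinearMap.mem_ker, LinearMap.toSpanSingleton_apply]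
        exact hn m a ha
      let g : (DirectSum K fun m => R ⧸ I ^ n m) →ₗ[R] K :=
        DirectSum.toModule R K K (fun m => Submodule.liftQ (I ^ n m)
          (LinearMap.toSpanSingleton R K m) (hle m))
      refine ⟨ModuleCat.of R (DirectSum K fun m => R ⧸ I ^ n m), ModuleCat.ofHom g, ?_,
        fun _ => ⟨hsum K n, K, n, ⟨Iso.refl _⟩⟩⟩
      rw [ModuleCat.epi_iff_surjective]
      intro m
      refine ⟨DirectSum.lof R K (fun m => R ⧸ I ^ n m) m (Submodule.Quotient.mk 1), ?_⟩
      change g (DirectSum.lof R K (fun m => R ⧸ I ^ n m) m (Submodule.Quotient.mk 1)) = m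
      rw [DirectSum.toModule_lof, Submodule.liftQ_apply, LinearMap.toSpanSingleton_apply,
        one_smul]
    · exact ⟨K, 𝟙 K, inferInstance, fun h => absurd h hK⟩
  choose cov π hepi hspec using hcov
  let D : Groth.Agent.Helper11.GenRes.CoverData (ModuleCat.{u} R) := ⟨cov, π, hepi⟩
  have key := D.resCx_prop (fun X => LocCoh.IsPowerTorsion I X ∧
      ∃ (ι : Type u) (n : ι → ℕ),
        Nonempty (X ≅ ModuleCat.of R (DirectSum ι fun j => R ⧸ I ^ n j))) ?_ ?_
      (ModuleCat.of R M) (hspec _ hM)
  · exact ⟨D.resCx (ModuleCat.of R M), D.resπ _, D.quasiIso_resπ _, fun i => (key i).2⟩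
  · rintro X Y e ⟨h1, ι, n, ⟨e'⟩⟩
    refine ⟨?_, ι, n, ⟨e.symm ≪≫ e'⟩⟩
    intro y
    obtain ⟨k, hk⟩ := h1 (e.inv y)
    refine ⟨k, fun a ha => ?_⟩
    have h2 : e.hom (e.inv y) = y := by
      rw [← ModuleCat.comp_apply, e.inv_hom_id, ModuleCat.id_apply]
    rw [← h2, ← map_smul, hk a ha, map_zero]
  · rintro X Y f ⟨h1, -⟩
    apply hspec
    intro m
    obtain ⟨k, hk⟩ := h1 (Limits.kernel.ι f m)
    refine ⟨k, fun a ha => ?_⟩
    have hinj : Function.Injective (Limits.kernel.ι f) :=
      (ModuleCat.mono_iff_injective _).mp inferInstance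
    apply hinj
    rw [map_smul, hk a ha, map_zero]

end Groth.Agent.S7089
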