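import Groth.Statements.S7105
import Groth.Agent.Lib.Helper11.DCHomK

set_option autoImplicit false
universe u
attribute [local instance] HasDerivedCategory.standard
open CategoryTheory
open DRing

namespace Groth.Agent.S7105

/-- Let R be a commutative ring, M a cochain complex of R-modules with M^i = 0 for i > 0 and M^0
projective, and K a cochain complex with K^i = 0 for all i ≤ -2. Then the canonical map
Hom_{K(R)}(M, K) → Hom_{D(R)}(M, K), from homotopy classes of chain maps to morphisms in the derived
category, is bijective. -/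
theorem result {R : Type u} [CommRing R] (M K : DRing.Cx R)
    (hM : ∀ i : ℤ, 0 < i → Limits.IsZero (M.X i)) (hM0 : Module.Projective R (M.X 0))
    (hK : ∀ i : ℤ, i ≤ -2 → Limits.IsZero (K.X i)) :
    Function.Bijective (fun φ : (HomotopyCategory.quotient (ModuleCat.{u} R) (ComplexShape.up ℤ)).obj M ⟶
        (HomotopyCategory.quotient (ModuleCat.{u} R) (ComplexShape.up ℤ)).obj K => DerivedCategory.Qh.map φ) := by
  constructor
  · intro φ₁ φ₂ h
    dsimp only at h
    obtain ⟨x, hx⟩ := (HomotopyCategory.quotient _ _).map_surjective (φ₁ - φ₂)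
    have h0 : DerivedCategory.Q.map x = 0 := by
      have e1 := Groth.Agent.Helper11.DC.Qh_quot_map x
      rw [hx, Functor.map_sub, h, sub_self] at e1
      exact e1.symm
    obtain ⟨H⟩ := Groth.Agent.Helper11.DC.hom_inj M K hM hM0 hK x h0
    have h1 : (HomotopyCategory.quotient _ _).map x = 0 :=
      (HomotopyCategory.quotient_map_eq_zero_iff x).mpr ⟨H⟩
    rw [hx] at h1
    exact sub_eq_zero.mp h1
  · intro ξ
    obtain ⟨x, hx⟩ := Groth.Agent.Helper11.DC.hom_surj M K hM hM0 hK ξ
    exact ⟨(HomotopyCategory.quotient _ _).map x, hx⟩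

end Groth.Agent.S7105
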