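import Groth.Statements.S7106
import Groth.Agent.Lib.Helper11.DCHomK2
open Groth.Agent.Helper11.DC

set_option autoImplicit false
universe u
attribute [local instance] HasDerivedCategory.standard
open CategoryTheory
open DRing

namespace Groth.Agent.S7106

/-- Let R be a commutative ring, M a cochain complex of R-modules with M^i = 0 for i > 0 and M^0
projective, K a cochain complex with K^i = 0 for i outside [-1, 0] and K^0 projective, and a : M → K
a chain map. Then precomposition with a is the zero map Ext^1_R(K, N) → Ext^1_R(M, N) (morphisms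
into N[1] in D(R)) for every R-module N if and only if there is a map h : M^0 → K^{-1} with a^{-1} +
h ∘ d_M^{-1} = 0. (The published statement composes h^0 with the differential K^{-1} → K^0 of K,
which is not defined; this row composes it with the differential M^{-1} → M^0 of M, as the homotopy
in the published proof does.) -/
theorem result {R : Type u} [CommRing R] (M K : DRing.Cx R)
    (hM : ∀ i : ℤ, 0 < i → Limits.IsZero (M.X i)) (hM0 : Module.Projective R (M.X 0))
    (hK : ∀ i : ℤ, i ≠ -1 → i ≠ 0 → Limits.IsZero (K.X i)) (hK0 : Module.Projective R (K.X 0))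
    (a : M ⟶ K) :
    (∀ (N : Type u) [AddCommGroup N] [Module R N] (ξ : DRing.toD K ⟶ (Dual.inD R N)⟦(1 : ℤ)⟧),
        DerivedCategory.Q.map a ≫ ξ = 0) ↔
      ∃ h : M.X 0 ⟶ K.X (-1), a.f (-1) + M.d (-1) 0 ≫ h = 0 := by
  have hKpos : ∀ i : ℤ, 0 < i → Limits.IsZero (K.X i) := fun i hi => hK i (by omega) (by omega)
  constructor
  · intro hyp
    have hf : K.d (-2) (-1) ≫ 𝟙 (K.X (-1)) = 0 :=
      (hK (-2) (by norm_num) (by norm_num)).eq_of_src _ _
    have h1 := hyp (K.X (-1)) (DerivedCategory.Q.map (toS (𝟙 (K.X (-1))) hf) ≫ (ι1 (K.X (-1))).inv)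
    have h2 : DerivedCategory.Q.map (a ≫ toS (𝟙 (K.X (-1))) hf) = 0 := by
      rw [Functor.map_comp]
      have e1 : (DerivedCategory.Q.map a ≫ DerivedCategory.Q.map (toS (𝟙 (K.X (-1))) hf) ≫
          (ι1 (K.X (-1))).inv) ≫ (ι1 (K.X (-1))).hom =
          DerivedCategory.Q.map a ≫ DerivedCategory.Q.map (toS (𝟙 (K.X (-1))) hf) := by
        rw [Category.assoc, Category.assoc, Iso.inv_hom_id, Category.comp_id]
      exact e1.symm.trans ((congrArg (fun t => t ≫ (ι1 (K.X (-1))).hom) h1).trans
        Limits.zero_comp)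
    rw [comp_toS] at h2
    obtain ⟨h, hh⟩ := (ext1_zero_iff M hM hM0 _ _).mp h2
    refine ⟨-h, ?_⟩
    rw [Preadditive.comp_neg, hh, Category.comp_id, add_neg_cancel]
  · rintro ⟨h, hh⟩ N _ _ ξ
    obtain ⟨f, hf, hξ⟩ := ext1_surj K hKpos hK0 (ModuleCat.of R N)
      (ξ ≫ (ι1 (ModuleCat.of R N)).hom)
    have hξ' : ξ = DerivedCategory.Q.map (toS f hf) ≫ (ι1 (ModuleCat.of R N)).inv := by
      rw [← hξ, Category.assoc, Iso.hom_inv_id, Category.comp_id]
    have ha : a.f (-1) = -(M.d (-1) 0 ≫ h) := eq_neg_of_add_eq_zero_left hh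
    have h4 : DerivedCategory.Q.map (a ≫ toS f hf) = 0 := by
      rw [comp_toS]
      refine ext1_zero_of_factor _ _ (-(h ≫ f)) ?_
      rw [Preadditive.comp_neg, ha, Preadditive.neg_comp, Category.assoc]
    rw [hξ', ← Category.assoc, ← Functor.map_comp, h4, Limits.zero_comp]

end Groth.Agent.S7106
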