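import Groth.Statements.S7118
import Mathlib
import Groth.Agent.S7119
-- import your own Groth.Agent.* helpers here

set_option autoImplicit false
universe u
open CAlg

namespace Groth.Agent.S7118

section
open IsLocalRing

theorem main (A : Type u) [CommRing A] [IsDomain A] [IsNoetherianRing A]
    [IsLocalRing A] [IsIntegrallyClosed A] (hdim : ringKrullDim A = 2) (a : A)
    (ha : a ∈ IsLocalRing.maximalIdeal A) (ha0 : a ≠ 0) :
    ∃ c : A, c ≠ 0 ∧ IsReduced (A ⧸ Ideal.span {c}) ∧ ∃ n : ℕ, a ∣ c ^ n := by
  classical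
  have hfin : (Ideal.span {a}).minimalPrimes.Finite :=
    Ideal.finite_minimalPrimes_of_isNoetherianRing A _
  obtain ⟨c, hc0, hcs, hred⟩ := Groth.Agent.S7119.main A hdim hfin.toFinset (by
    intro p hp
    rw [Set.Finite.mem_toFinset] at hp
    have hpp : p.IsPrime := hp.1.1
    refine ⟨hpp, le_antisymm
      (Ideal.height_le_one_of_isPrincipal_of_mem_minimalPrimes _ _ hp) ?_⟩
    apply Groth.Agent.S7119.one_le_height_of_ne_bot
    intro hbot
    have : a ∈ p := hp.1.2 (Ideal.mem_span_singleton_self a)
    rw [hbot] at this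
    exact ha0 (by simpa using this))
  refine ⟨c, hc0, hred, ?_⟩
  have hcrad : c ∈ (Ideal.span {a}).radical := by
    rw [← Ideal.sInf_minimalPrimes, Ideal.mem_sInf]
    intro p hp
    exact hcs p ((Set.Finite.mem_toFinset hfin).mpr hp)
  obtain ⟨n, hn⟩ := hcrad
  exact ⟨n, Ideal.mem_span_singleton.mp hn⟩
end

/-- Let A be a Noetherian normal local domain of Krull dimension 2 and a a nonzero element of the
maximal ideal. Then there is a nonzero element c of A such that A/cA is reduced and a divides some
power cⁿ. (The published statement does not require c to be nonzero and is then satisfied by c = 0;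
this row requires c ≠ 0.) -/
theorem result (A : Type u) [CommRing A] [IsDomain A] [IsNoetherianRing A]
    [IsLocalRing A] [IsIntegrallyClosed A] (hdim : ringKrullDim A = 2) (a : A)
    (ha : a ∈ IsLocalRing.maximalIdeal A) (ha0 : a ≠ 0) :
    ∃ c : A, c ≠ 0 ∧ IsReduced (A ⧸ Ideal.span {c}) ∧ ∃ n : ℕ, a ∣ c ^ n := by
  exact Groth.Agent.S7118.main A hdim a ha ha0

end Groth.Agent.S7118
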