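import Groth.Statements.S7121
import Groth.Statements.S7121
import Mathlib
import Groth.Agent.S2016
-- import your own Groth.Agent.* helpers here

set_option autoImplicit false
universe u
open CAlg

namespace Groth.Agent.S7121

section

variable {R : Type u} [CommRing R] [IsDomain R] [IsBezout R]

/-- localizations of Bézout rings are Bézout -/
theorem isBezout_localization (S : Submonoid R) (A : Type u) [CommRing A] [Algebra R A]
    [IsLocalization S A] : IsBezout A := by
  rw [IsBezout.iff_span_pair_isPrincipal]
  intro x y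
  obtain ⟨⟨a, s⟩, hx⟩ := IsLocalization.surj S x
  obtain ⟨⟨b, t⟩, hy⟩ := IsLocalization.surj S y
  simp only at hx hy
  have hs : IsUnit (algebraMap R A s) := IsLocalization.map_units A s
  have ht : IsUnit (algebraMap R A t) := IsLocalization.map_units A t
  have h1 : (Ideal.span {x, y} : Ideal A) = Ideal.span {algebraMap R A a, algebraMap R A b} := by
    apply le_antisymm
    · rw [Ideal.span_le]
      intro z hz
      rcases hz with rfl | rfl
      · obtain ⟨u, hu⟩ := hs
        have : z = algebraMap R A a * ↑u⁻¹ := by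
          rw [← hx, ← hu, mul_assoc, Units.mul_inv, mul_one]
        rw [this]
        exact Ideal.mul_mem_right _ _ (Ideal.subset_span (by simp))
      · obtain ⟨u, hu⟩ := ht
        have : z = algebraMap R A b * ↑u⁻¹ := by
          rw [← hy, ← hu, mul_assoc, Units.mul_inv, mul_one]
        rw [this]
        exact Ideal.mul_mem_right _ _ (Ideal.subset_span (by simp))
    · rw [Ideal.span_le]
      intro z hz
      rcases hz with rfl | hz
      · rw [← hx]
        exact Ideal.mul_mem_right _ _ (Ideal.subset_span (by simp))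
      · have hz' : z = algebraMap R A b := hz
        rw [hz', ← hy]
        exact Ideal.mul_mem_right _ _ (Ideal.subset_span (by simp))
  obtain ⟨g, hg⟩ := (IsBezout.span_pair_isPrincipal a b).principal
  have h2 : (Ideal.span {algebraMap R A a, algebraMap R A b} : Ideal A) =
      Ideal.span {algebraMap R A g} := by
    have : Ideal.map (algebraMap R A) (Ideal.span {a, b}) = Ideal.map (algebraMap R A) (Ideal.span {g}) := by
      rw [hg]
    rw [Ideal.map_span, Ideal.map_span, Set.image_pair, Set.image_singleton] at this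
    exact this
  rw [h1, h2]
  exact ⟨⟨_, rfl⟩⟩

theorem chain (m : Ideal R) [m.IsMaximal] (a b : Localization.AtPrime m) : a ∣ b ∨ b ∣ a := by
  haveI : IsBezout (Localization.AtPrime m) := isBezout_localization m.primeCompl _
  exact ValuationRing.dvd_total a b

end

section
variable {R : Type u} [CommRing R] [IsDomain R] [IsBezout R]

theorem free_of_inj : ∀ (k : ℕ) (Q : Type u) [AddCommGroup Q] [Module R Q] [Module.Finite R Q]
    (ι : Q →ₗ[R] (Fin k → R)), Function.Injective ι → Module.Free R Q := by
  intro k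
  induction k with
  | zero =>
    intro Q _ _ _ ι hι
    haveI : Subsingleton Q := hι.subsingleton
    infer_instance
  | succ k ih =>
    intro Q _ _ _ ι hι
    let π : Q →ₗ[R] R := (LinearMap.proj (0 : Fin (k + 1))) ∘ₗ ι
    let I : Submodule R R := LinearMap.range π
    have hIfg : I.FG := by
      have : I = (⊤ : Submodule R Q).map π := LinearMap.range_eq_map π
      rw [this]
      exact Submodule.FG.map _ (Module.Finite.fg_top)
    have hIpr : I.IsPrincipal := IsBezout.isPrincipal_of_FG I hIfg
    have hIfree : Module.Free R I := by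
      obtain ⟨g, hg⟩ := hIpr.principal
      by_cases hg0 : g = 0
      · have : I = ⊥ := by rw [hg, hg0]; simp
        haveI : Subsingleton I := by rw [this]; infer_instance
        infer_instance
      · have e : R ≃ₗ[R] I := (LinearEquiv.toSpanNonzeroSingleton R R g hg0).trans
          (LinearEquiv.ofEq _ _ hg.symm)
        exact Module.Free.of_equiv e
    let π' : Q →ₗ[R] I := π.rangeRestrict
    have hsurj : Function.Surjective π' := LinearMap.surjective_rangeRestrict π
    obtain ⟨s, hs⟩ := π'.exists_rightInverse_of_surjective (LinearMap.range_eq_top.2 hsurj)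
    let E : (I × LinearMap.ker π') ≃ₗ[R] Q := Groth.Agent.S2016.splitEquiv π' s hs
    haveI : Module.Finite R (LinearMap.ker π') :=
      Module.Finite.of_surjective ((LinearMap.snd R I (LinearMap.ker π')) ∘ₗ E.symm.toLinearMap)
        ((LinearMap.snd_surjective (R := R) (M := I) (M₂ := LinearMap.ker π')).comp E.symm.surjective)
    let τ : LinearMap.ker π' →ₗ[R] (Fin k → R) :=
      (LinearMap.funLeft R R Fin.succ) ∘ₗ ι ∘ₗ (LinearMap.ker π').subtype
    have hτ : Function.Injective τ := by
      rw [injective_iff_map_eq_zero]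
      intro x hx
      have h0 : π (x : Q) = 0 := by
        have : π' (x : Q) = 0 := x.2
        exact congrArg Subtype.val this
      have hιx : ι (x : Q) = 0 := by
        funext i
        refine Fin.cases ?_ (fun j => ?_) i
        · exact h0
        · exact congrFun hx j
      exact Subtype.ext (hι (by rw [hιx]; simp))
    haveI := ih (LinearMap.ker π') τ hτ
    exact Module.Free.of_equiv E

end

section
variable {R : Type u} [CommRing R] [IsDomain R]

theorem torsion_equiv {A B : Type*} [AddCommGroup A] [Module R A] [AddCommGroup B] [Module R B]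
    (E : A ≃ₗ[R] B) (z : A) : E z ∈ Submodule.torsion R B ↔ z ∈ Submodule.torsion R A := by
  rw [Submodule.mem_torsion_iff, Submodule.mem_torsion_iff]
  refine exists_congr fun a => ?_
  change (a : R) • E z = 0 ↔ (a : R) • z = 0
  rw [← map_smul, LinearEquiv.map_eq_zero_iff]

theorem torsion_fst {A B : Type*} [AddCommGroup A] [Module R A] [AddCommGroup B] [Module R B]
    (z : A × B) (hz : z ∈ Submodule.torsion R (A × B)) : z.1 ∈ Submodule.torsion R A := by
  rw [Submodule.mem_torsion_iff] at hz ⊢
  obtain ⟨a, ha⟩ := hz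
  exact ⟨a, congrArg Prod.fst ha⟩

theorem torsion_inl {A B : Type*} [AddCommGroup A] [Module R A] [AddCommGroup B] [Module R B]
    (x : A) (hx : x ∈ Submodule.torsion R A) :
    ((x, 0) : A × B) ∈ Submodule.torsion R (A × B) := by
  rw [Submodule.mem_torsion_iff] at hx ⊢
  obtain ⟨a, ha⟩ := hx
  exact ⟨a, Prod.ext ha (smul_zero _)⟩

theorem mem_torsion_pi {n : ℕ} (f : Fin n → R) (y : (i : Fin n) → R ⧸ Ideal.span {f i}) :
    y ∈ Submodule.torsion R ((i : Fin n) → R ⧸ Ideal.span {f i}) ↔ ∀ i, f i = 0 → y i = 0 := by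
  classical
  rw [Submodule.mem_torsion_iff]
  constructor
  · rintro ⟨a, ha⟩ i hi
    have hai : (a : R) • y i = 0 := congrFun ha i
    obtain ⟨r, hr⟩ := Ideal.Quotient.mk_surjective (y i)
    rw [← hr] at hai ⊢
    have h1 : Ideal.Quotient.mk (Ideal.span {f i}) ((a : R) * r) = 0 := by
      rw [map_mul]; exact hai
    rw [Ideal.Quotient.eq_zero_iff_mem, hi, Ideal.mem_span_singleton, zero_dvd_iff] at h1
    have : r = 0 := by
      rcases mul_eq_zero.1 h1 with h | h
      · exact absurd h (nonZeroDivisors.ne_zero a.2)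
      · exact h
    rw [this, map_zero]
  · intro hy
    let c : R := ∏ i, (if f i = 0 then 1 else f i)
    have hc : c ≠ 0 := by
      apply Finset.prod_ne_zero_iff.2
      intro i _
      split_ifs with h
      · exact one_ne_zero
      · exact h
    refine ⟨⟨c, mem_nonZeroDivisors_of_ne_zero hc⟩, ?_⟩
    funext i
    change c • y i = 0
    by_cases hi : f i = 0
    · rw [hy i hi, smul_zero]
    · have hdvd : f i ∣ c := by
        have := Finset.dvd_prod_of_mem (fun i => if f i = 0 then 1 else f i) (Finset.mem_univ i)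
        simpa [hi] using this
      obtain ⟨d, hd⟩ := hdvd
      obtain ⟨r, hr⟩ := Ideal.Quotient.mk_surjective (y i)
      rw [← hr]
      change Ideal.Quotient.mk (Ideal.span {f i}) (c * r) = 0
      rw [Ideal.Quotient.eq_zero_iff_mem, Ideal.mem_span_singleton, hd, mul_assoc]
      exact dvd_mul_right _ _

end

section
variable {R : Type u} [CommRing R] [IsDomain R] [IsBezout R]
variable {M : Type u} [AddCommGroup M] [Module R M] [Module.FinitePresentation R M]

/-- the coordinate map killing torsion coordinates -/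
noncomputable def chi {n : ℕ} (f : Fin n → R) (i : Fin n) : (R ⧸ Ideal.span {f i}) →ₗ[R] R := by
  classical
  exact if h : f i = 0 then
    (Submodule.quotEquivOfEqBot (Ideal.span {f i} : Submodule R R) (by rw [h]; simp)).toLinearMap
    else 0

omit [IsDomain R] [IsBezout R] in
theorem chi_eq_zero_iff {n : ℕ} (f : Fin n → R) (i : Fin n) (y : R ⧸ Ideal.span {f i}) :
    chi f i y = 0 ↔ (f i = 0 → y = 0) := by
  classical
  unfold chi
  by_cases h : f i = 0
  · rw [dif_pos h]
    simp [h]
  · rw [dif_neg h]
    simp [h]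

theorem part1_2 {n : ℕ} (f : Fin n → R) {N : Type u} [AddCommGroup N] [Module R N]
    (E : (M × N) ≃ₗ[R] ((i : Fin n) → R ⧸ Ideal.span {f i})) :
    (∃ r : ℕ, Nonempty (M ≃ₗ[R] ((Fin r → R) × Submodule.torsion R M))) ∧
      ∃ (n' : ℕ) (f' : Fin n' → R), (∀ j, f' j ≠ 0) ∧
        ∃ (i : Submodule.torsion R M →ₗ[R] ((j : Fin n') → R ⧸ Ideal.span {f' j}))
          (p : ((j : Fin n') → R ⧸ Ideal.span {f' j}) →ₗ[R] Submodule.torsion R M),
          p ∘ₗ i = LinearMap.id := by
  classical
  have key : ∀ x : M, x ∈ Submodule.torsion R M ↔ ∀ i, f i = 0 → E (x, 0) i = 0 := by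
    intro x
    rw [← mem_torsion_pi f, torsion_equiv E]
    exact ⟨fun hx => torsion_inl x hx, fun hx => torsion_fst _ hx⟩
  constructor
  · let ψ : M →ₗ[R] (Fin n → R) :=
      LinearMap.pi (fun i => chi f i ∘ₗ LinearMap.proj i ∘ₗ E.toLinearMap ∘ₗ LinearMap.inl R M N)
    have hker : LinearMap.ker ψ = Submodule.torsion R M := by
      ext x
      rw [LinearMap.mem_ker, key]
      constructor
      · intro hx i
        have := congrFun hx i
        exact (chi_eq_zero_iff f i _).1 this
      · intro hx
        funext i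
        exact (chi_eq_zero_iff f i _).2 (hx i)
    let Q := LinearMap.range ψ
    haveI : Module.Finite R Q := Module.Finite.range ψ
    haveI : Module.Free R Q := free_of_inj n Q Q.subtype Q.injective_subtype
    let ψ' : M →ₗ[R] Q := ψ.rangeRestrict
    have hsurj : Function.Surjective ψ' := LinearMap.surjective_rangeRestrict ψ
    obtain ⟨s, hs⟩ := ψ'.exists_rightInverse_of_surjective (LinearMap.range_eq_top.2 hsurj)
    let E2 : (Q × LinearMap.ker ψ') ≃ₗ[R] M := Groth.Agent.S2016.splitEquiv ψ' s hs
    have hker' : LinearMap.ker ψ' = Submodule.torsion R M := by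
      rw [LinearMap.ker_rangeRestrict, hker]
    refine ⟨Module.finrank R Q, ⟨E2.symm.trans (LinearEquiv.prodCongr
      (Module.finBasis R Q).equivFun (LinearEquiv.ofEq _ _ hker'))⟩⟩
  · -- part 2
    let NZ := {j : Fin n // f j ≠ 0}
    let g : NZ → R := fun j => f j.1
    let i0 : Submodule.torsion R M →ₗ[R] ((j : NZ) → R ⧸ Ideal.span {g j}) :=
      LinearMap.pi (fun j => LinearMap.proj j.1 ∘ₗ E.toLinearMap ∘ₗ LinearMap.inl R M N ∘ₗ
        (Submodule.torsion R M).subtype)
    let ext : ((j : NZ) → R ⧸ Ideal.span {g j}) →ₗ[R] ((i : Fin n) → R ⧸ Ideal.span {f i}) :=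
      LinearMap.pi (fun i => if h : f i ≠ 0 then
        (LinearMap.proj (⟨i, h⟩ : NZ) : ((j : NZ) → R ⧸ Ideal.span {g j}) →ₗ[R] _) else 0)
    have hext0 : ∀ y i, f i = 0 → ext y i = 0 := by
      intro y i hi
      simp [ext, hi]
    have hext1 : ∀ y (i : Fin n) (hi : f i ≠ 0), ext y i = y ⟨i, hi⟩ := by
      intro y i hi
      simp [ext, hi]
    let p0 : ((j : NZ) → R ⧸ Ideal.span {g j}) →ₗ[R] Submodule.torsion R M :=
      LinearMap.codRestrict (Submodule.torsion R M)
        (LinearMap.fst R M N ∘ₗ E.symm.toLinearMap ∘ₗ ext) (by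
          intro y
          apply torsion_fst
          rw [← torsion_equiv E]
          change E (E.symm (ext y)) ∈ _
          rw [LinearEquiv.apply_symm_apply, mem_torsion_pi]
          exact hext0 y)
    have hp0i0 : p0 ∘ₗ i0 = LinearMap.id := by
      apply LinearMap.ext
      intro x
      apply Subtype.ext
      change (E.symm (ext (i0 x))).1 = x.1
      have : ext (i0 x) = E (x.1, 0) := by
        funext i
        by_cases hi : f i = 0
        · rw [hext0 _ i hi, (key x.1).1 x.2 i hi]
        · rw [hext1 _ i hi]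
          rfl
      rw [this, LinearEquiv.symm_apply_apply]
    let e := Fintype.equivFin NZ
    let E' := LinearEquiv.piCongrLeft' R (fun j : NZ => R ⧸ Ideal.span {g j}) e
    refine ⟨Fintype.card NZ, fun j => g (e.symm j), fun j => (e.symm j).2,
      E'.toLinearMap ∘ₗ i0, p0 ∘ₗ E'.symm.toLinearMap, ?_⟩
    apply LinearMap.ext
    intro x
    change p0 (E'.symm (E' (i0 x))) = x
    rw [LinearEquiv.symm_apply_apply]
    exact LinearMap.congr_fun hp0i0 x

theorem main :
    (∃ r : ℕ, Nonempty (M ≃ₗ[R] ((Fin r → R) × Submodule.torsion R M))) ∧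
      ∃ (n : ℕ) (f : Fin n → R), (∀ j, f j ≠ 0) ∧
        ∃ (i : Submodule.torsion R M →ₗ[R] ((j : Fin n) → R ⧸ Ideal.span {f j}))
          (p : ((j : Fin n) → R ⧸ Ideal.span {f j}) →ₗ[R] Submodule.torsion R M),
          p ∘ₗ i = LinearMap.id := by
  obtain ⟨n, f, N, _, _, ⟨E⟩⟩ := Groth.Agent.S2016.main (R := R) (M := M)
    (fun m _ a b => chain m a b)
  exact part1_2 f E

end

/-- Over a Bézout domain R, a finitely presented module M splits as R^r ⊕ M_tors for some r, and its
torsion part M_tors is a retract (direct summand) of R/f_1R ⊕ … ⊕ R/f_nR for some nonzero f_1, …,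
f_n. -/
theorem result (R : Type u) [CommRing R] [IsDomain R] [IsBezout R]
    (M : Type u) [AddCommGroup M] [Module R M] [Module.FinitePresentation R M] :
    (∃ r : ℕ, Nonempty (M ≃ₗ[R] ((Fin r → R) × Submodule.torsion R M))) ∧
      ∃ (n : ℕ) (f : Fin n → R), (∀ j, f j ≠ 0) ∧
        ∃ (i : Submodule.torsion R M →ₗ[R] ((j : Fin n) → R ⧸ Ideal.span {f j}))
          (p : ((j : Fin n) → R ⧸ Ideal.span {f j}) →ₗ[R] Submodule.torsion R M),
          p ∘ₗ i = LinearMap.id := by
  exact Groth.Agent.S7121.main

end Groth.Agent.S7121
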