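import Groth.Statements.S7122
import Mathlib
import Groth.Agent.Lib.Helper22.Bezout

set_option autoImplicit false
universe u
open CAlg

namespace Groth.Agent.S7122

/-- Let R be a Bézout domain, n ≥ 1, and f_1, ..., f_n elements generating the unit ideal. Then some
invertible n × n matrix over R has (f_1, ..., f_n) as its first row. -/
theorem result (R : Type u) [CommRing R] [IsDomain R] [IsBezout R]
    (n : ℕ) (f : Fin (n + 1) → R) (hf : Ideal.span (Set.range f) = ⊤) :
    ∃ A : Matrix (Fin (n + 1)) (Fin (n + 1)) R, IsUnit A.det ∧ A 0 = f := by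
  classical
  let φ : (Fin (n + 1) → R) →ₗ[R] R :=
    { toFun := fun x => ∑ i, f i * x i
      map_add' := fun x y => by simp [mul_add, Finset.sum_add_distrib]
      map_smul' := fun a x => by simp [Finset.mul_sum, mul_left_comm] }
  have hφ : ∀ x, φ x = ∑ i, f i * x i := fun x => rfl
  obtain ⟨c, hc⟩ : ∃ c : Fin (n + 1) → R, ∑ i, c i * f i = 1 := by
    have h1 : (1 : R) ∈ Ideal.span (Set.range f) := by rw [hf]; trivial
    obtain ⟨c, hc⟩ := (Submodule.mem_span_range_iff_exists_fun R).mp h1
    exact ⟨c, by simpa [smul_eq_mul] using hc⟩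
  let σ : R →ₗ[R] (Fin (n + 1) → R) := LinearMap.toSpanSingleton R _ c
  have hσ : φ ∘ₗ σ = LinearMap.id := by
    apply LinearMap.ext_ring
    simp only [LinearMap.comp_apply, σ, LinearMap.toSpanSingleton_apply, one_smul,
      LinearMap.id_apply, hφ]
    rw [← hc]; exact Finset.sum_congr rfl (fun i _ => mul_comm _ _)
  have hex : Function.Exact (LinearMap.ker φ).subtype φ := LinearMap.exact_subtype_ker_map φ
  obtain ⟨e₀, -, he₀⟩ := hex.splitSurjectiveEquiv (Submodule.injective_subtype _) ⟨σ, hσ⟩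
  haveI : Module.Finite R (LinearMap.ker φ) :=
    Module.Finite.of_surjective ((LinearMap.fst R _ _) ∘ₗ e₀.toLinearMap) (by
      intro y; exact ⟨e₀.symm (y, 0), by simp⟩)
  haveI : Module.Free R (LinearMap.ker φ) :=
    Groth.Agent.Helper22.Bezout.free_of_fg _ (Module.Finite.iff_fg.mp inferInstance)
  have hrank : Module.finrank R (LinearMap.ker φ) = n := by
    have h1 := LinearEquiv.finrank_eq e₀
    rw [Module.finrank_prod, Module.finrank_self, Module.finrank_fin_fun] at h1
    omega
  let e₁ : LinearMap.ker φ ≃ₗ[R] (Fin n → R) := (Module.finBasisOfFinrankEq R _ hrank).equivFun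
  let e : (Fin (n + 1) → R) ≃ₗ[R] (Fin (n + 1) → R) :=
    e₀ ≪≫ₗ (LinearEquiv.prodComm R _ _) ≪≫ₗ (LinearEquiv.prodCongr (LinearEquiv.refl R R) e₁) ≪≫ₗ
      (Fin.consLinearEquiv R (fun _ : Fin (n + 1) => R))
  have he0 : ∀ x, e x 0 = φ x := by
    intro x
    have : φ x = (e₀ x).2 := LinearMap.congr_fun he₀ x
    rw [this]
    rfl
  refine ⟨LinearMap.toMatrix' e.toLinearMap, ?_, ?_⟩
  · rw [LinearMap.det_toMatrix']
    exact LinearEquiv.isUnit_det' e
  · funext j
    rw [LinearMap.toMatrix'_apply]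
    change e _ 0 = _
    rw [he0, hφ]
    rw [Finset.sum_eq_single j]
    · rw [Pi.single_eq_same, mul_one]
    · intro i _ hij
      rw [Pi.single_eq_of_ne hij, mul_zero]
    · intro h
      exact absurd (Finset.mem_univ j) h

end Groth.Agent.S7122
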