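import Groth.Statements.S7123
import Mathlib

set_option autoImplicit false
universe u
open CAlg

namespace Groth.Agent.S7123

open DirectSum in
/-- For a module P over a ring R these two conditions are equivalent: (1) P is a retract (direct
summand) of a direct sum of cyclic modules R/fR, f ranging over R; (2) for every surjection of
R-modules π : B → C whose kernel A satisfies fA = A ∩ fB for every f in R, each linear map P → C
lifts through π. -/
theorem result (R : Type u) [CommRing R] (P : Type u)
    [AddCommGroup P] [Module R P] :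
    (∃ (ι : Type u) (f : ι → R) (i : P →ₗ[R] (⨁ j, R ⧸ Ideal.span {f j}))
        (p : (⨁ j, R ⧸ Ideal.span {f j}) →ₗ[R] P), p ∘ₗ i = LinearMap.id) ↔
      ∀ (B C : Type u) [AddCommGroup B] [Module R B] [AddCommGroup C] [Module R C] (π : B →ₗ[R] C),
        Function.Surjective π →
        (∀ (f : R) (b : B), π (f • b) = 0 → ∃ a : B, π a = 0 ∧ f • a = f • b) →
        ∀ ψ : P →ₗ[R] C, ∃ φ : P →ₗ[R] B, π ∘ₗ φ = ψ := by
  classical
  constructor
  · rintro ⟨ι, f, i, p, hpi⟩ B C _ _ _ _ π hπ hrd ψ
    have hcyc : ∀ (j : ι) (χ : (R ⧸ Ideal.span {f j}) →ₗ[R] C),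
        ∃ φ : (R ⧸ Ideal.span {f j}) →ₗ[R] B, π ∘ₗ φ = χ := by
      intro j χ
      obtain ⟨b, hb⟩ := hπ (χ (Submodule.Quotient.mk 1))
      have hfc : f j • χ (Submodule.Quotient.mk 1) = 0 := by
        rw [← map_smul, ← Submodule.Quotient.mk_smul,
          (Submodule.Quotient.mk_eq_zero _).mpr, map_zero]
        rw [smul_eq_mul, mul_one]
        exact Ideal.subset_span rfl
      have h1 : π (f j • b) = 0 := by rw [map_smul, hb, hfc]
      obtain ⟨a, ha0, hfa⟩ := hrd (f j) b h1
      have hb' : f j • (b - a) = 0 := by rw [smul_sub, hfa, sub_self]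
      have hker : (Ideal.span {f j} : Submodule R R) ≤
          LinearMap.ker (LinearMap.toSpanSingleton R B (b - a)) := by
        apply Submodule.span_le.mpr
        intro x hx
        rw [Set.mem_singleton_iff] at hx
        subst hx
        rw [SetLike.mem_coe, LinearMap.mem_ker, LinearMap.toSpanSingleton_apply]
        exact hb'
      refine ⟨Submodule.liftQ _ (LinearMap.toSpanSingleton R B (b - a)) hker, ?_⟩
      apply Submodule.linearMap_qext
      apply LinearMap.ext_ring
      simp only [LinearMap.comp_apply, Submodule.mkQ_apply, Submodule.liftQ_apply,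
        LinearMap.toSpanSingleton_apply, one_smul, map_sub, ha0, sub_zero, hb]
    choose φj hφj using hcyc
    let Φ : (⨁ j, R ⧸ Ideal.span {f j}) →ₗ[R] B :=
      DirectSum.toModule R ι B (fun j => φj j (ψ ∘ₗ p ∘ₗ DirectSum.lof R ι (fun j => R ⧸ Ideal.span {f j}) j))
    refine ⟨Φ ∘ₗ i, ?_⟩
    have hΦ : π ∘ₗ Φ = ψ ∘ₗ p := by
      apply DirectSum.linearMap_ext
      intro j
      apply LinearMap.ext
      intro x
      simp only [LinearMap.comp_apply, Φ, DirectSum.toModule_lof]
      exact LinearMap.congr_fun (hφj j _) x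
    rw [← LinearMap.comp_assoc, hΦ, LinearMap.comp_assoc, hpi, LinearMap.comp_id]
  · intro h
    let ι : Type u := {q : R × P // q.1 • q.2 = 0}
    let f : ι → R := fun q => q.1.1
    have hker : ∀ j : ι, (Ideal.span {f j} : Submodule R R) ≤
        LinearMap.ker (LinearMap.toSpanSingleton R P j.1.2) := by
      intro j
      apply Submodule.span_le.mpr
      intro x hx
      rw [Set.mem_singleton_iff] at hx
      subst hx
      rw [SetLike.mem_coe, LinearMap.mem_ker, LinearMap.toSpanSingleton_apply]
      exact j.2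
    let πj : ∀ j : ι, (R ⧸ Ideal.span {f j}) →ₗ[R] P := fun j =>
      Submodule.liftQ _ (LinearMap.toSpanSingleton R P j.1.2) (hker j)
    let π : (⨁ j : ι, R ⧸ Ideal.span {f j}) →ₗ[R] P := DirectSum.toModule R ι P πj
    have hπe : ∀ j : ι, π (DirectSum.lof R ι (fun j => R ⧸ Ideal.span {f j}) j
        (Submodule.Quotient.mk 1)) = j.1.2 := by
      intro j
      simp only [π, πj, DirectSum.toModule_lof, Submodule.liftQ_apply,
        LinearMap.toSpanSingleton_apply, one_smul]
    have hsurj : Function.Surjective π := by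
      intro x
      exact ⟨DirectSum.lof R ι (fun j => R ⧸ Ideal.span {f j}) ⟨(0, x), zero_smul _ _⟩
        (Submodule.Quotient.mk 1), hπe _⟩
    have hrd : ∀ (g : R) (b : ⨁ j : ι, R ⧸ Ideal.span {f j}), π (g • b) = 0 →
        ∃ a : ⨁ j : ι, R ⧸ Ideal.span {f j}, π a = 0 ∧ g • a = g • b := by
      intro g b hb
      have hgx : g • π b = 0 := by rw [← map_smul]; exact hb
      let j : ι := ⟨(g, π b), hgx⟩
      have he : π (DirectSum.lof R ι (fun j => R ⧸ Ideal.span {f j}) j
        (Submodule.Quotient.mk 1)) = π b := hπe j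
      have hge : g • (DirectSum.lof R ι (fun j => R ⧸ Ideal.span {f j}) j
        (Submodule.Quotient.mk 1)) = 0 := by
        rw [← map_smul, ← Submodule.Quotient.mk_smul,
          (Submodule.Quotient.mk_eq_zero _).mpr, map_zero]
        rw [smul_eq_mul, mul_one]
        exact Ideal.subset_span rfl
      refine ⟨b - DirectSum.lof R ι (fun j => R ⧸ Ideal.span {f j}) j
        (Submodule.Quotient.mk 1), by rw [map_sub, he, sub_self], by rw [smul_sub, hge, sub_zero]⟩
    obtain ⟨φ, hφ⟩ := h _ P π hsurj hrd LinearMap.id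
    exact ⟨ι, f, φ, π, hφ⟩

end Groth.Agent.S7123
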