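import Groth.Statements.S7128
import Groth.Agent.Lib.Helper11.AbsFlatTFAE
import Groth.Agent.Lib.Helper3.DiagFlat
open TensorProduct

set_option autoImplicit false
universe u
open EtAlg

namespace Groth.Agent.S7128

/-- A weakly étale algebra over a reduced ring is itself reduced. -/
theorem result (A B : Type u) [CommRing A] [CommRing B] [Algebra A B] [IsReduced A]
    [Algebra.WeaklyEtale A B] : IsReduced B := by
  classical
  -- the product of residue fields
  let A' : Type u := ∀ p : PrimeSpectrum A, p.asIdeal.ResidueField
  have hVNR : ∀ a : A', ∃ b : A', a * a * b = a :=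
    fun a => Groth.Agent.Helper11.pi_field_vonNeumannRegular
      (fun p : PrimeSpectrum A => p.asIdeal.ResidueField) a
  have hinjA : Function.Injective (algebraMap A A') := by
    rw [injective_iff_map_eq_zero]
    intro a ha
    have h1 : a ∈ nilradical A := by
      rw [nilradical_eq_sInf, Ideal.mem_sInf]
      intro J hJ
      haveI : J.IsPrime := hJ
      have h2 := congrFun ha ⟨J, hJ⟩
      have h3 : algebraMap A (Ideal.ResidueField J) a = 0 := h2
      rwa [Ideal.algebraMap_residueField_eq_zero] at h3
    rw [nilradical_eq_zero] at h1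
    exact h1
  let B' : Type u := A' ⊗[A] B
  haveI : Algebra.WeaklyEtale A' B' := inferInstance
  have hinjB : Function.Injective (Algebra.TensorProduct.includeRight : B →ₐ[A] A' ⊗[A] B) :=
    Algebra.TensorProduct.includeRight_injective hinjA
  have hVNR' : ∀ b : B', ∃ c : B', b * b * c = b := by
    intro b
    haveI : Module.Flat A' (B' ⧸ (Ideal.span {b} : Ideal B')) :=
      Groth.Agent.Helper11.flat_of_vonNeumannRegular hVNR _
    haveI : Module.Flat B' (B' ⧸ (Ideal.span {b} : Ideal B')) :=
      Groth.Agent.Helper3.DiagFlat.flat_of_flat_lmul' A' B' _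
        (Algebra.WeaklyEtale.flat_lmul' A' B')
    exact Groth.Agent.Helper11.exists_mul_mul_eq_of_flat_quotient b
  haveI : IsReduced B' := Groth.Agent.Helper11.isReduced_of_vonNeumannRegular hVNR'
  exact isReduced_of_injective (Algebra.TensorProduct.includeRight : B →ₐ[A] A' ⊗[A] B) hinjB

end Groth.Agent.S7128
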