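import Groth.Statements.S7131
import Groth.Agent.Lib.Helper11.WETorDim
open CategoryTheory Limits DerivedCategory Groth.Agent.Helper11.TA
attribute [local instance] HasDerivedCategory.standard

set_option autoImplicit false
universe u
open EtAlg

namespace Groth.Agent.S7131

/-- Suppose A → B is weakly étale and every A-module has tor dimension at most d. Then every B-module
has tor dimension at most d over B (weak dimension at most d ascends along weakly étale maps). -/
theorem result (A B : Type u) [CommRing A] [CommRing B] [Algebra A B]
    [Algebra.WeaklyEtale A B] (d : ℕ)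
    (hA : ∀ (M : Type u) [AddCommGroup M] [Module A M], DRing.HasTorDimLE A d M)
    (N : Type u) [AddCommGroup N] [Module B N] : DRing.HasTorDimLE B d N := by
  have hA' : ∀ (M : ModuleCat.{u} A),
      TorVan (-(d : ℤ)) 0 ((singleFunctor (ModuleCat.{u} A) 0).obj M) := by
    intro M
    rw [torVan_single_iff]
    intro N' p hp
    haveI : Subsingleton (((Tor (ModuleCat.{u} A) p).obj M).obj N') := hA M N' p hp
    exact ModuleCat.isZero_of_subsingleton _
  have h := hasTorAmplitudeIn_single_of_weaklyEtale d hA' (ModuleCat.of B N)
  have h2 := (torVan_single_iff (ModuleCat.of B N) d).mp (torVan_of_hasTorAmplitudeIn h)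
  intro N' _ _ p hp
  exact ModuleCat.subsingleton_of_isZero (h2 (ModuleCat.of B N') p hp)

end Groth.Agent.S7131
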