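import Groth.Statements.S7133
import Groth.Agent.Lib.Helper5.DVRExt

set_option autoImplicit false
set_option linter.style.haveILetI false
universe u
open EtAlg

namespace Groth.Agent.S7133

/-- For an injective local homomorphism A → B of discrete valuation rings whose fields of fractions are
K ⊆ L: if K has characteristic p > 0 and L/K is purely inseparable, then the ramification index of B
over A is a power of p. -/
theorem result (A B K L : Type u) [CommRing A] [IsDomain A]
    [IsDiscreteValuationRing A] [CommRing B] [IsDomain B] [IsDiscreteValuationRing B] [Algebra A B]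
    (hinj : Function.Injective (algebraMap A B)) [IsLocalHom (algebraMap A B)]
    [Field K] [Field L] [Algebra A K] [IsFractionRing A K] [Algebra B L] [IsFractionRing B L]
    [Algebra K L] [Algebra A L] [IsScalarTower A K L] [IsScalarTower A B L]
    (p : ℕ) (hp : p.Prime) [CharP K p] [IsPurelyInseparable K L] :
    ∃ k : ℕ, Ideal.ramificationIdx' (IsLocalRing.maximalIdeal A) (IsLocalRing.maximalIdeal B) =
      p ^ k := by
  classical
  obtain ⟨πA, hA⟩ := IsDiscreteValuationRing.exists_irreducible A
  obtain ⟨πB, hB⟩ := IsDiscreteValuationRing.exists_irreducible B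
  obtain ⟨e, u, he1, he⟩ := Groth.Agent.Helper5.DVRExt.exists_ram hinj hA hB
  rw [Groth.Agent.Helper5.DVRExt.ramificationIdx'_eq hA hB he]
  haveI : ExpChar K p := ExpChar.prime hp
  obtain ⟨n, y, hy⟩ := IsPurelyInseparable.pow_mem K p (algebraMap B L πB)
  obtain ⟨a, s, hs, rfl⟩ := IsFractionRing.div_surjective A y
  have hs0 : s ≠ 0 := nonZeroDivisors.ne_zero hs
  have hsK : algebraMap A K s ≠ 0 := by
    intro h
    exact hs0 ((IsFractionRing.injective A K) (by rw [h, map_zero]))
  -- the relation in `B`
  have hrel : πB ^ p ^ n * algebraMap A B s = algebraMap A B a := by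
    apply IsFractionRing.injective B L
    rw [map_mul, map_pow, ← hy, map_div₀, ← IsScalarTower.algebraMap_apply A B L,
      ← IsScalarTower.algebraMap_apply A B L, IsScalarTower.algebraMap_apply A K L s,
      IsScalarTower.algebraMap_apply A K L a]
    rw [div_mul_cancel₀]
    intro h
    exact hsK ((algebraMap K L).injective (by rw [h, map_zero]))
  have hfs : algebraMap A B s ≠ 0 := by
    intro h
    exact hs0 (hinj (by rw [h, map_zero]))
  have ha0 : a ≠ 0 := by
    intro h
    rw [h, map_zero] at hrel
    exact (mul_ne_zero (pow_ne_zero _ hB.ne_zero) hfs) hrel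
  obtain ⟨i, w, hsw⟩ := IsDiscreteValuationRing.eq_unit_mul_pow_irreducible hs0 hA
  obtain ⟨j, w', haw⟩ := IsDiscreteValuationRing.eq_unit_mul_pow_irreducible ha0 hA
  have hval := congrArg (IsDiscreteValuationRing.addVal B) hrel
  rw [IsDiscreteValuationRing.addVal_mul, IsDiscreteValuationRing.addVal_pow,
    IsDiscreteValuationRing.addVal_uniformizer hB, hsw, haw,
    Groth.Agent.Helper5.DVRExt.addVal_algebraMap hA hB he,
    Groth.Agent.Helper5.DVRExt.addVal_algebraMap hA hB he] at hval
  have hval' : p ^ n + i * e = j * e := by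
    have : ((p ^ n + i * e : ℕ) : ℕ∞) = ((j * e : ℕ) : ℕ∞) := by
      rw [← hval]
      push_cast
      simp
    exact_mod_cast this
  have hdvd : e ∣ p ^ n := by
    have h1 : e ∣ j * e := dvd_mul_left e j
    rw [← hval'] at h1
    exact (Nat.dvd_add_left (dvd_mul_left e i)).mp h1
  obtain ⟨k, -, hk⟩ := (Nat.dvd_prime_pow hp).mp hdvd
  exact ⟨k, hk⟩

end Groth.Agent.S7133
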