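import Groth.Statements.S7134
import Mathlib
import Groth.Agent.S2454
import Groth.Agent.S9318
import Groth.Agent.Lib.Helper14.AdicFSJacobi
import Groth.Agent.Lib.Helper14.AdicFSBaseChange
import Groth.Agent.Lib.Helper14.AdicFSRegular2
import Groth.Agent.Lib.Lead.RLR1
import Groth.Agent.Lib.Helper9.SepFS
import Groth.Agent.Lib.Helper1.AdicNoeth
-- import your own Groth.Agent.* helpers here

set_option autoImplicit false
universe u
open EtAlg

namespace Groth.Agent.S7134

open IsLocalRing

theorem flat_of_dvr (A B : Type u) [CommRing A]
    [IsDomain A] [IsDiscreteValuationRing A] [CommRing B] [IsDomain B] [Algebra A B]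
    (hinj : Function.Injective (algebraMap A B)) : Module.Flat A B := by
  rw [IsDedekindDomain.flat_iff_torsion_eq_bot, ← Submodule.isTorsionFree_iff_torsion_eq_bot,
    Module.isTorsionFree_iff_algebraMap_injective]
  exact hinj

theorem backward (A B : Type u) [CommRing A]
    [IsDomain A] [IsDiscreteValuationRing A] [CommRing B] [IsDomain B] [IsDiscreteValuationRing B] [Algebra A B]
    (hinj : Function.Injective (algebraMap A B)) [IsLocalHom (algebraMap A B)]
    (hwu : (maximalIdeal A).map (algebraMap A B) = maximalIdeal B)
    [hgr : Algebra.IsGeometricallyReduced (ResidueField A) (ResidueField B)] :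
    CAlgX.IsAdicFormallySmooth A B (maximalIdeal B) := by
  have hfg : (maximalIdeal B).FG := IsNoetherian.noetherian _
  rw [Groth.Agent.S9318.result (maximalIdeal B) hfg]
  haveI hN : IsNoetherianRing (AdicCompletion (maximalIdeal B) B) :=
    Groth.Agent.Helper1.isNoetherianRing_adicCompletion_of_fg B (maximalIdeal B) hfg
  haveI : IsScalarTower A B (AdicCompletion (maximalIdeal B) B) :=
    IsScalarTower.of_algebraMap_eq (fun _ => rfl)
  have hmap : (maximalIdeal A).map (algebraMap A (AdicCompletion (maximalIdeal B) B)) =
      maximalIdeal (AdicCompletion (maximalIdeal B) B) := by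
    rw [IsScalarTower.algebraMap_eq A B (AdicCompletion (maximalIdeal B) B), ← Ideal.map_map,
      hwu, ← AdicCompletion.maximalIdeal_eq_map]
  haveI hloc : IsLocalHom (algebraMap A (AdicCompletion (maximalIdeal B) B)) :=
    ((IsLocalRing.local_hom_TFAE (algebraMap A _)).out 0 2).mpr hmap.le
  haveI hflatAB : Module.Flat A B := flat_of_dvr A B hinj
  have hflat : Module.Flat A (AdicCompletion (maximalIdeal B) B) :=
    Module.Flat.trans A B (AdicCompletion (maximalIdeal B) B)
  let ehat : ResidueField B ≃+* ResidueField (AdicCompletion (maximalIdeal B) B) :=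
    RingEquiv.ofBijective
      (IsLocalRing.ResidueField.map (algebraMap B (AdicCompletion (maximalIdeal B) B)))
      (AdicCompletion.residueField_map_bijective B)
  have hcomm : ∀ x : ResidueField A,
      ehat (algebraMap (ResidueField A) (ResidueField B) x) =
      algebraMap (ResidueField A) (ResidueField (AdicCompletion (maximalIdeal B) B)) x := by
    intro x
    obtain ⟨a, rfl⟩ := residue_surjective x
    rfl
  let E : ResidueField B ≃ₐ[ResidueField A] ResidueField (AdicCompletion (maximalIdeal B) B) :=
    AlgEquiv.ofRingEquiv (f := ehat) hcomm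
  haveI : Algebra.IsGeometricallyReduced (ResidueField A)
      (ResidueField (AdicCompletion (maximalIdeal B) B)) :=
    Algebra.IsGeometricallyReduced.of_injective E.symm.toAlgHom E.symm.injective
  have hcohen : EGA41.IsCohenAlgebra A (AdicCompletion (maximalIdeal B) B) :=
    ⟨inferInstance, hN, inferInstance, hflat, hmap, inferInstance⟩
  have h1 := Groth.Agent.S2454.result hcohen
  have h2 := Groth.Agent.Helper14.AdicFSJacobi.isAdicFormallySmooth_of_isFormallySmoothAdic
    (maximalIdeal A) (maximalIdeal (AdicCompletion (maximalIdeal B) B)) hmap.le h1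
  rwa [AdicCompletion.maximalIdeal_eq_map] at h2


open TensorProduct in
theorem forward1 (A B : Type u) [CommRing A]
    [IsDomain A] [IsDiscreteValuationRing A] [CommRing B] [IsDomain B] [IsDiscreteValuationRing B] [Algebra A B]
    (hinj : Function.Injective (algebraMap A B)) [IsLocalHom (algebraMap A B)]
    (h : CAlgX.IsAdicFormallySmooth A B (maximalIdeal B)) :
    (maximalIdeal A).map (algebraMap A B) = maximalIdeal B := by
  let ι : B →ₐ[A] (ResidueField A) ⊗[A] B := Algebra.TensorProduct.includeRight
  have hι : Function.Surjective ι :=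
    Algebra.TensorProduct.includeRight_surjective B (residue_surjective (R := A))
  haveI : IsNoetherianRing ((ResidueField A) ⊗[A] B) :=
    isNoetherianRing_of_surjective B _ ι.toRingHom hι
  let φ : (ResidueField A) ⊗[A] B →ₐ[ResidueField A] ResidueField B :=
    Algebra.TensorProduct.lift (Algebra.ofId (ResidueField A) (ResidueField B))
      (IsScalarTower.toAlgHom A B (ResidueField B)) (fun _ _ => Commute.all _ _)
  have hφι : ∀ b, φ (ι b) = residue B b := by
    intro b
    simp [ι, φ]
  haveI : Nontrivial ((ResidueField A) ⊗[A] B) := φ.toRingHom.domain_nontrivial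
  haveI : IsLocalRing ((ResidueField A) ⊗[A] B) := IsLocalRing.of_surjective' ι.toRingHom hι
  have hT := Groth.Agent.Helper14.AdicFSBaseChange.baseChange (R' := ResidueField A)
    (maximalIdeal B) h
  have hle : (maximalIdeal B).map (Algebra.TensorProduct.includeRight :
      B →ₐ[A] (ResidueField A) ⊗[A] B) ≤ maximalIdeal ((ResidueField A) ⊗[A] B) := by
    rw [Ideal.map_le_iff_le_comap]
    intro b hb
    rw [Ideal.mem_comap, mem_maximalIdeal, mem_nonunits_iff]
    intro hu
    have h1 : IsUnit (φ (ι b)) := hu.map φ
    rw [hφι] at h1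
    exact (residue_ne_zero_iff_isUnit b).mp h1.ne_zero |> fun h2 => hb h2
  have hT' := Groth.Agent.Helper14.AdicFSBaseChange.mono hle hT
  obtain ⟨hreg, -⟩ := Groth.Agent.Helper14.AdicFSRegular.general (ResidueField A) _ hT'
  haveI := hreg
  haveI : IsDomain ((ResidueField A) ⊗[A] B) := Groth.Agent.Lead.RLR.isDomain _
  have hker0 : ∀ b : B, ι b = 0 ↔ b ∈ (maximalIdeal A).map (algebraMap A B) := by
    intro b
    have h1 : (Algebra.TensorProduct.quotIdealMapEquivQuotTensor B (maximalIdeal A)
          (Ideal.Quotient.mk _ b) = 0) ↔ b ∈ (maximalIdeal A).map (algebraMap A B) := by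
      rw [map_eq_zero_iff _ (AlgEquiv.injective _), Ideal.Quotient.eq_zero_iff_mem]
    exact h1
  have hker : RingHom.ker ι.toRingHom = (maximalIdeal A).map (algebraMap A B) := by
    ext b
    rw [RingHom.mem_ker]
    exact hker0 b
  have hprime : ((maximalIdeal A).map (algebraMap A B)).IsPrime := by
    rw [← hker]
    exact RingHom.ker_isPrime _
  have hne : (maximalIdeal A).map (algebraMap A B) ≠ ⊥ := by
    intro h0
    have h1 : maximalIdeal A ≠ ⊥ := IsDiscreteValuationRing.not_a_field A
    apply h1
    rw [eq_bot_iff]
    intro a ha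
    have h2 : algebraMap A B a ∈ (maximalIdeal A).map (algebraMap A B) := Ideal.mem_map_of_mem _ ha
    rw [h0, Ideal.mem_bot] at h2
    rw [Ideal.mem_bot]
    exact hinj (h2.trans (map_zero _).symm)
  have hmax : ((maximalIdeal A).map (algebraMap A B)).IsMaximal := hprime.isMaximal hne
  exact IsLocalRing.eq_maximalIdeal hmax

theorem forward2 (A B : Type u) [CommRing A] [IsLocalRing A] [CommRing B] [IsLocalRing B]
    [Algebra A B] [IsLocalHom (algebraMap A B)]
    (hwu : (maximalIdeal A).map (algebraMap A B) = maximalIdeal B)
    (h : CAlgX.IsAdicFormallySmooth A B (maximalIdeal B)) :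
    Algebra.FormallySmooth (ResidueField A) (ResidueField B) := by
  apply Algebra.FormallySmooth.of_comp_surjective
  intro C _ _ J hJ f
  letI : Algebra A C := ((algebraMap (ResidueField A) C).comp (algebraMap A (ResidueField A))).toAlgebra
  haveI : IsScalarTower A (ResidueField A) C := IsScalarTower.of_algebraMap_eq fun r => rfl
  haveI : IsScalarTower A (ResidueField A) (C ⧸ J) := IsScalarTower.of_algebraMap_eq fun r => rfl
  let ψ : B →ₐ[A] C ⧸ J :=
    (f.restrictScalars A).comp (IsScalarTower.toAlgHom A B (ResidueField B))
  have hψ : ∀ x ∈ (maximalIdeal B) ^ 1, ψ x = 0 := by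
    intro x hx
    rw [pow_one] at hx
    show f (residue B x) = 0
    rw [(residue_eq_zero_iff x).mpr hx, map_zero]
  obtain ⟨χ, hχ⟩ := h C J hJ ψ ⟨1, hψ⟩
  have hkill : ∀ b ∈ maximalIdeal B, χ b = 0 := by
    intro b hb
    rw [← hwu] at hb
    refine Submodule.span_induction ?_ ?_ ?_ ?_ hb
    · rintro _ ⟨a, ha, rfl⟩
      rw [AlgHom.commutes]
      show algebraMap (ResidueField A) C (residue A a) = 0
      rw [(residue_eq_zero_iff a).mpr ha, map_zero]
    · exact map_zero _
    · intro x y _ _ hx hy
      rw [map_add, hx, hy, add_zero]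
    · intro c x _ hx
      rw [smul_eq_mul, map_mul, hx, mul_zero]
  let g₀ : ResidueField B →+* C := Ideal.Quotient.lift (maximalIdeal B) χ.toRingHom hkill
  have hg₀ : ∀ b, g₀ (residue B b) = χ b := fun b => rfl
  let g : ResidueField B →ₐ[ResidueField A] C :=
    { g₀ with
      commutes' := by
        intro x
        obtain ⟨a, rfl⟩ := residue_surjective x
        show g₀ (algebraMap (ResidueField A) (ResidueField B) (residue A a)) = _
        rw [ResidueField.algebraMap_residue, hg₀, AlgHom.commutes]
        rfl }
  refine ⟨g, ?_⟩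
  ext x
  obtain ⟨b, rfl⟩ := residue_surjective x
  have := congrArg (fun F => F b) hχ
  exact this

/-- For an injective local homomorphism A → B of discrete valuation rings, A → B is formally smooth for
the adic topology of the maximal ideal of B if and only if A → B is weakly unramified and the
residue field of B is a separable (possibly transcendental, i.e. geometrically reduced) extension of
the residue field of A. -/
theorem result (A B : Type u) [CommRing A]
    [IsDomain A] [IsDiscreteValuationRing A] [CommRing B] [IsDomain B] [IsDiscreteValuationRing B] [Algebra A B]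
    (hinj : Function.Injective (algebraMap A B)) [IsLocalHom (algebraMap A B)] :
    CAlgX.IsAdicFormallySmooth A B (IsLocalRing.maximalIdeal B) ↔
      EtRam.IsWeaklyUnramified A B ∧
        Algebra.IsGeometricallyReduced (IsLocalRing.ResidueField A) (IsLocalRing.ResidueField B) := by
  constructor
  · intro h
    have hwu := forward1 A B hinj h
    refine ⟨hwu, ?_⟩
    haveI := forward2 A B hwu h
    exact Groth.Agent.Helper9.SepFS.isGeometricallyReduced_of_formallySmooth
  · rintro ⟨hwu, hgr⟩
    exact backward A B hinj hwu

end Groth.Agent.S7134
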