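import Groth.Statements.S7136
import Groth.Agent.Lib.Helper5.ArtinRees3

set_option autoImplicit false
universe u
open CAlg

namespace Groth.Agent.S7136

/-- Let A be a Noetherian ring, I an ideal, and M, N finite A-modules; write N_n = N/IⁿN, so that
Hom_A(M/IⁿM, N_n) = Hom_A(M, N_n). Then (1) the inverse system (Hom_A(M, N_n))_n, with transition
maps induced by the projections N_k → N_n, is Mittag-Leffler; (2) there is c ≥ 0 such that for all n
the kernel and the cokernel of Hom_A(M, N)/IⁿHom_A(M, N) → Hom_A(M, N_n) are annihilated by I^c. -/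
theorem result (A : Type u) [CommRing A] [IsNoetherianRing A]
    (I : Ideal A) (M N : Type u) [AddCommGroup M] [Module A M] [Module.Finite A M] [AddCommGroup N] [Module A N]
    [Module.Finite A N] :
    let Nq : ℕ → Submodule A N := fun n => I ^ n • ⊤
    let pr : ∀ n k : ℕ, n ≤ k → (N ⧸ Nq k) →ₗ[A] (N ⧸ Nq n) :=
      fun n k hnk => Submodule.mapQ (Nq k) (Nq n) (LinearMap.id : N →ₗ[A] N) (Submodule.smul_mono_left (Ideal.pow_le_pow_right hnk))
    let red : ∀ n : ℕ, (M →ₗ[A] N) → (M →ₗ[A] N ⧸ Nq n) := fun n φ => (Nq n).mkQ ∘ₗ φ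
    (∀ n : ℕ, ∃ m : ℕ, n ≤ m ∧ ∀ (k : ℕ) (hmk : m ≤ k) (hnm : n ≤ m) (ψ : M →ₗ[A] N ⧸ Nq m),
        ∃ ψ' : M →ₗ[A] N ⧸ Nq k, pr n k (hnm.trans hmk) ∘ₗ ψ' = pr n m hnm ∘ₗ ψ) ∧
    ∃ c : ℕ, ∀ n : ℕ,
      (∀ φ : M →ₗ[A] N, red n φ = 0 → ∀ a ∈ I ^ c, a • φ ∈ (I ^ n • ⊤ : Submodule A (M →ₗ[A] N))) ∧
      (∀ (ψ : M →ₗ[A] N ⧸ Nq n), ∀ a ∈ I ^ c, ∃ φ : M →ₗ[A] N, red n φ = a • ψ) := by
  intro Nq pr red
  obtain ⟨c₁, hc₁⟩ := Groth.Agent.Helper5.ArtinRees.exists_approx_lift I M N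
  obtain ⟨c₂, hc₂⟩ := Groth.Agent.Helper5.ArtinRees.exists_smul_hom_mem I M N
  refine ⟨?_, ?_⟩
  · intro n
    refine ⟨n + c₁, Nat.le_add_right _ _, fun k hmk hnm ψ => ?_⟩
    obtain ⟨φ, hφ⟩ := hc₁ n ψ
    refine ⟨(Nq k).mkQ ∘ₗ φ, ?_⟩
    ext x
    obtain ⟨y, hy⟩ := Submodule.Quotient.mk_surjective _ (ψ x)
    simp only [LinearMap.comp_apply, Submodule.mkQ_apply, pr]
    rw [← hy, Submodule.mapQ_apply, Submodule.mapQ_apply, LinearMap.id_apply, LinearMap.id_apply,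
      Submodule.Quotient.eq]
    exact hφ x y hy
  · refine ⟨max c₁ c₂, fun n => ⟨?_, ?_⟩⟩
    · intro φ hφ a ha
      apply hc₂ n φ _ a (Ideal.pow_le_pow_right (le_max_right _ _) ha)
      intro m
      have := congrArg (fun f => f m) hφ
      simp only [red, LinearMap.comp_apply, Submodule.mkQ_apply, LinearMap.zero_apply,
        Submodule.Quotient.mk_eq_zero] at this
      exact this
    · intro ψ a ha
      have ha' : a ∈ I ^ c₁ := Ideal.pow_le_pow_right (le_max_left _ _) ha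
      have hle : Nq n ≤ (Nq (n + c₁)).comap (a • (LinearMap.id : N →ₗ[A] N)) := by
        intro y hy
        simp only [Submodule.mem_comap, LinearMap.smul_apply, LinearMap.id_apply, Nq]
        rw [add_comm, pow_add, mul_smul]
        exact Submodule.smul_mem_smul ha' hy
      let μ : (N ⧸ Nq n) →ₗ[A] (N ⧸ Nq (n + c₁)) :=
        Submodule.mapQ (Nq n) (Nq (n + c₁)) (a • (LinearMap.id : N →ₗ[A] N)) hle
      obtain ⟨φ, hφ⟩ := hc₁ n (μ ∘ₗ ψ)
      refine ⟨φ, ?_⟩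
      ext x
      obtain ⟨y, hy⟩ := Submodule.Quotient.mk_surjective _ (ψ x)
      simp only [red, LinearMap.comp_apply, Submodule.mkQ_apply, LinearMap.smul_apply]
      rw [← hy, ← Submodule.Quotient.mk_smul, Submodule.Quotient.eq]
      apply hφ x (a • y)
      rw [LinearMap.comp_apply, ← hy]
      simp only [μ, Submodule.mapQ_apply, LinearMap.smul_apply, LinearMap.id_apply]

end Groth.Agent.S7136
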