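import Groth.Statements.S7139
-- import your own Groth.Agent.* helpers here
import Groth.Agent.Lib.Helper3.InIn4

set_option autoImplicit false
universe u
open EtAlg

namespace Groth.Agent.S7139

/-- A is a discrete valuation ring, K its field of fractions, and L/K is finite Galois with Galois group
G. Write B for the integral closure of A in L, equipped with the induced G-action, m a maximal ideal
of B and I ⊆ G its inertia group. Denote by B' the integral closure of A inside the fixed field L^I,
with a map to B compatible with L^I ⊆ L. Then the image of B' in B is the ring of invariants B^I,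
and A → B'_{m'} is étale, where m' = m ∩ B'. -/
theorem result (A K L B : Type u) [CommRing A] [IsDomain A]
    [IsDiscreteValuationRing A] [Field K] [Field L] [Algebra A K] [IsFractionRing A K] [Algebra K L]
    [Algebra A L] [IsScalarTower A K L] [FiniteDimensional K L] [IsGalois K L]
    [CommRing B] [Algebra A B] [Algebra B L] [IsScalarTower A B L] [IsIntegralClosure B A L]
    [MulSemiringAction (L ≃ₐ[K] L) B]
    (hact : ∀ (σ : L ≃ₐ[K] L) (b : B), algebraMap B L (σ • b) = σ (algebraMap B L b))
    (m : Ideal B) [m.IsMaximal]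
    (B' : Type u) [CommRing B'] [Algebra A B'] [Algebra B' B] [IsScalarTower A B' B] [Algebra B' L]
    [IsScalarTower B' B L]
    [Algebra B' (IntermediateField.fixedField (m.inertia (L ≃ₐ[K] L)))]
    [IsScalarTower B' (IntermediateField.fixedField (m.inertia (L ≃ₐ[K] L))) L]
    [IsIntegralClosure B' A (IntermediateField.fixedField (m.inertia (L ≃ₐ[K] L)))] :
    (∀ b : B, (∀ σ ∈ m.inertia (L ≃ₐ[K] L), σ • b = b) ↔ b ∈ Set.range (algebraMap B' B)) ∧
      Algebra.Etale A (Localization.AtPrime (m.comap (algebraMap B' B))) := by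
  classical
  have hinjBL : Function.Injective (algebraMap B L) := IsIntegralClosure.algebraMap_injective B A L
  have hB'L : ∀ b' : B', algebraMap B' L b' =
      ((algebraMap B' (IntermediateField.fixedField (m.inertia (L ≃ₐ[K] L))) b' :
        IntermediateField.fixedField (m.inertia (L ≃ₐ[K] L))) : L) := fun b' => by
    rw [IsScalarTower.algebraMap_apply B' (IntermediateField.fixedField (m.inertia (L ≃ₐ[K] L))) L]
    rfl
  have hB'BL : ∀ b' : B', algebraMap B L (algebraMap B' B b') = algebraMap B' L b' := fun b' =>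
    (IsScalarTower.algebraMap_apply B' B L b').symm
  have hinjB'B : Function.Injective (algebraMap B' B) := by
    intro x y hxy
    apply IsIntegralClosure.algebraMap_injective B' A
      (IntermediateField.fixedField (m.inertia (L ≃ₐ[K] L)))
    apply Subtype.ext
    rw [← hB'L, ← hB'L, ← hB'BL, ← hB'BL, hxy]
  -- Part 1
  have part1 : ∀ b : B, (∀ σ ∈ m.inertia (L ≃ₐ[K] L), σ • b = b) ↔
      b ∈ Set.range (algebraMap B' B) := by
    intro b
    constructor
    · intro hb
      have hxF : algebraMap B L b ∈ IntermediateField.fixedField (m.inertia (L ≃ₐ[K] L)) := by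
        rw [IntermediateField.mem_fixedField_iff]
        intro σ hσ
        rw [← hact, hb σ hσ]
      have hint : IsIntegral A (algebraMap B L b) := (IsIntegralClosure.isIntegral A L b).algebraMap
      haveI : IsScalarTower A (IntermediateField.fixedField (m.inertia (L ≃ₐ[K] L))) L :=
        IsScalarTower.of_algebraMap_eq (fun a => rfl)
      have hint' : IsIntegral A (⟨algebraMap B L b, hxF⟩ :
          IntermediateField.fixedField (m.inertia (L ≃ₐ[K] L))) := by
        rw [← isIntegral_algebraMap_iff (B := L) (algebraMap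
          (IntermediateField.fixedField (m.inertia (L ≃ₐ[K] L))) L).injective]
        exact hint
      obtain ⟨b', hb'⟩ := (IsIntegralClosure.isIntegral_iff (A := B')).mp hint'
      refine ⟨b', hinjBL ?_⟩
      rw [hB'BL, hB'L, hb']
    · rintro ⟨b', rfl⟩ σ hσ
      apply hinjBL
      rw [hact, hB'BL, hB'L]
      exact (IntermediateField.mem_fixedField_iff _ _).mp
        (algebraMap B' (IntermediateField.fixedField (m.inertia (L ≃ₐ[K] L))) b').2 σ hσ
  refine ⟨part1, ?_⟩
  -- Part 2: instances
  have hAL : ∀ a : A, algebraMap B L (algebraMap A B a) = algebraMap K L (algebraMap A K a) :=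
    fun a => by
      rw [← IsScalarTower.algebraMap_apply A B L, ← IsScalarTower.algebraMap_apply A K L]
  haveI : SMulCommClass (L ≃ₐ[K] L) A B := ⟨fun σ a b => hinjBL (by
    rw [hact, Algebra.smul_def, Algebra.smul_def, map_mul, map_mul, map_mul, hact, hAL,
      AlgEquiv.commutes])⟩
  haveI : Algebra.IsInvariant A B (L ≃ₐ[K] L) := ⟨fun b hb => by
    have hfix : ∀ σ : L ≃ₐ[K] L, σ (algebraMap B L b) = algebraMap B L b := fun σ => by
      rw [← hact, hb σ]
    obtain ⟨k, hk⟩ := (IsGalois.mem_range_algebraMap_iff_fixed (F := K) (E := L) _).mpr hfix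
    have hint : IsIntegral A (algebraMap B L b) := (IsIntegralClosure.isIntegral A L b).algebraMap
    rw [← hk, isIntegral_algebraMap_iff (algebraMap K L).injective] at hint
    obtain ⟨a, ha⟩ := IsIntegrallyClosed.algebraMap_eq_of_integral hint
    refine ⟨a, hinjBL ?_⟩
    rw [hAL, ha, hk]⟩
  haveI : Module.Finite A B := IsIntegralClosure.finite A K L B
  haveI : IsDomain B := hinjBL.isDomain
  haveI : FaithfulSMul A B := (faithfulSMul_iff_algebraMap_injective A B).mpr (by
    intro x y hxy
    have h1 := congrArg (algebraMap B L) hxy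
    rw [hAL, hAL] at h1
    exact IsFractionRing.injective A K ((algebraMap K L).injective h1))
  have hE := Groth.Agent.Helper3.InIn.etale_inLoc (A := A) (G := L ≃ₐ[K] L) m
  -- the ring isomorphism `B' ≃ B^I`
  have hmem : ∀ b' : B', algebraMap B' B b' ∈
      Groth.Agent.Helper3.InIn.inRing (A := A) (G := L ≃ₐ[K] L) m := fun b' =>
    (Groth.Agent.Helper3.InIn.mem_inRing m).mpr fun t ht =>
      (part1 _).mpr ⟨b', rfl⟩ (t : L ≃ₐ[K] L) (Ideal.coe_mem_inertia.mpr ht)
  let f : B' →+* Groth.Agent.Helper3.InIn.inRing (A := A) (G := L ≃ₐ[K] L) m :=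
    RingHom.codRestrict (algebraMap B' B) _ hmem
  have hf : ∀ b', ((f b' : Groth.Agent.Helper3.InIn.inRing (A := A) (G := L ≃ₐ[K] L) m) : B) =
      algebraMap B' B b' := fun b' => rfl
  have hfbij : Function.Bijective f := by
    constructor
    · intro x y hxy
      apply hinjB'B
      rw [← hf, ← hf, hxy]
    · intro s
      have hs := (Groth.Agent.Helper3.InIn.mem_inRing m).mp s.2
      obtain ⟨b', hb'⟩ := (part1 (s : B)).mp (fun σ hσ =>
        hs ⟨σ, Ideal.inertia_le_stabilizer m hσ⟩ (Ideal.coe_mem_inertia.mp hσ))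
      exact ⟨b', Subtype.ext hb'⟩
  let e : B' ≃+* Groth.Agent.Helper3.InIn.inRing (A := A) (G := L ≃ₐ[K] L) m :=
    RingEquiv.ofBijective f hfbij
  have he : ∀ b', ((e b' : Groth.Agent.Helper3.InIn.inRing (A := A) (G := L ≃ₐ[K] L) m) : B) =
      algebraMap B' B b' := fun b' => rfl
  have hmap : (m.comap (algebraMap B' B)).primeCompl.map e.toMonoidHom =
      (Groth.Agent.Helper3.InIn.inPrime (A := A) (G := L ≃ₐ[K] L) m).primeCompl := by
    ext x
    constructor
    · rintro ⟨b', hb', rfl⟩
      exact hb'
    · intro hx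
      obtain ⟨b', rfl⟩ := e.surjective x
      exact ⟨b', hx, rfl⟩
  let ε : Localization.AtPrime (m.comap (algebraMap B' B)) ≃+*
      Localization.AtPrime (Groth.Agent.Helper3.InIn.inPrime (A := A) (G := L ≃ₐ[K] L) m) :=
    IsLocalization.ringEquivOfRingEquiv _ _ e hmap
  have hε : ∀ a : A, ε (algebraMap A _ a) = algebraMap A _ a := fun a => by
    rw [IsScalarTower.algebraMap_apply A B' (Localization.AtPrime (m.comap (algebraMap B' B))),
      IsLocalization.ringEquivOfRingEquiv_eq,
      IsScalarTower.algebraMap_apply A (Groth.Agent.Helper3.InIn.inRing (A := A) (G := L ≃ₐ[K] L) m)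
        (Localization.AtPrime (Groth.Agent.Helper3.InIn.inPrime (A := A) (G := L ≃ₐ[K] L) m))]
    congr 1
    apply Subtype.ext
    rw [he, ← IsScalarTower.algebraMap_apply A B' B]
    rfl
  let ε' : Localization.AtPrime (Groth.Agent.Helper3.InIn.inPrime (A := A) (G := L ≃ₐ[K] L) m)
      ≃ₐ[A] Localization.AtPrime (m.comap (algebraMap B' B)) :=
    (AlgEquiv.ofRingEquiv (f := ε) hε).symm
  exact Algebra.Etale.of_equiv (R := A)
    (A := Localization.AtPrime (Groth.Agent.Helper3.InIn.inPrime (A := A) (G := L ≃ₐ[K] L) m))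
    (B := Localization.AtPrime (m.comap (algebraMap B' B))) ε'

end Groth.Agent.S7139
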