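import Groth.Statements.S7140
import Mathlib
-- import your own Groth.Agent.* helpers here

set_option autoImplicit false
universe u
open EtAlg

namespace Groth.Agent.S7140

section
universe v
open Polynomial Finset

/-- the universal ring `ℤ[ζ_p]`. -/
abbrev O (p : ℕ) : Type := AdjoinRoot (cyclotomic p ℤ)

lemma isDomain_O (p : ℕ) (hp : p.Prime) : IsDomain (O p) := by
  apply AdjoinRoot.isDomain_of_prime
  exact (cyclotomic.irreducible hp.pos).prime

lemma charZero_O (p : ℕ) (hp : p.Prime) : CharZero (O p) := by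
  have hinj : Function.Injective (AdjoinRoot.of (cyclotomic p ℤ)) := by
    apply AdjoinRoot.of.injective_of_degree_ne_zero
    rw [degree_cyclotomic]
    have := Nat.totient_pos.mpr hp.pos
    exact_mod_cast this.ne'
  exact charZero_of_injective_ringHom hinj

lemma isPrimitiveRoot_root (p : ℕ) (hp : p.Prime) :
    IsPrimitiveRoot (AdjoinRoot.root (cyclotomic p ℤ)) p := by
  haveI := isDomain_O p hp
  haveI := charZero_O p hp
  rw [← isRoot_cyclotomic_iff_charZero hp.pos]
  have := AdjoinRoot.isRoot_root (cyclotomic p ℤ)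
  rwa [map_cyclotomic] at this

/-- `p = u * (1-ζ)^(p-1)` with `u ≡ -1 mod (1-ζ)`. -/
lemma exists_u (p : ℕ) (hp : p.Prime) :
    ∃ u : O p, (p : O p) = u * (1 - AdjoinRoot.root (cyclotomic p ℤ)) ^ (p - 1) ∧
      u + 1 ∈ Ideal.span {1 - AdjoinRoot.root (cyclotomic p ℤ)} := by
  haveI := isDomain_O p hp
  set ζ := AdjoinRoot.root (cyclotomic p ℤ) with hζdef
  have hprim : IsPrimitiveRoot ζ ((p - 1) + 1) := by
    rw [Nat.sub_add_cancel hp.one_le]; exact isPrimitiveRoot_root p hp
  have hprod := hprim.prod_one_sub_pow_eq_order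
  have hfac : ∀ k : ℕ, (1 - ζ ^ (k + 1)) = (1 - ζ) * ∑ j ∈ range (k + 1), ζ ^ j := fun k =>
    (mul_neg_geom_sum ζ (k + 1)).symm
  simp only [hfac, prod_mul_distrib, prod_const, card_range] at hprod
  refine ⟨∏ k ∈ range (p - 1), ∑ j ∈ range (k + 1), ζ ^ j, ?_, ?_⟩
  · rw [mul_comm, hprod]
    have : ((p - 1 : ℕ) : O p) + 1 = ((p - 1 + 1 : ℕ) : O p) := by push_cast; ring
    rw [this, Nat.sub_add_cancel hp.one_le]
  · rw [← Ideal.Quotient.eq_zero_iff_mem]
    set I : Ideal (O p) := Ideal.span {1 - ζ} with hI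
    have hζ1 : Ideal.Quotient.mk I ζ = 1 := by
      have : Ideal.Quotient.mk I (1 - ζ) = 0 :=
        Ideal.Quotient.eq_zero_iff_mem.mpr (Ideal.mem_span_singleton_self _)
      rw [map_sub, map_one, sub_eq_zero] at this
      exact this.symm
    have hp0 : Ideal.Quotient.mk I (p : O p) = 0 := by
      have : (p : O p) = ((p - 1 : ℕ) : O p) + 1 := by
        have : ((p - 1 : ℕ) : O p) + 1 = ((p - 1 + 1 : ℕ) : O p) := by push_cast; ring
        rw [this, Nat.sub_add_cancel hp.one_le]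
      rw [this, ← hprod, Ideal.Quotient.eq_zero_iff_mem]
      apply Ideal.mul_mem_right
      have h1 : p - 1 = (p - 2) + 1 := by have := hp.two_le; omega
      rw [h1, pow_succ]
      exact Ideal.mul_mem_left _ _ (Ideal.mem_span_singleton_self _)
    rw [map_add, map_prod, map_one]
    simp only [map_sum, map_pow, hζ1, one_pow, sum_const, card_range, nsmul_eq_mul, mul_one]
    have h2 : ∏ x ∈ range (p - 1), (((x + 1 : ℕ)) : O p ⧸ I) = (((p - 1).factorial : ℕ) : O p ⧸ I) := by
      rw [← Nat.cast_prod, Finset.prod_range_add_one_eq_factorial]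
    rw [h2]
    haveI : Fact p.Prime := ⟨hp⟩
    have hw : (((p - 1).factorial + 1 : ℕ) : ZMod p) = 0 := by
      push_cast; rw [ZMod.wilsons_lemma]; ring
    rw [ZMod.natCast_eq_zero_iff] at hw
    obtain ⟨c, hc⟩ := hw
    have : (((p - 1).factorial : ℕ) : O p ⧸ I) + 1 = (((p - 1).factorial + 1 : ℕ) : O p ⧸ I) := by
      push_cast; ring
    rw [this, hc]
    push_cast
    have : ((p : ℕ) : O p ⧸ I) = Ideal.Quotient.mk I (p : O p) := by simp
    rw [this, hp0, zero_mul]

/-- the coefficients -/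
noncomputable def c (p : ℕ) {D : Type*} [CommRing D] (w u : D) (i : ℕ) : D :=
  ((p.choose i / p : ℕ) : D) * u * w ^ (i - 1)

noncomputable def P0 (p : ℕ) {D : Type*} [CommRing D] (w u : D) : D[X] :=
  X ^ p + ∑ i ∈ Ioo 0 p, C (c p w u i) * X ^ i

lemma key_identity (p : ℕ) (hp : p.Prime) {D : Type*} [CommRing D] (w u : D)
    (hu : (p : D) = u * w ^ (p - 1)) :
    C (w ^ p) * P0 p w u = (1 + C w * X) ^ p - 1 := by
  have hrange : range (p + 1) = insert 0 (insert p (Ioo 0 p)) := by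
    ext i; simp only [mem_range, mem_insert, mem_Ioo]; have := hp.pos; omega
  have h0 : (0 : ℕ) ∉ insert p (Ioo 0 p) := by
    simp only [mem_insert, mem_Ioo]; have := hp.pos; omega
  have hpn : p ∉ Ioo 0 p := by simp
  rw [add_comm 1 (C w * X), add_pow, hrange, sum_insert h0, sum_insert hpn]
  simp only [pow_zero, one_pow, mul_one, Nat.choose_zero_right, Nat.cast_one, Nat.choose_self,
    Nat.sub_self]
  rw [P0, mul_add, mul_sum]
  have hterm : ∀ m ∈ Ioo 0 p, (C w * X) ^ m * ((p.choose m : ℕ) : D[X]) =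
      C (w ^ p) * (C (c p w u m) * X ^ m) := by
    intro m hm
    rw [mem_Ioo] at hm
    have hdvd : p ∣ p.choose m := hp.dvd_choose_self (by omega) hm.2
    have hq : p.choose m = p * (p.choose m / p) := (Nat.mul_div_cancel' hdvd).symm
    have hq' : ((p.choose m : ℕ) : D) = u * w ^ (p - 1) * ((p.choose m / p : ℕ) : D) := by
      conv_lhs => rw [hq]
      rw [Nat.cast_mul, hu]
    have : ((p.choose m : ℕ) : D[X]) = C ((p.choose m : ℕ) : D) := by simp
    rw [this, hq', c, mul_pow, ← C_pow]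
    obtain ⟨m', rfl⟩ : ∃ m', m = m' + 1 := ⟨m - 1, by omega⟩
    obtain ⟨n, rfl⟩ : ∃ n, p = n + 1 := ⟨p - 1, by have := hp.pos; omega⟩
    simp only [Nat.add_sub_cancel]
    simp only [map_mul, map_pow]
    ring
  rw [sum_congr rfl hterm, mul_pow, ← C_pow]
  ring

lemma P0_form (p : ℕ) (hp : p.Prime) {D : Type*} [CommRing D] (w u : D) :
    P0 p w u = X ^ p - X +
      ∑ i ∈ Ioo 0 p, C (c p w u i + if i = 1 then 1 else 0) * X ^ i := by
  have h1 : (1 : ℕ) ∈ Ioo 0 p := by rw [mem_Ioo]; exact ⟨one_pos, hp.one_lt⟩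
  have : ∀ i ∈ Ioo 0 p, C (c p w u i + if i = 1 then 1 else 0) * X ^ i =
      C (c p w u i) * X ^ i + (if i = 1 then (X : D[X]) else 0) := by
    intro i _
    split_ifs with h
    · subst h; simp [add_mul]
    · simp
  rw [sum_congr rfl this, sum_add_distrib, sum_ite_eq' (Ioo 0 p) 1 (fun _ => (X : D[X])), if_pos h1,
    P0]
  ring

lemma a_mem (p : ℕ) (hp : p.Prime) {D : Type*} [CommRing D] (w u : D)
    (hu1 : u + 1 ∈ Ideal.span {w}) (i : ℕ) :
    (c p w u i + if i = 1 then 1 else 0) ∈ Ideal.span {w} := by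
  rcases Nat.lt_trichotomy i 1 with h | h | h
  · have hi : i = 0 := by omega
    subst hi
    have : 1 / p = 0 := Nat.div_eq_of_lt hp.one_lt
    simp [c, this]
  · subst h
    have : p / p = 1 := Nat.div_self hp.pos
    simpa [c, this] using hu1
  · have hi : i ≠ 1 := by omega
    rw [if_neg hi, add_zero, c]
    obtain ⟨j, rfl⟩ : ∃ j, i = j + 2 := ⟨i - 2, by omega⟩
    have : j + 2 - 1 = j + 1 := by omega
    rw [this, pow_succ, ← mul_assoc]
    exact Ideal.mul_mem_left _ _ (Ideal.mem_span_singleton_self _)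

/-- The functional equation, in the universal (domain) case. -/
lemma funeq (p : ℕ) {D : Type} [CommRing D] [IsDomain D] (w : D) (hw : w ≠ 0) (P : D[X])
    (hP : C (w ^ p) * P = (1 + C w * X) ^ p - 1)
    (S : Type v) [CommRing S] [Algebra D S] (z₁ z₂ : S) :
    aeval (z₁ + z₂ + algebraMap D S w * z₁ * z₂) P =
      aeval z₁ P + aeval z₂ P + algebraMap D S (w ^ p) * aeval z₁ P * aeval z₂ P := by
  let T := MvPolynomial (Fin 2) D
  have hT : ∀ z : T, algebraMap D T (w ^ p) * aeval z P = (1 + algebraMap D T w * z) ^ p - 1 := by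
    intro z
    have := congrArg (aeval z) hP
    simpa using this
  set W : T := algebraMap D T w with hW
  have hWp : algebraMap D T (w ^ p) = W ^ p := by rw [map_pow]
  have hW0 : W ^ p ≠ 0 := by
    apply pow_ne_zero
    rw [hW, MvPolynomial.algebraMap_eq]
    exact (map_ne_zero_iff _ (MvPolynomial.C_injective (Fin 2) D)).mpr hw
  set Z₁ : T := MvPolynomial.X 0
  set Z₂ : T := MvPolynomial.X 1
  have key : aeval (Z₁ + Z₂ + W * Z₁ * Z₂) P =
      aeval Z₁ P + aeval Z₂ P + W ^ p * aeval Z₁ P * aeval Z₂ P := by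
    apply mul_left_cancel₀ hW0
    have e1 := hT Z₁
    have e2 := hT Z₂
    have e3 := hT (Z₁ + Z₂ + W * Z₁ * Z₂)
    rw [hWp] at e1 e2 e3
    have f1 : (1 + W * Z₁) ^ p = W ^ p * aeval Z₁ P + 1 := by rw [e1]; ring
    have f2 : (1 + W * Z₂) ^ p = W ^ p * aeval Z₂ P + 1 := by rw [e2]; ring
    have f3 : (1 + W * (Z₁ + Z₂ + W * Z₁ * Z₂)) = (1 + W * Z₁) * (1 + W * Z₂) := by ring
    rw [e3, f3, mul_pow, f1, f2]
    ring
  let ψ : T →ₐ[D] S := MvPolynomial.aeval ![z₁, z₂]
  have := congrArg ψ key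
  simp only [map_add, map_mul, map_pow, ← aeval_algHom_apply] at this
  have hψ1 : ψ Z₁ = z₁ := by
    show MvPolynomial.aeval ![z₁, z₂] (MvPolynomial.X 0) = z₁
    rw [MvPolynomial.aeval_X]; rfl
  have hψ2 : ψ Z₂ = z₂ := by
    show MvPolynomial.aeval ![z₁, z₂] (MvPolynomial.X 1) = z₂
    rw [MvPolynomial.aeval_X]; rfl
  have hψW : ψ W = algebraMap D S w := by simp [ψ, W]
  rw [hψ1, hψ2, hψW] at this
  rw [this, map_pow]

theorem main (p : ℕ) (hp : p.Prime) (A : Type u) [CommRing A] (ζ : A)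
    (hζ : aeval ζ (cyclotomic p ℤ) = 0) :
    ∃ P : A[X], C ((1 - ζ) ^ p) * P = (1 + C (1 - ζ) * X) ^ p - 1 ∧
      (∃ a : ℕ → A, (∀ i, a i ∈ Ideal.span {1 - ζ}) ∧
        P = X ^ p - X + (Finset.Ioo 0 p).sum (fun i => C (a i) * X ^ i)) ∧
      ∀ (S : Type u) [CommRing S] [Algebra A S] (z₁ z₂ : S),
        aeval (z₁ + z₂ + algebraMap A S (1 - ζ) * z₁ * z₂) P =
          aeval z₁ P + aeval z₂ P + algebraMap A S ((1 - ζ) ^ p) * aeval z₁ P * aeval z₂ P := by
  haveI := isDomain_O p hp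
  obtain ⟨u, hu, hu1⟩ := exists_u p hp
  set ζ₀ : O p := AdjoinRoot.root (cyclotomic p ℤ) with hζ₀
  set w₀ : O p := 1 - ζ₀ with hw₀
  have hw0 : w₀ ≠ 0 := by
    rw [hw₀, sub_ne_zero]
    exact ((isPrimitiveRoot_root p hp).ne_one hp.one_lt).symm
  have hζ' : eval₂ (Int.castRingHom A) ζ (cyclotomic p ℤ) = 0 := by
    rw [← hζ, aeval_def]; rfl
  let φ : O p →+* A := AdjoinRoot.lift (Int.castRingHom A) ζ hζ'
  have hφζ : φ ζ₀ = ζ := AdjoinRoot.lift_root hζ'
  have hφw : φ w₀ = 1 - ζ := by rw [hw₀, map_sub, map_one, hφζ]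
  have hkey := key_identity p hp w₀ u hu
  refine ⟨(P0 p w₀ u).map φ, ?_, ⟨fun i => φ (c p w₀ u i + if i = 1 then 1 else 0), ?_, ?_⟩, ?_⟩
  · have := congrArg (Polynomial.map φ) hkey
    simpa [Polynomial.map_pow, Polynomial.map_sub, Polynomial.map_add, Polynomial.map_mul,
      Polynomial.map_C, Polynomial.map_X, Polynomial.map_one, hφw] using this
  · intro i
    have h1 := a_mem p hp w₀ u hu1 i
    have h2 := Ideal.mem_map_of_mem φ h1
    rwa [Ideal.map_span, Set.image_singleton, hφw] at h2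
  · have := congrArg (Polynomial.map φ) (P0_form p hp w₀ u)
    rw [this]
    simp only [Polynomial.map_pow, Polynomial.map_sub, Polynomial.map_add, Polynomial.map_mul,
      Polynomial.map_C, Polynomial.map_X, Polynomial.map_sum]
  · intro S _ _ z₁ z₂
    letI : Algebra (O p) S := ((algebraMap A S).comp φ).toAlgebra
    have halg : algebraMap (O p) S = (algebraMap A S).comp φ := RingHom.algebraMap_toAlgebra _
    have hfe := funeq p w₀ hw0 (P0 p w₀ u) hkey S z₁ z₂
    have conv : ∀ z : S, aeval z ((P0 p w₀ u).map φ) = aeval z (P0 p w₀ u) := by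
      intro z
      rw [aeval_def, aeval_def, eval₂_map, halg]
    rw [conv, conv, conv]
    rw [halg] at hfe
    simp only [RingHom.comp_apply, map_pow, hφw] at hfe
    rw [map_pow]
    exact hfe

end

open Polynomial in
/-- Let p be a prime and A a ring with an element ζ satisfying 1 + ζ + ... + ζ^(p-1) = 0 (so that A is
an algebra over the ring of integers of the p-th cyclotomic field); set w = 1 - ζ. Then the
polynomial ((1 + wz)^p - 1)/w^p makes sense in A[z]: there is P in A[z] with w^p·P = (1 + wz)^p - 1,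
of the form z^p - z + Σ_{0<i<p} a_i z^i with all a_i in the ideal (w), and P(z₁ + z₂ + w z₁ z₂) =
P(z₁) + P(z₂) + w^p P(z₁)P(z₂) for all z₁, z₂ in any A-algebra. (The published statement asks only
for a primitive p-th root of unity; this row asks that ζ be a root of the p-th cyclotomic
polynomial, the case its proof treats. With ζ only of multiplicative order p the published statement
fails, for example for ζ = (1, e^{2πi/p}) in ℂ × ℂ.) -/
theorem result (p : ℕ) (hp : p.Prime) (A : Type u) [CommRing A] (ζ : A)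
    (hζ : aeval ζ (cyclotomic p ℤ) = 0) :
    ∃ P : A[X], C ((1 - ζ) ^ p) * P = (1 + C (1 - ζ) * X) ^ p - 1 ∧
      (∃ a : ℕ → A, (∀ i, a i ∈ Ideal.span {1 - ζ}) ∧
        P = X ^ p - X + (Finset.Ioo 0 p).sum (fun i => C (a i) * X ^ i)) ∧
      ∀ (S : Type u) [CommRing S] [Algebra A S] (z₁ z₂ : S),
        aeval (z₁ + z₂ + algebraMap A S (1 - ζ) * z₁ * z₂) P =
          aeval z₁ P + aeval z₂ P + algebraMap A S ((1 - ζ) ^ p) * aeval z₁ P * aeval z₂ P := by
  exact Groth.Agent.S7140.main p hp A ζ hζ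

end Groth.Agent.S7140
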