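import Groth.Statements.S7153
import Groth.Agent.Lib.Helper5.ArtinRees

set_option autoImplicit false
universe u
open CAlg

namespace Groth.Agent.S7153

/-- Let A be a Noetherian ring, I an ideal and K → L → M a complex of finite A-modules with maps α, β
and homology H = Ker β / Im α; for n ≥ 0 let H_n be the homology of the induced complex K/IⁿK →
L/IⁿL → M/IⁿM, which is β⁻¹(IⁿM)/(Im α + IⁿL). Then there is c > 0 such that for every n: (i) the
image of H_(n+c) → H_n is contained in, hence equal to, the image of H → H_n; (ii) the kernel and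
the cokernel of H/IⁿH → H_n are annihilated by I^c. Everything is phrased with representatives in L. -/
theorem result (A : Type u) [CommRing A] [IsNoetherianRing A] (I : Ideal A)
    (K L M : Type u) [AddCommGroup K] [Module A K] [Module.Finite A K] [AddCommGroup L] [Module A L]
    [Module.Finite A L] [AddCommGroup M] [Module A M] [Module.Finite A M]
    (α : K →ₗ[A] L) (β : L →ₗ[A] M) (hαβ : β ∘ₗ α = 0) :
    ∃ c : ℕ, 0 < c ∧ ∀ n : ℕ,
      (∀ y ∈ (I ^ (n + c) • ⊤ : Submodule A M).comap β,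
        ∃ z ∈ LinearMap.ker β, y - z ∈ LinearMap.range α ⊔ (I ^ n • ⊤ : Submodule A L)) ∧
      (∀ z ∈ LinearMap.ker β, z ∈ LinearMap.range α ⊔ (I ^ n • ⊤ : Submodule A L) →
        ∀ a ∈ I ^ c, a • z ∈ LinearMap.range α ⊔ I ^ n • LinearMap.ker β) ∧
      (∀ y ∈ (I ^ n • ⊤ : Submodule A M).comap β, ∀ a ∈ I ^ c,
        ∃ z ∈ LinearMap.ker β, a • y - z ∈ LinearMap.range α ⊔ (I ^ n • ⊤ : Submodule A L)) := by
  obtain ⟨c₁, hc₁⟩ := Groth.Agent.Helper5.ArtinRees.exists_preimage_mono I β
  obtain ⟨c₂, hc₂⟩ := Groth.Agent.Helper5.ArtinRees.exists_inf_le I (LinearMap.ker β)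
  have key : ∀ (n : ℕ) (y : L), β y ∈ (I ^ (n + (max c₁ c₂ + 1)) • ⊤ : Submodule A M) →
      ∃ z ∈ LinearMap.ker β, y - z ∈ LinearMap.range α ⊔ (I ^ n • ⊤ : Submodule A L) := by
    intro n y hy
    obtain ⟨w, hw, hwy⟩ := hc₁ (max c₁ c₂ + 1) (by omega) n y hy
    refine ⟨y - w, by simp [hwy], ?_⟩
    rw [sub_sub_cancel]
    exact Submodule.mem_sup_right hw
  refine ⟨max c₁ c₂ + 1, by omega, fun n => ⟨fun y hy => key n y hy, ?_, ?_⟩⟩
  · intro z hz hz' a ha
    obtain ⟨p, ⟨k, rfl⟩, l, hl, rfl⟩ := Submodule.mem_sup.mp hz'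
    have hαβ' : β (α k) = 0 := by
      have := congrArg (fun f => f k) hαβ
      simpa using this
    have hlker : l ∈ LinearMap.ker β := by
      rw [LinearMap.mem_ker] at hz ⊢
      rw [map_add, hαβ', zero_add] at hz
      exact hz
    rw [smul_add]
    refine Submodule.add_mem_sup ⟨a • k, by simp⟩ ?_
    by_cases hn : c₂ ≤ n
    · have h1 : l ∈ I ^ (n - c₂) • LinearMap.ker β :=
        hc₂ (n - c₂) ⟨by rwa [Nat.sub_add_cancel hn], hlker⟩
      have h2 : a ∈ I ^ c₂ := Ideal.pow_le_pow_right (by omega) ha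
      have h3 := Submodule.smul_mem_smul h2 h1
      rw [← mul_smul, ← pow_add, add_comm, Nat.sub_add_cancel hn] at h3
      exact h3
    · exact Submodule.smul_mem_smul (Ideal.pow_le_pow_right (by omega) ha) hlker
  · intro y hy a ha
    apply key n (a • y)
    rw [map_smul, add_comm n, pow_add, mul_smul]
    exact Submodule.smul_mem_smul ha hy

end Groth.Agent.S7153
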