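import Groth.Statements.S7155
import Groth.Agent.Lib.Helper22.EppNF
import Groth.Agent.Lib.Helper22.EppRed
import Groth.Agent.Lib.Helper22.EppTop
import Groth.Agent.Lib.Helper22.EisTot
import Groth.Agent.Lib.Helper22.ASNormal

set_option autoImplicit false
universe u
open EtAlg

namespace Groth.Agent.S7155

open IsLocalRing
open Groth.Agent.Helper22.EppNF Groth.Agent.Helper22.EppRed Groth.Agent.Helper22.EppTop
open Groth.Agent.Helper22.SolTower (wu_iff Q)
open Groth.Agent.Helper22.WUGen (dominates_comap isLocalHom_of_dominates)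
open Groth.Agent.Helper22.WUSep (isDVR_of_dominates)
open Groth.Agent.Helper22.ASGal (charP_residue as_galois)
open Groth.Agent.Helper22.ASNormal (exists_translate)
open Groth.Agent.Helper22.TameKum (clear_denom)


/-- Let A → B → C be injective local homomorphisms of discrete valuation rings whose fields of fractions
are K ⊆ L ⊆ M, where A → B is weakly unramified, K has characteristic p, M/L is Galois of degree p,
and κ_A, inside κ_B, is exactly the set of elements admitting a pⁿ-th root for every n. Then some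
finite separable extension K₁/K that is totally ramified with respect to A is a weak solution for A
→ C. (The published statement asks for K₁/K Galois; this row asks only that K₁/K be separable, which
is what the printed construction provides.) -/
theorem result (p : ℕ) (hp : p.Prime) (A B C K L M : Type u)
    [CommRing A] [IsDomain A] [IsDiscreteValuationRing A] [CommRing B] [IsDomain B] [IsDiscreteValuationRing B]
    [CommRing C] [IsDomain C] [IsDiscreteValuationRing C]
    [Algebra A B] [Algebra B C] [Algebra A C] [IsScalarTower A B C]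
    (hAB : Function.Injective (algebraMap A B)) (hBC : Function.Injective (algebraMap B C))
    [IsLocalHom (algebraMap A B)] [IsLocalHom (algebraMap B C)]
    [Field K] [Field L] [Field M] [Algebra A K] [IsFractionRing A K] [Algebra B L] [IsFractionRing B L]
    [Algebra C M] [IsFractionRing C M] [Algebra K L] [Algebra L M] [Algebra K M] [IsScalarTower K L M]
    [Algebra A L] [IsScalarTower A K L] [IsScalarTower A B L] [Algebra B M] [IsScalarTower B L M] [IsScalarTower B C M]
    [Algebra A M] [IsScalarTower A K M] [IsScalarTower A C M]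
    (hw : EtRam.IsWeaklyUnramified A B) [CharP K p] [IsGalois L M] (hdeg : Module.finrank L M = p)
    (hk : ∀ x : IsLocalRing.ResidueField B, (∀ n : ℕ, ∃ y : IsLocalRing.ResidueField B, y ^ (p ^ n) = x) ↔
      x ∈ Set.range (algebraMap (IsLocalRing.ResidueField A) (IsLocalRing.ResidueField B))) :
    ∃ (K₁ : Type u) (_ : Field K₁) (_ : Algebra K K₁), FiniteDimensional K K₁ ∧ Algebra.IsSeparable K K₁ ∧
      EtRam.IsTotallyRamified A ((algebraMap K K₁).comp (algebraMap A K)) ∧ EtRam.IsWeakSolution C K M K₁ := by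
  classical
  haveI hpf : Fact p.Prime := ⟨hp⟩
  haveI : CharP L p := charP_of_injective_algebraMap (algebraMap K L).injective p
  haveI : CharP M p := charP_of_injective_algebraMap (algebraMap L M).injective p
  haveI : CharP A p := (algebraMap A K).charP (IsFractionRing.injective A K) p
  haveI : CharP B p := (algebraMap B L).charP (IsFractionRing.injective B L) p
  haveI : CharP (ResidueField A) p := charP_residue p hp A
  haveI : CharP (ResidueField B) p := charP_residue p hp B
  haveI : Module.Finite L M := Module.finite_of_finrank_pos (by rw [hdeg]; exact hp.pos)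
  -- an Artin–Schreier generator of `M / L`
  obtain ⟨σ, z, hσz, hfix⟩ := exists_translate L M p hdeg
  have hξfix : σ (z ^ p - z) = z ^ p - z := by
    rw [map_sub, map_pow, hσz, add_pow_char, one_pow]; ring
  obtain ⟨ξ, hξ⟩ := hfix _ hξfix
  have hzL : z ∉ Set.range (algebraMap L M) := by
    rintro ⟨c, hc⟩
    rw [← hc, AlgEquiv.commutes] at hσz
    exact one_ne_zero (α := M) (by linear_combination -hσz)
  have hzgen : IntermediateField.adjoin L {z} = ⊤ := by
    haveI := IntermediateField.isSimpleOrder_of_finrank_prime L M (by rw [hdeg]; exact hp)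
    rcases eq_bot_or_eq_top (IntermediateField.adjoin L {z}) with h | h
    · exfalso
      rw [IntermediateField.adjoin_simple_eq_bot_iff, IntermediateField.mem_bot] at h
      exact hzL h
    · exact h
  obtain ⟨-, -, -, -, hzadj⟩ := as_galois p L M ξ z hξ.symm hzgen
  -- uniformizer, normal form
  obtain ⟨π, hπirr⟩ := IsDiscreteValuationRing.exists_irreducible A
  have hπ : maximalIdeal A = Ideal.span {π} := hπirr.maximalIdeal_eq
  have hw' : (maximalIdeal A).map (algebraMap A B) = maximalIdeal B := hw
  have hπB : maximalIdeal B = Ideal.span {algebraMap A B π} := by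
    rw [← hw', hπ, Ideal.map_span, Set.image_singleton]
  have hπBirr : Irreducible (algebraMap A B π) :=
    (IsDiscreteValuationRing.irreducible_iff_uniformizer _).mpr hπB
  obtain ⟨N, b, hb⟩ := clear_denom B L (algebraMap A B π) hπBirr ξ
  have hPi0 : algebraMap A L π ≠ 0 := by
    rw [IsScalarTower.algebraMap_apply A K L]
    exact (map_ne_zero _).mpr
      ((map_ne_zero_iff _ (IsFractionRing.injective A K)).mpr hπirr.ne_zero)
  have hξeq : ξ = algebraMap B L b / algebraMap A L π ^ N := by
    rw [eq_div_iff (pow_ne_zero N hPi0), mul_comm, IsScalarTower.algebraMap_apply A B L]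
    exact hb
  obtain ⟨a, r₀, hNF⟩ := normal_form p A B K L hk π hπirr.ne_zero hπB N b
  -- the Eisenstein extension `K₁`
  obtain ⟨K₁, _, _, _, _, hfr₁, hsep₁, htr₁, πB, β, β', hπBint, hβint, -, hrel, -⟩ :=
    Groth.Agent.Helper22.EisTot.main p hp A K π hπ (N + 2) (by omega) (max r₀ 1)
  haveI : FiniteDimensional K K₁ :=
    Module.finite_of_finrank_pos (by rw [hfr₁]; exact pow_pos hp.pos _)
  haveI := hsep₁
  haveI : CharP K₁ p := charP_of_injective_algebraMap (algebraMap K K₁).injective p
  have halg₁ : algebraMap A K₁ = (algebraMap K K₁).comp (algebraMap A K) :=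
    IsScalarTower.algebraMap_eq A K K₁
  rw [halg₁] at htr₁
  have hrel' : πB ^ (p ^ max r₀ 1) = algebraMap K K₁ (algebraMap A K π) +
      algebraMap K K₁ (algebraMap A K π) ^ (N + 2) * β := by
    rw [← IsScalarTower.algebraMap_apply A K K₁]
    exact hrel
  obtain ⟨V₁, hV₁⟩ := htr₁.1
  have huniq₁ := htr₁.2.1
  have hres₁ := htr₁.2.2
  haveI dvrV₁ : IsDiscreteValuationRing ↥V₁ := isDVR_of_dominates A K K₁ V₁ hV₁
  have hperfA : ∀ a : A, ∃ s : A, a - s ^ p ∈ maximalIdeal A := perfect_of_hk p A B hk
  have hperf₁ : ∀ α : ↥V₁, ∃ ρ : ↥V₁, α - ρ ^ p ∈ maximalIdeal ↥V₁ :=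
    perf_of_dom p A K₁ _ V₁ hV₁ (hres₁ V₁ hV₁) hperfA
  -- the Artin–Schreier extension `K₂`
  obtain ⟨c, ared, a₀, hdec, K₂, _, _, hfin₂, hsep₂, htr₂, y', hy'⟩ :=
    exists_K₂ p ↥V₁ K₁ hperf₁ (algebraMap K K₁ a)
  haveI := hfin₂
  haveI := hsep₂
  letI algKK₂ : Algebra K K₂ := ((algebraMap K₁ K₂).comp (algebraMap K K₁)).toAlgebra
  haveI towKK₁K₂ : IsScalarTower K K₁ K₂ := IsScalarTower.of_algebraMap_eq (fun _ => rfl)
  haveI finKK₂ : FiniteDimensional K K₂ := Module.Finite.trans K₁ K₂
  haveI sepKK₂ : Algebra.IsSeparable K K₂ := Algebra.IsSeparable.trans K K₁ K₂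
  have htr : EtRam.IsTotallyRamified A ((algebraMap K K₂).comp (algebraMap A K)) := by
    have h := totRam_comp A K₁ K₂ ((algebraMap K K₁).comp (algebraMap A K)) htr₁
      (fun V hV => by
        have hVV : V = V₁ := huniq₁ V V₁ hV hV₁
        rw [hVV]
        exact htr₂)
    rw [← RingHom.comp_assoc] at h
    exact h
  have hAV₁ : ∀ x : A, algebraMap A K₁ x ∈ V₁ := fun x => by rw [halg₁]; exact hV₁.1 x
  have hV₁mem : ∀ V : ValuationSubring K₁,
      EtRam.Dominates A ((algebraMap K K₁).comp (algebraMap A K)) V →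
      πB ∈ V ∧ β ∈ V ∧ ((a₀ : ↥V₁) : K₁) ∈ V := by
    intro V hV
    have hVV : V = V₁ := huniq₁ V V₁ hV hV₁
    rw [hVV]
    exact ⟨mem_of_isIntegral A K₁ V₁ hAV₁ πB hπBint, mem_of_isIntegral A K₁ V₁ hAV₁ β hβint,
      a₀.2⟩
  have hdec'' : algebraMap K K₁ a = (c ^ p - c) + ((a₀ : ↥V₁) : K₁) + ared := hdec
  refine ⟨K₂, inferInstance, algKK₂, finKK₂, sepKK₂, htr, ?_⟩
  -- the weak solution property
  intro M' _ _ _ _ _ _ hadj W hW
  letI algLM' : Algebra L M' := ((algebraMap M M').comp (algebraMap L M)).toAlgebra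
  haveI towLMM' : IsScalarTower L M M' := IsScalarTower.of_algebraMap_eq (fun _ => rfl)
  haveI towKLM' : IsScalarTower K L M' := IsScalarTower.of_algebraMap_eq (fun x => by
    show algebraMap K M' x = algebraMap M M' (algebraMap L M (algebraMap K L x))
    rw [← IsScalarTower.algebraMap_apply K L M, ← IsScalarTower.algebraMap_apply K M M'])
  obtain ⟨E, hE⟩ : ∃ E : IntermediateField L M',
      E = IntermediateField.adjoin L (Set.range (algebraMap K₂ M')) := ⟨_, rfl⟩
  have hK₂E : ∀ x : K₂, algebraMap K₂ M' x ∈ E := fun x => by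
    rw [hE]; exact IntermediateField.subset_adjoin L _ ⟨x, rfl⟩
  letI algK₂E : Algebra K₂ ↥E := (toInter E (algebraMap K₂ M') hK₂E).toAlgebra
  haveI towK₂EM' : IsScalarTower K₂ ↥E M' := IsScalarTower.of_algebraMap_eq (fun _ => rfl)
  haveI towKK₂E : IsScalarTower K K₂ ↥E := IsScalarTower.of_algebraMap_eq (fun x =>
    Subtype.ext (by
      show algebraMap K M' x = algebraMap K₂ M' (algebraMap K K₂ x)
      exact IsScalarTower.algebraMap_apply K K₂ M' x))
  have hadjE : Algebra.adjoin L (Set.range (algebraMap K₂ ↥E)) = ⊤ := by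
    rw [eq_top_iff]
    intro e he0
    clear he0
    have he : (e : M') ∈ Algebra.adjoin L (Set.range (algebraMap K₂ M')) := by
      have h1 : (IntermediateField.adjoin L (Set.range (algebraMap K₂ M'))).toSubalgebra =
          Algebra.adjoin L (Set.range (algebraMap K₂ M')) :=
        IntermediateField.adjoin_toSubalgebra_of_isAlgebraic (by
          rintro _ ⟨y, rfl⟩
          have h2 : IsIntegral K y := Algebra.IsIntegral.isIntegral y
          have h3 : IsIntegral K (algebraMap K₂ M' y) := h2.algebraMap
          exact (h3.tower_top (A := L)).isAlgebraic)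
      rw [← h1, ← hE]
      exact e.2
    have key : ∀ x : M', x ∈ Algebra.adjoin L (Set.range (algebraMap K₂ M')) →
        ∃ e' : ↥E, (e' : M') = x ∧ e' ∈ Algebra.adjoin L (Set.range (algebraMap K₂ ↥E)) := by
      intro x hx
      induction hx using Algebra.adjoin_induction with
      | mem x hx =>
        obtain ⟨y, rfl⟩ := hx
        exact ⟨algebraMap K₂ ↥E y, rfl, Algebra.subset_adjoin ⟨y, rfl⟩⟩
      | algebraMap l => exact ⟨algebraMap L ↥E l, rfl, Subalgebra.algebraMap_mem _ l⟩
      | add x y _ _ hx hy =>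
        obtain ⟨x', rfl, hx'⟩ := hx
        obtain ⟨y', rfl, hy'⟩ := hy
        exact ⟨x' + y', rfl, Subalgebra.add_mem _ hx' hy'⟩
      | mul x y _ _ hx hy =>
        obtain ⟨x', rfl, hx'⟩ := hx
        obtain ⟨y', rfl, hy'⟩ := hy
        exact ⟨x' * y', rfl, Subalgebra.mul_mem _ hx' hy'⟩
    obtain ⟨e', he', hmem⟩ := key _ he
    have hee : e' = e := Subtype.ext he'
    rw [← hee]
    exact hmem
  have hV' : EtRam.Dominates B ((algebraMap L ↥E).comp (algebraMap B L))
      (W.comap (algebraMap ↥E M')) :=
    dominates_comap (algebraMap B C) _ (algebraMap ↥E M')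
      ((algebraMap M M').comp (algebraMap C M))
      (fun b => by
        show algebraMap ↥E M' (algebraMap L ↥E (algebraMap B L b)) =
          algebraMap M M' (algebraMap C M (algebraMap B C b))
        rw [← IsScalarTower.algebraMap_apply B C M, IsScalarTower.algebraMap_apply B L M]
        rfl) W hW
  have hzM : (algebraMap M M' z) ^ p - algebraMap M M' z =
      algebraMap ↥E M' (algebraMap L ↥E ξ) := by
    rw [← map_pow, ← map_sub, ← hξ]
    rfl
  have hadjM : Algebra.adjoin ↥E {algebraMap M M' z} = ⊤ := by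
    rw [eq_top_iff]
    intro x hx0
    clear hx0
    have hx : x ∈ Algebra.adjoin M (Set.range (algebraMap K₂ M')) := by
      rw [hadj]; exact Algebra.mem_top
    induction hx using Algebra.adjoin_induction with
    | mem x hx =>
      obtain ⟨y, rfl⟩ := hx
      exact Subalgebra.algebraMap_mem _ (algebraMap K₂ ↥E y)
    | algebraMap m =>
      have hm : m ∈ Algebra.adjoin L {z} := by rw [hzadj]; exact Algebra.mem_top
      induction hm using Algebra.adjoin_induction with
      | mem m hm =>
        rw [Set.mem_singleton_iff] at hm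
        rw [hm]
        exact Algebra.subset_adjoin (Set.mem_singleton _)
      | algebraMap l => exact Subalgebra.algebraMap_mem _ (algebraMap L ↥E l)
      | add x y _ _ hx hy => rw [map_add]; exact Subalgebra.add_mem _ hx hy
      | mul x y _ _ hx hy => rw [map_mul]; exact Subalgebra.mul_mem _ hx hy
    | add x y _ _ hx hy => exact Subalgebra.add_mem _ hx hy
    | mul x y _ _ hx hy => exact Subalgebra.mul_mem _ hx hy
  have hcomp : (algebraMap ↥E M').comp (algebraMap K₂ ↥E) = algebraMap K₂ M' :=
    RingHom.ext (fun _ => rfl)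
  have hQ := top p A B K L K₁ K₂ ↥E M' hw htr π hπ (N + 2) (max r₀ 1) N r₀ le_rfl
    (le_max_left _ _) πB β ((a₀ : ↥V₁) : K₁) c ared a ξ y' hV₁mem hrel' hdec'' hy'
    (fun F _ _ _ V ϖ r Nmax tgt hr hN => by
      rw [hξeq]; exact hNF F V ϖ r Nmax tgt hr hN)
    hadjE W hV' (algebraMap M M' z) hzM hadjM
  rw [hcomp] at hQ
  exact (wu_iff W (algebraMap K₂ M')).mpr hQ

end Groth.Agent.S7155
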