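import Groth.Statements.S7158
import Mathlib
import Groth.Agent.Lib.Helper22.ASCases2
import Groth.Agent.Lib.Helper22.ASGal
import Groth.Agent.Lib.Helper22.TameKum

set_option autoImplicit false
universe u
open EtAlg

namespace Groth.Agent.S7158

/-- Let A be a discrete valuation ring whose fraction field K has characteristic p > 0, let ξ be an
element of K and let L = K(z) be obtained by adjoining a root z of z^p - z = ξ. Then L/K is a Galois
extension, and it falls under one of four cases: (1) L = K; (2) L/K has degree p and is unramified
with respect to A; (3) L/K has degree p and is totally ramified with respect to A (ramification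
index p); (4) exactly one valuation ring of L dominates A (so B, the integral closure of A in L, is
itself a discrete valuation ring), the extension A → B is weakly unramified, and its residue field
extension is purely inseparable of degree p. Moreover, with π a uniformizer of A: (A) if ξ lies in
A, case (1) or (2) holds; (B) if ξ = π⁻ⁿa with n > 0 prime to p and a a unit of A, case (3) holds;
(C) if ξ = π⁻ⁿa with n > 0 divisible by p and the residue class of a not a p-th power, case (4)
holds. -/
theorem result (p : ℕ) (hp : p.Prime) (A K L : Type u) [CommRing A] [IsDomain A]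
    [IsDiscreteValuationRing A] [Field K] [Algebra A K] [IsFractionRing A K] [Field L] [Algebra K L] [Algebra A L]
    [IsScalarTower A K L] [CharP K p] (π : A) (hπ : IsLocalRing.maximalIdeal A = Ideal.span {π})
    (ξ : K) (z : L) (hz : z ^ p - z = algebraMap K L ξ) (hgen : IntermediateField.adjoin K {z} = ⊤) :
    let g : A →+* L := algebraMap A L
    let case1 : Prop := Module.finrank K L = 1
    let case2 : Prop := EtRam.IsUnramifiedExt A g ∧ Module.finrank K L = p
    let case3 : Prop := EtRam.IsTotallyRamified A g ∧ Module.finrank K L = p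
    let case4 : Prop := (∃ V : ValuationSubring L, EtRam.Dominates A g V) ∧
      (∀ V V' : ValuationSubring L, EtRam.Dominates A g V → EtRam.Dominates A g V' → V = V') ∧
      ∀ (V : ValuationSubring L) (h : EtRam.Dominates A g V),
        letI : Algebra A V := (RingHom.codRestrict g V h.1).toAlgebra
        ∀ [IsLocalHom (algebraMap A V)],
          EtRam.IsWeaklyUnramified A V ∧
            IsPurelyInseparable (IsLocalRing.ResidueField A) (IsLocalRing.ResidueField V) ∧
            Module.finrank (IsLocalRing.ResidueField A) (IsLocalRing.ResidueField V) = p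
    IsGalois K L ∧ (case1 ∨ case2 ∨ case3 ∨ case4) ∧
      ((∃ a : A, algebraMap A K a = ξ) → case1 ∨ case2) ∧
      (∀ (n : ℕ) (a : Aˣ), 0 < n → ¬ p ∣ n → ξ * algebraMap A K π ^ n = algebraMap A K a → case3) ∧
      (∀ (n : ℕ) (a : A), 0 < n → p ∣ n → (∀ r : A, IsLocalRing.residue A a ≠ IsLocalRing.residue A r ^ p) →
          ξ * algebraMap A K π ^ n = algebraMap A K a → case4) := by
  intro g case1 case2 case3 case4
  haveI hpf : Fact p.Prime := ⟨hp⟩
  obtain ⟨hgal, hfin, hcases, hle, hadj⟩ := Groth.Agent.Helper22.ASGal.as_galois p K L ξ z hz hgen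
  haveI := hfin
  haveI hcharA : CharP A p :=
    (RingHom.charP_iff (algebraMap A K) (IsFractionRing.injective A K) p).mpr inferInstance
  haveI hchark : CharP (IsLocalRing.ResidueField A) p :=
    Groth.Agent.Helper22.ASGal.charP_residue p hp A
  haveI hcharL : CharP L p := charP_of_injective_algebraMap (algebraMap K L).injective p
  have hπirr : Irreducible π := (IsDiscreteValuationRing.irreducible_iff_uniformizer π).mpr hπ
  have hπm : π ∈ IsLocalRing.maximalIdeal A := by rw [hπ]; exact Ideal.subset_span rfl
  have hPK0 : algebraMap A K π ≠ 0 := fun h0 =>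
    hπirr.ne_zero (IsFractionRing.injective A K (by rw [h0, map_zero]))
  have h1p : (1 : WithBot ℕ) < (p : WithBot ℕ) := by exact_mod_cast hp.one_lt
  -- part (A)
  have partA : ∀ (ξ : K) (z : L), z ^ p - z = algebraMap K L ξ → Algebra.adjoin K {z} = ⊤ →
      (∃ a : A, algebraMap A K a = ξ) → case1 ∨ case2 := by
    intro ξ z hz hadj ⟨a, ha⟩
    rcases hcases with h1 | h1
    · exact Or.inl h1
    · right
      show EtRam.IsUnramifiedExt A (algebraMap A L) ∧ Module.finrank K L = p
      refine ⟨?_, h1⟩
      have hmonic : (Polynomial.X ^ p - (Polynomial.X + Polynomial.C a) : Polynomial A).Monic :=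
        Polynomial.monic_X_pow_sub (by rw [Polynomial.degree_X_add_C]; exact h1p)
      have hroot : Polynomial.aeval z
          (Polynomial.X ^ p - (Polynomial.X + Polynomial.C a) : Polynomial A) = 0 := by
        rw [map_sub, map_pow, Polynomial.aeval_X, map_add, Polynomial.aeval_X, Polynomial.aeval_C,
          IsScalarTower.algebraMap_apply A K L, ha, ← hz]
        ring
      have hsep : ((Polynomial.X ^ p - (Polynomial.X + Polynomial.C a) : Polynomial A).map
          (IsLocalRing.residue A)).Separable := by
        have h2 : (Polynomial.X ^ p - (Polynomial.X + Polynomial.C a) : Polynomial A).map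
            (IsLocalRing.residue A) =
            Polynomial.X ^ p - (Polynomial.X + Polynomial.C (IsLocalRing.residue A a)) := by
          simp only [Polynomial.map_sub, Polynomial.map_pow, Polynomial.map_X, Polynomial.map_add,
            Polynomial.map_C]
        rw [h2]
        exact Groth.Agent.Helper22.ASGal.as_separable p (IsLocalRing.ResidueField A) _
      exact Groth.Agent.Helper22.ASCases.unram_of_sep A K L π hπ _ hmonic z hroot hsep hadj
  -- part (B)
  have partB : ∀ (ξ : K) (z : L), z ^ p - z = algebraMap K L ξ → Algebra.adjoin K {z} = ⊤ →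
      ∀ (n : ℕ) (a : Aˣ), 0 < n → ¬ p ∣ n →
        ξ * algebraMap A K π ^ n = algebraMap A K a → case3 := by
    intro ξ z hz hadj n a hn hpn ha
    show EtRam.IsTotallyRamified A (algebraMap A L) ∧ Module.finrank K L = p
    have hmonic : (Polynomial.X ^ p - Polynomial.X : Polynomial A).Monic :=
      Polynomial.monic_X_pow_sub (by rw [Polynomial.degree_X]; exact h1p)
    have hdeg : (Polynomial.X ^ p - Polynomial.X : Polynomial A).natDegree = p := by
      rw [Polynomial.natDegree_sub_eq_left_of_natDegree_lt
        (by rw [Polynomial.natDegree_X, Polynomial.natDegree_X_pow]; exact hp.one_lt),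
        Polynomial.natDegree_X_pow]
    have hz' : Polynomial.aeval z (Polynomial.X ^ p - Polynomial.X : Polynomial A) *
        algebraMap A L π ^ n = algebraMap A L a := by
      rw [map_sub, map_pow, Polynomial.aeval_X, hz]
      have h1 := congrArg (algebraMap K L) ha
      rw [map_mul, map_pow, ← IsScalarTower.algebraMap_apply,
        ← IsScalarTower.algebraMap_apply] at h1
      exact h1
    exact Groth.Agent.Helper22.ASCases.totRam_of_pole A K L p hp hle π hπ _ hmonic hdeg z n hn hpn
      a hz'
  -- part (C)
  have partC : ∀ (ξ : K) (z : L), z ^ p - z = algebraMap K L ξ → Algebra.adjoin K {z} = ⊤ →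
      ∀ (n : ℕ) (a : A), 0 < n → p ∣ n →
        (∀ r : A, IsLocalRing.residue A a ≠ IsLocalRing.residue A r ^ p) →
        ξ * algebraMap A K π ^ n = algebraMap A K a → case4 := by
    intro ξ z hz hadj n a hn hpn hres ha
    obtain ⟨m, rfl⟩ := hpn
    have hm0 : 0 < m := by
      rcases Nat.eq_zero_or_pos m with h | h
      · rw [h, mul_zero] at hn; omega
      · exact h
    have hp1 : 1 ≤ p - 1 := by have := hp.two_le; omega
    obtain ⟨e, he⟩ : ∃ e, m * (p - 1) = e + 1 :=
      ⟨m * (p - 1) - 1, by have : 0 < m * (p - 1) := Nat.mul_pos hm0 hp1; omega⟩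
    have hmp : m * (p - 1) + m = p * m := by
      calc m * (p - 1) + m = m * (p - 1 + 1) := by ring
        _ = m * p := by rw [Nat.sub_add_cancel hp.one_le]
        _ = p * m := mul_comm _ _
    obtain ⟨w, hw⟩ : ∃ w : L, w = z * algebraMap A L π ^ m := ⟨_, rfl⟩
    have hmonic : (Polynomial.X ^ p - (Polynomial.C (π ^ (m * (p - 1))) * Polynomial.X +
        Polynomial.C a) : Polynomial A).Monic := by
      apply Polynomial.monic_X_pow_sub
      calc (Polynomial.C (π ^ (m * (p - 1))) * Polynomial.X + Polynomial.C a :
            Polynomial A).degree ≤ 1 := Polynomial.degree_linear_le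
        _ < p := h1p
    have hroot : Polynomial.aeval w (Polynomial.X ^ p - (Polynomial.C (π ^ (m * (p - 1))) *
        Polynomial.X + Polynomial.C a) : Polynomial A) = 0 := by
      rw [map_sub, map_pow, Polynomial.aeval_X, map_add, map_mul, Polynomial.aeval_C,
        Polynomial.aeval_X, Polynomial.aeval_C, map_pow, hw]
      have h1 := congrArg (algebraMap K L) ha
      rw [map_mul, map_pow, ← IsScalarTower.algebraMap_apply, ← IsScalarTower.algebraMap_apply,
        ← hz] at h1
      have h2 : algebraMap A L π ^ (m * (p - 1)) * algebraMap A L π ^ m =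
          algebraMap A L π ^ (p * m) := by rw [← pow_add, hmp]
      have h3 : (algebraMap A L π ^ m) ^ p = algebraMap A L π ^ (p * m) := by
        rw [← pow_mul, mul_comm]
      rw [mul_pow, h3]
      linear_combination h1 - z * h2
    have hred : (Polynomial.X ^ p - (Polynomial.C (π ^ (m * (p - 1))) * Polynomial.X +
        Polynomial.C a) : Polynomial A).map (IsLocalRing.residue A) =
        Polynomial.X ^ p - Polynomial.C (IsLocalRing.residue A a) := by
      have h0 : IsLocalRing.residue A (π ^ (m * (p - 1))) = 0 := by
        rw [he, pow_succ, map_mul, (IsLocalRing.residue_eq_zero_iff π).mpr hπm, mul_zero]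
      simp only [Polynomial.map_sub, Polynomial.map_pow, Polynomial.map_X, Polynomial.map_add,
        Polynomial.map_mul, Polynomial.map_C, h0, Polynomial.C_0, zero_mul, zero_add]
    have hadjw : Algebra.adjoin K {w} = ⊤ := by
      rw [eq_top_iff, ← hadj]
      apply Algebra.adjoin_le
      rw [Set.singleton_subset_iff]
      have hG0 : algebraMap K L (algebraMap A K π ^ m) ≠ 0 := by
        rw [ne_eq, map_eq_zero]; exact pow_ne_zero m hPK0
      have hG : algebraMap A L π ^ m = algebraMap K L (algebraMap A K π ^ m) := by
        rw [map_pow, ← IsScalarTower.algebraMap_apply]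
      have h1 : z = algebraMap K L ((algebraMap A K π ^ m)⁻¹) * w := by
        rw [hw, hG, map_inv₀, mul_comm z, ← mul_assoc, inv_mul_cancel₀ hG0, one_mul]
      rw [h1]
      exact Subalgebra.mul_mem _ (Subalgebra.algebraMap_mem _ _) (Algebra.subset_adjoin rfl)
    exact Groth.Agent.Helper22.ASCases.case4_of_insep A K L p hp π hπ a hres w _ hmonic hroot hred
      hadjw
  -- the general classification, by induction on the pole order
  have always : ∀ (n : ℕ) (ξ : K) (z : L), z ^ p - z = algebraMap K L ξ →
      Algebra.adjoin K {z} = ⊤ → (∃ a : A, ξ * algebraMap A K π ^ n = algebraMap A K a) →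
      case1 ∨ case2 ∨ case3 ∨ case4 := by
    intro n
    induction n with
    | zero =>
      intro ξ z hz hadj ⟨a, ha⟩
      rw [pow_zero, mul_one] at ha
      rcases partA ξ z hz hadj ⟨a, ha.symm⟩ with h | h
      · exact Or.inl h
      · exact Or.inr (Or.inl h)
    | succ n ih =>
      intro ξ z hz hadj ⟨a, ha⟩
      by_cases hau : IsUnit a
      · obtain ⟨au, rfl⟩ := hau
        by_cases hpn : p ∣ n + 1
        · by_cases hres : ∃ r : A, IsLocalRing.residue A (au : A) = IsLocalRing.residue A r ^ p
          · obtain ⟨r, hr⟩ := hres
            obtain ⟨m, hm⟩ := hpn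
            have hm0 : 0 < m := by
              rcases Nat.eq_zero_or_pos m with h | h
              · rw [h, mul_zero] at hm; omega
              · exact h
            have hp1 : 1 ≤ p - 1 := by have := hp.two_le; omega
            obtain ⟨e, he⟩ : ∃ e, m * (p - 1) = e + 1 :=
              ⟨m * (p - 1) - 1, by have : 0 < m * (p - 1) := Nat.mul_pos hm0 hp1; omega⟩
            have hmp : m * (p - 1) + m = p * m := by
              calc m * (p - 1) + m = m * (p - 1 + 1) := by ring
                _ = m * p := by rw [Nat.sub_add_cancel hp.one_le]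
                _ = p * m := mul_comm _ _
            have hne : n + 1 = m + (e + 1) := by rw [← he, add_comm m, hmp]; exact hm
            have hbm : (au : A) - r ^ p ∈ IsLocalRing.maximalIdeal A := by
              rw [← IsLocalRing.residue_eq_zero_iff, map_sub, map_pow, hr, sub_self]
            rw [hπ, Ideal.mem_span_singleton'] at hbm
            obtain ⟨b, hb⟩ := hbm
            obtain ⟨PK, hPK⟩ : ∃ PK, PK = algebraMap A K π := ⟨_, rfl⟩
            obtain ⟨R, hR⟩ : ∃ R, R = algebraMap A K r := ⟨_, rfl⟩
            obtain ⟨c, hc⟩ : ∃ c : K, c = R * (PK ^ m)⁻¹ := ⟨_, rfl⟩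
            have hPK0' : PK ≠ 0 := by rw [hPK]; exact hPK0
            have hc1 : c * PK ^ m = R := by
              rw [hc, mul_assoc, inv_mul_cancel₀ (pow_ne_zero m hPK0'), mul_one]
            rw [← hPK] at ha
            have e1 : c ^ p * PK ^ (n + 1) = R ^ p := by
              rw [hm, mul_comm p m, pow_mul, ← mul_pow, hc1]
            have e2 : c * PK ^ (n + 1) = R * PK ^ (e + 1) := by
              rw [hne, pow_add, ← mul_assoc, hc1]
            have e3 : algebraMap A K (au : A) - R ^ p = PK * algebraMap A K b := by
              rw [hR, hPK, ← map_pow, ← map_sub, ← hb, map_mul, mul_comm]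
            apply ih (ξ - (c ^ p - c)) (z - algebraMap K L c)
            · rw [sub_pow_char, map_sub, map_sub, map_pow, ← hz]; ring
            · rw [eq_top_iff, ← hadj]
              apply Algebra.adjoin_le
              rw [Set.singleton_subset_iff]
              have h := Subalgebra.add_mem _
                (Algebra.subset_adjoin (Set.mem_singleton (z - algebraMap K L c)))
                (Subalgebra.algebraMap_mem (Algebra.adjoin K {z - algebraMap K L c}) c)
              rwa [sub_add_cancel] at h
            · refine ⟨b + r * π ^ e, ?_⟩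
              rw [← hPK]
              apply mul_right_cancel₀ hPK0'
              rw [mul_assoc, ← pow_succ, map_add, map_mul, map_pow, ← hPK, ← hR]
              linear_combination ha - e1 + e2 + e3
          · push_neg at hres
            exact Or.inr (Or.inr (Or.inr
              (partC ξ z hz hadj (n + 1) au (Nat.succ_pos n) hpn hres ha)))
        · exact Or.inr (Or.inr (Or.inl
            (partB ξ z hz hadj (n + 1) au (Nat.succ_pos n) hpn ha)))
      · have ham : a ∈ IsLocalRing.maximalIdeal A := (IsLocalRing.mem_maximalIdeal _).mpr hau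
        rw [hπ, Ideal.mem_span_singleton'] at ham
        obtain ⟨a', rfl⟩ := ham
        apply ih ξ z hz hadj
        refine ⟨a', ?_⟩
        apply mul_right_cancel₀ hPK0
        rw [mul_assoc, ← pow_succ, ha, map_mul]
  refine ⟨hgal, ?_, partA ξ z hz hadj, partB ξ z hz hadj, partC ξ z hz hadj⟩
  obtain ⟨s, b, hsb⟩ := Groth.Agent.Helper22.TameKum.clear_denom A K π hπirr ξ
  exact always s ξ z hz hadj ⟨b, by rw [mul_comm]; exact hsb⟩

end Groth.Agent.S7158
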