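import Groth.Statements.S7160
import Groth.Agent.Lib.Helper11.DCCompl

set_option autoImplicit false
universe u
open CategoryTheory CategoryTheory.Pretriangulated
attribute [local instance] HasDerivedCategory.standard
open CAlg

namespace Groth.Agent.S7160

/-- Let R be a ring, f an element of R, M an object of D(R) and C the cone of f : M → M. Suppose that
H^i(M)_f = 0 whenever i < 0 (every element of H^i(M) is killed by a power of f) and that H^i(C) = 0
whenever i < -1. Then H^i(M) vanishes for every i < 0. -/
theorem result (R : Type u) [CommRing R] (f : R) (M C : Dual.D R)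
    (g : M ⟶ C) (h : C ⟶ M⟦(1 : ℤ)⟧) (hT : Triangle.mk (f • 𝟙 M) g h ∈ distinguishedTriangles)
    (hloc : ∀ i : ℤ, i < 0 → ∀ x : Dual.HD R M i, ∃ n : ℕ, f ^ n • x = 0)
    (hC : ∀ i : ℤ, i < -1 → Subsingleton (Dual.HD R C i)) :
    ∀ i : ℤ, i < 0 → Subsingleton (Dual.HD R M i) := by
  intro i hi
  have hex := DerivedCategory.HomologySequence.exact₁ _ hT (i - 1) i (by omega)
  have hzero : Limits.IsZero ((DerivedCategory.homologyFunctor (ModuleCat.{u} R) (i - 1)).obj C) := by
    haveI := hC (i - 1) (by omega)
    exact ModuleCat.isZero_of_subsingleton _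
  have hmono : Mono ((DerivedCategory.homologyFunctor (ModuleCat.{u} R) i).map (f • 𝟙 M)) :=
    hex.mono_g (hzero.eq_of_src _ _)
  rw [Groth.Agent.Helper11.DC.homologyFunctor_map_smul_id] at hmono
  have hinj := (ModuleCat.mono_iff_injective _).mp hmono
  have key : ∀ x : Dual.HD R M i, f • x = 0 → x = 0 := by
    intro x hx
    apply hinj
    rw [map_zero]
    exact hx
  have key2 : ∀ (n : ℕ) (x : Dual.HD R M i), f ^ n • x = 0 → x = 0 := by
    intro n
    induction n with
    | zero =>
      intro x hx
      simpa using hx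
    | succ n ih =>
      intro x hx
      apply ih
      apply key
      rw [← mul_smul, ← pow_succ']
      exact hx
  refine ⟨fun a b => ?_⟩
  obtain ⟨n, hn⟩ := hloc i hi a
  obtain ⟨n', hn'⟩ := hloc i hi b
  rw [key2 n a hn, key2 n' b hn']

end Groth.Agent.S7160
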