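import Groth.Statements.S7180
import Mathlib
import Groth.Agent.Lib.Helper2.OL4
import Groth.Agent.Lib.Helper3.WEStalk
-- import your own Groth.Agent.* helpers here

set_option autoImplicit false
universe u
open FlatMor

namespace Groth.Agent.S7180

section
open CategoryTheory CategoryTheory.Limits AlgebraicGeometry Opposite Topology

theorem main {X Y : Scheme.{u}} (f : X ⟶ Y) [WeaklyEtale f] (hY : Pi1.IsNormalScheme Y) :
    Pi1.IsNormalScheme X := by
  intro x
  obtain ⟨hD, hI⟩ := hY (f x)
  have hQ := Groth.Agent.Helper3.WEStalk.stalkMap (f := f) inferInstance x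
  letI := (f.stalkMap x).hom.toAlgebra
  haveI : Algebra.WeaklyEtale (Y.presheaf.stalk (f x)) (X.presheaf.stalk x) :=
    (Groth.Agent.Helper3.WEStalk.q_iff _).mp hQ
  exact ⟨Groth.Agent.Helper2.OL.isDomain_of_weaklyEtale_of_isLocalRing
      (Y.presheaf.stalk (f x)) (X.presheaf.stalk x),
    Groth.Agent.Helper2.OL.isIntegrallyClosed_of_weaklyEtale_of_isLocalRing
      (Y.presheaf.stalk (f x)) (X.presheaf.stalk x)⟩

end

open AlgebraicGeometry CategoryTheory Limits in
/-- The source of a weakly étale morphism with normal target (all local rings integrally closed domains)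
is normal. -/
theorem result {X Y : Scheme.{u}} (f : X ⟶ Y) [WeaklyEtale f] (hY : Pi1.IsNormalScheme Y) :
    Pi1.IsNormalScheme X := by
  exact Groth.Agent.S7180.main f hY

end Groth.Agent.S7180
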