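import Groth.Statements.S7192
import Groth.Agent.Lib.Helper15.WtLim6

set_option autoImplicit false
universe u
open CategoryTheory AlgebraicGeometry
open FlatMor

namespace Groth.Agent.S7192

/-- Let Y = lim Y_i be a cofiltered limit of affine schemes and f₀ : X₀ → Y_{i₀} a quasi-finite morphism
of finite presentation between affine schemes, with base changes f : X → Y and f_i : X_i → Y_i. If w
is a weighting of f, then for some i → i₀ there is a weighting w_i of f_i which pulls back to w
along X → X_i. -/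
theorem result {I : Type u} [SmallCategory I] [IsCofiltered I]
    (D : I ⥤ Scheme.{u}) (c : Limits.Cone D) (hc : Limits.IsLimit c) [∀ i, IsAffine (D.obj i)]
    (i0 : I) {X0 X : Scheme.{u}} [IsAffine X0] (f0 : X0 ⟶ D.obj i0) [LocallyQuasiFinite f0] [LocallyOfFinitePresentation f0] [QuasiCompact f0]
    (f : X ⟶ c.pt) (pX : X ⟶ X0) (hX : IsPullback pX f f0 (c.π.app i0))
    (w : X → ℤ) (hw : MoreMor.IsWeighting f w) :
    ∃ (i : I) (a : i ⟶ i0) (Xi : Scheme.{u}) (fi : Xi ⟶ D.obj i) (pXi : Xi ⟶ X0) (g : X ⟶ Xi) (wi : Xi → ℤ),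
      IsPullback pXi fi f0 (D.map a) ∧ g ≫ fi = f ≫ c.π.app i ∧ g ≫ pXi = pX ∧
      MoreMor.IsWeighting fi wi ∧ ∀ x : X, wi (g x) = w x := by
  classical
  let e := hX.isoPullback
  let w' : ↥(Limits.pullback f0 (c.π.app i0)) → ℤ := fun x' => w (e.inv x')
  have hw' : MoreMor.IsWeighting (Limits.pullback.snd f0 (c.π.app i0)) w' := by
    have h := Groth.Agent.Helper15.Lcw.IsWeighting.comp_openImmersion hw e.inv
    have he : e.inv ≫ f = Limits.pullback.snd f0 (c.π.app i0) := hX.isoPullback_inv_snd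
    rw [he] at h
    exact h
  obtain ⟨j, W, hW, hWx⟩ := Groth.Agent.Helper15.WtLim.descend_std D c hc i0 f0 w' hw'
  refine ⟨j.left, j.hom, Limits.pullback f0 (D.map j.hom), Limits.pullback.snd f0 (D.map j.hom),
    Limits.pullback.fst f0 (D.map j.hom),
    e.hom ≫ Groth.Agent.Helper15.WtLim.bcMap f0 (c.π.app i0) (D.map j.hom) (c.π.app j.left)
      (c.w j.hom), W, IsPullback.of_hasPullback _ _, ?_, ?_, hW, fun x => ?_⟩
  · rw [Category.assoc, Groth.Agent.Helper15.WtLim.bcMap_snd, ← Category.assoc]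
    congr 1
    exact hX.isoPullback_hom_snd
  · rw [Category.assoc, Groth.Agent.Helper15.WtLim.bcMap_fst]
    exact hX.isoPullback_hom_fst
  · rw [Scheme.Hom.comp_apply, hWx]
    change w (e.inv (e.hom x)) = w x
    rw [← Scheme.Hom.comp_apply, Iso.hom_inv_id]
    rfl

end Groth.Agent.S7192
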