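import Groth.Statements.S7237
import Mathlib
-- import your own Groth.Agent.* helpers here

set_option autoImplicit false
universe u
open TensorProduct
open FlatMor

namespace Groth.Agent.S7237

section
open TensorProduct TrivSqZeroExt

variable (A : Type u) [CommRing A] (M : Type u) [AddCommGroup M] [Module A M]

theorem exists_deriv :
    ∃ δ : Derivation A (SymmetricAlgebra A M) (SymmetricAlgebra A M ⊗[A] M),
      ∀ m, δ (SymmetricAlgebra.ι A M m) = 1 ⊗ₜ m := by
  let f : M →ₗ[A] TrivSqZeroExt (SymmetricAlgebra A M) (SymmetricAlgebra A M ⊗[A] M) :=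
    (inlAlgHom A (SymmetricAlgebra A M) (SymmetricAlgebra A M ⊗[A] M)).toLinearMap ∘ₗ
        SymmetricAlgebra.ι A M +
      ((inrHom (SymmetricAlgebra A M) (SymmetricAlgebra A M ⊗[A] M)).restrictScalars A) ∘ₗ
        (TensorProduct.mk A (SymmetricAlgebra A M) M 1)
  let F := SymmetricAlgebra.lift f
  have hF : ∀ m, F (SymmetricAlgebra.ι A M m) = f m := fun m => SymmetricAlgebra.lift_ι_apply f m
  have hf1 : ∀ m, (f m).fst = SymmetricAlgebra.ι A M m := fun m => by
    simp [f]
  have hf2 : ∀ m, (f m).snd = 1 ⊗ₜ m := fun m => by
    simp [f]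
  have hfst : ∀ c, (F c).fst = c := by
    intro c
    have : (fstHom A (SymmetricAlgebra A M) (SymmetricAlgebra A M ⊗[A] M)).comp F =
        AlgHom.id A _ := by
      apply SymmetricAlgebra.algHom_ext
      ext m
      show (F (SymmetricAlgebra.ι A M m)).fst = SymmetricAlgebra.ι A M m
      rw [hF]
      exact hf1 m
    exact DFunLike.congr_fun this c
  refine ⟨Derivation.mk'
    (((sndHom (SymmetricAlgebra A M) (SymmetricAlgebra A M ⊗[A] M)).restrictScalars A) ∘ₗ
      F.toLinearMap) ?_, ?_⟩
  · intro a b
    show (F (a * b)).snd = a • (F b).snd + b • (F a).snd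
    rw [map_mul, snd_mul, hfst, hfst, op_smul_eq_smul]
  · intro m
    show (F (SymmetricAlgebra.ι A M m)).snd = _
    rw [hF, hf2]

theorem main (A : Type u) [CommRing A] (M : Type u)
    [AddCommGroup M] [Module A M] [Module.Finite A M] :
    Function.Bijective (LinearMap.liftBaseChange (SymmetricAlgebra A M)
      ((KaehlerDifferential.D A (SymmetricAlgebra A M)).toLinearMap.restrictScalars A ∘ₗ SymmetricAlgebra.ι A M)) := by
  obtain ⟨δ, hδ⟩ := exists_deriv A M
  set φ := (LinearMap.liftBaseChange (SymmetricAlgebra A M)
      ((KaehlerDifferential.D A (SymmetricAlgebra A M)).toLinearMap.restrictScalars A ∘ₗ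
        SymmetricAlgebra.ι A M)) with hφ
  have hφt : ∀ c m, φ (c ⊗ₜ m) = c • KaehlerDifferential.D A _ (SymmetricAlgebra.ι A M m) := by
    intro c m
    rw [hφ, LinearMap.liftBaseChange_tmul]
    rfl
  let ψ := δ.liftKaehlerDifferential
  have hψ : ∀ c, ψ (KaehlerDifferential.D A _ c) = δ c := fun c =>
    Derivation.liftKaehlerDifferential_comp_D δ c
  have h1 : ∀ z, ψ (φ z) = z := by
    intro z
    induction z using TensorProduct.induction_on with
    | zero => simp
    | tmul c m =>
      rw [hφt, map_smul, hψ, hδ, smul_tmul', smul_eq_mul, mul_one]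
    | add x y hx hy => rw [map_add, map_add, hx, hy]
  have h2 : ∀ c, φ (δ c) = KaehlerDifferential.D A _ c := by
    intro c
    induction c using SymmetricAlgebra.induction with
    | algebraMap r => rw [Derivation.map_algebraMap, Derivation.map_algebraMap, map_zero]
    | ι m => rw [hδ, hφt, one_smul]
    | mul a b ha hb =>
      rw [Derivation.leibniz, Derivation.leibniz, map_add, map_smul, map_smul, ha, hb]
    | add a b ha hb => rw [map_add, map_add, map_add, ha, hb]
  have h3 : ∀ w, φ (ψ w) = w := by
    intro w
    have hw : w ∈ Submodule.span (SymmetricAlgebra A M)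
        (Set.range (KaehlerDifferential.D A (SymmetricAlgebra A M))) := by
      rw [KaehlerDifferential.span_range_derivation]; trivial
    induction hw using Submodule.span_induction with
    | mem x hx =>
      obtain ⟨c, rfl⟩ := hx
      rw [hψ, h2]
    | zero => simp
    | add x y _ _ hx hy => rw [map_add, map_add, hx, hy]
    | smul a x _ hx => rw [map_smul, map_smul, hx]
  exact ⟨Function.LeftInverse.injective h1, Function.RightInverse.surjective h3⟩

end

/-- Let A be a ring and M a finitely generated A-module, and let C = Sym_A(M) be the symmetric algebra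
of M with its canonical A-linear map ι : M → C. Then Ω_{C/A} = M ⊗_A C: the C-linear map C ⊗_A M →
Ω_{C/A} obtained by extending scalars in the A-linear map m ↦ d(ι m), d being the universal
A-derivation of C, is bijective. (The published lemma also computes the whole naive cotangent
complex of the presentation of C attached to a surjection A^m → M with kernel K, namely as K ⊗_A C →
⊕_j C dy_j; only its consequence for Ω is asserted here.) -/
theorem result (A : Type u) [CommRing A] (M : Type u)
    [AddCommGroup M] [Module A M] [Module.Finite A M] :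
    Function.Bijective (LinearMap.liftBaseChange (SymmetricAlgebra A M)
      ((KaehlerDifferential.D A (SymmetricAlgebra A M)).toLinearMap.restrictScalars A ∘ₗ SymmetricAlgebra.ι A M)) := by
  exact Groth.Agent.S7237.main A M

end Groth.Agent.S7237
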