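import Groth.Statements.S7250
import Groth.Agent.Lib.Helper5.RPR6
import Groth.Agent.S7248
import Groth.Agent.Lib.Helper5.PRF3

set_option autoImplicit false
universe u
open CategoryTheory CategoryTheory.Limits AlgebraicGeometry
attribute [local instance] HasDerivedCategory.standard
open Perf

namespace Groth.Agent.S7250

/-- Let f : X ⟶ S be flat and locally of finite presentation. The S-perfect objects of D(O_X)
(pseudo-coherent and locally of finite tor dimension over f⁻¹O_S, the latter in the form: locally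
represented by a bounded complex of O_X-modules flat over S) form a saturated triangulated
subcategory: the property contains zero, is stable under all shifts, is closed under the middle term
of distinguished triangles, and is stable under retracts. -/
theorem result {X S : Scheme.{u}} (f : X ⟶ S) [Flat f] [LocallyOfFinitePresentation f] :
    ObjectProperty.IsTriangulated (fun E : DCoh.D X => (∀ m : ℤ, DCoh.IsPseudoCoherentD m E) ∧ DCoh.LocHasFiniteRelTorDim f E) ∧
    ObjectProperty.IsStableUnderRetracts (fun E : DCoh.D X => (∀ m : ℤ, DCoh.IsPseudoCoherentD m E) ∧ DCoh.LocHasFiniteRelTorDim f E) := by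
  have hshift : ∀ (K : DCoh.D X) (n : ℤ),
      ((∀ m : ℤ, DCoh.IsPseudoCoherentD m K) ∧ DCoh.LocHasFiniteRelTorDim f K) →
      ((∀ m : ℤ, DCoh.IsPseudoCoherentD m (K⟦n⟧)) ∧ DCoh.LocHasFiniteRelTorDim f (K⟦n⟧)) := by
    intro K n h
    have hpc : ∀ m : ℤ, DCoh.IsPseudoCoherentD m (K⟦n⟧) := fun m =>
      Groth.Agent.Helper5.PCT.isPseudoCoherentD_of_eq (by omega)
        (Groth.Agent.Helper5.PCT.isPseudoCoherentD_shift K (m + n) n (h.1 (m + n)))
    exact ⟨hpc, Groth.Agent.Helper5.RPR.locHasFiniteRelTorDim_of_locTorVan f _ hpc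
      (Groth.Agent.Helper5.RPR.locTorVan_shift f K n
        (Groth.Agent.Helper5.RPR.locTorVan_of_locHasFiniteRelTorDim f K h.2))⟩
  obtain ⟨Z₀, hZ₀⟩ := (Limits.HasZeroObject.zero : ∃ Z : DCoh.D X, Limits.IsZero Z)
  refine ⟨{ toContainsZero := ⟨⟨Z₀, hZ₀, ?_⟩⟩
            toIsStableUnderShift := ⟨fun n => ⟨fun K hK => hshift K n hK⟩⟩
            toIsTriangulatedClosed₂ := ⟨fun T hT h₁ h₃ => ObjectProperty.le_isoClosure _ _ ?_⟩ },
    ⟨fun {K L} h hL => ?_⟩⟩
  · exact Groth.Agent.S7248.result f Z₀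
      (Groth.Agent.Helper5.PRF.isPerfect_of_isZero _ hZ₀)
  · have hpc : ∀ m : ℤ, DCoh.IsPseudoCoherentD m T.obj₂ := fun m =>
      Groth.Agent.Helper5.PCT.isPseudoCoherentD_obj₂ T hT m (h₁.1 m) (h₃.1 m)
    exact ⟨hpc, Groth.Agent.Helper5.RPR.locHasFiniteRelTorDim_of_locTorVan f _ hpc
      (Groth.Agent.Helper5.RPR.locTorVan_obj₂ f T hT
        (Groth.Agent.Helper5.RPR.locTorVan_of_locHasFiniteRelTorDim f _ h₁.2)
        (Groth.Agent.Helper5.RPR.locTorVan_of_locHasFiniteRelTorDim f _ h₃.2))⟩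
  · obtain ⟨Z, ⟨e⟩⟩ := Groth.Agent.Helper5.RPR.exists_iso_biprod_of_retract h
    have hpc : ∀ m : ℤ, DCoh.IsPseudoCoherentD m K := fun m x =>
      (Groth.Agent.Helper5.PCT.pcAt_of_biprod K Z m x
        (Groth.Agent.Helper5.PCT.pcAt_of_iso e (hL.1 m x))).1
    exact ⟨hpc, Groth.Agent.Helper5.RPR.locHasFiniteRelTorDim_of_locTorVan f _ hpc
      (Groth.Agent.Helper5.RPR.locTorVan_of_retract f h
        (Groth.Agent.Helper5.RPR.locTorVan_of_locHasFiniteRelTorDim f _ hL.2))⟩

end Groth.Agent.S7250
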