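import Groth.Statements.S7254
import Groth.Agent.Lib.Helper24.RFBound
import Groth.Agent.Lib.Helper29.ShModGA

set_option autoImplicit false
universe u
open CategoryTheory CategoryTheory.Limits AlgebraicGeometry
attribute [local instance] HasDerivedCategory.standard
open Perf

namespace Groth.Agent.S7254

/-- Let X be a scheme, F an additive functor from O_X-modules to abelian groups and N ≥ 0 an integer
such that F commutes with countable direct products and RᵖF(G) = 0 (right derived functors computed
with injective resolutions) for every p ≥ N and every quasi-coherent O_X-module G. Assume the total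
right derived functor RF : D(O_X) ⥤ D(Ab) exists. If E ∈ D(O_X) has quasi-coherent cohomology
sheaves and Hⁱ(E) = 0 for i ∉ [a, b], then Hⁱ(RF(E)) = 0 for i ∉ [a, b + N - 1]. -/
theorem result {X : Scheme.{u}} (F : X.Modules ⥤ AddCommGrpCat.{u}) [F.Additive]
    [PreservesLimitsOfShape (Discrete ℕ) F] [HasInjectiveResolutions X.Modules] (N : ℕ)
    (hF : ∀ G : X.Modules, Coh.IsQCoh G → ∀ p : ℕ, N ≤ p → IsZero ((F.rightDerived p).obj G))
    [(F.mapHomotopyCategory (ComplexShape.up ℤ) ⋙ DerivedCategory.Qh).HasRightDerivedFunctor (HomotopyCategory.quasiIso X.Modules (ComplexShape.up ℤ))]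
    (E : DCoh.D X) (hE : DCoh.IsQCohD E) (a b : ℤ) (hab : ∀ i : ℤ, i < a ∨ b < i → IsZero (DCoh.HD E i))
    (i : ℤ) (hi : i < a ∨ b + N - 1 < i) :
    IsZero ((DerivedCategory.homologyFunctor AddCommGrpCat.{u} i).obj
      (((F.mapHomotopyCategory (ComplexShape.up ℤ) ⋙ DerivedCategory.Qh).totalRightDerived DerivedCategory.Qh
        (HomotopyCategory.quasiIso X.Modules (ComplexShape.up ℤ))).obj E)) := by
  haveI : IsGrothendieckAbelian.{u} X.Modules := Groth.Agent.Helper29.ShModGA.main0484 _ _
  have hGE : E.IsGE a := by
    rw [DerivedCategory.isGE_iff]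
    exact fun j hj => hab j (Or.inl hj)
  rcases hi with hi | hi
  · exact Groth.Agent.Helper24.RFBound.isZero_homology_of_isGE F _
      ((F.mapHomotopyCategory (ComplexShape.up ℤ) ⋙ DerivedCategory.Qh).totalRightDerivedUnit
        DerivedCategory.Qh (HomotopyCategory.quasiIso X.Modules (ComplexShape.up ℤ))) E a i hi
  · by_cases hba : a ≤ b
    · obtain ⟨n, hn⟩ : ∃ n : ℕ, a + n = b := ⟨(b - a).toNat, by omega⟩
      have hLE : E.IsLE (a + n) := by
        rw [DerivedCategory.isLE_iff]
        exact fun j hj => hab j (Or.inr (by omega))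
      exact Groth.Agent.Helper24.RFBound.isZero_homology_of_bounded F _
        ((F.mapHomotopyCategory (ComplexShape.up ℤ) ⋙ DerivedCategory.Qh).totalRightDerivedUnit
          DerivedCategory.Qh (HomotopyCategory.quasiIso X.Modules (ComplexShape.up ℤ)))
        (fun G => Coh.IsQCoh G)
        (fun e h => (SheafOfModules.isQuasicoherent X.ringCatSheaf).prop_of_iso e h)
        N hF n E a hGE hLE (fun q _ _ => hE q) i (by omega)
    · have hz : IsZero E := by
        have h1 : E.IsLE b := by
          rw [DerivedCategory.isLE_iff]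
          exact fun j hj => hab j (Or.inr hj)
        exact DerivedCategory.TStructure.t.isZero E b a (by omega)
      haveI : (((F.mapHomotopyCategory (ComplexShape.up ℤ) ⋙
          DerivedCategory.Qh).totalRightDerived DerivedCategory.Qh
          (HomotopyCategory.quasiIso X.Modules (ComplexShape.up ℤ)))).Additive :=
        Groth.Agent.Helper24.RFProd.additive
          (F.mapHomotopyCategory (ComplexShape.up ℤ) ⋙ DerivedCategory.Qh) _
          ((F.mapHomotopyCategory (ComplexShape.up ℤ) ⋙ DerivedCategory.Qh).totalRightDerivedUnit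
            DerivedCategory.Qh (HomotopyCategory.quasiIso X.Modules (ComplexShape.up ℤ)))
      exact Functor.map_isZero _ (Functor.map_isZero _ hz)

end Groth.Agent.S7254
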