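import Groth.Statements.S7284
import Mathlib
import Groth.Agent.S7286
import Groth.Agent.Lib.Helper2.ProEtPt2
-- import your own Groth.Agent.* helpers here

set_option autoImplicit false
open CategoryTheory CategoryTheory.Limits AlgebraicGeometry Opposite
universe u
open ProEtS

namespace Groth.Agent.S7284

section

open CategoryTheory CategoryTheory.Limits AlgebraicGeometry Opposite Topology
open Groth.Agent.Helper2.ProEtPt

variable {S : Scheme.{u}}

instance (W : S.ProEt) (w : ↥W.left) : InitiallySmall.{u + 1} (Nbhd W w) :=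
  initiallySmall_of_essentiallySmall _

instance : LocallySmall.{u + 1} S.ProEt := inferInstance

/-- The point of the small pro-étale site attached to a point of an affine object with
w-contractible ring of functions. -/
noncomputable def pt (W : S.ProEt) [IsAffine W.left]
    (hT : EtPBC.IsWContractible ↥(Γ(W.left, ⊤))) (w : ↥W.left) :
    GrothendieckTopology.Point.{u + 1} (Scheme.ProEt.topology S) :=
  GrothendieckTopology.Point.ofIsCofiltered (nbhdFunctor W w) (nbhd_lift W hT w)

/-- Index type for the family of points. -/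
def Idx (S : Scheme.{u}) : Type (u + 1) :=
  Σ (W : {W : S.ProEt // IsAffine W.left ∧ EtPBC.IsWContractible ↥(Γ(W.left, ⊤))}), ↥W.1.left

/-- The family of points. -/
noncomputable def ptFam (i : Idx S) : GrothendieckTopology.Point.{u + 1} (Scheme.ProEt.topology S) :=
  haveI : IsAffine i.1.1.left := i.1.2.1
  pt i.1.1 i.1.2.2 i.2

set_option backward.isDefEq.respectTransparency.types false in
theorem key {X : S.ProEt} (Sv : Sieve X)
    (h : ∀ (i : Idx S) (x : (ptFam i).fiber.obj X),
      ∃ (Y : S.ProEt) (g : Y ⟶ X) (_ : Sv g) (y : (ptFam i).fiber.obj Y),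
        (ptFam i).fiber.map g y = x) :
    Sv ∈ Scheme.ProEt.topology S X := by
  let J := Scheme.ProEt.topology S
  obtain ⟨ι, V, g, hcov, haff⟩ := Groth.Agent.S7286.main X
  refine J.transitive hcov Sv ?_
  rintro Y f ⟨_, a, _, ⟨i⟩, rfl⟩
  rw [Sieve.pullback_comp]
  apply J.pullback_stable
  -- now show `Sv.pullback (g i)` is covering on the w-contractible affine `V i`
  let W := V i
  haveI : IsAffine W.left := (haff i).1
  have hT := (haff i).2
  have hloc : ∀ w : ↥W.left, ∃ U : Nbhd W w,
      (Sv.pullback (g i)).arrows (MorphismProperty.Over.homMk U.1.ι :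
        Scheme.ProEt.mk (U.1.ι ≫ W.hom) ⟶ W) := by
    intro w
    let idx : Idx S := ⟨⟨W, ‹_›, hT⟩, w⟩
    let c0 : (nbhdFunctor W w).obj (Nbhd.top W w) ⟶ W :=
      MorphismProperty.Over.homMk (Nbhd.top W w).1.ι
    obtain ⟨Y, k, hk, y, hy⟩ := h idx
      (GrothendieckTopology.Point.ofIsCofiltered.fiberMk (c0 ≫ g i))
    obtain ⟨U, b, rfl⟩ := GrothendieckTopology.Point.ofIsCofiltered.fiberMk_jointly_surjective y
    have hy' : GrothendieckTopology.Point.ofIsCofiltered.fiberMk.{u + 1} (b ≫ k) =
        GrothendieckTopology.Point.ofIsCofiltered.fiberMk.{u + 1}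
          ((nbhdFunctor W w).map (homOfLE (le_top : U.1 ≤ ⊤) : U ⟶ Nbhd.top W w) ≫ c0 ≫ g i) := by
      rw [GrothendieckTopology.Point.ofIsCofiltered.fiberMk_map_comp]
      rw [← hy]
      exact (GrothendieckTopology.Point.ofIsCofiltered.fiber_map_fiberMk _ b k).symm
    obtain ⟨U', q, hq⟩ := GrothendieckTopology.Point.ofIsCofiltered.exists_of_fiberMk_eq_fiberMk hy'
    refine ⟨U', ?_⟩
    change Sv.arrows (_ ≫ g i)
    have e : (MorphismProperty.Over.homMk U'.1.ι :
        Scheme.ProEt.mk (U'.1.ι ≫ W.hom) ⟶ W) ≫ g i = ((nbhdFunctor W w).map q ≫ b) ≫ k := by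
      rw [Category.assoc, hq, ← Category.assoc, ← Category.assoc]
      congr 1
      apply MorphismProperty.Over.Hom.ext
      change U'.1.ι = (W.left.homOfLE (leOfHom q) ≫ W.left.homOfLE (le_top : U.1 ≤ ⊤)) ≫
        (⊤ : W.left.Opens).ι
      rw [Category.assoc, Scheme.homOfLE_ι, Scheme.homOfLE_ι]
    exact e ▸ Sv.downward_closed hk _
  choose U hU using hloc
  have hcov' : (⋃ w, ((U w).1 : Set ↥W.left)) = Set.univ := by
    rw [Set.eq_univ_iff_forall]
    intro w
    exact Set.mem_iUnion.mpr ⟨w, (U w).2.2⟩
  refine J.superset_covering ?_ (Groth.Agent.S0725.cover_mem' W (fun w => (U w).1) hcov')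
  rw [Sieve.generate_le_iff]
  rintro _ _ ⟨w⟩
  exact hU w

theorem main (S : Scheme.{u}) :
    GrothendieckTopology.HasEnoughPoints.{u + 1} (Scheme.ProEt.topology S) := by
  refine ⟨ObjectProperty.ofObj (ptFam (S := S)), inferInstance, ?_⟩
  apply ObjectProperty.IsConservativeFamilyOfPoints.mk'
  intro X Sv hSv
  apply key Sv
  intro i x
  exact hSv ⟨ptFam i, ObjectProperty.ofObj_apply _ i⟩ x

end

/-- For every scheme S the small pro-etale site of S has enough points, that is, it admits a small
conservative family of points (fibre functors valued one universe up, the universe in which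
pro-etale sheaves are valued). -/
theorem result (S : Scheme.{u}) :
    GrothendieckTopology.HasEnoughPoints.{u + 1} (Scheme.ProEt.topology S) := by
  exact Groth.Agent.S7284.main S

end Groth.Agent.S7284
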