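import Groth.Statements.S7288
import Mathlib
import Groth.Agent.Lib.Helper2.EpsX16
-- import your own Groth.Agent.* helpers here

set_option autoImplicit false
open CategoryTheory CategoryTheory.Limits AlgebraicGeometry Opposite
universe u
open EtModW

namespace Groth.Agent.S7288

section

open CategoryTheory CategoryTheory.Limits AlgebraicGeometry Opposite Topology
open Groth.Agent.Helper2.EpsX Groth.Agent.Helper2.EpsU

set_option backward.isDefEq.respectTransparency.types false in
theorem main (Λ : Type (u + 1)) [CommRing Λ] (X : Scheme.{u})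
    [ProEtS.EpsCont X] :
    (∀ (F G : EtModW.ModP Λ X) (φ : F ⟶ G), (EtModW.epsPullMod Λ X).essImage F →
      (EtModW.epsPullMod Λ X).essImage G →
        (EtModW.epsPullMod Λ X).essImage (kernel φ) ∧ (EtModW.epsPullMod Λ X).essImage (cokernel φ)) ∧
    ∀ (T : ShortComplex (EtModW.ModP Λ X)), T.ShortExact →
      (EtModW.epsPullMod Λ X).essImage T.X₁ → (EtModW.epsPullMod Λ X).essImage T.X₃ →
        (EtModW.epsPullMod Λ X).essImage T.X₂ := by
  have adj : EtModW.epsPullMod Λ X ⊣ (ProEtS.eps X).sheafPushforwardContinuous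
      (ModuleCat.{u + 1} Λ) X.smallEtaleTopology (Scheme.ProEt.topology X) :=
    (ProEtS.eps X).sheafAdjunctionContinuous (ModuleCat.{u + 1} Λ) X.smallEtaleTopology
      (Scheme.ProEt.topology X)
  haveI : (EtModW.epsPullMod Λ X).Full := epsPullMod_full Λ X
  haveI : (EtModW.epsPullMod Λ X).Faithful := epsPullMod_faithful Λ X
  haveI : PreservesFiniteLimits (EtModW.epsPullMod Λ X) := epsPullMod_preservesFiniteLimits X Λ
  haveI : (EtModW.epsPullMod Λ X).Additive := adj.left_adjoint_additive
  haveI := adj.leftAdjoint_preservesColimits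
  refine ⟨?_, fun T hT h₁ h₃ => ext_closed_mod Λ X T hT h₁ h₃⟩
  intro F G φ hF hG
  obtain ⟨F₀, ⟨eF⟩⟩ := hF
  obtain ⟨G₀, ⟨eG⟩⟩ := hG
  constructor
  · obtain ⟨K, -, ⟨eK⟩⟩ := image_kernel (EtModW.epsPullMod Λ X) (fun _ => True)
      (fun _ _ _ => trivial) φ ⟨F₀, trivial, ⟨eF⟩⟩ ⟨G₀, trivial, ⟨eG⟩⟩
    exact ⟨K, ⟨eK⟩⟩
  · obtain ⟨K, -, ⟨eK⟩⟩ := image_cokernel (EtModW.epsPullMod Λ X) (fun _ => True)
      (fun _ _ _ => trivial) φ ⟨F₀, trivial, ⟨eF⟩⟩ ⟨G₀, trivial, ⟨eG⟩⟩
    exact ⟨K, ⟨eK⟩⟩

end

/-- Let X be a scheme and Λ a ring. The essential image of the pullback functor from sheaves of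
Λ-modules on the small etale site of X to sheaves of Λ-modules on the small pro-etale site is a weak
Serre subcategory: the kernel and the cokernel of a morphism between objects of the essential image
lie in it, and an extension of two objects of the essential image lies in it. (Continuity of the
inclusion of the etale site into the pro-etale site is carried as a binder.) -/
theorem result (Λ : Type (u + 1)) [CommRing Λ] (X : Scheme.{u})
    [ProEtS.EpsCont X] :
    (∀ (F G : EtModW.ModP Λ X) (φ : F ⟶ G), (EtModW.epsPullMod Λ X).essImage F →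
      (EtModW.epsPullMod Λ X).essImage G →
        (EtModW.epsPullMod Λ X).essImage (kernel φ) ∧ (EtModW.epsPullMod Λ X).essImage (cokernel φ)) ∧
    ∀ (T : ShortComplex (EtModW.ModP Λ X)), T.ShortExact →
      (EtModW.epsPullMod Λ X).essImage T.X₁ → (EtModW.epsPullMod Λ X).essImage T.X₃ →
        (EtModW.epsPullMod Λ X).essImage T.X₂ := by
  exact Groth.Agent.S7288.main Λ X

end Groth.Agent.S7288
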