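import Groth.Statements.S7290
-- import your own Groth.Agent.* helpers here

set_option autoImplicit false
open CategoryTheory CategoryTheory.Limits AlgebraicGeometry Opposite
universe u
open ProEtW

namespace Groth.Agent.S7290

/-- Let A be a ring and let Spec A be the disjoint union of finitely many constructible subsets T_i.
Then there is a finite subset E of A such that the stratification of Spec A according to which
elements of E vanish at a point refines the given one: each nonempty stratum, consisting of the
primes whose intersection with E is a prescribed subset, is contained in one of the T_i. -/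
theorem result (A : Type u) [CommRing A] {ι : Type u} [Finite ι]
    (T : ι → Set (PrimeSpectrum A)) (hT : ∀ i, Topology.IsConstructible (T i))
    (hcov : ⋃ i, T i = Set.univ) (hdisj : Pairwise fun i j => Disjoint (T i) (T j)) :
    ∃ E : Finset A, ∀ E'' : Finset A, E'' ⊆ E →
      ∀ x : PrimeSpectrum A, (∀ f ∈ E, f ∈ x.asIdeal ↔ f ∈ E'') →
        ∃ i, {y : PrimeSpectrum A | ∀ f ∈ E, f ∈ y.asIdeal ↔ f ∈ E''} ⊆ T i := by
  classical
  -- every constructible set is saturated with respect to finitely many elements
  have key : ∀ S : Set (PrimeSpectrum A), Topology.IsConstructible S →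
      ∃ E : Finset A, ∀ x y : PrimeSpectrum A,
        (∀ f ∈ E, f ∈ x.asIdeal ↔ f ∈ y.asIdeal) → (x ∈ S ↔ y ∈ S) := by
    intro S hS
    induction hS using Topology.IsConstructible.empty_union_induction with
    | open_retrocompact U hUo hUr =>
      obtain ⟨t, rfl⟩ := PrimeSpectrum.isCompact_isOpen_iff.mp ⟨hUr.isCompact, hUo⟩
      refine ⟨t, fun x y hxy => ?_⟩
      simp only [Set.mem_compl_iff, PrimeSpectrum.mem_zeroLocus, Set.not_subset,
        SetLike.mem_coe]
      constructor
      · rintro ⟨f, hf, hfx⟩
        exact ⟨f, hf, fun h => hfx ((hxy f hf).mpr h)⟩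
      · rintro ⟨f, hf, hfy⟩
        exact ⟨f, hf, fun h => hfy ((hxy f hf).mp h)⟩
    | union s hs t ht hs' ht' =>
      obtain ⟨E1, h1⟩ := hs'
      obtain ⟨E2, h2⟩ := ht'
      refine ⟨E1 ∪ E2, fun x y hxy => ?_⟩
      have h1' := h1 x y fun f hf => hxy f (Finset.mem_union_left _ hf)
      have h2' := h2 x y fun f hf => hxy f (Finset.mem_union_right _ hf)
      simp only [Set.mem_union, h1', h2']
    | compl s hs hs' =>
      obtain ⟨E1, h1⟩ := hs'
      refine ⟨E1, fun x y hxy => ?_⟩
      simp only [Set.mem_compl_iff, h1 x y hxy]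
  choose Ei hEi using fun i => key (T i) (hT i)
  have : Fintype ι := Fintype.ofFinite ι
  refine ⟨Finset.univ.biUnion Ei, ?_⟩
  intro E'' _ x hx
  have hxT : x ∈ ⋃ i, T i := hcov ▸ Set.mem_univ x
  obtain ⟨i, hi⟩ := Set.mem_iUnion.mp hxT
  refine ⟨i, fun y hy => ?_⟩
  refine (hEi i x y fun f hf => ?_).mp hi
  have hfE : f ∈ Finset.univ.biUnion Ei := Finset.mem_biUnion.mpr ⟨i, Finset.mem_univ i, hf⟩
  rw [hx f hfE, hy f hfE]

end Groth.Agent.S7290
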