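import Groth.Statements.S7295
import Mathlib
import Groth.Agent.Lib.Helper10.LanExact
-- import your own Groth.Agent.* helpers here

set_option autoImplicit false
open CategoryTheory CategoryTheory.Limits AlgebraicGeometry Opposite
universe u
open ProEtS

namespace Groth.Agent.S7295

section

open CategoryTheory CategoryTheory.Limits AlgebraicGeometry Opposite Topology

theorem overMap_preserves {T S : Scheme.{u}} (f : T ⟶ S) (J : Type) [SmallCategory J]
    [IsConnected J] [HasLimitsOfShape J Scheme.{u}] :
    PreservesLimitsOfShape J (Over.map f) := by
  haveI : PreservesLimitsOfShape J (Over.forget T) := inferInstance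
  haveI : PreservesLimitsOfShape J (Over.map f ⋙ Over.forget S) :=
    preservesLimitsOfShape_of_natIso (Over.mapForget f).symm
  exact preservesLimitsOfShape_of_reflects_of_preserves (Over.map f) (Over.forget S)

set_option backward.isDefEq.respectTransparency.types false in
theorem main {T S : Scheme.{u}} (f : T ⟶ S)
    [(Scheme.ProEt.forget T ⋙ Over.map f).IsContinuous (Scheme.ProEt.topology T)
      (Scheme.proetaleTopology.over S)]
    (I : Sheaf (Scheme.proetaleTopology.over S) AddCommGrpCat.{u + 1}) [Injective I] :
    Injective (((Scheme.ProEt.forget T ⋙ Over.map f).sheafPushforwardContinuous AddCommGrpCat.{u + 1}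
      (Scheme.ProEt.topology T) (Scheme.proetaleTopology.over S)).obj I) := by
  haveI := overMap_preserves f WalkingCospan
  haveI := overMap_preserves f WalkingParallelPair
  haveI : PreservesLimitsOfShape WalkingCospan (Scheme.ProEt.forget T ⋙ Over.map f) :=
    inferInstance
  haveI : PreservesLimitsOfShape WalkingParallelPair (Scheme.ProEt.forget T ⋙ Over.map f) :=
    inferInstance
  haveI : PreservesFiniteLimits ((Scheme.ProEt.forget T ⋙ Over.map f).sheafPullback
      AddCommGrpCat.{u + 1} (Scheme.ProEt.topology T) (Scheme.proetaleTopology.over S)) :=
    Groth.Agent.Helper10.LanExact.preservesFiniteLimits_sheafPullback_ab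
      (Scheme.ProEt.forget T ⋙ Over.map f) _ _
  exact Injective.injective_of_adjoint
    ((Scheme.ProEt.forget T ⋙ Over.map f).sheafAdjunctionContinuous AddCommGrpCat.{u + 1}
      (Scheme.ProEt.topology T) (Scheme.proetaleTopology.over S)) I

end

/-- Let f : T → S be a morphism of schemes and I an injective object of the category of abelian sheaves
on the big pro-etale site of S (the category of schemes over S with the pro-etale topology). Then
the restriction of I to the small pro-etale site of T, along the functor sending a scheme V weakly
etale over T to the S-scheme V → T → S, is injective. The case where T = S and f is the identity is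
the restriction to the small pro-etale site of S itself. (Continuity of the restriction functor is
carried as a binder.) -/
theorem result {T S : Scheme.{u}} (f : T ⟶ S)
    [(Scheme.ProEt.forget T ⋙ Over.map f).IsContinuous (Scheme.ProEt.topology T)
      (Scheme.proetaleTopology.over S)]
    (I : Sheaf (Scheme.proetaleTopology.over S) AddCommGrpCat.{u + 1}) [Injective I] :
    Injective (((Scheme.ProEt.forget T ⋙ Over.map f).sheafPushforwardContinuous AddCommGrpCat.{u + 1}
      (Scheme.ProEt.topology T) (Scheme.proetaleTopology.over S)).obj I) := by
  exact Groth.Agent.S7295.main f I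

end Groth.Agent.S7295
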