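import Groth.Statements.S7296
import Mathlib
import Groth.Agent.Lib.Helper2.ExactDerived
-- import your own Groth.Agent.* helpers here

set_option autoImplicit false
open CategoryTheory CategoryTheory.Limits AlgebraicGeometry Opposite
universe u
open ProEtS

namespace Groth.Agent.S7296

section

open CategoryTheory CategoryTheory.Limits AlgebraicGeometry Opposite Topology

set_option backward.isDefEq.respectTransparency.types false in
instance cocont (S : Scheme.{u}) :
    (Scheme.ProEt.forget S).IsCocontinuous (Scheme.ProEt.topology S)
      (Scheme.proetaleTopology.over S) := by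
  have h : Scheme.ProEt.topology S =
      (Scheme.ProEt.forget S).restrictedTopology (Scheme.proetaleTopology.over S) :=
    MorphismProperty.toGrothendieck_comap_forget_eq_restrictedTopology _
      Scheme.proetalePrecoverage_le_precoverage_weaklyEtale
  rw [h]
  infer_instance

set_option backward.isDefEq.respectTransparency.types false in
theorem unit_iso (S : Scheme.{u}) :
    IsIso ((Scheme.ProEt.forget S).sheafAdjunctionContinuous AddCommGrpCat.{u + 1}
      (Scheme.ProEt.topology S) (Scheme.proetaleTopology.over S)).unit := by
  let G := Scheme.ProEt.forget S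
  let t : Adjunction.Triple
      (G.sheafPullback AddCommGrpCat.{u + 1} (Scheme.ProEt.topology S)
        (Scheme.proetaleTopology.over S))
      (G.sheafPushforwardContinuous AddCommGrpCat.{u + 1} (Scheme.ProEt.topology S)
        (Scheme.proetaleTopology.over S))
      (G.sheafPushforwardCocontinuous AddCommGrpCat.{u + 1} (Scheme.ProEt.topology S)
        (Scheme.proetaleTopology.over S)) :=
    ⟨G.sheafAdjunctionContinuous _ _ _, G.sheafAdjunctionCocontinuous _ _ _⟩
  rw [t.isIso_unit_iff_isIso_counit]
  apply (config := { allowSynthFailures := true }) NatIso.isIso_of_isIso_app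
  intro F
  rw [← isIso_iff_of_reflects_iso _ (sheafToPresheaf _ _)]
  change IsIso ((G.sheafAdjunctionCocontinuous AddCommGrpCat.{u + 1} (Scheme.ProEt.topology S)
    (Scheme.proetaleTopology.over S)).counit.app F).hom
  rw [Functor.sheafAdjunctionCocontinuous_counit_app_hom]
  haveI : HasLimitsOfSize.{u, u + 1} AddCommGrpCat.{u + 1} := inferInstance
  haveI : G.op.HasPointwiseRightKanExtension F.obj := fun Y => by
    dsimp only [Functor.HasPointwiseRightKanExtensionAt]
    infer_instance
  haveI : G.op.Full := inferInstance
  haveI : G.op.Faithful := inferInstance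
  haveI : ∀ (F : S.ProEtᵒᵖ ⥤ AddCommGrpCat.{u + 1}), G.op.HasRightKanExtension F := inferInstance
  rw [Functor.ranAdjunction_counit]
  apply (config := { allowSynthFailures := true }) NatIso.isIso_of_isIso_app
  intro X
  obtain ⟨V⟩ := X
  exact (Functor.isPointwiseRightKanExtensionRanCounit G.op F.obj (G.op.obj (op V))).isIso_hom_app

set_option backward.isDefEq.respectTransparency.types false in
theorem main (S : Scheme.{u})
    [((Scheme.ProEt.forget S).sheafPushforwardContinuous AddCommGrpCat.{u + 1} (Scheme.ProEt.topology S)
      (Scheme.proetaleTopology.over S)).Additive]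
    [HasInjectiveResolutions (Sheaf (Scheme.proetaleTopology.over S) AddCommGrpCat.{u + 1})]
    (F : ProEtS.AbP S) :
    IsIso (((Scheme.ProEt.forget S).sheafAdjunctionContinuous AddCommGrpCat.{u + 1}
      (Scheme.ProEt.topology S) (Scheme.proetaleTopology.over S)).unit.app F) ∧
    ∀ q : ℕ, 0 < q →
      IsZero ((((Scheme.ProEt.forget S).sheafPushforwardContinuous AddCommGrpCat.{u + 1}
        (Scheme.ProEt.topology S) (Scheme.proetaleTopology.over S)).rightDerived q).obj
        (((Scheme.ProEt.forget S).sheafPullback AddCommGrpCat.{u + 1} (Scheme.ProEt.topology S)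
          (Scheme.proetaleTopology.over S)).obj F)) := by
  refine ⟨?_, ?_⟩
  · haveI := unit_iso S
    infer_instance
  · intro q hq
    let G := Scheme.ProEt.forget S
    haveI : PreservesLimitsOfSize.{0, 0} (G.sheafPushforwardContinuous AddCommGrpCat.{u + 1}
        (Scheme.ProEt.topology S) (Scheme.proetaleTopology.over S)) :=
      (G.sheafAdjunctionContinuous AddCommGrpCat.{u + 1} (Scheme.ProEt.topology S)
        (Scheme.proetaleTopology.over S)).rightAdjoint_preservesLimits
    haveI : PreservesColimitsOfSize.{0, 0} (G.sheafPushforwardContinuous AddCommGrpCat.{u + 1}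
        (Scheme.ProEt.topology S) (Scheme.proetaleTopology.over S)) :=
      (G.sheafAdjunctionCocontinuous AddCommGrpCat.{u + 1} (Scheme.ProEt.topology S)
        (Scheme.proetaleTopology.over S)).leftAdjoint_preservesColimits
    haveI : PreservesFiniteLimits (G.sheafPushforwardContinuous AddCommGrpCat.{u + 1}
        (Scheme.ProEt.topology S) (Scheme.proetaleTopology.over S)) :=
      PreservesLimitsOfSize.preservesFiniteLimits _
    haveI : PreservesFiniteColimits (G.sheafPushforwardContinuous AddCommGrpCat.{u + 1}
        (Scheme.ProEt.topology S) (Scheme.proetaleTopology.over S)) :=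
      PreservesColimitsOfSize.preservesFiniteColimits _
    exact Groth.Agent.Helper2.ExactDerived.isZero_rightDerived_of_exact _ _ q hq

end

/-- For an abelian sheaf F on the small pro-etale site of a scheme S: write u for the inclusion of the
small pro-etale site into the big pro-etale site of S (schemes over S with the pro-etale topology),
u_s for pullback of abelian sheaves along u (left adjoint to the restriction u^s). Then the unit F →
u^s u_s F is an isomorphism and R^q u^s (u_s F) = 0 for every q > 0; together these say that F → R
u^s (u_s F) is an isomorphism. (Additivity of the restriction functor and the existence of injective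
resolutions for abelian sheaves on the big pro-etale site, both of which hold, are recorded as
instance hypotheses.) -/
theorem result (S : Scheme.{u})
    [((Scheme.ProEt.forget S).sheafPushforwardContinuous AddCommGrpCat.{u + 1} (Scheme.ProEt.topology S)
      (Scheme.proetaleTopology.over S)).Additive]
    [HasInjectiveResolutions (Sheaf (Scheme.proetaleTopology.over S) AddCommGrpCat.{u + 1})]
    (F : ProEtS.AbP S) :
    IsIso (((Scheme.ProEt.forget S).sheafAdjunctionContinuous AddCommGrpCat.{u + 1}
      (Scheme.ProEt.topology S) (Scheme.proetaleTopology.over S)).unit.app F) ∧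
    ∀ q : ℕ, 0 < q →
      IsZero ((((Scheme.ProEt.forget S).sheafPushforwardContinuous AddCommGrpCat.{u + 1}
        (Scheme.ProEt.topology S) (Scheme.proetaleTopology.over S)).rightDerived q).obj
        (((Scheme.ProEt.forget S).sheafPullback AddCommGrpCat.{u + 1} (Scheme.ProEt.topology S)
          (Scheme.proetaleTopology.over S)).obj F)) := by
  exact Groth.Agent.S7296.main S F

end Groth.Agent.S7296
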