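import Groth.Statements.S7318
import Groth.Agent.Lib.Helper11.NumQuad

set_option autoImplicit false
open Finset
open Models Models.NumericalType

namespace Groth.Agent.S7318

/-- For a numerical type T on n indices with e pairs i < j such that a_ij > 0, the topological genus 1 -
n + e is ≥ 0. -/
theorem result {n : ℕ} (T : Models.NumericalType n) : 0 ≤ T.topGenus := by
  classical
  let G : SimpleGraph (Fin n) :=
    { Adj := fun i j => i ≠ j ∧ 0 < T.a i j
      symm := ⟨fun i j h => ⟨h.1.symm, by rw [T.symm.apply i j]; exact h.2⟩⟩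
      loopless := ⟨fun i h => h.1 rfl⟩ }
  have hconn : G.Connected := by
    have : Nonempty (Fin n) := ⟨⟨0, T.pos⟩⟩
    rw [SimpleGraph.connected_iff_exists_forall_reachable]
    refine ⟨⟨0, T.pos⟩, ?_⟩
    by_contra hcon
    push Not at hcon
    set S : Finset (Fin n) := univ.filter (fun w => G.Reachable ⟨0, T.pos⟩ w) with hS
    have hSne : S.Nonempty := ⟨⟨0, T.pos⟩, by simp [hS]⟩
    have hSu : S ≠ univ := by
      obtain ⟨w, hw⟩ := hcon
      intro h
      have : w ∈ S := h ▸ mem_univ w
      simp only [hS, mem_filter, mem_univ, true_and] at this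
      exact hw this
    obtain ⟨i, hi, j, hj, hne⟩ := T.connected S hSne hSu
    have hij : i ≠ j := by
      rintro rfl
      exact hj hi
    have hadj : G.Adj i j := ⟨hij, lt_of_le_of_ne (T.offDiag_nonneg i j hij) (Ne.symm hne)⟩
    apply hj
    simp only [hS, mem_filter, mem_univ, true_and] at hi ⊢
    exact hi.trans hadj.reachable
  have hcard := hconn.card_vert_le_card_edgeSet_add_one
  rw [Nat.card_eq_fintype_card, Fintype.card_fin] at hcard
  have hedge : Nat.card G.edgeSet ≤ T.edgeCount := by
    unfold Models.NumericalType.edgeCount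
    set F := univ.filter fun p : Fin n × Fin n => p.1 < p.2 ∧ 0 < T.a p.1 p.2 with hF
    have hmem : ∀ p : F, s(p.1.1, p.1.2) ∈ G.edgeSet := by
      intro p
      have := p.2
      simp only [hF, mem_filter, mem_univ, true_and] at this
      rw [SimpleGraph.mem_edgeSet]
      exact ⟨this.1.ne, this.2⟩
    have h1 : Nat.card G.edgeSet ≤ Nat.card F := by
      apply Nat.card_le_card_of_surjective (fun p : F => (⟨s(p.1.1, p.1.2), hmem p⟩ : G.edgeSet))
      rintro ⟨e, he⟩
      induction e using Sym2.ind with
      | _ i j =>
        rw [SimpleGraph.mem_edgeSet] at he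
        rcases lt_or_gt_of_ne he.1 with hlt | hlt
        · refine ⟨⟨(i, j), ?_⟩, rfl⟩
          simp only [hF, mem_filter, mem_univ, true_and]
          exact ⟨hlt, he.2⟩
        · refine ⟨⟨(j, i), ?_⟩, ?_⟩
          · simp only [hF, mem_filter, mem_univ, true_and]
            refine ⟨hlt, ?_⟩
            rw [T.symm.apply i j]
            exact he.2
          · apply Subtype.ext
            exact Sym2.eq_swap
    have h2 : Nat.card F = F.card := by
      rw [Nat.card_eq_fintype_card, Fintype.card_coe]
    rw [h2] at h1
    exact h1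
  unfold Models.NumericalType.topGenus
  have : (n : ℤ) ≤ (T.edgeCount : ℤ) + 1 := by exact_mod_cast hcard.trans (Nat.add_le_add_right hedge 1)
  linarith

end Groth.Agent.S7318
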