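import Groth.Statements.S7340
import Mathlib
-- import your own Groth.Agent.* helpers here

set_option autoImplicit false
universe u
open Polynomial
open Resolve

namespace Groth.Agent.S7340

section
open Polynomial KaehlerDifferential

/-! ### Part 1: the universal congruence -/

lemma exists_sum_pow_prime_eq {A : Type*} [CommRing A] {p : ℕ} (hp : p.Prime) {ι : Type*}
    (s : Finset ι) (f : ι → A) :
    ∃ E, (∑ i ∈ s, f i) ^ p = ∑ i ∈ s, (f i) ^ p + (p : A) * E := by
  classical
  induction s using Finset.induction_on with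
  | empty => exact ⟨0, by simp [hp.ne_zero]⟩
  | insert a s ha ih =>
    obtain ⟨E, hE⟩ := ih
    obtain ⟨r, hr⟩ := exists_add_pow_prime_eq hp (f a) (∑ i ∈ s, f i)
    refine ⟨E + f a * (∑ i ∈ s, f i) * r, ?_⟩
    rw [Finset.sum_insert ha, Finset.sum_insert ha, hr, hE]
    ring

/-- coefficientwise `p`-th power of a polynomial -/
noncomputable def cpow {T : Type*} [CommRing T] (p : ℕ) (G : T[X]) : T[X] :=
  ∑ k ∈ G.support, monomial k ((G.coeff k) ^ p)

lemma exists_pow_eq_expand_cpow {T : Type*} [CommRing T] {p : ℕ} (hp : p.Prime) (G : T[X]) :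
    ∃ E : T[X], G ^ p = expand T p (cpow p G) + C (p : T) * E := by
  obtain ⟨E, hE⟩ := exists_sum_pow_prime_eq hp G.support (fun k => monomial k (G.coeff k))
  refine ⟨E, ?_⟩
  have h1 : G = ∑ k ∈ G.support, monomial k (G.coeff k) := G.as_sum_support
  have h2 : expand T p (cpow p G) = ∑ k ∈ G.support, (monomial k (G.coeff k)) ^ p := by
    rw [cpow, map_sum]
    refine Finset.sum_congr rfl fun k _ => ?_
    rw [expand_monomial, monomial_pow, mul_comm]
  rw [h2]
  conv_lhs => rw [h1]
  rw [hE, ← C_eq_natCast]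

lemma map_cpow {T R : Type*} [CommRing T] [CommRing R] (p : ℕ) [Fact p.Prime] [CharP R p]
    (ψ : T →+* R) (G : T[X]) :
    (cpow p G).map ψ = (G.map ψ).map (frobenius R p) := by
  rw [cpow, Polynomial.map_sum]
  conv_rhs => rw [G.as_sum_support, Polynomial.map_sum, Polynomial.map_sum]
  refine Finset.sum_congr rfl fun k _ => ?_
  rw [map_monomial, map_monomial, map_monomial, frobenius_def, map_pow]

/-- the key identity in characteristic `p` -/
lemma key_identity {R : Type u} [CommRing R] (p : ℕ) [hp : Fact p.Prime] [CharP R p] (G : R[X]) :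
    ∃ E : R[X], G ^ (p - 1) * derivative G =
      expand R p (derivative (G.map (frobenius R p))) * X ^ (p - 1) + derivative E := by
  -- lift to characteristic zero
  let T := MvPolynomial R ℤ
  let ψ : T →+* R := (MvPolynomial.aeval (R := ℤ) (fun r : R => r)).toRingHom
  have hψ : Function.Surjective ψ := fun r => ⟨MvPolynomial.X r, by
    change MvPolynomial.aeval (R := ℤ) (fun r : R => r) (MvPolynomial.X r) = r
    rw [MvPolynomial.aeval_X]⟩
  obtain ⟨G₀, hG₀⟩ := Polynomial.map_surjective ψ hψ G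
  obtain ⟨E, hE⟩ := exists_pow_eq_expand_cpow hp.out G₀
  have hd := congrArg derivative hE
  rw [derivative_pow, derivative_add, derivative_expand, derivative_C_mul] at hd
  have hp0 : (C ((p : ℕ) : T) : T[X]) ≠ 0 := by
    rw [Ne, C_eq_zero]
    exact_mod_cast hp.out.ne_zero
  have hd' : C ((p : ℕ) : T) * (G₀ ^ (p - 1) * derivative G₀) =
      C ((p : ℕ) : T) * (expand T p (derivative (cpow p G₀)) * X ^ (p - 1) + derivative E) := by
    have : ((p : ℕ) : T[X]) = C ((p : ℕ) : T) := (C_eq_natCast p).symm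
    rw [this] at hd
    calc C ((p : ℕ) : T) * (G₀ ^ (p - 1) * derivative G₀)
        = C ((p : ℕ) : T) * G₀ ^ (p - 1) * derivative G₀ := by ring
      _ = _ := by rw [hd]; ring
  have hd'' := mul_left_cancel₀ hp0 hd'
  refine ⟨E.map ψ, ?_⟩
  have := congrArg (Polynomial.map ψ) hd''
  simp only [Polynomial.map_mul, Polynomial.map_pow, Polynomial.map_add, Polynomial.map_X,
    ← derivative_map, map_expand, hG₀, map_cpow] at this
  exact this

/-! ### Part 2: the trace functional -/

section tau
variable (p : ℕ) [hp : Fact p.Prime] (R : Type u) [CommRing R] [CharP R p] (c : R)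


lemma root_pow : (AdjoinRoot.root (X ^ p - C c : R[X])) ^ p = algebraMap R (AdjoinRoot (X ^ p - C c : R[X])) c := by
  have h := AdjoinRoot.eval₂_root (X ^ p - C c : R[X])
  rw [eval₂_sub, eval₂_pow, eval₂_X, eval₂_C, sub_eq_zero] at h
  exact h

lemma of_injective : Function.Injective (algebraMap R (AdjoinRoot (X ^ p - C c : R[X]))) := by
  rw [injective_iff_map_eq_zero]
  intro r hr
  have hm : (X ^ p - C c : R[X]).Monic := monic_X_pow_sub_C c hp.out.ne_zero
  have h1 : AdjoinRoot.mk (X ^ p - C c : R[X]) (C r) = 0 := hr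
  rw [AdjoinRoot.mk_eq_zero] at h1
  by_contra hne
  haveI : Nontrivial R := nontrivial_of_ne r 0 hne
  refine hm.not_dvd_of_natDegree_lt (by rwa [Ne, C_eq_zero]) ?_ h1
  rw [natDegree_X_pow_sub_C, natDegree_C]
  exact hp.out.pos

variable (T : Ω[AdjoinRoot (X ^ p - C c : R[X])⁄R] →ₗ[R] Ω[R⁄ℤ])

/-- the functional `h ↦ T (h(y) dy)` -/
noncomputable def tau : R[X] →ₗ[R] Ω[R⁄ℤ] where
  toFun h := T (aeval (AdjoinRoot.root (X ^ p - C c : R[X])) h • KaehlerDifferential.D R _ (AdjoinRoot.root (X ^ p - C c : R[X])))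
  map_add' h h' := by rw [map_add, add_smul, map_add]
  map_smul' r h := by
    have : aeval (AdjoinRoot.root (X ^ p - C c : R[X])) (r • h) =
        r • aeval (AdjoinRoot.root (X ^ p - C c : R[X])) h := map_smul _ _ _
    rw [this, smul_assoc, LinearMap.map_smul, RingHom.id_apply]

lemma tau_apply (h : R[X]) :
    tau p R c T h = T (aeval (AdjoinRoot.root (X ^ p - C c : R[X])) h • KaehlerDifferential.D R _ (AdjoinRoot.root (X ^ p - C c : R[X]))) := rfl

variable (hT : ∀ i : ℕ, i + 2 ≤ p → T ((AdjoinRoot.root (X ^ p - C c : R[X])) ^ i • KaehlerDifferential.D R _ (AdjoinRoot.root (X ^ p - C c : R[X]))) = 0)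
  (hT' : T ((AdjoinRoot.root (X ^ p - C c : R[X])) ^ (p - 1) • KaehlerDifferential.D R _ (AdjoinRoot.root (X ^ p - C c : R[X]))) = KaehlerDifferential.D ℤ R c)

include hT hT' in
lemma tau_X_pow (m : ℕ) :
    tau p R c T (X ^ m) = if m % p = p - 1 then c ^ (m / p) • KaehlerDifferential.D ℤ R c else 0 := by
  rw [tau_apply, map_pow, aeval_X]
  have hm : m = p * (m / p) + m % p := (Nat.div_add_mod m p).symm
  have h1 : (AdjoinRoot.root (X ^ p - C c : R[X])) ^ m = algebraMap R (AdjoinRoot (X ^ p - C c : R[X])) (c ^ (m / p)) * (AdjoinRoot.root (X ^ p - C c : R[X])) ^ (m % p) := by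
    conv_lhs => rw [hm]
    rw [pow_add, pow_mul, root_pow, map_pow]
  rw [h1, mul_smul, algebraMap_smul, map_smul]
  have hlt : m % p < p := Nat.mod_lt _ hp.out.pos
  split_ifs with h
  · rw [h, hT']
  · rw [hT _ (by omega), smul_zero]

include hT hT' in
lemma tau_derivative (H : R[X]) : tau p R c T (derivative H) = 0 := by
  induction H using Polynomial.induction_on' with
  | add f g hf hg => rw [derivative_add, map_add, hf, hg, add_zero]
  | monomial m r =>
    rw [derivative_monomial, ← C_mul_X_pow_eq_monomial, ← smul_eq_C_mul, map_smul,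
      tau_X_pow p R c T hT hT']
    split_ifs with h
    · have hm : p ∣ m := by
        have hp1 := hp.out.pos
        rcases m with _ | m
        · exact dvd_zero _
        · have : (m + 1 - 1) = m := by omega
          rw [this] at h
          have h2 : (m + 1) % p = 0 := by
            rw [Nat.add_mod, h]
            rcases Nat.lt_or_ge 1 p with h1 | h1
            · rw [Nat.mod_eq_of_lt h1, Nat.sub_add_cancel (by omega), Nat.mod_self]
            · have : p = 1 := by omega
              subst this; simp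
          exact Nat.dvd_of_mod_eq_zero h2
      have : (m : R) = 0 := (CharP.cast_eq_zero_iff R p m).mpr hm
      rw [this, mul_zero, zero_smul]
    · rw [smul_zero]

include hT hT' in
lemma tau_expand (H : R[X]) :
    tau p R c T (expand R p H * X ^ (p - 1)) = eval c H • KaehlerDifferential.D ℤ R c := by
  induction H using Polynomial.induction_on' with
  | add f g hf hg => rw [map_add, add_mul, map_add, hf, hg, eval_add, add_smul]
  | monomial k r =>
    rw [expand_monomial, ← C_mul_X_pow_eq_monomial, mul_assoc, ← pow_add, ← smul_eq_C_mul,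
      map_smul, tau_X_pow p R c T hT hT']
    have hp1 := hp.out.pos
    have h1 : (k * p + (p - 1)) % p = p - 1 := by
      rw [mul_comm, Nat.mul_add_mod]; exact Nat.mod_eq_of_lt (by omega)
    have h2 : (k * p + (p - 1)) / p = k := by
      rw [mul_comm, Nat.mul_add_div hp1, Nat.div_eq_of_lt (by omega), add_zero]
    rw [if_pos h1, h2, eval_monomial, smul_smul]

lemma aeval_expand (H : R[X]) :
    aeval (AdjoinRoot.root (X ^ p - C c : R[X])) (expand R p H) = algebraMap R (AdjoinRoot (X ^ p - C c : R[X])) (eval c H) := by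
  rw [expand_aeval, root_pow, aeval_algebraMap_apply_eq_algebraMap_eval]

end tau

/-! ### Part 3: the main argument -/

lemma D_eval_map_frobenius (p : ℕ) [hp : Fact p.Prime] (R : Type u) [CommRing R] [CharP R p]
    (b : R) (G : R[X]) :
    KaehlerDifferential.D ℤ R (eval b (G.map (frobenius R p))) =
      eval b (derivative (G.map (frobenius R p))) • KaehlerDifferential.D ℤ R b := by
  induction G using Polynomial.induction_on' with
  | add f g hf hg =>
    rw [Polynomial.map_add, eval_add, map_add, hf, hg, derivative_add, eval_add, add_smul]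
  | monomial k r =>
    rw [map_monomial, eval_monomial, derivative_monomial, eval_monomial, frobenius_def,
      Derivation.leibniz, Derivation.leibniz_pow, Derivation.leibniz_pow]
    have hp0 : (p : R) = 0 := CharP.cast_eq_zero R p
    have h0 : p • r ^ (p - 1) • KaehlerDifferential.D ℤ R r = 0 := by
      rw [← Nat.cast_smul_eq_nsmul R, hp0, zero_smul]
    rw [h0, smul_zero, add_zero, ← Nat.cast_smul_eq_nsmul R, smul_smul, smul_smul, mul_assoc]

lemma exists_natCast_mul_eq_one (p : ℕ) [hp : Fact p.Prime] (R : Type u) [CommRing R] [CharP R p]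
    (n : ℕ) (hn : ¬ p ∣ n) : ∃ m : ℕ, (m : R) * (n : R) = 1 := by
  have hne : (n : ZMod p) ≠ 0 := by
    rw [Ne, ZMod.natCast_eq_zero_iff]; exact hn
  refine ⟨((n : ZMod p)⁻¹).val, ?_⟩
  have h1 : (((((n : ZMod p)⁻¹).val * n : ℕ)) : ZMod p) = ((1 : ℕ) : ZMod p) := by
    push_cast; rw [ZMod.natCast_zmod_val]; exact inv_mul_cancel₀ hne
  have h2 := (CharP.natCast_eq_natCast R p).mpr ((ZMod.natCast_eq_natCast_iff _ _ _).mp h1)
  simpa using h2

section main
variable (p : ℕ) [hp : Fact p.Prime] (R : Type u) [CommRing R] [CharP R p] (a b : R)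
  (Tx : Ω[AdjoinRoot (X ^ p - C a : R[X])⁄R] →ₗ[R] Ω[R⁄ℤ])
  (Ty : Ω[AdjoinRoot (X ^ p - C b : R[X])⁄R] →ₗ[R] Ω[R⁄ℤ])
  (hTx : ∀ i : ℕ, i + 2 ≤ p →
    Tx (AdjoinRoot.root (X ^ p - C a) ^ i • KaehlerDifferential.D R _ (AdjoinRoot.root (X ^ p - C a))) = 0)
  (hTx' : Tx (AdjoinRoot.root (X ^ p - C a) ^ (p - 1) • KaehlerDifferential.D R _ (AdjoinRoot.root (X ^ p - C a))) =
    KaehlerDifferential.D ℤ R a)
  (hTy : ∀ i : ℕ, i + 2 ≤ p →
    Ty (AdjoinRoot.root (X ^ p - C b) ^ i • KaehlerDifferential.D R _ (AdjoinRoot.root (X ^ p - C b))) = 0)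
  (hTy' : Ty (AdjoinRoot.root (X ^ p - C b) ^ (p - 1) • KaehlerDifferential.D R _ (AdjoinRoot.root (X ^ p - C b))) =
    KaehlerDifferential.D ℤ R b)
  (G : R[X]) (ha : a = eval b (G.map (frobenius R p)))

include hTx hTx' hTy hTy' ha in
lemma tau_eq (H : R[X]) :
    tau p R a Tx H = tau p R b Ty (H.comp G * derivative G) := by
  induction H using Polynomial.induction_on' with
  | add f g hf hg => rw [map_add, add_comp, add_mul, map_add, hf, hg]
  | monomial n r =>
    rw [← C_mul_X_pow_eq_monomial, mul_comp, C_comp, X_pow_comp, mul_assoc, ← smul_eq_C_mul,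
      ← smul_eq_C_mul, map_smul, map_smul]
    congr 1
    rw [tau_X_pow p R a Tx hTx hTx']
    have hp1 := hp.out.pos
    split_ifs with h
    · -- n % p = p - 1
      have hn : n = p * (n / p) + (p - 1) := by
        conv_lhs => rw [← Nat.div_add_mod n p, h]
      have hGp : G ^ p = expand R p (G.map (frobenius R p)) := by
        rw [← map_expand, map_frobenius_expand]
      have h1 : G ^ n * derivative G =
          (expand R p (G.map (frobenius R p))) ^ (n / p) * (G ^ (p - 1) * derivative G) := by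
        conv_lhs => rw [hn]
        rw [pow_add, pow_mul, hGp]
        ring
      obtain ⟨E, hE⟩ := key_identity p G
      have h2 : tau p R b Ty (G ^ (p - 1) * derivative G) = KaehlerDifferential.D ℤ R a := by
        rw [hE, map_add, tau_expand p R b Ty hTy hTy', tau_derivative p R b Ty hTy hTy', add_zero,
          ha, D_eval_map_frobenius]
      rw [h1, tau_apply, map_mul, map_pow, aeval_expand, ← ha, ← map_pow, mul_smul,
        algebraMap_smul, map_smul, ← tau_apply, h2]
    · -- n % p ≠ p - 1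
      have hnd : ¬ p ∣ (n + 1) := by
        intro hd
        apply h
        have h3 : (n + 1) % p = 0 := Nat.mod_eq_zero_of_dvd hd
        have h4 := Nat.div_add_mod n p
        have h5 := Nat.div_add_mod (n + 1) p
        have h6 : n % p < p := Nat.mod_lt _ hp1
        rw [h3, add_zero] at h5
        by_contra h7
        have h8 : n % p + 1 < p := by omega
        have : (n + 1) % p = n % p + 1 := by
          rw [Nat.add_mod, Nat.mod_eq_of_lt (a := n % p + 1 % p)]
          · rcases Nat.lt_or_ge 1 p with h9 | h9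
            · rw [Nat.mod_eq_of_lt h9]
            · omega
          · rcases Nat.lt_or_ge 1 p with h9 | h9
            · rw [Nat.mod_eq_of_lt h9]; exact h8
            · omega
        omega
      obtain ⟨m, hm⟩ := exists_natCast_mul_eq_one p R (n + 1) hnd
      have h1 : derivative (G ^ (n + 1)) = C ((n + 1 : ℕ) : R) * (G ^ n * derivative G) := by
        rw [derivative_pow]
        simp only [Nat.add_sub_cancel]
        ring
      have h2 : tau p R b Ty (C ((n + 1 : ℕ) : R) * (G ^ n * derivative G)) = 0 := by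
        rw [← h1, tau_derivative p R b Ty hTy hTy']
      rw [← smul_eq_C_mul, map_smul] at h2
      have h3 : tau p R b Ty (G ^ n * derivative G) =
          (m : R) • (((n + 1 : ℕ) : R) • tau p R b Ty (G ^ n * derivative G)) := by
        rw [smul_smul, hm, one_smul]
      rw [h3, h2, smul_zero]

end main

theorem main (p : ℕ) [Fact p.Prime] (R : Type u) [CommRing R] [CharP R p] (a b : R)
    (φ : AdjoinRoot (X ^ p - C a : R[X]) →ₐ[R] AdjoinRoot (X ^ p - C b : R[X]))
    (Tx : Ω[AdjoinRoot (X ^ p - C a : R[X])⁄R] →ₗ[R] Ω[R⁄ℤ])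
    (Ty : Ω[AdjoinRoot (X ^ p - C b : R[X])⁄R] →ₗ[R] Ω[R⁄ℤ])
    (hTx : ∀ i : ℕ, i + 2 ≤ p →
      Tx (AdjoinRoot.root (X ^ p - C a) ^ i • KaehlerDifferential.D R _ (AdjoinRoot.root (X ^ p - C a))) = 0)
    (hTx' : Tx (AdjoinRoot.root (X ^ p - C a) ^ (p - 1) • KaehlerDifferential.D R _ (AdjoinRoot.root (X ^ p - C a))) =
      KaehlerDifferential.D ℤ R a)
    (hTy : ∀ i : ℕ, i + 2 ≤ p →
      Ty (AdjoinRoot.root (X ^ p - C b) ^ i • KaehlerDifferential.D R _ (AdjoinRoot.root (X ^ p - C b))) = 0)
    (hTy' : Ty (AdjoinRoot.root (X ^ p - C b) ^ (p - 1) • KaehlerDifferential.D R _ (AdjoinRoot.root (X ^ p - C b))) =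
      KaehlerDifferential.D ℤ R b)
    (s t : AdjoinRoot (X ^ p - C a : R[X])) :
    Tx (s • KaehlerDifferential.D R _ t) = Ty (φ s • KaehlerDifferential.D R _ (φ t)) := by
  set x := AdjoinRoot.root (X ^ p - C a : R[X]) with hx
  set y := AdjoinRoot.root (X ^ p - C b : R[X]) with hy
  obtain ⟨S', rfl⟩ := AdjoinRoot.mk_surjective s
  obtain ⟨T', rfl⟩ := AdjoinRoot.mk_surjective t
  obtain ⟨G, hG⟩ := AdjoinRoot.mk_surjective (φ x)
  rw [← AdjoinRoot.aeval_eq] at hG
  rw [← AdjoinRoot.aeval_eq, ← AdjoinRoot.aeval_eq]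
  -- compute `a`
  have ha : a = eval b (G.map (frobenius R p)) := by
    apply of_injective p R b
    have h1 : (φ x) ^ p = algebraMap R _ a := by
      rw [← map_pow, hx, root_pow, AlgHom.commutes]
    have hGp : G ^ p = expand R p (G.map (frobenius R p)) := by
      rw [← map_expand, map_frobenius_expand]
    rw [← h1, ← hG, ← map_pow, hGp, aeval_expand]
  have hL : Tx (aeval x S' • KaehlerDifferential.D R _ (aeval x T')) =
      tau p R a Tx (S' * derivative T') := by
    rw [tau_apply, Derivation.comp_aeval_eq, smul_smul, map_mul]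
  have hφ : ∀ Q : R[X], φ (aeval x Q) = aeval y (Q.comp G) := by
    intro Q
    rw [← aeval_algHom_apply, ← hG, aeval_comp]
  have hR : Ty (φ (aeval x S') • KaehlerDifferential.D R _ (φ (aeval x T'))) =
      tau p R b Ty ((S' * derivative T').comp G * derivative G) := by
    rw [tau_apply, hφ, hφ, Derivation.comp_aeval_eq, smul_smul, derivative_comp, mul_comp]
    simp only [map_mul]
    congr 2
    ring
  rw [hL, hR]
  exact tau_eq p R a b Tx Ty hTx hTx' hTy hTy' G ha _
end

/-- Let p be a prime number and R an F_p-algebra, a, b ∈ R, S_a = R[x]/(x^p - a) and S_b = R[y]/(y^p -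
b). The trace Tr_x : Ω_{S_a/R} → Ω_R is the R-linear map with x^i dx ↦ 0 for 0 ≤ i ≤ p - 2 and
x^{p-1} dx ↦ da (these determine it, Ω_{S_a/R} being free over R on the x^i dx), and similarly Tr_y.
Then for every R-algebra homomorphism φ : S_a → S_b one has Tr_x = Tr_y ∘ φ_*: for all s, t ∈ S_a,
Tr_x(s dt) = Tr_y(φ(s) dφ(t)). Here Ω_R is the module of absolute differentials Ω_{R/Z}. -/
theorem result (p : ℕ) [Fact p.Prime] (R : Type u) [CommRing R] [CharP R p] (a b : R)
    (φ : AdjoinRoot (X ^ p - C a : R[X]) →ₐ[R] AdjoinRoot (X ^ p - C b : R[X]))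
    (Tx : Ω[AdjoinRoot (X ^ p - C a : R[X])⁄R] →ₗ[R] Ω[R⁄ℤ])
    (Ty : Ω[AdjoinRoot (X ^ p - C b : R[X])⁄R] →ₗ[R] Ω[R⁄ℤ])
    (hTx : ∀ i : ℕ, i + 2 ≤ p →
      Tx (AdjoinRoot.root (X ^ p - C a) ^ i • KaehlerDifferential.D R _ (AdjoinRoot.root (X ^ p - C a))) = 0)
    (hTx' : Tx (AdjoinRoot.root (X ^ p - C a) ^ (p - 1) • KaehlerDifferential.D R _ (AdjoinRoot.root (X ^ p - C a))) =
      KaehlerDifferential.D ℤ R a)
    (hTy : ∀ i : ℕ, i + 2 ≤ p →
      Ty (AdjoinRoot.root (X ^ p - C b) ^ i • KaehlerDifferential.D R _ (AdjoinRoot.root (X ^ p - C b))) = 0)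
    (hTy' : Ty (AdjoinRoot.root (X ^ p - C b) ^ (p - 1) • KaehlerDifferential.D R _ (AdjoinRoot.root (X ^ p - C b))) =
      KaehlerDifferential.D ℤ R b)
    (s t : AdjoinRoot (X ^ p - C a : R[X])) :
    Tx (s • KaehlerDifferential.D R _ t) = Ty (φ s • KaehlerDifferential.D R _ (φ t)) := by
  exact Groth.Agent.S7340.main p R a b φ Tx Ty hTx hTx' hTy hTy' s t

end Groth.Agent.S7340
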