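import Groth.Statements.S7341
import Groth.Agent.Lib.Helper11.NumQuad

set_option autoImplicit false
open Finset
open Models Models.NumericalType

namespace Groth.Agent.S7341

open Groth.Agent.Helper11

theorem core {n : ℕ} (T : Models.NumericalType n) (hn : 3 < n) (v : Fin 3 ↪ Fin n)
    (hv : ∀ j, T.IsMinusTwo (v j)) (h01 : T.a (v 0) (v 1) ≠ 0) (h12 : T.a (v 1) (v 2) ≠ 0) :
    T.a (v 0) (v 2) = 0 ∧ ∃ (i' k' : Fin n) (w : ℤ), ((i' = v 0 ∧ k' = v 2) ∨ (i' = v 2 ∧ k' = v 0)) ∧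
      ((T.w i' = w ∧ T.w (v 1) = w ∧ T.w k' = w ∧ T.a i' (v 1) = w ∧ T.a (v 1) k' = w ∧
          T.m (v 1) ≤ 2 * T.m i' ∧ T.m i' + T.m k' ≤ 2 * T.m (v 1) ∧ T.m (v 1) ≤ 2 * T.m k') ∨
        (T.w i' = w ∧ T.w (v 1) = w ∧ T.w k' = 2 * w ∧ T.a i' (v 1) = w ∧ T.a (v 1) k' = 2 * w ∧
          T.m (v 1) ≤ 2 * T.m i' ∧ T.m i' + 2 * T.m k' ≤ 2 * T.m (v 1) ∧ T.m (v 1) ≤ 2 * T.m k') ∨
        (T.w i' = 2 * w ∧ T.w (v 1) = 2 * w ∧ T.w k' = w ∧ T.a i' (v 1) = 2 * w ∧ T.a (v 1) k' = 2 * w ∧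
          T.m (v 1) ≤ 2 * T.m i' ∧ T.m i' + T.m k' ≤ 2 * T.m (v 1) ∧ T.m (v 1) ≤ T.m k')) := by
  have z0_2 : T.a (v 0) (v 2) = 0 := by
    by_contra hne
    apply NT_rows_test T (by omega) v ![1, 1, 1] (by intro j; fin_cases j <;> simp)
      (by intro h; simpa using congrFun h 0)
    intro j hj
    fin_cases j
    · simp [Fin.sum_univ_succ]
      linarith [(hv 0).2, NT_ge1 T (v.injective.ne (by decide)) h01, NT_ge1 T (v.injective.ne (by decide)) hne]
    · simp [Fin.sum_univ_succ]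
      linarith [(hv 1).2, NT_ge2 T (v.injective.ne (by decide)) h01, NT_ge1 T (v.injective.ne (by decide)) h12]
    · simp [Fin.sum_univ_succ]
      linarith [(hv 2).2, NT_ge2 T (v.injective.ne (by decide)) hne, NT_ge2 T (v.injective.ne (by decide)) h12]
  have x4a : ¬ (2 * T.w (v 0) ≤ T.a (v 0) (v 1) ∧ 2 * T.w (v 1) ≤ T.a (v 0) (v 1)) := by
    rintro ⟨m1, m2⟩
    apply NT_rows_test T (by omega) v ![1, 1, 0] (by intro j; fin_cases j <;> simp)
      (by intro h; simpa using congrFun h 0)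
    intro j hj
    fin_cases j
    · simp [Fin.sum_univ_succ]
      linarith [(hv 0).2, NT_ge1 T (v.injective.ne (by decide)) h01, m1, m2, NT_symm T (v 0) (v 1), NT_symm T (v 1) (v 2), NT_symm T (v 0) (v 2)]
    · simp [Fin.sum_univ_succ]
      linarith [(hv 1).2, NT_ge2 T (v.injective.ne (by decide)) h01, m1, m2, NT_symm T (v 0) (v 1), NT_symm T (v 1) (v 2), NT_symm T (v 0) (v 2)]
    · simp at hj
  have x4b : ¬ (2 * T.w (v 1) ≤ T.a (v 1) (v 2) ∧ 2 * T.w (v 2) ≤ T.a (v 1) (v 2)) := by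
    rintro ⟨m1, m2⟩
    apply NT_rows_test T (by omega) v ![0, 1, 1] (by intro j; fin_cases j <;> simp)
      (by intro h; simpa using congrFun h 1)
    intro j hj
    fin_cases j
    · simp at hj
    · simp [Fin.sum_univ_succ]
      linarith [(hv 1).2, NT_ge1 T (v.injective.ne (by decide)) h12, m1, m2, NT_symm T (v 0) (v 1), NT_symm T (v 1) (v 2), NT_symm T (v 0) (v 2)]
    · simp [Fin.sum_univ_succ]
      linarith [(hv 2).2, NT_ge2 T (v.injective.ne (by decide)) h12, m1, m2, NT_symm T (v 0) (v 1), NT_symm T (v 1) (v 2), NT_symm T (v 0) (v 2)]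
  have x3a : ¬ (3 * T.w (v 0) ≤ T.a (v 0) (v 1)) := by
    intro m1
    apply NT_rows_test T (by omega) v ![3, 2, 1] (by intro j; fin_cases j <;> simp)
      (by intro h; simpa using congrFun h 0)
    intro j hj
    fin_cases j
    · simp [Fin.sum_univ_succ]
      linarith [(hv 0).2, NT_ge1 T (v.injective.ne (by decide)) h01, T.offDiag_nonneg (v 0) (v 2) (v.injective.ne (by decide)), m1, NT_symm T (v 0) (v 1), NT_symm T (v 1) (v 2), NT_symm T (v 0) (v 2)]
    · simp [Fin.sum_univ_succ]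
      linarith [(hv 1).2, NT_ge2 T (v.injective.ne (by decide)) h01, NT_ge1 T (v.injective.ne (by decide)) h12, m1, NT_symm T (v 0) (v 1), NT_symm T (v 1) (v 2), NT_symm T (v 0) (v 2)]
    · simp [Fin.sum_univ_succ]
      linarith [(hv 2).2, T.offDiag_nonneg (v 2) (v 0) (v.injective.ne (by decide)), NT_ge2 T (v.injective.ne (by decide)) h12, m1, NT_symm T (v 0) (v 1), NT_symm T (v 1) (v 2), NT_symm T (v 0) (v 2)]
  have x3b : ¬ (3 * T.w (v 1) ≤ T.a (v 0) (v 1)) := by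
    intro m1
    apply NT_rows_test T (by omega) v ![1, 2, 1] (by intro j; fin_cases j <;> simp)
      (by intro h; simpa using congrFun h 0)
    intro j hj
    fin_cases j
    · simp [Fin.sum_univ_succ]
      linarith [(hv 0).2, NT_ge1 T (v.injective.ne (by decide)) h01, T.offDiag_nonneg (v 0) (v 2) (v.injective.ne (by decide)), m1, NT_symm T (v 0) (v 1), NT_symm T (v 1) (v 2), NT_symm T (v 0) (v 2)]
    · simp [Fin.sum_univ_succ]
      linarith [(hv 1).2, NT_ge2 T (v.injective.ne (by decide)) h01, NT_ge1 T (v.injective.ne (by decide)) h12, m1, NT_symm T (v 0) (v 1), NT_symm T (v 1) (v 2), NT_symm T (v 0) (v 2)]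
    · simp [Fin.sum_univ_succ]
      linarith [(hv 2).2, T.offDiag_nonneg (v 2) (v 0) (v.injective.ne (by decide)), NT_ge2 T (v.injective.ne (by decide)) h12, m1, NT_symm T (v 0) (v 1), NT_symm T (v 1) (v 2), NT_symm T (v 0) (v 2)]
  have x3c : ¬ (3 * T.w (v 1) ≤ T.a (v 1) (v 2)) := by
    intro m1
    apply NT_rows_test T (by omega) v ![1, 2, 1] (by intro j; fin_cases j <;> simp)
      (by intro h; simpa using congrFun h 0)
    intro j hj
    fin_cases j
    · simp [Fin.sum_univ_succ]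
      linarith [(hv 0).2, NT_ge1 T (v.injective.ne (by decide)) h01, T.offDiag_nonneg (v 0) (v 2) (v.injective.ne (by decide)), m1, NT_symm T (v 0) (v 1), NT_symm T (v 1) (v 2), NT_symm T (v 0) (v 2)]
    · simp [Fin.sum_univ_succ]
      linarith [(hv 1).2, NT_ge2 T (v.injective.ne (by decide)) h01, NT_ge1 T (v.injective.ne (by decide)) h12, m1, NT_symm T (v 0) (v 1), NT_symm T (v 1) (v 2), NT_symm T (v 0) (v 2)]
    · simp [Fin.sum_univ_succ]
      linarith [(hv 2).2, T.offDiag_nonneg (v 2) (v 0) (v.injective.ne (by decide)), NT_ge2 T (v.injective.ne (by decide)) h12, m1, NT_symm T (v 0) (v 1), NT_symm T (v 1) (v 2), NT_symm T (v 0) (v 2)]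
  have x3d : ¬ (3 * T.w (v 2) ≤ T.a (v 1) (v 2)) := by
    intro m1
    apply NT_rows_test T (by omega) v ![1, 2, 3] (by intro j; fin_cases j <;> simp)
      (by intro h; simpa using congrFun h 0)
    intro j hj
    fin_cases j
    · simp [Fin.sum_univ_succ]
      linarith [(hv 0).2, NT_ge1 T (v.injective.ne (by decide)) h01, T.offDiag_nonneg (v 0) (v 2) (v.injective.ne (by decide)), m1, NT_symm T (v 0) (v 1), NT_symm T (v 1) (v 2), NT_symm T (v 0) (v 2)]
    · simp [Fin.sum_univ_succ]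
      linarith [(hv 1).2, NT_ge2 T (v.injective.ne (by decide)) h01, NT_ge1 T (v.injective.ne (by decide)) h12, m1, NT_symm T (v 0) (v 1), NT_symm T (v 1) (v 2), NT_symm T (v 0) (v 2)]
    · simp [Fin.sum_univ_succ]
      linarith [(hv 2).2, T.offDiag_nonneg (v 2) (v 0) (v.injective.ne (by decide)), NT_ge2 T (v.injective.ne (by decide)) h12, m1, NT_symm T (v 0) (v 1), NT_symm T (v 1) (v 2), NT_symm T (v 0) (v 2)]
  have x2_01 : ¬ (2 * T.w (v 0) ≤ T.a (v 0) (v 1) ∧ 2 * T.w (v 1) ≤ T.a (v 1) (v 2)) := by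
    rintro ⟨m1, m2⟩
    apply NT_rows_test T (by omega) v ![2, 2, 1] (by intro j; fin_cases j <;> simp)
      (by intro h; simpa using congrFun h 0)
    intro j hj
    fin_cases j
    · simp [Fin.sum_univ_succ]
      linarith [(hv 0).2, NT_ge1 T (v.injective.ne (by decide)) h01, T.offDiag_nonneg (v 0) (v 2) (v.injective.ne (by decide)), m1, m2, NT_symm T (v 0) (v 1), NT_symm T (v 1) (v 2), NT_symm T (v 0) (v 2)]
    · simp [Fin.sum_univ_succ]
      linarith [(hv 1).2, NT_ge2 T (v.injective.ne (by decide)) h01, NT_ge1 T (v.injective.ne (by decide)) h12, m1, m2, NT_symm T (v 0) (v 1), NT_symm T (v 1) (v 2), NT_symm T (v 0) (v 2)]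
    · simp [Fin.sum_univ_succ]
      linarith [(hv 2).2, T.offDiag_nonneg (v 2) (v 0) (v.injective.ne (by decide)), NT_ge2 T (v.injective.ne (by decide)) h12, m1, m2, NT_symm T (v 0) (v 1), NT_symm T (v 1) (v 2), NT_symm T (v 0) (v 2)]
  have x2_02 : ¬ (2 * T.w (v 0) ≤ T.a (v 0) (v 1) ∧ 2 * T.w (v 2) ≤ T.a (v 1) (v 2)) := by
    rintro ⟨m1, m2⟩
    apply NT_rows_test T (by omega) v ![2, 2, 2] (by intro j; fin_cases j <;> simp)
      (by intro h; simpa using congrFun h 0)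
    intro j hj
    fin_cases j
    · simp [Fin.sum_univ_succ]
      linarith [(hv 0).2, NT_ge1 T (v.injective.ne (by decide)) h01, T.offDiag_nonneg (v 0) (v 2) (v.injective.ne (by decide)), m1, m2, NT_symm T (v 0) (v 1), NT_symm T (v 1) (v 2), NT_symm T (v 0) (v 2)]
    · simp [Fin.sum_univ_succ]
      linarith [(hv 1).2, NT_ge2 T (v.injective.ne (by decide)) h01, NT_ge1 T (v.injective.ne (by decide)) h12, m1, m2, NT_symm T (v 0) (v 1), NT_symm T (v 1) (v 2), NT_symm T (v 0) (v 2)]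
    · simp [Fin.sum_univ_succ]
      linarith [(hv 2).2, T.offDiag_nonneg (v 2) (v 0) (v.injective.ne (by decide)), NT_ge2 T (v.injective.ne (by decide)) h12, m1, m2, NT_symm T (v 0) (v 1), NT_symm T (v 1) (v 2), NT_symm T (v 0) (v 2)]
  have x2_11 : ¬ (2 * T.w (v 1) ≤ T.a (v 0) (v 1) ∧ 2 * T.w (v 1) ≤ T.a (v 1) (v 2)) := by
    rintro ⟨m1, m2⟩
    apply NT_rows_test T (by omega) v ![1, 2, 1] (by intro j; fin_cases j <;> simp)
      (by intro h; simpa using congrFun h 0)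
    intro j hj
    fin_cases j
    · simp [Fin.sum_univ_succ]
      linarith [(hv 0).2, NT_ge1 T (v.injective.ne (by decide)) h01, T.offDiag_nonneg (v 0) (v 2) (v.injective.ne (by decide)), m1, m2, NT_symm T (v 0) (v 1), NT_symm T (v 1) (v 2), NT_symm T (v 0) (v 2)]
    · simp [Fin.sum_univ_succ]
      linarith [(hv 1).2, NT_ge2 T (v.injective.ne (by decide)) h01, NT_ge1 T (v.injective.ne (by decide)) h12, m1, m2, NT_symm T (v 0) (v 1), NT_symm T (v 1) (v 2), NT_symm T (v 0) (v 2)]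
    · simp [Fin.sum_univ_succ]
      linarith [(hv 2).2, T.offDiag_nonneg (v 2) (v 0) (v.injective.ne (by decide)), NT_ge2 T (v.injective.ne (by decide)) h12, m1, m2, NT_symm T (v 0) (v 1), NT_symm T (v 1) (v 2), NT_symm T (v 0) (v 2)]
  have x2_12 : ¬ (2 * T.w (v 1) ≤ T.a (v 0) (v 1) ∧ 2 * T.w (v 2) ≤ T.a (v 1) (v 2)) := by
    rintro ⟨m1, m2⟩
    apply NT_rows_test T (by omega) v ![1, 2, 2] (by intro j; fin_cases j <;> simp)
      (by intro h; simpa using congrFun h 0)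
    intro j hj
    fin_cases j
    · simp [Fin.sum_univ_succ]
      linarith [(hv 0).2, NT_ge1 T (v.injective.ne (by decide)) h01, T.offDiag_nonneg (v 0) (v 2) (v.injective.ne (by decide)), m1, m2, NT_symm T (v 0) (v 1), NT_symm T (v 1) (v 2), NT_symm T (v 0) (v 2)]
    · simp [Fin.sum_univ_succ]
      linarith [(hv 1).2, NT_ge2 T (v.injective.ne (by decide)) h01, NT_ge1 T (v.injective.ne (by decide)) h12, m1, m2, NT_symm T (v 0) (v 1), NT_symm T (v 1) (v 2), NT_symm T (v 0) (v 2)]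
    · simp [Fin.sum_univ_succ]
      linarith [(hv 2).2, T.offDiag_nonneg (v 2) (v 0) (v.injective.ne (by decide)), NT_ge2 T (v.injective.ne (by decide)) h12, m1, m2, NT_symm T (v 0) (v 1), NT_symm T (v 1) (v 2), NT_symm T (v 0) (v 2)]
  have s01 : (T.a (v 0) (v 1) = T.w (v 0) ∧ T.a (v 0) (v 1) = T.w (v 1)) ∨ (T.a (v 0) (v 1) = 2 * T.w (v 0) ∧ T.a (v 0) (v 1) = T.w (v 1)) ∨
      (T.a (v 0) (v 1) = T.w (v 0) ∧ T.a (v 0) (v 1) = 2 * T.w (v 1)) := by
    by_cases p : T.a (v 0) (v 1) = T.w (v 0)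
    · by_cases q : T.a (v 0) (v 1) = T.w (v 1)
      · exact Or.inl ⟨p, q⟩
      · right; right
        refine ⟨p, ?_⟩
        by_contra q2
        exact x3b (NT_edge_three' T (v.injective.ne (by decide)) h01 q q2)
    · by_cases q : T.a (v 0) (v 1) = T.w (v 1)
      · right; left
        refine ⟨?_, q⟩
        by_contra p2
        exact x3a (NT_edge_three T (v.injective.ne (by decide)) h01 p p2)
      · exact absurd ⟨NT_edge_two T (v.injective.ne (by decide)) h01 p, NT_edge_two' T (v.injective.ne (by decide)) h01 q⟩ x4a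
  have s12 : (T.a (v 1) (v 2) = T.w (v 1) ∧ T.a (v 1) (v 2) = T.w (v 2)) ∨ (T.a (v 1) (v 2) = 2 * T.w (v 1) ∧ T.a (v 1) (v 2) = T.w (v 2)) ∨
      (T.a (v 1) (v 2) = T.w (v 1) ∧ T.a (v 1) (v 2) = 2 * T.w (v 2)) := by
    by_cases p : T.a (v 1) (v 2) = T.w (v 1)
    · by_cases q : T.a (v 1) (v 2) = T.w (v 2)
      · exact Or.inl ⟨p, q⟩
      · right; right
        refine ⟨p, ?_⟩
        by_contra q2
        exact x3d (NT_edge_three' T (v.injective.ne (by decide)) h12 q q2)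
    · by_cases q : T.a (v 1) (v 2) = T.w (v 2)
      · right; left
        refine ⟨?_, q⟩
        by_contra p2
        exact x3c (NT_edge_three T (v.injective.ne (by decide)) h12 p p2)
      · exact absurd ⟨NT_edge_two T (v.injective.ne (by decide)) h12 p, NT_edge_two' T (v.injective.ne (by decide)) h12 q⟩ x4b
  have hw0p := T.w_pos (v 0)
  have hw1p := T.w_pos (v 1)
  have hw2p := T.w_pos (v 2)
  refine ⟨z0_2, ?_⟩
  have r0 := NT_row_le T v 0
  have r1 := NT_row_le T v 1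
  have r2 := NT_row_le T v 2
  rw [Fin.sum_univ_three] at r0 r1 r2
  have y0 := (hv 0).2
  have y1 := (hv 1).2
  have y2 := (hv 2).2
  have s10 := NT_symm T (v 0) (v 1)
  have s21 := NT_symm T (v 1) (v 2)
  have s20 := NT_symm T (v 0) (v 2)
  rcases s01 with ⟨p1, q1⟩ | ⟨p1, q1⟩ | ⟨p1, q1⟩ <;> rcases s12 with ⟨p2, q2⟩ | ⟨p2, q2⟩ | ⟨p2, q2⟩
  · have hw0 : T.w (v 0) = T.w (v 1) := by linarith
    have hw1 : T.w (v 1) = T.w (v 1) := by linarith
    have hw2 : T.w (v 2) = T.w (v 1) := by linarith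
    have E00 : T.a (v 0) (v 0) = -2 * T.w (v 1) := by linarith
    have E11 : T.a (v 1) (v 1) = -2 * T.w (v 1) := by linarith
    have E22 : T.a (v 2) (v 2) = -2 * T.w (v 1) := by linarith
    have E01 : T.a (v 0) (v 1) = T.w (v 1) := by linarith
    have E10 : T.a (v 1) (v 0) = T.w (v 1) := by linarith
    have E12 : T.a (v 1) (v 2) = T.w (v 1) := by linarith
    have E21 : T.a (v 2) (v 1) = T.w (v 1) := by linarith
    have E02 : T.a (v 0) (v 2) = 0 := by linarith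
    have E20 : T.a (v 2) (v 0) = 0 := by linarith
    rw [E00, E01, E02] at r0
    rw [E10, E11, E12] at r1
    rw [E20, E21, E22] at r2
    have q0 : T.m (v 1) ≤ 2 * T.m (v 0) := by
      have h' : T.w (v 1) * (T.m (v 1)) ≤ T.w (v 1) * (2 * T.m (v 0)) := by linarith [r0]
      exact le_of_mul_le_mul_left h' (T.w_pos _)
    have q1 : T.m (v 0) + T.m (v 2) ≤ 2 * T.m (v 1) := by
      have h' : T.w (v 1) * (T.m (v 0) + T.m (v 2)) ≤ T.w (v 1) * (2 * T.m (v 1)) := by linarith [r1]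
      exact le_of_mul_le_mul_left h' (T.w_pos _)
    have q2 : T.m (v 1) ≤ 2 * T.m (v 2) := by
      have h' : T.w (v 1) * (T.m (v 1)) ≤ T.w (v 1) * (2 * T.m (v 2)) := by linarith [r2]
      exact le_of_mul_le_mul_left h' (T.w_pos _)
    exact ⟨v 0, v 2, T.w (v 1), Or.inl ⟨rfl, rfl⟩, Or.inl ⟨by linarith, by linarith, by linarith, by linarith [E01], by linarith [E12], q0, q1, q2⟩⟩
  · have hw0 : T.w (v 0) = T.w (v 1) := by linarith
    have hw1 : T.w (v 1) = T.w (v 1) := by linarith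
    have hw2 : T.w (v 2) = 2 * T.w (v 1) := by linarith
    have E00 : T.a (v 0) (v 0) = -2 * T.w (v 1) := by linarith
    have E11 : T.a (v 1) (v 1) = -2 * T.w (v 1) := by linarith
    have E22 : T.a (v 2) (v 2) = -4 * T.w (v 1) := by linarith
    have E01 : T.a (v 0) (v 1) = T.w (v 1) := by linarith
    have E10 : T.a (v 1) (v 0) = T.w (v 1) := by linarith
    have E12 : T.a (v 1) (v 2) = 2 * T.w (v 1) := by linarith
    have E21 : T.a (v 2) (v 1) = 2 * T.w (v 1) := by linarith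
    have E02 : T.a (v 0) (v 2) = 0 := by linarith
    have E20 : T.a (v 2) (v 0) = 0 := by linarith
    rw [E00, E01, E02] at r0
    rw [E10, E11, E12] at r1
    rw [E20, E21, E22] at r2
    have q0 : T.m (v 1) ≤ 2 * T.m (v 0) := by
      have h' : T.w (v 1) * (T.m (v 1)) ≤ T.w (v 1) * (2 * T.m (v 0)) := by linarith [r0]
      exact le_of_mul_le_mul_left h' (T.w_pos _)
    have q1 : T.m (v 0) + 2 * T.m (v 2) ≤ 2 * T.m (v 1) := by
      have h' : T.w (v 1) * (T.m (v 0) + 2 * T.m (v 2)) ≤ T.w (v 1) * (2 * T.m (v 1)) := by linarith [r1]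
      exact le_of_mul_le_mul_left h' (T.w_pos _)
    have q2 : T.m (v 1) ≤ 2 * T.m (v 2) := by
      have h' : T.w (v 1) * (T.m (v 1)) ≤ T.w (v 1) * (2 * T.m (v 2)) := by linarith [r2]
      exact le_of_mul_le_mul_left h' (T.w_pos _)
    exact ⟨v 0, v 2, T.w (v 1), Or.inl ⟨rfl, rfl⟩, Or.inr (Or.inl ⟨by linarith, by linarith, by linarith, by linarith [E01], by linarith [E12], q0, q1, q2⟩)⟩
  · have hw0 : T.w (v 0) = 2 * T.w (v 2) := by linarith
    have hw1 : T.w (v 1) = 2 * T.w (v 2) := by linarith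
    have hw2 : T.w (v 2) = T.w (v 2) := by linarith
    have E00 : T.a (v 0) (v 0) = -4 * T.w (v 2) := by linarith
    have E11 : T.a (v 1) (v 1) = -4 * T.w (v 2) := by linarith
    have E22 : T.a (v 2) (v 2) = -2 * T.w (v 2) := by linarith
    have E01 : T.a (v 0) (v 1) = 2 * T.w (v 2) := by linarith
    have E10 : T.a (v 1) (v 0) = 2 * T.w (v 2) := by linarith
    have E12 : T.a (v 1) (v 2) = 2 * T.w (v 2) := by linarith
    have E21 : T.a (v 2) (v 1) = 2 * T.w (v 2) := by linarith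
    have E02 : T.a (v 0) (v 2) = 0 := by linarith
    have E20 : T.a (v 2) (v 0) = 0 := by linarith
    rw [E00, E01, E02] at r0
    rw [E10, E11, E12] at r1
    rw [E20, E21, E22] at r2
    have q0 : T.m (v 1) ≤ 2 * T.m (v 0) := by
      have h' : T.w (v 2) * (T.m (v 1)) ≤ T.w (v 2) * (2 * T.m (v 0)) := by linarith [r0]
      exact le_of_mul_le_mul_left h' (T.w_pos _)
    have q1 : T.m (v 0) + T.m (v 2) ≤ 2 * T.m (v 1) := by
      have h' : T.w (v 2) * (T.m (v 0) + T.m (v 2)) ≤ T.w (v 2) * (2 * T.m (v 1)) := by linarith [r1]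
      exact le_of_mul_le_mul_left h' (T.w_pos _)
    have q2 : T.m (v 1) ≤ T.m (v 2) := by
      have h' : T.w (v 2) * (T.m (v 1)) ≤ T.w (v 2) * (T.m (v 2)) := by linarith [r2]
      exact le_of_mul_le_mul_left h' (T.w_pos _)
    exact ⟨v 0, v 2, T.w (v 2), Or.inl ⟨rfl, rfl⟩, Or.inr (Or.inr ⟨by linarith, by linarith, by linarith, by linarith [E01], by linarith [E12], q0, q1, q2⟩)⟩
  · have hw0 : T.w (v 0) = T.w (v 0) := by linarith
    have hw1 : T.w (v 1) = 2 * T.w (v 0) := by linarith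
    have hw2 : T.w (v 2) = 2 * T.w (v 0) := by linarith
    have E00 : T.a (v 0) (v 0) = -2 * T.w (v 0) := by linarith
    have E11 : T.a (v 1) (v 1) = -4 * T.w (v 0) := by linarith
    have E22 : T.a (v 2) (v 2) = -4 * T.w (v 0) := by linarith
    have E01 : T.a (v 0) (v 1) = 2 * T.w (v 0) := by linarith
    have E10 : T.a (v 1) (v 0) = 2 * T.w (v 0) := by linarith
    have E12 : T.a (v 1) (v 2) = 2 * T.w (v 0) := by linarith
    have E21 : T.a (v 2) (v 1) = 2 * T.w (v 0) := by linarith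
    have E02 : T.a (v 0) (v 2) = 0 := by linarith
    have E20 : T.a (v 2) (v 0) = 0 := by linarith
    rw [E00, E01, E02] at r0
    rw [E10, E11, E12] at r1
    rw [E20, E21, E22] at r2
    have q0 : T.m (v 1) ≤ 2 * T.m (v 2) := by
      have h' : T.w (v 0) * (T.m (v 1)) ≤ T.w (v 0) * (2 * T.m (v 2)) := by linarith [r2]
      exact le_of_mul_le_mul_left h' (T.w_pos _)
    have q1 : T.m (v 2) + T.m (v 0) ≤ 2 * T.m (v 1) := by
      have h' : T.w (v 0) * (T.m (v 2) + T.m (v 0)) ≤ T.w (v 0) * (2 * T.m (v 1)) := by linarith [r1]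
      exact le_of_mul_le_mul_left h' (T.w_pos _)
    have q2 : T.m (v 1) ≤ T.m (v 0) := by
      have h' : T.w (v 0) * (T.m (v 1)) ≤ T.w (v 0) * (T.m (v 0)) := by linarith [r0]
      exact le_of_mul_le_mul_left h' (T.w_pos _)
    exact ⟨v 2, v 0, T.w (v 0), Or.inr ⟨rfl, rfl⟩, Or.inr (Or.inr ⟨by linarith, by linarith, by linarith, by linarith [E21], by linarith [E10], q0, q1, q2⟩)⟩
  · exact absurd ⟨by linarith, by linarith⟩ x2_01
  · exact absurd ⟨by linarith, by linarith⟩ x2_02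
  · have hw0 : T.w (v 0) = 2 * T.w (v 1) := by linarith
    have hw1 : T.w (v 1) = T.w (v 1) := by linarith
    have hw2 : T.w (v 2) = T.w (v 1) := by linarith
    have E00 : T.a (v 0) (v 0) = -4 * T.w (v 1) := by linarith
    have E11 : T.a (v 1) (v 1) = -2 * T.w (v 1) := by linarith
    have E22 : T.a (v 2) (v 2) = -2 * T.w (v 1) := by linarith
    have E01 : T.a (v 0) (v 1) = 2 * T.w (v 1) := by linarith
    have E10 : T.a (v 1) (v 0) = 2 * T.w (v 1) := by linarith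
    have E12 : T.a (v 1) (v 2) = T.w (v 1) := by linarith
    have E21 : T.a (v 2) (v 1) = T.w (v 1) := by linarith
    have E02 : T.a (v 0) (v 2) = 0 := by linarith
    have E20 : T.a (v 2) (v 0) = 0 := by linarith
    rw [E00, E01, E02] at r0
    rw [E10, E11, E12] at r1
    rw [E20, E21, E22] at r2
    have q0 : T.m (v 1) ≤ 2 * T.m (v 2) := by
      have h' : T.w (v 1) * (T.m (v 1)) ≤ T.w (v 1) * (2 * T.m (v 2)) := by linarith [r2]
      exact le_of_mul_le_mul_left h' (T.w_pos _)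
    have q1 : T.m (v 2) + 2 * T.m (v 0) ≤ 2 * T.m (v 1) := by
      have h' : T.w (v 1) * (T.m (v 2) + 2 * T.m (v 0)) ≤ T.w (v 1) * (2 * T.m (v 1)) := by linarith [r1]
      exact le_of_mul_le_mul_left h' (T.w_pos _)
    have q2 : T.m (v 1) ≤ 2 * T.m (v 0) := by
      have h' : T.w (v 1) * (T.m (v 1)) ≤ T.w (v 1) * (2 * T.m (v 0)) := by linarith [r0]
      exact le_of_mul_le_mul_left h' (T.w_pos _)
    exact ⟨v 2, v 0, T.w (v 1), Or.inr ⟨rfl, rfl⟩, Or.inr (Or.inl ⟨by linarith, by linarith, by linarith, by linarith [E21], by linarith [E10], q0, q1, q2⟩)⟩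
  · exact absurd ⟨by linarith, by linarith⟩ x2_11
  · exact absurd ⟨by linarith, by linarith⟩ x2_12


/-- Classification of proper subgraphs which are chains of three vertices: let T be a numerical type on
n > 3 indices and i, j, k distinct (-2)-indices with a_ij > 0 and a_jk > 0. Then a_ik = 0 and, up to
reversing the order of i, j, k, one of the following holds for some integer w: (A3) w_i = w_j = w_k
= w, a_ij = a_jk = w, with 2 m_i ≥ m_j, 2 m_j ≥ m_i + m_k, 2 m_k ≥ m_j; (C3) w_i = w_j = w, w_k =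
2w, a_ij = w, a_jk = 2w, with 2 m_i ≥ m_j, 2 m_j ≥ m_i + 2 m_k, 2 m_k ≥ m_j; (B3) w_i = w_j = 2w,
w_k = w, a_ij = a_jk = 2w, with 2 m_i ≥ m_j, 2 m_j ≥ m_i + m_k, m_k ≥ m_j. -/
theorem result {n : ℕ} (T : Models.NumericalType n) (hn : 3 < n) (i j k : Fin n)
    (hij : i ≠ j) (hjk : j ≠ k) (hik : i ≠ k) (hi : T.IsMinusTwo i) (hj : T.IsMinusTwo j) (hk : T.IsMinusTwo k)
    (h1 : 0 < T.a i j) (h2 : 0 < T.a j k) :
    T.a i k = 0 ∧ ∃ (i' k' : Fin n) (w : ℤ), ((i' = i ∧ k' = k) ∨ (i' = k ∧ k' = i)) ∧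
      ((T.w i' = w ∧ T.w j = w ∧ T.w k' = w ∧ T.a i' j = w ∧ T.a j k' = w ∧
          T.m j ≤ 2 * T.m i' ∧ T.m i' + T.m k' ≤ 2 * T.m j ∧ T.m j ≤ 2 * T.m k') ∨
        (T.w i' = w ∧ T.w j = w ∧ T.w k' = 2 * w ∧ T.a i' j = w ∧ T.a j k' = 2 * w ∧
          T.m j ≤ 2 * T.m i' ∧ T.m i' + 2 * T.m k' ≤ 2 * T.m j ∧ T.m j ≤ 2 * T.m k') ∨
        (T.w i' = 2 * w ∧ T.w j = 2 * w ∧ T.w k' = w ∧ T.a i' j = 2 * w ∧ T.a j k' = 2 * w ∧
          T.m j ≤ 2 * T.m i' ∧ T.m i' + T.m k' ≤ 2 * T.m j ∧ T.m j ≤ T.m k')) := by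
  have hinj : Function.Injective ![i, j, k] := by
    intro a b hab
    fin_cases a <;> fin_cases b <;> simp_all
  let v : Fin 3 ↪ Fin n := ⟨![i, j, k], hinj⟩
  have hv : ∀ t, T.IsMinusTwo (v t) := by
    intro t
    fin_cases t
    exacts [hi, hj, hk]
  exact core T hn v hv h1.ne' h2.ne'

end Groth.Agent.S7341
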