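import Groth.Statements.S7342
import Groth.Agent.Lib.Helper11.NumRow

set_option autoImplicit false
open Finset
open Models Models.NumericalType

namespace Groth.Agent.S7342

open Groth.Agent.Helper11

/-- Let T be a numerical type on n indices, t ≥ 4 and n > t + 2. Then no t + 2 (-2)-indices of T,
pairwise distinct and numbered i_0, …, i_{t+1}, satisfy: a_{i_j i_{j+1}} > 0 for 1 ≤ j ≤ t - 1,
a_{i_0 i_2} > 0 and a_{i_{t-1} i_{t+1}} > 0. -/
theorem result {n : ℕ} (T : Models.NumericalType n) (t : ℕ) (ht : 4 ≤ t) (hn : t + 2 < n)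
    (v : Fin (t + 2) ↪ Fin n) (hv : ∀ j, T.IsMinusTwo (v j))
    (hchain : ∀ j j' : Fin (t + 2), 1 ≤ j.val → j.val + 1 ≤ t → j'.val = j.val + 1 → 0 < T.a (v j) (v j'))
    (h02 : ∀ j j' : Fin (t + 2), j.val = 0 → j'.val = 2 → 0 < T.a (v j) (v j'))
    (hlast : ∀ j j' : Fin (t + 2), j.val = t - 1 → j'.val = t + 1 → 0 < T.a (v j) (v j')) : False := by
  let cN : ℕ → ℤ := fun i => if i ≤ 1 ∨ t ≤ i then 1 else 2
  have cN_lo : ∀ i, i ≤ 1 → cN i = 1 := fun i h => if_pos (Or.inl h)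
  have cN_hi : ∀ i, t ≤ i → cN i = 1 := fun i h => if_pos (Or.inr h)
  have cN_mid : ∀ i, 2 ≤ i → i < t → cN i = 2 := fun i h1 h2 => if_neg (by omega)
  let c : Fin (t + 2) → ℤ := fun j => cN j.val
  have hc0 : ∀ j, 0 ≤ c j := by
    intro j
    show 0 ≤ cN j.val
    simp only [cN]
    split_ifs <;> norm_num
  have hcne : c ≠ 0 := by
    intro h
    have h1 := congrFun h ⟨0, by omega⟩
    have h2 : c ⟨0, by omega⟩ = 1 := cN_lo 0 (by omega)
    rw [h2] at h1
    exact one_ne_zero h1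
  apply NT_rows_test T hn v c hc0 hcne
  intro j _
  have hne : ∀ a b : Fin (t + 2), a.val ≠ b.val → a ≠ b := fun a b h hab => h (congrArg Fin.val hab)
  have adj1 : ∀ a b : Fin (t + 2), 1 ≤ a.val → a.val + 1 ≤ t → b.val = a.val + 1 →
      T.a (v a) (v b) ≠ 0 := fun a b h1 h2 h3 => (hchain a b h1 h2 h3).ne'
  have adj2 : ∀ a b : Fin (t + 2), 1 ≤ a.val → a.val + 1 ≤ t → b.val = a.val + 1 →
      T.a (v b) (v a) ≠ 0 := fun a b h1 h2 h3 => NT_ne_symm T (adj1 a b h1 h2 h3)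
  have hjlt := j.isLt
  by_cases h0 : j.val = 0
  · apply NT_row_nonneg1 T v hv c hc0 j ⟨2, by omega⟩ (hne _ _ (by show j.val ≠ 2; omega))
      (h02 j _ h0 rfl).ne'
    show 2 * cN j.val ≤ cN 2
    rw [h0, cN_lo 0 (by omega), cN_mid 2 (by omega) (by omega)]
    norm_num
  by_cases h1 : j.val = 1
  · apply NT_row_nonneg1 T v hv c hc0 j ⟨2, by omega⟩ (hne _ _ (by show j.val ≠ 2; omega))
      (adj1 j ⟨2, by omega⟩ (by omega) (by omega) (by show 2 = j.val + 1; omega))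
    show 2 * cN j.val ≤ cN 2
    rw [h1, cN_lo 1 (by omega), cN_mid 2 (by omega) (by omega)]
    norm_num
  by_cases h2 : j.val = 2
  · apply NT_row_nonneg3 T v hv c hc0 j ⟨0, by omega⟩ ⟨1, by omega⟩ ⟨3, by omega⟩
      (hne _ _ (by show j.val ≠ 0; omega)) (hne _ _ (by show j.val ≠ 1; omega))
      (hne _ _ (by show j.val ≠ 3; omega)) (hne _ _ (by show (0 : ℕ) ≠ 1; omega))
      (hne _ _ (by show (0 : ℕ) ≠ 3; omega)) (hne _ _ (by show (1 : ℕ) ≠ 3; omega))
      (NT_ne_symm T (h02 ⟨0, by omega⟩ j rfl h2).ne')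
      (adj2 ⟨1, by omega⟩ j (by show 1 ≤ 1; omega) (by show 1 + 1 ≤ t; omega) (by show j.val = 1 + 1; omega))
      (adj1 j ⟨3, by omega⟩ (by omega) (by omega) (by show 3 = j.val + 1; omega))
    show 2 * cN j.val ≤ cN 0 + cN 1 + cN 3
    rw [h2, cN_lo 0 (by omega), cN_lo 1 (by omega), cN_mid 2 (by omega) (by omega),
      cN_mid 3 (by omega) (by omega)]
    norm_num
  by_cases h3 : j.val + 1 < t
  · apply NT_row_nonneg2 T v hv c hc0 j ⟨j.val - 1, by omega⟩ ⟨j.val + 1, by omega⟩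
      (hne _ _ (by show j.val ≠ j.val - 1; omega)) (hne _ _ (by show j.val ≠ j.val + 1; omega))
      (hne _ _ (by show j.val - 1 ≠ j.val + 1; omega))
      (adj2 ⟨j.val - 1, by omega⟩ j (by show 1 ≤ j.val - 1; omega) (by show j.val - 1 + 1 ≤ t; omega)
        (by show j.val = j.val - 1 + 1; omega))
      (adj1 j ⟨j.val + 1, by omega⟩ (by omega) (by omega) rfl)
    show 2 * cN j.val ≤ cN (j.val - 1) + cN (j.val + 1)
    rw [cN_mid j.val (by omega) (by omega), cN_mid (j.val - 1) (by omega) (by omega),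
      cN_mid (j.val + 1) (by omega) (by omega)]
    norm_num
  by_cases h4 : j.val + 1 = t
  · apply NT_row_nonneg3 T v hv c hc0 j ⟨t - 2, by omega⟩ ⟨t, by omega⟩ ⟨t + 1, by omega⟩
      (hne _ _ (by show j.val ≠ t - 2; omega)) (hne _ _ (by show j.val ≠ t; omega))
      (hne _ _ (by show j.val ≠ t + 1; omega)) (hne _ _ (by show t - 2 ≠ t; omega))
      (hne _ _ (by show t - 2 ≠ t + 1; omega)) (hne _ _ (by show t ≠ t + 1; omega))
      (adj2 ⟨t - 2, by omega⟩ j (by show 1 ≤ t - 2; omega) (by show t - 2 + 1 ≤ t; omega)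
        (by show j.val = t - 2 + 1; omega))
      (adj1 j ⟨t, by omega⟩ (by omega) (by omega) (by show t = j.val + 1; omega))
      (hlast j ⟨t + 1, by omega⟩ (by omega) rfl).ne'
    show 2 * cN j.val ≤ cN (t - 2) + cN t + cN (t + 1)
    rw [cN_mid j.val (by omega) (by omega), cN_mid (t - 2) (by omega) (by omega),
      cN_hi t (by omega), cN_hi (t + 1) (by omega)]
    norm_num
  by_cases h5 : j.val = t
  · apply NT_row_nonneg1 T v hv c hc0 j ⟨t - 1, by omega⟩ (hne _ _ (by show j.val ≠ t - 1; omega))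
      (adj2 ⟨t - 1, by omega⟩ j (by show 1 ≤ t - 1; omega) (by show t - 1 + 1 ≤ t; omega)
        (by show j.val = t - 1 + 1; omega))
    show 2 * cN j.val ≤ cN (t - 1)
    rw [cN_hi j.val (by omega), cN_mid (t - 1) (by omega) (by omega)]
    norm_num
  · have h6 : j.val = t + 1 := by omega
    apply NT_row_nonneg1 T v hv c hc0 j ⟨t - 1, by omega⟩ (hne _ _ (by show j.val ≠ t - 1; omega))
      (NT_ne_symm T (hlast ⟨t - 1, by omega⟩ j rfl h6).ne')
    show 2 * cN j.val ≤ cN (t - 1)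
    rw [cN_hi j.val (by omega), cN_mid (t - 1) (by omega) (by omega)]
    norm_num

end Groth.Agent.S7342
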