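import Groth.Statements.S7344
import Groth.Agent.Lib.Helper11.NumQuad

set_option autoImplicit false
open Finset
open Models Models.NumericalType

namespace Groth.Agent.S7344

/-- Let T be a numerical type on n > 8 indices. Then no eight (-2)-indices of T, pairwise distinct and
named e, f, g, h, i, j, k, l, have a_ef, a_fg, a_gh, a_hi, a_ij, a_jk and a_lh all nonzero (a chain
of seven, e to k, with l joined to its fourth vertex h). -/
theorem result {n : ℕ} (T : Models.NumericalType n) (hn : 8 < n)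
    (v : Fin 8 ↪ Fin n) (hv : ∀ j, T.IsMinusTwo (v j))
    (h01 : T.a (v 0) (v 1) ≠ 0) (h12 : T.a (v 1) (v 2) ≠ 0) (h23 : T.a (v 2) (v 3) ≠ 0)
    (h34 : T.a (v 3) (v 4) ≠ 0) (h45 : T.a (v 4) (v 5) ≠ 0) (h56 : T.a (v 5) (v 6) ≠ 0)
    (h73 : T.a (v 7) (v 3) ≠ 0) : False := by
  open Groth.Agent.Helper11 in
  have hQ := NT_quad_neg_embed T (by omega) v ![1, 2, 3, 4, 3, 2, 1, 2]
    (by intro h; simpa using congrFun h 0)
  simp [Fin.sum_univ_succ] at hQ
  open Groth.Agent.Helper11 in
  linarith [(hv 0).2, (hv 1).2, (hv 2).2, (hv 3).2, (hv 4).2, (hv 5).2, (hv 6).2, (hv 7).2, NT_symm T (v 0) (v 1), NT_symm T (v 0) (v 2), T.offDiag_nonneg (v 0) (v 2) (v.injective.ne (by decide)), NT_symm T (v 0) (v 3), T.offDiag_nonneg (v 0) (v 3) (v.injective.ne (by decide)), NT_symm T (v 0) (v 4), T.offDiag_nonneg (v 0) (v 4) (v.injective.ne (by decide)), NT_symm T (v 0) (v 5), T.offDiag_nonneg (v 0) (v 5) (v.injective.ne (by decide)), NT_symm T (v 0) (v 6), T.offDiag_nonneg (v 0) (v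 6) (v.injective.ne (by decide)), NT_symm T (v 0) (v 7), T.offDiag_nonneg (v 0) (v 7) (v.injective.ne (by decide)), NT_symm T (v 1) (v 2), NT_symm T (v 1) (v 3), T.offDiag_nonneg (v 1) (v 3) (v.injective.ne (by decide)), NT_symm T (v 1) (v 4), T.offDiag_nonneg (v 1) (v 4) (v.injective.ne (by decide)), NT_symm T (v 1) (v 5), T.offDiag_nonneg (v 1) (v 5) (v.injective.ne (by decide)), NT_symm T (v 1) (v 6), T.offDiag_nonneg (v 1) (v 6) (v.injective.ne (by decide)), NT_symm T (v 1) (v 7), T.offDiag_nonneg (v 1) (v 7) (v.injective.ne (by decide)), NT_symm T (v 2) (v 3), NT_symm T (v 2) (v 4), T.offDiag_nonneg (v 2) (v 4) (v.injective.ne (by decide)), NT_symm T (v 2) (v 5), T.offDiag_nonneg (v 2) (v 5) (v.injective.ne (by decide)), NT_symm T (v 2) (v 6), T.offDiag_nonneg (v 2) (v 6) (v.injective.ne (by decide)), NT_symm T (v 2) (v 7), T.offDiag_nonneg (v 2) (v 7) (v.injective.ne (by decide)), NT_symm T (v 3) (v 4), NT_symm T (v 3) (v 5), T.offDiag_nonneg (v 3) (v 5) (v.injective.ne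 (by decide)), NT_symm T (v 3) (v 6), T.offDiag_nonneg (v 3) (v 6) (v.injective.ne (by decide)), NT_symm T (v 3) (v 7), NT_symm T (v 4) (v 5), NT_symm T (v 4) (v 6), T.offDiag_nonneg (v 4) (v 6) (v.injective.ne (by decide)), NT_symm T (v 4) (v 7), T.offDiag_nonneg (v 4) (v 7) (v.injective.ne (by decide)), NT_symm T (v 5) (v 6), NT_symm T (v 5) (v 7), T.offDiag_nonneg (v 5) (v 7) (v.injective.ne (by decide)), NT_symm T (v 6) (v 7), T.offDiag_nonneg (v 6) (v 7) (v.injective.ne (by decide)), (NT_edge_ge T (v.injective.ne (by decide)) h01).1, (NT_edge_ge T (v.injective.ne (by decide)) h01).2, (NT_edge_ge T (v.injective.ne (by decide)) h12).1, (NT_edge_ge T (v.injective.ne (by decide)) h12).2, (NT_edge_ge T (v.injective.ne (by decide)) h23).1, (NT_edge_ge T (v.injective.ne (by decide)) h23).2, (NT_edge_ge T (v.injective.ne (by decide)) h34).1, (NT_edge_ge T (v.injective.ne (by decide)) h34).2, (NT_edge_ge T (v.injective.ne (by decide)) h45).1, (NT_edge_ge T (v.injective.ne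 (by decide)) h45).2, (NT_edge_ge T (v.injective.ne (by decide)) h56).1, (NT_edge_ge T (v.injective.ne (by decide)) h56).2, (NT_edge_ge T (v.injective.ne (by decide)) h73).1, (NT_edge_ge T (v.injective.ne (by decide)) h73).2]

end Groth.Agent.S7344
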