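import Groth.Statements.S7345
import Groth.Agent.Lib.Helper11.NumQuad

set_option autoImplicit false
open Finset
open Models Models.NumericalType

namespace Groth.Agent.S7345

/-- Let T be a numerical type on n > 9 indices. Then no nine (-2)-indices of T, pairwise distinct and
named d, e, f, g, h, i, j, k, l, have a_de, a_ef, a_fg, a_gh, a_hi, a_ij, a_jk and a_li all nonzero
(a chain of eight, d to k, with l joined to its sixth vertex i). (The published list of nonzero
entries ends with a_lh, joining l to the fifth vertex h; that configuration already contains the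
completed E7 configuration on eight of the indices and is impossible for that reason alone. The
pictured graph and the argument for it join l to the sixth vertex i, and this row states that case.) -/
theorem result {n : ℕ} (T : Models.NumericalType n) (hn : 9 < n)
    (v : Fin 9 ↪ Fin n) (hv : ∀ j, T.IsMinusTwo (v j))
    (h01 : T.a (v 0) (v 1) ≠ 0) (h12 : T.a (v 1) (v 2) ≠ 0) (h23 : T.a (v 2) (v 3) ≠ 0)
    (h34 : T.a (v 3) (v 4) ≠ 0) (h45 : T.a (v 4) (v 5) ≠ 0) (h56 : T.a (v 5) (v 6) ≠ 0)
    (h67 : T.a (v 6) (v 7) ≠ 0) (h85 : T.a (v 8) (v 5) ≠ 0) : False := by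
  open Groth.Agent.Helper11 in
  have hQ := NT_quad_neg_embed T (by omega) v ![1, 2, 3, 4, 5, 6, 4, 2, 3]
    (by intro h; simpa using congrFun h 0)
  simp [Fin.sum_univ_succ] at hQ
  open Groth.Agent.Helper11 in
  linarith [(hv 0).2, (hv 1).2, (hv 2).2, (hv 3).2, (hv 4).2, (hv 5).2, (hv 6).2, (hv 7).2, (hv 8).2, NT_symm T (v 0) (v 1), NT_symm T (v 0) (v 2), T.offDiag_nonneg (v 0) (v 2) (v.injective.ne (by decide)), NT_symm T (v 0) (v 3), T.offDiag_nonneg (v 0) (v 3) (v.injective.ne (by decide)), NT_symm T (v 0) (v 4), T.offDiag_nonneg (v 0) (v 4) (v.injective.ne (by decide)), NT_symm T (v 0) (v 5), T.offDiag_nonneg (v 0) (v 5) (v.injective.ne (by decide)), NT_symm T (v 0) (v 6), T.offDiag_nonneg (v 0) (v 6) (v.injective.ne (by decide)), NT_symm T (v 0) (v 7), T.offDiag_nonneg (v 0) (v 7) (v.injective.ne (by decide)), NT_symm T (v 0) (v 8), T.offDiag_nonneg (v 0) (v 8) (v.injective.ne (by decide)), NT_symm T (v 1) (v 2), NT_symm T (v 1) (v 3), T.offDiag_nonneg (v 1) (v 3) (v.injective.ne (by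 decide)), NT_symm T (v 1) (v 4), T.offDiag_nonneg (v 1) (v 4) (v.injective.ne (by decide)), NT_symm T (v 1) (v 5), T.offDiag_nonneg (v 1) (v 5) (v.injective.ne (by decide)), NT_symm T (v 1) (v 6), T.offDiag_nonneg (v 1) (v 6) (v.injective.ne (by decide)), NT_symm T (v 1) (v 7), T.offDiag_nonneg (v 1) (v 7) (v.injective.ne (by decide)), NT_symm T (v 1) (v 8), T.offDiag_nonneg (v 1) (v 8) (v.injective.ne (by decide)), NT_symm T (v 2) (v 3), NT_symm T (v 2) (v 4), T.offDiag_nonneg (v 2) (v 4) (v.injective.ne (by decide)), NT_symm T (v 2) (v 5), T.offDiag_nonneg (v 2) (v 5) (v.injective.ne (by decide)), NT_symm T (v 2) (v 6), T.offDiag_nonneg (v 2) (v 6) (v.injective.ne (by decide)), NT_symm T (v 2) (v 7), T.offDiag_nonneg (v 2) (v 7) (v.injective.ne (by decide)), NT_symm T (v 2) (v 8), T.offDiag_nonneg (v 2) (v 8) (v.injective.ne (by decide)), NT_symm T (v 3) (v 4), NT_symm T (v 3) (v 5), T.offDiag_nonneg (v 3) (v 5) (v.injective.ne (by decide)), NT_symm T (v 3) (v 6), T.offDiag_nonneg (v 3) (v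 6) (v.injective.ne (by decide)), NT_symm T (v 3) (v 7), T.offDiag_nonneg (v 3) (v 7) (v.injective.ne (by decide)), NT_symm T (v 3) (v 8), T.offDiag_nonneg (v 3) (v 8) (v.injective.ne (by decide)), NT_symm T (v 4) (v 5), NT_symm T (v 4) (v 6), T.offDiag_nonneg (v 4) (v 6) (v.injective.ne (by decide)), NT_symm T (v 4) (v 7), T.offDiag_nonneg (v 4) (v 7) (v.injective.ne (by decide)), NT_symm T (v 4) (v 8), T.offDiag_nonneg (v 4) (v 8) (v.injective.ne (by decide)), NT_symm T (v 5) (v 6), NT_symm T (v 5) (v 7), T.offDiag_nonneg (v 5) (v 7) (v.injective.ne (by decide)), NT_symm T (v 5) (v 8), NT_symm T (v 6) (v 7), NT_symm T (v 6) (v 8), T.offDiag_nonneg (v 6) (v 8) (v.injective.ne (by decide)), NT_symm T (v 7) (v 8), T.offDiag_nonneg (v 7) (v 8) (v.injective.ne (by decide)), (NT_edge_ge T (v.injective.ne (by decide)) h01).1, (NT_edge_ge T (v.injective.ne (by decide)) h01).2, (NT_edge_ge T (v.injective.ne (by decide)) h12).1, (NT_edge_ge T (v.injective.ne (by decide)) h12).2, (NT_edge_ge T (v.injective.ne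 (by decide)) h23).1, (NT_edge_ge T (v.injective.ne (by decide)) h23).2, (NT_edge_ge T (v.injective.ne (by decide)) h34).1, (NT_edge_ge T (v.injective.ne (by decide)) h34).2, (NT_edge_ge T (v.injective.ne (by decide)) h45).1, (NT_edge_ge T (v.injective.ne (by decide)) h45).2, (NT_edge_ge T (v.injective.ne (by decide)) h56).1, (NT_edge_ge T (v.injective.ne (by decide)) h56).2, (NT_edge_ge T (v.injective.ne (by decide)) h67).1, (NT_edge_ge T (v.injective.ne (by decide)) h67).2, (NT_edge_ge T (v.injective.ne (by decide)) h85).1, (NT_edge_ge T (v.injective.ne (by decide)) h85).2]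

end Groth.Agent.S7345
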