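import Groth.Statements.S7346
import Groth.Agent.Lib.Helper11.NumD4a
import Groth.Agent.Lib.Helper11.NumD4b

set_option autoImplicit false
open Finset
open Models Models.NumericalType

namespace Groth.Agent.S7346

open Groth.Agent.Helper11

/-- Classification of proper subgraphs of type D4 (one vertex joined to three others): let T be a
numerical type on n > 4 indices and i_1, …, i_4 distinct (-2)-indices with a_{12}, a_{13}, a_{14}
nonzero. Then for some integer w all w_{i_j} equal w, these intersection numbers equal w, all other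
a_{i_j i_k} (j ≠ k) vanish, and 2 m_1 ≥ m_2 + m_3 + m_4, 2 m_2 ≥ m_1, 2 m_3 ≥ m_1, 2 m_4 ≥ m_1. -/
theorem result {n : ℕ} (T : Models.NumericalType n) (hn : 4 < n)
    (v : Fin 4 ↪ Fin n) (hv : ∀ j, T.IsMinusTwo (v j)) (h01 : T.a (v 0) (v 1) ≠ 0) (h02 : T.a (v 0) (v 2) ≠ 0) (h03 : T.a (v 0) (v 3) ≠ 0) :
    ∃ w : ℤ, (∀ j : Fin 4, T.w (v j) = w) ∧
      T.a (v 0) (v 1) = w ∧
      T.a (v 0) (v 2) = w ∧
      T.a (v 0) (v 3) = w ∧
      T.a (v 1) (v 2) = 0 ∧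
      T.a (v 1) (v 3) = 0 ∧
      T.a (v 2) (v 3) = 0 ∧
      T.m (v 1) + T.m (v 2) + T.m (v 3) ≤ 2 * T.m (v 0) ∧
      T.m (v 0) ≤ 2 * T.m (v 1) ∧
      T.m (v 0) ≤ 2 * T.m (v 2) ∧
      T.m (v 0) ≤ 2 * T.m (v 3) := by
  have z1_2 := NumD4_z1_2 T hn v hv h01 h02 h03
  have z1_3 := NumD4_z1_3 T hn v hv h01 h02 h03
  have z2_3 := NumD4_z2_3 T hn v hv h01 h02 h03
  have e0_1a := NumD4_e0_1a T hn v hv h01 h02 h03
  have e0_1b := NumD4_e0_1b T hn v hv h01 h02 h03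
  have e0_2a := NumD4_e0_2a T hn v hv h01 h02 h03
  have e0_2b := NumD4_e0_2b T hn v hv h01 h02 h03
  have e0_3a := NumD4_e0_3a T hn v hv h01 h02 h03
  have e0_3b := NumD4_e0_3b T hn v hv h01 h02 h03
  have hw1 : T.w (v 1) = T.w (v 0) := by linarith only [e0_1a, e0_1b, e0_2a, e0_2b, e0_3a, e0_3b]
  have hw2 : T.w (v 2) = T.w (v 0) := by linarith only [e0_1a, e0_1b, e0_2a, e0_2b, e0_3a, e0_3b]
  have hw3 : T.w (v 3) = T.w (v 0) := by linarith only [e0_1a, e0_1b, e0_2a, e0_2b, e0_3a, e0_3b]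
  have hW : ∀ j : Fin 4, T.w (v j) = T.w (v 0) := by
    intro j
    fin_cases j
    exacts [rfl, hw1, hw2, hw3]
  have f0_1 : T.a (v 0) (v 1) = T.w (v 0) := by linarith only [e0_1a, e0_1b, e0_2a, e0_2b, e0_3a, e0_3b]
  have f0_2 : T.a (v 0) (v 2) = T.w (v 0) := by linarith only [e0_1a, e0_1b, e0_2a, e0_2b, e0_3a, e0_3b]
  have f0_3 : T.a (v 0) (v 3) = T.w (v 0) := by linarith only [e0_1a, e0_1b, e0_2a, e0_2b, e0_3a, e0_3b]
  have E0_0 : T.a (v 0) (v 0) = -2 * T.w (v 0) := by linarith only [(hv 0).2, hw1, hw2, hw3]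
  have E0_1 : T.a (v 0) (v 1) = T.w (v 0) := by linarith only [f0_1, NT_symm T (v 0) (v 1)]
  have E0_2 : T.a (v 0) (v 2) = T.w (v 0) := by linarith only [f0_2, NT_symm T (v 0) (v 2)]
  have E0_3 : T.a (v 0) (v 3) = T.w (v 0) := by linarith only [f0_3, NT_symm T (v 0) (v 3)]
  have r0 := NT_row_le T v 0
  rw [Fin.sum_univ_four, E0_0, E0_1, E0_2, E0_3] at r0
  have E1_0 : T.a (v 1) (v 0) = T.w (v 0) := by linarith only [f0_1, NT_symm T (v 1) (v 0)]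
  have E1_1 : T.a (v 1) (v 1) = -2 * T.w (v 0) := by linarith only [(hv 1).2, hw1, hw2, hw3]
  have E1_2 : T.a (v 1) (v 2) = 0 := by linarith only [z1_2, NT_symm T (v 1) (v 2)]
  have E1_3 : T.a (v 1) (v 3) = 0 := by linarith only [z1_3, NT_symm T (v 1) (v 3)]
  have r1 := NT_row_le T v 1
  rw [Fin.sum_univ_four, E1_0, E1_1, E1_2, E1_3] at r1
  have E2_0 : T.a (v 2) (v 0) = T.w (v 0) := by linarith only [f0_2, NT_symm T (v 2) (v 0)]
  have E2_1 : T.a (v 2) (v 1) = 0 := by linarith only [z1_2, NT_symm T (v 2) (v 1)]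
  have E2_2 : T.a (v 2) (v 2) = -2 * T.w (v 0) := by linarith only [(hv 2).2, hw1, hw2, hw3]
  have E2_3 : T.a (v 2) (v 3) = 0 := by linarith only [z2_3, NT_symm T (v 2) (v 3)]
  have r2 := NT_row_le T v 2
  rw [Fin.sum_univ_four, E2_0, E2_1, E2_2, E2_3] at r2
  have E3_0 : T.a (v 3) (v 0) = T.w (v 0) := by linarith only [f0_3, NT_symm T (v 3) (v 0)]
  have E3_1 : T.a (v 3) (v 1) = 0 := by linarith only [z1_3, NT_symm T (v 3) (v 1)]
  have E3_2 : T.a (v 3) (v 2) = 0 := by linarith only [z2_3, NT_symm T (v 3) (v 2)]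
  have E3_3 : T.a (v 3) (v 3) = -2 * T.w (v 0) := by linarith only [(hv 3).2, hw1, hw2, hw3]
  have r3 := NT_row_le T v 3
  rw [Fin.sum_univ_four, E3_0, E3_1, E3_2, E3_3] at r3
  have m0 : T.m (v 1) + T.m (v 2) + T.m (v 3) ≤ 2 * T.m (v 0) := by
    have h' : T.w (v 0) * (T.m (v 1) + T.m (v 2) + T.m (v 3)) ≤ T.w (v 0) * (2 * T.m (v 0)) := by linarith only [r0]
    exact le_of_mul_le_mul_left h' (T.w_pos (v 0))
  have m1 : T.m (v 0) ≤ 2 * T.m (v 1) := by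
    have h' : T.w (v 0) * (T.m (v 0)) ≤ T.w (v 0) * (2 * T.m (v 1)) := by linarith only [r1]
    exact le_of_mul_le_mul_left h' (T.w_pos (v 0))
  have m2 : T.m (v 0) ≤ 2 * T.m (v 2) := by
    have h' : T.w (v 0) * (T.m (v 0)) ≤ T.w (v 0) * (2 * T.m (v 2)) := by linarith only [r2]
    exact le_of_mul_le_mul_left h' (T.w_pos (v 0))
  have m3 : T.m (v 0) ≤ 2 * T.m (v 3) := by
    have h' : T.w (v 0) * (T.m (v 0)) ≤ T.w (v 0) * (2 * T.m (v 3)) := by linarith only [r3]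
    exact le_of_mul_le_mul_left h' (T.w_pos (v 0))
  exact ⟨T.w (v 0), hW, f0_1, f0_2, f0_3, z1_2, z1_3, z2_3, m0, m1, m2, m3⟩

end Groth.Agent.S7346
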