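import Groth.Statements.S7347
import Groth.Agent.Lib.Helper11.NumD5a
import Groth.Agent.Lib.Helper11.NumD5b
import Groth.Agent.Lib.Helper11.NumD5c

set_option autoImplicit false
open Finset
open Models Models.NumericalType

namespace Groth.Agent.S7347

open Groth.Agent.Helper11

/-- Classification of proper subgraphs of type D5 (a chain i_1 i_2 i_3 with i_4 and i_5 both joined to
i_3): let T be a numerical type on n > 5 indices and i_1, …, i_5 distinct (-2)-indices with a_{12},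
a_{23}, a_{34}, a_{35} nonzero. Then for some integer w all w_{i_j} equal w, these intersection
numbers equal w, all other a_{i_j i_k} (j ≠ k) vanish, and 2 m_1 ≥ m_2, 2 m_2 ≥ m_1 + m_3, 2 m_3 ≥
m_2 + m_4 + m_5, 2 m_4 ≥ m_3, 2 m_5 ≥ m_3. -/
theorem result {n : ℕ} (T : Models.NumericalType n) (hn : 5 < n)
    (v : Fin 5 ↪ Fin n) (hv : ∀ j, T.IsMinusTwo (v j)) (h01 : T.a (v 0) (v 1) ≠ 0) (h12 : T.a (v 1) (v 2) ≠ 0) (h23 : T.a (v 2) (v 3) ≠ 0) (h24 : T.a (v 2) (v 4) ≠ 0) :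
    ∃ w : ℤ, (∀ j : Fin 5, T.w (v j) = w) ∧
      T.a (v 0) (v 1) = w ∧
      T.a (v 1) (v 2) = w ∧
      T.a (v 2) (v 3) = w ∧
      T.a (v 2) (v 4) = w ∧
      T.a (v 0) (v 2) = 0 ∧
      T.a (v 0) (v 3) = 0 ∧
      T.a (v 0) (v 4) = 0 ∧
      T.a (v 1) (v 3) = 0 ∧
      T.a (v 1) (v 4) = 0 ∧
      T.a (v 3) (v 4) = 0 ∧
      T.m (v 1) ≤ 2 * T.m (v 0) ∧
      T.m (v 0) + T.m (v 2) ≤ 2 * T.m (v 1) ∧
      T.m (v 1) + T.m (v 3) + T.m (v 4) ≤ 2 * T.m (v 2) ∧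
      T.m (v 2) ≤ 2 * T.m (v 3) ∧
      T.m (v 2) ≤ 2 * T.m (v 4) := by
  have z0_2 := NumD5_z0_2 T hn v hv h01 h12 h23 h24
  have z0_3 := NumD5_z0_3 T hn v hv h01 h12 h23 h24
  have z0_4 := NumD5_z0_4 T hn v hv h01 h12 h23 h24
  have z1_3 := NumD5_z1_3 T hn v hv h01 h12 h23 h24
  have z1_4 := NumD5_z1_4 T hn v hv h01 h12 h23 h24
  have z3_4 := NumD5_z3_4 T hn v hv h01 h12 h23 h24
  have e0_1a := NumD5_e0_1a T hn v hv h01 h12 h23 h24
  have e0_1b := NumD5_e0_1b T hn v hv h01 h12 h23 h24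
  have e1_2a := NumD5_e1_2a T hn v hv h01 h12 h23 h24
  have e1_2b := NumD5_e1_2b T hn v hv h01 h12 h23 h24
  have e2_3a := NumD5_e2_3a T hn v hv h01 h12 h23 h24
  have e2_3b := NumD5_e2_3b T hn v hv h01 h12 h23 h24
  have e2_4a := NumD5_e2_4a T hn v hv h01 h12 h23 h24
  have e2_4b := NumD5_e2_4b T hn v hv h01 h12 h23 h24
  have hw1 : T.w (v 1) = T.w (v 0) := by linarith only [e0_1a, e0_1b, e1_2a, e1_2b, e2_3a, e2_3b, e2_4a, e2_4b]
  have hw2 : T.w (v 2) = T.w (v 0) := by linarith only [e0_1a, e0_1b, e1_2a, e1_2b, e2_3a, e2_3b, e2_4a, e2_4b]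
  have hw3 : T.w (v 3) = T.w (v 0) := by linarith only [e0_1a, e0_1b, e1_2a, e1_2b, e2_3a, e2_3b, e2_4a, e2_4b]
  have hw4 : T.w (v 4) = T.w (v 0) := by linarith only [e0_1a, e0_1b, e1_2a, e1_2b, e2_3a, e2_3b, e2_4a, e2_4b]
  have hW : ∀ j : Fin 5, T.w (v j) = T.w (v 0) := by
    intro j
    fin_cases j
    exacts [rfl, hw1, hw2, hw3, hw4]
  have f0_1 : T.a (v 0) (v 1) = T.w (v 0) := by linarith only [e0_1a, e0_1b, e1_2a, e1_2b, e2_3a, e2_3b, e2_4a, e2_4b]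
  have f1_2 : T.a (v 1) (v 2) = T.w (v 0) := by linarith only [e0_1a, e0_1b, e1_2a, e1_2b, e2_3a, e2_3b, e2_4a, e2_4b]
  have f2_3 : T.a (v 2) (v 3) = T.w (v 0) := by linarith only [e0_1a, e0_1b, e1_2a, e1_2b, e2_3a, e2_3b, e2_4a, e2_4b]
  have f2_4 : T.a (v 2) (v 4) = T.w (v 0) := by linarith only [e0_1a, e0_1b, e1_2a, e1_2b, e2_3a, e2_3b, e2_4a, e2_4b]
  have E0_0 : T.a (v 0) (v 0) = -2 * T.w (v 0) := by linarith only [(hv 0).2, hw1, hw2, hw3, hw4]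
  have E0_1 : T.a (v 0) (v 1) = T.w (v 0) := by linarith only [f0_1, NT_symm T (v 0) (v 1)]
  have E0_2 : T.a (v 0) (v 2) = 0 := by linarith only [z0_2, NT_symm T (v 0) (v 2)]
  have E0_3 : T.a (v 0) (v 3) = 0 := by linarith only [z0_3, NT_symm T (v 0) (v 3)]
  have E0_4 : T.a (v 0) (v 4) = 0 := by linarith only [z0_4, NT_symm T (v 0) (v 4)]
  have r0 := NT_row_le T v 0
  rw [Fin.sum_univ_five, E0_0, E0_1, E0_2, E0_3, E0_4] at r0
  have E1_0 : T.a (v 1) (v 0) = T.w (v 0) := by linarith only [f0_1, NT_symm T (v 1) (v 0)]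
  have E1_1 : T.a (v 1) (v 1) = -2 * T.w (v 0) := by linarith only [(hv 1).2, hw1, hw2, hw3, hw4]
  have E1_2 : T.a (v 1) (v 2) = T.w (v 0) := by linarith only [f1_2, NT_symm T (v 1) (v 2)]
  have E1_3 : T.a (v 1) (v 3) = 0 := by linarith only [z1_3, NT_symm T (v 1) (v 3)]
  have E1_4 : T.a (v 1) (v 4) = 0 := by linarith only [z1_4, NT_symm T (v 1) (v 4)]
  have r1 := NT_row_le T v 1
  rw [Fin.sum_univ_five, E1_0, E1_1, E1_2, E1_3, E1_4] at r1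
  have E2_0 : T.a (v 2) (v 0) = 0 := by linarith only [z0_2, NT_symm T (v 2) (v 0)]
  have E2_1 : T.a (v 2) (v 1) = T.w (v 0) := by linarith only [f1_2, NT_symm T (v 2) (v 1)]
  have E2_2 : T.a (v 2) (v 2) = -2 * T.w (v 0) := by linarith only [(hv 2).2, hw1, hw2, hw3, hw4]
  have E2_3 : T.a (v 2) (v 3) = T.w (v 0) := by linarith only [f2_3, NT_symm T (v 2) (v 3)]
  have E2_4 : T.a (v 2) (v 4) = T.w (v 0) := by linarith only [f2_4, NT_symm T (v 2) (v 4)]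
  have r2 := NT_row_le T v 2
  rw [Fin.sum_univ_five, E2_0, E2_1, E2_2, E2_3, E2_4] at r2
  have E3_0 : T.a (v 3) (v 0) = 0 := by linarith only [z0_3, NT_symm T (v 3) (v 0)]
  have E3_1 : T.a (v 3) (v 1) = 0 := by linarith only [z1_3, NT_symm T (v 3) (v 1)]
  have E3_2 : T.a (v 3) (v 2) = T.w (v 0) := by linarith only [f2_3, NT_symm T (v 3) (v 2)]
  have E3_3 : T.a (v 3) (v 3) = -2 * T.w (v 0) := by linarith only [(hv 3).2, hw1, hw2, hw3, hw4]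
  have E3_4 : T.a (v 3) (v 4) = 0 := by linarith only [z3_4, NT_symm T (v 3) (v 4)]
  have r3 := NT_row_le T v 3
  rw [Fin.sum_univ_five, E3_0, E3_1, E3_2, E3_3, E3_4] at r3
  have E4_0 : T.a (v 4) (v 0) = 0 := by linarith only [z0_4, NT_symm T (v 4) (v 0)]
  have E4_1 : T.a (v 4) (v 1) = 0 := by linarith only [z1_4, NT_symm T (v 4) (v 1)]
  have E4_2 : T.a (v 4) (v 2) = T.w (v 0) := by linarith only [f2_4, NT_symm T (v 4) (v 2)]
  have E4_3 : T.a (v 4) (v 3) = 0 := by linarith only [z3_4, NT_symm T (v 4) (v 3)]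
  have E4_4 : T.a (v 4) (v 4) = -2 * T.w (v 0) := by linarith only [(hv 4).2, hw1, hw2, hw3, hw4]
  have r4 := NT_row_le T v 4
  rw [Fin.sum_univ_five, E4_0, E4_1, E4_2, E4_3, E4_4] at r4
  have m0 : T.m (v 1) ≤ 2 * T.m (v 0) := by
    have h' : T.w (v 0) * (T.m (v 1)) ≤ T.w (v 0) * (2 * T.m (v 0)) := by linarith only [r0]
    exact le_of_mul_le_mul_left h' (T.w_pos (v 0))
  have m1 : T.m (v 0) + T.m (v 2) ≤ 2 * T.m (v 1) := by
    have h' : T.w (v 0) * (T.m (v 0) + T.m (v 2)) ≤ T.w (v 0) * (2 * T.m (v 1)) := by linarith only [r1]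
    exact le_of_mul_le_mul_left h' (T.w_pos (v 0))
  have m2 : T.m (v 1) + T.m (v 3) + T.m (v 4) ≤ 2 * T.m (v 2) := by
    have h' : T.w (v 0) * (T.m (v 1) + T.m (v 3) + T.m (v 4)) ≤ T.w (v 0) * (2 * T.m (v 2)) := by linarith only [r2]
    exact le_of_mul_le_mul_left h' (T.w_pos (v 0))
  have m3 : T.m (v 2) ≤ 2 * T.m (v 3) := by
    have h' : T.w (v 0) * (T.m (v 2)) ≤ T.w (v 0) * (2 * T.m (v 3)) := by linarith only [r3]
    exact le_of_mul_le_mul_left h' (T.w_pos (v 0))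
  have m4 : T.m (v 2) ≤ 2 * T.m (v 4) := by
    have h' : T.w (v 0) * (T.m (v 2)) ≤ T.w (v 0) * (2 * T.m (v 4)) := by linarith only [r4]
    exact le_of_mul_le_mul_left h' (T.w_pos (v 0))
  exact ⟨T.w (v 0), hW, f0_1, f1_2, f2_3, f2_4, z0_2, z0_3, z0_4, z1_3, z1_4, z3_4, m0, m1, m2, m3, m4⟩

end Groth.Agent.S7347
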