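import Groth.Statements.S7350
import Groth.Agent.Lib.Helper11.NumE8a
import Groth.Agent.Lib.Helper11.NumE8b
import Groth.Agent.Lib.Helper11.NumE8c
import Groth.Agent.Lib.Helper11.NumE8d
import Groth.Agent.Lib.Helper11.NumE8e
import Groth.Agent.Lib.Helper11.NumE8f

set_option autoImplicit false
open Finset
open Models Models.NumericalType

namespace Groth.Agent.S7350

open Groth.Agent.Helper11

/-- Classification of proper subgraphs of type E8 (a chain i_1 … i_7 with i_8 joined to i_5): let T be a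
numerical type on n > 8 indices and i_1, …, i_8 distinct (-2)-indices with a_{12}, a_{23}, a_{34},
a_{45}, a_{56}, a_{67}, a_{58} nonzero. Then for some integer w all w_{i_j} equal w, these
intersection numbers equal w, all other a_{i_j i_k} (j ≠ k) vanish, and 2 m_1 ≥ m_2, 2 m_2 ≥ m_1 +
m_3, 2 m_3 ≥ m_2 + m_4, 2 m_4 ≥ m_3 + m_5, 2 m_5 ≥ m_4 + m_6 + m_8, 2 m_6 ≥ m_5 + m_7, 2 m_7 ≥ m_6,
2 m_8 ≥ m_5. (The published statement lists a_{65} and a_{57} among the nonzero entries, which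
contradicts its own conclusion a_{57} = 0; this row uses the edges of the E8 graph, a_{67} and
a_{58}, as the pictured graph and the matrix give them.) -/
theorem result {n : ℕ} (T : Models.NumericalType n) (hn : 8 < n)
    (v : Fin 8 ↪ Fin n) (hv : ∀ j, T.IsMinusTwo (v j)) (h01 : T.a (v 0) (v 1) ≠ 0) (h12 : T.a (v 1) (v 2) ≠ 0) (h23 : T.a (v 2) (v 3) ≠ 0) (h34 : T.a (v 3) (v 4) ≠ 0) (h45 : T.a (v 4) (v 5) ≠ 0) (h56 : T.a (v 5) (v 6) ≠ 0) (h47 : T.a (v 4) (v 7) ≠ 0) :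
    ∃ w : ℤ, (∀ j : Fin 8, T.w (v j) = w) ∧
      T.a (v 0) (v 1) = w ∧
      T.a (v 1) (v 2) = w ∧
      T.a (v 2) (v 3) = w ∧
      T.a (v 3) (v 4) = w ∧
      T.a (v 4) (v 5) = w ∧
      T.a (v 5) (v 6) = w ∧
      T.a (v 4) (v 7) = w ∧
      T.a (v 0) (v 2) = 0 ∧
      T.a (v 0) (v 3) = 0 ∧
      T.a (v 0) (v 4) = 0 ∧
      T.a (v 0) (v 5) = 0 ∧
      T.a (v 0) (v 6) = 0 ∧
      T.a (v 0) (v 7) = 0 ∧
      T.a (v 1) (v 3) = 0 ∧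
      T.a (v 1) (v 4) = 0 ∧
      T.a (v 1) (v 5) = 0 ∧
      T.a (v 1) (v 6) = 0 ∧
      T.a (v 1) (v 7) = 0 ∧
      T.a (v 2) (v 4) = 0 ∧
      T.a (v 2) (v 5) = 0 ∧
      T.a (v 2) (v 6) = 0 ∧
      T.a (v 2) (v 7) = 0 ∧
      T.a (v 3) (v 5) = 0 ∧
      T.a (v 3) (v 6) = 0 ∧
      T.a (v 3) (v 7) = 0 ∧
      T.a (v 4) (v 6) = 0 ∧
      T.a (v 5) (v 7) = 0 ∧
      T.a (v 6) (v 7) = 0 ∧
      T.m (v 1) ≤ 2 * T.m (v 0) ∧
      T.m (v 0) + T.m (v 2) ≤ 2 * T.m (v 1) ∧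
      T.m (v 1) + T.m (v 3) ≤ 2 * T.m (v 2) ∧
      T.m (v 2) + T.m (v 4) ≤ 2 * T.m (v 3) ∧
      T.m (v 3) + T.m (v 5) + T.m (v 7) ≤ 2 * T.m (v 4) ∧
      T.m (v 4) + T.m (v 6) ≤ 2 * T.m (v 5) ∧
      T.m (v 5) ≤ 2 * T.m (v 6) ∧
      T.m (v 4) ≤ 2 * T.m (v 7) := by
  have z0_2 := NumE8_z0_2 T hn v hv h01 h12 h23 h34 h45 h56 h47
  have z0_3 := NumE8_z0_3 T hn v hv h01 h12 h23 h34 h45 h56 h47
  have z0_4 := NumE8_z0_4 T hn v hv h01 h12 h23 h34 h45 h56 h47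
  have z0_5 := NumE8_z0_5 T hn v hv h01 h12 h23 h34 h45 h56 h47
  have z0_6 := NumE8_z0_6 T hn v hv h01 h12 h23 h34 h45 h56 h47
  have z0_7 := NumE8_z0_7 T hn v hv h01 h12 h23 h34 h45 h56 h47
  have z1_3 := NumE8_z1_3 T hn v hv h01 h12 h23 h34 h45 h56 h47
  have z1_4 := NumE8_z1_4 T hn v hv h01 h12 h23 h34 h45 h56 h47
  have z1_5 := NumE8_z1_5 T hn v hv h01 h12 h23 h34 h45 h56 h47
  have z1_6 := NumE8_z1_6 T hn v hv h01 h12 h23 h34 h45 h56 h47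
  have z1_7 := NumE8_z1_7 T hn v hv h01 h12 h23 h34 h45 h56 h47
  have z2_4 := NumE8_z2_4 T hn v hv h01 h12 h23 h34 h45 h56 h47
  have z2_5 := NumE8_z2_5 T hn v hv h01 h12 h23 h34 h45 h56 h47
  have z2_6 := NumE8_z2_6 T hn v hv h01 h12 h23 h34 h45 h56 h47
  have z2_7 := NumE8_z2_7 T hn v hv h01 h12 h23 h34 h45 h56 h47
  have z3_5 := NumE8_z3_5 T hn v hv h01 h12 h23 h34 h45 h56 h47
  have z3_6 := NumE8_z3_6 T hn v hv h01 h12 h23 h34 h45 h56 h47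
  have z3_7 := NumE8_z3_7 T hn v hv h01 h12 h23 h34 h45 h56 h47
  have z4_6 := NumE8_z4_6 T hn v hv h01 h12 h23 h34 h45 h56 h47
  have z5_7 := NumE8_z5_7 T hn v hv h01 h12 h23 h34 h45 h56 h47
  have z6_7 := NumE8_z6_7 T hn v hv h01 h12 h23 h34 h45 h56 h47
  have e0_1a := NumE8_e0_1a T hn v hv h01 h12 h23 h34 h45 h56 h47
  have e0_1b := NumE8_e0_1b T hn v hv h01 h12 h23 h34 h45 h56 h47
  have e1_2a := NumE8_e1_2a T hn v hv h01 h12 h23 h34 h45 h56 h47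
  have e1_2b := NumE8_e1_2b T hn v hv h01 h12 h23 h34 h45 h56 h47
  have e2_3a := NumE8_e2_3a T hn v hv h01 h12 h23 h34 h45 h56 h47
  have e2_3b := NumE8_e2_3b T hn v hv h01 h12 h23 h34 h45 h56 h47
  have e3_4a := NumE8_e3_4a T hn v hv h01 h12 h23 h34 h45 h56 h47
  have e3_4b := NumE8_e3_4b T hn v hv h01 h12 h23 h34 h45 h56 h47
  have e4_5a := NumE8_e4_5a T hn v hv h01 h12 h23 h34 h45 h56 h47
  have e4_5b := NumE8_e4_5b T hn v hv h01 h12 h23 h34 h45 h56 h47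
  have e5_6a := NumE8_e5_6a T hn v hv h01 h12 h23 h34 h45 h56 h47
  have e5_6b := NumE8_e5_6b T hn v hv h01 h12 h23 h34 h45 h56 h47
  have e4_7a := NumE8_e4_7a T hn v hv h01 h12 h23 h34 h45 h56 h47
  have e4_7b := NumE8_e4_7b T hn v hv h01 h12 h23 h34 h45 h56 h47
  have hw1 : T.w (v 1) = T.w (v 0) := by linarith only [e0_1a, e0_1b, e1_2a, e1_2b, e2_3a, e2_3b, e3_4a, e3_4b, e4_5a, e4_5b, e5_6a, e5_6b, e4_7a, e4_7b]
  have hw2 : T.w (v 2) = T.w (v 0) := by linarith only [e0_1a, e0_1b, e1_2a, e1_2b, e2_3a, e2_3b, e3_4a, e3_4b, e4_5a, e4_5b, e5_6a, e5_6b, e4_7a, e4_7b]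
  have hw3 : T.w (v 3) = T.w (v 0) := by linarith only [e0_1a, e0_1b, e1_2a, e1_2b, e2_3a, e2_3b, e3_4a, e3_4b, e4_5a, e4_5b, e5_6a, e5_6b, e4_7a, e4_7b]
  have hw4 : T.w (v 4) = T.w (v 0) := by linarith only [e0_1a, e0_1b, e1_2a, e1_2b, e2_3a, e2_3b, e3_4a, e3_4b, e4_5a, e4_5b, e5_6a, e5_6b, e4_7a, e4_7b]
  have hw5 : T.w (v 5) = T.w (v 0) := by linarith only [e0_1a, e0_1b, e1_2a, e1_2b, e2_3a, e2_3b, e3_4a, e3_4b, e4_5a, e4_5b, e5_6a, e5_6b, e4_7a, e4_7b]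
  have hw6 : T.w (v 6) = T.w (v 0) := by linarith only [e0_1a, e0_1b, e1_2a, e1_2b, e2_3a, e2_3b, e3_4a, e3_4b, e4_5a, e4_5b, e5_6a, e5_6b, e4_7a, e4_7b]
  have hw7 : T.w (v 7) = T.w (v 0) := by linarith only [e0_1a, e0_1b, e1_2a, e1_2b, e2_3a, e2_3b, e3_4a, e3_4b, e4_5a, e4_5b, e5_6a, e5_6b, e4_7a, e4_7b]
  have hW : ∀ j : Fin 8, T.w (v j) = T.w (v 0) := by
    intro j
    fin_cases j
    exacts [rfl, hw1, hw2, hw3, hw4, hw5, hw6, hw7]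
  have f0_1 : T.a (v 0) (v 1) = T.w (v 0) := by linarith only [e0_1a, e0_1b, e1_2a, e1_2b, e2_3a, e2_3b, e3_4a, e3_4b, e4_5a, e4_5b, e5_6a, e5_6b, e4_7a, e4_7b]
  have f1_2 : T.a (v 1) (v 2) = T.w (v 0) := by linarith only [e0_1a, e0_1b, e1_2a, e1_2b, e2_3a, e2_3b, e3_4a, e3_4b, e4_5a, e4_5b, e5_6a, e5_6b, e4_7a, e4_7b]
  have f2_3 : T.a (v 2) (v 3) = T.w (v 0) := by linarith only [e0_1a, e0_1b, e1_2a, e1_2b, e2_3a, e2_3b, e3_4a, e3_4b, e4_5a, e4_5b, e5_6a, e5_6b, e4_7a, e4_7b]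
  have f3_4 : T.a (v 3) (v 4) = T.w (v 0) := by linarith only [e0_1a, e0_1b, e1_2a, e1_2b, e2_3a, e2_3b, e3_4a, e3_4b, e4_5a, e4_5b, e5_6a, e5_6b, e4_7a, e4_7b]
  have f4_5 : T.a (v 4) (v 5) = T.w (v 0) := by linarith only [e0_1a, e0_1b, e1_2a, e1_2b, e2_3a, e2_3b, e3_4a, e3_4b, e4_5a, e4_5b, e5_6a, e5_6b, e4_7a, e4_7b]
  have f5_6 : T.a (v 5) (v 6) = T.w (v 0) := by linarith only [e0_1a, e0_1b, e1_2a, e1_2b, e2_3a, e2_3b, e3_4a, e3_4b, e4_5a, e4_5b, e5_6a, e5_6b, e4_7a, e4_7b]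
  have f4_7 : T.a (v 4) (v 7) = T.w (v 0) := by linarith only [e0_1a, e0_1b, e1_2a, e1_2b, e2_3a, e2_3b, e3_4a, e3_4b, e4_5a, e4_5b, e5_6a, e5_6b, e4_7a, e4_7b]
  have E0_0 : T.a (v 0) (v 0) = -2 * T.w (v 0) := by linarith only [(hv 0).2, hw1, hw2, hw3, hw4, hw5, hw6, hw7]
  have E0_1 : T.a (v 0) (v 1) = T.w (v 0) := by linarith only [f0_1, NT_symm T (v 0) (v 1)]
  have E0_2 : T.a (v 0) (v 2) = 0 := by linarith only [z0_2, NT_symm T (v 0) (v 2)]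
  have E0_3 : T.a (v 0) (v 3) = 0 := by linarith only [z0_3, NT_symm T (v 0) (v 3)]
  have E0_4 : T.a (v 0) (v 4) = 0 := by linarith only [z0_4, NT_symm T (v 0) (v 4)]
  have E0_5 : T.a (v 0) (v 5) = 0 := by linarith only [z0_5, NT_symm T (v 0) (v 5)]
  have E0_6 : T.a (v 0) (v 6) = 0 := by linarith only [z0_6, NT_symm T (v 0) (v 6)]
  have E0_7 : T.a (v 0) (v 7) = 0 := by linarith only [z0_7, NT_symm T (v 0) (v 7)]
  have r0 := NT_row_le T v 0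
  rw [Fin.sum_univ_eight, E0_0, E0_1, E0_2, E0_3, E0_4, E0_5, E0_6, E0_7] at r0
  have E1_0 : T.a (v 1) (v 0) = T.w (v 0) := by linarith only [f0_1, NT_symm T (v 1) (v 0)]
  have E1_1 : T.a (v 1) (v 1) = -2 * T.w (v 0) := by linarith only [(hv 1).2, hw1, hw2, hw3, hw4, hw5, hw6, hw7]
  have E1_2 : T.a (v 1) (v 2) = T.w (v 0) := by linarith only [f1_2, NT_symm T (v 1) (v 2)]
  have E1_3 : T.a (v 1) (v 3) = 0 := by linarith only [z1_3, NT_symm T (v 1) (v 3)]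
  have E1_4 : T.a (v 1) (v 4) = 0 := by linarith only [z1_4, NT_symm T (v 1) (v 4)]
  have E1_5 : T.a (v 1) (v 5) = 0 := by linarith only [z1_5, NT_symm T (v 1) (v 5)]
  have E1_6 : T.a (v 1) (v 6) = 0 := by linarith only [z1_6, NT_symm T (v 1) (v 6)]
  have E1_7 : T.a (v 1) (v 7) = 0 := by linarith only [z1_7, NT_symm T (v 1) (v 7)]
  have r1 := NT_row_le T v 1
  rw [Fin.sum_univ_eight, E1_0, E1_1, E1_2, E1_3, E1_4, E1_5, E1_6, E1_7] at r1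
  have E2_0 : T.a (v 2) (v 0) = 0 := by linarith only [z0_2, NT_symm T (v 2) (v 0)]
  have E2_1 : T.a (v 2) (v 1) = T.w (v 0) := by linarith only [f1_2, NT_symm T (v 2) (v 1)]
  have E2_2 : T.a (v 2) (v 2) = -2 * T.w (v 0) := by linarith only [(hv 2).2, hw1, hw2, hw3, hw4, hw5, hw6, hw7]
  have E2_3 : T.a (v 2) (v 3) = T.w (v 0) := by linarith only [f2_3, NT_symm T (v 2) (v 3)]
  have E2_4 : T.a (v 2) (v 4) = 0 := by linarith only [z2_4, NT_symm T (v 2) (v 4)]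
  have E2_5 : T.a (v 2) (v 5) = 0 := by linarith only [z2_5, NT_symm T (v 2) (v 5)]
  have E2_6 : T.a (v 2) (v 6) = 0 := by linarith only [z2_6, NT_symm T (v 2) (v 6)]
  have E2_7 : T.a (v 2) (v 7) = 0 := by linarith only [z2_7, NT_symm T (v 2) (v 7)]
  have r2 := NT_row_le T v 2
  rw [Fin.sum_univ_eight, E2_0, E2_1, E2_2, E2_3, E2_4, E2_5, E2_6, E2_7] at r2
  have E3_0 : T.a (v 3) (v 0) = 0 := by linarith only [z0_3, NT_symm T (v 3) (v 0)]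
  have E3_1 : T.a (v 3) (v 1) = 0 := by linarith only [z1_3, NT_symm T (v 3) (v 1)]
  have E3_2 : T.a (v 3) (v 2) = T.w (v 0) := by linarith only [f2_3, NT_symm T (v 3) (v 2)]
  have E3_3 : T.a (v 3) (v 3) = -2 * T.w (v 0) := by linarith only [(hv 3).2, hw1, hw2, hw3, hw4, hw5, hw6, hw7]
  have E3_4 : T.a (v 3) (v 4) = T.w (v 0) := by linarith only [f3_4, NT_symm T (v 3) (v 4)]
  have E3_5 : T.a (v 3) (v 5) = 0 := by linarith only [z3_5, NT_symm T (v 3) (v 5)]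
  have E3_6 : T.a (v 3) (v 6) = 0 := by linarith only [z3_6, NT_symm T (v 3) (v 6)]
  have E3_7 : T.a (v 3) (v 7) = 0 := by linarith only [z3_7, NT_symm T (v 3) (v 7)]
  have r3 := NT_row_le T v 3
  rw [Fin.sum_univ_eight, E3_0, E3_1, E3_2, E3_3, E3_4, E3_5, E3_6, E3_7] at r3
  have E4_0 : T.a (v 4) (v 0) = 0 := by linarith only [z0_4, NT_symm T (v 4) (v 0)]
  have E4_1 : T.a (v 4) (v 1) = 0 := by linarith only [z1_4, NT_symm T (v 4) (v 1)]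
  have E4_2 : T.a (v 4) (v 2) = 0 := by linarith only [z2_4, NT_symm T (v 4) (v 2)]
  have E4_3 : T.a (v 4) (v 3) = T.w (v 0) := by linarith only [f3_4, NT_symm T (v 4) (v 3)]
  have E4_4 : T.a (v 4) (v 4) = -2 * T.w (v 0) := by linarith only [(hv 4).2, hw1, hw2, hw3, hw4, hw5, hw6, hw7]
  have E4_5 : T.a (v 4) (v 5) = T.w (v 0) := by linarith only [f4_5, NT_symm T (v 4) (v 5)]
  have E4_6 : T.a (v 4) (v 6) = 0 := by linarith only [z4_6, NT_symm T (v 4) (v 6)]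
  have E4_7 : T.a (v 4) (v 7) = T.w (v 0) := by linarith only [f4_7, NT_symm T (v 4) (v 7)]
  have r4 := NT_row_le T v 4
  rw [Fin.sum_univ_eight, E4_0, E4_1, E4_2, E4_3, E4_4, E4_5, E4_6, E4_7] at r4
  have E5_0 : T.a (v 5) (v 0) = 0 := by linarith only [z0_5, NT_symm T (v 5) (v 0)]
  have E5_1 : T.a (v 5) (v 1) = 0 := by linarith only [z1_5, NT_symm T (v 5) (v 1)]
  have E5_2 : T.a (v 5) (v 2) = 0 := by linarith only [z2_5, NT_symm T (v 5) (v 2)]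
  have E5_3 : T.a (v 5) (v 3) = 0 := by linarith only [z3_5, NT_symm T (v 5) (v 3)]
  have E5_4 : T.a (v 5) (v 4) = T.w (v 0) := by linarith only [f4_5, NT_symm T (v 5) (v 4)]
  have E5_5 : T.a (v 5) (v 5) = -2 * T.w (v 0) := by linarith only [(hv 5).2, hw1, hw2, hw3, hw4, hw5, hw6, hw7]
  have E5_6 : T.a (v 5) (v 6) = T.w (v 0) := by linarith only [f5_6, NT_symm T (v 5) (v 6)]
  have E5_7 : T.a (v 5) (v 7) = 0 := by linarith only [z5_7, NT_symm T (v 5) (v 7)]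
  have r5 := NT_row_le T v 5
  rw [Fin.sum_univ_eight, E5_0, E5_1, E5_2, E5_3, E5_4, E5_5, E5_6, E5_7] at r5
  have E6_0 : T.a (v 6) (v 0) = 0 := by linarith only [z0_6, NT_symm T (v 6) (v 0)]
  have E6_1 : T.a (v 6) (v 1) = 0 := by linarith only [z1_6, NT_symm T (v 6) (v 1)]
  have E6_2 : T.a (v 6) (v 2) = 0 := by linarith only [z2_6, NT_symm T (v 6) (v 2)]
  have E6_3 : T.a (v 6) (v 3) = 0 := by linarith only [z3_6, NT_symm T (v 6) (v 3)]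
  have E6_4 : T.a (v 6) (v 4) = 0 := by linarith only [z4_6, NT_symm T (v 6) (v 4)]
  have E6_5 : T.a (v 6) (v 5) = T.w (v 0) := by linarith only [f5_6, NT_symm T (v 6) (v 5)]
  have E6_6 : T.a (v 6) (v 6) = -2 * T.w (v 0) := by linarith only [(hv 6).2, hw1, hw2, hw3, hw4, hw5, hw6, hw7]
  have E6_7 : T.a (v 6) (v 7) = 0 := by linarith only [z6_7, NT_symm T (v 6) (v 7)]
  have r6 := NT_row_le T v 6
  rw [Fin.sum_univ_eight, E6_0, E6_1, E6_2, E6_3, E6_4, E6_5, E6_6, E6_7] at r6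
  have E7_0 : T.a (v 7) (v 0) = 0 := by linarith only [z0_7, NT_symm T (v 7) (v 0)]
  have E7_1 : T.a (v 7) (v 1) = 0 := by linarith only [z1_7, NT_symm T (v 7) (v 1)]
  have E7_2 : T.a (v 7) (v 2) = 0 := by linarith only [z2_7, NT_symm T (v 7) (v 2)]
  have E7_3 : T.a (v 7) (v 3) = 0 := by linarith only [z3_7, NT_symm T (v 7) (v 3)]
  have E7_4 : T.a (v 7) (v 4) = T.w (v 0) := by linarith only [f4_7, NT_symm T (v 7) (v 4)]
  have E7_5 : T.a (v 7) (v 5) = 0 := by linarith only [z5_7, NT_symm T (v 7) (v 5)]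
  have E7_6 : T.a (v 7) (v 6) = 0 := by linarith only [z6_7, NT_symm T (v 7) (v 6)]
  have E7_7 : T.a (v 7) (v 7) = -2 * T.w (v 0) := by linarith only [(hv 7).2, hw1, hw2, hw3, hw4, hw5, hw6, hw7]
  have r7 := NT_row_le T v 7
  rw [Fin.sum_univ_eight, E7_0, E7_1, E7_2, E7_3, E7_4, E7_5, E7_6, E7_7] at r7
  have m0 : T.m (v 1) ≤ 2 * T.m (v 0) := by
    have h' : T.w (v 0) * (T.m (v 1)) ≤ T.w (v 0) * (2 * T.m (v 0)) := by linarith only [r0]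
    exact le_of_mul_le_mul_left h' (T.w_pos (v 0))
  have m1 : T.m (v 0) + T.m (v 2) ≤ 2 * T.m (v 1) := by
    have h' : T.w (v 0) * (T.m (v 0) + T.m (v 2)) ≤ T.w (v 0) * (2 * T.m (v 1)) := by linarith only [r1]
    exact le_of_mul_le_mul_left h' (T.w_pos (v 0))
  have m2 : T.m (v 1) + T.m (v 3) ≤ 2 * T.m (v 2) := by
    have h' : T.w (v 0) * (T.m (v 1) + T.m (v 3)) ≤ T.w (v 0) * (2 * T.m (v 2)) := by linarith only [r2]
    exact le_of_mul_le_mul_left h' (T.w_pos (v 0))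
  have m3 : T.m (v 2) + T.m (v 4) ≤ 2 * T.m (v 3) := by
    have h' : T.w (v 0) * (T.m (v 2) + T.m (v 4)) ≤ T.w (v 0) * (2 * T.m (v 3)) := by linarith only [r3]
    exact le_of_mul_le_mul_left h' (T.w_pos (v 0))
  have m4 : T.m (v 3) + T.m (v 5) + T.m (v 7) ≤ 2 * T.m (v 4) := by
    have h' : T.w (v 0) * (T.m (v 3) + T.m (v 5) + T.m (v 7)) ≤ T.w (v 0) * (2 * T.m (v 4)) := by linarith only [r4]
    exact le_of_mul_le_mul_left h' (T.w_pos (v 0))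
  have m5 : T.m (v 4) + T.m (v 6) ≤ 2 * T.m (v 5) := by
    have h' : T.w (v 0) * (T.m (v 4) + T.m (v 6)) ≤ T.w (v 0) * (2 * T.m (v 5)) := by linarith only [r5]
    exact le_of_mul_le_mul_left h' (T.w_pos (v 0))
  have m6 : T.m (v 5) ≤ 2 * T.m (v 6) := by
    have h' : T.w (v 0) * (T.m (v 5)) ≤ T.w (v 0) * (2 * T.m (v 6)) := by linarith only [r6]
    exact le_of_mul_le_mul_left h' (T.w_pos (v 0))
  have m7 : T.m (v 4) ≤ 2 * T.m (v 7) := by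
    have h' : T.w (v 0) * (T.m (v 4)) ≤ T.w (v 0) * (2 * T.m (v 7)) := by linarith only [r7]
    exact le_of_mul_le_mul_left h' (T.w_pos (v 0))
  exact ⟨T.w (v 0), hW, f0_1, f1_2, f2_3, f3_4, f4_5, f5_6, f4_7, z0_2, z0_3, z0_4, z0_5, z0_6, z0_7, z1_3, z1_4, z1_5, z1_6, z1_7, z2_4, z2_5, z2_6, z2_7, z3_5, z3_6, z3_7, z4_6, z5_7, z6_7, m0, m1, m2, m3, m4, m5, m6, m7⟩

end Groth.Agent.S7350
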