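import Groth.Statements.S7351
import Groth.Agent.Lib.Helper11.NumQuad

set_option autoImplicit false
open Finset
open Models Models.NumericalType

namespace Groth.Agent.S7351

/-- Let T be a numerical type on n > 5 indices. There do not exist five distinct (-2)-indices h, i, j,
k, l with a_hi > 0, a_hj > 0, a_hk > 0 and a_hl > 0. -/
theorem result {n : ℕ} (T : Models.NumericalType n) (hn : 5 < n)
    (v : Fin 5 ↪ Fin n) (hv : ∀ j, T.IsMinusTwo (v j))
    (h01 : 0 < T.a (v 0) (v 1)) (h02 : 0 < T.a (v 0) (v 2)) (h03 : 0 < T.a (v 0) (v 3)) (h04 : 0 < T.a (v 0) (v 4)) : False := by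
  open Groth.Agent.Helper11 in
  have hQ := NT_quad_neg_embed T (by omega) v ![2, 1, 1, 1, 1]
    (by intro h; simpa using congrFun h 0)
  simp [Fin.sum_univ_succ] at hQ
  open Groth.Agent.Helper11 in
  linarith [(hv 0).2, (hv 1).2, (hv 2).2, (hv 3).2, (hv 4).2, NT_symm T (v 0) (v 1), NT_symm T (v 0) (v 2), NT_symm T (v 0) (v 3), NT_symm T (v 0) (v 4), NT_symm T (v 1) (v 2), T.offDiag_nonneg (v 1) (v 2) (v.injective.ne (by decide)), NT_symm T (v 1) (v 3), T.offDiag_nonneg (v 1) (v 3) (v.injective.ne (by decide)), NT_symm T (v 1) (v 4), T.offDiag_nonneg (v 1) (v 4) (v.injective.ne (by decide)), NT_symm T (v 2) (v 3), T.offDiag_nonneg (v 2) (v 3) (v.injective.ne (by decide)), NT_symm T (v 2) (v 4), T.offDiag_nonneg (v 2) (v 4) (v.injective.ne (by decide)), NT_symm T (v 3) (v 4), T.offDiag_nonneg (v 3) (v 4) (v.injective.ne (by decide)), (NT_edge_ge T (v.injective.ne (by decide)) h01.ne').1, (NT_edge_ge T (v.injective.ne (by decide)) h01.ne').2, (NT_edge_ge T (v.injective.ne (by decide))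 h02.ne').1, (NT_edge_ge T (v.injective.ne (by decide)) h02.ne').2, (NT_edge_ge T (v.injective.ne (by decide)) h03.ne').1, (NT_edge_ge T (v.injective.ne (by decide)) h03.ne').2, (NT_edge_ge T (v.injective.ne (by decide)) h04.ne').1, (NT_edge_ge T (v.injective.ne (by decide)) h04.ne').2]

end Groth.Agent.S7351
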