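import Groth.Statements.S7352
import Groth.Agent.Lib.Helper11.NumC4a
import Groth.Agent.Lib.Helper11.NumC4b
import Groth.Agent.Lib.Helper11.NumC4c
import Groth.Agent.Lib.Helper11.NumC4d

set_option autoImplicit false
open Finset
open Models Models.NumericalType

namespace Groth.Agent.S7352

open Groth.Agent.Helper11

/-- Classification of proper subgraphs which are chains of four vertices: let T be a numerical type on n
> 4 indices and i_1, …, i_4 distinct (-2)-indices with a_{i_j i_{j+1}} nonzero for j < 4. Then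
a_{i_j i_l} = 0 for |j - l| ≥ 2 and, after possibly reversing the order of the indices, for some
integer w one of the following holds: (A4) w = (w, w, w, w), consecutive a = (w, w, w), with 2m_1 ≥
m_2, 2m_2 ≥ m_1 + m_3, 2m_3 ≥ m_2 + m_4, 2m_4 ≥ m_3; (C4) w = (w, w, w, 2w), consecutive a = (w, w,
2w), with 2m_1 ≥ m_2, 2m_2 ≥ m_1 + m_3, 2m_3 ≥ m_2 + 2m_4, 2m_4 ≥ m_3; (B4) w = (2w, 2w, 2w, w),
consecutive a = (2w, 2w, 2w), with 2m_1 ≥ m_2, 2m_2 ≥ m_1 + m_3, 2m_3 ≥ m_2 + m_4, m_4 ≥ m_3; (F4) w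
= (w, w, 2w, 2w), consecutive a = (w, 2w, 2w), with 2m_1 ≥ m_2, 2m_2 ≥ m_1 + 2m_3, 2m_3 ≥ m_2 + m_4,
2m_4 ≥ m_3. -/
theorem result {n : ℕ} (T : Models.NumericalType n) (hn : 4 < n)
    (v : Fin 4 ↪ Fin n) (hv : ∀ j, T.IsMinusTwo (v j)) (h01 : T.a (v 0) (v 1) ≠ 0) (h12 : T.a (v 1) (v 2) ≠ 0) (h23 : T.a (v 2) (v 3) ≠ 0) :
    (T.a (v 0) (v 2) = 0 ∧ T.a (v 0) (v 3) = 0 ∧ T.a (v 1) (v 3) = 0) ∧
    ∃ (u : Fin 4 → Fin n) (w : ℤ), ((∀ j, u j = v j) ∨ (∀ j, u j = v (Fin.rev j))) ∧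
      ((T.w (u 0) = w ∧ T.w (u 1) = w ∧ T.w (u 2) = w ∧ T.w (u 3) = w ∧ T.a (u 0) (u 1) = w ∧ T.a (u 1) (u 2) = w ∧ T.a (u 2) (u 3) = w ∧ T.m (u 1) ≤ 2 * T.m (u 0) ∧ T.m (u 0) + T.m (u 2) ≤ 2 * T.m (u 1) ∧ T.m (u 1) + T.m (u 3) ≤ 2 * T.m (u 2) ∧ T.m (u 2) ≤ 2 * T.m (u 3)) ∨
      (T.w (u 0) = w ∧ T.w (u 1) = w ∧ T.w (u 2) = w ∧ T.w (u 3) = 2 * w ∧ T.a (u 0) (u 1) = w ∧ T.a (u 1) (u 2) = w ∧ T.a (u 2) (u 3) = 2 * w ∧ T.m (u 1) ≤ 2 * T.m (u 0) ∧ T.m (u 0) + T.m (u 2) ≤ 2 * T.m (u 1) ∧ T.m (u 1) + 2 * T.m (u 3) ≤ 2 * T.m (u 2) ∧ T.m (u 2) ≤ 2 * T.m (u 3)) ∨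
      (T.w (u 0) = 2 * w ∧ T.w (u 1) = 2 * w ∧ T.w (u 2) = 2 * w ∧ T.w (u 3) = w ∧ T.a (u 0) (u 1) = 2 * w ∧ T.a (u 1) (u 2) = 2 * w ∧ T.a (u 2) (u 3) = 2 * w ∧ T.m (u 1) ≤ 2 * T.m (u 0) ∧ T.m (u 0) + T.m (u 2) ≤ 2 * T.m (u 1) ∧ T.m (u 1) + T.m (u 3) ≤ 2 * T.m (u 2) ∧ T.m (u 2) ≤ T.m (u 3)) ∨
      (T.w (u 0) = w ∧ T.w (u 1) = w ∧ T.w (u 2) = 2 * w ∧ T.w (u 3) = 2 * w ∧ T.a (u 0) (u 1) = w ∧ T.a (u 1) (u 2) = 2 * w ∧ T.a (u 2) (u 3) = 2 * w ∧ T.m (u 1) ≤ 2 * T.m (u 0) ∧ T.m (u 0) + 2 * T.m (u 2) ≤ 2 * T.m (u 1) ∧ T.m (u 1) + T.m (u 3) ≤ 2 * T.m (u 2) ∧ T.m (u 2) ≤ 2 * T.m (u 3))) := by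
  have z0_2 := NumC4_z0_2 T hn v hv h01 h12 h23
  have z0_3 := NumC4_z0_3 T hn v hv h01 h12 h23
  have z1_3 := NumC4_z1_3 T hn v hv h01 h12 h23
  have x4_0 := NumC4_x4_0 T hn v hv h01 h12 h23
  have x4_1 := NumC4_x4_1 T hn v hv h01 h12 h23
  have x4_2 := NumC4_x4_2 T hn v hv h01 h12 h23
  have x3_0_0 := NumC4_x3_0_0 T hn v hv h01 h12 h23
  have x3_0_1 := NumC4_x3_0_1 T hn v hv h01 h12 h23
  have x3_1_1 := NumC4_x3_1_1 T hn v hv h01 h12 h23
  have x3_1_2 := NumC4_x3_1_2 T hn v hv h01 h12 h23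
  have x3_2_2 := NumC4_x3_2_2 T hn v hv h01 h12 h23
  have x3_2_3 := NumC4_x3_2_3 T hn v hv h01 h12 h23
  have s0 : (T.a (v 0) (v 1) = T.w (v 0) ∧ T.a (v 0) (v 1) = T.w (v 1)) ∨ (T.a (v 0) (v 1) = 2 * T.w (v 0) ∧ T.a (v 0) (v 1) = T.w (v 1)) ∨
      (T.a (v 0) (v 1) = T.w (v 0) ∧ T.a (v 0) (v 1) = 2 * T.w (v 1)) := by
    by_cases p : T.a (v 0) (v 1) = T.w (v 0)
    · by_cases q : T.a (v 0) (v 1) = T.w (v 1)
      · exact Or.inl ⟨p, q⟩
      · right; right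
        refine ⟨p, ?_⟩
        by_contra q2
        exact x3_0_1 (NT_edge_three' T (v.injective.ne (by decide)) h01 q q2)
    · by_cases q : T.a (v 0) (v 1) = T.w (v 1)
      · right; left
        refine ⟨?_, q⟩
        by_contra p2
        exact x3_0_0 (NT_edge_three T (v.injective.ne (by decide)) h01 p p2)
      · exact absurd ⟨NT_edge_two T (v.injective.ne (by decide)) h01 p, NT_edge_two' T (v.injective.ne (by decide)) h01 q⟩ x4_0
  have s1 : (T.a (v 1) (v 2) = T.w (v 1) ∧ T.a (v 1) (v 2) = T.w (v 2)) ∨ (T.a (v 1) (v 2) = 2 * T.w (v 1) ∧ T.a (v 1) (v 2) = T.w (v 2)) ∨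
      (T.a (v 1) (v 2) = T.w (v 1) ∧ T.a (v 1) (v 2) = 2 * T.w (v 2)) := by
    by_cases p : T.a (v 1) (v 2) = T.w (v 1)
    · by_cases q : T.a (v 1) (v 2) = T.w (v 2)
      · exact Or.inl ⟨p, q⟩
      · right; right
        refine ⟨p, ?_⟩
        by_contra q2
        exact x3_1_2 (NT_edge_three' T (v.injective.ne (by decide)) h12 q q2)
    · by_cases q : T.a (v 1) (v 2) = T.w (v 2)
      · right; left
        refine ⟨?_, q⟩
        by_contra p2
        exact x3_1_1 (NT_edge_three T (v.injective.ne (by decide)) h12 p p2)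
      · exact absurd ⟨NT_edge_two T (v.injective.ne (by decide)) h12 p, NT_edge_two' T (v.injective.ne (by decide)) h12 q⟩ x4_1
  have s2 : (T.a (v 2) (v 3) = T.w (v 2) ∧ T.a (v 2) (v 3) = T.w (v 3)) ∨ (T.a (v 2) (v 3) = 2 * T.w (v 2) ∧ T.a (v 2) (v 3) = T.w (v 3)) ∨
      (T.a (v 2) (v 3) = T.w (v 2) ∧ T.a (v 2) (v 3) = 2 * T.w (v 3)) := by
    by_cases p : T.a (v 2) (v 3) = T.w (v 2)
    · by_cases q : T.a (v 2) (v 3) = T.w (v 3)
      · exact Or.inl ⟨p, q⟩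
      · right; right
        refine ⟨p, ?_⟩
        by_contra q2
        exact x3_2_3 (NT_edge_three' T (v.injective.ne (by decide)) h23 q q2)
    · by_cases q : T.a (v 2) (v 3) = T.w (v 3)
      · right; left
        refine ⟨?_, q⟩
        by_contra p2
        exact x3_2_2 (NT_edge_three T (v.injective.ne (by decide)) h23 p p2)
      · exact absurd ⟨NT_edge_two T (v.injective.ne (by decide)) h23 p, NT_edge_two' T (v.injective.ne (by decide)) h23 q⟩ x4_2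
  have x2_01_01 := NumC4_x2_01_01 T hn v hv h01 h12 h23
  have x2_01_02 := NumC4_x2_01_02 T hn v hv h01 h12 h23
  have x2_01_11 := NumC4_x2_01_11 T hn v hv h01 h12 h23
  have x2_01_12 := NumC4_x2_01_12 T hn v hv h01 h12 h23
  have x2_02_02 := NumC4_x2_02_02 T hn v hv h01 h12 h23
  have x2_02_03 := NumC4_x2_02_03 T hn v hv h01 h12 h23
  have x2_02_12 := NumC4_x2_02_12 T hn v hv h01 h12 h23
  have x2_02_13 := NumC4_x2_02_13 T hn v hv h01 h12 h23
  have x2_12_12 := NumC4_x2_12_12 T hn v hv h01 h12 h23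
  have x2_12_13 := NumC4_x2_12_13 T hn v hv h01 h12 h23
  have x2_12_22 := NumC4_x2_12_22 T hn v hv h01 h12 h23
  have x2_12_23 := NumC4_x2_12_23 T hn v hv h01 h12 h23
  have r0 := NT_row_le T v 0
  have r1 := NT_row_le T v 1
  have r2 := NT_row_le T v 2
  have r3 := NT_row_le T v 3
  rw [Fin.sum_univ_four] at r0 r1 r2 r3
  have y0 := (hv 0).2
  have y1 := (hv 1).2
  have y2 := (hv 2).2
  have y3 := (hv 3).2
  have sy01 := NT_symm T (v 0) (v 1)
  have sy02 := NT_symm T (v 0) (v 2)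
  have sy03 := NT_symm T (v 0) (v 3)
  have sy12 := NT_symm T (v 1) (v 2)
  have sy13 := NT_symm T (v 1) (v 3)
  have sy23 := NT_symm T (v 2) (v 3)
  refine ⟨⟨z0_2, z0_3, z1_3⟩, ?_⟩
  rcases s0 with ⟨p0, q0⟩ | ⟨p0, q0⟩ | ⟨p0, q0⟩ <;> rcases s1 with ⟨p1, q1⟩ | ⟨p1, q1⟩ | ⟨p1, q1⟩ <;> rcases s2 with ⟨p2, q2⟩ | ⟨p2, q2⟩ | ⟨p2, q2⟩
  · have hw0 : T.w (v 0) = T.w (v 0) := by linarith only [p0, q0, p1, q1, p2, q2]
    have hw1 : T.w (v 1) = T.w (v 0) := by linarith only [p0, q0, p1, q1, p2, q2]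
    have hw2 : T.w (v 2) = T.w (v 0) := by linarith only [p0, q0, p1, q1, p2, q2]
    have hw3 : T.w (v 3) = T.w (v 0) := by linarith only [p0, q0, p1, q1, p2, q2]
    have E0_0 : T.a (v 0) (v 0) = -2 * T.w (v 0) := by linarith only [y0, hw0]
    have E1_1 : T.a (v 1) (v 1) = -2 * T.w (v 0) := by linarith only [y1, hw1]
    have E2_2 : T.a (v 2) (v 2) = -2 * T.w (v 0) := by linarith only [y2, hw2]
    have E3_3 : T.a (v 3) (v 3) = -2 * T.w (v 0) := by linarith only [y3, hw3]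
    have E0_1 : T.a (v 0) (v 1) = T.w (v 0) := by linarith only [p0, q0, p1, q1, p2, q2, hw0, hw1, hw2, hw3, sy01]
    have E0_2 : T.a (v 0) (v 2) = 0 := by linarith only [z0_2, sy02]
    have E0_3 : T.a (v 0) (v 3) = 0 := by linarith only [z0_3, sy03]
    have E1_0 : T.a (v 1) (v 0) = T.w (v 0) := by linarith only [p0, q0, p1, q1, p2, q2, hw0, hw1, hw2, hw3, sy01]
    have E1_2 : T.a (v 1) (v 2) = T.w (v 0) := by linarith only [p0, q0, p1, q1, p2, q2, hw0, hw1, hw2, hw3, sy12]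
    have E1_3 : T.a (v 1) (v 3) = 0 := by linarith only [z1_3, sy13]
    have E2_0 : T.a (v 2) (v 0) = 0 := by linarith only [z0_2, sy02]
    have E2_1 : T.a (v 2) (v 1) = T.w (v 0) := by linarith only [p0, q0, p1, q1, p2, q2, hw0, hw1, hw2, hw3, sy12]
    have E2_3 : T.a (v 2) (v 3) = T.w (v 0) := by linarith only [p0, q0, p1, q1, p2, q2, hw0, hw1, hw2, hw3, sy23]
    have E3_0 : T.a (v 3) (v 0) = 0 := by linarith only [z0_3, sy03]
    have E3_1 : T.a (v 3) (v 1) = 0 := by linarith only [z1_3, sy13]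
    have E3_2 : T.a (v 3) (v 2) = T.w (v 0) := by linarith only [p0, q0, p1, q1, p2, q2, hw0, hw1, hw2, hw3, sy23]
    rw [E0_0, E0_1, E0_2, E0_3] at r0
    rw [E1_0, E1_1, E1_2, E1_3] at r1
    rw [E2_0, E2_1, E2_2, E2_3] at r2
    rw [E3_0, E3_1, E3_2, E3_3] at r3
    have c_w0 : T.w (v 0) = T.w (v 0) := by linarith only [hw0]
    have c_w1 : T.w (v 1) = T.w (v 0) := by linarith only [hw1]
    have c_w2 : T.w (v 2) = T.w (v 0) := by linarith only [hw2]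
    have c_w3 : T.w (v 3) = T.w (v 0) := by linarith only [hw3]
    have c_a0 : T.a (v 0) (v 1) = T.w (v 0) := by linarith only [E0_1]
    have c_a1 : T.a (v 1) (v 2) = T.w (v 0) := by linarith only [E1_2]
    have c_a2 : T.a (v 2) (v 3) = T.w (v 0) := by linarith only [E2_3]
    have c_m0 : T.m (v 1) ≤ 2 * T.m (v 0) := by
      have h' : T.w (v 0) * (T.m (v 1)) ≤ T.w (v 0) * (2 * T.m (v 0)) := by linarith only [r0]
      exact le_of_mul_le_mul_left h' (T.w_pos _)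
    have c_m1 : T.m (v 0) + T.m (v 2) ≤ 2 * T.m (v 1) := by
      have h' : T.w (v 0) * (T.m (v 0) + T.m (v 2)) ≤ T.w (v 0) * (2 * T.m (v 1)) := by linarith only [r1]
      exact le_of_mul_le_mul_left h' (T.w_pos _)
    have c_m2 : T.m (v 1) + T.m (v 3) ≤ 2 * T.m (v 2) := by
      have h' : T.w (v 0) * (T.m (v 1) + T.m (v 3)) ≤ T.w (v 0) * (2 * T.m (v 2)) := by linarith only [r2]
      exact le_of_mul_le_mul_left h' (T.w_pos _)
    have c_m3 : T.m (v 2) ≤ 2 * T.m (v 3) := by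
      have h' : T.w (v 0) * (T.m (v 2)) ≤ T.w (v 0) * (2 * T.m (v 3)) := by linarith only [r3]
      exact le_of_mul_le_mul_left h' (T.w_pos _)
    exact ⟨fun j => v j, T.w (v 0), Or.inl (fun _ => rfl), Or.inl ⟨c_w0, c_w1, c_w2, c_w3, c_a0, c_a1, c_a2, c_m0, c_m1, c_m2, c_m3⟩⟩
  · have hw0 : T.w (v 0) = T.w (v 0) := by linarith only [p0, q0, p1, q1, p2, q2]
    have hw1 : T.w (v 1) = T.w (v 0) := by linarith only [p0, q0, p1, q1, p2, q2]
    have hw2 : T.w (v 2) = T.w (v 0) := by linarith only [p0, q0, p1, q1, p2, q2]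
    have hw3 : T.w (v 3) = 2 * T.w (v 0) := by linarith only [p0, q0, p1, q1, p2, q2]
    have E0_0 : T.a (v 0) (v 0) = -2 * T.w (v 0) := by linarith only [y0, hw0]
    have E1_1 : T.a (v 1) (v 1) = -2 * T.w (v 0) := by linarith only [y1, hw1]
    have E2_2 : T.a (v 2) (v 2) = -2 * T.w (v 0) := by linarith only [y2, hw2]
    have E3_3 : T.a (v 3) (v 3) = -4 * T.w (v 0) := by linarith only [y3, hw3]
    have E0_1 : T.a (v 0) (v 1) = T.w (v 0) := by linarith only [p0, q0, p1, q1, p2, q2, hw0, hw1, hw2, hw3, sy01]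
    have E0_2 : T.a (v 0) (v 2) = 0 := by linarith only [z0_2, sy02]
    have E0_3 : T.a (v 0) (v 3) = 0 := by linarith only [z0_3, sy03]
    have E1_0 : T.a (v 1) (v 0) = T.w (v 0) := by linarith only [p0, q0, p1, q1, p2, q2, hw0, hw1, hw2, hw3, sy01]
    have E1_2 : T.a (v 1) (v 2) = T.w (v 0) := by linarith only [p0, q0, p1, q1, p2, q2, hw0, hw1, hw2, hw3, sy12]
    have E1_3 : T.a (v 1) (v 3) = 0 := by linarith only [z1_3, sy13]
    have E2_0 : T.a (v 2) (v 0) = 0 := by linarith only [z0_2, sy02]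
    have E2_1 : T.a (v 2) (v 1) = T.w (v 0) := by linarith only [p0, q0, p1, q1, p2, q2, hw0, hw1, hw2, hw3, sy12]
    have E2_3 : T.a (v 2) (v 3) = 2 * T.w (v 0) := by linarith only [p0, q0, p1, q1, p2, q2, hw0, hw1, hw2, hw3, sy23]
    have E3_0 : T.a (v 3) (v 0) = 0 := by linarith only [z0_3, sy03]
    have E3_1 : T.a (v 3) (v 1) = 0 := by linarith only [z1_3, sy13]
    have E3_2 : T.a (v 3) (v 2) = 2 * T.w (v 0) := by linarith only [p0, q0, p1, q1, p2, q2, hw0, hw1, hw2, hw3, sy23]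
    rw [E0_0, E0_1, E0_2, E0_3] at r0
    rw [E1_0, E1_1, E1_2, E1_3] at r1
    rw [E2_0, E2_1, E2_2, E2_3] at r2
    rw [E3_0, E3_1, E3_2, E3_3] at r3
    have c_w0 : T.w (v 0) = T.w (v 0) := by linarith only [hw0]
    have c_w1 : T.w (v 1) = T.w (v 0) := by linarith only [hw1]
    have c_w2 : T.w (v 2) = T.w (v 0) := by linarith only [hw2]
    have c_w3 : T.w (v 3) = 2 * T.w (v 0) := by linarith only [hw3]
    have c_a0 : T.a (v 0) (v 1) = T.w (v 0) := by linarith only [E0_1]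
    have c_a1 : T.a (v 1) (v 2) = T.w (v 0) := by linarith only [E1_2]
    have c_a2 : T.a (v 2) (v 3) = 2 * T.w (v 0) := by linarith only [E2_3]
    have c_m0 : T.m (v 1) ≤ 2 * T.m (v 0) := by
      have h' : T.w (v 0) * (T.m (v 1)) ≤ T.w (v 0) * (2 * T.m (v 0)) := by linarith only [r0]
      exact le_of_mul_le_mul_left h' (T.w_pos _)
    have c_m1 : T.m (v 0) + T.m (v 2) ≤ 2 * T.m (v 1) := by
      have h' : T.w (v 0) * (T.m (v 0) + T.m (v 2)) ≤ T.w (v 0) * (2 * T.m (v 1)) := by linarith only [r1]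
      exact le_of_mul_le_mul_left h' (T.w_pos _)
    have c_m2 : T.m (v 1) + 2 * T.m (v 3) ≤ 2 * T.m (v 2) := by
      have h' : T.w (v 0) * (T.m (v 1) + 2 * T.m (v 3)) ≤ T.w (v 0) * (2 * T.m (v 2)) := by linarith only [r2]
      exact le_of_mul_le_mul_left h' (T.w_pos _)
    have c_m3 : T.m (v 2) ≤ 2 * T.m (v 3) := by
      have h' : T.w (v 0) * (T.m (v 2)) ≤ T.w (v 0) * (2 * T.m (v 3)) := by linarith only [r3]
      exact le_of_mul_le_mul_left h' (T.w_pos _)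
    exact ⟨fun j => v j, T.w (v 0), Or.inl (fun _ => rfl), Or.inr (Or.inl ⟨c_w0, c_w1, c_w2, c_w3, c_a0, c_a1, c_a2, c_m0, c_m1, c_m2, c_m3⟩)⟩
  · have hw0 : T.w (v 0) = 2 * T.w (v 3) := by linarith only [p0, q0, p1, q1, p2, q2]
    have hw1 : T.w (v 1) = 2 * T.w (v 3) := by linarith only [p0, q0, p1, q1, p2, q2]
    have hw2 : T.w (v 2) = 2 * T.w (v 3) := by linarith only [p0, q0, p1, q1, p2, q2]
    have hw3 : T.w (v 3) = T.w (v 3) := by linarith only [p0, q0, p1, q1, p2, q2]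
    have E0_0 : T.a (v 0) (v 0) = -4 * T.w (v 3) := by linarith only [y0, hw0]
    have E1_1 : T.a (v 1) (v 1) = -4 * T.w (v 3) := by linarith only [y1, hw1]
    have E2_2 : T.a (v 2) (v 2) = -4 * T.w (v 3) := by linarith only [y2, hw2]
    have E3_3 : T.a (v 3) (v 3) = -2 * T.w (v 3) := by linarith only [y3, hw3]
    have E0_1 : T.a (v 0) (v 1) = 2 * T.w (v 3) := by linarith only [p0, q0, p1, q1, p2, q2, hw0, hw1, hw2, hw3, sy01]
    have E0_2 : T.a (v 0) (v 2) = 0 := by linarith only [z0_2, sy02]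
    have E0_3 : T.a (v 0) (v 3) = 0 := by linarith only [z0_3, sy03]
    have E1_0 : T.a (v 1) (v 0) = 2 * T.w (v 3) := by linarith only [p0, q0, p1, q1, p2, q2, hw0, hw1, hw2, hw3, sy01]
    have E1_2 : T.a (v 1) (v 2) = 2 * T.w (v 3) := by linarith only [p0, q0, p1, q1, p2, q2, hw0, hw1, hw2, hw3, sy12]
    have E1_3 : T.a (v 1) (v 3) = 0 := by linarith only [z1_3, sy13]
    have E2_0 : T.a (v 2) (v 0) = 0 := by linarith only [z0_2, sy02]
    have E2_1 : T.a (v 2) (v 1) = 2 * T.w (v 3) := by linarith only [p0, q0, p1, q1, p2, q2, hw0, hw1, hw2, hw3, sy12]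
    have E2_3 : T.a (v 2) (v 3) = 2 * T.w (v 3) := by linarith only [p0, q0, p1, q1, p2, q2, hw0, hw1, hw2, hw3, sy23]
    have E3_0 : T.a (v 3) (v 0) = 0 := by linarith only [z0_3, sy03]
    have E3_1 : T.a (v 3) (v 1) = 0 := by linarith only [z1_3, sy13]
    have E3_2 : T.a (v 3) (v 2) = 2 * T.w (v 3) := by linarith only [p0, q0, p1, q1, p2, q2, hw0, hw1, hw2, hw3, sy23]
    rw [E0_0, E0_1, E0_2, E0_3] at r0
    rw [E1_0, E1_1, E1_2, E1_3] at r1
    rw [E2_0, E2_1, E2_2, E2_3] at r2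
    rw [E3_0, E3_1, E3_2, E3_3] at r3
    have c_w0 : T.w (v 0) = 2 * T.w (v 3) := by linarith only [hw0]
    have c_w1 : T.w (v 1) = 2 * T.w (v 3) := by linarith only [hw1]
    have c_w2 : T.w (v 2) = 2 * T.w (v 3) := by linarith only [hw2]
    have c_w3 : T.w (v 3) = T.w (v 3) := by linarith only [hw3]
    have c_a0 : T.a (v 0) (v 1) = 2 * T.w (v 3) := by linarith only [E0_1]
    have c_a1 : T.a (v 1) (v 2) = 2 * T.w (v 3) := by linarith only [E1_2]
    have c_a2 : T.a (v 2) (v 3) = 2 * T.w (v 3) := by linarith only [E2_3]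
    have c_m0 : T.m (v 1) ≤ 2 * T.m (v 0) := by
      have h' : T.w (v 3) * (T.m (v 1)) ≤ T.w (v 3) * (2 * T.m (v 0)) := by linarith only [r0]
      exact le_of_mul_le_mul_left h' (T.w_pos _)
    have c_m1 : T.m (v 0) + T.m (v 2) ≤ 2 * T.m (v 1) := by
      have h' : T.w (v 3) * (T.m (v 0) + T.m (v 2)) ≤ T.w (v 3) * (2 * T.m (v 1)) := by linarith only [r1]
      exact le_of_mul_le_mul_left h' (T.w_pos _)
    have c_m2 : T.m (v 1) + T.m (v 3) ≤ 2 * T.m (v 2) := by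
      have h' : T.w (v 3) * (T.m (v 1) + T.m (v 3)) ≤ T.w (v 3) * (2 * T.m (v 2)) := by linarith only [r2]
      exact le_of_mul_le_mul_left h' (T.w_pos _)
    have c_m3 : T.m (v 2) ≤ T.m (v 3) := by
      have h' : T.w (v 3) * (T.m (v 2)) ≤ T.w (v 3) * (T.m (v 3)) := by linarith only [r3]
      exact le_of_mul_le_mul_left h' (T.w_pos _)
    exact ⟨fun j => v j, T.w (v 3), Or.inl (fun _ => rfl), Or.inr (Or.inr (Or.inl ⟨c_w0, c_w1, c_w2, c_w3, c_a0, c_a1, c_a2, c_m0, c_m1, c_m2, c_m3⟩))⟩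
  · have hw0 : T.w (v 0) = T.w (v 0) := by linarith only [p0, q0, p1, q1, p2, q2]
    have hw1 : T.w (v 1) = T.w (v 0) := by linarith only [p0, q0, p1, q1, p2, q2]
    have hw2 : T.w (v 2) = 2 * T.w (v 0) := by linarith only [p0, q0, p1, q1, p2, q2]
    have hw3 : T.w (v 3) = 2 * T.w (v 0) := by linarith only [p0, q0, p1, q1, p2, q2]
    have E0_0 : T.a (v 0) (v 0) = -2 * T.w (v 0) := by linarith only [y0, hw0]
    have E1_1 : T.a (v 1) (v 1) = -2 * T.w (v 0) := by linarith only [y1, hw1]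
    have E2_2 : T.a (v 2) (v 2) = -4 * T.w (v 0) := by linarith only [y2, hw2]
    have E3_3 : T.a (v 3) (v 3) = -4 * T.w (v 0) := by linarith only [y3, hw3]
    have E0_1 : T.a (v 0) (v 1) = T.w (v 0) := by linarith only [p0, q0, p1, q1, p2, q2, hw0, hw1, hw2, hw3, sy01]
    have E0_2 : T.a (v 0) (v 2) = 0 := by linarith only [z0_2, sy02]
    have E0_3 : T.a (v 0) (v 3) = 0 := by linarith only [z0_3, sy03]
    have E1_0 : T.a (v 1) (v 0) = T.w (v 0) := by linarith only [p0, q0, p1, q1, p2, q2, hw0, hw1, hw2, hw3, sy01]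
    have E1_2 : T.a (v 1) (v 2) = 2 * T.w (v 0) := by linarith only [p0, q0, p1, q1, p2, q2, hw0, hw1, hw2, hw3, sy12]
    have E1_3 : T.a (v 1) (v 3) = 0 := by linarith only [z1_3, sy13]
    have E2_0 : T.a (v 2) (v 0) = 0 := by linarith only [z0_2, sy02]
    have E2_1 : T.a (v 2) (v 1) = 2 * T.w (v 0) := by linarith only [p0, q0, p1, q1, p2, q2, hw0, hw1, hw2, hw3, sy12]
    have E2_3 : T.a (v 2) (v 3) = 2 * T.w (v 0) := by linarith only [p0, q0, p1, q1, p2, q2, hw0, hw1, hw2, hw3, sy23]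
    have E3_0 : T.a (v 3) (v 0) = 0 := by linarith only [z0_3, sy03]
    have E3_1 : T.a (v 3) (v 1) = 0 := by linarith only [z1_3, sy13]
    have E3_2 : T.a (v 3) (v 2) = 2 * T.w (v 0) := by linarith only [p0, q0, p1, q1, p2, q2, hw0, hw1, hw2, hw3, sy23]
    rw [E0_0, E0_1, E0_2, E0_3] at r0
    rw [E1_0, E1_1, E1_2, E1_3] at r1
    rw [E2_0, E2_1, E2_2, E2_3] at r2
    rw [E3_0, E3_1, E3_2, E3_3] at r3
    have c_w0 : T.w (v 0) = T.w (v 0) := by linarith only [hw0]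
    have c_w1 : T.w (v 1) = T.w (v 0) := by linarith only [hw1]
    have c_w2 : T.w (v 2) = 2 * T.w (v 0) := by linarith only [hw2]
    have c_w3 : T.w (v 3) = 2 * T.w (v 0) := by linarith only [hw3]
    have c_a0 : T.a (v 0) (v 1) = T.w (v 0) := by linarith only [E0_1]
    have c_a1 : T.a (v 1) (v 2) = 2 * T.w (v 0) := by linarith only [E1_2]
    have c_a2 : T.a (v 2) (v 3) = 2 * T.w (v 0) := by linarith only [E2_3]
    have c_m0 : T.m (v 1) ≤ 2 * T.m (v 0) := by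
      have h' : T.w (v 0) * (T.m (v 1)) ≤ T.w (v 0) * (2 * T.m (v 0)) := by linarith only [r0]
      exact le_of_mul_le_mul_left h' (T.w_pos _)
    have c_m1 : T.m (v 0) + 2 * T.m (v 2) ≤ 2 * T.m (v 1) := by
      have h' : T.w (v 0) * (T.m (v 0) + 2 * T.m (v 2)) ≤ T.w (v 0) * (2 * T.m (v 1)) := by linarith only [r1]
      exact le_of_mul_le_mul_left h' (T.w_pos _)
    have c_m2 : T.m (v 1) + T.m (v 3) ≤ 2 * T.m (v 2) := by
      have h' : T.w (v 0) * (T.m (v 1) + T.m (v 3)) ≤ T.w (v 0) * (2 * T.m (v 2)) := by linarith only [r2]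
      exact le_of_mul_le_mul_left h' (T.w_pos _)
    have c_m3 : T.m (v 2) ≤ 2 * T.m (v 3) := by
      have h' : T.w (v 0) * (T.m (v 2)) ≤ T.w (v 0) * (2 * T.m (v 3)) := by linarith only [r3]
      exact le_of_mul_le_mul_left h' (T.w_pos _)
    exact ⟨fun j => v j, T.w (v 0), Or.inl (fun _ => rfl), Or.inr (Or.inr (Or.inr (⟨c_w0, c_w1, c_w2, c_w3, c_a0, c_a1, c_a2, c_m0, c_m1, c_m2, c_m3⟩)))⟩
  · exact absurd ⟨by linarith only [p1, q1], by linarith only [p2, q2]⟩ x2_12_12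
  · exact absurd ⟨by linarith only [p1, q1], by linarith only [p2, q2]⟩ x2_12_13
  · have hw0 : T.w (v 0) = 2 * T.w (v 2) := by linarith only [p0, q0, p1, q1, p2, q2]
    have hw1 : T.w (v 1) = 2 * T.w (v 2) := by linarith only [p0, q0, p1, q1, p2, q2]
    have hw2 : T.w (v 2) = T.w (v 2) := by linarith only [p0, q0, p1, q1, p2, q2]
    have hw3 : T.w (v 3) = T.w (v 2) := by linarith only [p0, q0, p1, q1, p2, q2]
    have E0_0 : T.a (v 0) (v 0) = -4 * T.w (v 2) := by linarith only [y0, hw0]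
    have E1_1 : T.a (v 1) (v 1) = -4 * T.w (v 2) := by linarith only [y1, hw1]
    have E2_2 : T.a (v 2) (v 2) = -2 * T.w (v 2) := by linarith only [y2, hw2]
    have E3_3 : T.a (v 3) (v 3) = -2 * T.w (v 2) := by linarith only [y3, hw3]
    have E0_1 : T.a (v 0) (v 1) = 2 * T.w (v 2) := by linarith only [p0, q0, p1, q1, p2, q2, hw0, hw1, hw2, hw3, sy01]
    have E0_2 : T.a (v 0) (v 2) = 0 := by linarith only [z0_2, sy02]
    have E0_3 : T.a (v 0) (v 3) = 0 := by linarith only [z0_3, sy03]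
    have E1_0 : T.a (v 1) (v 0) = 2 * T.w (v 2) := by linarith only [p0, q0, p1, q1, p2, q2, hw0, hw1, hw2, hw3, sy01]
    have E1_2 : T.a (v 1) (v 2) = 2 * T.w (v 2) := by linarith only [p0, q0, p1, q1, p2, q2, hw0, hw1, hw2, hw3, sy12]
    have E1_3 : T.a (v 1) (v 3) = 0 := by linarith only [z1_3, sy13]
    have E2_0 : T.a (v 2) (v 0) = 0 := by linarith only [z0_2, sy02]
    have E2_1 : T.a (v 2) (v 1) = 2 * T.w (v 2) := by linarith only [p0, q0, p1, q1, p2, q2, hw0, hw1, hw2, hw3, sy12]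
    have E2_3 : T.a (v 2) (v 3) = T.w (v 2) := by linarith only [p0, q0, p1, q1, p2, q2, hw0, hw1, hw2, hw3, sy23]
    have E3_0 : T.a (v 3) (v 0) = 0 := by linarith only [z0_3, sy03]
    have E3_1 : T.a (v 3) (v 1) = 0 := by linarith only [z1_3, sy13]
    have E3_2 : T.a (v 3) (v 2) = T.w (v 2) := by linarith only [p0, q0, p1, q1, p2, q2, hw0, hw1, hw2, hw3, sy23]
    rw [E0_0, E0_1, E0_2, E0_3] at r0
    rw [E1_0, E1_1, E1_2, E1_3] at r1
    rw [E2_0, E2_1, E2_2, E2_3] at r2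
    rw [E3_0, E3_1, E3_2, E3_3] at r3
    have c_w0 : T.w (v 3) = T.w (v 2) := by linarith only [hw3]
    have c_w1 : T.w (v 2) = T.w (v 2) := by linarith only [hw2]
    have c_w2 : T.w (v 1) = 2 * T.w (v 2) := by linarith only [hw1]
    have c_w3 : T.w (v 0) = 2 * T.w (v 2) := by linarith only [hw0]
    have c_a0 : T.a (v 3) (v 2) = T.w (v 2) := by linarith only [E3_2]
    have c_a1 : T.a (v 2) (v 1) = 2 * T.w (v 2) := by linarith only [E2_1]
    have c_a2 : T.a (v 1) (v 0) = 2 * T.w (v 2) := by linarith only [E1_0]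
    have c_m0 : T.m (v 2) ≤ 2 * T.m (v 3) := by
      have h' : T.w (v 2) * (T.m (v 2)) ≤ T.w (v 2) * (2 * T.m (v 3)) := by linarith only [r3]
      exact le_of_mul_le_mul_left h' (T.w_pos _)
    have c_m1 : T.m (v 3) + 2 * T.m (v 1) ≤ 2 * T.m (v 2) := by
      have h' : T.w (v 2) * (T.m (v 3) + 2 * T.m (v 1)) ≤ T.w (v 2) * (2 * T.m (v 2)) := by linarith only [r2]
      exact le_of_mul_le_mul_left h' (T.w_pos _)
    have c_m2 : T.m (v 2) + T.m (v 0) ≤ 2 * T.m (v 1) := by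
      have h' : T.w (v 2) * (T.m (v 2) + T.m (v 0)) ≤ T.w (v 2) * (2 * T.m (v 1)) := by linarith only [r1]
      exact le_of_mul_le_mul_left h' (T.w_pos _)
    have c_m3 : T.m (v 1) ≤ 2 * T.m (v 0) := by
      have h' : T.w (v 2) * (T.m (v 1)) ≤ T.w (v 2) * (2 * T.m (v 0)) := by linarith only [r0]
      exact le_of_mul_le_mul_left h' (T.w_pos _)
    exact ⟨fun j => v (Fin.rev j), T.w (v 2), Or.inr (fun _ => rfl), Or.inr (Or.inr (Or.inr (⟨c_w0, c_w1, c_w2, c_w3, c_a0, c_a1, c_a2, c_m0, c_m1, c_m2, c_m3⟩)))⟩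
  · exact absurd ⟨by linarith only [p1, q1], by linarith only [p2, q2]⟩ x2_12_22
  · exact absurd ⟨by linarith only [p1, q1], by linarith only [p2, q2]⟩ x2_12_23
  · have hw0 : T.w (v 0) = T.w (v 0) := by linarith only [p0, q0, p1, q1, p2, q2]
    have hw1 : T.w (v 1) = 2 * T.w (v 0) := by linarith only [p0, q0, p1, q1, p2, q2]
    have hw2 : T.w (v 2) = 2 * T.w (v 0) := by linarith only [p0, q0, p1, q1, p2, q2]
    have hw3 : T.w (v 3) = 2 * T.w (v 0) := by linarith only [p0, q0, p1, q1, p2, q2]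
    have E0_0 : T.a (v 0) (v 0) = -2 * T.w (v 0) := by linarith only [y0, hw0]
    have E1_1 : T.a (v 1) (v 1) = -4 * T.w (v 0) := by linarith only [y1, hw1]
    have E2_2 : T.a (v 2) (v 2) = -4 * T.w (v 0) := by linarith only [y2, hw2]
    have E3_3 : T.a (v 3) (v 3) = -4 * T.w (v 0) := by linarith only [y3, hw3]
    have E0_1 : T.a (v 0) (v 1) = 2 * T.w (v 0) := by linarith only [p0, q0, p1, q1, p2, q2, hw0, hw1, hw2, hw3, sy01]
    have E0_2 : T.a (v 0) (v 2) = 0 := by linarith only [z0_2, sy02]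
    have E0_3 : T.a (v 0) (v 3) = 0 := by linarith only [z0_3, sy03]
    have E1_0 : T.a (v 1) (v 0) = 2 * T.w (v 0) := by linarith only [p0, q0, p1, q1, p2, q2, hw0, hw1, hw2, hw3, sy01]
    have E1_2 : T.a (v 1) (v 2) = 2 * T.w (v 0) := by linarith only [p0, q0, p1, q1, p2, q2, hw0, hw1, hw2, hw3, sy12]
    have E1_3 : T.a (v 1) (v 3) = 0 := by linarith only [z1_3, sy13]
    have E2_0 : T.a (v 2) (v 0) = 0 := by linarith only [z0_2, sy02]
    have E2_1 : T.a (v 2) (v 1) = 2 * T.w (v 0) := by linarith only [p0, q0, p1, q1, p2, q2, hw0, hw1, hw2, hw3, sy12]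
    have E2_3 : T.a (v 2) (v 3) = 2 * T.w (v 0) := by linarith only [p0, q0, p1, q1, p2, q2, hw0, hw1, hw2, hw3, sy23]
    have E3_0 : T.a (v 3) (v 0) = 0 := by linarith only [z0_3, sy03]
    have E3_1 : T.a (v 3) (v 1) = 0 := by linarith only [z1_3, sy13]
    have E3_2 : T.a (v 3) (v 2) = 2 * T.w (v 0) := by linarith only [p0, q0, p1, q1, p2, q2, hw0, hw1, hw2, hw3, sy23]
    rw [E0_0, E0_1, E0_2, E0_3] at r0
    rw [E1_0, E1_1, E1_2, E1_3] at r1
    rw [E2_0, E2_1, E2_2, E2_3] at r2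
    rw [E3_0, E3_1, E3_2, E3_3] at r3
    have c_w0 : T.w (v 3) = 2 * T.w (v 0) := by linarith only [hw3]
    have c_w1 : T.w (v 2) = 2 * T.w (v 0) := by linarith only [hw2]
    have c_w2 : T.w (v 1) = 2 * T.w (v 0) := by linarith only [hw1]
    have c_w3 : T.w (v 0) = T.w (v 0) := by linarith only [hw0]
    have c_a0 : T.a (v 3) (v 2) = 2 * T.w (v 0) := by linarith only [E3_2]
    have c_a1 : T.a (v 2) (v 1) = 2 * T.w (v 0) := by linarith only [E2_1]
    have c_a2 : T.a (v 1) (v 0) = 2 * T.w (v 0) := by linarith only [E1_0]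
    have c_m0 : T.m (v 2) ≤ 2 * T.m (v 3) := by
      have h' : T.w (v 0) * (T.m (v 2)) ≤ T.w (v 0) * (2 * T.m (v 3)) := by linarith only [r3]
      exact le_of_mul_le_mul_left h' (T.w_pos _)
    have c_m1 : T.m (v 3) + T.m (v 1) ≤ 2 * T.m (v 2) := by
      have h' : T.w (v 0) * (T.m (v 3) + T.m (v 1)) ≤ T.w (v 0) * (2 * T.m (v 2)) := by linarith only [r2]
      exact le_of_mul_le_mul_left h' (T.w_pos _)
    have c_m2 : T.m (v 2) + T.m (v 0) ≤ 2 * T.m (v 1) := by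
      have h' : T.w (v 0) * (T.m (v 2) + T.m (v 0)) ≤ T.w (v 0) * (2 * T.m (v 1)) := by linarith only [r1]
      exact le_of_mul_le_mul_left h' (T.w_pos _)
    have c_m3 : T.m (v 1) ≤ T.m (v 0) := by
      have h' : T.w (v 0) * (T.m (v 1)) ≤ T.w (v 0) * (T.m (v 0)) := by linarith only [r0]
      exact le_of_mul_le_mul_left h' (T.w_pos _)
    exact ⟨fun j => v (Fin.rev j), T.w (v 0), Or.inr (fun _ => rfl), Or.inr (Or.inr (Or.inl ⟨c_w0, c_w1, c_w2, c_w3, c_a0, c_a1, c_a2, c_m0, c_m1, c_m2, c_m3⟩))⟩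
  · exact absurd ⟨by linarith only [p0, q0], by linarith only [p2, q2]⟩ x2_02_02
  · exact absurd ⟨by linarith only [p0, q0], by linarith only [p2, q2]⟩ x2_02_03
  · exact absurd ⟨by linarith only [p0, q0], by linarith only [p1, q1]⟩ x2_01_01
  · exact absurd ⟨by linarith only [p0, q0], by linarith only [p1, q1]⟩ x2_01_01
  · exact absurd ⟨by linarith only [p0, q0], by linarith only [p1, q1]⟩ x2_01_01
  · exact absurd ⟨by linarith only [p0, q0], by linarith only [p1, q1]⟩ x2_01_02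
  · exact absurd ⟨by linarith only [p0, q0], by linarith only [p1, q1]⟩ x2_01_02
  · exact absurd ⟨by linarith only [p0, q0], by linarith only [p1, q1]⟩ x2_01_02
  · have hw0 : T.w (v 0) = 2 * T.w (v 1) := by linarith only [p0, q0, p1, q1, p2, q2]
    have hw1 : T.w (v 1) = T.w (v 1) := by linarith only [p0, q0, p1, q1, p2, q2]
    have hw2 : T.w (v 2) = T.w (v 1) := by linarith only [p0, q0, p1, q1, p2, q2]
    have hw3 : T.w (v 3) = T.w (v 1) := by linarith only [p0, q0, p1, q1, p2, q2]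
    have E0_0 : T.a (v 0) (v 0) = -4 * T.w (v 1) := by linarith only [y0, hw0]
    have E1_1 : T.a (v 1) (v 1) = -2 * T.w (v 1) := by linarith only [y1, hw1]
    have E2_2 : T.a (v 2) (v 2) = -2 * T.w (v 1) := by linarith only [y2, hw2]
    have E3_3 : T.a (v 3) (v 3) = -2 * T.w (v 1) := by linarith only [y3, hw3]
    have E0_1 : T.a (v 0) (v 1) = 2 * T.w (v 1) := by linarith only [p0, q0, p1, q1, p2, q2, hw0, hw1, hw2, hw3, sy01]
    have E0_2 : T.a (v 0) (v 2) = 0 := by linarith only [z0_2, sy02]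
    have E0_3 : T.a (v 0) (v 3) = 0 := by linarith only [z0_3, sy03]
    have E1_0 : T.a (v 1) (v 0) = 2 * T.w (v 1) := by linarith only [p0, q0, p1, q1, p2, q2, hw0, hw1, hw2, hw3, sy01]
    have E1_2 : T.a (v 1) (v 2) = T.w (v 1) := by linarith only [p0, q0, p1, q1, p2, q2, hw0, hw1, hw2, hw3, sy12]
    have E1_3 : T.a (v 1) (v 3) = 0 := by linarith only [z1_3, sy13]
    have E2_0 : T.a (v 2) (v 0) = 0 := by linarith only [z0_2, sy02]
    have E2_1 : T.a (v 2) (v 1) = T.w (v 1) := by linarith only [p0, q0, p1, q1, p2, q2, hw0, hw1, hw2, hw3, sy12]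
    have E2_3 : T.a (v 2) (v 3) = T.w (v 1) := by linarith only [p0, q0, p1, q1, p2, q2, hw0, hw1, hw2, hw3, sy23]
    have E3_0 : T.a (v 3) (v 0) = 0 := by linarith only [z0_3, sy03]
    have E3_1 : T.a (v 3) (v 1) = 0 := by linarith only [z1_3, sy13]
    have E3_2 : T.a (v 3) (v 2) = T.w (v 1) := by linarith only [p0, q0, p1, q1, p2, q2, hw0, hw1, hw2, hw3, sy23]
    rw [E0_0, E0_1, E0_2, E0_3] at r0
    rw [E1_0, E1_1, E1_2, E1_3] at r1
    rw [E2_0, E2_1, E2_2, E2_3] at r2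
    rw [E3_0, E3_1, E3_2, E3_3] at r3
    have c_w0 : T.w (v 3) = T.w (v 1) := by linarith only [hw3]
    have c_w1 : T.w (v 2) = T.w (v 1) := by linarith only [hw2]
    have c_w2 : T.w (v 1) = T.w (v 1) := by linarith only [hw1]
    have c_w3 : T.w (v 0) = 2 * T.w (v 1) := by linarith only [hw0]
    have c_a0 : T.a (v 3) (v 2) = T.w (v 1) := by linarith only [E3_2]
    have c_a1 : T.a (v 2) (v 1) = T.w (v 1) := by linarith only [E2_1]
    have c_a2 : T.a (v 1) (v 0) = 2 * T.w (v 1) := by linarith only [E1_0]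
    have c_m0 : T.m (v 2) ≤ 2 * T.m (v 3) := by
      have h' : T.w (v 1) * (T.m (v 2)) ≤ T.w (v 1) * (2 * T.m (v 3)) := by linarith only [r3]
      exact le_of_mul_le_mul_left h' (T.w_pos _)
    have c_m1 : T.m (v 3) + T.m (v 1) ≤ 2 * T.m (v 2) := by
      have h' : T.w (v 1) * (T.m (v 3) + T.m (v 1)) ≤ T.w (v 1) * (2 * T.m (v 2)) := by linarith only [r2]
      exact le_of_mul_le_mul_left h' (T.w_pos _)
    have c_m2 : T.m (v 2) + 2 * T.m (v 0) ≤ 2 * T.m (v 1) := by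
      have h' : T.w (v 1) * (T.m (v 2) + 2 * T.m (v 0)) ≤ T.w (v 1) * (2 * T.m (v 1)) := by linarith only [r1]
      exact le_of_mul_le_mul_left h' (T.w_pos _)
    have c_m3 : T.m (v 1) ≤ 2 * T.m (v 0) := by
      have h' : T.w (v 1) * (T.m (v 1)) ≤ T.w (v 1) * (2 * T.m (v 0)) := by linarith only [r0]
      exact le_of_mul_le_mul_left h' (T.w_pos _)
    exact ⟨fun j => v (Fin.rev j), T.w (v 1), Or.inr (fun _ => rfl), Or.inr (Or.inl ⟨c_w0, c_w1, c_w2, c_w3, c_a0, c_a1, c_a2, c_m0, c_m1, c_m2, c_m3⟩)⟩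
  · exact absurd ⟨by linarith only [p0, q0], by linarith only [p2, q2]⟩ x2_02_12
  · exact absurd ⟨by linarith only [p0, q0], by linarith only [p2, q2]⟩ x2_02_13
  · exact absurd ⟨by linarith only [p0, q0], by linarith only [p1, q1]⟩ x2_01_11
  · exact absurd ⟨by linarith only [p0, q0], by linarith only [p1, q1]⟩ x2_01_11
  · exact absurd ⟨by linarith only [p0, q0], by linarith only [p1, q1]⟩ x2_01_11
  · exact absurd ⟨by linarith only [p0, q0], by linarith only [p1, q1]⟩ x2_01_12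
  · exact absurd ⟨by linarith only [p0, q0], by linarith only [p1, q1]⟩ x2_01_12
  · exact absurd ⟨by linarith only [p0, q0], by linarith only [p1, q1]⟩ x2_01_12

end Groth.Agent.S7352
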