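import Groth.Statements.S7353
import Groth.Agent.Lib.Helper11.NumC5a
import Groth.Agent.Lib.Helper11.NumC5b
import Groth.Agent.Lib.Helper11.NumC5c
import Groth.Agent.Lib.Helper11.NumC5d
import Groth.Agent.Lib.Helper11.NumC5e

set_option autoImplicit false
open Finset
open Models Models.NumericalType

namespace Groth.Agent.S7353

open Groth.Agent.Helper11

/-- Classification of proper subgraphs which are chains of five vertices: let T be a numerical type on n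
> 5 indices and i_1, …, i_5 distinct (-2)-indices with a_{i_j i_{j+1}} nonzero for j < 5. Then
a_{i_j i_l} = 0 for |j - l| ≥ 2 and, after possibly reversing the order of the indices, for some
integer w one of the following holds: (A5) w = (w, w, w, w, w), consecutive a = (w, w, w, w), with
2m_1 ≥ m_2, 2m_2 ≥ m_1 + m_3, 2m_3 ≥ m_2 + m_4, 2m_4 ≥ m_3 + m_5, 2m_5 ≥ m_4; (C5) w = (w, w, w, w,
2w), consecutive a = (w, w, w, 2w), with 2m_1 ≥ m_2, 2m_2 ≥ m_1 + m_3, 2m_3 ≥ m_2 + m_4, 2m_4 ≥ m_3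
+ 2m_5, 2m_5 ≥ m_4; (B5) w = (2w, 2w, 2w, 2w, w), consecutive a = (2w, 2w, 2w, 2w), with 2m_1 ≥ m_2,
2m_2 ≥ m_1 + m_3, 2m_3 ≥ m_2 + m_4, 2m_4 ≥ m_3 + m_5, m_5 ≥ m_4. (The inequalities are those given
by the rows Σ_l a_{kl} m_l = 0 of the displayed matrices; the published text has 2m_3 ≥ m_2 + 2m_4
and 2m_4 ≥ m_3 + m_5 in case C5 and m_4 ≥ m_3 in case B5, of which the first does not follow — for
the numerical type with six indices, weights (1,1,1,1,2,1), chain intersection numbers (1,1,1,2)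
plus a_{16} = 1, a_{66} = -1 and multiplicities (2,2,2,2,1,2) one has 2m_3 = 4 < m_2 + 2m_4 = 6 — so
the matrix inequalities are stated.) -/
theorem result {n : ℕ} (T : Models.NumericalType n) (hn : 5 < n)
    (v : Fin 5 ↪ Fin n) (hv : ∀ j, T.IsMinusTwo (v j)) (h01 : T.a (v 0) (v 1) ≠ 0) (h12 : T.a (v 1) (v 2) ≠ 0) (h23 : T.a (v 2) (v 3) ≠ 0) (h34 : T.a (v 3) (v 4) ≠ 0) :
    (T.a (v 0) (v 2) = 0 ∧ T.a (v 0) (v 3) = 0 ∧ T.a (v 0) (v 4) = 0 ∧ T.a (v 1) (v 3) = 0 ∧ T.a (v 1) (v 4) = 0 ∧ T.a (v 2) (v 4) = 0) ∧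
    ∃ (u : Fin 5 → Fin n) (w : ℤ), ((∀ j, u j = v j) ∨ (∀ j, u j = v (Fin.rev j))) ∧
      ((T.w (u 0) = w ∧ T.w (u 1) = w ∧ T.w (u 2) = w ∧ T.w (u 3) = w ∧ T.w (u 4) = w ∧ T.a (u 0) (u 1) = w ∧ T.a (u 1) (u 2) = w ∧ T.a (u 2) (u 3) = w ∧ T.a (u 3) (u 4) = w ∧ T.m (u 1) ≤ 2 * T.m (u 0) ∧ T.m (u 0) + T.m (u 2) ≤ 2 * T.m (u 1) ∧ T.m (u 1) + T.m (u 3) ≤ 2 * T.m (u 2) ∧ T.m (u 2) + T.m (u 4) ≤ 2 * T.m (u 3) ∧ T.m (u 3) ≤ 2 * T.m (u 4)) ∨
      (T.w (u 0) = w ∧ T.w (u 1) = w ∧ T.w (u 2) = w ∧ T.w (u 3) = w ∧ T.w (u 4) = 2 * w ∧ T.a (u 0) (u 1) = w ∧ T.a (u 1) (u 2) = w ∧ T.a (u 2) (u 3) = w ∧ T.a (u 3) (u 4) = 2 * w ∧ T.m (u 1) ≤ 2 * T.m (u 0) ∧ T.m (u 0) + T.m (u 2) ≤ 2 * T.m (u 1) ∧ T.m (u 1) + T.m (u 3) ≤ 2 * T.m (u 2) ∧ T.m (u 2) + 2 * T.m (u 4) ≤ 2 * T.m (u 3) ∧ T.m (u 3) ≤ 2 * T.m (u 4)) ∨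
      (T.w (u 0) = 2 * w ∧ T.w (u 1) = 2 * w ∧ T.w (u 2) = 2 * w ∧ T.w (u 3) = 2 * w ∧ T.w (u 4) = w ∧ T.a (u 0) (u 1) = 2 * w ∧ T.a (u 1) (u 2) = 2 * w ∧ T.a (u 2) (u 3) = 2 * w ∧ T.a (u 3) (u 4) = 2 * w ∧ T.m (u 1) ≤ 2 * T.m (u 0) ∧ T.m (u 0) + T.m (u 2) ≤ 2 * T.m (u 1) ∧ T.m (u 1) + T.m (u 3) ≤ 2 * T.m (u 2) ∧ T.m (u 2) + T.m (u 4) ≤ 2 * T.m (u 3) ∧ T.m (u 3) ≤ T.m (u 4))) := by
  have z0_2 := NumC5_z0_2 T hn v hv h01 h12 h23 h34
  have z0_3 := NumC5_z0_3 T hn v hv h01 h12 h23 h34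
  have z0_4 := NumC5_z0_4 T hn v hv h01 h12 h23 h34
  have z1_3 := NumC5_z1_3 T hn v hv h01 h12 h23 h34
  have z1_4 := NumC5_z1_4 T hn v hv h01 h12 h23 h34
  have z2_4 := NumC5_z2_4 T hn v hv h01 h12 h23 h34
  have x4_0 := NumC5_x4_0 T hn v hv h01 h12 h23 h34
  have x4_1 := NumC5_x4_1 T hn v hv h01 h12 h23 h34
  have x4_2 := NumC5_x4_2 T hn v hv h01 h12 h23 h34
  have x4_3 := NumC5_x4_3 T hn v hv h01 h12 h23 h34
  have x3_0_0 := NumC5_x3_0_0 T hn v hv h01 h12 h23 h34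
  have x3_0_1 := NumC5_x3_0_1 T hn v hv h01 h12 h23 h34
  have x3_1_1 := NumC5_x3_1_1 T hn v hv h01 h12 h23 h34
  have x3_1_2 := NumC5_x3_1_2 T hn v hv h01 h12 h23 h34
  have x3_2_2 := NumC5_x3_2_2 T hn v hv h01 h12 h23 h34
  have x3_2_3 := NumC5_x3_2_3 T hn v hv h01 h12 h23 h34
  have x3_3_3 := NumC5_x3_3_3 T hn v hv h01 h12 h23 h34
  have x3_3_4 := NumC5_x3_3_4 T hn v hv h01 h12 h23 h34
  have s0 : (T.a (v 0) (v 1) = T.w (v 0) ∧ T.a (v 0) (v 1) = T.w (v 1)) ∨ (T.a (v 0) (v 1) = 2 * T.w (v 0) ∧ T.a (v 0) (v 1) = T.w (v 1)) ∨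
      (T.a (v 0) (v 1) = T.w (v 0) ∧ T.a (v 0) (v 1) = 2 * T.w (v 1)) := by
    by_cases p : T.a (v 0) (v 1) = T.w (v 0)
    · by_cases q : T.a (v 0) (v 1) = T.w (v 1)
      · exact Or.inl ⟨p, q⟩
      · right; right
        refine ⟨p, ?_⟩
        by_contra q2
        exact x3_0_1 (NT_edge_three' T (v.injective.ne (by decide)) h01 q q2)
    · by_cases q : T.a (v 0) (v 1) = T.w (v 1)
      · right; left
        refine ⟨?_, q⟩
        by_contra p2
        exact x3_0_0 (NT_edge_three T (v.injective.ne (by decide)) h01 p p2)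
      · exact absurd ⟨NT_edge_two T (v.injective.ne (by decide)) h01 p, NT_edge_two' T (v.injective.ne (by decide)) h01 q⟩ x4_0
  have s1 : (T.a (v 1) (v 2) = T.w (v 1) ∧ T.a (v 1) (v 2) = T.w (v 2)) ∨ (T.a (v 1) (v 2) = 2 * T.w (v 1) ∧ T.a (v 1) (v 2) = T.w (v 2)) ∨
      (T.a (v 1) (v 2) = T.w (v 1) ∧ T.a (v 1) (v 2) = 2 * T.w (v 2)) := by
    by_cases p : T.a (v 1) (v 2) = T.w (v 1)
    · by_cases q : T.a (v 1) (v 2) = T.w (v 2)
      · exact Or.inl ⟨p, q⟩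
      · right; right
        refine ⟨p, ?_⟩
        by_contra q2
        exact x3_1_2 (NT_edge_three' T (v.injective.ne (by decide)) h12 q q2)
    · by_cases q : T.a (v 1) (v 2) = T.w (v 2)
      · right; left
        refine ⟨?_, q⟩
        by_contra p2
        exact x3_1_1 (NT_edge_three T (v.injective.ne (by decide)) h12 p p2)
      · exact absurd ⟨NT_edge_two T (v.injective.ne (by decide)) h12 p, NT_edge_two' T (v.injective.ne (by decide)) h12 q⟩ x4_1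
  have s2 : (T.a (v 2) (v 3) = T.w (v 2) ∧ T.a (v 2) (v 3) = T.w (v 3)) ∨ (T.a (v 2) (v 3) = 2 * T.w (v 2) ∧ T.a (v 2) (v 3) = T.w (v 3)) ∨
      (T.a (v 2) (v 3) = T.w (v 2) ∧ T.a (v 2) (v 3) = 2 * T.w (v 3)) := by
    by_cases p : T.a (v 2) (v 3) = T.w (v 2)
    · by_cases q : T.a (v 2) (v 3) = T.w (v 3)
      · exact Or.inl ⟨p, q⟩
      · right; right
        refine ⟨p, ?_⟩
        by_contra q2
        exact x3_2_3 (NT_edge_three' T (v.injective.ne (by decide)) h23 q q2)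
    · by_cases q : T.a (v 2) (v 3) = T.w (v 3)
      · right; left
        refine ⟨?_, q⟩
        by_contra p2
        exact x3_2_2 (NT_edge_three T (v.injective.ne (by decide)) h23 p p2)
      · exact absurd ⟨NT_edge_two T (v.injective.ne (by decide)) h23 p, NT_edge_two' T (v.injective.ne (by decide)) h23 q⟩ x4_2
  have s3 : (T.a (v 3) (v 4) = T.w (v 3) ∧ T.a (v 3) (v 4) = T.w (v 4)) ∨ (T.a (v 3) (v 4) = 2 * T.w (v 3) ∧ T.a (v 3) (v 4) = T.w (v 4)) ∨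
      (T.a (v 3) (v 4) = T.w (v 3) ∧ T.a (v 3) (v 4) = 2 * T.w (v 4)) := by
    by_cases p : T.a (v 3) (v 4) = T.w (v 3)
    · by_cases q : T.a (v 3) (v 4) = T.w (v 4)
      · exact Or.inl ⟨p, q⟩
      · right; right
        refine ⟨p, ?_⟩
        by_contra q2
        exact x3_3_4 (NT_edge_three' T (v.injective.ne (by decide)) h34 q q2)
    · by_cases q : T.a (v 3) (v 4) = T.w (v 4)
      · right; left
        refine ⟨?_, q⟩
        by_contra p2
        exact x3_3_3 (NT_edge_three T (v.injective.ne (by decide)) h34 p p2)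
      · exact absurd ⟨NT_edge_two T (v.injective.ne (by decide)) h34 p, NT_edge_two' T (v.injective.ne (by decide)) h34 q⟩ x4_3
  have xf_2_2 := NumC5_xf_2_2 T hn v hv h01 h12 h23 h34
  have xf_2_3 := NumC5_xf_2_3 T hn v hv h01 h12 h23 h34
  have xf_1_2 := NumC5_xf_1_2 T hn v hv h01 h12 h23 h34
  have xf_1_1 := NumC5_xf_1_1 T hn v hv h01 h12 h23 h34
  have simple1 : T.a (v 1) (v 2) = T.w (v 1) ∧ T.a (v 1) (v 2) = T.w (v 2) := by
    rcases s1 with h | ⟨p, q⟩ | ⟨p, q⟩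
    · exact h
    · exact absurd (by linarith only [p, q]) xf_1_1
    · exact absurd (by linarith only [p, q]) xf_1_2
  have simple2 : T.a (v 2) (v 3) = T.w (v 2) ∧ T.a (v 2) (v 3) = T.w (v 3) := by
    rcases s2 with h | ⟨p, q⟩ | ⟨p, q⟩
    · exact h
    · exact absurd (by linarith only [p, q]) xf_2_2
    · exact absurd (by linarith only [p, q]) xf_2_3
  have x2_03_03 := NumC5_x2_03_03 T hn v hv h01 h12 h23 h34
  have x2_03_04 := NumC5_x2_03_04 T hn v hv h01 h12 h23 h34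
  have x2_03_13 := NumC5_x2_03_13 T hn v hv h01 h12 h23 h34
  have x2_03_14 := NumC5_x2_03_14 T hn v hv h01 h12 h23 h34
  have r0 := NT_row_le T v 0
  have r1 := NT_row_le T v 1
  have r2 := NT_row_le T v 2
  have r3 := NT_row_le T v 3
  have r4 := NT_row_le T v 4
  rw [Fin.sum_univ_five] at r0 r1 r2 r3 r4
  have y0 := (hv 0).2
  have y1 := (hv 1).2
  have y2 := (hv 2).2
  have y3 := (hv 3).2
  have y4 := (hv 4).2
  have sy01 := NT_symm T (v 0) (v 1)
  have sy02 := NT_symm T (v 0) (v 2)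
  have sy03 := NT_symm T (v 0) (v 3)
  have sy04 := NT_symm T (v 0) (v 4)
  have sy12 := NT_symm T (v 1) (v 2)
  have sy13 := NT_symm T (v 1) (v 3)
  have sy14 := NT_symm T (v 1) (v 4)
  have sy23 := NT_symm T (v 2) (v 3)
  have sy24 := NT_symm T (v 2) (v 4)
  have sy34 := NT_symm T (v 3) (v 4)
  obtain ⟨p1, q1⟩ := simple1
  obtain ⟨p2, q2⟩ := simple2
  refine ⟨⟨z0_2, z0_3, z0_4, z1_3, z1_4, z2_4⟩, ?_⟩
  rcases s0 with ⟨p0, q0⟩ | ⟨p0, q0⟩ | ⟨p0, q0⟩ <;> rcases s3 with ⟨p3, q3⟩ | ⟨p3, q3⟩ | ⟨p3, q3⟩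
  · have hw0 : T.w (v 0) = T.w (v 0) := by linarith only [p0, q0, p1, q1, p2, q2, p3, q3]
    have hw1 : T.w (v 1) = T.w (v 0) := by linarith only [p0, q0, p1, q1, p2, q2, p3, q3]
    have hw2 : T.w (v 2) = T.w (v 0) := by linarith only [p0, q0, p1, q1, p2, q2, p3, q3]
    have hw3 : T.w (v 3) = T.w (v 0) := by linarith only [p0, q0, p1, q1, p2, q2, p3, q3]
    have hw4 : T.w (v 4) = T.w (v 0) := by linarith only [p0, q0, p1, q1, p2, q2, p3, q3]
    have E0_0 : T.a (v 0) (v 0) = -2 * T.w (v 0) := by linarith only [y0, hw0]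
    have E1_1 : T.a (v 1) (v 1) = -2 * T.w (v 0) := by linarith only [y1, hw1]
    have E2_2 : T.a (v 2) (v 2) = -2 * T.w (v 0) := by linarith only [y2, hw2]
    have E3_3 : T.a (v 3) (v 3) = -2 * T.w (v 0) := by linarith only [y3, hw3]
    have E4_4 : T.a (v 4) (v 4) = -2 * T.w (v 0) := by linarith only [y4, hw4]
    have E0_1 : T.a (v 0) (v 1) = T.w (v 0) := by linarith only [p0, q0, p1, q1, p2, q2, p3, q3, hw0, hw1, hw2, hw3, hw4, sy01]
    have E0_2 : T.a (v 0) (v 2) = 0 := by linarith only [z0_2, sy02]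
    have E0_3 : T.a (v 0) (v 3) = 0 := by linarith only [z0_3, sy03]
    have E0_4 : T.a (v 0) (v 4) = 0 := by linarith only [z0_4, sy04]
    have E1_0 : T.a (v 1) (v 0) = T.w (v 0) := by linarith only [p0, q0, p1, q1, p2, q2, p3, q3, hw0, hw1, hw2, hw3, hw4, sy01]
    have E1_2 : T.a (v 1) (v 2) = T.w (v 0) := by linarith only [p0, q0, p1, q1, p2, q2, p3, q3, hw0, hw1, hw2, hw3, hw4, sy12]
    have E1_3 : T.a (v 1) (v 3) = 0 := by linarith only [z1_3, sy13]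
    have E1_4 : T.a (v 1) (v 4) = 0 := by linarith only [z1_4, sy14]
    have E2_0 : T.a (v 2) (v 0) = 0 := by linarith only [z0_2, sy02]
    have E2_1 : T.a (v 2) (v 1) = T.w (v 0) := by linarith only [p0, q0, p1, q1, p2, q2, p3, q3, hw0, hw1, hw2, hw3, hw4, sy12]
    have E2_3 : T.a (v 2) (v 3) = T.w (v 0) := by linarith only [p0, q0, p1, q1, p2, q2, p3, q3, hw0, hw1, hw2, hw3, hw4, sy23]
    have E2_4 : T.a (v 2) (v 4) = 0 := by linarith only [z2_4, sy24]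
    have E3_0 : T.a (v 3) (v 0) = 0 := by linarith only [z0_3, sy03]
    have E3_1 : T.a (v 3) (v 1) = 0 := by linarith only [z1_3, sy13]
    have E3_2 : T.a (v 3) (v 2) = T.w (v 0) := by linarith only [p0, q0, p1, q1, p2, q2, p3, q3, hw0, hw1, hw2, hw3, hw4, sy23]
    have E3_4 : T.a (v 3) (v 4) = T.w (v 0) := by linarith only [p0, q0, p1, q1, p2, q2, p3, q3, hw0, hw1, hw2, hw3, hw4, sy34]
    have E4_0 : T.a (v 4) (v 0) = 0 := by linarith only [z0_4, sy04]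
    have E4_1 : T.a (v 4) (v 1) = 0 := by linarith only [z1_4, sy14]
    have E4_2 : T.a (v 4) (v 2) = 0 := by linarith only [z2_4, sy24]
    have E4_3 : T.a (v 4) (v 3) = T.w (v 0) := by linarith only [p0, q0, p1, q1, p2, q2, p3, q3, hw0, hw1, hw2, hw3, hw4, sy34]
    rw [E0_0, E0_1, E0_2, E0_3, E0_4] at r0
    rw [E1_0, E1_1, E1_2, E1_3, E1_4] at r1
    rw [E2_0, E2_1, E2_2, E2_3, E2_4] at r2
    rw [E3_0, E3_1, E3_2, E3_3, E3_4] at r3
    rw [E4_0, E4_1, E4_2, E4_3, E4_4] at r4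
    have c_w0 : T.w (v 0) = T.w (v 0) := by linarith only [hw0]
    have c_w1 : T.w (v 1) = T.w (v 0) := by linarith only [hw1]
    have c_w2 : T.w (v 2) = T.w (v 0) := by linarith only [hw2]
    have c_w3 : T.w (v 3) = T.w (v 0) := by linarith only [hw3]
    have c_w4 : T.w (v 4) = T.w (v 0) := by linarith only [hw4]
    have c_a0 : T.a (v 0) (v 1) = T.w (v 0) := by linarith only [E0_1]
    have c_a1 : T.a (v 1) (v 2) = T.w (v 0) := by linarith only [E1_2]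
    have c_a2 : T.a (v 2) (v 3) = T.w (v 0) := by linarith only [E2_3]
    have c_a3 : T.a (v 3) (v 4) = T.w (v 0) := by linarith only [E3_4]
    have c_m0 : T.m (v 1) ≤ 2 * T.m (v 0) := by
      have h' : T.w (v 0) * (T.m (v 1)) ≤ T.w (v 0) * (2 * T.m (v 0)) := by linarith only [r0]
      exact le_of_mul_le_mul_left h' (T.w_pos _)
    have c_m1 : T.m (v 0) + T.m (v 2) ≤ 2 * T.m (v 1) := by
      have h' : T.w (v 0) * (T.m (v 0) + T.m (v 2)) ≤ T.w (v 0) * (2 * T.m (v 1)) := by linarith only [r1]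
      exact le_of_mul_le_mul_left h' (T.w_pos _)
    have c_m2 : T.m (v 1) + T.m (v 3) ≤ 2 * T.m (v 2) := by
      have h' : T.w (v 0) * (T.m (v 1) + T.m (v 3)) ≤ T.w (v 0) * (2 * T.m (v 2)) := by linarith only [r2]
      exact le_of_mul_le_mul_left h' (T.w_pos _)
    have c_m3 : T.m (v 2) + T.m (v 4) ≤ 2 * T.m (v 3) := by
      have h' : T.w (v 0) * (T.m (v 2) + T.m (v 4)) ≤ T.w (v 0) * (2 * T.m (v 3)) := by linarith only [r3]
      exact le_of_mul_le_mul_left h' (T.w_pos _)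
    have c_m4 : T.m (v 3) ≤ 2 * T.m (v 4) := by
      have h' : T.w (v 0) * (T.m (v 3)) ≤ T.w (v 0) * (2 * T.m (v 4)) := by linarith only [r4]
      exact le_of_mul_le_mul_left h' (T.w_pos _)
    exact ⟨fun j => v j, T.w (v 0), Or.inl (fun _ => rfl), Or.inl ⟨c_w0, c_w1, c_w2, c_w3, c_w4, c_a0, c_a1, c_a2, c_a3, c_m0, c_m1, c_m2, c_m3, c_m4⟩⟩
  · have hw0 : T.w (v 0) = T.w (v 0) := by linarith only [p0, q0, p1, q1, p2, q2, p3, q3]
    have hw1 : T.w (v 1) = T.w (v 0) := by linarith only [p0, q0, p1, q1, p2, q2, p3, q3]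
    have hw2 : T.w (v 2) = T.w (v 0) := by linarith only [p0, q0, p1, q1, p2, q2, p3, q3]
    have hw3 : T.w (v 3) = T.w (v 0) := by linarith only [p0, q0, p1, q1, p2, q2, p3, q3]
    have hw4 : T.w (v 4) = 2 * T.w (v 0) := by linarith only [p0, q0, p1, q1, p2, q2, p3, q3]
    have E0_0 : T.a (v 0) (v 0) = -2 * T.w (v 0) := by linarith only [y0, hw0]
    have E1_1 : T.a (v 1) (v 1) = -2 * T.w (v 0) := by linarith only [y1, hw1]
    have E2_2 : T.a (v 2) (v 2) = -2 * T.w (v 0) := by linarith only [y2, hw2]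
    have E3_3 : T.a (v 3) (v 3) = -2 * T.w (v 0) := by linarith only [y3, hw3]
    have E4_4 : T.a (v 4) (v 4) = -4 * T.w (v 0) := by linarith only [y4, hw4]
    have E0_1 : T.a (v 0) (v 1) = T.w (v 0) := by linarith only [p0, q0, p1, q1, p2, q2, p3, q3, hw0, hw1, hw2, hw3, hw4, sy01]
    have E0_2 : T.a (v 0) (v 2) = 0 := by linarith only [z0_2, sy02]
    have E0_3 : T.a (v 0) (v 3) = 0 := by linarith only [z0_3, sy03]
    have E0_4 : T.a (v 0) (v 4) = 0 := by linarith only [z0_4, sy04]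
    have E1_0 : T.a (v 1) (v 0) = T.w (v 0) := by linarith only [p0, q0, p1, q1, p2, q2, p3, q3, hw0, hw1, hw2, hw3, hw4, sy01]
    have E1_2 : T.a (v 1) (v 2) = T.w (v 0) := by linarith only [p0, q0, p1, q1, p2, q2, p3, q3, hw0, hw1, hw2, hw3, hw4, sy12]
    have E1_3 : T.a (v 1) (v 3) = 0 := by linarith only [z1_3, sy13]
    have E1_4 : T.a (v 1) (v 4) = 0 := by linarith only [z1_4, sy14]
    have E2_0 : T.a (v 2) (v 0) = 0 := by linarith only [z0_2, sy02]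
    have E2_1 : T.a (v 2) (v 1) = T.w (v 0) := by linarith only [p0, q0, p1, q1, p2, q2, p3, q3, hw0, hw1, hw2, hw3, hw4, sy12]
    have E2_3 : T.a (v 2) (v 3) = T.w (v 0) := by linarith only [p0, q0, p1, q1, p2, q2, p3, q3, hw0, hw1, hw2, hw3, hw4, sy23]
    have E2_4 : T.a (v 2) (v 4) = 0 := by linarith only [z2_4, sy24]
    have E3_0 : T.a (v 3) (v 0) = 0 := by linarith only [z0_3, sy03]
    have E3_1 : T.a (v 3) (v 1) = 0 := by linarith only [z1_3, sy13]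
    have E3_2 : T.a (v 3) (v 2) = T.w (v 0) := by linarith only [p0, q0, p1, q1, p2, q2, p3, q3, hw0, hw1, hw2, hw3, hw4, sy23]
    have E3_4 : T.a (v 3) (v 4) = 2 * T.w (v 0) := by linarith only [p0, q0, p1, q1, p2, q2, p3, q3, hw0, hw1, hw2, hw3, hw4, sy34]
    have E4_0 : T.a (v 4) (v 0) = 0 := by linarith only [z0_4, sy04]
    have E4_1 : T.a (v 4) (v 1) = 0 := by linarith only [z1_4, sy14]
    have E4_2 : T.a (v 4) (v 2) = 0 := by linarith only [z2_4, sy24]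
    have E4_3 : T.a (v 4) (v 3) = 2 * T.w (v 0) := by linarith only [p0, q0, p1, q1, p2, q2, p3, q3, hw0, hw1, hw2, hw3, hw4, sy34]
    rw [E0_0, E0_1, E0_2, E0_3, E0_4] at r0
    rw [E1_0, E1_1, E1_2, E1_3, E1_4] at r1
    rw [E2_0, E2_1, E2_2, E2_3, E2_4] at r2
    rw [E3_0, E3_1, E3_2, E3_3, E3_4] at r3
    rw [E4_0, E4_1, E4_2, E4_3, E4_4] at r4
    have c_w0 : T.w (v 0) = T.w (v 0) := by linarith only [hw0]
    have c_w1 : T.w (v 1) = T.w (v 0) := by linarith only [hw1]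
    have c_w2 : T.w (v 2) = T.w (v 0) := by linarith only [hw2]
    have c_w3 : T.w (v 3) = T.w (v 0) := by linarith only [hw3]
    have c_w4 : T.w (v 4) = 2 * T.w (v 0) := by linarith only [hw4]
    have c_a0 : T.a (v 0) (v 1) = T.w (v 0) := by linarith only [E0_1]
    have c_a1 : T.a (v 1) (v 2) = T.w (v 0) := by linarith only [E1_2]
    have c_a2 : T.a (v 2) (v 3) = T.w (v 0) := by linarith only [E2_3]
    have c_a3 : T.a (v 3) (v 4) = 2 * T.w (v 0) := by linarith only [E3_4]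
    have c_m0 : T.m (v 1) ≤ 2 * T.m (v 0) := by
      have h' : T.w (v 0) * (T.m (v 1)) ≤ T.w (v 0) * (2 * T.m (v 0)) := by linarith only [r0]
      exact le_of_mul_le_mul_left h' (T.w_pos _)
    have c_m1 : T.m (v 0) + T.m (v 2) ≤ 2 * T.m (v 1) := by
      have h' : T.w (v 0) * (T.m (v 0) + T.m (v 2)) ≤ T.w (v 0) * (2 * T.m (v 1)) := by linarith only [r1]
      exact le_of_mul_le_mul_left h' (T.w_pos _)
    have c_m2 : T.m (v 1) + T.m (v 3) ≤ 2 * T.m (v 2) := by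
      have h' : T.w (v 0) * (T.m (v 1) + T.m (v 3)) ≤ T.w (v 0) * (2 * T.m (v 2)) := by linarith only [r2]
      exact le_of_mul_le_mul_left h' (T.w_pos _)
    have c_m3 : T.m (v 2) + 2 * T.m (v 4) ≤ 2 * T.m (v 3) := by
      have h' : T.w (v 0) * (T.m (v 2) + 2 * T.m (v 4)) ≤ T.w (v 0) * (2 * T.m (v 3)) := by linarith only [r3]
      exact le_of_mul_le_mul_left h' (T.w_pos _)
    have c_m4 : T.m (v 3) ≤ 2 * T.m (v 4) := by
      have h' : T.w (v 0) * (T.m (v 3)) ≤ T.w (v 0) * (2 * T.m (v 4)) := by linarith only [r4]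
      exact le_of_mul_le_mul_left h' (T.w_pos _)
    exact ⟨fun j => v j, T.w (v 0), Or.inl (fun _ => rfl), Or.inr (Or.inl ⟨c_w0, c_w1, c_w2, c_w3, c_w4, c_a0, c_a1, c_a2, c_a3, c_m0, c_m1, c_m2, c_m3, c_m4⟩)⟩
  · have hw0 : T.w (v 0) = 2 * T.w (v 4) := by linarith only [p0, q0, p1, q1, p2, q2, p3, q3]
    have hw1 : T.w (v 1) = 2 * T.w (v 4) := by linarith only [p0, q0, p1, q1, p2, q2, p3, q3]
    have hw2 : T.w (v 2) = 2 * T.w (v 4) := by linarith only [p0, q0, p1, q1, p2, q2, p3, q3]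
    have hw3 : T.w (v 3) = 2 * T.w (v 4) := by linarith only [p0, q0, p1, q1, p2, q2, p3, q3]
    have hw4 : T.w (v 4) = T.w (v 4) := by linarith only [p0, q0, p1, q1, p2, q2, p3, q3]
    have E0_0 : T.a (v 0) (v 0) = -4 * T.w (v 4) := by linarith only [y0, hw0]
    have E1_1 : T.a (v 1) (v 1) = -4 * T.w (v 4) := by linarith only [y1, hw1]
    have E2_2 : T.a (v 2) (v 2) = -4 * T.w (v 4) := by linarith only [y2, hw2]
    have E3_3 : T.a (v 3) (v 3) = -4 * T.w (v 4) := by linarith only [y3, hw3]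
    have E4_4 : T.a (v 4) (v 4) = -2 * T.w (v 4) := by linarith only [y4, hw4]
    have E0_1 : T.a (v 0) (v 1) = 2 * T.w (v 4) := by linarith only [p0, q0, p1, q1, p2, q2, p3, q3, hw0, hw1, hw2, hw3, hw4, sy01]
    have E0_2 : T.a (v 0) (v 2) = 0 := by linarith only [z0_2, sy02]
    have E0_3 : T.a (v 0) (v 3) = 0 := by linarith only [z0_3, sy03]
    have E0_4 : T.a (v 0) (v 4) = 0 := by linarith only [z0_4, sy04]
    have E1_0 : T.a (v 1) (v 0) = 2 * T.w (v 4) := by linarith only [p0, q0, p1, q1, p2, q2, p3, q3, hw0, hw1, hw2, hw3, hw4, sy01]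
    have E1_2 : T.a (v 1) (v 2) = 2 * T.w (v 4) := by linarith only [p0, q0, p1, q1, p2, q2, p3, q3, hw0, hw1, hw2, hw3, hw4, sy12]
    have E1_3 : T.a (v 1) (v 3) = 0 := by linarith only [z1_3, sy13]
    have E1_4 : T.a (v 1) (v 4) = 0 := by linarith only [z1_4, sy14]
    have E2_0 : T.a (v 2) (v 0) = 0 := by linarith only [z0_2, sy02]
    have E2_1 : T.a (v 2) (v 1) = 2 * T.w (v 4) := by linarith only [p0, q0, p1, q1, p2, q2, p3, q3, hw0, hw1, hw2, hw3, hw4, sy12]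
    have E2_3 : T.a (v 2) (v 3) = 2 * T.w (v 4) := by linarith only [p0, q0, p1, q1, p2, q2, p3, q3, hw0, hw1, hw2, hw3, hw4, sy23]
    have E2_4 : T.a (v 2) (v 4) = 0 := by linarith only [z2_4, sy24]
    have E3_0 : T.a (v 3) (v 0) = 0 := by linarith only [z0_3, sy03]
    have E3_1 : T.a (v 3) (v 1) = 0 := by linarith only [z1_3, sy13]
    have E3_2 : T.a (v 3) (v 2) = 2 * T.w (v 4) := by linarith only [p0, q0, p1, q1, p2, q2, p3, q3, hw0, hw1, hw2, hw3, hw4, sy23]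
    have E3_4 : T.a (v 3) (v 4) = 2 * T.w (v 4) := by linarith only [p0, q0, p1, q1, p2, q2, p3, q3, hw0, hw1, hw2, hw3, hw4, sy34]
    have E4_0 : T.a (v 4) (v 0) = 0 := by linarith only [z0_4, sy04]
    have E4_1 : T.a (v 4) (v 1) = 0 := by linarith only [z1_4, sy14]
    have E4_2 : T.a (v 4) (v 2) = 0 := by linarith only [z2_4, sy24]
    have E4_3 : T.a (v 4) (v 3) = 2 * T.w (v 4) := by linarith only [p0, q0, p1, q1, p2, q2, p3, q3, hw0, hw1, hw2, hw3, hw4, sy34]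
    rw [E0_0, E0_1, E0_2, E0_3, E0_4] at r0
    rw [E1_0, E1_1, E1_2, E1_3, E1_4] at r1
    rw [E2_0, E2_1, E2_2, E2_3, E2_4] at r2
    rw [E3_0, E3_1, E3_2, E3_3, E3_4] at r3
    rw [E4_0, E4_1, E4_2, E4_3, E4_4] at r4
    have c_w0 : T.w (v 0) = 2 * T.w (v 4) := by linarith only [hw0]
    have c_w1 : T.w (v 1) = 2 * T.w (v 4) := by linarith only [hw1]
    have c_w2 : T.w (v 2) = 2 * T.w (v 4) := by linarith only [hw2]
    have c_w3 : T.w (v 3) = 2 * T.w (v 4) := by linarith only [hw3]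
    have c_w4 : T.w (v 4) = T.w (v 4) := by linarith only [hw4]
    have c_a0 : T.a (v 0) (v 1) = 2 * T.w (v 4) := by linarith only [E0_1]
    have c_a1 : T.a (v 1) (v 2) = 2 * T.w (v 4) := by linarith only [E1_2]
    have c_a2 : T.a (v 2) (v 3) = 2 * T.w (v 4) := by linarith only [E2_3]
    have c_a3 : T.a (v 3) (v 4) = 2 * T.w (v 4) := by linarith only [E3_4]
    have c_m0 : T.m (v 1) ≤ 2 * T.m (v 0) := by
      have h' : T.w (v 4) * (T.m (v 1)) ≤ T.w (v 4) * (2 * T.m (v 0)) := by linarith only [r0]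
      exact le_of_mul_le_mul_left h' (T.w_pos _)
    have c_m1 : T.m (v 0) + T.m (v 2) ≤ 2 * T.m (v 1) := by
      have h' : T.w (v 4) * (T.m (v 0) + T.m (v 2)) ≤ T.w (v 4) * (2 * T.m (v 1)) := by linarith only [r1]
      exact le_of_mul_le_mul_left h' (T.w_pos _)
    have c_m2 : T.m (v 1) + T.m (v 3) ≤ 2 * T.m (v 2) := by
      have h' : T.w (v 4) * (T.m (v 1) + T.m (v 3)) ≤ T.w (v 4) * (2 * T.m (v 2)) := by linarith only [r2]
      exact le_of_mul_le_mul_left h' (T.w_pos _)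
    have c_m3 : T.m (v 2) + T.m (v 4) ≤ 2 * T.m (v 3) := by
      have h' : T.w (v 4) * (T.m (v 2) + T.m (v 4)) ≤ T.w (v 4) * (2 * T.m (v 3)) := by linarith only [r3]
      exact le_of_mul_le_mul_left h' (T.w_pos _)
    have c_m4 : T.m (v 3) ≤ T.m (v 4) := by
      have h' : T.w (v 4) * (T.m (v 3)) ≤ T.w (v 4) * (T.m (v 4)) := by linarith only [r4]
      exact le_of_mul_le_mul_left h' (T.w_pos _)
    exact ⟨fun j => v j, T.w (v 4), Or.inl (fun _ => rfl), Or.inr (Or.inr (⟨c_w0, c_w1, c_w2, c_w3, c_w4, c_a0, c_a1, c_a2, c_a3, c_m0, c_m1, c_m2, c_m3, c_m4⟩))⟩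
  · have hw0 : T.w (v 0) = T.w (v 0) := by linarith only [p0, q0, p1, q1, p2, q2, p3, q3]
    have hw1 : T.w (v 1) = 2 * T.w (v 0) := by linarith only [p0, q0, p1, q1, p2, q2, p3, q3]
    have hw2 : T.w (v 2) = 2 * T.w (v 0) := by linarith only [p0, q0, p1, q1, p2, q2, p3, q3]
    have hw3 : T.w (v 3) = 2 * T.w (v 0) := by linarith only [p0, q0, p1, q1, p2, q2, p3, q3]
    have hw4 : T.w (v 4) = 2 * T.w (v 0) := by linarith only [p0, q0, p1, q1, p2, q2, p3, q3]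
    have E0_0 : T.a (v 0) (v 0) = -2 * T.w (v 0) := by linarith only [y0, hw0]
    have E1_1 : T.a (v 1) (v 1) = -4 * T.w (v 0) := by linarith only [y1, hw1]
    have E2_2 : T.a (v 2) (v 2) = -4 * T.w (v 0) := by linarith only [y2, hw2]
    have E3_3 : T.a (v 3) (v 3) = -4 * T.w (v 0) := by linarith only [y3, hw3]
    have E4_4 : T.a (v 4) (v 4) = -4 * T.w (v 0) := by linarith only [y4, hw4]
    have E0_1 : T.a (v 0) (v 1) = 2 * T.w (v 0) := by linarith only [p0, q0, p1, q1, p2, q2, p3, q3, hw0, hw1, hw2, hw3, hw4, sy01]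
    have E0_2 : T.a (v 0) (v 2) = 0 := by linarith only [z0_2, sy02]
    have E0_3 : T.a (v 0) (v 3) = 0 := by linarith only [z0_3, sy03]
    have E0_4 : T.a (v 0) (v 4) = 0 := by linarith only [z0_4, sy04]
    have E1_0 : T.a (v 1) (v 0) = 2 * T.w (v 0) := by linarith only [p0, q0, p1, q1, p2, q2, p3, q3, hw0, hw1, hw2, hw3, hw4, sy01]
    have E1_2 : T.a (v 1) (v 2) = 2 * T.w (v 0) := by linarith only [p0, q0, p1, q1, p2, q2, p3, q3, hw0, hw1, hw2, hw3, hw4, sy12]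
    have E1_3 : T.a (v 1) (v 3) = 0 := by linarith only [z1_3, sy13]
    have E1_4 : T.a (v 1) (v 4) = 0 := by linarith only [z1_4, sy14]
    have E2_0 : T.a (v 2) (v 0) = 0 := by linarith only [z0_2, sy02]
    have E2_1 : T.a (v 2) (v 1) = 2 * T.w (v 0) := by linarith only [p0, q0, p1, q1, p2, q2, p3, q3, hw0, hw1, hw2, hw3, hw4, sy12]
    have E2_3 : T.a (v 2) (v 3) = 2 * T.w (v 0) := by linarith only [p0, q0, p1, q1, p2, q2, p3, q3, hw0, hw1, hw2, hw3, hw4, sy23]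
    have E2_4 : T.a (v 2) (v 4) = 0 := by linarith only [z2_4, sy24]
    have E3_0 : T.a (v 3) (v 0) = 0 := by linarith only [z0_3, sy03]
    have E3_1 : T.a (v 3) (v 1) = 0 := by linarith only [z1_3, sy13]
    have E3_2 : T.a (v 3) (v 2) = 2 * T.w (v 0) := by linarith only [p0, q0, p1, q1, p2, q2, p3, q3, hw0, hw1, hw2, hw3, hw4, sy23]
    have E3_4 : T.a (v 3) (v 4) = 2 * T.w (v 0) := by linarith only [p0, q0, p1, q1, p2, q2, p3, q3, hw0, hw1, hw2, hw3, hw4, sy34]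
    have E4_0 : T.a (v 4) (v 0) = 0 := by linarith only [z0_4, sy04]
    have E4_1 : T.a (v 4) (v 1) = 0 := by linarith only [z1_4, sy14]
    have E4_2 : T.a (v 4) (v 2) = 0 := by linarith only [z2_4, sy24]
    have E4_3 : T.a (v 4) (v 3) = 2 * T.w (v 0) := by linarith only [p0, q0, p1, q1, p2, q2, p3, q3, hw0, hw1, hw2, hw3, hw4, sy34]
    rw [E0_0, E0_1, E0_2, E0_3, E0_4] at r0
    rw [E1_0, E1_1, E1_2, E1_3, E1_4] at r1
    rw [E2_0, E2_1, E2_2, E2_3, E2_4] at r2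
    rw [E3_0, E3_1, E3_2, E3_3, E3_4] at r3
    rw [E4_0, E4_1, E4_2, E4_3, E4_4] at r4
    have c_w0 : T.w (v 4) = 2 * T.w (v 0) := by linarith only [hw4]
    have c_w1 : T.w (v 3) = 2 * T.w (v 0) := by linarith only [hw3]
    have c_w2 : T.w (v 2) = 2 * T.w (v 0) := by linarith only [hw2]
    have c_w3 : T.w (v 1) = 2 * T.w (v 0) := by linarith only [hw1]
    have c_w4 : T.w (v 0) = T.w (v 0) := by linarith only [hw0]
    have c_a0 : T.a (v 4) (v 3) = 2 * T.w (v 0) := by linarith only [E4_3]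
    have c_a1 : T.a (v 3) (v 2) = 2 * T.w (v 0) := by linarith only [E3_2]
    have c_a2 : T.a (v 2) (v 1) = 2 * T.w (v 0) := by linarith only [E2_1]
    have c_a3 : T.a (v 1) (v 0) = 2 * T.w (v 0) := by linarith only [E1_0]
    have c_m0 : T.m (v 3) ≤ 2 * T.m (v 4) := by
      have h' : T.w (v 0) * (T.m (v 3)) ≤ T.w (v 0) * (2 * T.m (v 4)) := by linarith only [r4]
      exact le_of_mul_le_mul_left h' (T.w_pos _)
    have c_m1 : T.m (v 4) + T.m (v 2) ≤ 2 * T.m (v 3) := by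
      have h' : T.w (v 0) * (T.m (v 4) + T.m (v 2)) ≤ T.w (v 0) * (2 * T.m (v 3)) := by linarith only [r3]
      exact le_of_mul_le_mul_left h' (T.w_pos _)
    have c_m2 : T.m (v 3) + T.m (v 1) ≤ 2 * T.m (v 2) := by
      have h' : T.w (v 0) * (T.m (v 3) + T.m (v 1)) ≤ T.w (v 0) * (2 * T.m (v 2)) := by linarith only [r2]
      exact le_of_mul_le_mul_left h' (T.w_pos _)
    have c_m3 : T.m (v 2) + T.m (v 0) ≤ 2 * T.m (v 1) := by
      have h' : T.w (v 0) * (T.m (v 2) + T.m (v 0)) ≤ T.w (v 0) * (2 * T.m (v 1)) := by linarith only [r1]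
      exact le_of_mul_le_mul_left h' (T.w_pos _)
    have c_m4 : T.m (v 1) ≤ T.m (v 0) := by
      have h' : T.w (v 0) * (T.m (v 1)) ≤ T.w (v 0) * (T.m (v 0)) := by linarith only [r0]
      exact le_of_mul_le_mul_left h' (T.w_pos _)
    exact ⟨fun j => v (Fin.rev j), T.w (v 0), Or.inr (fun _ => rfl), Or.inr (Or.inr (⟨c_w0, c_w1, c_w2, c_w3, c_w4, c_a0, c_a1, c_a2, c_a3, c_m0, c_m1, c_m2, c_m3, c_m4⟩))⟩
  · exact absurd ⟨by linarith only [p0, q0], by linarith only [p3, q3]⟩ x2_03_03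
  · exact absurd ⟨by linarith only [p0, q0], by linarith only [p3, q3]⟩ x2_03_04
  · have hw0 : T.w (v 0) = 2 * T.w (v 1) := by linarith only [p0, q0, p1, q1, p2, q2, p3, q3]
    have hw1 : T.w (v 1) = T.w (v 1) := by linarith only [p0, q0, p1, q1, p2, q2, p3, q3]
    have hw2 : T.w (v 2) = T.w (v 1) := by linarith only [p0, q0, p1, q1, p2, q2, p3, q3]
    have hw3 : T.w (v 3) = T.w (v 1) := by linarith only [p0, q0, p1, q1, p2, q2, p3, q3]
    have hw4 : T.w (v 4) = T.w (v 1) := by linarith only [p0, q0, p1, q1, p2, q2, p3, q3]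
    have E0_0 : T.a (v 0) (v 0) = -4 * T.w (v 1) := by linarith only [y0, hw0]
    have E1_1 : T.a (v 1) (v 1) = -2 * T.w (v 1) := by linarith only [y1, hw1]
    have E2_2 : T.a (v 2) (v 2) = -2 * T.w (v 1) := by linarith only [y2, hw2]
    have E3_3 : T.a (v 3) (v 3) = -2 * T.w (v 1) := by linarith only [y3, hw3]
    have E4_4 : T.a (v 4) (v 4) = -2 * T.w (v 1) := by linarith only [y4, hw4]
    have E0_1 : T.a (v 0) (v 1) = 2 * T.w (v 1) := by linarith only [p0, q0, p1, q1, p2, q2, p3, q3, hw0, hw1, hw2, hw3, hw4, sy01]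
    have E0_2 : T.a (v 0) (v 2) = 0 := by linarith only [z0_2, sy02]
    have E0_3 : T.a (v 0) (v 3) = 0 := by linarith only [z0_3, sy03]
    have E0_4 : T.a (v 0) (v 4) = 0 := by linarith only [z0_4, sy04]
    have E1_0 : T.a (v 1) (v 0) = 2 * T.w (v 1) := by linarith only [p0, q0, p1, q1, p2, q2, p3, q3, hw0, hw1, hw2, hw3, hw4, sy01]
    have E1_2 : T.a (v 1) (v 2) = T.w (v 1) := by linarith only [p0, q0, p1, q1, p2, q2, p3, q3, hw0, hw1, hw2, hw3, hw4, sy12]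
    have E1_3 : T.a (v 1) (v 3) = 0 := by linarith only [z1_3, sy13]
    have E1_4 : T.a (v 1) (v 4) = 0 := by linarith only [z1_4, sy14]
    have E2_0 : T.a (v 2) (v 0) = 0 := by linarith only [z0_2, sy02]
    have E2_1 : T.a (v 2) (v 1) = T.w (v 1) := by linarith only [p0, q0, p1, q1, p2, q2, p3, q3, hw0, hw1, hw2, hw3, hw4, sy12]
    have E2_3 : T.a (v 2) (v 3) = T.w (v 1) := by linarith only [p0, q0, p1, q1, p2, q2, p3, q3, hw0, hw1, hw2, hw3, hw4, sy23]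
    have E2_4 : T.a (v 2) (v 4) = 0 := by linarith only [z2_4, sy24]
    have E3_0 : T.a (v 3) (v 0) = 0 := by linarith only [z0_3, sy03]
    have E3_1 : T.a (v 3) (v 1) = 0 := by linarith only [z1_3, sy13]
    have E3_2 : T.a (v 3) (v 2) = T.w (v 1) := by linarith only [p0, q0, p1, q1, p2, q2, p3, q3, hw0, hw1, hw2, hw3, hw4, sy23]
    have E3_4 : T.a (v 3) (v 4) = T.w (v 1) := by linarith only [p0, q0, p1, q1, p2, q2, p3, q3, hw0, hw1, hw2, hw3, hw4, sy34]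
    have E4_0 : T.a (v 4) (v 0) = 0 := by linarith only [z0_4, sy04]
    have E4_1 : T.a (v 4) (v 1) = 0 := by linarith only [z1_4, sy14]
    have E4_2 : T.a (v 4) (v 2) = 0 := by linarith only [z2_4, sy24]
    have E4_3 : T.a (v 4) (v 3) = T.w (v 1) := by linarith only [p0, q0, p1, q1, p2, q2, p3, q3, hw0, hw1, hw2, hw3, hw4, sy34]
    rw [E0_0, E0_1, E0_2, E0_3, E0_4] at r0
    rw [E1_0, E1_1, E1_2, E1_3, E1_4] at r1
    rw [E2_0, E2_1, E2_2, E2_3, E2_4] at r2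
    rw [E3_0, E3_1, E3_2, E3_3, E3_4] at r3
    rw [E4_0, E4_1, E4_2, E4_3, E4_4] at r4
    have c_w0 : T.w (v 4) = T.w (v 1) := by linarith only [hw4]
    have c_w1 : T.w (v 3) = T.w (v 1) := by linarith only [hw3]
    have c_w2 : T.w (v 2) = T.w (v 1) := by linarith only [hw2]
    have c_w3 : T.w (v 1) = T.w (v 1) := by linarith only [hw1]
    have c_w4 : T.w (v 0) = 2 * T.w (v 1) := by linarith only [hw0]
    have c_a0 : T.a (v 4) (v 3) = T.w (v 1) := by linarith only [E4_3]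
    have c_a1 : T.a (v 3) (v 2) = T.w (v 1) := by linarith only [E3_2]
    have c_a2 : T.a (v 2) (v 1) = T.w (v 1) := by linarith only [E2_1]
    have c_a3 : T.a (v 1) (v 0) = 2 * T.w (v 1) := by linarith only [E1_0]
    have c_m0 : T.m (v 3) ≤ 2 * T.m (v 4) := by
      have h' : T.w (v 1) * (T.m (v 3)) ≤ T.w (v 1) * (2 * T.m (v 4)) := by linarith only [r4]
      exact le_of_mul_le_mul_left h' (T.w_pos _)
    have c_m1 : T.m (v 4) + T.m (v 2) ≤ 2 * T.m (v 3) := by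
      have h' : T.w (v 1) * (T.m (v 4) + T.m (v 2)) ≤ T.w (v 1) * (2 * T.m (v 3)) := by linarith only [r3]
      exact le_of_mul_le_mul_left h' (T.w_pos _)
    have c_m2 : T.m (v 3) + T.m (v 1) ≤ 2 * T.m (v 2) := by
      have h' : T.w (v 1) * (T.m (v 3) + T.m (v 1)) ≤ T.w (v 1) * (2 * T.m (v 2)) := by linarith only [r2]
      exact le_of_mul_le_mul_left h' (T.w_pos _)
    have c_m3 : T.m (v 2) + 2 * T.m (v 0) ≤ 2 * T.m (v 1) := by
      have h' : T.w (v 1) * (T.m (v 2) + 2 * T.m (v 0)) ≤ T.w (v 1) * (2 * T.m (v 1)) := by linarith only [r1]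
      exact le_of_mul_le_mul_left h' (T.w_pos _)
    have c_m4 : T.m (v 1) ≤ 2 * T.m (v 0) := by
      have h' : T.w (v 1) * (T.m (v 1)) ≤ T.w (v 1) * (2 * T.m (v 0)) := by linarith only [r0]
      exact le_of_mul_le_mul_left h' (T.w_pos _)
    exact ⟨fun j => v (Fin.rev j), T.w (v 1), Or.inr (fun _ => rfl), Or.inr (Or.inl ⟨c_w0, c_w1, c_w2, c_w3, c_w4, c_a0, c_a1, c_a2, c_a3, c_m0, c_m1, c_m2, c_m3, c_m4⟩)⟩
  · exact absurd ⟨by linarith only [p0, q0], by linarith only [p3, q3]⟩ x2_03_13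
  · exact absurd ⟨by linarith only [p0, q0], by linarith only [p3, q3]⟩ x2_03_14

end Groth.Agent.S7353
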