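import Groth.Statements.S7354
import Groth.Agent.Lib.Helper11.NumLong
open Groth.Agent.Helper11

set_option autoImplicit false
open Finset
open Models Models.NumericalType

namespace Groth.Agent.S7354

/-- Let T be a numerical type on n indices, t > 5 with n > t, and i_1, …, i_t distinct (-2)-indices with
a_{i_j i_{j+1}} nonzero for j = 1, …, t - 1. Then, after possibly reversing the order of the
indices, for some integer w either (A) w_{i_1} = … = w_{i_t} = w and a_{i_j i_{j+1}} = w for all j;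
or (C) w_{i_1} = … = w_{i_{t-1}} = w, w_{i_t} = 2w, a_{i_j i_{j+1}} = w for j < t - 1 and a_{i_{t-1}
i_t} = 2w; or (B) w_{i_1} = … = w_{i_{t-1}} = 2w, w_{i_t} = w and a_{i_j i_{j+1}} = 2w for all j;
and in every case a_{i_j i_k} = 0 whenever k > j + 1. -/
theorem result {n : ℕ} (T : Models.NumericalType n) (t : ℕ) (ht : 5 < t) (hn : t < n)
    (v : Fin t ↪ Fin n) (hv : ∀ j, T.IsMinusTwo (v j))
    (hchain : ∀ j j' : Fin t, j'.val = j.val + 1 → T.a (v j) (v j') ≠ 0) :
    ∃ (u : Fin t → Fin n) (w : ℤ), ((∀ j, u j = v j) ∨ (∀ j, u j = v (Fin.rev j))) ∧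
      (∀ j k : Fin t, j.val + 1 < k.val → T.a (u j) (u k) = 0) ∧
      ((∀ j : Fin t, T.w (u j) = w) ∧ (∀ j j' : Fin t, j'.val = j.val + 1 → T.a (u j) (u j') = w) ∨
        ((∀ j : Fin t, j.val + 1 < t → T.w (u j) = w) ∧ (∀ j : Fin t, j.val + 1 = t → T.w (u j) = 2 * w) ∧
          (∀ j j' : Fin t, j'.val = j.val + 1 → j'.val + 1 < t → T.a (u j) (u j') = w) ∧
          (∀ j j' : Fin t, j'.val = j.val + 1 → j'.val + 1 = t → T.a (u j) (u j') = 2 * w)) ∨
        ((∀ j : Fin t, j.val + 1 < t → T.w (u j) = 2 * w) ∧ (∀ j : Fin t, j.val + 1 = t → T.w (u j) = w) ∧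
          (∀ j j' : Fin t, j'.val = j.val + 1 → T.a (u j) (u j') = 2 * w))) := by
  obtain ⟨r, rfl⟩ : ∃ r, t = r + 5 := ⟨t - 5, by omega⟩
  have hr : 1 ≤ r := by omega
  classical
  set x := chainX v with hx
  have hxv : ∀ (i : ℕ) (hi : i < r + 5), v ⟨i, hi⟩ = x i := chainX_eq v
  have hL : LongChain T r x := longChain_chainX v hv hchain
  have hzero : ∀ j k : Fin (r + 5), j.val + 1 < k.val → T.a (v j) (v k) = 0 :=
    fun j k hjk => NT_chain_zero T hn v hv hchain j k hjk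
  by_cases hF : ESimple T (x 0) (x 1)
  · obtain ⟨w, hw⟩ := long_aux r hr hn v hv hchain (by rw [hxv, hxv]; exact hF)
    exact ⟨v, w, Or.inl fun _ => rfl, hzero, hw⟩
  by_cases hLa : ESimple T (x (r + 3)) (x (r + 4))
  · let v' : Fin (r + 5) ↪ Fin n := ⟨fun j => v (Fin.rev j), v.injective.comp Fin.rev_injective⟩
    have hv' : ∀ j, T.IsMinusTwo (v' j) := fun j => hv _
    have hchain' : ∀ j j' : Fin (r + 5), j'.val = j.val + 1 → T.a (v' j) (v' j') ≠ 0 := by
      intro j j' h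
      apply NT_ne_symm T
      exact hchain (Fin.rev j') (Fin.rev j) (by rw [Fin.val_rev, Fin.val_rev]; omega)
    have hfirst' : ESimple T (v' ⟨0, by omega⟩) (v' ⟨1, by omega⟩) := by
      have e0 : v' ⟨0, by omega⟩ = x (r + 4) := by
        show v (Fin.rev ⟨0, _⟩) = _
        rw [← hxv (r + 4) (by omega)]
        congr 1
      have e1 : v' ⟨1, by omega⟩ = x (r + 3) := by
        show v (Fin.rev ⟨1, _⟩) = _
        rw [← hxv (r + 3) (by omega)]
        congr 1
      rw [e0, e1]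
      exact ⟨(NT_symm T _ _).trans hLa.2, (NT_symm T _ _).trans hLa.1⟩
    obtain ⟨w, hw⟩ := long_aux r hr hn v' hv' hchain' hfirst'
    refine ⟨fun j => v (Fin.rev j), w, Or.inr fun _ => rfl, ?_, hw⟩
    intro j k hjk
    rw [NT_symm T]
    exact hzero _ _ (by rw [Fin.val_rev, Fin.val_rev]; omega)
  · exfalso
    have F' := (hL.first hn).resolve_left hF
    have La' := (hL.last hn).resolve_left hLa
    rcases F' with f | f <;> rcases La' with l | l
    · exact hL.not_both hn hr v hxv 2 1 (Or.inl ⟨rfl, f⟩) (Or.inl ⟨rfl, l⟩)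
    · exact hL.not_both hn hr v hxv 2 2 (Or.inl ⟨rfl, f⟩) (Or.inr ⟨rfl, l⟩)
    · exact hL.not_both hn hr v hxv 1 1 (Or.inr ⟨rfl, f⟩) (Or.inl ⟨rfl, l⟩)
    · exact hL.not_both hn hr v hxv 1 2 (Or.inr ⟨rfl, f⟩) (Or.inr ⟨rfl, l⟩)


end Groth.Agent.S7354
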