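import Groth.Statements.S7355
import Groth.Agent.Lib.Helper11.NumDn
open Groth.Agent.Helper11

set_option autoImplicit false
open Finset
open Models Models.NumericalType

namespace Groth.Agent.S7355

/-- Classification of proper subgraphs of type D: let T be a numerical type on n indices, t > 4 with n >
t + 1, and i_1, …, i_{t+1} distinct (-2)-indices such that a_{i_j i_{j+1}} is nonzero for j = 1, …,
t - 1 and a_{i_{t-1} i_{t+1}} is nonzero. Then for some integer w one has w_{i_1} = … = w_{i_{t+1}}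
= w, a_{i_j i_{j+1}} = w for j < t, a_{i_{t-1} i_{t+1}} = w, and a_{i_j i_k} = 0 for all other pairs
j ≠ k. -/
theorem result {n : ℕ} (T : Models.NumericalType n) (t : ℕ) (ht : 4 < t) (hn : t + 1 < n)
    (v : Fin (t + 1) ↪ Fin n) (hv : ∀ j, T.IsMinusTwo (v j))
    (hchain : ∀ j j' : Fin (t + 1), j'.val = j.val + 1 → j'.val < t → T.a (v j) (v j') ≠ 0)
    (hbranch : ∀ j j' : Fin (t + 1), j.val + 2 = t → j'.val = t → T.a (v j) (v j') ≠ 0) :
    ∃ w : ℤ, (∀ j : Fin (t + 1), T.w (v j) = w) ∧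
      (∀ j j' : Fin (t + 1), j'.val = j.val + 1 → j'.val < t → T.a (v j) (v j') = w) ∧
      (∀ j j' : Fin (t + 1), j.val + 2 = t → j'.val = t → T.a (v j) (v j') = w) ∧
      (∀ j k : Fin (t + 1), j.val < k.val → ¬ (k.val = j.val + 1 ∧ k.val < t) → ¬ (j.val + 2 = t ∧ k.val = t) →
        T.a (v j) (v k) = 0) := by
  obtain ⟨r, rfl⟩ : ∃ r, t = r + 5 := ⟨t - 5, by omega⟩
  classical
  let x : ℕ → Fin n := fun i => if h : i < r + 6 then v ⟨i, h⟩ else v ⟨0, by omega⟩
  have hxv : ∀ (i : ℕ) (hi : i < r + 6), v ⟨i, hi⟩ = x i := fun i hi => by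
    simp only [x, dif_pos hi]
  have hvx : ∀ j : Fin (r + 5 + 1), v j = x j.val := fun j => hxv j.val j.isLt
  have xinj : ∀ i i', i < r + 6 → i' < r + 6 → x i = x i' → i = i' := by
    intro i i' hi hi' h
    rw [← hxv i hi, ← hxv i' hi'] at h
    exact congrArg Fin.val (v.injective h)
  have xm2 : ∀ i, i < r + 6 → T.IsMinusTwo (x i) := fun i hi => by
    rw [← hxv i hi]
    exact hv _
  have hne : ∀ i, i + 1 < r + 5 → T.a (x i) (x (i + 1)) ≠ 0 := fun i hi => by
    rw [← hxv i (by omega), ← hxv (i + 1) (by omega)]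
    exact hchain _ _ rfl hi
  have hbr : T.a (x (r + 3)) (x (r + 5)) ≠ 0 := by
    rw [← hxv (r + 3) (by omega), ← hxv (r + 5) (by omega)]
    exact hbranch _ _ rfl rfl
  obtain ⟨w, hW, hA, hB, hZ⟩ := dn_core r (by omega) v hv x hxv hne hbr
  -- the two chains
  let v1 : Fin (r + 5) ↪ Fin n := ⟨fun i => x i.val, fun i i' h =>
    Fin.ext (xinj _ _ (by have := i.isLt; omega) (by have := i'.isLt; omega) h)⟩
  have Z1 : ∀ j l : Fin (r + 5), j.val + 1 < l.val → T.a (x j.val) (x l.val) = 0 := by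
    intro j l hjl
    refine NT_chain_zero T (by omega) v1 (fun j => xm2 _ (by have := j.isLt; omega)) ?_ j l hjl
    intro j j' h
    show T.a (x j.val) (x j'.val) ≠ 0
    rw [h]
    exact hne _ (by have := j'.isLt; omega)
  let σ : ℕ → ℕ := fun i => if i < r + 4 then i else r + 5
  have hσ1 : ∀ i, i < r + 4 → σ i = i := fun i hi => if_pos hi
  have hσ2 : ∀ i, ¬ i < r + 4 → σ i = r + 5 := fun i hi => if_neg hi
  have hσlt : ∀ i, i < r + 5 → σ i < r + 6 := by
    intro i hi
    by_cases h : i < r + 4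
    · rw [hσ1 i h]; omega
    · rw [hσ2 i h]; omega
  have hσinj : ∀ i i', i < r + 5 → i' < r + 5 → σ i = σ i' → i = i' := by
    intro i i' hi hi' h
    by_cases h1 : i < r + 4 <;> by_cases h2 : i' < r + 4
    · rwa [hσ1 i h1, hσ1 i' h2] at h
    · rw [hσ1 i h1, hσ2 i' h2] at h; omega
    · rw [hσ2 i h1, hσ1 i' h2] at h; omega
    · omega
  let v2 : Fin (r + 5) ↪ Fin n := ⟨fun i => x (σ i.val), fun i i' h =>
    Fin.ext (hσinj _ _ i.isLt i'.isLt (xinj _ _ (hσlt _ i.isLt) (hσlt _ i'.isLt) h))⟩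
  have Z2 : ∀ j l : Fin (r + 5), j.val + 1 < l.val → T.a (x (σ j.val)) (x (σ l.val)) = 0 := by
    intro j l hjl
    refine NT_chain_zero T (by omega) v2 (fun j => xm2 _ (hσlt _ j.isLt)) ?_ j l hjl
    intro j j' h
    show T.a (x (σ j.val)) (x (σ j'.val)) ≠ 0
    have hj' := j'.isLt
    by_cases h1 : j'.val < r + 4
    · rw [hσ1 _ h1, hσ1 _ (by omega), h]
      exact hne _ (by omega)
    · have e1 : j'.val = r + 4 := by omega
      have e2 : j.val = r + 3 := by omega
      rw [hσ2 _ h1, hσ1 _ (by omega), e2]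
      exact hbr
  refine ⟨w, fun j => ?_, fun j j' h1 h2 => ?_, fun j j' h1 h2 => ?_, fun j k h1 h2 h3 => ?_⟩
  · rw [hvx]
    exact hW _ j.isLt
  · rw [hvx, hvx, h1]
    exact hA _ (by omega)
  · have e1 : j.val = r + 3 := by omega
    rw [hvx, hvx, h2, e1]
    exact hB
  · rw [hvx, hvx]
    have hk := k.isLt
    by_cases hk5 : k.val < r + 5
    · exact Z1 ⟨j.val, by omega⟩ ⟨k.val, hk5⟩ (by
        show j.val + 1 < k.val
        by_contra hcon
        exact h2 ⟨by omega, hk5⟩)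
    · have ek : k.val = r + 5 := by omega
      rw [ek]
      by_cases hj4 : j.val = r + 4
      · rw [hj4]
        exact hZ
      · have hj2 : j.val ≤ r + 2 := by
          by_contra hcon
          exact h3 ⟨by omega, ek⟩
        have := Z2 ⟨j.val, by omega⟩ ⟨r + 4, by omega⟩ (by show j.val + 1 < r + 4; omega)
        rwa [hσ1 _ (by show j.val < r + 4; omega), hσ2 _ (by show ¬ r + 4 < r + 4; omega)] at this


end Groth.Agent.S7355
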