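import Groth.Statements.S7362
import Groth.Agent.Lib.Helper11.NumQuad
import Groth.Agent.S7317

set_option autoImplicit false
open Finset
open Models Models.NumericalType

namespace Groth.Agent.S7362

/-- Genus one classification: case n = 2: let T be a minimal numerical type of genus 1 on two indices.
Then for some ordering i, j of the indices and some integers m, w, either m_i = m_j = m, a_ii = a_jj
= -2w, a_ij = 2w, w_i = w_j = w, g_i = g_j = 0; or m_i = 2m, m_j = m, a_ii = -2w, a_ij = 4w, a_jj =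
-8w, w_i = w, w_j = 4w, g_i = g_j = 0. Only the classification direction is stated. -/
theorem result (T : Models.NumericalType 2) (hmin : T.IsMinimal) (hg : T.genus = 1) :
    ∃ (i j : Fin 2) (m w : ℤ), i ≠ j ∧ T.g i = 0 ∧ T.g j = 0 ∧
      ((T.m i = m ∧ T.m j = m ∧ T.a i i = -2 * w ∧ T.a i j = 2 * w ∧ T.a j j = -2 * w ∧ T.w i = w ∧ T.w j = w) ∨
        (T.m i = 2 * m ∧ T.m j = m ∧ T.a i i = -2 * w ∧ T.a i j = 4 * w ∧ T.a j j = -8 * w ∧ T.w i = w ∧ T.w j = 4 * w)) := by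
  have hn : 1 < 2 := by norm_num
  have h2 := Groth.Agent.Helper4.NT_two_genus T
  rw [hg] at h2
  have hterm : ∀ i, 0 ≤ T.m i * (2 * T.w i * (T.g i - 1) - T.a i i) := by
    intro i
    apply mul_nonneg (T.m_pos i).le
    have hneg := Groth.Agent.Helper4.NT_diag_neg T hn i
    obtain ⟨k, hk⟩ := T.w_dvd i i
    have hw := T.w_pos i
    have hg := T.g_nonneg i
    have hk_neg : k < 0 := by
      by_contra h
      push Not at h
      have := mul_nonneg hw.le h
      linarith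
    by_cases hg0 : T.g i = 0
    · have hk1 : k ≠ -1 := by
        intro hk1
        apply hmin i
        refine ⟨hg0, ?_⟩
        rw [hk, hk1]; ring
      have hk2 : k ≤ -2 := by omega
      rw [hg0, hk]
      nlinarith
    · have hg1 : 1 ≤ T.g i := by omega
      rw [hk]
      nlinarith
  rw [Fin.sum_univ_two] at h2
  have t0 : T.m 0 * (2 * T.w 0 * (T.g 0 - 1) - T.a 0 0) = 0 := by
    have := hterm 0
    have := hterm 1
    linarith
  have t1 : T.m 1 * (2 * T.w 1 * (T.g 1 - 1) - T.a 1 1) = 0 := by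
    have := hterm 0
    have := hterm 1
    linarith
  have m0 := Groth.Agent.S7317.result T hn 0 t0
  have m1 := Groth.Agent.S7317.result T hn 1 t1
  have r0 := Groth.Agent.Helper4.NT_row_sum T 0
  have r1 := Groth.Agent.Helper4.NT_row_sum T 1
  rw [Fin.sum_univ_two] at r0 r1
  rw [m0.2] at r0
  rw [m1.2, Groth.Agent.Helper11.NT_symm T 0 1] at r1
  have hm0 := T.m_pos 0
  have hm1 := T.m_pos 1
  have hw0 := T.w_pos 0
  have hw1 := T.w_pos 1
  obtain ⟨α, hα⟩ := T.w_dvd 0 1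
  obtain ⟨β, hβ⟩ : T.w 1 ∣ T.a 0 1 := by
    have := T.w_dvd 1 0
    rwa [Groth.Agent.Helper11.NT_symm T 0 1] at this
  have ha_pos : 0 < T.a 0 1 := by
    by_contra h
    push Not at h
    nlinarith
  have hα_pos : 0 < α := by
    by_contra h
    push Not at h
    nlinarith
  have hβ_pos : 0 < β := by
    by_contra h
    push Not at h
    nlinarith
  have hsq : T.a 0 1 * T.a 0 1 = 4 * T.w 0 * T.w 1 := by
    have e1 : T.a 0 1 * T.m 1 = 2 * T.w 0 * T.m 0 := by linarith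
    have e2 : T.a 0 1 * T.m 0 = 2 * T.w 1 * T.m 1 := by linarith
    have e3 : (T.a 0 1 * T.a 0 1) * (T.m 0 * T.m 1) = (4 * T.w 0 * T.w 1) * (T.m 0 * T.m 1) := by
      calc (T.a 0 1 * T.a 0 1) * (T.m 0 * T.m 1) = (T.a 0 1 * T.m 1) * (T.a 0 1 * T.m 0) := by ring
        _ = (2 * T.w 0 * T.m 0) * (2 * T.w 1 * T.m 1) := by rw [e1, e2]
        _ = (4 * T.w 0 * T.w 1) * (T.m 0 * T.m 1) := by ring
    exact mul_right_cancel₀ (mul_pos hm0 hm1).ne' e3
  have hαβ : α * β = 4 := by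
    have e : (α * β) * (T.w 0 * T.w 1) = 4 * (T.w 0 * T.w 1) := by
      calc (α * β) * (T.w 0 * T.w 1) = (T.w 0 * α) * (T.w 1 * β) := by ring
        _ = T.a 0 1 * T.a 0 1 := by rw [← hα, ← hβ]
        _ = 4 * (T.w 0 * T.w 1) := by rw [hsq]; ring
    exact mul_right_cancel₀ (mul_pos hw0 hw1).ne' e
  have hα4 : α ≤ 4 := by nlinarith
  have hcases : (α = 1 ∧ β = 4) ∨ (α = 2 ∧ β = 2) ∨ (α = 4 ∧ β = 1) := by
    interval_cases α
    · left; exact ⟨rfl, by omega⟩
    · right; left; exact ⟨rfl, by omega⟩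
    · exfalso; omega
    · right; right; exact ⟨rfl, by omega⟩
  rcases hcases with ⟨rfl, rfl⟩ | ⟨rfl, rfl⟩ | ⟨rfl, rfl⟩
  · -- a = w0 = 4 w1 : i = 1, j = 0
    have hw : T.w 0 = 4 * T.w 1 := by linarith
    have ha : T.a 0 1 = 4 * T.w 1 := by linarith
    have hm : T.m 1 = 2 * T.m 0 := by
      have : T.w 1 * T.m 1 = T.w 1 * (2 * T.m 0) := by nlinarith
      exact mul_left_cancel₀ hw1.ne' this
    refine ⟨1, 0, T.m 0, T.w 1, by decide, m1.1, m0.1, Or.inr ⟨hm, rfl, m1.2, ?_, ?_, rfl, hw⟩⟩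
    · rw [Groth.Agent.Helper11.NT_symm T 0 1]; exact ha
    · rw [m0.2, hw]; ring
  · have hw : T.w 0 = T.w 1 := by linarith
    have ha : T.a 0 1 = 2 * T.w 0 := by linarith
    have hm : T.m 0 = T.m 1 := by
      have : T.w 0 * T.m 0 = T.w 0 * T.m 1 := by nlinarith
      exact mul_left_cancel₀ hw0.ne' this
    refine ⟨0, 1, T.m 0, T.w 0, by decide, m0.1, m1.1, Or.inl ⟨rfl, hm.symm, m0.2, ha, ?_, rfl, hw.symm⟩⟩
    rw [m1.2, hw]
  · -- a = 4 w0 = w1 : i = 0, j = 1
    have hw : T.w 1 = 4 * T.w 0 := by linarith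
    have ha : T.a 0 1 = 4 * T.w 0 := by linarith
    have hm : T.m 0 = 2 * T.m 1 := by
      have : T.w 0 * T.m 0 = T.w 0 * (2 * T.m 1) := by nlinarith
      exact mul_left_cancel₀ hw0.ne' this
    refine ⟨0, 1, T.m 1, T.w 0, by decide, m0.1, m1.1, Or.inr ⟨hm, rfl, m0.2, ha, ?_, rfl, hw⟩⟩
    rw [m1.2, hw]; ring

end Groth.Agent.S7362
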