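import Groth.Statements.S7365
import Groth.Agent.Lib.Helper6.AffFix
import Groth.Agent.Lib.Helper11.NumG1

set_option autoImplicit false
open Finset
open Models Models.NumericalType

namespace Groth.Agent.S7365

/-- Genus one classification: case n = 5: let T be a minimal numerical type of genus 1 on 5 indices.
Then all g_i = 0 and, for some permutation σ of the indices and some integers m, w, the
multiplicities, weights and intersection matrix (m_{σ(i)}, w_{σ(i)}, a_{σ(i)σ(j)}) are those of one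
of the following 9 types: [five cycle] m = (m, m, m, m, m), w = (w, w, w, w, w), a = (-2 * w w 0 0 w
/ w -2 * w w 0 0 / 0 w -2 * w w 0 / 0 0 w -2 * w w / w 0 0 w -2 * w); [equal equal up equal] m = (m,
2 * m, 3 * m, 2 * m, m), w = (w, w, w, 2 * w, 2 * w), a = (-2 * w w 0 0 0 / w -2 * w w 0 0 / 0 w -2
* w 2 * w 0 / 0 0 2 * w -4 * w 2 * w / 0 0 0 2 * w -4 * w); [equal equal down equal] m = (m, 2 * m,
3 * m, 4 * m, 2 * m), w = (2 * w, 2 * w, 2 * w, w, w), a = (-4 * w 2 * w 0 0 0 / 2 * w -4 * w 2 * w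
0 0 / 0 2 * w -4 * w 2 * w 0 / 0 0 2 * w -2 * w w / 0 0 0 w -2 * w); [up equal equal up] m = (2 * m,
2 * m, 2 * m, 2 * m, m), w = (w, 2 * w, 2 * w, 2 * w, 4 * w), a = (-2 * w 2 * w 0 0 0 / 2 * w -4 * w
2 * w 0 0 / 0 2 * w -4 * w 2 * w 0 / 0 0 2 * w -4 * w 4 * w / 0 0 0 4 * w -8 * w); [up equal equal
down] m = (m, m, m, m, m), w = (w, 2 * w, 2 * w, 2 * w, w), a = (-2 * w 2 * w 0 0 0 / 2 * w -4 * w 2
* w 0 0 / 0 2 * w -4 * w 2 * w 0 / 0 0 2 * w -4 * w 2 * w / 0 0 0 2 * w -2 * w); [down equal equal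
up] m = (m, 2 * m, 2 * m, 2 * m, m), w = (2 * w, w, w, w, 2 * w), a = (-4 * w 2 * w 0 0 0 / 2 * w -2
* w w 0 0 / 0 w -2 * w w 0 / 0 0 w -2 * w 2 * w / 0 0 0 2 * w -4 * w); [quadruple] m = (2 * m, m, m,
m, m), w = (w, w, w, w, w), a = (-2 * w w w w w / w -2 * w 0 0 0 / w 0 -2 * w 0 0 / w 0 0 -2 * w 0 /
w 0 0 0 -2 * w); [triple extended up] m = (m, 2 * m, 2 * m, m, m), w = (2 * w, w, w, w, w), a = (-4
* w 2 * w 0 0 0 / 2 * w -2 * w w 0 0 / 0 w -2 * w w w / 0 0 w -2 * w 0 / 0 0 w 0 -2 * w); [triple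
extended down] m = (2 * m, 2 * m, 2 * m, m, m), w = (w, 2 * w, 2 * w, 2 * w, 2 * w), a = (-2 * w 2 *
w 0 0 0 / 2 * w -4 * w 2 * w 0 0 / 0 2 * w -4 * w 2 * w 2 * w / 0 0 2 * w -4 * w 0 / 0 0 2 * w 0 -4
* w). Only the classification direction is stated. -/
theorem result (T : Models.NumericalType 5) (hmin : T.IsMinimal) (hg : T.genus = 1) :
    (∀ i, T.g i = 0) ∧ ∃ (σ : Equiv.Perm (Fin 5)) (m w : ℤ),
      ((T.m (σ 0) = m ∧ T.m (σ 1) = m ∧ T.m (σ 2) = m ∧ T.m (σ 3) = m ∧ T.m (σ 4) = m ∧ T.w (σ 0) = w ∧ T.w (σ 1) = w ∧ T.w (σ 2) = w ∧ T.w (σ 3) = w ∧ T.w (σ 4) = w ∧ T.a (σ 0) (σ 0) = -2 * w ∧ T.a (σ 0) (σ 1) = w ∧ T.a (σ 0) (σ 2) = 0 ∧ T.a (σ 0) (σ 3) = 0 ∧ T.a (σ 0) (σ 4) = w ∧ T.a (σ 1) (σ 1) = -2 * w ∧ T.a (σ 1) (σ 2) = w ∧ T.a (σ 1) (σ 3) = 0 ∧ T.a (σ 1) (σ 4) = 0 ∧ T.a (σ 2) (σ 2) = -2 * w ∧ T.a (σ 2) (σ 3) = w ∧ T.a (σ 2) (σ 4) = 0 ∧ T.a (σ 3) (σ 3) = -2 * w ∧ T.a (σ 3) (σ 4) = w ∧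 T.a (σ 4) (σ 4) = -2 * w) ∨
      (T.m (σ 0) = m ∧ T.m (σ 1) = 2 * m ∧ T.m (σ 2) = 3 * m ∧ T.m (σ 3) = 2 * m ∧ T.m (σ 4) = m ∧ T.w (σ 0) = w ∧ T.w (σ 1) = w ∧ T.w (σ 2) = w ∧ T.w (σ 3) = 2 * w ∧ T.w (σ 4) = 2 * w ∧ T.a (σ 0) (σ 0) = -2 * w ∧ T.a (σ 0) (σ 1) = w ∧ T.a (σ 0) (σ 2) = 0 ∧ T.a (σ 0) (σ 3) = 0 ∧ T.a (σ 0) (σ 4) = 0 ∧ T.a (σ 1) (σ 1) = -2 * w ∧ T.a (σ 1) (σ 2) = w ∧ T.a (σ 1) (σ 3) = 0 ∧ T.a (σ 1) (σ 4) = 0 ∧ T.a (σ 2) (σ 2) = -2 * w ∧ T.a (σ 2) (σ 3) = 2 * w ∧ T.a (σ 2) (σ 4) = 0 ∧ T.a (σ 3) (σ 3) = -4 * w ∧ T.a (σ 3) (σ 4) = 2 * w ∧ T.a (σ 4) (σ 4) = -4 * w) ∨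
      (T.m (σ 0) = m ∧ T.m (σ 1) = 2 * m ∧ T.m (σ 2) = 3 * m ∧ T.m (σ 3) = 4 * m ∧ T.m (σ 4) = 2 * m ∧ T.w (σ 0) = 2 * w ∧ T.w (σ 1) = 2 * w ∧ T.w (σ 2) = 2 * w ∧ T.w (σ 3) = w ∧ T.w (σ 4) = w ∧ T.a (σ 0) (σ 0) = -4 * w ∧ T.a (σ 0) (σ 1) = 2 * w ∧ T.a (σ 0) (σ 2) = 0 ∧ T.a (σ 0) (σ 3) = 0 ∧ T.a (σ 0) (σ 4) = 0 ∧ T.a (σ 1) (σ 1) = -4 * w ∧ T.a (σ 1) (σ 2) = 2 * w ∧ T.a (σ 1) (σ 3) = 0 ∧ T.a (σ 1) (σ 4) = 0 ∧ T.a (σ 2) (σ 2) = -4 * w ∧ T.a (σ 2) (σ 3) = 2 * w ∧ T.a (σ 2) (σ 4) = 0 ∧ T.a (σ 3) (σ 3) = -2 * w ∧ T.a (σ 3) (σ 4) = w ∧ T.a (σ 4) (σ 4) = -2 * w) ∨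
      (T.m (σ 0) = 2 * m ∧ T.m (σ 1) = 2 * m ∧ T.m (σ 2) = 2 * m ∧ T.m (σ 3) = 2 * m ∧ T.m (σ 4) = m ∧ T.w (σ 0) = w ∧ T.w (σ 1) = 2 * w ∧ T.w (σ 2) = 2 * w ∧ T.w (σ 3) = 2 * w ∧ T.w (σ 4) = 4 * w ∧ T.a (σ 0) (σ 0) = -2 * w ∧ T.a (σ 0) (σ 1) = 2 * w ∧ T.a (σ 0) (σ 2) = 0 ∧ T.a (σ 0) (σ 3) = 0 ∧ T.a (σ 0) (σ 4) = 0 ∧ T.a (σ 1) (σ 1) = -4 * w ∧ T.a (σ 1) (σ 2) = 2 * w ∧ T.a (σ 1) (σ 3) = 0 ∧ T.a (σ 1) (σ 4) = 0 ∧ T.a (σ 2) (σ 2) = -4 * w ∧ T.a (σ 2) (σ 3) = 2 * w ∧ T.a (σ 2) (σ 4) = 0 ∧ T.a (σ 3) (σ 3) = -4 * w ∧ T.a (σ 3) (σ 4) = 4 * w ∧ T.a (σ 4) (σ 4) = -8 * w) ∨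
      (T.m (σ 0) = m ∧ T.m (σ 1) = m ∧ T.m (σ 2) = m ∧ T.m (σ 3) = m ∧ T.m (σ 4) = m ∧ T.w (σ 0) = w ∧ T.w (σ 1) = 2 * w ∧ T.w (σ 2) = 2 * w ∧ T.w (σ 3) = 2 * w ∧ T.w (σ 4) = w ∧ T.a (σ 0) (σ 0) = -2 * w ∧ T.a (σ 0) (σ 1) = 2 * w ∧ T.a (σ 0) (σ 2) = 0 ∧ T.a (σ 0) (σ 3) = 0 ∧ T.a (σ 0) (σ 4) = 0 ∧ T.a (σ 1) (σ 1) = -4 * w ∧ T.a (σ 1) (σ 2) = 2 * w ∧ T.a (σ 1) (σ 3) = 0 ∧ T.a (σ 1) (σ 4) = 0 ∧ T.a (σ 2) (σ 2) = -4 * w ∧ T.a (σ 2) (σ 3) = 2 * w ∧ T.a (σ 2) (σ 4) = 0 ∧ T.a (σ 3) (σ 3) = -4 * w ∧ T.a (σ 3) (σ 4) = 2 * w ∧ T.a (σ 4) (σ 4) = -2 * w) ∨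
      (T.m (σ 0) = m ∧ T.m (σ 1) = 2 * m ∧ T.m (σ 2) = 2 * m ∧ T.m (σ 3) = 2 * m ∧ T.m (σ 4) = m ∧ T.w (σ 0) = 2 * w ∧ T.w (σ 1) = w ∧ T.w (σ 2) = w ∧ T.w (σ 3) = w ∧ T.w (σ 4) = 2 * w ∧ T.a (σ 0) (σ 0) = -4 * w ∧ T.a (σ 0) (σ 1) = 2 * w ∧ T.a (σ 0) (σ 2) = 0 ∧ T.a (σ 0) (σ 3) = 0 ∧ T.a (σ 0) (σ 4) = 0 ∧ T.a (σ 1) (σ 1) = -2 * w ∧ T.a (σ 1) (σ 2) = w ∧ T.a (σ 1) (σ 3) = 0 ∧ T.a (σ 1) (σ 4) = 0 ∧ T.a (σ 2) (σ 2) = -2 * w ∧ T.a (σ 2) (σ 3) = w ∧ T.a (σ 2) (σ 4) = 0 ∧ T.a (σ 3) (σ 3) = -2 * w ∧ T.a (σ 3) (σ 4) = 2 * w ∧ T.a (σ 4) (σ 4) = -4 * w) ∨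
      (T.m (σ 0) = 2 * m ∧ T.m (σ 1) = m ∧ T.m (σ 2) = m ∧ T.m (σ 3) = m ∧ T.m (σ 4) = m ∧ T.w (σ 0) = w ∧ T.w (σ 1) = w ∧ T.w (σ 2) = w ∧ T.w (σ 3) = w ∧ T.w (σ 4) = w ∧ T.a (σ 0) (σ 0) = -2 * w ∧ T.a (σ 0) (σ 1) = w ∧ T.a (σ 0) (σ 2) = w ∧ T.a (σ 0) (σ 3) = w ∧ T.a (σ 0) (σ 4) = w ∧ T.a (σ 1) (σ 1) = -2 * w ∧ T.a (σ 1) (σ 2) = 0 ∧ T.a (σ 1) (σ 3) = 0 ∧ T.a (σ 1) (σ 4) = 0 ∧ T.a (σ 2) (σ 2) = -2 * w ∧ T.a (σ 2) (σ 3) = 0 ∧ T.a (σ 2) (σ 4) = 0 ∧ T.a (σ 3) (σ 3) = -2 * w ∧ T.a (σ 3) (σ 4) = 0 ∧ T.a (σ 4) (σ 4) = -2 * w) ∨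
      (T.m (σ 0) = m ∧ T.m (σ 1) = 2 * m ∧ T.m (σ 2) = 2 * m ∧ T.m (σ 3) = m ∧ T.m (σ 4) = m ∧ T.w (σ 0) = 2 * w ∧ T.w (σ 1) = w ∧ T.w (σ 2) = w ∧ T.w (σ 3) = w ∧ T.w (σ 4) = w ∧ T.a (σ 0) (σ 0) = -4 * w ∧ T.a (σ 0) (σ 1) = 2 * w ∧ T.a (σ 0) (σ 2) = 0 ∧ T.a (σ 0) (σ 3) = 0 ∧ T.a (σ 0) (σ 4) = 0 ∧ T.a (σ 1) (σ 1) = -2 * w ∧ T.a (σ 1) (σ 2) = w ∧ T.a (σ 1) (σ 3) = 0 ∧ T.a (σ 1) (σ 4) = 0 ∧ T.a (σ 2) (σ 2) = -2 * w ∧ T.a (σ 2) (σ 3) = w ∧ T.a (σ 2) (σ 4) = w ∧ T.a (σ 3) (σ 3) = -2 * w ∧ T.a (σ 3) (σ 4) = 0 ∧ T.a (σ 4) (σ 4) = -2 * w) ∨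
      (T.m (σ 0) = 2 * m ∧ T.m (σ 1) = 2 * m ∧ T.m (σ 2) = 2 * m ∧ T.m (σ 3) = m ∧ T.m (σ 4) = m ∧ T.w (σ 0) = w ∧ T.w (σ 1) = 2 * w ∧ T.w (σ 2) = 2 * w ∧ T.w (σ 3) = 2 * w ∧ T.w (σ 4) = 2 * w ∧ T.a (σ 0) (σ 0) = -2 * w ∧ T.a (σ 0) (σ 1) = 2 * w ∧ T.a (σ 0) (σ 2) = 0 ∧ T.a (σ 0) (σ 3) = 0 ∧ T.a (σ 0) (σ 4) = 0 ∧ T.a (σ 1) (σ 1) = -4 * w ∧ T.a (σ 1) (σ 2) = 2 * w ∧ T.a (σ 1) (σ 3) = 0 ∧ T.a (σ 1) (σ 4) = 0 ∧ T.a (σ 2) (σ 2) = -4 * w ∧ T.a (σ 2) (σ 3) = 2 * w ∧ T.a (σ 2) (σ 4) = 2 * w ∧ T.a (σ 3) (σ 3) = -4 * w ∧ T.a (σ 3) (σ 4) = 0 ∧ T.a (σ 4) (σ 4) = -4 * w)) := by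
  have hm2 : ∀ x, T.IsMinusTwo x :=
    fun x => Groth.Agent.Helper11.NT_genus_one_allMinusTwo T (by norm_num) hmin hg x
  have hd : ∀ i, T.a i i = -2 * T.w i := fun i => (hm2 i).2
  refine ⟨fun i => (hm2 i).1, ?_⟩
  rcases Groth.Agent.Lib.Helper6.Aff.classify T hd (by norm_num) with ⟨σ, m, w, h⟩ | h | h
  · obtain ⟨h1, h2, h3, h4, h5⟩ := h
    exact ⟨σ, m, w, Or.inl ⟨h1 (0 : Fin 5),
        h1 (1 : Fin 5),
        h1 (2 : Fin 5),
        h1 (3 : Fin 5),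
        h1 (4 : Fin 5),
        h2 (0 : Fin 5),
        h2 (1 : Fin 5),
        h2 (2 : Fin 5),
        h2 (3 : Fin 5),
        h2 (4 : Fin 5),
        (by show T.a (σ (0 : Fin 5)) (σ (0 : Fin 5)) = _; have e1 := hd (σ (0 : Fin 5)); have e2 := h2 (0 : Fin 5); linarith),
        h3 (0 : Fin 5) (1 : Fin 5) (by decide) (by decide),
        h5 (0 : Fin 5) (2 : Fin 5) (by decide) (by decide) (by decide),
        h5 (0 : Fin 5) (3 : Fin 5) (by decide) (by decide) (by decide),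
        h4 (0 : Fin 5) (4 : Fin 5) (by decide) (by decide),
        (by show T.a (σ (1 : Fin 5)) (σ (1 : Fin 5)) = _; have e1 := hd (σ (1 : Fin 5)); have e2 := h2 (1 : Fin 5); linarith),
        h3 (1 : Fin 5) (2 : Fin 5) (by decide) (by decide),
        h5 (1 : Fin 5) (3 : Fin 5) (by decide) (by decide) (by decide),
        h5 (1 : Fin 5) (4 : Fin 5) (by decide) (by decide) (by decide),
        (by show T.a (σ (2 : Fin 5)) (σ (2 : Fin 5)) = _; have e1 := hd (σ (2 : Fin 5)); have e2 := h2 (2 : Fin 5); linarith),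
        h3 (2 : Fin 5) (3 : Fin 5) (by decide) (by decide),
        h5 (2 : Fin 5) (4 : Fin 5) (by decide) (by decide) (by decide),
        (by show T.a (σ (3 : Fin 5)) (σ (3 : Fin 5)) = _; have e1 := hd (σ (3 : Fin 5)); have e2 := h2 (3 : Fin 5); linarith),
        h3 (3 : Fin 5) (4 : Fin 5) (by decide) (by decide),
        (by show T.a (σ (4 : Fin 5)) (σ (4 : Fin 5)) = _; have e1 := hd (σ (4 : Fin 5)); have e2 := h2 (4 : Fin 5); linarith)⟩⟩
  · rcases h with ⟨σ, m, w, h⟩ | ⟨σ, m, w, h⟩ | ⟨σ, m, w, h⟩ | ⟨σ, m, w, h⟩ | ⟨σ, m, w, h⟩ |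
      ⟨σ, m, w, h⟩
    · obtain ⟨h1, h2, h3, h4, h5, h6, h7, h8⟩ := h
      exact ⟨σ, m, w, Or.inr (Or.inr (Or.inr (Or.inl ⟨h1 (0 : Fin 5) (by decide),
          h1 (1 : Fin 5) (by decide),
          h1 (2 : Fin 5) (by decide),
          h1 (3 : Fin 5) (by decide),
          h2 (4 : Fin 5) (by decide),
          h3 (0 : Fin 5) (by decide),
          h4 (1 : Fin 5) (by decide),
          h4 (2 : Fin 5) (by decide),
          h4 (3 : Fin 5) (by decide),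
          h5 (4 : Fin 5) (by decide),
          (by show T.a (σ (0 : Fin 5)) (σ (0 : Fin 5)) = _; have e1 := hd (σ (0 : Fin 5)); have e2 := h3 (0 : Fin 5) (by decide); linarith),
          h6 (0 : Fin 5) (1 : Fin 5) (by decide) (by decide),
          h8 (0 : Fin 5) (2 : Fin 5) (by decide) (by decide) (by decide),
          h8 (0 : Fin 5) (3 : Fin 5) (by decide) (by decide) (by decide),
          h8 (0 : Fin 5) (4 : Fin 5) (by decide) (by decide) (by decide),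
          (by show T.a (σ (1 : Fin 5)) (σ (1 : Fin 5)) = _; have e1 := hd (σ (1 : Fin 5)); have e2 := h4 (1 : Fin 5) (by decide); linarith),
          h6 (1 : Fin 5) (2 : Fin 5) (by decide) (by decide),
          h8 (1 : Fin 5) (3 : Fin 5) (by decide) (by decide) (by decide),
          h8 (1 : Fin 5) (4 : Fin 5) (by decide) (by decide) (by decide),
          (by show T.a (σ (2 : Fin 5)) (σ (2 : Fin 5)) = _; have e1 := hd (σ (2 : Fin 5)); have e2 := h4 (2 : Fin 5) (by decide); linarith),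
          h6 (2 : Fin 5) (3 : Fin 5) (by decide) (by decide),
          h8 (2 : Fin 5) (4 : Fin 5) (by decide) (by decide) (by decide),
          (by show T.a (σ (3 : Fin 5)) (σ (3 : Fin 5)) = _; have e1 := hd (σ (3 : Fin 5)); have e2 := h4 (3 : Fin 5) (by decide); linarith),
          h7 (3 : Fin 5) (4 : Fin 5) (by decide) (by decide),
          (by show T.a (σ (4 : Fin 5)) (σ (4 : Fin 5)) = _; have e1 := hd (σ (4 : Fin 5)); have e2 := h5 (4 : Fin 5) (by decide); linarith)⟩)))⟩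
    · obtain ⟨h1, h2, h3, h4, h5, h6⟩ := h
      exact ⟨σ, m, w, Or.inr (Or.inr (Or.inr (Or.inr (Or.inl ⟨h1 (0 : Fin 5),
          h1 (1 : Fin 5),
          h1 (2 : Fin 5),
          h1 (3 : Fin 5),
          h1 (4 : Fin 5),
          h2 (0 : Fin 5) (by decide),
          h3 (1 : Fin 5) (by decide),
          h3 (2 : Fin 5) (by decide),
          h3 (3 : Fin 5) (by decide),
          h4 (4 : Fin 5) (by decide),
          (by show T.a (σ (0 : Fin 5)) (σ (0 : Fin 5)) = _; have e1 := hd (σ (0 : Fin 5)); have e2 := h2 (0 : Fin 5) (by decide); linarith),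
          h5 (0 : Fin 5) (1 : Fin 5) (by decide) (by decide),
          h6 (0 : Fin 5) (2 : Fin 5) (by decide) (by decide),
          h6 (0 : Fin 5) (3 : Fin 5) (by decide) (by decide),
          h6 (0 : Fin 5) (4 : Fin 5) (by decide) (by decide),
          (by show T.a (σ (1 : Fin 5)) (σ (1 : Fin 5)) = _; have e1 := hd (σ (1 : Fin 5)); have e2 := h3 (1 : Fin 5) (by decide); linarith),
          h5 (1 : Fin 5) (2 : Fin 5) (by decide) (by decide),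
          h6 (1 : Fin 5) (3 : Fin 5) (by decide) (by decide),
          h6 (1 : Fin 5) (4 : Fin 5) (by decide) (by decide),
          (by show T.a (σ (2 : Fin 5)) (σ (2 : Fin 5)) = _; have e1 := hd (σ (2 : Fin 5)); have e2 := h3 (2 : Fin 5) (by decide); linarith),
          h5 (2 : Fin 5) (3 : Fin 5) (by decide) (by decide),
          h6 (2 : Fin 5) (4 : Fin 5) (by decide) (by decide),
          (by show T.a (σ (3 : Fin 5)) (σ (3 : Fin 5)) = _; have e1 := hd (σ (3 : Fin 5)); have e2 := h3 (3 : Fin 5) (by decide); linarith),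
          h5 (3 : Fin 5) (4 : Fin 5) (by decide) (by decide),
          (by show T.a (σ (4 : Fin 5)) (σ (4 : Fin 5)) = _; have e1 := hd (σ (4 : Fin 5)); have e2 := h4 (4 : Fin 5) (by decide); linarith)⟩))))⟩
    · obtain ⟨h1, h2, h3, h4, h5, h6, h7, h8, h9, h10⟩ := h
      exact ⟨σ, m, w, Or.inr (Or.inr (Or.inr (Or.inr (Or.inr (Or.inl ⟨h1 (0 : Fin 5) (by decide),
          h2 (1 : Fin 5) (by decide),
          h2 (2 : Fin 5) (by decide),
          h2 (3 : Fin 5) (by decide),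
          h3 (4 : Fin 5) (by decide),
          h4 (0 : Fin 5) (by decide),
          h5 (1 : Fin 5) (by decide),
          h5 (2 : Fin 5) (by decide),
          h5 (3 : Fin 5) (by decide),
          h6 (4 : Fin 5) (by decide),
          (by show T.a (σ (0 : Fin 5)) (σ (0 : Fin 5)) = _; have e1 := hd (σ (0 : Fin 5)); have e2 := h4 (0 : Fin 5) (by decide); linarith),
          h7 (0 : Fin 5) (1 : Fin 5) (by decide) (by decide),
          h10 (0 : Fin 5) (2 : Fin 5) (by decide) (by decide) (by decide) (by decide),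
          h10 (0 : Fin 5) (3 : Fin 5) (by decide) (by decide) (by decide) (by decide),
          h10 (0 : Fin 5) (4 : Fin 5) (by decide) (by decide) (by decide) (by decide),
          (by show T.a (σ (1 : Fin 5)) (σ (1 : Fin 5)) = _; have e1 := hd (σ (1 : Fin 5)); have e2 := h5 (1 : Fin 5) (by decide); linarith),
          h8 (1 : Fin 5) (2 : Fin 5) (by decide) (by decide),
          h10 (1 : Fin 5) (3 : Fin 5) (by decide) (by decide) (by decide) (by decide),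
          h10 (1 : Fin 5) (4 : Fin 5) (by decide) (by decide) (by decide) (by decide),
          (by show T.a (σ (2 : Fin 5)) (σ (2 : Fin 5)) = _; have e1 := hd (σ (2 : Fin 5)); have e2 := h5 (2 : Fin 5) (by decide); linarith),
          h8 (2 : Fin 5) (3 : Fin 5) (by decide) (by decide),
          h10 (2 : Fin 5) (4 : Fin 5) (by decide) (by decide) (by decide) (by decide),
          (by show T.a (σ (3 : Fin 5)) (σ (3 : Fin 5)) = _; have e1 := hd (σ (3 : Fin 5)); have e2 := h5 (3 : Fin 5) (by decide); linarith),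
          h9 (3 : Fin 5) (4 : Fin 5) (by decide) (by decide),
          (by show T.a (σ (4 : Fin 5)) (σ (4 : Fin 5)) = _; have e1 := hd (σ (4 : Fin 5)); have e2 := h6 (4 : Fin 5) (by decide); linarith)⟩)))))⟩
    · obtain ⟨h1, h2, h3, h4, h5, h6, h7, h8, h9⟩ := h
      exact ⟨σ, m, w, Or.inr (Or.inr (Or.inr (Or.inr (Or.inr (Or.inr (Or.inr (Or.inl ⟨h1 (0 : Fin 5) (by decide),
          h2 (1 : Fin 5) (by decide),
          h2 (2 : Fin 5) (by decide),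
          h3 (3 : Fin 5) (by decide),
          h3 (4 : Fin 5) (by decide),
          h4 (0 : Fin 5) (by decide),
          h5 (1 : Fin 5) (by decide),
          h5 (2 : Fin 5) (by decide),
          h5 (3 : Fin 5) (by decide),
          h5 (4 : Fin 5) (by decide),
          (by show T.a (σ (0 : Fin 5)) (σ (0 : Fin 5)) = _; have e1 := hd (σ (0 : Fin 5)); have e2 := h4 (0 : Fin 5) (by decide); linarith),
          h6 (0 : Fin 5) (1 : Fin 5) (by decide) (by decide),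
          h9 (0 : Fin 5) (2 : Fin 5) (by decide) (by decide) (by decide) (by decide),
          h9 (0 : Fin 5) (3 : Fin 5) (by decide) (by decide) (by decide) (by decide),
          h9 (0 : Fin 5) (4 : Fin 5) (by decide) (by decide) (by decide) (by decide),
          (by show T.a (σ (1 : Fin 5)) (σ (1 : Fin 5)) = _; have e1 := hd (σ (1 : Fin 5)); have e2 := h5 (1 : Fin 5) (by decide); linarith),
          h7 (1 : Fin 5) (2 : Fin 5) (by decide) (by decide),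
          h9 (1 : Fin 5) (3 : Fin 5) (by decide) (by decide) (by decide) (by decide),
          h9 (1 : Fin 5) (4 : Fin 5) (by decide) (by decide) (by decide) (by decide),
          (by show T.a (σ (2 : Fin 5)) (σ (2 : Fin 5)) = _; have e1 := hd (σ (2 : Fin 5)); have e2 := h5 (2 : Fin 5) (by decide); linarith),
          h7 (2 : Fin 5) (3 : Fin 5) (by decide) (by decide),
          h8 (2 : Fin 5) (4 : Fin 5) (by decide) (by decide),
          (by show T.a (σ (3 : Fin 5)) (σ (3 : Fin 5)) = _; have e1 := hd (σ (3 : Fin 5)); have e2 := h5 (3 : Fin 5) (by decide); linarith),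
          h9 (3 : Fin 5) (4 : Fin 5) (by decide) (by decide) (by decide) (by decide),
          (by show T.a (σ (4 : Fin 5)) (σ (4 : Fin 5)) = _; have e1 := hd (σ (4 : Fin 5)); have e2 := h5 (4 : Fin 5) (by decide); linarith)⟩)))))))⟩
    · obtain ⟨h1, h2, h3, h4, h5, h6, h7⟩ := h
      exact ⟨σ, m, w, Or.inr (Or.inr (Or.inr (Or.inr (Or.inr (Or.inr (Or.inr (Or.inr (⟨h1 (0 : Fin 5) (by decide),
          h1 (1 : Fin 5) (by decide),
          h1 (2 : Fin 5) (by decide),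
          h2 (3 : Fin 5) (by decide),
          h2 (4 : Fin 5) (by decide),
          h3 (0 : Fin 5) (by decide),
          h4 (1 : Fin 5) (by decide),
          h4 (2 : Fin 5) (by decide),
          h4 (3 : Fin 5) (by decide),
          h4 (4 : Fin 5) (by decide),
          (by show T.a (σ (0 : Fin 5)) (σ (0 : Fin 5)) = _; have e1 := hd (σ (0 : Fin 5)); have e2 := h3 (0 : Fin 5) (by decide); linarith),
          h5 (0 : Fin 5) (1 : Fin 5) (by decide) (by decide),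
          h7 (0 : Fin 5) (2 : Fin 5) (by decide) (by decide) (by decide),
          h7 (0 : Fin 5) (3 : Fin 5) (by decide) (by decide) (by decide),
          h7 (0 : Fin 5) (4 : Fin 5) (by decide) (by decide) (by decide),
          (by show T.a (σ (1 : Fin 5)) (σ (1 : Fin 5)) = _; have e1 := hd (σ (1 : Fin 5)); have e2 := h4 (1 : Fin 5) (by decide); linarith),
          h5 (1 : Fin 5) (2 : Fin 5) (by decide) (by decide),
          h7 (1 : Fin 5) (3 : Fin 5) (by decide) (by decide) (by decide),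
          h7 (1 : Fin 5) (4 : Fin 5) (by decide) (by decide) (by decide),
          (by show T.a (σ (2 : Fin 5)) (σ (2 : Fin 5)) = _; have e1 := hd (σ (2 : Fin 5)); have e2 := h4 (2 : Fin 5) (by decide); linarith),
          h5 (2 : Fin 5) (3 : Fin 5) (by decide) (by decide),
          h6 (2 : Fin 5) (4 : Fin 5) (by decide) (by decide),
          (by show T.a (σ (3 : Fin 5)) (σ (3 : Fin 5)) = _; have e1 := hd (σ (3 : Fin 5)); have e2 := h4 (3 : Fin 5) (by decide); linarith),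
          h7 (3 : Fin 5) (4 : Fin 5) (by decide) (by decide) (by decide),
          (by show T.a (σ (4 : Fin 5)) (σ (4 : Fin 5)) = _; have e1 := hd (σ (4 : Fin 5)); have e2 := h4 (4 : Fin 5) (by decide); linarith)⟩))))))))⟩
    · obtain ⟨h1, h2, h3, h4, h5, h6, h7, h8, h9⟩ := h
      exact ⟨((⟨![2,0,1,3,4], ![1,2,0,3,4], by decide, by decide⟩ : Equiv.Perm (Fin 5)).trans σ), m, w, Or.inr (Or.inr (Or.inr (Or.inr (Or.inr (Or.inr (Or.inl ⟨h2 (2 : Fin 5) (by decide),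
          h1 (0 : Fin 5) (by decide),
          h1 (1 : Fin 5) (by decide),
          h3 (3 : Fin 5) (by decide),
          h3 (4 : Fin 5) (by decide),
          h4 (2 : Fin 5),
          h4 (0 : Fin 5),
          h4 (1 : Fin 5),
          h4 (3 : Fin 5),
          h4 (4 : Fin 5),
          (by show T.a (σ (2 : Fin 5)) (σ (2 : Fin 5)) = _; have e1 := hd (σ (2 : Fin 5)); have e2 := h4 (2 : Fin 5); linarith),
          ((Groth.Agent.Lib.Helper6.Aff.a_symm T _ _).trans (h5 (0 : Fin 5) (2 : Fin 5) (by decide) (by decide))),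
          ((Groth.Agent.Lib.Helper6.Aff.a_symm T _ _).trans (h6 (1 : Fin 5) (2 : Fin 5) (by decide) (by decide))),
          h7 (2 : Fin 5) (3 : Fin 5) (by decide) (by decide),
          h8 (2 : Fin 5) (4 : Fin 5) (by decide) (by decide),
          (by show T.a (σ (0 : Fin 5)) (σ (0 : Fin 5)) = _; have e1 := hd (σ (0 : Fin 5)); have e2 := h4 (0 : Fin 5); linarith),
          h9 (0 : Fin 5) (1 : Fin 5) (by decide) (by decide) (by decide) (by decide) (by decide),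
          h9 (0 : Fin 5) (3 : Fin 5) (by decide) (by decide) (by decide) (by decide) (by decide),
          h9 (0 : Fin 5) (4 : Fin 5) (by decide) (by decide) (by decide) (by decide) (by decide),
          (by show T.a (σ (1 : Fin 5)) (σ (1 : Fin 5)) = _; have e1 := hd (σ (1 : Fin 5)); have e2 := h4 (1 : Fin 5); linarith),
          h9 (1 : Fin 5) (3 : Fin 5) (by decide) (by decide) (by decide) (by decide) (by decide),
          h9 (1 : Fin 5) (4 : Fin 5) (by decide) (by decide) (by decide) (by decide) (by decide),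
          (by show T.a (σ (3 : Fin 5)) (σ (3 : Fin 5)) = _; have e1 := hd (σ (3 : Fin 5)); have e2 := h4 (3 : Fin 5); linarith),
          h9 (3 : Fin 5) (4 : Fin 5) (by decide) (by decide) (by decide) (by decide) (by decide),
          (by show T.a (σ (4 : Fin 5)) (σ (4 : Fin 5)) = _; have e1 := hd (σ (4 : Fin 5)); have e2 := h4 (4 : Fin 5); linarith)⟩))))))⟩
  · obtain ⟨b, x₁, x₂, x₃, k₁, k₂, k₃, d₁, d₂, d₃, ω₁, ω₂, ω₃, hS, htype⟩ := h
    have hn' := (Groth.Agent.Lib.Helper6.Aff.star_pos T hS).1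
    rcases htype with ⟨hω₁, hω₂, hω₃, ⟨rfl, rfl, rfl⟩ | ⟨rfl, rfl, rfl⟩ | ⟨rfl, rfl, rfl⟩⟩ |
      ⟨hω₁, hω₂, rfl, ⟨rfl, rfl⟩ | ⟨rfl, rfl⟩⟩
    · exfalso; omega
    · exfalso; omega
    · exfalso; omega
    · obtain ⟨-, hinj, hmv, hwv, hav⟩ := Groth.Agent.Lib.Helper6.Aff.star_pos T hS
      have t1 := hS.a1.tot
      have t2 := hS.a2.tot
      norm_num at t1 t2
      obtain ⟨σ', hσ'⟩ := Groth.Agent.Lib.Helper6.Aff.perm_of_inj_reindex _ hinj (fun i => ([4,3,0,1,2] : List ℕ).getD i 0) (by decide) (by decide)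
      have e0 : σ' 0 = Groth.Agent.Lib.Helper6.Aff.starPos b x₁ x₂ x₃ 2 2 4 := hσ' 0
      have e1 : σ' 1 = Groth.Agent.Lib.Helper6.Aff.starPos b x₁ x₂ x₃ 2 2 3 := hσ' 1
      have e2 : σ' 2 = Groth.Agent.Lib.Helper6.Aff.starPos b x₁ x₂ x₃ 2 2 0 := hσ' 2
      have e3 : σ' 3 = Groth.Agent.Lib.Helper6.Aff.starPos b x₁ x₂ x₃ 2 2 1 := hσ' 3
      have e4 : σ' 4 = Groth.Agent.Lib.Helper6.Aff.starPos b x₁ x₂ x₃ 2 2 2 := hσ' 4
      rw [hω₁, hω₂] at hwv hav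
      refine ⟨σ', d₁, T.w b, Or.inr (Or.inl ⟨?_, ?_, ?_, ?_, ?_, ?_, ?_, ?_, ?_, ?_, ?_, ?_, ?_, ?_, ?_, ?_, ?_, ?_, ?_, ?_, ?_, ?_, ?_, ?_, ?_⟩)⟩
      · rw [e0]; have h := hmv 4 (by norm_num); norm_num at h; linarith
      · rw [e1]; have h := hmv 3 (by norm_num); norm_num at h; linarith
      · rw [e2]; have h := hmv 0 (by norm_num); norm_num at h; linarith
      · rw [e3]; have h := hmv 1 (by norm_num); norm_num at h; linarith
      · rw [e4]; have h := hmv 2 (by norm_num); norm_num at h; linarith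
      · rw [e0]; have h := hwv 4 (by norm_num); norm_num at h; linarith
      · rw [e1]; have h := hwv 3 (by norm_num); norm_num at h; linarith
      · rw [e2]; have h := hwv 0 (by norm_num); norm_num at h; linarith
      · rw [e3]; have h := hwv 1 (by norm_num); norm_num at h; linarith
      · rw [e4]; have h := hwv 2 (by norm_num); norm_num at h; linarith
      · rw [e0, hd]; have h := hwv 4 (by norm_num); norm_num at h; linarith
      · rw [e0, e1, Groth.Agent.Lib.Helper6.Aff.a_symm T]; have h := hav 3 4 (by norm_num) (by norm_num); norm_num at h; linarith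
      · rw [e0, e2, Groth.Agent.Lib.Helper6.Aff.a_symm T]; have h := hav 0 4 (by norm_num) (by norm_num); norm_num at h; linarith
      · rw [e0, e3, Groth.Agent.Lib.Helper6.Aff.a_symm T]; have h := hav 1 4 (by norm_num) (by norm_num); norm_num at h; linarith
      · rw [e0, e4, Groth.Agent.Lib.Helper6.Aff.a_symm T]; have h := hav 2 4 (by norm_num) (by norm_num); norm_num at h; linarith
      · rw [e1, hd]; have h := hwv 3 (by norm_num); norm_num at h; linarith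
      · rw [e1, e2, Groth.Agent.Lib.Helper6.Aff.a_symm T]; have h := hav 0 3 (by norm_num) (by norm_num); norm_num at h; linarith
      · rw [e1, e3, Groth.Agent.Lib.Helper6.Aff.a_symm T]; have h := hav 1 3 (by norm_num) (by norm_num); norm_num at h; linarith
      · rw [e1, e4, Groth.Agent.Lib.Helper6.Aff.a_symm T]; have h := hav 2 3 (by norm_num) (by norm_num); norm_num at h; linarith
      · rw [e2, hd]; have h := hwv 0 (by norm_num); norm_num at h; linarith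
      · rw [e2, e3]; have h := hav 0 1 (by norm_num) (by norm_num); norm_num at h; linarith
      · rw [e2, e4]; have h := hav 0 2 (by norm_num) (by norm_num); norm_num at h; linarith
      · rw [e3, hd]; have h := hwv 1 (by norm_num); norm_num at h; linarith
      · rw [e3, e4]; have h := hav 1 2 (by norm_num) (by norm_num); norm_num at h; linarith
      · rw [e4, hd]; have h := hwv 2 (by norm_num); norm_num at h; linarith
    · obtain ⟨-, hinj, hmv, hwv, hav⟩ := Groth.Agent.Lib.Helper6.Aff.star_pos T hS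
      have t1 := hS.a1.tot
      have t2 := hS.a2.tot
      norm_num at t1 t2
      obtain ⟨σ', hσ'⟩ := Groth.Agent.Lib.Helper6.Aff.perm_of_inj_reindex _ hinj (fun i => ([3,2,1,0,4] : List ℕ).getD i 0) (by decide) (by decide)
      have e0 : σ' 0 = Groth.Agent.Lib.Helper6.Aff.starPos b x₁ x₂ x₃ 3 1 3 := hσ' 0
      have e1 : σ' 1 = Groth.Agent.Lib.Helper6.Aff.starPos b x₁ x₂ x₃ 3 1 2 := hσ' 1
      have e2 : σ' 2 = Groth.Agent.Lib.Helper6.Aff.starPos b x₁ x₂ x₃ 3 1 1 := hσ' 2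
      have e3 : σ' 3 = Groth.Agent.Lib.Helper6.Aff.starPos b x₁ x₂ x₃ 3 1 0 := hσ' 3
      have e4 : σ' 4 = Groth.Agent.Lib.Helper6.Aff.starPos b x₁ x₂ x₃ 3 1 4 := hσ' 4
      rw [hω₁, hω₂] at hwv hav
      refine ⟨σ', d₁, T.w b, Or.inr (Or.inr (Or.inl ⟨?_, ?_, ?_, ?_, ?_, ?_, ?_, ?_, ?_, ?_, ?_, ?_, ?_, ?_, ?_, ?_, ?_, ?_, ?_, ?_, ?_, ?_, ?_, ?_, ?_⟩))⟩
      · rw [e0]; have h := hmv 3 (by norm_num); norm_num at h; linarith
      · rw [e1]; have h := hmv 2 (by norm_num); norm_num at h; linarith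
      · rw [e2]; have h := hmv 1 (by norm_num); norm_num at h; linarith
      · rw [e3]; have h := hmv 0 (by norm_num); norm_num at h; linarith
      · rw [e4]; have h := hmv 4 (by norm_num); norm_num at h; linarith
      · rw [e0]; have h := hwv 3 (by norm_num); norm_num at h; linarith
      · rw [e1]; have h := hwv 2 (by norm_num); norm_num at h; linarith
      · rw [e2]; have h := hwv 1 (by norm_num); norm_num at h; linarith
      · rw [e3]; have h := hwv 0 (by norm_num); norm_num at h; linarith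
      · rw [e4]; have h := hwv 4 (by norm_num); norm_num at h; linarith
      · rw [e0, hd]; have h := hwv 3 (by norm_num); norm_num at h; linarith
      · rw [e0, e1, Groth.Agent.Lib.Helper6.Aff.a_symm T]; have h := hav 2 3 (by norm_num) (by norm_num); norm_num at h; linarith
      · rw [e0, e2, Groth.Agent.Lib.Helper6.Aff.a_symm T]; have h := hav 1 3 (by norm_num) (by norm_num); norm_num at h; linarith
      · rw [e0, e3, Groth.Agent.Lib.Helper6.Aff.a_symm T]; have h := hav 0 3 (by norm_num) (by norm_num); norm_num at h; linarith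
      · rw [e0, e4]; have h := hav 3 4 (by norm_num) (by norm_num); norm_num at h; linarith
      · rw [e1, hd]; have h := hwv 2 (by norm_num); norm_num at h; linarith
      · rw [e1, e2, Groth.Agent.Lib.Helper6.Aff.a_symm T]; have h := hav 1 2 (by norm_num) (by norm_num); norm_num at h; linarith
      · rw [e1, e3, Groth.Agent.Lib.Helper6.Aff.a_symm T]; have h := hav 0 2 (by norm_num) (by norm_num); norm_num at h; linarith
      · rw [e1, e4]; have h := hav 2 4 (by norm_num) (by norm_num); norm_num at h; linarith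
      · rw [e2, hd]; have h := hwv 1 (by norm_num); norm_num at h; linarith
      · rw [e2, e3, Groth.Agent.Lib.Helper6.Aff.a_symm T]; have h := hav 0 1 (by norm_num) (by norm_num); norm_num at h; linarith
      · rw [e2, e4]; have h := hav 1 4 (by norm_num) (by norm_num); norm_num at h; linarith
      · rw [e3, hd]; have h := hwv 0 (by norm_num); norm_num at h; linarith
      · rw [e3, e4]; have h := hav 0 4 (by norm_num) (by norm_num); norm_num at h; linarith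
      · rw [e4, hd]; have h := hwv 4 (by norm_num); norm_num at h; linarith

end Groth.Agent.S7365
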