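import Groth.Statements.S7367
import Groth.Agent.Lib.Helper6.AffFix
import Groth.Agent.Lib.Helper11.NumG1

set_option autoImplicit false
open Finset
open Models Models.NumericalType

namespace Groth.Agent.S7367

/-- Genus one classification: case n = 6: let T be a minimal numerical type of genus 1 on 6 indices.
Then all g_i = 0 and, for some permutation σ of the indices and some integers m, w, the
multiplicities, weights and intersection matrix (m_{σ(i)}, w_{σ(i)}, a_{σ(i)σ(j)}) are those of one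
of the following 7 types: [cycle] m = (m, m, m, m, m, m), w = (w, w, w, w, w, w), a = (-2 * w w 0 0
0 w / w -2 * w w 0 0 0 / 0 w -2 * w w 0 0 / 0 0 w -2 * w w 0 / 0 0 0 w -2 * w w / w 0 0 0 w -2 * w);
[up chain equal up] m = (2 * m, 2 * m, 2 * m, 2 * m, 2 * m, m), w = (w, 2 * w, 2 * w, 2 * w, 2 * w,
4 * w), a = (-2 * w 2 * w 0 0 0 0 / 2 * w -4 * w 2 * w 0 0 0 / 0 2 * w -4 * w 2 * w 0 0 / 0 0 2 * w
-4 * w 2 * w 0 / 0 0 0 2 * w -4 * w 4 * w / 0 0 0 0 4 * w -8 * w); [up chain equal down] m = (m, m,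
m, m, m, m), w = (w, 2 * w, 2 * w, 2 * w, 2 * w, w), a = (-2 * w 2 * w 0 0 0 0 / 2 * w -4 * w 2 * w
0 0 0 / 0 2 * w -4 * w 2 * w 0 0 / 0 0 2 * w -4 * w 2 * w 0 / 0 0 0 2 * w -4 * w 2 * w / 0 0 0 0 2 *
w -2 * w); [down chain equal up] m = (m, 2 * m, 2 * m, 2 * m, 2 * m, m), w = (2 * w, w, w, w, w, 2 *
w), a = (-4 * w 2 * w 0 0 0 0 / 2 * w -2 * w w 0 0 0 / 0 w -2 * w w 0 0 / 0 0 w -2 * w w 0 / 0 0 0 w
-2 * w 2 * w / 0 0 0 0 2 * w -4 * w); [D extended up] m = (m, 2 * m, 2 * m, 2 * m, m, m), w = (2 *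
w, w, w, w, w, w), a = (-4 * w 2 * w 0 0 0 0 / 2 * w -2 * w w 0 0 0 / 0 w -2 * w w 0 0 / 0 0 w -2 *
w w w / 0 0 0 w -2 * w 0 / 0 0 0 w 0 -2 * w); [D extended down] m = (2 * m, 2 * m, 2 * m, 2 * m, m,
m), w = (w, 2 * w, 2 * w, 2 * w, 2 * w, 2 * w), a = (-2 * w 2 * w 0 0 0 0 / 2 * w -4 * w 2 * w 0 0 0
/ 0 2 * w -4 * w 2 * w 0 0 / 0 0 2 * w -4 * w 2 * w 2 * w / 0 0 0 2 * w -4 * w 0 / 0 0 0 2 * w 0 -4
* w); [double triple] m = (m, m, 2 * m, 2 * m, m, m), w = (w, w, w, w, w, w), a = (-2 * w 0 w 0 0 0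
/ 0 -2 * w w 0 0 0 / w w -2 * w w 0 0 / 0 0 w -2 * w w w / 0 0 0 w -2 * w 0 / 0 0 0 w 0 -2 * w).
Only the classification direction is stated. (In the family with weights (w, 2w, …, 2w, w) the
consecutive intersection numbers are 2w, as divisibility by the weights forces; the published list
prints w there, and omits m_{n-2} = 2m in the two D-type families.) -/
theorem result (T : Models.NumericalType 6) (hmin : T.IsMinimal) (hg : T.genus = 1) :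
    (∀ i, T.g i = 0) ∧ ∃ (σ : Equiv.Perm (Fin 6)) (m w : ℤ),
      ((T.m (σ 0) = m ∧ T.m (σ 1) = m ∧ T.m (σ 2) = m ∧ T.m (σ 3) = m ∧ T.m (σ 4) = m ∧ T.m (σ 5) = m ∧ T.w (σ 0) = w ∧ T.w (σ 1) = w ∧ T.w (σ 2) = w ∧ T.w (σ 3) = w ∧ T.w (σ 4) = w ∧ T.w (σ 5) = w ∧ T.a (σ 0) (σ 0) = -2 * w ∧ T.a (σ 0) (σ 1) = w ∧ T.a (σ 0) (σ 2) = 0 ∧ T.a (σ 0) (σ 3) = 0 ∧ T.a (σ 0) (σ 4) = 0 ∧ T.a (σ 0) (σ 5) = w ∧ T.a (σ 1) (σ 1) = -2 * w ∧ T.a (σ 1) (σ 2) = w ∧ T.a (σ 1) (σ 3) = 0 ∧ T.a (σ 1) (σ 4) = 0 ∧ T.a (σ 1) (σ 5) = 0 ∧ T.a (σ 2) (σ 2) = -2 * w ∧ T.a (σ 2) (σ 3) = w ∧ T.a (σ 2) (σ 4) = 0 ∧ T.a (σ 2) (σ 5) = 0 ∧ T.a (σ 3) (σ 3) = -2 * w ∧ T.a (σ 3) (σ 4) = w ∧ T.a (σ 3) (σ 5) = 0 ∧ T.a (σ 4) (σ 4) = -2 * w ∧ T.a (σ 4) (σ 5) = w ∧ T.a (σ 5) (σ 5) = -2 * w) ∨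
      (T.m (σ 0) = 2 * m ∧ T.m (σ 1) = 2 * m ∧ T.m (σ 2) = 2 * m ∧ T.m (σ 3) = 2 * m ∧ T.m (σ 4) = 2 * m ∧ T.m (σ 5) = m ∧ T.w (σ 0) = w ∧ T.w (σ 1) = 2 * w ∧ T.w (σ 2) = 2 * w ∧ T.w (σ 3) = 2 * w ∧ T.w (σ 4) = 2 * w ∧ T.w (σ 5) = 4 * w ∧ T.a (σ 0) (σ 0) = -2 * w ∧ T.a (σ 0) (σ 1) = 2 * w ∧ T.a (σ 0) (σ 2) = 0 ∧ T.a (σ 0) (σ 3) = 0 ∧ T.a (σ 0) (σ 4) = 0 ∧ T.a (σ 0) (σ 5) = 0 ∧ T.a (σ 1) (σ 1) = -4 * w ∧ T.a (σ 1) (σ 2) = 2 * w ∧ T.a (σ 1) (σ 3) = 0 ∧ T.a (σ 1) (σ 4) = 0 ∧ T.a (σ 1) (σ 5) = 0 ∧ T.a (σ 2) (σ 2) = -4 * w ∧ T.a (σ 2) (σ 3) = 2 * w ∧ T.a (σ 2) (σ 4) = 0 ∧ T.a (σ 2) (σ 5) = 0 ∧ T.a (σ 3) (σ 3) = -4 * w ∧ T.a (σ 3) (σ 4) = 2 * w ∧ T.a (σ 3) (σ 5) = 0 ∧ T.a (σ 4) (σ 4) = -4 * w ∧ T.a (σ 4) (σ 5) = 4 * w ∧ T.a (σ 5) (σ 5) = -8 * w) ∨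
      (T.m (σ 0) = m ∧ T.m (σ 1) = m ∧ T.m (σ 2) = m ∧ T.m (σ 3) = m ∧ T.m (σ 4) = m ∧ T.m (σ 5) = m ∧ T.w (σ 0) = w ∧ T.w (σ 1) = 2 * w ∧ T.w (σ 2) = 2 * w ∧ T.w (σ 3) = 2 * w ∧ T.w (σ 4) = 2 * w ∧ T.w (σ 5) = w ∧ T.a (σ 0) (σ 0) = -2 * w ∧ T.a (σ 0) (σ 1) = 2 * w ∧ T.a (σ 0) (σ 2) = 0 ∧ T.a (σ 0) (σ 3) = 0 ∧ T.a (σ 0) (σ 4) = 0 ∧ T.a (σ 0) (σ 5) = 0 ∧ T.a (σ 1) (σ 1) = -4 * w ∧ T.a (σ 1) (σ 2) = 2 * w ∧ T.a (σ 1) (σ 3) = 0 ∧ T.a (σ 1) (σ 4) = 0 ∧ T.a (σ 1) (σ 5) = 0 ∧ T.a (σ 2) (σ 2) = -4 * w ∧ T.a (σ 2) (σ 3) = 2 * w ∧ T.a (σ 2) (σ 4) = 0 ∧ T.a (σ 2) (σ 5) = 0 ∧ T.a (σ 3) (σ 3) = -4 * w ∧ T.a (σ 3) (σ 4) = 2 * w ∧ T.a (σ 3) (σ 5) = 0 ∧ T.a (σ 4) (σ 4) = -4 * w ∧ T.a (σ 4) (σ 5) = 2 * w ∧ T.a (σ 5) (σ 5) = -2 * w) ∨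
      (T.m (σ 0) = m ∧ T.m (σ 1) = 2 * m ∧ T.m (σ 2) = 2 * m ∧ T.m (σ 3) = 2 * m ∧ T.m (σ 4) = 2 * m ∧ T.m (σ 5) = m ∧ T.w (σ 0) = 2 * w ∧ T.w (σ 1) = w ∧ T.w (σ 2) = w ∧ T.w (σ 3) = w ∧ T.w (σ 4) = w ∧ T.w (σ 5) = 2 * w ∧ T.a (σ 0) (σ 0) = -4 * w ∧ T.a (σ 0) (σ 1) = 2 * w ∧ T.a (σ 0) (σ 2) = 0 ∧ T.a (σ 0) (σ 3) = 0 ∧ T.a (σ 0) (σ 4) = 0 ∧ T.a (σ 0) (σ 5) = 0 ∧ T.a (σ 1) (σ 1) = -2 * w ∧ T.a (σ 1) (σ 2) = w ∧ T.a (σ 1) (σ 3) = 0 ∧ T.a (σ 1) (σ 4) = 0 ∧ T.a (σ 1) (σ 5) = 0 ∧ T.a (σ 2) (σ 2) = -2 * w ∧ T.a (σ 2) (σ 3) = w ∧ T.a (σ 2) (σ 4) = 0 ∧ T.a (σ 2) (σ 5) = 0 ∧ T.a (σ 3) (σ 3) = -2 * w ∧ T.a (σ 3) (σ 4) = w ∧ T.a (σ 3) (σ 5) = 0 ∧ T.a (σ 4) (σ 4) = -2 * w ∧ T.a (σ 4) (σ 5) = 2 * w ∧ T.a (σ 5) (σ 5) = -4 * w) ∨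
      (T.m (σ 0) = m ∧ T.m (σ 1) = 2 * m ∧ T.m (σ 2) = 2 * m ∧ T.m (σ 3) = 2 * m ∧ T.m (σ 4) = m ∧ T.m (σ 5) = m ∧ T.w (σ 0) = 2 * w ∧ T.w (σ 1) = w ∧ T.w (σ 2) = w ∧ T.w (σ 3) = w ∧ T.w (σ 4) = w ∧ T.w (σ 5) = w ∧ T.a (σ 0) (σ 0) = -4 * w ∧ T.a (σ 0) (σ 1) = 2 * w ∧ T.a (σ 0) (σ 2) = 0 ∧ T.a (σ 0) (σ 3) = 0 ∧ T.a (σ 0) (σ 4) = 0 ∧ T.a (σ 0) (σ 5) = 0 ∧ T.a (σ 1) (σ 1) = -2 * w ∧ T.a (σ 1) (σ 2) = w ∧ T.a (σ 1) (σ 3) = 0 ∧ T.a (σ 1) (σ 4) = 0 ∧ T.a (σ 1) (σ 5) = 0 ∧ T.a (σ 2) (σ 2) = -2 * w ∧ T.a (σ 2) (σ 3) = w ∧ T.a (σ 2) (σ 4) = 0 ∧ T.a (σ 2) (σ 5) = 0 ∧ T.a (σ 3) (σ 3) = -2 * w ∧ T.a (σ 3) (σ 4) = w ∧ T.a (σ 3) (σ 5) = w ∧ T.a (σ 4) (σ 4) = -2 * w ∧ T.a (σ 4) (σ 5) = 0 ∧ T.a (σ 5) (σ 5) = -2 * w) ∨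
      (T.m (σ 0) = 2 * m ∧ T.m (σ 1) = 2 * m ∧ T.m (σ 2) = 2 * m ∧ T.m (σ 3) = 2 * m ∧ T.m (σ 4) = m ∧ T.m (σ 5) = m ∧ T.w (σ 0) = w ∧ T.w (σ 1) = 2 * w ∧ T.w (σ 2) = 2 * w ∧ T.w (σ 3) = 2 * w ∧ T.w (σ 4) = 2 * w ∧ T.w (σ 5) = 2 * w ∧ T.a (σ 0) (σ 0) = -2 * w ∧ T.a (σ 0) (σ 1) = 2 * w ∧ T.a (σ 0) (σ 2) = 0 ∧ T.a (σ 0) (σ 3) = 0 ∧ T.a (σ 0) (σ 4) = 0 ∧ T.a (σ 0) (σ 5) = 0 ∧ T.a (σ 1) (σ 1) = -4 * w ∧ T.a (σ 1) (σ 2) = 2 * w ∧ T.a (σ 1) (σ 3) = 0 ∧ T.a (σ 1) (σ 4) = 0 ∧ T.a (σ 1) (σ 5) = 0 ∧ T.a (σ 2) (σ 2) = -4 * w ∧ T.a (σ 2) (σ 3) = 2 * w ∧ T.a (σ 2) (σ 4) = 0 ∧ T.a (σ 2) (σ 5) = 0 ∧ T.a (σ 3) (σ 3) = -4 * w ∧ T.a (σ 3) (σ 4) = 2 * w ∧ T.a (σ 3) (σ 5) = 2 * w ∧ T.a (σ 4) (σ 4) = -4 * w ∧ T.a (σ 4) (σ 5) = 0 ∧ T.a (σ 5) (σ 5) = -4 * w) ∨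
      (T.m (σ 0) = m ∧ T.m (σ 1) = m ∧ T.m (σ 2) = 2 * m ∧ T.m (σ 3) = 2 * m ∧ T.m (σ 4) = m ∧ T.m (σ 5) = m ∧ T.w (σ 0) = w ∧ T.w (σ 1) = w ∧ T.w (σ 2) = w ∧ T.w (σ 3) = w ∧ T.w (σ 4) = w ∧ T.w (σ 5) = w ∧ T.a (σ 0) (σ 0) = -2 * w ∧ T.a (σ 0) (σ 1) = 0 ∧ T.a (σ 0) (σ 2) = w ∧ T.a (σ 0) (σ 3) = 0 ∧ T.a (σ 0) (σ 4) = 0 ∧ T.a (σ 0) (σ 5) = 0 ∧ T.a (σ 1) (σ 1) = -2 * w ∧ T.a (σ 1) (σ 2) = w ∧ T.a (σ 1) (σ 3) = 0 ∧ T.a (σ 1) (σ 4) = 0 ∧ T.a (σ 1) (σ 5) = 0 ∧ T.a (σ 2) (σ 2) = -2 * w ∧ T.a (σ 2) (σ 3) = w ∧ T.a (σ 2) (σ 4) = 0 ∧ T.a (σ 2) (σ 5) = 0 ∧ T.a (σ 3) (σ 3) = -2 * w ∧ T.a (σ 3) (σ 4) = w ∧ T.a (σ 3) (σ 5) = w ∧ T.a (σ 4) (σ 4) = -2 * w ∧ T.a (σ 4) (σ 5) = 0 ∧ T.a (σ 5) (σ 5) = -2 * w)) := by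
  have hm2 : ∀ x, T.IsMinusTwo x :=
    fun x => Groth.Agent.Helper11.NT_genus_one_allMinusTwo T (by norm_num) hmin hg x
  have hd : ∀ i, T.a i i = -2 * T.w i := fun i => (hm2 i).2
  refine ⟨fun i => (hm2 i).1, ?_⟩
  rcases Groth.Agent.Lib.Helper6.Aff.classify T hd (by norm_num) with ⟨σ, m, w, h⟩ | h | h
  · obtain ⟨h1, h2, h3, h4, h5⟩ := h
    exact ⟨σ, m, w, Or.inl ⟨h1 (0 : Fin 6),
        h1 (1 : Fin 6),
        h1 (2 : Fin 6),
        h1 (3 : Fin 6),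
        h1 (4 : Fin 6),
        h1 (5 : Fin 6),
        h2 (0 : Fin 6),
        h2 (1 : Fin 6),
        h2 (2 : Fin 6),
        h2 (3 : Fin 6),
        h2 (4 : Fin 6),
        h2 (5 : Fin 6),
        (by show T.a (σ (0 : Fin 6)) (σ (0 : Fin 6)) = _; have e1 := hd (σ (0 : Fin 6)); have e2 := h2 (0 : Fin 6); linarith),
        h3 (0 : Fin 6) (1 : Fin 6) (by decide) (by decide),
        h5 (0 : Fin 6) (2 : Fin 6) (by decide) (by decide) (by decide),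
        h5 (0 : Fin 6) (3 : Fin 6) (by decide) (by decide) (by decide),
        h5 (0 : Fin 6) (4 : Fin 6) (by decide) (by decide) (by decide),
        h4 (0 : Fin 6) (5 : Fin 6) (by decide) (by decide),
        (by show T.a (σ (1 : Fin 6)) (σ (1 : Fin 6)) = _; have e1 := hd (σ (1 : Fin 6)); have e2 := h2 (1 : Fin 6); linarith),
        h3 (1 : Fin 6) (2 : Fin 6) (by decide) (by decide),
        h5 (1 : Fin 6) (3 : Fin 6) (by decide) (by decide) (by decide),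
        h5 (1 : Fin 6) (4 : Fin 6) (by decide) (by decide) (by decide),
        h5 (1 : Fin 6) (5 : Fin 6) (by decide) (by decide) (by decide),
        (by show T.a (σ (2 : Fin 6)) (σ (2 : Fin 6)) = _; have e1 := hd (σ (2 : Fin 6)); have e2 := h2 (2 : Fin 6); linarith),
        h3 (2 : Fin 6) (3 : Fin 6) (by decide) (by decide),
        h5 (2 : Fin 6) (4 : Fin 6) (by decide) (by decide) (by decide),
        h5 (2 : Fin 6) (5 : Fin 6) (by decide) (by decide) (by decide),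
        (by show T.a (σ (3 : Fin 6)) (σ (3 : Fin 6)) = _; have e1 := hd (σ (3 : Fin 6)); have e2 := h2 (3 : Fin 6); linarith),
        h3 (3 : Fin 6) (4 : Fin 6) (by decide) (by decide),
        h5 (3 : Fin 6) (5 : Fin 6) (by decide) (by decide) (by decide),
        (by show T.a (σ (4 : Fin 6)) (σ (4 : Fin 6)) = _; have e1 := hd (σ (4 : Fin 6)); have e2 := h2 (4 : Fin 6); linarith),
        h3 (4 : Fin 6) (5 : Fin 6) (by decide) (by decide),
        (by show T.a (σ (5 : Fin 6)) (σ (5 : Fin 6)) = _; have e1 := hd (σ (5 : Fin 6)); have e2 := h2 (5 : Fin 6); linarith)⟩⟩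
  · rcases h with ⟨σ, m, w, h⟩ | ⟨σ, m, w, h⟩ | ⟨σ, m, w, h⟩ | ⟨σ, m, w, h⟩ | ⟨σ, m, w, h⟩ |
      ⟨σ, m, w, h⟩
    · obtain ⟨h1, h2, h3, h4, h5, h6, h7, h8⟩ := h
      exact ⟨σ, m, w, Or.inr (Or.inl ⟨h1 (0 : Fin 6) (by decide),
          h1 (1 : Fin 6) (by decide),
          h1 (2 : Fin 6) (by decide),
          h1 (3 : Fin 6) (by decide),
          h1 (4 : Fin 6) (by decide),
          h2 (5 : Fin 6) (by decide),
          h3 (0 : Fin 6) (by decide),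
          h4 (1 : Fin 6) (by decide),
          h4 (2 : Fin 6) (by decide),
          h4 (3 : Fin 6) (by decide),
          h4 (4 : Fin 6) (by decide),
          h5 (5 : Fin 6) (by decide),
          (by show T.a (σ (0 : Fin 6)) (σ (0 : Fin 6)) = _; have e1 := hd (σ (0 : Fin 6)); have e2 := h3 (0 : Fin 6) (by decide); linarith),
          h6 (0 : Fin 6) (1 : Fin 6) (by decide) (by decide),
          h8 (0 : Fin 6) (2 : Fin 6) (by decide) (by decide) (by decide),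
          h8 (0 : Fin 6) (3 : Fin 6) (by decide) (by decide) (by decide),
          h8 (0 : Fin 6) (4 : Fin 6) (by decide) (by decide) (by decide),
          h8 (0 : Fin 6) (5 : Fin 6) (by decide) (by decide) (by decide),
          (by show T.a (σ (1 : Fin 6)) (σ (1 : Fin 6)) = _; have e1 := hd (σ (1 : Fin 6)); have e2 := h4 (1 : Fin 6) (by decide); linarith),
          h6 (1 : Fin 6) (2 : Fin 6) (by decide) (by decide),
          h8 (1 : Fin 6) (3 : Fin 6) (by decide) (by decide) (by decide),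
          h8 (1 : Fin 6) (4 : Fin 6) (by decide) (by decide) (by decide),
          h8 (1 : Fin 6) (5 : Fin 6) (by decide) (by decide) (by decide),
          (by show T.a (σ (2 : Fin 6)) (σ (2 : Fin 6)) = _; have e1 := hd (σ (2 : Fin 6)); have e2 := h4 (2 : Fin 6) (by decide); linarith),
          h6 (2 : Fin 6) (3 : Fin 6) (by decide) (by decide),
          h8 (2 : Fin 6) (4 : Fin 6) (by decide) (by decide) (by decide),
          h8 (2 : Fin 6) (5 : Fin 6) (by decide) (by decide) (by decide),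
          (by show T.a (σ (3 : Fin 6)) (σ (3 : Fin 6)) = _; have e1 := hd (σ (3 : Fin 6)); have e2 := h4 (3 : Fin 6) (by decide); linarith),
          h6 (3 : Fin 6) (4 : Fin 6) (by decide) (by decide),
          h8 (3 : Fin 6) (5 : Fin 6) (by decide) (by decide) (by decide),
          (by show T.a (σ (4 : Fin 6)) (σ (4 : Fin 6)) = _; have e1 := hd (σ (4 : Fin 6)); have e2 := h4 (4 : Fin 6) (by decide); linarith),
          h7 (4 : Fin 6) (5 : Fin 6) (by decide) (by decide),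
          (by show T.a (σ (5 : Fin 6)) (σ (5 : Fin 6)) = _; have e1 := hd (σ (5 : Fin 6)); have e2 := h5 (5 : Fin 6) (by decide); linarith)⟩)⟩
    · obtain ⟨h1, h2, h3, h4, h5, h6⟩ := h
      exact ⟨σ, m, w, Or.inr (Or.inr (Or.inl ⟨h1 (0 : Fin 6),
          h1 (1 : Fin 6),
          h1 (2 : Fin 6),
          h1 (3 : Fin 6),
          h1 (4 : Fin 6),
          h1 (5 : Fin 6),
          h2 (0 : Fin 6) (by decide),
          h3 (1 : Fin 6) (by decide),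
          h3 (2 : Fin 6) (by decide),
          h3 (3 : Fin 6) (by decide),
          h3 (4 : Fin 6) (by decide),
          h4 (5 : Fin 6) (by decide),
          (by show T.a (σ (0 : Fin 6)) (σ (0 : Fin 6)) = _; have e1 := hd (σ (0 : Fin 6)); have e2 := h2 (0 : Fin 6) (by decide); linarith),
          h5 (0 : Fin 6) (1 : Fin 6) (by decide) (by decide),
          h6 (0 : Fin 6) (2 : Fin 6) (by decide) (by decide),
          h6 (0 : Fin 6) (3 : Fin 6) (by decide) (by decide),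
          h6 (0 : Fin 6) (4 : Fin 6) (by decide) (by decide),
          h6 (0 : Fin 6) (5 : Fin 6) (by decide) (by decide),
          (by show T.a (σ (1 : Fin 6)) (σ (1 : Fin 6)) = _; have e1 := hd (σ (1 : Fin 6)); have e2 := h3 (1 : Fin 6) (by decide); linarith),
          h5 (1 : Fin 6) (2 : Fin 6) (by decide) (by decide),
          h6 (1 : Fin 6) (3 : Fin 6) (by decide) (by decide),
          h6 (1 : Fin 6) (4 : Fin 6) (by decide) (by decide),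
          h6 (1 : Fin 6) (5 : Fin 6) (by decide) (by decide),
          (by show T.a (σ (2 : Fin 6)) (σ (2 : Fin 6)) = _; have e1 := hd (σ (2 : Fin 6)); have e2 := h3 (2 : Fin 6) (by decide); linarith),
          h5 (2 : Fin 6) (3 : Fin 6) (by decide) (by decide),
          h6 (2 : Fin 6) (4 : Fin 6) (by decide) (by decide),
          h6 (2 : Fin 6) (5 : Fin 6) (by decide) (by decide),
          (by show T.a (σ (3 : Fin 6)) (σ (3 : Fin 6)) = _; have e1 := hd (σ (3 : Fin 6)); have e2 := h3 (3 : Fin 6) (by decide); linarith),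
          h5 (3 : Fin 6) (4 : Fin 6) (by decide) (by decide),
          h6 (3 : Fin 6) (5 : Fin 6) (by decide) (by decide),
          (by show T.a (σ (4 : Fin 6)) (σ (4 : Fin 6)) = _; have e1 := hd (σ (4 : Fin 6)); have e2 := h3 (4 : Fin 6) (by decide); linarith),
          h5 (4 : Fin 6) (5 : Fin 6) (by decide) (by decide),
          (by show T.a (σ (5 : Fin 6)) (σ (5 : Fin 6)) = _; have e1 := hd (σ (5 : Fin 6)); have e2 := h4 (5 : Fin 6) (by decide); linarith)⟩))⟩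
    · obtain ⟨h1, h2, h3, h4, h5, h6, h7, h8, h9, h10⟩ := h
      exact ⟨σ, m, w, Or.inr (Or.inr (Or.inr (Or.inl ⟨h1 (0 : Fin 6) (by decide),
          h2 (1 : Fin 6) (by decide),
          h2 (2 : Fin 6) (by decide),
          h2 (3 : Fin 6) (by decide),
          h2 (4 : Fin 6) (by decide),
          h3 (5 : Fin 6) (by decide),
          h4 (0 : Fin 6) (by decide),
          h5 (1 : Fin 6) (by decide),
          h5 (2 : Fin 6) (by decide),
          h5 (3 : Fin 6) (by decide),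
          h5 (4 : Fin 6) (by decide),
          h6 (5 : Fin 6) (by decide),
          (by show T.a (σ (0 : Fin 6)) (σ (0 : Fin 6)) = _; have e1 := hd (σ (0 : Fin 6)); have e2 := h4 (0 : Fin 6) (by decide); linarith),
          h7 (0 : Fin 6) (1 : Fin 6) (by decide) (by decide),
          h10 (0 : Fin 6) (2 : Fin 6) (by decide) (by decide) (by decide) (by decide),
          h10 (0 : Fin 6) (3 : Fin 6) (by decide) (by decide) (by decide) (by decide),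
          h10 (0 : Fin 6) (4 : Fin 6) (by decide) (by decide) (by decide) (by decide),
          h10 (0 : Fin 6) (5 : Fin 6) (by decide) (by decide) (by decide) (by decide),
          (by show T.a (σ (1 : Fin 6)) (σ (1 : Fin 6)) = _; have e1 := hd (σ (1 : Fin 6)); have e2 := h5 (1 : Fin 6) (by decide); linarith),
          h8 (1 : Fin 6) (2 : Fin 6) (by decide) (by decide),
          h10 (1 : Fin 6) (3 : Fin 6) (by decide) (by decide) (by decide) (by decide),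
          h10 (1 : Fin 6) (4 : Fin 6) (by decide) (by decide) (by decide) (by decide),
          h10 (1 : Fin 6) (5 : Fin 6) (by decide) (by decide) (by decide) (by decide),
          (by show T.a (σ (2 : Fin 6)) (σ (2 : Fin 6)) = _; have e1 := hd (σ (2 : Fin 6)); have e2 := h5 (2 : Fin 6) (by decide); linarith),
          h8 (2 : Fin 6) (3 : Fin 6) (by decide) (by decide),
          h10 (2 : Fin 6) (4 : Fin 6) (by decide) (by decide) (by decide) (by decide),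
          h10 (2 : Fin 6) (5 : Fin 6) (by decide) (by decide) (by decide) (by decide),
          (by show T.a (σ (3 : Fin 6)) (σ (3 : Fin 6)) = _; have e1 := hd (σ (3 : Fin 6)); have e2 := h5 (3 : Fin 6) (by decide); linarith),
          h8 (3 : Fin 6) (4 : Fin 6) (by decide) (by decide),
          h10 (3 : Fin 6) (5 : Fin 6) (by decide) (by decide) (by decide) (by decide),
          (by show T.a (σ (4 : Fin 6)) (σ (4 : Fin 6)) = _; have e1 := hd (σ (4 : Fin 6)); have e2 := h5 (4 : Fin 6) (by decide); linarith),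
          h9 (4 : Fin 6) (5 : Fin 6) (by decide) (by decide),
          (by show T.a (σ (5 : Fin 6)) (σ (5 : Fin 6)) = _; have e1 := hd (σ (5 : Fin 6)); have e2 := h6 (5 : Fin 6) (by decide); linarith)⟩)))⟩
    · obtain ⟨h1, h2, h3, h4, h5, h6, h7, h8, h9⟩ := h
      exact ⟨σ, m, w, Or.inr (Or.inr (Or.inr (Or.inr (Or.inl ⟨h1 (0 : Fin 6) (by decide),
          h2 (1 : Fin 6) (by decide),
          h2 (2 : Fin 6) (by decide),
          h2 (3 : Fin 6) (by decide),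
          h3 (4 : Fin 6) (by decide),
          h3 (5 : Fin 6) (by decide),
          h4 (0 : Fin 6) (by decide),
          h5 (1 : Fin 6) (by decide),
          h5 (2 : Fin 6) (by decide),
          h5 (3 : Fin 6) (by decide),
          h5 (4 : Fin 6) (by decide),
          h5 (5 : Fin 6) (by decide),
          (by show T.a (σ (0 : Fin 6)) (σ (0 : Fin 6)) = _; have e1 := hd (σ (0 : Fin 6)); have e2 := h4 (0 : Fin 6) (by decide); linarith),
          h6 (0 : Fin 6) (1 : Fin 6) (by decide) (by decide),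
          h9 (0 : Fin 6) (2 : Fin 6) (by decide) (by decide) (by decide) (by decide),
          h9 (0 : Fin 6) (3 : Fin 6) (by decide) (by decide) (by decide) (by decide),
          h9 (0 : Fin 6) (4 : Fin 6) (by decide) (by decide) (by decide) (by decide),
          h9 (0 : Fin 6) (5 : Fin 6) (by decide) (by decide) (by decide) (by decide),
          (by show T.a (σ (1 : Fin 6)) (σ (1 : Fin 6)) = _; have e1 := hd (σ (1 : Fin 6)); have e2 := h5 (1 : Fin 6) (by decide); linarith),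
          h7 (1 : Fin 6) (2 : Fin 6) (by decide) (by decide),
          h9 (1 : Fin 6) (3 : Fin 6) (by decide) (by decide) (by decide) (by decide),
          h9 (1 : Fin 6) (4 : Fin 6) (by decide) (by decide) (by decide) (by decide),
          h9 (1 : Fin 6) (5 : Fin 6) (by decide) (by decide) (by decide) (by decide),
          (by show T.a (σ (2 : Fin 6)) (σ (2 : Fin 6)) = _; have e1 := hd (σ (2 : Fin 6)); have e2 := h5 (2 : Fin 6) (by decide); linarith),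
          h7 (2 : Fin 6) (3 : Fin 6) (by decide) (by decide),
          h9 (2 : Fin 6) (4 : Fin 6) (by decide) (by decide) (by decide) (by decide),
          h9 (2 : Fin 6) (5 : Fin 6) (by decide) (by decide) (by decide) (by decide),
          (by show T.a (σ (3 : Fin 6)) (σ (3 : Fin 6)) = _; have e1 := hd (σ (3 : Fin 6)); have e2 := h5 (3 : Fin 6) (by decide); linarith),
          h7 (3 : Fin 6) (4 : Fin 6) (by decide) (by decide),
          h8 (3 : Fin 6) (5 : Fin 6) (by decide) (by decide),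
          (by show T.a (σ (4 : Fin 6)) (σ (4 : Fin 6)) = _; have e1 := hd (σ (4 : Fin 6)); have e2 := h5 (4 : Fin 6) (by decide); linarith),
          h9 (4 : Fin 6) (5 : Fin 6) (by decide) (by decide) (by decide) (by decide),
          (by show T.a (σ (5 : Fin 6)) (σ (5 : Fin 6)) = _; have e1 := hd (σ (5 : Fin 6)); have e2 := h5 (5 : Fin 6) (by decide); linarith)⟩))))⟩
    · obtain ⟨h1, h2, h3, h4, h5, h6, h7⟩ := h
      exact ⟨σ, m, w, Or.inr (Or.inr (Or.inr (Or.inr (Or.inr (Or.inl ⟨h1 (0 : Fin 6) (by decide),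
          h1 (1 : Fin 6) (by decide),
          h1 (2 : Fin 6) (by decide),
          h1 (3 : Fin 6) (by decide),
          h2 (4 : Fin 6) (by decide),
          h2 (5 : Fin 6) (by decide),
          h3 (0 : Fin 6) (by decide),
          h4 (1 : Fin 6) (by decide),
          h4 (2 : Fin 6) (by decide),
          h4 (3 : Fin 6) (by decide),
          h4 (4 : Fin 6) (by decide),
          h4 (5 : Fin 6) (by decide),
          (by show T.a (σ (0 : Fin 6)) (σ (0 : Fin 6)) = _; have e1 := hd (σ (0 : Fin 6)); have e2 := h3 (0 : Fin 6) (by decide); linarith),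
          h5 (0 : Fin 6) (1 : Fin 6) (by decide) (by decide),
          h7 (0 : Fin 6) (2 : Fin 6) (by decide) (by decide) (by decide),
          h7 (0 : Fin 6) (3 : Fin 6) (by decide) (by decide) (by decide),
          h7 (0 : Fin 6) (4 : Fin 6) (by decide) (by decide) (by decide),
          h7 (0 : Fin 6) (5 : Fin 6) (by decide) (by decide) (by decide),
          (by show T.a (σ (1 : Fin 6)) (σ (1 : Fin 6)) = _; have e1 := hd (σ (1 : Fin 6)); have e2 := h4 (1 : Fin 6) (by decide); linarith),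
          h5 (1 : Fin 6) (2 : Fin 6) (by decide) (by decide),
          h7 (1 : Fin 6) (3 : Fin 6) (by decide) (by decide) (by decide),
          h7 (1 : Fin 6) (4 : Fin 6) (by decide) (by decide) (by decide),
          h7 (1 : Fin 6) (5 : Fin 6) (by decide) (by decide) (by decide),
          (by show T.a (σ (2 : Fin 6)) (σ (2 : Fin 6)) = _; have e1 := hd (σ (2 : Fin 6)); have e2 := h4 (2 : Fin 6) (by decide); linarith),
          h5 (2 : Fin 6) (3 : Fin 6) (by decide) (by decide),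
          h7 (2 : Fin 6) (4 : Fin 6) (by decide) (by decide) (by decide),
          h7 (2 : Fin 6) (5 : Fin 6) (by decide) (by decide) (by decide),
          (by show T.a (σ (3 : Fin 6)) (σ (3 : Fin 6)) = _; have e1 := hd (σ (3 : Fin 6)); have e2 := h4 (3 : Fin 6) (by decide); linarith),
          h5 (3 : Fin 6) (4 : Fin 6) (by decide) (by decide),
          h6 (3 : Fin 6) (5 : Fin 6) (by decide) (by decide),
          (by show T.a (σ (4 : Fin 6)) (σ (4 : Fin 6)) = _; have e1 := hd (σ (4 : Fin 6)); have e2 := h4 (4 : Fin 6) (by decide); linarith),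
          h7 (4 : Fin 6) (5 : Fin 6) (by decide) (by decide) (by decide),
          (by show T.a (σ (5 : Fin 6)) (σ (5 : Fin 6)) = _; have e1 := hd (σ (5 : Fin 6)); have e2 := h4 (5 : Fin 6) (by decide); linarith)⟩)))))⟩
    · obtain ⟨h1, h2, h3, h4, h5, h6, h7, h8, h9⟩ := h
      exact ⟨σ, m, w, Or.inr (Or.inr (Or.inr (Or.inr (Or.inr (Or.inr (⟨h1 (0 : Fin 6) (by decide),
          h1 (1 : Fin 6) (by decide),
          h2 (2 : Fin 6) (by decide),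
          h2 (3 : Fin 6) (by decide),
          h3 (4 : Fin 6) (by decide),
          h3 (5 : Fin 6) (by decide),
          h4 (0 : Fin 6),
          h4 (1 : Fin 6),
          h4 (2 : Fin 6),
          h4 (3 : Fin 6),
          h4 (4 : Fin 6),
          h4 (5 : Fin 6),
          (by show T.a (σ (0 : Fin 6)) (σ (0 : Fin 6)) = _; have e1 := hd (σ (0 : Fin 6)); have e2 := h4 (0 : Fin 6); linarith),
          h9 (0 : Fin 6) (1 : Fin 6) (by decide) (by decide) (by decide) (by decide) (by decide),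
          h5 (0 : Fin 6) (2 : Fin 6) (by decide) (by decide),
          h9 (0 : Fin 6) (3 : Fin 6) (by decide) (by decide) (by decide) (by decide) (by decide),
          h9 (0 : Fin 6) (4 : Fin 6) (by decide) (by decide) (by decide) (by decide) (by decide),
          h9 (0 : Fin 6) (5 : Fin 6) (by decide) (by decide) (by decide) (by decide) (by decide),
          (by show T.a (σ (1 : Fin 6)) (σ (1 : Fin 6)) = _; have e1 := hd (σ (1 : Fin 6)); have e2 := h4 (1 : Fin 6); linarith),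
          h6 (1 : Fin 6) (2 : Fin 6) (by decide) (by decide),
          h9 (1 : Fin 6) (3 : Fin 6) (by decide) (by decide) (by decide) (by decide) (by decide),
          h9 (1 : Fin 6) (4 : Fin 6) (by decide) (by decide) (by decide) (by decide) (by decide),
          h9 (1 : Fin 6) (5 : Fin 6) (by decide) (by decide) (by decide) (by decide) (by decide),
          (by show T.a (σ (2 : Fin 6)) (σ (2 : Fin 6)) = _; have e1 := hd (σ (2 : Fin 6)); have e2 := h4 (2 : Fin 6); linarith),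
          h7 (2 : Fin 6) (3 : Fin 6) (by decide) (by decide),
          h9 (2 : Fin 6) (4 : Fin 6) (by decide) (by decide) (by decide) (by decide) (by decide),
          h9 (2 : Fin 6) (5 : Fin 6) (by decide) (by decide) (by decide) (by decide) (by decide),
          (by show T.a (σ (3 : Fin 6)) (σ (3 : Fin 6)) = _; have e1 := hd (σ (3 : Fin 6)); have e2 := h4 (3 : Fin 6); linarith),
          h7 (3 : Fin 6) (4 : Fin 6) (by decide) (by decide),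
          h8 (3 : Fin 6) (5 : Fin 6) (by decide) (by decide),
          (by show T.a (σ (4 : Fin 6)) (σ (4 : Fin 6)) = _; have e1 := hd (σ (4 : Fin 6)); have e2 := h4 (4 : Fin 6); linarith),
          h9 (4 : Fin 6) (5 : Fin 6) (by decide) (by decide) (by decide) (by decide) (by decide),
          (by show T.a (σ (5 : Fin 6)) (σ (5 : Fin 6)) = _; have e1 := hd (σ (5 : Fin 6)); have e2 := h4 (5 : Fin 6); linarith)⟩))))))⟩
  · obtain ⟨b, x₁, x₂, x₃, k₁, k₂, k₃, d₁, d₂, d₃, ω₁, ω₂, ω₃, hS, htype⟩ := h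
    have hn' := (Groth.Agent.Lib.Helper6.Aff.star_pos T hS).1
    rcases htype with ⟨hω₁, hω₂, hω₃, ⟨rfl, rfl, rfl⟩ | ⟨rfl, rfl, rfl⟩ | ⟨rfl, rfl, rfl⟩⟩ |
      ⟨hω₁, hω₂, rfl, ⟨rfl, rfl⟩ | ⟨rfl, rfl⟩⟩
    · exfalso; omega
    · exfalso; omega
    · exfalso; omega
    · exfalso; omega
    · exfalso; omega

end Groth.Agent.S7367
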