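import Groth.Statements.S7369
import Groth.Agent.Lib.Helper6.AffFix
import Groth.Agent.Lib.Helper11.NumG1

set_option autoImplicit false
open Finset
open Models Models.NumericalType

namespace Groth.Agent.S7369

/-- Genus one classification: case n = 8: let T be a minimal numerical type of genus 1 on 8 indices.
Then all g_i = 0 and, for some permutation σ of the indices and some integers m, w, the
multiplicities, weights and intersection matrix (m_{σ(i)}, w_{σ(i)}, a_{σ(i)σ(j)}) are those of one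
of the following 8 types: [cycle] m = (m, m, m, m, m, m, m, m), w = (w, w, w, w, w, w, w, w), a =
(-2 * w w 0 0 0 0 0 w / w -2 * w w 0 0 0 0 0 / 0 w -2 * w w 0 0 0 0 / 0 0 w -2 * w w 0 0 0 / 0 0 0 w
-2 * w w 0 0 / 0 0 0 0 w -2 * w w 0 / 0 0 0 0 0 w -2 * w w / w 0 0 0 0 0 w -2 * w); [up chain equal
up] m = (2 * m, 2 * m, 2 * m, 2 * m, 2 * m, 2 * m, 2 * m, m), w = (w, 2 * w, 2 * w, 2 * w, 2 * w, 2
* w, 2 * w, 4 * w), a = (-2 * w 2 * w 0 0 0 0 0 0 / 2 * w -4 * w 2 * w 0 0 0 0 0 / 0 2 * w -4 * w 2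
* w 0 0 0 0 / 0 0 2 * w -4 * w 2 * w 0 0 0 / 0 0 0 2 * w -4 * w 2 * w 0 0 / 0 0 0 0 2 * w -4 * w 2 *
w 0 / 0 0 0 0 0 2 * w -4 * w 4 * w / 0 0 0 0 0 0 4 * w -8 * w); [up chain equal down] m = (m, m, m,
m, m, m, m, m), w = (w, 2 * w, 2 * w, 2 * w, 2 * w, 2 * w, 2 * w, w), a = (-2 * w 2 * w 0 0 0 0 0 0
/ 2 * w -4 * w 2 * w 0 0 0 0 0 / 0 2 * w -4 * w 2 * w 0 0 0 0 / 0 0 2 * w -4 * w 2 * w 0 0 0 / 0 0 0
2 * w -4 * w 2 * w 0 0 / 0 0 0 0 2 * w -4 * w 2 * w 0 / 0 0 0 0 0 2 * w -4 * w 2 * w / 0 0 0 0 0 0 2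
* w -2 * w); [down chain equal up] m = (m, 2 * m, 2 * m, 2 * m, 2 * m, 2 * m, 2 * m, m), w = (2 * w,
w, w, w, w, w, w, 2 * w), a = (-4 * w 2 * w 0 0 0 0 0 0 / 2 * w -2 * w w 0 0 0 0 0 / 0 w -2 * w w 0
0 0 0 / 0 0 w -2 * w w 0 0 0 / 0 0 0 w -2 * w w 0 0 / 0 0 0 0 w -2 * w w 0 / 0 0 0 0 0 w -2 * w 2 *
w / 0 0 0 0 0 0 2 * w -4 * w); [D extended up] m = (m, 2 * m, 2 * m, 2 * m, 2 * m, 2 * m, m, m), w =
(2 * w, w, w, w, w, w, w, w), a = (-4 * w 2 * w 0 0 0 0 0 0 / 2 * w -2 * w w 0 0 0 0 0 / 0 w -2 * w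
w 0 0 0 0 / 0 0 w -2 * w w 0 0 0 / 0 0 0 w -2 * w w 0 0 / 0 0 0 0 w -2 * w w w / 0 0 0 0 0 w -2 * w
0 / 0 0 0 0 0 w 0 -2 * w); [D extended down] m = (2 * m, 2 * m, 2 * m, 2 * m, 2 * m, 2 * m, m, m), w
= (w, 2 * w, 2 * w, 2 * w, 2 * w, 2 * w, 2 * w, 2 * w), a = (-2 * w 2 * w 0 0 0 0 0 0 / 2 * w -4 * w
2 * w 0 0 0 0 0 / 0 2 * w -4 * w 2 * w 0 0 0 0 / 0 0 2 * w -4 * w 2 * w 0 0 0 / 0 0 0 2 * w -4 * w 2
* w 0 0 / 0 0 0 0 2 * w -4 * w 2 * w 2 * w / 0 0 0 0 0 2 * w -4 * w 0 / 0 0 0 0 0 2 * w 0 -4 * w);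
[double triple] m = (m, m, 2 * m, 2 * m, 2 * m, 2 * m, m, m), w = (w, w, w, w, w, w, w, w), a = (-2
* w 0 w 0 0 0 0 0 / 0 -2 * w w 0 0 0 0 0 / w w -2 * w w 0 0 0 0 / 0 0 w -2 * w w 0 0 0 / 0 0 0 w -2
* w w 0 0 / 0 0 0 0 w -2 * w w w / 0 0 0 0 0 w -2 * w 0 / 0 0 0 0 0 w 0 -2 * w); [E7 completed] m =
(m, 2 * m, 3 * m, 4 * m, 3 * m, 2 * m, m, 2 * m), w = (w, w, w, w, w, w, w, w), a = (-2 * w w 0 0 0
0 0 0 / w -2 * w w 0 0 0 0 0 / 0 w -2 * w w 0 0 0 0 / 0 0 w -2 * w w 0 0 w / 0 0 0 w -2 * w w 0 0 /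
0 0 0 0 w -2 * w w 0 / 0 0 0 0 0 w -2 * w 0 / 0 0 0 w 0 0 0 -2 * w). Only the classification
direction is stated. (In the family with weights (w, 2w, …, 2w, w) the consecutive intersection
numbers are 2w, as divisibility by the weights forces; the published list prints w there, and omits
m_{n-2} = 2m in the two D-type families.) -/
theorem result (T : Models.NumericalType 8) (hmin : T.IsMinimal) (hg : T.genus = 1) :
    (∀ i, T.g i = 0) ∧ ∃ (σ : Equiv.Perm (Fin 8)) (m w : ℤ),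
      ((T.m (σ 0) = m ∧ T.m (σ 1) = m ∧ T.m (σ 2) = m ∧ T.m (σ 3) = m ∧ T.m (σ 4) = m ∧ T.m (σ 5) = m ∧ T.m (σ 6) = m ∧ T.m (σ 7) = m ∧ T.w (σ 0) = w ∧ T.w (σ 1) = w ∧ T.w (σ 2) = w ∧ T.w (σ 3) = w ∧ T.w (σ 4) = w ∧ T.w (σ 5) = w ∧ T.w (σ 6) = w ∧ T.w (σ 7) = w ∧ T.a (σ 0) (σ 0) = -2 * w ∧ T.a (σ 0) (σ 1) = w ∧ T.a (σ 0) (σ 2) = 0 ∧ T.a (σ 0) (σ 3) = 0 ∧ T.a (σ 0) (σ 4) = 0 ∧ T.a (σ 0) (σ 5) = 0 ∧ T.a (σ 0) (σ 6) = 0 ∧ T.a (σ 0) (σ 7) = w ∧ T.a (σ 1) (σ 1) = -2 * w ∧ T.a (σ 1) (σ 2) = w ∧ T.a (σ 1) (σ 3) = 0 ∧ T.a (σ 1) (σ 4) = 0 ∧ T.a (σ 1) (σ 5) = 0 ∧ T.a (σ 1) (σ 6) = 0 ∧ T.a (σ 1) (σ 7) = 0 ∧ T.a (σ 2) (σ 2) = -2 * w ∧ T.a (σ 2) (σ 3) = w ∧ T.a (σ 2) (σ 4) = 0 ∧ T.a (σ 2) (σ 5) = 0 ∧ T.a (σ 2) (σ 6) = 0 ∧ T.a (σ 2) (σ 7) = 0 ∧ T.a (σ 3) (σ 3) = -2 * w ∧ T.a (σ 3) (σ 4) = w ∧ T.a (σ 3) (σ 5) = 0 ∧ T.a (σ 3) (σ 6) = 0 ∧ T.a (σ 3) (σ 7) = 0 ∧ T.a (σ 4) (σ 4) = -2 * w ∧ T.a (σ 4) (σ 5)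 = w ∧ T.a (σ 4) (σ 6) = 0 ∧ T.a (σ 4) (σ 7) = 0 ∧ T.a (σ 5) (σ 5) = -2 * w ∧ T.a (σ 5) (σ 6) = w ∧ T.a (σ 5) (σ 7) = 0 ∧ T.a (σ 6) (σ 6) = -2 * w ∧ T.a (σ 6) (σ 7) = w ∧ T.a (σ 7) (σ 7) = -2 * w) ∨
      (T.m (σ 0) = 2 * m ∧ T.m (σ 1) = 2 * m ∧ T.m (σ 2) = 2 * m ∧ T.m (σ 3) = 2 * m ∧ T.m (σ 4) = 2 * m ∧ T.m (σ 5) = 2 * m ∧ T.m (σ 6) = 2 * m ∧ T.m (σ 7) = m ∧ T.w (σ 0) = w ∧ T.w (σ 1) = 2 * w ∧ T.w (σ 2) = 2 * w ∧ T.w (σ 3) = 2 * w ∧ T.w (σ 4) = 2 * w ∧ T.w (σ 5) = 2 * w ∧ T.w (σ 6) = 2 * w ∧ T.w (σ 7) = 4 * w ∧ T.a (σ 0) (σ 0) = -2 * w ∧ T.a (σ 0) (σ 1) = 2 * w ∧ T.a (σ 0) (σ 2) = 0 ∧ T.a (σ 0) (σ 3) = 0 ∧ T.a (σ 0) (σ 4) = 0 ∧ T.a (σ 0) (σ 5) = 0 ∧ T.a (σ 0) (σ 6) = 0 ∧ T.a (σ 0) (σ 7) = 0 ∧ T.a (σ 1) (σ 1) = -4 * w ∧ T.a (σ 1) (σ 2) = 2 * w ∧ T.a (σ 1) (σ 3) = 0 ∧ T.a (σ 1) (σ 4) = 0 ∧ T.a (σ 1) (σ 5) = 0 ∧ T.a (σ 1) (σ 6) = 0 ∧ T.a (σ 1) (σ 7) = 0 ∧ T.a (σ 2) (σ 2) = -4 * w ∧ T.a (σ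 2) (σ 3) = 2 * w ∧ T.a (σ 2) (σ 4) = 0 ∧ T.a (σ 2) (σ 5) = 0 ∧ T.a (σ 2) (σ 6) = 0 ∧ T.a (σ 2) (σ 7) = 0 ∧ T.a (σ 3) (σ 3) = -4 * w ∧ T.a (σ 3) (σ 4) = 2 * w ∧ T.a (σ 3) (σ 5) = 0 ∧ T.a (σ 3) (σ 6) = 0 ∧ T.a (σ 3) (σ 7) = 0 ∧ T.a (σ 4) (σ 4) = -4 * w ∧ T.a (σ 4) (σ 5) = 2 * w ∧ T.a (σ 4) (σ 6) = 0 ∧ T.a (σ 4) (σ 7) = 0 ∧ T.a (σ 5) (σ 5) = -4 * w ∧ T.a (σ 5) (σ 6) = 2 * w ∧ T.a (σ 5) (σ 7) = 0 ∧ T.a (σ 6) (σ 6) = -4 * w ∧ T.a (σ 6) (σ 7) = 4 * w ∧ T.a (σ 7) (σ 7) = -8 * w) ∨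
      (T.m (σ 0) = m ∧ T.m (σ 1) = m ∧ T.m (σ 2) = m ∧ T.m (σ 3) = m ∧ T.m (σ 4) = m ∧ T.m (σ 5) = m ∧ T.m (σ 6) = m ∧ T.m (σ 7) = m ∧ T.w (σ 0) = w ∧ T.w (σ 1) = 2 * w ∧ T.w (σ 2) = 2 * w ∧ T.w (σ 3) = 2 * w ∧ T.w (σ 4) = 2 * w ∧ T.w (σ 5) = 2 * w ∧ T.w (σ 6) = 2 * w ∧ T.w (σ 7) = w ∧ T.a (σ 0) (σ 0) = -2 * w ∧ T.a (σ 0) (σ 1) = 2 * w ∧ T.a (σ 0) (σ 2) = 0 ∧ T.a (σ 0) (σ 3) = 0 ∧ T.a (σ 0) (σ 4) = 0 ∧ T.a (σ 0) (σ 5) = 0 ∧ T.a (σ 0) (σ 6) = 0 ∧ T.a (σ 0) (σ 7) = 0 ∧ T.a (σ 1) (σ 1) = -4 * w ∧ T.a (σ 1) (σ 2) = 2 * w ∧ T.a (σ 1) (σ 3) = 0 ∧ T.a (σ 1) (σ 4) = 0 ∧ T.a (σ 1) (σ 5) = 0 ∧ T.a (σ 1) (σ 6) = 0 ∧ T.a (σ 1) (σ 7) = 0 ∧ T.a (σ 2) (σ 2) = -4 * w ∧ T.a (σ 2) (σ 3) = 2 * w ∧ T.a (σ 2) (σ 4) = 0 ∧ T.a (σ 2) (σ 5) = 0 ∧ T.a (σ 2) (σ 6) = 0 ∧ T.a (σ 2) (σ 7) = 0 ∧ T.a (σ 3) (σ 3) = -4 * w ∧ T.a (σ 3) (σ 4) = 2 * w ∧ T.a (σ 3) (σ 5) = 0 ∧ T.a (σ 3) (σ 6) = 0 ∧ T.a (σ 3) (σ 7) = 0 ∧ T.a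 (σ 4) (σ 4) = -4 * w ∧ T.a (σ 4) (σ 5) = 2 * w ∧ T.a (σ 4) (σ 6) = 0 ∧ T.a (σ 4) (σ 7) = 0 ∧ T.a (σ 5) (σ 5) = -4 * w ∧ T.a (σ 5) (σ 6) = 2 * w ∧ T.a (σ 5) (σ 7) = 0 ∧ T.a (σ 6) (σ 6) = -4 * w ∧ T.a (σ 6) (σ 7) = 2 * w ∧ T.a (σ 7) (σ 7) = -2 * w) ∨
      (T.m (σ 0) = m ∧ T.m (σ 1) = 2 * m ∧ T.m (σ 2) = 2 * m ∧ T.m (σ 3) = 2 * m ∧ T.m (σ 4) = 2 * m ∧ T.m (σ 5) = 2 * m ∧ T.m (σ 6) = 2 * m ∧ T.m (σ 7) = m ∧ T.w (σ 0) = 2 * w ∧ T.w (σ 1) = w ∧ T.w (σ 2) = w ∧ T.w (σ 3) = w ∧ T.w (σ 4) = w ∧ T.w (σ 5) = w ∧ T.w (σ 6) = w ∧ T.w (σ 7) = 2 * w ∧ T.a (σ 0) (σ 0) = -4 * w ∧ T.a (σ 0) (σ 1) = 2 * w ∧ T.a (σ 0) (σ 2) = 0 ∧ T.a (σ 0) (σ 3) = 0 ∧ T.a (σ 0) (σ 4) = 0 ∧ T.a (σ 0) (σ 5) = 0 ∧ T.a (σ 0) (σ 6) = 0 ∧ T.a (σ 0) (σ 7) = 0 ∧ T.a (σ 1) (σ 1) = -2 * w ∧ T.a (σ 1) (σ 2) = w ∧ T.a (σ 1) (σ 3) = 0 ∧ T.a (σ 1) (σ 4) = 0 ∧ T.a (σ 1) (σ 5) = 0 ∧ T.a (σ 1) (σ 6) = 0 ∧ T.a (σ 1) (σ 7) = 0 ∧ T.a (σ 2) (σ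 2) = -2 * w ∧ T.a (σ 2) (σ 3) = w ∧ T.a (σ 2) (σ 4) = 0 ∧ T.a (σ 2) (σ 5) = 0 ∧ T.a (σ 2) (σ 6) = 0 ∧ T.a (σ 2) (σ 7) = 0 ∧ T.a (σ 3) (σ 3) = -2 * w ∧ T.a (σ 3) (σ 4) = w ∧ T.a (σ 3) (σ 5) = 0 ∧ T.a (σ 3) (σ 6) = 0 ∧ T.a (σ 3) (σ 7) = 0 ∧ T.a (σ 4) (σ 4) = -2 * w ∧ T.a (σ 4) (σ 5) = w ∧ T.a (σ 4) (σ 6) = 0 ∧ T.a (σ 4) (σ 7) = 0 ∧ T.a (σ 5) (σ 5) = -2 * w ∧ T.a (σ 5) (σ 6) = w ∧ T.a (σ 5) (σ 7) = 0 ∧ T.a (σ 6) (σ 6) = -2 * w ∧ T.a (σ 6) (σ 7) = 2 * w ∧ T.a (σ 7) (σ 7) = -4 * w) ∨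
      (T.m (σ 0) = m ∧ T.m (σ 1) = 2 * m ∧ T.m (σ 2) = 2 * m ∧ T.m (σ 3) = 2 * m ∧ T.m (σ 4) = 2 * m ∧ T.m (σ 5) = 2 * m ∧ T.m (σ 6) = m ∧ T.m (σ 7) = m ∧ T.w (σ 0) = 2 * w ∧ T.w (σ 1) = w ∧ T.w (σ 2) = w ∧ T.w (σ 3) = w ∧ T.w (σ 4) = w ∧ T.w (σ 5) = w ∧ T.w (σ 6) = w ∧ T.w (σ 7) = w ∧ T.a (σ 0) (σ 0) = -4 * w ∧ T.a (σ 0) (σ 1) = 2 * w ∧ T.a (σ 0) (σ 2) = 0 ∧ T.a (σ 0) (σ 3) = 0 ∧ T.a (σ 0) (σ 4) = 0 ∧ T.a (σ 0) (σ 5) = 0 ∧ T.a (σ 0) (σ 6) = 0 ∧ T.a (σ 0) (σ 7) = 0 ∧ T.a (σ 1) (σ 1) = -2 * w ∧ T.a (σ 1) (σ 2) = w ∧ T.a (σ 1) (σ 3) = 0 ∧ T.a (σ 1) (σ 4) = 0 ∧ T.a (σ 1) (σ 5) = 0 ∧ T.a (σ 1) (σ 6) = 0 ∧ T.a (σ 1) (σ 7) = 0 ∧ T.a (σ 2) (σ 2) = -2 * w ∧ T.a (σ 2) (σ 3) = w ∧ T.a (σ 2) (σ 4) = 0 ∧ T.a (σ 2) (σ 5) = 0 ∧ T.a (σ 2) (σ 6) = 0 ∧ T.a (σ 2) (σ 7) = 0 ∧ T.a (σ 3) (σ 3) = -2 * w ∧ T.a (σ 3) (σ 4) = w ∧ T.a (σ 3) (σ 5) = 0 ∧ T.a (σ 3) (σ 6) = 0 ∧ T.a (σ 3) (σ 7) = 0 ∧ T.a (σ 4) (σ 4)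 = -2 * w ∧ T.a (σ 4) (σ 5) = w ∧ T.a (σ 4) (σ 6) = 0 ∧ T.a (σ 4) (σ 7) = 0 ∧ T.a (σ 5) (σ 5) = -2 * w ∧ T.a (σ 5) (σ 6) = w ∧ T.a (σ 5) (σ 7) = w ∧ T.a (σ 6) (σ 6) = -2 * w ∧ T.a (σ 6) (σ 7) = 0 ∧ T.a (σ 7) (σ 7) = -2 * w) ∨
      (T.m (σ 0) = 2 * m ∧ T.m (σ 1) = 2 * m ∧ T.m (σ 2) = 2 * m ∧ T.m (σ 3) = 2 * m ∧ T.m (σ 4) = 2 * m ∧ T.m (σ 5) = 2 * m ∧ T.m (σ 6) = m ∧ T.m (σ 7) = m ∧ T.w (σ 0) = w ∧ T.w (σ 1) = 2 * w ∧ T.w (σ 2) = 2 * w ∧ T.w (σ 3) = 2 * w ∧ T.w (σ 4) = 2 * w ∧ T.w (σ 5) = 2 * w ∧ T.w (σ 6) = 2 * w ∧ T.w (σ 7) = 2 * w ∧ T.a (σ 0) (σ 0) = -2 * w ∧ T.a (σ 0) (σ 1) = 2 * w ∧ T.a (σ 0) (σ 2) = 0 ∧ T.a (σ 0) (σ 3) = 0 ∧ T.a (σ 0) (σ 4) = 0 ∧ T.a (σ 0) (σ 5) = 0 ∧ T.a (σ 0) (σ 6) = 0 ∧ T.a (σ 0) (σ 7) = 0 ∧ T.a (σ 1) (σ 1) = -4 * w ∧ T.a (σ 1) (σ 2) = 2 * w ∧ T.a (σ 1) (σ 3) = 0 ∧ T.a (σ 1) (σ 4) = 0 ∧ T.a (σ 1) (σ 5) = 0 ∧ T.a (σ 1) (σ 6) = 0 ∧ T.a (σ 1) (σ 7) = 0 ∧ T.a (σ 2) (σ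 2) = -4 * w ∧ T.a (σ 2) (σ 3) = 2 * w ∧ T.a (σ 2) (σ 4) = 0 ∧ T.a (σ 2) (σ 5) = 0 ∧ T.a (σ 2) (σ 6) = 0 ∧ T.a (σ 2) (σ 7) = 0 ∧ T.a (σ 3) (σ 3) = -4 * w ∧ T.a (σ 3) (σ 4) = 2 * w ∧ T.a (σ 3) (σ 5) = 0 ∧ T.a (σ 3) (σ 6) = 0 ∧ T.a (σ 3) (σ 7) = 0 ∧ T.a (σ 4) (σ 4) = -4 * w ∧ T.a (σ 4) (σ 5) = 2 * w ∧ T.a (σ 4) (σ 6) = 0 ∧ T.a (σ 4) (σ 7) = 0 ∧ T.a (σ 5) (σ 5) = -4 * w ∧ T.a (σ 5) (σ 6) = 2 * w ∧ T.a (σ 5) (σ 7) = 2 * w ∧ T.a (σ 6) (σ 6) = -4 * w ∧ T.a (σ 6) (σ 7) = 0 ∧ T.a (σ 7) (σ 7) = -4 * w) ∨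
      (T.m (σ 0) = m ∧ T.m (σ 1) = m ∧ T.m (σ 2) = 2 * m ∧ T.m (σ 3) = 2 * m ∧ T.m (σ 4) = 2 * m ∧ T.m (σ 5) = 2 * m ∧ T.m (σ 6) = m ∧ T.m (σ 7) = m ∧ T.w (σ 0) = w ∧ T.w (σ 1) = w ∧ T.w (σ 2) = w ∧ T.w (σ 3) = w ∧ T.w (σ 4) = w ∧ T.w (σ 5) = w ∧ T.w (σ 6) = w ∧ T.w (σ 7) = w ∧ T.a (σ 0) (σ 0) = -2 * w ∧ T.a (σ 0) (σ 1) = 0 ∧ T.a (σ 0) (σ 2) = w ∧ T.a (σ 0) (σ 3) = 0 ∧ T.a (σ 0) (σ 4) = 0 ∧ T.a (σ 0) (σ 5) = 0 ∧ T.a (σ 0) (σ 6) = 0 ∧ T.a (σ 0) (σ 7) = 0 ∧ T.a (σ 1) (σ 1) = -2 * w ∧ T.a (σ 1) (σ 2) = w ∧ T.a (σ 1) (σ 3) = 0 ∧ T.a (σ 1) (σ 4) = 0 ∧ T.a (σ 1) (σ 5) = 0 ∧ T.a (σ 1) (σ 6) = 0 ∧ T.a (σ 1) (σ 7) = 0 ∧ T.a (σ 2) (σ 2) = -2 * w ∧ T.a (σ 2) (σ 3) = w ∧ T.a (σ 2) (σ 4) = 0 ∧ T.a (σ 2) (σ 5) = 0 ∧ T.a (σ 2) (σ 6) = 0 ∧ T.a (σ 2) (σ 7) = 0 ∧ T.a (σ 3) (σ 3) = -2 * w ∧ T.a (σ 3) (σ 4) = w ∧ T.a (σ 3) (σ 5) = 0 ∧ T.a (σ 3) (σ 6) = 0 ∧ T.a (σ 3) (σ 7) = 0 ∧ T.a (σ 4) (σ 4) = -2 * w ∧ T.a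 (σ 4) (σ 5) = w ∧ T.a (σ 4) (σ 6) = 0 ∧ T.a (σ 4) (σ 7) = 0 ∧ T.a (σ 5) (σ 5) = -2 * w ∧ T.a (σ 5) (σ 6) = w ∧ T.a (σ 5) (σ 7) = w ∧ T.a (σ 6) (σ 6) = -2 * w ∧ T.a (σ 6) (σ 7) = 0 ∧ T.a (σ 7) (σ 7) = -2 * w) ∨
      (T.m (σ 0) = m ∧ T.m (σ 1) = 2 * m ∧ T.m (σ 2) = 3 * m ∧ T.m (σ 3) = 4 * m ∧ T.m (σ 4) = 3 * m ∧ T.m (σ 5) = 2 * m ∧ T.m (σ 6) = m ∧ T.m (σ 7) = 2 * m ∧ T.w (σ 0) = w ∧ T.w (σ 1) = w ∧ T.w (σ 2) = w ∧ T.w (σ 3) = w ∧ T.w (σ 4) = w ∧ T.w (σ 5) = w ∧ T.w (σ 6) = w ∧ T.w (σ 7) = w ∧ T.a (σ 0) (σ 0) = -2 * w ∧ T.a (σ 0) (σ 1) = w ∧ T.a (σ 0) (σ 2) = 0 ∧ T.a (σ 0) (σ 3) = 0 ∧ T.a (σ 0) (σ 4) = 0 ∧ T.a (σ 0) (σ 5) = 0 ∧ T.a (σ 0) (σ 6) = 0 ∧ T.a (σ 0) (σ 7) = 0 ∧ T.a (σ 1) (σ 1) = -2 * w ∧ T.a (σ 1) (σ 2) = w ∧ T.a (σ 1) (σ 3) = 0 ∧ T.a (σ 1) (σ 4) = 0 ∧ T.a (σ 1) (σ 5) = 0 ∧ T.a (σ 1) (σ 6) = 0 ∧ T.a (σ 1) (σ 7) = 0 ∧ T.a (σ 2) (σ 2) = -2 * w ∧ T.a (σ 2) (σ 3) = w ∧ T.a (σ 2) (σ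 4) = 0 ∧ T.a (σ 2) (σ 5) = 0 ∧ T.a (σ 2) (σ 6) = 0 ∧ T.a (σ 2) (σ 7) = 0 ∧ T.a (σ 3) (σ 3) = -2 * w ∧ T.a (σ 3) (σ 4) = w ∧ T.a (σ 3) (σ 5) = 0 ∧ T.a (σ 3) (σ 6) = 0 ∧ T.a (σ 3) (σ 7) = w ∧ T.a (σ 4) (σ 4) = -2 * w ∧ T.a (σ 4) (σ 5) = w ∧ T.a (σ 4) (σ 6) = 0 ∧ T.a (σ 4) (σ 7) = 0 ∧ T.a (σ 5) (σ 5) = -2 * w ∧ T.a (σ 5) (σ 6) = w ∧ T.a (σ 5) (σ 7) = 0 ∧ T.a (σ 6) (σ 6) = -2 * w ∧ T.a (σ 6) (σ 7) = 0 ∧ T.a (σ 7) (σ 7) = -2 * w)) := by
  have hm2 : ∀ x, T.IsMinusTwo x :=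
    fun x => Groth.Agent.Helper11.NT_genus_one_allMinusTwo T (by norm_num) hmin hg x
  have hd : ∀ i, T.a i i = -2 * T.w i := fun i => (hm2 i).2
  refine ⟨fun i => (hm2 i).1, ?_⟩
  rcases Groth.Agent.Lib.Helper6.Aff.classify T hd (by norm_num) with ⟨σ, m, w, h⟩ | h | h
  · obtain ⟨h1, h2, h3, h4, h5⟩ := h
    exact ⟨σ, m, w, Or.inl ⟨h1 (0 : Fin 8),
        h1 (1 : Fin 8),
        h1 (2 : Fin 8),
        h1 (3 : Fin 8),
        h1 (4 : Fin 8),
        h1 (5 : Fin 8),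
        h1 (6 : Fin 8),
        h1 (7 : Fin 8),
        h2 (0 : Fin 8),
        h2 (1 : Fin 8),
        h2 (2 : Fin 8),
        h2 (3 : Fin 8),
        h2 (4 : Fin 8),
        h2 (5 : Fin 8),
        h2 (6 : Fin 8),
        h2 (7 : Fin 8),
        (by show T.a (σ (0 : Fin 8)) (σ (0 : Fin 8)) = _; have e1 := hd (σ (0 : Fin 8)); have e2 := h2 (0 : Fin 8); linarith),
        h3 (0 : Fin 8) (1 : Fin 8) (by decide) (by decide),
        h5 (0 : Fin 8) (2 : Fin 8) (by decide) (by decide) (by decide),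
        h5 (0 : Fin 8) (3 : Fin 8) (by decide) (by decide) (by decide),
        h5 (0 : Fin 8) (4 : Fin 8) (by decide) (by decide) (by decide),
        h5 (0 : Fin 8) (5 : Fin 8) (by decide) (by decide) (by decide),
        h5 (0 : Fin 8) (6 : Fin 8) (by decide) (by decide) (by decide),
        h4 (0 : Fin 8) (7 : Fin 8) (by decide) (by decide),
        (by show T.a (σ (1 : Fin 8)) (σ (1 : Fin 8)) = _; have e1 := hd (σ (1 : Fin 8)); have e2 := h2 (1 : Fin 8); linarith),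
        h3 (1 : Fin 8) (2 : Fin 8) (by decide) (by decide),
        h5 (1 : Fin 8) (3 : Fin 8) (by decide) (by decide) (by decide),
        h5 (1 : Fin 8) (4 : Fin 8) (by decide) (by decide) (by decide),
        h5 (1 : Fin 8) (5 : Fin 8) (by decide) (by decide) (by decide),
        h5 (1 : Fin 8) (6 : Fin 8) (by decide) (by decide) (by decide),
        h5 (1 : Fin 8) (7 : Fin 8) (by decide) (by decide) (by decide),
        (by show T.a (σ (2 : Fin 8)) (σ (2 : Fin 8)) = _; have e1 := hd (σ (2 : Fin 8)); have e2 := h2 (2 : Fin 8); linarith),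
        h3 (2 : Fin 8) (3 : Fin 8) (by decide) (by decide),
        h5 (2 : Fin 8) (4 : Fin 8) (by decide) (by decide) (by decide),
        h5 (2 : Fin 8) (5 : Fin 8) (by decide) (by decide) (by decide),
        h5 (2 : Fin 8) (6 : Fin 8) (by decide) (by decide) (by decide),
        h5 (2 : Fin 8) (7 : Fin 8) (by decide) (by decide) (by decide),
        (by show T.a (σ (3 : Fin 8)) (σ (3 : Fin 8)) = _; have e1 := hd (σ (3 : Fin 8)); have e2 := h2 (3 : Fin 8); linarith),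
        h3 (3 : Fin 8) (4 : Fin 8) (by decide) (by decide),
        h5 (3 : Fin 8) (5 : Fin 8) (by decide) (by decide) (by decide),
        h5 (3 : Fin 8) (6 : Fin 8) (by decide) (by decide) (by decide),
        h5 (3 : Fin 8) (7 : Fin 8) (by decide) (by decide) (by decide),
        (by show T.a (σ (4 : Fin 8)) (σ (4 : Fin 8)) = _; have e1 := hd (σ (4 : Fin 8)); have e2 := h2 (4 : Fin 8); linarith),
        h3 (4 : Fin 8) (5 : Fin 8) (by decide) (by decide),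
        h5 (4 : Fin 8) (6 : Fin 8) (by decide) (by decide) (by decide),
        h5 (4 : Fin 8) (7 : Fin 8) (by decide) (by decide) (by decide),
        (by show T.a (σ (5 : Fin 8)) (σ (5 : Fin 8)) = _; have e1 := hd (σ (5 : Fin 8)); have e2 := h2 (5 : Fin 8); linarith),
        h3 (5 : Fin 8) (6 : Fin 8) (by decide) (by decide),
        h5 (5 : Fin 8) (7 : Fin 8) (by decide) (by decide) (by decide),
        (by show T.a (σ (6 : Fin 8)) (σ (6 : Fin 8)) = _; have e1 := hd (σ (6 : Fin 8)); have e2 := h2 (6 : Fin 8); linarith),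
        h3 (6 : Fin 8) (7 : Fin 8) (by decide) (by decide),
        (by show T.a (σ (7 : Fin 8)) (σ (7 : Fin 8)) = _; have e1 := hd (σ (7 : Fin 8)); have e2 := h2 (7 : Fin 8); linarith)⟩⟩
  · rcases h with ⟨σ, m, w, h⟩ | ⟨σ, m, w, h⟩ | ⟨σ, m, w, h⟩ | ⟨σ, m, w, h⟩ | ⟨σ, m, w, h⟩ |
      ⟨σ, m, w, h⟩
    · obtain ⟨h1, h2, h3, h4, h5, h6, h7, h8⟩ := h
      exact ⟨σ, m, w, Or.inr (Or.inl ⟨h1 (0 : Fin 8) (by decide),
          h1 (1 : Fin 8) (by decide),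
          h1 (2 : Fin 8) (by decide),
          h1 (3 : Fin 8) (by decide),
          h1 (4 : Fin 8) (by decide),
          h1 (5 : Fin 8) (by decide),
          h1 (6 : Fin 8) (by decide),
          h2 (7 : Fin 8) (by decide),
          h3 (0 : Fin 8) (by decide),
          h4 (1 : Fin 8) (by decide),
          h4 (2 : Fin 8) (by decide),
          h4 (3 : Fin 8) (by decide),
          h4 (4 : Fin 8) (by decide),
          h4 (5 : Fin 8) (by decide),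
          h4 (6 : Fin 8) (by decide),
          h5 (7 : Fin 8) (by decide),
          (by show T.a (σ (0 : Fin 8)) (σ (0 : Fin 8)) = _; have e1 := hd (σ (0 : Fin 8)); have e2 := h3 (0 : Fin 8) (by decide); linarith),
          h6 (0 : Fin 8) (1 : Fin 8) (by decide) (by decide),
          h8 (0 : Fin 8) (2 : Fin 8) (by decide) (by decide) (by decide),
          h8 (0 : Fin 8) (3 : Fin 8) (by decide) (by decide) (by decide),
          h8 (0 : Fin 8) (4 : Fin 8) (by decide) (by decide) (by decide),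
          h8 (0 : Fin 8) (5 : Fin 8) (by decide) (by decide) (by decide),
          h8 (0 : Fin 8) (6 : Fin 8) (by decide) (by decide) (by decide),
          h8 (0 : Fin 8) (7 : Fin 8) (by decide) (by decide) (by decide),
          (by show T.a (σ (1 : Fin 8)) (σ (1 : Fin 8)) = _; have e1 := hd (σ (1 : Fin 8)); have e2 := h4 (1 : Fin 8) (by decide); linarith),
          h6 (1 : Fin 8) (2 : Fin 8) (by decide) (by decide),
          h8 (1 : Fin 8) (3 : Fin 8) (by decide) (by decide) (by decide),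
          h8 (1 : Fin 8) (4 : Fin 8) (by decide) (by decide) (by decide),
          h8 (1 : Fin 8) (5 : Fin 8) (by decide) (by decide) (by decide),
          h8 (1 : Fin 8) (6 : Fin 8) (by decide) (by decide) (by decide),
          h8 (1 : Fin 8) (7 : Fin 8) (by decide) (by decide) (by decide),
          (by show T.a (σ (2 : Fin 8)) (σ (2 : Fin 8)) = _; have e1 := hd (σ (2 : Fin 8)); have e2 := h4 (2 : Fin 8) (by decide); linarith),
          h6 (2 : Fin 8) (3 : Fin 8) (by decide) (by decide),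
          h8 (2 : Fin 8) (4 : Fin 8) (by decide) (by decide) (by decide),
          h8 (2 : Fin 8) (5 : Fin 8) (by decide) (by decide) (by decide),
          h8 (2 : Fin 8) (6 : Fin 8) (by decide) (by decide) (by decide),
          h8 (2 : Fin 8) (7 : Fin 8) (by decide) (by decide) (by decide),
          (by show T.a (σ (3 : Fin 8)) (σ (3 : Fin 8)) = _; have e1 := hd (σ (3 : Fin 8)); have e2 := h4 (3 : Fin 8) (by decide); linarith),
          h6 (3 : Fin 8) (4 : Fin 8) (by decide) (by decide),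
          h8 (3 : Fin 8) (5 : Fin 8) (by decide) (by decide) (by decide),
          h8 (3 : Fin 8) (6 : Fin 8) (by decide) (by decide) (by decide),
          h8 (3 : Fin 8) (7 : Fin 8) (by decide) (by decide) (by decide),
          (by show T.a (σ (4 : Fin 8)) (σ (4 : Fin 8)) = _; have e1 := hd (σ (4 : Fin 8)); have e2 := h4 (4 : Fin 8) (by decide); linarith),
          h6 (4 : Fin 8) (5 : Fin 8) (by decide) (by decide),
          h8 (4 : Fin 8) (6 : Fin 8) (by decide) (by decide) (by decide),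
          h8 (4 : Fin 8) (7 : Fin 8) (by decide) (by decide) (by decide),
          (by show T.a (σ (5 : Fin 8)) (σ (5 : Fin 8)) = _; have e1 := hd (σ (5 : Fin 8)); have e2 := h4 (5 : Fin 8) (by decide); linarith),
          h6 (5 : Fin 8) (6 : Fin 8) (by decide) (by decide),
          h8 (5 : Fin 8) (7 : Fin 8) (by decide) (by decide) (by decide),
          (by show T.a (σ (6 : Fin 8)) (σ (6 : Fin 8)) = _; have e1 := hd (σ (6 : Fin 8)); have e2 := h4 (6 : Fin 8) (by decide); linarith),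
          h7 (6 : Fin 8) (7 : Fin 8) (by decide) (by decide),
          (by show T.a (σ (7 : Fin 8)) (σ (7 : Fin 8)) = _; have e1 := hd (σ (7 : Fin 8)); have e2 := h5 (7 : Fin 8) (by decide); linarith)⟩)⟩
    · obtain ⟨h1, h2, h3, h4, h5, h6⟩ := h
      exact ⟨σ, m, w, Or.inr (Or.inr (Or.inl ⟨h1 (0 : Fin 8),
          h1 (1 : Fin 8),
          h1 (2 : Fin 8),
          h1 (3 : Fin 8),
          h1 (4 : Fin 8),
          h1 (5 : Fin 8),
          h1 (6 : Fin 8),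
          h1 (7 : Fin 8),
          h2 (0 : Fin 8) (by decide),
          h3 (1 : Fin 8) (by decide),
          h3 (2 : Fin 8) (by decide),
          h3 (3 : Fin 8) (by decide),
          h3 (4 : Fin 8) (by decide),
          h3 (5 : Fin 8) (by decide),
          h3 (6 : Fin 8) (by decide),
          h4 (7 : Fin 8) (by decide),
          (by show T.a (σ (0 : Fin 8)) (σ (0 : Fin 8)) = _; have e1 := hd (σ (0 : Fin 8)); have e2 := h2 (0 : Fin 8) (by decide); linarith),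
          h5 (0 : Fin 8) (1 : Fin 8) (by decide) (by decide),
          h6 (0 : Fin 8) (2 : Fin 8) (by decide) (by decide),
          h6 (0 : Fin 8) (3 : Fin 8) (by decide) (by decide),
          h6 (0 : Fin 8) (4 : Fin 8) (by decide) (by decide),
          h6 (0 : Fin 8) (5 : Fin 8) (by decide) (by decide),
          h6 (0 : Fin 8) (6 : Fin 8) (by decide) (by decide),
          h6 (0 : Fin 8) (7 : Fin 8) (by decide) (by decide),
          (by show T.a (σ (1 : Fin 8)) (σ (1 : Fin 8)) = _; have e1 := hd (σ (1 : Fin 8)); have e2 := h3 (1 : Fin 8) (by decide); linarith),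
          h5 (1 : Fin 8) (2 : Fin 8) (by decide) (by decide),
          h6 (1 : Fin 8) (3 : Fin 8) (by decide) (by decide),
          h6 (1 : Fin 8) (4 : Fin 8) (by decide) (by decide),
          h6 (1 : Fin 8) (5 : Fin 8) (by decide) (by decide),
          h6 (1 : Fin 8) (6 : Fin 8) (by decide) (by decide),
          h6 (1 : Fin 8) (7 : Fin 8) (by decide) (by decide),
          (by show T.a (σ (2 : Fin 8)) (σ (2 : Fin 8)) = _; have e1 := hd (σ (2 : Fin 8)); have e2 := h3 (2 : Fin 8) (by decide); linarith),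
          h5 (2 : Fin 8) (3 : Fin 8) (by decide) (by decide),
          h6 (2 : Fin 8) (4 : Fin 8) (by decide) (by decide),
          h6 (2 : Fin 8) (5 : Fin 8) (by decide) (by decide),
          h6 (2 : Fin 8) (6 : Fin 8) (by decide) (by decide),
          h6 (2 : Fin 8) (7 : Fin 8) (by decide) (by decide),
          (by show T.a (σ (3 : Fin 8)) (σ (3 : Fin 8)) = _; have e1 := hd (σ (3 : Fin 8)); have e2 := h3 (3 : Fin 8) (by decide); linarith),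
          h5 (3 : Fin 8) (4 : Fin 8) (by decide) (by decide),
          h6 (3 : Fin 8) (5 : Fin 8) (by decide) (by decide),
          h6 (3 : Fin 8) (6 : Fin 8) (by decide) (by decide),
          h6 (3 : Fin 8) (7 : Fin 8) (by decide) (by decide),
          (by show T.a (σ (4 : Fin 8)) (σ (4 : Fin 8)) = _; have e1 := hd (σ (4 : Fin 8)); have e2 := h3 (4 : Fin 8) (by decide); linarith),
          h5 (4 : Fin 8) (5 : Fin 8) (by decide) (by decide),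
          h6 (4 : Fin 8) (6 : Fin 8) (by decide) (by decide),
          h6 (4 : Fin 8) (7 : Fin 8) (by decide) (by decide),
          (by show T.a (σ (5 : Fin 8)) (σ (5 : Fin 8)) = _; have e1 := hd (σ (5 : Fin 8)); have e2 := h3 (5 : Fin 8) (by decide); linarith),
          h5 (5 : Fin 8) (6 : Fin 8) (by decide) (by decide),
          h6 (5 : Fin 8) (7 : Fin 8) (by decide) (by decide),
          (by show T.a (σ (6 : Fin 8)) (σ (6 : Fin 8)) = _; have e1 := hd (σ (6 : Fin 8)); have e2 := h3 (6 : Fin 8) (by decide); linarith),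
          h5 (6 : Fin 8) (7 : Fin 8) (by decide) (by decide),
          (by show T.a (σ (7 : Fin 8)) (σ (7 : Fin 8)) = _; have e1 := hd (σ (7 : Fin 8)); have e2 := h4 (7 : Fin 8) (by decide); linarith)⟩))⟩
    · obtain ⟨h1, h2, h3, h4, h5, h6, h7, h8, h9, h10⟩ := h
      exact ⟨σ, m, w, Or.inr (Or.inr (Or.inr (Or.inl ⟨h1 (0 : Fin 8) (by decide),
          h2 (1 : Fin 8) (by decide),
          h2 (2 : Fin 8) (by decide),
          h2 (3 : Fin 8) (by decide),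
          h2 (4 : Fin 8) (by decide),
          h2 (5 : Fin 8) (by decide),
          h2 (6 : Fin 8) (by decide),
          h3 (7 : Fin 8) (by decide),
          h4 (0 : Fin 8) (by decide),
          h5 (1 : Fin 8) (by decide),
          h5 (2 : Fin 8) (by decide),
          h5 (3 : Fin 8) (by decide),
          h5 (4 : Fin 8) (by decide),
          h5 (5 : Fin 8) (by decide),
          h5 (6 : Fin 8) (by decide),
          h6 (7 : Fin 8) (by decide),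
          (by show T.a (σ (0 : Fin 8)) (σ (0 : Fin 8)) = _; have e1 := hd (σ (0 : Fin 8)); have e2 := h4 (0 : Fin 8) (by decide); linarith),
          h7 (0 : Fin 8) (1 : Fin 8) (by decide) (by decide),
          h10 (0 : Fin 8) (2 : Fin 8) (by decide) (by decide) (by decide) (by decide),
          h10 (0 : Fin 8) (3 : Fin 8) (by decide) (by decide) (by decide) (by decide),
          h10 (0 : Fin 8) (4 : Fin 8) (by decide) (by decide) (by decide) (by decide),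
          h10 (0 : Fin 8) (5 : Fin 8) (by decide) (by decide) (by decide) (by decide),
          h10 (0 : Fin 8) (6 : Fin 8) (by decide) (by decide) (by decide) (by decide),
          h10 (0 : Fin 8) (7 : Fin 8) (by decide) (by decide) (by decide) (by decide),
          (by show T.a (σ (1 : Fin 8)) (σ (1 : Fin 8)) = _; have e1 := hd (σ (1 : Fin 8)); have e2 := h5 (1 : Fin 8) (by decide); linarith),
          h8 (1 : Fin 8) (2 : Fin 8) (by decide) (by decide),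
          h10 (1 : Fin 8) (3 : Fin 8) (by decide) (by decide) (by decide) (by decide),
          h10 (1 : Fin 8) (4 : Fin 8) (by decide) (by decide) (by decide) (by decide),
          h10 (1 : Fin 8) (5 : Fin 8) (by decide) (by decide) (by decide) (by decide),
          h10 (1 : Fin 8) (6 : Fin 8) (by decide) (by decide) (by decide) (by decide),
          h10 (1 : Fin 8) (7 : Fin 8) (by decide) (by decide) (by decide) (by decide),
          (by show T.a (σ (2 : Fin 8)) (σ (2 : Fin 8)) = _; have e1 := hd (σ (2 : Fin 8)); have e2 := h5 (2 : Fin 8) (by decide); linarith),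
          h8 (2 : Fin 8) (3 : Fin 8) (by decide) (by decide),
          h10 (2 : Fin 8) (4 : Fin 8) (by decide) (by decide) (by decide) (by decide),
          h10 (2 : Fin 8) (5 : Fin 8) (by decide) (by decide) (by decide) (by decide),
          h10 (2 : Fin 8) (6 : Fin 8) (by decide) (by decide) (by decide) (by decide),
          h10 (2 : Fin 8) (7 : Fin 8) (by decide) (by decide) (by decide) (by decide),
          (by show T.a (σ (3 : Fin 8)) (σ (3 : Fin 8)) = _; have e1 := hd (σ (3 : Fin 8)); have e2 := h5 (3 : Fin 8) (by decide); linarith),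
          h8 (3 : Fin 8) (4 : Fin 8) (by decide) (by decide),
          h10 (3 : Fin 8) (5 : Fin 8) (by decide) (by decide) (by decide) (by decide),
          h10 (3 : Fin 8) (6 : Fin 8) (by decide) (by decide) (by decide) (by decide),
          h10 (3 : Fin 8) (7 : Fin 8) (by decide) (by decide) (by decide) (by decide),
          (by show T.a (σ (4 : Fin 8)) (σ (4 : Fin 8)) = _; have e1 := hd (σ (4 : Fin 8)); have e2 := h5 (4 : Fin 8) (by decide); linarith),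
          h8 (4 : Fin 8) (5 : Fin 8) (by decide) (by decide),
          h10 (4 : Fin 8) (6 : Fin 8) (by decide) (by decide) (by decide) (by decide),
          h10 (4 : Fin 8) (7 : Fin 8) (by decide) (by decide) (by decide) (by decide),
          (by show T.a (σ (5 : Fin 8)) (σ (5 : Fin 8)) = _; have e1 := hd (σ (5 : Fin 8)); have e2 := h5 (5 : Fin 8) (by decide); linarith),
          h8 (5 : Fin 8) (6 : Fin 8) (by decide) (by decide),
          h10 (5 : Fin 8) (7 : Fin 8) (by decide) (by decide) (by decide) (by decide),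
          (by show T.a (σ (6 : Fin 8)) (σ (6 : Fin 8)) = _; have e1 := hd (σ (6 : Fin 8)); have e2 := h5 (6 : Fin 8) (by decide); linarith),
          h9 (6 : Fin 8) (7 : Fin 8) (by decide) (by decide),
          (by show T.a (σ (7 : Fin 8)) (σ (7 : Fin 8)) = _; have e1 := hd (σ (7 : Fin 8)); have e2 := h6 (7 : Fin 8) (by decide); linarith)⟩)))⟩
    · obtain ⟨h1, h2, h3, h4, h5, h6, h7, h8, h9⟩ := h
      exact ⟨σ, m, w, Or.inr (Or.inr (Or.inr (Or.inr (Or.inl ⟨h1 (0 : Fin 8) (by decide),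
          h2 (1 : Fin 8) (by decide),
          h2 (2 : Fin 8) (by decide),
          h2 (3 : Fin 8) (by decide),
          h2 (4 : Fin 8) (by decide),
          h2 (5 : Fin 8) (by decide),
          h3 (6 : Fin 8) (by decide),
          h3 (7 : Fin 8) (by decide),
          h4 (0 : Fin 8) (by decide),
          h5 (1 : Fin 8) (by decide),
          h5 (2 : Fin 8) (by decide),
          h5 (3 : Fin 8) (by decide),
          h5 (4 : Fin 8) (by decide),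
          h5 (5 : Fin 8) (by decide),
          h5 (6 : Fin 8) (by decide),
          h5 (7 : Fin 8) (by decide),
          (by show T.a (σ (0 : Fin 8)) (σ (0 : Fin 8)) = _; have e1 := hd (σ (0 : Fin 8)); have e2 := h4 (0 : Fin 8) (by decide); linarith),
          h6 (0 : Fin 8) (1 : Fin 8) (by decide) (by decide),
          h9 (0 : Fin 8) (2 : Fin 8) (by decide) (by decide) (by decide) (by decide),
          h9 (0 : Fin 8) (3 : Fin 8) (by decide) (by decide) (by decide) (by decide),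
          h9 (0 : Fin 8) (4 : Fin 8) (by decide) (by decide) (by decide) (by decide),
          h9 (0 : Fin 8) (5 : Fin 8) (by decide) (by decide) (by decide) (by decide),
          h9 (0 : Fin 8) (6 : Fin 8) (by decide) (by decide) (by decide) (by decide),
          h9 (0 : Fin 8) (7 : Fin 8) (by decide) (by decide) (by decide) (by decide),
          (by show T.a (σ (1 : Fin 8)) (σ (1 : Fin 8)) = _; have e1 := hd (σ (1 : Fin 8)); have e2 := h5 (1 : Fin 8) (by decide); linarith),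
          h7 (1 : Fin 8) (2 : Fin 8) (by decide) (by decide),
          h9 (1 : Fin 8) (3 : Fin 8) (by decide) (by decide) (by decide) (by decide),
          h9 (1 : Fin 8) (4 : Fin 8) (by decide) (by decide) (by decide) (by decide),
          h9 (1 : Fin 8) (5 : Fin 8) (by decide) (by decide) (by decide) (by decide),
          h9 (1 : Fin 8) (6 : Fin 8) (by decide) (by decide) (by decide) (by decide),
          h9 (1 : Fin 8) (7 : Fin 8) (by decide) (by decide) (by decide) (by decide),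
          (by show T.a (σ (2 : Fin 8)) (σ (2 : Fin 8)) = _; have e1 := hd (σ (2 : Fin 8)); have e2 := h5 (2 : Fin 8) (by decide); linarith),
          h7 (2 : Fin 8) (3 : Fin 8) (by decide) (by decide),
          h9 (2 : Fin 8) (4 : Fin 8) (by decide) (by decide) (by decide) (by decide),
          h9 (2 : Fin 8) (5 : Fin 8) (by decide) (by decide) (by decide) (by decide),
          h9 (2 : Fin 8) (6 : Fin 8) (by decide) (by decide) (by decide) (by decide),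
          h9 (2 : Fin 8) (7 : Fin 8) (by decide) (by decide) (by decide) (by decide),
          (by show T.a (σ (3 : Fin 8)) (σ (3 : Fin 8)) = _; have e1 := hd (σ (3 : Fin 8)); have e2 := h5 (3 : Fin 8) (by decide); linarith),
          h7 (3 : Fin 8) (4 : Fin 8) (by decide) (by decide),
          h9 (3 : Fin 8) (5 : Fin 8) (by decide) (by decide) (by decide) (by decide),
          h9 (3 : Fin 8) (6 : Fin 8) (by decide) (by decide) (by decide) (by decide),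
          h9 (3 : Fin 8) (7 : Fin 8) (by decide) (by decide) (by decide) (by decide),
          (by show T.a (σ (4 : Fin 8)) (σ (4 : Fin 8)) = _; have e1 := hd (σ (4 : Fin 8)); have e2 := h5 (4 : Fin 8) (by decide); linarith),
          h7 (4 : Fin 8) (5 : Fin 8) (by decide) (by decide),
          h9 (4 : Fin 8) (6 : Fin 8) (by decide) (by decide) (by decide) (by decide),
          h9 (4 : Fin 8) (7 : Fin 8) (by decide) (by decide) (by decide) (by decide),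
          (by show T.a (σ (5 : Fin 8)) (σ (5 : Fin 8)) = _; have e1 := hd (σ (5 : Fin 8)); have e2 := h5 (5 : Fin 8) (by decide); linarith),
          h7 (5 : Fin 8) (6 : Fin 8) (by decide) (by decide),
          h8 (5 : Fin 8) (7 : Fin 8) (by decide) (by decide),
          (by show T.a (σ (6 : Fin 8)) (σ (6 : Fin 8)) = _; have e1 := hd (σ (6 : Fin 8)); have e2 := h5 (6 : Fin 8) (by decide); linarith),
          h9 (6 : Fin 8) (7 : Fin 8) (by decide) (by decide) (by decide) (by decide),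
          (by show T.a (σ (7 : Fin 8)) (σ (7 : Fin 8)) = _; have e1 := hd (σ (7 : Fin 8)); have e2 := h5 (7 : Fin 8) (by decide); linarith)⟩))))⟩
    · obtain ⟨h1, h2, h3, h4, h5, h6, h7⟩ := h
      exact ⟨σ, m, w, Or.inr (Or.inr (Or.inr (Or.inr (Or.inr (Or.inl ⟨h1 (0 : Fin 8) (by decide),
          h1 (1 : Fin 8) (by decide),
          h1 (2 : Fin 8) (by decide),
          h1 (3 : Fin 8) (by decide),
          h1 (4 : Fin 8) (by decide),
          h1 (5 : Fin 8) (by decide),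
          h2 (6 : Fin 8) (by decide),
          h2 (7 : Fin 8) (by decide),
          h3 (0 : Fin 8) (by decide),
          h4 (1 : Fin 8) (by decide),
          h4 (2 : Fin 8) (by decide),
          h4 (3 : Fin 8) (by decide),
          h4 (4 : Fin 8) (by decide),
          h4 (5 : Fin 8) (by decide),
          h4 (6 : Fin 8) (by decide),
          h4 (7 : Fin 8) (by decide),
          (by show T.a (σ (0 : Fin 8)) (σ (0 : Fin 8)) = _; have e1 := hd (σ (0 : Fin 8)); have e2 := h3 (0 : Fin 8) (by decide); linarith),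
          h5 (0 : Fin 8) (1 : Fin 8) (by decide) (by decide),
          h7 (0 : Fin 8) (2 : Fin 8) (by decide) (by decide) (by decide),
          h7 (0 : Fin 8) (3 : Fin 8) (by decide) (by decide) (by decide),
          h7 (0 : Fin 8) (4 : Fin 8) (by decide) (by decide) (by decide),
          h7 (0 : Fin 8) (5 : Fin 8) (by decide) (by decide) (by decide),
          h7 (0 : Fin 8) (6 : Fin 8) (by decide) (by decide) (by decide),
          h7 (0 : Fin 8) (7 : Fin 8) (by decide) (by decide) (by decide),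
          (by show T.a (σ (1 : Fin 8)) (σ (1 : Fin 8)) = _; have e1 := hd (σ (1 : Fin 8)); have e2 := h4 (1 : Fin 8) (by decide); linarith),
          h5 (1 : Fin 8) (2 : Fin 8) (by decide) (by decide),
          h7 (1 : Fin 8) (3 : Fin 8) (by decide) (by decide) (by decide),
          h7 (1 : Fin 8) (4 : Fin 8) (by decide) (by decide) (by decide),
          h7 (1 : Fin 8) (5 : Fin 8) (by decide) (by decide) (by decide),
          h7 (1 : Fin 8) (6 : Fin 8) (by decide) (by decide) (by decide),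
          h7 (1 : Fin 8) (7 : Fin 8) (by decide) (by decide) (by decide),
          (by show T.a (σ (2 : Fin 8)) (σ (2 : Fin 8)) = _; have e1 := hd (σ (2 : Fin 8)); have e2 := h4 (2 : Fin 8) (by decide); linarith),
          h5 (2 : Fin 8) (3 : Fin 8) (by decide) (by decide),
          h7 (2 : Fin 8) (4 : Fin 8) (by decide) (by decide) (by decide),
          h7 (2 : Fin 8) (5 : Fin 8) (by decide) (by decide) (by decide),
          h7 (2 : Fin 8) (6 : Fin 8) (by decide) (by decide) (by decide),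
          h7 (2 : Fin 8) (7 : Fin 8) (by decide) (by decide) (by decide),
          (by show T.a (σ (3 : Fin 8)) (σ (3 : Fin 8)) = _; have e1 := hd (σ (3 : Fin 8)); have e2 := h4 (3 : Fin 8) (by decide); linarith),
          h5 (3 : Fin 8) (4 : Fin 8) (by decide) (by decide),
          h7 (3 : Fin 8) (5 : Fin 8) (by decide) (by decide) (by decide),
          h7 (3 : Fin 8) (6 : Fin 8) (by decide) (by decide) (by decide),
          h7 (3 : Fin 8) (7 : Fin 8) (by decide) (by decide) (by decide),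
          (by show T.a (σ (4 : Fin 8)) (σ (4 : Fin 8)) = _; have e1 := hd (σ (4 : Fin 8)); have e2 := h4 (4 : Fin 8) (by decide); linarith),
          h5 (4 : Fin 8) (5 : Fin 8) (by decide) (by decide),
          h7 (4 : Fin 8) (6 : Fin 8) (by decide) (by decide) (by decide),
          h7 (4 : Fin 8) (7 : Fin 8) (by decide) (by decide) (by decide),
          (by show T.a (σ (5 : Fin 8)) (σ (5 : Fin 8)) = _; have e1 := hd (σ (5 : Fin 8)); have e2 := h4 (5 : Fin 8) (by decide); linarith),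
          h5 (5 : Fin 8) (6 : Fin 8) (by decide) (by decide),
          h6 (5 : Fin 8) (7 : Fin 8) (by decide) (by decide),
          (by show T.a (σ (6 : Fin 8)) (σ (6 : Fin 8)) = _; have e1 := hd (σ (6 : Fin 8)); have e2 := h4 (6 : Fin 8) (by decide); linarith),
          h7 (6 : Fin 8) (7 : Fin 8) (by decide) (by decide) (by decide),
          (by show T.a (σ (7 : Fin 8)) (σ (7 : Fin 8)) = _; have e1 := hd (σ (7 : Fin 8)); have e2 := h4 (7 : Fin 8) (by decide); linarith)⟩)))))⟩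
    · obtain ⟨h1, h2, h3, h4, h5, h6, h7, h8, h9⟩ := h
      exact ⟨σ, m, w, Or.inr (Or.inr (Or.inr (Or.inr (Or.inr (Or.inr (Or.inl ⟨h1 (0 : Fin 8) (by decide),
          h1 (1 : Fin 8) (by decide),
          h2 (2 : Fin 8) (by decide),
          h2 (3 : Fin 8) (by decide),
          h2 (4 : Fin 8) (by decide),
          h2 (5 : Fin 8) (by decide),
          h3 (6 : Fin 8) (by decide),
          h3 (7 : Fin 8) (by decide),
          h4 (0 : Fin 8),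
          h4 (1 : Fin 8),
          h4 (2 : Fin 8),
          h4 (3 : Fin 8),
          h4 (4 : Fin 8),
          h4 (5 : Fin 8),
          h4 (6 : Fin 8),
          h4 (7 : Fin 8),
          (by show T.a (σ (0 : Fin 8)) (σ (0 : Fin 8)) = _; have e1 := hd (σ (0 : Fin 8)); have e2 := h4 (0 : Fin 8); linarith),
          h9 (0 : Fin 8) (1 : Fin 8) (by decide) (by decide) (by decide) (by decide) (by decide),
          h5 (0 : Fin 8) (2 : Fin 8) (by decide) (by decide),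
          h9 (0 : Fin 8) (3 : Fin 8) (by decide) (by decide) (by decide) (by decide) (by decide),
          h9 (0 : Fin 8) (4 : Fin 8) (by decide) (by decide) (by decide) (by decide) (by decide),
          h9 (0 : Fin 8) (5 : Fin 8) (by decide) (by decide) (by decide) (by decide) (by decide),
          h9 (0 : Fin 8) (6 : Fin 8) (by decide) (by decide) (by decide) (by decide) (by decide),
          h9 (0 : Fin 8) (7 : Fin 8) (by decide) (by decide) (by decide) (by decide) (by decide),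
          (by show T.a (σ (1 : Fin 8)) (σ (1 : Fin 8)) = _; have e1 := hd (σ (1 : Fin 8)); have e2 := h4 (1 : Fin 8); linarith),
          h6 (1 : Fin 8) (2 : Fin 8) (by decide) (by decide),
          h9 (1 : Fin 8) (3 : Fin 8) (by decide) (by decide) (by decide) (by decide) (by decide),
          h9 (1 : Fin 8) (4 : Fin 8) (by decide) (by decide) (by decide) (by decide) (by decide),
          h9 (1 : Fin 8) (5 : Fin 8) (by decide) (by decide) (by decide) (by decide) (by decide),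
          h9 (1 : Fin 8) (6 : Fin 8) (by decide) (by decide) (by decide) (by decide) (by decide),
          h9 (1 : Fin 8) (7 : Fin 8) (by decide) (by decide) (by decide) (by decide) (by decide),
          (by show T.a (σ (2 : Fin 8)) (σ (2 : Fin 8)) = _; have e1 := hd (σ (2 : Fin 8)); have e2 := h4 (2 : Fin 8); linarith),
          h7 (2 : Fin 8) (3 : Fin 8) (by decide) (by decide),
          h9 (2 : Fin 8) (4 : Fin 8) (by decide) (by decide) (by decide) (by decide) (by decide),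
          h9 (2 : Fin 8) (5 : Fin 8) (by decide) (by decide) (by decide) (by decide) (by decide),
          h9 (2 : Fin 8) (6 : Fin 8) (by decide) (by decide) (by decide) (by decide) (by decide),
          h9 (2 : Fin 8) (7 : Fin 8) (by decide) (by decide) (by decide) (by decide) (by decide),
          (by show T.a (σ (3 : Fin 8)) (σ (3 : Fin 8)) = _; have e1 := hd (σ (3 : Fin 8)); have e2 := h4 (3 : Fin 8); linarith),
          h7 (3 : Fin 8) (4 : Fin 8) (by decide) (by decide),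
          h9 (3 : Fin 8) (5 : Fin 8) (by decide) (by decide) (by decide) (by decide) (by decide),
          h9 (3 : Fin 8) (6 : Fin 8) (by decide) (by decide) (by decide) (by decide) (by decide),
          h9 (3 : Fin 8) (7 : Fin 8) (by decide) (by decide) (by decide) (by decide) (by decide),
          (by show T.a (σ (4 : Fin 8)) (σ (4 : Fin 8)) = _; have e1 := hd (σ (4 : Fin 8)); have e2 := h4 (4 : Fin 8); linarith),
          h7 (4 : Fin 8) (5 : Fin 8) (by decide) (by decide),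
          h9 (4 : Fin 8) (6 : Fin 8) (by decide) (by decide) (by decide) (by decide) (by decide),
          h9 (4 : Fin 8) (7 : Fin 8) (by decide) (by decide) (by decide) (by decide) (by decide),
          (by show T.a (σ (5 : Fin 8)) (σ (5 : Fin 8)) = _; have e1 := hd (σ (5 : Fin 8)); have e2 := h4 (5 : Fin 8); linarith),
          h7 (5 : Fin 8) (6 : Fin 8) (by decide) (by decide),
          h8 (5 : Fin 8) (7 : Fin 8) (by decide) (by decide),
          (by show T.a (σ (6 : Fin 8)) (σ (6 : Fin 8)) = _; have e1 := hd (σ (6 : Fin 8)); have e2 := h4 (6 : Fin 8); linarith),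
          h9 (6 : Fin 8) (7 : Fin 8) (by decide) (by decide) (by decide) (by decide) (by decide),
          (by show T.a (σ (7 : Fin 8)) (σ (7 : Fin 8)) = _; have e1 := hd (σ (7 : Fin 8)); have e2 := h4 (7 : Fin 8); linarith)⟩))))))⟩
  · obtain ⟨b, x₁, x₂, x₃, k₁, k₂, k₃, d₁, d₂, d₃, ω₁, ω₂, ω₃, hS, htype⟩ := h
    have hn' := (Groth.Agent.Lib.Helper6.Aff.star_pos T hS).1
    rcases htype with ⟨hω₁, hω₂, hω₃, ⟨rfl, rfl, rfl⟩ | ⟨rfl, rfl, rfl⟩ | ⟨rfl, rfl, rfl⟩⟩ |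
      ⟨hω₁, hω₂, rfl, ⟨rfl, rfl⟩ | ⟨rfl, rfl⟩⟩
    · exfalso; omega
    · obtain ⟨-, hinj, hmv, hwv, hav⟩ := Groth.Agent.Lib.Helper6.Aff.star_pos T hS
      have t1 := hS.a1.tot
      have t2 := hS.a2.tot
      have t3 := hS.a3.tot
      norm_num at t1 t2 t3
      obtain ⟨σ', hσ'⟩ := Groth.Agent.Lib.Helper6.Aff.perm_of_inj_reindex _ hinj (fun i => ([4,3,2,0,5,6,7,1] : List ℕ).getD i 0) (by decide) (by decide)
      have e0 : σ' 0 = Groth.Agent.Lib.Helper6.Aff.starPos b x₁ x₂ x₃ 1 3 4 := hσ' 0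
      have e1 : σ' 1 = Groth.Agent.Lib.Helper6.Aff.starPos b x₁ x₂ x₃ 1 3 3 := hσ' 1
      have e2 : σ' 2 = Groth.Agent.Lib.Helper6.Aff.starPos b x₁ x₂ x₃ 1 3 2 := hσ' 2
      have e3 : σ' 3 = Groth.Agent.Lib.Helper6.Aff.starPos b x₁ x₂ x₃ 1 3 0 := hσ' 3
      have e4 : σ' 4 = Groth.Agent.Lib.Helper6.Aff.starPos b x₁ x₂ x₃ 1 3 5 := hσ' 4
      have e5 : σ' 5 = Groth.Agent.Lib.Helper6.Aff.starPos b x₁ x₂ x₃ 1 3 6 := hσ' 5
      have e6 : σ' 6 = Groth.Agent.Lib.Helper6.Aff.starPos b x₁ x₂ x₃ 1 3 7 := hσ' 6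
      have e7 : σ' 7 = Groth.Agent.Lib.Helper6.Aff.starPos b x₁ x₂ x₃ 1 3 1 := hσ' 7
      rw [hω₁, hω₂, hω₃] at hwv hav
      refine ⟨σ', d₂, T.w b, Or.inr (Or.inr (Or.inr (Or.inr (Or.inr (Or.inr (Or.inr (⟨?_, ?_, ?_, ?_, ?_, ?_, ?_, ?_, ?_, ?_, ?_, ?_, ?_, ?_, ?_, ?_, ?_, ?_, ?_, ?_, ?_, ?_, ?_, ?_, ?_, ?_, ?_, ?_, ?_, ?_, ?_, ?_, ?_, ?_, ?_, ?_, ?_, ?_, ?_, ?_, ?_, ?_, ?_, ?_, ?_, ?_, ?_, ?_, ?_, ?_, ?_, ?_⟩)))))))⟩
      · rw [e0]; have h := hmv 4 (by norm_num); norm_num at h; linarith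
      · rw [e1]; have h := hmv 3 (by norm_num); norm_num at h; linarith
      · rw [e2]; have h := hmv 2 (by norm_num); norm_num at h; linarith
      · rw [e3]; have h := hmv 0 (by norm_num); norm_num at h; linarith
      · rw [e4]; have h := hmv 5 (by norm_num); norm_num at h; linarith
      · rw [e5]; have h := hmv 6 (by norm_num); norm_num at h; linarith
      · rw [e6]; have h := hmv 7 (by norm_num); norm_num at h; linarith
      · rw [e7]; have h := hmv 1 (by norm_num); norm_num at h; linarith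
      · rw [e0]; have h := hwv 4 (by norm_num); norm_num at h; linarith
      · rw [e1]; have h := hwv 3 (by norm_num); norm_num at h; linarith
      · rw [e2]; have h := hwv 2 (by norm_num); norm_num at h; linarith
      · rw [e3]; have h := hwv 0 (by norm_num); norm_num at h; linarith
      · rw [e4]; have h := hwv 5 (by norm_num); norm_num at h; linarith
      · rw [e5]; have h := hwv 6 (by norm_num); norm_num at h; linarith
      · rw [e6]; have h := hwv 7 (by norm_num); norm_num at h; linarith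
      · rw [e7]; have h := hwv 1 (by norm_num); norm_num at h; linarith
      · rw [e0, hd]; have h := hwv 4 (by norm_num); norm_num at h; linarith
      · rw [e0, e1, Groth.Agent.Lib.Helper6.Aff.a_symm T]; have h := hav 3 4 (by norm_num) (by norm_num); norm_num at h; linarith
      · rw [e0, e2, Groth.Agent.Lib.Helper6.Aff.a_symm T]; have h := hav 2 4 (by norm_num) (by norm_num); norm_num at h; linarith
      · rw [e0, e3, Groth.Agent.Lib.Helper6.Aff.a_symm T]; have h := hav 0 4 (by norm_num) (by norm_num); norm_num at h; linarith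
      · rw [e0, e4]; have h := hav 4 5 (by norm_num) (by norm_num); norm_num at h; linarith
      · rw [e0, e5]; have h := hav 4 6 (by norm_num) (by norm_num); norm_num at h; linarith
      · rw [e0, e6]; have h := hav 4 7 (by norm_num) (by norm_num); norm_num at h; linarith
      · rw [e0, e7, Groth.Agent.Lib.Helper6.Aff.a_symm T]; have h := hav 1 4 (by norm_num) (by norm_num); norm_num at h; linarith
      · rw [e1, hd]; have h := hwv 3 (by norm_num); norm_num at h; linarith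
      · rw [e1, e2, Groth.Agent.Lib.Helper6.Aff.a_symm T]; have h := hav 2 3 (by norm_num) (by norm_num); norm_num at h; linarith
      · rw [e1, e3, Groth.Agent.Lib.Helper6.Aff.a_symm T]; have h := hav 0 3 (by norm_num) (by norm_num); norm_num at h; linarith
      · rw [e1, e4]; have h := hav 3 5 (by norm_num) (by norm_num); norm_num at h; linarith
      · rw [e1, e5]; have h := hav 3 6 (by norm_num) (by norm_num); norm_num at h; linarith
      · rw [e1, e6]; have h := hav 3 7 (by norm_num) (by norm_num); norm_num at h; linarith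
      · rw [e1, e7, Groth.Agent.Lib.Helper6.Aff.a_symm T]; have h := hav 1 3 (by norm_num) (by norm_num); norm_num at h; linarith
      · rw [e2, hd]; have h := hwv 2 (by norm_num); norm_num at h; linarith
      · rw [e2, e3, Groth.Agent.Lib.Helper6.Aff.a_symm T]; have h := hav 0 2 (by norm_num) (by norm_num); norm_num at h; linarith
      · rw [e2, e4]; have h := hav 2 5 (by norm_num) (by norm_num); norm_num at h; linarith
      · rw [e2, e5]; have h := hav 2 6 (by norm_num) (by norm_num); norm_num at h; linarith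
      · rw [e2, e6]; have h := hav 2 7 (by norm_num) (by norm_num); norm_num at h; linarith
      · rw [e2, e7, Groth.Agent.Lib.Helper6.Aff.a_symm T]; have h := hav 1 2 (by norm_num) (by norm_num); norm_num at h; linarith
      · rw [e3, hd]; have h := hwv 0 (by norm_num); norm_num at h; linarith
      · rw [e3, e4]; have h := hav 0 5 (by norm_num) (by norm_num); norm_num at h; linarith
      · rw [e3, e5]; have h := hav 0 6 (by norm_num) (by norm_num); norm_num at h; linarith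
      · rw [e3, e6]; have h := hav 0 7 (by norm_num) (by norm_num); norm_num at h; linarith
      · rw [e3, e7]; have h := hav 0 1 (by norm_num) (by norm_num); norm_num at h; linarith
      · rw [e4, hd]; have h := hwv 5 (by norm_num); norm_num at h; linarith
      · rw [e4, e5]; have h := hav 5 6 (by norm_num) (by norm_num); norm_num at h; linarith
      · rw [e4, e6]; have h := hav 5 7 (by norm_num) (by norm_num); norm_num at h; linarith
      · rw [e4, e7, Groth.Agent.Lib.Helper6.Aff.a_symm T]; have h := hav 1 5 (by norm_num) (by norm_num); norm_num at h; linarith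
      · rw [e5, hd]; have h := hwv 6 (by norm_num); norm_num at h; linarith
      · rw [e5, e6]; have h := hav 6 7 (by norm_num) (by norm_num); norm_num at h; linarith
      · rw [e5, e7, Groth.Agent.Lib.Helper6.Aff.a_symm T]; have h := hav 1 6 (by norm_num) (by norm_num); norm_num at h; linarith
      · rw [e6, hd]; have h := hwv 7 (by norm_num); norm_num at h; linarith
      · rw [e6, e7, Groth.Agent.Lib.Helper6.Aff.a_symm T]; have h := hav 1 7 (by norm_num) (by norm_num); norm_num at h; linarith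
      · rw [e7, hd]; have h := hwv 1 (by norm_num); norm_num at h; linarith
    · exfalso; omega
    · exfalso; omega
    · exfalso; omega

end Groth.Agent.S7369
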