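import Groth.Statements.S7379
import Groth.Agent.Lib.Helper4.LimIdeal
import Groth.Agent.Lib.Helper28.IdealExt2

set_option autoImplicit false
universe u
open CategoryTheory AlgebraicGeometry
open Lim

namespace Groth.Agent.S7379

/-- Let `ι : X → Y` be a closed immersion with `Y` quasi-compact and quasi-separated. Then, in the
category of schemes over `Y`, `X` is the limit of a nonempty directed inverse system whose objects
`X_i → Y` are closed immersions of finite presentation. -/
theorem result {X Y : Scheme.{u}} (ι : X ⟶ Y)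
    [IsClosedImmersion ι] [CompactSpace Y] [QuasiSeparatedSpace Y] :
    ∃ (I : Type u) (_ : Preorder I) (_ : IsDirected I (fun a b => a ≤ b)) (_ : Nonempty I)
      (D : Iᵒᵖ ⥤ Over Y) (c : Limits.Cone D) (_ : Limits.IsLimit c),
      (∀ i, IsClosedImmersion (D.obj i).hom ∧ LocallyOfFinitePresentation (D.obj i).hom) ∧
      Nonempty (c.pt ≅ Over.mk ι) := by
  classical
  let I : Type u := {J : Y.IdealSheafData // BlowUp.IsFiniteTypeIdeal J ∧ J ≤ ι.ker}
  have hdir : IsDirected I (fun a b => a ≤ b) := ⟨fun a b =>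
    ⟨⟨a.1 ⊔ b.1, Groth.Agent.Helper28.AmbProd.isFiniteTypeIdeal_sup _ _ a.2.1 b.2.1,
      sup_le a.2.2 b.2.2⟩, (le_sup_left : a.1 ≤ a.1 ⊔ b.1), (le_sup_right : b.1 ≤ a.1 ⊔ b.1)⟩⟩
  have hne : Nonempty I := ⟨⟨⊥, Groth.Agent.Helper28.IdealExt.isFiniteTypeIdeal_bot, bot_le⟩⟩
  let V : I ⥤ Y.IdealSheafData := Monotone.functor (f := fun J : I => J.1) (fun _ _ h => h)
  let D : Iᵒᵖ ⥤ Over Y := V.op ⋙ Scheme.IdealSheafData.subschemeFunctor Y
  have hmono : ∀ i : Iᵒᵖ, Mono (D.obj i).hom := fun i =>
    (inferInstance : Mono (i.unop.1.subschemeι))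
  have hext : ∀ {A B : Over Y} [Mono B.hom] (f g : A ⟶ B), f = g := by
    intro A B _ f g
    apply Over.OverMorphism.ext
    rw [← cancel_mono B.hom, Over.w f, Over.w g]
  let l : ∀ J : I, X ⟶ J.1.subscheme := fun J => IsClosedImmersion.lift J.1.subschemeι ι
    (by rw [Scheme.IdealSheafData.ker_subschemeι]; exact J.2.2)
  have hl : ∀ J : I, l J ≫ J.1.subschemeι = ι := fun J => IsClosedImmersion.lift_fac _ _ _
  let c : Limits.Cone D :=
    { pt := Over.mk ι
      π :=
        { app := fun i =>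
            (Over.homMk (l i.unop) (hl i.unop) : Over.mk ι ⟶ Over.mk i.unop.1.subschemeι)
          naturality := fun i j a => by
            haveI := hmono j
            exact hext _ _ } }
  have hlift : ∀ s : Limits.Cone D, ι.ker ≤ s.pt.hom.ker := by
    intro s
    rw [Scheme.IdealSheafData.le_def]
    intro A r hr
    obtain ⟨J, hJft, hJle, hrJ⟩ := Groth.Agent.Helper28.IdealExt.exists_ft_le_mem ι.ker A r hr
    have p := s.π.app (Opposite.op (⟨J, hJft, hJle⟩ : I))
    have hw : p.left ≫ J.subschemeι = s.pt.hom := Over.w p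
    have h1 : J ≤ s.pt.hom.ker := by
      rw [← hw]
      conv_lhs => rw [← Scheme.IdealSheafData.ker_subschemeι J]
      exact Scheme.Hom.le_ker_comp _ _
    exact (Scheme.IdealSheafData.le_def.1 h1 A) hrJ
  haveI : Mono (c.pt.hom) := (inferInstance : Mono ι)
  let hc : Limits.IsLimit c :=
    { lift := fun s => Over.homMk (IsClosedImmersion.lift ι s.pt.hom (hlift s))
        (IsClosedImmersion.lift_fac _ _ _)
      fac := fun s j => by
        haveI := hmono j
        exact hext _ _
      uniq := fun s m _ => hext _ _ }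
  refine ⟨I, inferInstance, hdir, hne, D, c, hc, ?_, ⟨Iso.refl _⟩⟩
  intro i
  refine ⟨(inferInstance : IsClosedImmersion (i.unop.1.subschemeι)), ?_⟩
  refine Groth.Agent.Helper4.LimIdeal.lfp_of_ker_fg (i.unop.1.subschemeι) ?_
  intro U
  rw [Scheme.IdealSheafData.ker_subschemeι]
  exact i.unop.2.1 U

end Groth.Agent.S7379
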