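import Groth.Statements.S7385
import Groth.Agent.Lib.Helper2.GenericPts
-- import your own Groth.Agent.* helpers here

set_option autoImplicit false
universe u
open CategoryTheory AlgebraicGeometry
open Mor

namespace Groth.Agent.S7385

section
open CategoryTheory AlgebraicGeometry TopologicalSpace Limits

theorem main (X : Scheme.{u}) [QuasiSeparatedSpace X] {n : ℕ}
    (η : Fin n → X) (hη : ∀ i, closure ({η i} : Set X) ∈ irreducibleComponents (X : Type u))
    (hinj : Function.Injective η) :
    ∃ U : Fin n → X.Opens, (∀ i, IsAffineOpen (U i) ∧ η i ∈ U i) ∧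
      (∀ i j, i ≠ j → Disjoint (U i) (U j)) ∧ IsAffineOpen (⨆ i, U i) := by
  classical
  by_cases hn : n = 0
  · subst hn
    refine ⟨fun _ => ⊥, fun i => i.elim0, fun i => i.elim0, ?_⟩
    simp only [iSup_bot]
    exact isAffineOpen_bot X
  have h0 : 0 < n := Nat.pos_of_ne_zero hn
  obtain ⟨V, hV, -, hT⟩ := Groth.Agent.Helper2.GenericPts.exists_affine_of_finset (η ⟨0, h0⟩)
    (Finset.univ.image η) (by
      intro y hy
      obtain ⟨i, -, rfl⟩ := Finset.mem_image.mp hy
      exact hη i)
  have hηV : ∀ i, η i ∈ V := fun i => hT _ (Finset.mem_image.mpr ⟨i, Finset.mem_univ _, rfl⟩)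
  let p : Fin n → PrimeSpectrum Γ(X, V) := fun i => hV.primeIdealOf ⟨η i, hηV i⟩
  have hpη : ∀ i, hV.fromSpec (p i) = η i := fun i => hV.fromSpec_primeIdealOf ⟨η i, hηV i⟩
  have hp : ∀ i, (p i).asIdeal ∈ minimalPrimes Γ(X, V) := by
    intro i
    rw [← PrimeSpectrum.stableUnderGeneralization_singleton]
    intro a b hba ha
    rw [Set.mem_singleton_iff] at ha ⊢
    have ha' : a = p i := ha
    rw [ha'] at hba
    have h1 : hV.fromSpec b ⤳ hV.fromSpec (p i) := hba.map hV.fromSpec.continuous
    rw [hpη] at h1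
    have h2 := Groth.Agent.Helper2.GenericPts.eq_of_specializes_of_mem_irreducibleComponents
      (hη i) h1
    rw [← hpη] at h2
    exact hV.fromSpec.isOpenEmbedding.injective h2
  have hpinj : Function.Injective p := by
    intro i j hij
    apply hinj
    rw [← hpη i, ← hpη j, hij]
  obtain ⟨f, hf1, hf2⟩ :=
    Groth.Agent.Helper2.GenericPts.exists_pairwise_disjoint_basicOpen p hp hpinj
  have hdisj : ∀ i j, i ≠ j → Disjoint (X.basicOpen (f i)) (X.basicOpen (f j)) := by
    intro i j hij
    rw [← hV.fromSpec_image_basicOpen, ← hV.fromSpec_image_basicOpen, disjoint_iff_inf_le]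
    rintro _ ⟨⟨q, hq, rfl⟩, ⟨q', hq', hqq'⟩⟩
    have : q' = q := hV.fromSpec.isOpenEmbedding.injective hqq'
    subst this
    exact (Set.disjoint_left.mp (hf2 i j hij) hq hq').elim
  refine ⟨fun i => X.basicOpen (f i), ?_, hdisj, ?_⟩
  · intro i
    refine ⟨hV.basicOpen (f i), ?_⟩
    rw [← hpη i]
    have : p i ∈ hV.fromSpec ⁻¹ᵁ X.basicOpen (f i) := by
      rw [hV.fromSpec_preimage_basicOpen]
      exact hf1 i
    exact this
  · have := Groth.Agent.Helper2.GenericPts.isAffineOpen_biSup_of_pairwise_disjoint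
      (Finset.univ : Finset (Fin n)) (fun i => X.basicOpen (f i))
      (fun i _ => hV.basicOpen (f i)) (fun i _ j _ hij => hdisj i j hij)
    simpa using this

end

/-- Let `X` be a quasi-separated scheme and `η_1, …, η_n` pairwise distinct points, each the generic
point of an irreducible component of `X`. Then there are affine open neighbourhoods `U_i ∋ η_i`
which are pairwise disjoint, and their union is an affine open containing all the `η_i`. -/
theorem result (X : Scheme.{u}) [QuasiSeparatedSpace X] {n : ℕ}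
    (η : Fin n → X) (hη : ∀ i, closure ({η i} : Set X) ∈ irreducibleComponents (X : Type u))
    (hinj : Function.Injective η) :
    ∃ U : Fin n → X.Opens, (∀ i, IsAffineOpen (U i) ∧ η i ∈ U i) ∧
      (∀ i j, i ≠ j → Disjoint (U i) (U j)) ∧ IsAffineOpen (⨆ i, U i) := by
  exact Groth.Agent.S7385.main X η hη hinj

end Groth.Agent.S7385
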