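import Groth.Statements.S7386
import Groth.Agent.Lib.Helper2.GenericPts
-- import your own Groth.Agent.* helpers here

set_option autoImplicit false
universe u
open CategoryTheory AlgebraicGeometry
open Mor

namespace Groth.Agent.S7386

section
open CategoryTheory AlgebraicGeometry TopologicalSpace Limits

theorem main (X : Scheme.{u}) [QuasiSeparatedSpace X] {n : ℕ}
    (η : Fin n → X) (hη : ∀ i, closure ({η i} : Set X) ∈ irreducibleComponents (X : Type u)) (x : X) :
    ∃ U : X.Opens, IsAffineOpen U ∧ x ∈ U ∧ ∀ i, η i ∈ U := by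
  classical
  obtain ⟨U, hU, hxU, hT⟩ := Groth.Agent.Helper2.GenericPts.exists_affine_of_finset x
    (Finset.univ.image η) (by
      intro y hy
      obtain ⟨i, -, rfl⟩ := Finset.mem_image.mp hy
      exact hη i)
  exact ⟨U, hU, hxU, fun i => hT _ (Finset.mem_image.mpr ⟨i, Finset.mem_univ _, rfl⟩)⟩

end

/-- Let `X` be a quasi-separated scheme, `η_1, …, η_n` generic points of irreducible components of `X`
and `x` any point of `X`. Then some affine open of `X` contains `x` and all the `η_i`. -/
theorem result (X : Scheme.{u}) [QuasiSeparatedSpace X] {n : ℕ}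
    (η : Fin n → X) (hη : ∀ i, closure ({η i} : Set X) ∈ irreducibleComponents (X : Type u)) (x : X) :
    ∃ U : X.Opens, IsAffineOpen U ∧ x ∈ U ∧ ∀ i, η i ∈ U := by
  exact Groth.Agent.S7386.main X η hη x

end Groth.Agent.S7386
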