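import Groth.Statements.S7387
import Groth.Agent.Lib.Helper2.PrimeAvoid
import Groth.Agent.Lib.Helper2.DimZero
import Groth.Agent.S10953
-- import your own Groth.Agent.* helpers here

set_option autoImplicit false
universe u
open CategoryTheory AlgebraicGeometry
open Mor

namespace Groth.Agent.S7387

section
open CategoryTheory AlgebraicGeometry TopologicalSpace Limits

/-- If any two points of an open `V` of `X` lie in an affine open of `X` contained in `V`,
then `V` is separated. -/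
theorem isSeparated_of_pairs {X : Scheme.{u}} (V : X.Opens)
    (h : ∀ x ∈ V, ∀ y ∈ V, ∃ A : X.Opens, IsAffineOpen A ∧ A ≤ V ∧ x ∈ A ∧ y ∈ A) :
    (V : Scheme.{u}).IsSeparated := by
  refine ⟨Groth.Agent.S10953.main (terminal.from (V : Scheme.{u})) (fun x y _ => ?_)⟩
  obtain ⟨A, hA, hAV, hxA, hyA⟩ := h x.1 x.2 y.1 y.2
  refine ⟨V.ι ⁻¹ᵁ A, ?_, hxA, hyA⟩
  apply hA.preimage_of_isOpenImmersion
  rw [Scheme.Opens.opensRange_ι]
  exact hAV

theorem key {X : Scheme.{u}} (s : Finset X.affineOpens) :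
    ∃ V : X.Opens, (∀ U ∈ s, (U.1 : Set X) ⊆ closure (V : Set X)) ∧
      ∀ x ∈ V, ∀ y ∈ V, ∃ A : X.Opens, IsAffineOpen A ∧ A ≤ V ∧ x ∈ A ∧ y ∈ A := by
  classical
  induction s using Finset.induction_on with
  | empty => exact ⟨⊥, by simp, fun x hx => hx.elim⟩
  | insert U s _ ih =>
    obtain ⟨V, hV1, hV2⟩ := ih
    let W : X.Opens := U.1 ⊓ ⟨(closure (V : Set X))ᶜ, isClosed_closure.isOpen_compl⟩
    have hVW : Disjoint V W := by
      rw [disjoint_iff_inf_le]
      rintro x ⟨hxV, -, hxW⟩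
      exact (hxW (subset_closure hxV)).elim
    refine ⟨V ⊔ W, ?_, ?_⟩
    · intro U' hU'
      rcases Finset.mem_insert.mp hU' with rfl | hU'
      · intro x hx
        by_cases hxc : x ∈ closure (V : Set X)
        · exact closure_mono (show (V : Set X) ⊆ ((V ⊔ W : X.Opens) : Set X) from
            fun y hy => Or.inl hy) hxc
        · exact subset_closure (Or.inr ⟨hx, hxc⟩)
      · exact (hV1 U' hU').trans (closure_mono (fun y hy => Or.inl hy))
    · have hWW : ∀ x ∈ W, ∀ y ∈ W, ∃ A : X.Opens, IsAffineOpen A ∧ A ≤ W ∧ x ∈ A ∧ y ∈ A := by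
        intro x hx y hy
        obtain ⟨a, ha1, ha2⟩ := Groth.Agent.Helper2.PrimeAvoid.exists_basicOpen_of_finite
          (show IsAffineOpen U.1 from U.2) W {x, y} (by
            intro z hz
            rcases Finset.mem_insert.mp hz with rfl | hz
            · exact ⟨hx.1, hx⟩
            · rw [Finset.mem_singleton] at hz
              subst hz
              exact ⟨hy.1, hy⟩)
        exact ⟨X.basicOpen a, (show IsAffineOpen U.1 from U.2).basicOpen a, ha2,
          ha1 x (by simp), ha1 y (by simp)⟩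
      have hVWpair : ∀ x ∈ V, ∀ y ∈ W, ∃ A : X.Opens, IsAffineOpen A ∧ A ≤ V ⊔ W ∧ x ∈ A ∧ y ∈ A := by
        intro x hx y hy
        obtain ⟨A, hA, hAV, hxA, -⟩ := hV2 x hx x hx
        obtain ⟨B, hB, hBW, hyB, -⟩ := hWW y hy y hy
        have hAB : Disjoint A B := hVW.mono hAV hBW
        exact ⟨A ⊔ B, Groth.Agent.Helper2.DimZero.isAffineOpen_sup_of_disjoint hA hB hAB,
          sup_le_sup hAV hBW, Or.inl hxA, Or.inr hyB⟩
      rintro x (hx | hx) y (hy | hy)
      · obtain ⟨A, hA, hAV, hxA, hyA⟩ := hV2 x hx y hy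
        exact ⟨A, hA, hAV.trans le_sup_left, hxA, hyA⟩
      · exact hVWpair x hx y hy
      · obtain ⟨A, hA, hAV, hyA, hxA⟩ := hVWpair y hy x hx
        exact ⟨A, hA, hAV, hxA, hyA⟩
      · obtain ⟨A, hA, hAW, hxA, hyA⟩ := hWW x hx y hy
        exact ⟨A, hA, hAW.trans le_sup_right, hxA, hyA⟩

theorem main (X : Scheme.{u}) [CompactSpace X] :
    ∃ V : X.Opens, Dense (V : Set X) ∧ (V : Scheme.{u}).IsSeparated := by
  obtain ⟨t, ht⟩ := isCompact_univ.elim_finite_subcover (fun U : X.affineOpens => (U.1 : Set X))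
    (fun U => U.1.isOpen) (by
      intro x _
      obtain ⟨_, ⟨U, hU, rfl⟩, hxU, -⟩ :=
        X.isBasis_affineOpens.exists_subset_of_mem_open (Set.mem_univ x) isOpen_univ
      exact Set.mem_iUnion.mpr ⟨⟨U, hU⟩, hxU⟩)
  obtain ⟨V, hV1, hV2⟩ := key t
  refine ⟨V, ?_, isSeparated_of_pairs V hV2⟩
  intro x
  obtain ⟨U, hU, hxU⟩ := Set.mem_iUnion₂.mp (ht (Set.mem_univ x))
  exact hV1 U hU hxU

end

/-- A quasi-compact scheme has a dense open subscheme which is separated. -/
theorem result (X : Scheme.{u}) [CompactSpace X] :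
    ∃ V : X.Opens, Dense (V : Set X) ∧ (V : Scheme.{u}).IsSeparated := by
  exact Groth.Agent.S7387.main X

end Groth.Agent.S7387
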