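import Groth.Statements.S7389
import Groth.Agent.Lib.Helper2.PrimeAvoid
-- import your own Groth.Agent.* helpers here

set_option autoImplicit false
universe u
open CategoryTheory AlgebraicGeometry
open Mor

namespace Groth.Agent.S7389

section
open CategoryTheory AlgebraicGeometry TopologicalSpace Limits

/-- For an immersion `ι : X ⟶ Y` and an open `D ≤ ι.coborderRange`, the restriction
`ι ∣_ D` is a closed immersion. -/
theorem isClosedImmersion_restrict {X Y : Scheme.{u}} (ι : X ⟶ Y) [IsImmersion ι]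
    (D : Y.Opens) (hD : D ≤ ι.coborderRange) : IsClosedImmersion (ι ∣_ D) := by
  refine .of_isPreimmersion _ ?_
  have : Set.range (ι ∣_ D) = Subtype.val ⁻¹' (closure (Set.range ι)) := by
    ext y
    constructor
    · rintro ⟨x, rfl⟩
      change ((ι ∣_ D) x).1 ∈ closure (Set.range ι)
      rw [morphismRestrict_base_coe]
      exact subset_closure ⟨x.1, rfl⟩
    · intro hy
      have hy' : y.1 ∈ closure (Set.range ι) := hy
      have h1 : y.1 ∈ coborder (Set.range ι) := hD y.2
      have h2 : y.1 ∈ Set.range ι := by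
        by_contra hn
        exact h1 ⟨hy', hn⟩
      obtain ⟨x, hx⟩ := h2
      have hxD : x ∈ ι ⁻¹ᵁ D := by
        change ι x ∈ D
        rw [hx]
        exact y.2
      refine ⟨⟨x, hxD⟩, ?_⟩
      apply Subtype.ext
      rw [morphismRestrict_base_coe]
      exact hx
  rw [this]
  exact isClosed_closure.preimage continuous_subtype_val

theorem main {X Y : Scheme.{u}} [IsAffine Y] (ι : X ⟶ Y)
    [IsImmersion ι] (E : Set X) (hE : E.Finite) :
    ∃ U : X.Opens, IsAffineOpen U ∧ E ⊆ U := by
  classical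
  obtain ⟨a, ha1, ha2⟩ := Groth.Agent.Helper2.PrimeAvoid.exists_basicOpen_of_finite
    (isAffineOpen_top Y) ι.coborderRange (hE.toFinset.image ι) (by
      intro y hy
      obtain ⟨x, -, rfl⟩ := Finset.mem_image.mp hy
      exact ⟨trivial, subset_coborder ⟨x, rfl⟩⟩)
  haveI := isClosedImmersion_restrict ι (Y.basicOpen a) ha2
  haveI : IsAffine (Y.basicOpen a : Scheme.{u}) := (isAffineOpen_top Y).basicOpen a
  have haff : IsAffine (ι ⁻¹ᵁ Y.basicOpen a : Scheme.{u}) :=
    isAffine_of_isAffineHom (ι ∣_ Y.basicOpen a)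
  refine ⟨ι ⁻¹ᵁ Y.basicOpen a, haff, ?_⟩
  intro x hx
  exact ha1 (ι x) (Finset.mem_image.mpr ⟨x, hE.mem_toFinset.mpr hx, rfl⟩)

end

/-- Let `X` be a scheme admitting an immersion into an affine scheme. Then any finite set of points of
`X` is contained in an affine open of `X`. -/
theorem result {X Y : Scheme.{u}} [IsAffine Y] (ι : X ⟶ Y)
    [IsImmersion ι] (E : Set X) (hE : E.Finite) :
    ∃ U : X.Opens, IsAffineOpen U ∧ E ⊆ U := by
  exact Groth.Agent.S7389.main ι E hE

end Groth.Agent.S7389
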