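import Groth.Statements.S7388
import Mathlib.AlgebraicGeometry.ProjectiveSpectrum.Basic
import Groth.Agent.Lib.Helper2.GradedAvoid
import Groth.Agent.S7389
-- import your own Groth.Agent.* helpers here

set_option autoImplicit false
universe u
open CategoryTheory AlgebraicGeometry
open Mor

namespace Groth.Agent.S7388

section
open CategoryTheory AlgebraicGeometry TopologicalSpace Limits

theorem main {R A : Type u} [CommRing R] [CommRing A] [Algebra R A]
    (𝒜 : ℕ → Submodule R A) [GradedAlgebra 𝒜] {X : Scheme.{u}} (ι : X ⟶ Proj 𝒜) [IsImmersion ι]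
    (E : Set X) (hE : E.Finite) :
    ∃ U : X.Opens, IsAffineOpen U ∧ E ⊆ U := by
  classical
  let W : (Proj 𝒜).Opens := ι.coborderRange
  let Wc : Set (ProjectiveSpectrum 𝒜) := (W : Set (Proj 𝒜))ᶜ
  have hWc : ProjectiveSpectrum.zeroLocus 𝒜 (ProjectiveSpectrum.vanishingIdeal Wc : Set A) = Wc := by
    rw [ProjectiveSpectrum.zeroLocus_vanishingIdeal_eq_closure]
    exact (W.isOpen.isClosed_compl).closure_eq
  let I₀ : Ideal A := (ProjectiveSpectrum.vanishingIdeal Wc).toIdeal
  let I : Ideal A := I₀ * (HomogeneousIdeal.irrelevant 𝒜).toIdeal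
  have hIh : I.IsHomogeneous 𝒜 :=
    (ProjectiveSpectrum.vanishingIdeal Wc).isHomogeneous.mul (HomogeneousIdeal.irrelevant 𝒜).isHomogeneous
  have hnot : ∀ y : ProjectiveSpectrum 𝒜, y ∈ (W : Set (Proj 𝒜)) →
      ¬ I ≤ y.asHomogeneousIdeal.toIdeal := by
    intro y hy hle
    rcases (Ideal.IsPrime.mul_le y.isPrime).mp hle with h1 | h1
    · have : y ∈ ProjectiveSpectrum.zeroLocus 𝒜
          (ProjectiveSpectrum.vanishingIdeal Wc : Set A) := h1
      rw [hWc] at this
      exact this hy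
    · exact y.not_irrelevant_le h1
  obtain ⟨f, d, hd, hf, hfI, hfT⟩ := Groth.Agent.Helper2.GradedAvoid.graded_prime_avoidance 𝒜
    (hE.toFinset.image (fun x => ((ι x : Proj 𝒜) : ProjectiveSpectrum 𝒜).asHomogeneousIdeal.toIdeal))
    (by
      intro q hq
      obtain ⟨x, -, rfl⟩ := Finset.mem_image.mp hq
      exact ⟨ProjectiveSpectrum.isPrime _, HomogeneousIdeal.isHomogeneous _⟩)
    I hIh (Ideal.mul_le_right : I₀ * (HomogeneousIdeal.irrelevant 𝒜).toIdeal ≤ _) (by
      intro q hq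
      obtain ⟨x, -, rfl⟩ := Finset.mem_image.mp hq
      exact hnot _ (subset_coborder ⟨x, rfl⟩))
  let D : (Proj 𝒜).Opens := Proj.basicOpen 𝒜 f
  have hDaff : IsAffineOpen D := Proj.isAffineOpen_basicOpen 𝒜 f hf hd
  have hDW : D ≤ W := by
    intro y hy
    by_contra hyW
    have h1 : y ∈ Wc := hyW
    rw [← hWc] at h1
    have h2 : f ∈ I₀ := (Ideal.mul_le_left : I₀ * (HomogeneousIdeal.irrelevant 𝒜).toIdeal ≤ I₀) hfI
    exact hy (h1 h2)
  haveI := Groth.Agent.S7389.isClosedImmersion_restrict ι D hDW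
  haveI : IsAffine (D : Scheme.{u}) := hDaff
  have haff : IsAffine (ι ⁻¹ᵁ D : Scheme.{u}) := isAffine_of_isAffineHom (ι ∣_ D)
  refine ⟨ι ⁻¹ᵁ D, haff, ?_⟩
  intro x hx
  exact hfT _ (Finset.mem_image.mpr ⟨x, hE.mem_toFinset.mpr hx, rfl⟩)

end

/-- Let `X` be a scheme admitting an immersion into `Proj S` for some graded ring `S`. Then any finite
set of points of `X` is contained in an affine open of `X`. -/
theorem result {R A : Type u} [CommRing R] [CommRing A] [Algebra R A]
    (𝒜 : ℕ → Submodule R A) [GradedAlgebra 𝒜] {X : Scheme.{u}} (ι : X ⟶ Proj 𝒜) [IsImmersion ι]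
    (E : Set X) (hE : E.Finite) :
    ∃ U : X.Opens, IsAffineOpen U ∧ E ⊆ U := by
  exact Groth.Agent.S7388.main 𝒜 ι E hE

end Groth.Agent.S7388
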