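import Groth.Statements.S7397
import Mathlib
-- import your own Groth.Agent.* helpers here

set_option autoImplicit false
universe u
open Mor

namespace Groth.Agent.S7397

/-- Let `A ⊆ B` be a ring extension and `b ∈ B`, `b ∉ A`, with `b^n, b^(n+1) ∈ A` for some `n ≥ 2`. Then
some `b' ∈ B` with `b' ∉ A` has `b'^2 ∈ A` and `b'^3 ∈ A`. -/
theorem result {B : Type u} [CommRing B] (A : Subring B) (b : B) (hb : b ∉ A)
    (n : ℕ) (hn : 2 ≤ n) (h1 : b ^ n ∈ A) (h2 : b ^ (n + 1) ∈ A) :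
    ∃ b' : B, b' ∉ A ∧ b' ^ 2 ∈ A ∧ b' ^ 3 ∈ A := by
  have hbig : ∀ m, n * n ≤ m → b ^ m ∈ A := by
    intro m hm
    have hn0 : 0 < n := by omega
    have hr : m % n < n := Nat.mod_lt _ hn0
    have hq : n ≤ m / n := by
      rw [Nat.le_div_iff_mul_le hn0]; exact hm
    have hdecomp : m = (m / n - m % n) * n + (m % n) * (n + 1) := by
      have h1 := Nat.div_add_mod m n
      have h2 : m % n ≤ m / n := by omega
      obtain ⟨k, hk⟩ := Nat.exists_eq_add_of_le h2
      rw [hk, Nat.add_sub_cancel_left]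
      rw [hk] at h1
      linarith [h1, mul_comm n (m % n + k), mul_comm k n, mul_add (m % n) n 1, add_mul (m % n) k n]
    rw [hdecomp, pow_add, pow_mul', pow_mul' b (m % n)]
    exact A.mul_mem (A.pow_mem h1 _) (A.pow_mem h2 _)
  classical
  have hex : ∃ m, m ≤ n * n ∧ 0 < m ∧ b ^ m ∉ A := ⟨1, by nlinarith, one_pos, by simpa using hb⟩
  let m := Nat.findGreatest (fun m => 0 < m ∧ b ^ m ∉ A) (n * n)
  have hm : 0 < m ∧ b ^ m ∉ A := by
    obtain ⟨k, hk1, hk2, hk3⟩ := hex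
    exact Nat.findGreatest_spec (P := fun m => 0 < m ∧ b ^ m ∉ A) hk1 ⟨hk2, hk3⟩
  have hmax : ∀ k, m < k → b ^ k ∈ A := by
    intro k hk
    by_cases hkn : k ≤ n * n
    · by_contra hc
      have := Nat.findGreatest_is_greatest (P := fun m => 0 < m ∧ b ^ m ∉ A) hk hkn
      exact this ⟨by omega, hc⟩
    · exact hbig k (by omega)
  refine ⟨b ^ m, hm.2, ?_, ?_⟩
  · rw [← pow_mul]; exact hmax _ (by omega)
  · rw [← pow_mul]; exact hmax _ (by omega)

end Groth.Agent.S7397
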