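import Groth.Statements.S7398
import Groth.Agent.Lib.Helper11.KeyLemma

set_option autoImplicit false
universe u
open CategoryTheory AlgebraicGeometry
open Mor

namespace Groth.Agent.S7398

/-- Let `A ⊆ B` be a ring extension with `A ≠ B` such that `Spec B → Spec A` is a universal
homeomorphism whose residue field extensions are all trivial. Then some `b ∈ B` with `b ∉ A` has
`b^2 ∈ A` and `b^3 ∈ A`. (Here `A → B` is an injective, non-surjective ring map and membership in
`A` means membership in its image.) -/
theorem result {A B : Type u} [CommRing A] [CommRing B]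
    (φ : A →+* B) (hinj : Function.Injective φ) (hns : ¬ Function.Surjective φ)
    (hU : FlatMor.IsUnivHomeo (Spec.map (CommRingCat.ofHom φ)))
    (hres : ∀ x : Spec (CommRingCat.of B), Function.Surjective ((Spec.map (CommRingCat.ofHom φ)).residueFieldMap x)) :
    ∃ b : B, b ∉ φ.range ∧ b ^ 2 ∈ φ.range ∧ b ^ 3 ∈ φ.range := by
  have h1 := (Groth.Agent.Helper11.UH.isUnivHomeo_spec_iff' φ).mp hU
  have h2 := (Groth.Agent.Helper11.UH.rftriv_iff φ).mp hres
  have hne : ∃ b, b ∉ φ.range := by
    by_contra hcon
    push Not at hcon
    exact hns fun b => hcon b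
  exact Groth.Agent.Helper11.UH.KL_sn φ h1 h2 hne

end Groth.Agent.S7398
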