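import Groth.Statements.S7404
import Groth.Agent.Lib.Helper11.UHRing

set_option autoImplicit false
universe u
open CategoryTheory AlgebraicGeometry
open Mor

namespace Groth.Agent.S7404

/-- Let `A → B` be a ring map and `B' ⊆ B` an `A`-subalgebra, with `f : Spec B → Spec A` and `f' : Spec
B' → Spec A` the induced morphisms. Each of the following properties passes from `f` to `f'`: being
a universal homeomorphism; being a universal homeomorphism with trivial residue field extensions;
being universally closed; being both universally closed and universally injective. -/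
theorem result {A B : Type u} [CommRing A] [CommRing B] [Algebra A B]
    (B' : Subalgebra A B) :
    (FlatMor.IsUnivHomeo (Spec.map (CommRingCat.ofHom (algebraMap A B))) →
      FlatMor.IsUnivHomeo (Spec.map (CommRingCat.ofHom (algebraMap A B')))) ∧
    ((FlatMor.IsUnivHomeo (Spec.map (CommRingCat.ofHom (algebraMap A B))) ∧
      ∀ x : Spec (CommRingCat.of B),
        Function.Surjective ((Spec.map (CommRingCat.ofHom (algebraMap A B))).residueFieldMap x)) →
      FlatMor.IsUnivHomeo (Spec.map (CommRingCat.ofHom (algebraMap A B'))) ∧
      ∀ x : Spec (CommRingCat.of B'),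
        Function.Surjective ((Spec.map (CommRingCat.ofHom (algebraMap A B'))).residueFieldMap x)) ∧
    (UniversallyClosed (Spec.map (CommRingCat.ofHom (algebraMap A B))) →
      UniversallyClosed (Spec.map (CommRingCat.ofHom (algebraMap A B')))) ∧
    (UniversallyClosed (Spec.map (CommRingCat.ofHom (algebraMap A B))) →
      UniversallyInjective (Spec.map (CommRingCat.ofHom (algebraMap A B))) →
      UniversallyClosed (Spec.map (CommRingCat.ofHom (algebraMap A B'))) ∧
      UniversallyInjective (Spec.map (CommRingCat.ofHom (algebraMap A B')))) := by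
  have hcomp : B'.val.toRingHom.comp (algebraMap A B') = algebraMap A B := by
    ext a
    rfl
  have hinj : Function.Injective B'.val.toRingHom := Subtype.val_injective
  have hUH : FlatMor.IsUnivHomeo (Spec.map (CommRingCat.ofHom (algebraMap A B))) →
      Groth.Agent.Helper11.UH.UHom (algebraMap A B') := by
    intro h
    have h1 := (Groth.Agent.Helper11.UH.isUnivHomeo_spec_iff' _).mp h
    rw [← hcomp] at h1
    exact Groth.Agent.Helper11.UH.uhom_of_comp _ _ hinj h1
  have hUC : UniversallyClosed (Spec.map (CommRingCat.ofHom (algebraMap A B))) →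
      (algebraMap A B').IsIntegral := by
    intro h
    have h1 := (Groth.Agent.Helper11.UH.universallyClosed_spec_iff _).mp h
    rw [← hcomp] at h1
    exact Groth.Agent.Helper11.UH.isIntegral_of_comp _ _ hinj h1
  refine ⟨fun h => (Groth.Agent.Helper11.UH.isUnivHomeo_spec_iff' _).mpr (hUH h), ?_,
    fun h => (Groth.Agent.Helper11.UH.universallyClosed_spec_iff _).mpr (hUC h), ?_⟩
  · rintro ⟨h, hr⟩
    refine ⟨(Groth.Agent.Helper11.UH.isUnivHomeo_spec_iff' _).mpr (hUH h), ?_⟩
    rw [Groth.Agent.Helper11.UH.rftriv_iff] at hr ⊢
    have h1 := (Groth.Agent.Helper11.UH.isUnivHomeo_spec_iff' _).mp h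
    rw [← hcomp] at h1 hr
    exact Groth.Agent.Helper11.UH.rftriv_of_comp _ _ hinj
      (RingHom.IsIntegral.tower_top _ _ h1.1) hr
  · intro h1 h2
    refine ⟨(Groth.Agent.Helper11.UH.universallyClosed_spec_iff _).mpr (hUC h1), ?_⟩
    rw [Groth.Agent.Helper11.UH.universallyInjective_spec_iff] at h2 ⊢
    have h3 := (Groth.Agent.Helper11.UH.universallyClosed_spec_iff _).mp h1
    rw [← hcomp] at h2 h3
    exact Groth.Agent.Helper11.UH.radicial_of_comp _ _ hinj
      (RingHom.IsIntegral.tower_top _ _ h3) h2

end Groth.Agent.S7404
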