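import Groth.Statements.S7407
import Mathlib
import Groth.Agent.Lib.Helper14.AffSpEquidim
import Groth.Agent.Lib.Helper14.FibreComp
-- import your own Groth.Agent.* helpers here

set_option autoImplicit false
universe u
open CategoryTheory AlgebraicGeometry
open Desc

namespace Groth.Agent.S7407

/-- The transcendence degree of the residue field extension `κ(x)/κ(s)` of a morphism of germs `(X, x) →
(S, s)` is étale local on the source-and-target: for a commutative square with horizontal maps `h' :
U' → V'`, `h : U → V`, étale vertical maps `a : U' → U`, `b : V' → V` and `u' ∈ U'` with `u =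
a(u')`, the transcendence degree of `κ(u)` over `κ(h(u))` equals that of `κ(u')` over `κ(h'(u'))`. -/
theorem result {U U' V V' : Scheme.{u}} (h : U ⟶ V) (h' : U' ⟶ V') (a : U' ⟶ U)
    (b : V' ⟶ V) [Etale a] [Etale b] (comm : h' ≫ b = a ≫ h) (u' : U') :
    @Algebra.trdeg (V.residueField (h (a u'))) (U.residueField (a u')) _ _ (h.residueFieldMap (a u')).hom.toAlgebra =
      @Algebra.trdeg (V'.residueField (h' u')) (U'.residueField u') _ _ (h'.residueFieldMap u').hom.toAlgebra := by
  have h1 := Groth.Agent.Helper14.DimClosure.trdeg_comp h' b u'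
  have h2 := Groth.Agent.Helper14.DimClosure.trdeg_comp a h u'
  have h3 := Groth.Agent.Helper14.FibreComp.trdeg_congr comm u'
  have lqf : ∀ {X Y : Scheme.{u}} (f : X ⟶ Y) [Etale f], LocallyQuasiFinite f := by
    intro X Y f _
    refine ⟨fun {U} hU {V} hV e => ?_⟩
    have h := f.etale_appLE hU hV e
    algebraize [(f.appLE U V e).hom]
    show Algebra.QuasiFinite _ _
    infer_instance
  haveI : LocallyQuasiFinite a := lqf a
  haveI : LocallyQuasiFinite b := lqf b
  have ha : a.QuasiFiniteAt u' := Scheme.Hom.quasiFiniteAt a u'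
  have hb : b.QuasiFiniteAt (h' u') := Scheme.Hom.quasiFiniteAt b (h' u')
  have h4 := Groth.Agent.Helper14.AffSpEquidim.trdeg_eq_zero_of_quasiFiniteAt a u' ha
  have h5 := Groth.Agent.Helper14.AffSpEquidim.trdeg_eq_zero_of_quasiFiniteAt b (h' u') hb
  rw [h5, zero_add] at h1
  rw [h4, add_zero] at h2
  rw [← h1, ← h2, h3]

end Groth.Agent.S7407
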