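import Groth.Statements.S7408
import Mathlib
import Groth.Agent.Lib.Helper14.EtFibSq
import Groth.Agent.Lib.Helper15.SchemeDim
-- import your own Groth.Agent.* helpers here

set_option autoImplicit false
universe u
open CategoryTheory AlgebraicGeometry
open Desc

namespace Groth.Agent.S7408

/-- The local dimension of the fibre at a point is étale local on the source-and-target: for a
commutative square with horizontal maps `h' : U' → V'`, `h : U → V`, étale vertical maps `a : U' →
U`, `b : V' → V` and `u' ∈ U'`, the local dimension at `a(u')` of the fibre of `h` equals the local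
dimension at `u'` of the fibre of `h'`. -/
theorem result {U U' V V' : Scheme.{u}} (h : U ⟶ V) (h' : U' ⟶ V') (a : U' ⟶ U)
    (b : V' ⟶ V) [Etale a] [Etale b] (comm : h' ≫ b = a ≫ h) (u' : U') :
    FlatMor.fibreDimAt h (a u') = FlatMor.fibreDimAt h' u' := by
  have hv : b (h' u') = h (a u') := by
    rw [← Scheme.Hom.comp_apply, comm, Scheme.Hom.comp_apply]
  let φ : h'.fiber (h' u') ⟶ h.fiber (b (h' u')) :=
    Limits.pullback.lift (h'.fiberι (h' u') ≫ a)
      (h'.fiberToSpecResidueField (h' u') ≫ Spec.map (b.residueFieldMap (h' u'))) (by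
        rw [Category.assoc, ← comm, ← Category.assoc, h'.fiber_fac, Category.assoc, Category.assoc,
          Scheme.Hom.SpecMap_residueFieldMap_fromSpecResidueField])
  have hφ1 : φ ≫ h.fiberι (b (h' u')) = h'.fiberι (h' u') ≫ a := Limits.pullback.lift_fst _ _ _
  have hφ2 : φ ≫ h.fiberToSpecResidueField (b (h' u')) =
      h'.fiberToSpecResidueField (h' u') ≫ Spec.map (b.residueFieldMap (h' u')) :=
    Limits.pullback.lift_snd _ _ _
  haveI : Etale φ := Groth.Agent.Helper14.EtFibSq.etale_fiberMap h h' a b comm (h' u') φ hφ1 hφ2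
  have h1 := Groth.Agent.Helper15.localDim_eq_of_etale φ (h'.asFiber u')
  have hz : h.fiberι (b (h' u')) (φ (h'.asFiber u')) = a u' := by
    rw [← Scheme.Hom.comp_apply, hφ1, Scheme.Hom.comp_apply, Scheme.Hom.fiberι_asFiber]
  have key : ∀ (y : V) (hy : y = h (a u')) (z : h.fiber y) (hz : h.fiberι y z = a u'),
      FlatMor.localDim (h.fiber y) z = FlatMor.localDim (h.fiber (h (a u'))) (h.asFiber (a u')) := by
    intro y hy z hz
    subst hy
    congr 1
    apply (h.fiberι (h (a u'))).isEmbedding.injective
    rw [hz, Scheme.Hom.fiberι_asFiber]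
  unfold FlatMor.fibreDimAt
  rw [h1]
  exact (key _ hv _ hz).symm

end Groth.Agent.S7408
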