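import Groth.Statements.S7415
-- import your own Groth.Agent.* helpers here

set_option autoImplicit false
universe u
open CategoryTheory AlgebraicGeometry
open Mor

namespace Groth.Agent.S7415

section
open CategoryTheory AlgebraicGeometry TopologicalSpace

theorem main (X : Scheme.{u}) [AlgebraicGeometry.IsReduced X]
    (hirr : (irreducibleComponents (X : Type u)).Finite) (x : X) : X.IsGermInjectiveAt x := by
  classical
  set S : Set (Set X) := {Z ∈ irreducibleComponents (X : Type u) | x ∉ Z} with hS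
  have hSfin : S.Finite := hirr.subset (fun Z hZ => hZ.1)
  have hclosed : IsClosed (⋃₀ S) := by
    rw [Set.sUnion_eq_biUnion]
    exact hSfin.isClosed_biUnion (fun Z hZ => isClosed_of_mem_irreducibleComponents Z hZ.1)
  let V : X.Opens := ⟨(⋃₀ S)ᶜ, hclosed.isOpen_compl⟩
  have hxV : x ∈ V := by
    change x ∉ ⋃₀ S
    rintro ⟨Z, hZ, hxZ⟩
    exact hZ.2 hxZ
  obtain ⟨_, ⟨U, hU, rfl⟩, hxU, hUV⟩ :=
    X.isBasis_affineOpens.exists_subset_of_mem_open hxV V.isOpen
  refine ⟨⟨U, hxU, hU, ?_⟩⟩
  rw [injective_iff_map_eq_zero]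
  intro s hs
  rw [← basicOpen_eq_bot_iff]
  by_contra hne
  have hne' : (X.basicOpen s : Set X).Nonempty := by
    rw [Set.nonempty_iff_ne_empty]
    intro h0
    apply hne
    ext y
    simp [← SetLike.mem_coe, h0]
  obtain ⟨y, hy⟩ := hne'
  have hyU : y ∈ U := X.basicOpen_le s hy
  -- germ zero
  have hs' : X.presheaf.germ U x hxU s = X.presheaf.germ U x hxU 0 := by rw [hs, map_zero]
  obtain ⟨W, hxW, iU, _, hres⟩ := TopCat.Presheaf.germ_eq X.presheaf x hxU hxU s 0 hs'
  have hWb : W ⊓ X.basicOpen s = ⊥ := by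
    rw [← Scheme.basicOpen_res X s iU.op, hres, map_zero, Scheme.basicOpen_zero]
  -- irreducible component of y
  set Z := irreducibleComponent y with hZdef
  have hZmem : Z ∈ irreducibleComponents (X : Type u) := irreducibleComponent_mem_irreducibleComponents y
  have hyZ : y ∈ Z := mem_irreducibleComponent
  have hxZ : x ∈ Z := by
    by_contra hxZ
    have : y ∈ ⋃₀ S := ⟨Z, ⟨hZmem, hxZ⟩, hyZ⟩
    exact (hUV hyU) this
  have hZirr : IsPreirreducible Z := (isIrreducible_irreducibleComponent (x := y)).2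
  obtain ⟨z, hzZ, hzW, hzb⟩ := hZirr W (X.basicOpen s) W.isOpen (X.basicOpen s).isOpen
    ⟨x, hxZ, hxW⟩ ⟨y, hyZ, hy⟩
  have : z ∈ W ⊓ X.basicOpen s := ⟨hzW, hzb⟩
  rw [hWb] at this
  exact this

end

/-- Let `X` be a reduced scheme with finitely many irreducible components and `x ∈ X`. Then `x` has an
affine open neighbourhood `U` such that `O_X(U) → O_{X,x}` is injective. -/
theorem result (X : Scheme.{u}) [AlgebraicGeometry.IsReduced X]
    (hirr : (irreducibleComponents (X : Type u)).Finite) (x : X) : X.IsGermInjectiveAt x := by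
  exact Groth.Agent.S7415.main X hirr x

end Groth.Agent.S7415
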