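import Groth.Statements.S7416
-- import your own Groth.Agent.* helpers here

set_option autoImplicit false
universe u
open CategoryTheory AlgebraicGeometry
open Mor

namespace Groth.Agent.S7416

section
open CategoryTheory AlgebraicGeometry TopologicalSpace Opposite

theorem main {U V W : Scheme.{u}} [IsAffine U]
    [IsAffine V] (i : W ⟶ U) (j : W ⟶ V) [IsOpenImmersion i] [IsOpenImmersion j] (w : W) :
    ∃ (W' : W.Opens) (f : Γ(U, ⊤)) (g : Γ(V, ⊤)), w ∈ W' ∧ i ''ᵁ W' = U.basicOpen f ∧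
      j ''ᵁ W' = V.basicOpen g := by
  -- Step 1
  obtain ⟨f₀, hf₀le, hf₀w⟩ := (isAffineOpen_top U).exists_basicOpen_le
    (V := i.opensRange) ⟨i w, ⟨w, rfl⟩⟩ (Set.mem_univ _)
  -- Step 2
  have hD : IsAffineOpen (U.basicOpen f₀) := (isAffineOpen_top U).basicOpen f₀
  set W₁ : W.Opens := i ⁻¹ᵁ U.basicOpen f₀ with hW₁
  have hW₁aff : IsAffineOpen W₁ := hD.preimage_of_isOpenImmersion i hf₀le
  have hwW₁ : w ∈ W₁ := hf₀w
  have hiW₁ : i ''ᵁ W₁ = U.basicOpen f₀ := by
    rw [hW₁, i.image_preimage_eq_opensRange_inf, inf_eq_right.mpr hf₀le]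
  -- Step 3
  have hjW₁aff : IsAffineOpen (j ''ᵁ W₁) := hW₁aff.image_of_isOpenImmersion j
  obtain ⟨g, h, hgh, hjw⟩ := exists_basicOpen_le_affine_inter (isAffineOpen_top V) hjW₁aff (j w)
    ⟨Set.mem_univ _, ⟨w, hwW₁, rfl⟩⟩
  -- Step 4
  set r := (j.appIso W₁).hom h with hr
  have hjW' : j ''ᵁ W.basicOpen r = V.basicOpen g := by
    rw [Scheme.image_basicOpen, hr, ← CommRingCat.comp_apply, Iso.hom_inv_id]
    exact hgh.symm
  have hwW' : w ∈ W.basicOpen r := by
    have : j w ∈ j ''ᵁ W.basicOpen r := by rw [hjW']; exact hjw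
    obtain ⟨w', hw', hww'⟩ := this
    rwa [← j.isOpenEmbedding.injective hww']
  -- image under i
  have hiW' : i ''ᵁ W.basicOpen r = U.basicOpen ((i.appIso W₁).inv r) := Scheme.image_basicOpen i r
  -- transport to basicOpen f₀
  obtain ⟨f', hf'⟩ := (isAffineOpen_top U).basicOpen_basicOpen_is_basicOpen f₀
    (U.presheaf.map (eqToHom hiW₁.symm).op ((i.appIso W₁).inv r))
  refine ⟨W.basicOpen r, f', g, hwW', ?_, hjW'⟩
  rw [hiW', hf', Scheme.basicOpen_res_eq]

end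

/-- Let `U`, `V` be affine schemes and `W → U`, `W → V` open immersions. Then every `w ∈ W` has an open
neighbourhood `W' ⊆ W` whose images in `U` and in `V` are standard opens `D(f) ⊆ U`, `D(g) ⊆ V` (in
particular `W'` is affine). -/
theorem result {U V W : Scheme.{u}} [IsAffine U]
    [IsAffine V] (i : W ⟶ U) (j : W ⟶ V) [IsOpenImmersion i] [IsOpenImmersion j] (w : W) :
    ∃ (W' : W.Opens) (f : Γ(U, ⊤)) (g : Γ(V, ⊤)), w ∈ W' ∧ i ''ᵁ W' = U.basicOpen f ∧ j ''ᵁ W' = V.basicOpen g := by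
  exact Groth.Agent.S7416.main i j w

end Groth.Agent.S7416
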