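import Groth.Statements.S7419
import Groth.Agent.Lib.Helper11.SemiN

set_option autoImplicit false
universe u
open CategoryTheory AlgebraicGeometry
open HTop

namespace Groth.Agent.S7419

/-- Being absolutely weakly normal is a local property of rings: it passes to the localizations `A_f`,
and if `f_1, …, f_n` generate the unit ideal of `A` and each `A_{f_i}` is absolutely weakly normal
then so is `A`. -/
theorem result :
    (∀ (A : Type u) [CommRing A] (f : A), HTop.IsAWNRing A → HTop.IsAWNRing (Localization.Away f)) ∧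
    ∀ (A : Type u) [CommRing A] (s : Finset A), Ideal.span (s : Set A) = ⊤ →
      (∀ f ∈ s, HTop.IsAWNRing (Localization.Away f)) → HTop.IsAWNRing A := by
  refine ⟨fun A _ f h => ?_, fun A _ s hs h => ?_⟩
  · rw [Groth.Agent.Helper11.SemiN.awn_iff] at h ⊢
    refine ⟨?_, fun p hp => ?_⟩
    · have h1 := h.1
      rw [Groth.Agent.Helper11.SemiN.seminormal_iff_good] at h1 ⊢
      exact Groth.Agent.Helper11.SemiN.good_loc _ f _ h1
    · have h2 := h.2 p hp
      rw [Groth.Agent.Helper11.SemiN.pCond_iff_good _ p hp.pos] at h2 ⊢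
      exact Groth.Agent.Helper11.SemiN.good_loc _ f _ h2
  · rw [Groth.Agent.Helper11.SemiN.awn_iff]
    refine ⟨?_, fun p hp => ?_⟩
    · rw [Groth.Agent.Helper11.SemiN.seminormal_iff_good]
      exact Groth.Agent.Helper11.SemiN.good_local _ s hs
        (fun f hf => (Groth.Agent.Helper11.SemiN.seminormal_iff_good _).mp (h f hf).1)
    · rw [Groth.Agent.Helper11.SemiN.pCond_iff_good _ p hp.pos]
      exact Groth.Agent.Helper11.SemiN.good_local _ s hs
        (fun f hf => (Groth.Agent.Helper11.SemiN.pCond_iff_good _ p hp.pos).mp ((h f hf).2 p hp))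

end Groth.Agent.S7419
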