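import Groth.Statements.S7426
import Groth.Agent.Lib.Helper11.AWNSchemeIso
import Groth.Agent.S7421

set_option autoImplicit false
universe u
open CategoryTheory AlgebraicGeometry
open HTop

namespace Groth.Agent.S7426

/-- For a scheme `X` the following are equivalent: `X` is absolutely weakly normal; `X^awn → X` is an
isomorphism (equivalently, the identity of `X` is an absolute weak normalization); every universal
homeomorphism `Y → X` with `Y` reduced is an isomorphism. -/
theorem result (X : Scheme.{u}) :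
    (HTop.IsAWN X ↔ HTop.IsAWNormalization (𝟙 X)) ∧
    (HTop.IsAWN X ↔ ∀ (Y : Scheme.{u}) (π : Y ⟶ X), FlatMor.IsUnivHomeo π → AlgebraicGeometry.IsReduced Y → IsIso π) := by
  have hid : FlatMor.IsUnivHomeo (𝟙 X) := by
    rw [Groth.Agent.Helper11.UH.isUnivHomeo_iff]
    exact ⟨inferInstance, inferInstance, inferInstance⟩
  have hmodel := Groth.Agent.Helper11.UH.isAWNormalization_awnν X
  have key : IsIso (Groth.Agent.Helper11.UH.awnν X) ↔ HTop.IsAWN X :=
    Groth.Agent.Helper11.UH.isIso_iff_isAWN _ hmodel (𝟙 X) hid _ (Category.comp_id _)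
  refine ⟨⟨fun hX => ?_, fun hid' => ?_⟩, ⟨fun hX Y π hπ hY => ?_, fun H => ?_⟩⟩
  · have hiso : IsIso (Groth.Agent.Helper11.UH.awnν X) := key.mpr hX
    refine ⟨hid, fun Z π hπ => ?_⟩
    obtain ⟨d, hd, hdu⟩ := hmodel.2 Z π hπ
    refine ⟨inv (Groth.Agent.Helper11.UH.awnν X) ≫ d, ?_, fun h' hh' => ?_⟩
    · change (inv (Groth.Agent.Helper11.UH.awnν X) ≫ d) ≫ π = 𝟙 X
      rw [Category.assoc, hd, IsIso.inv_hom_id]
    · have hh'' : h' ≫ π = 𝟙 X := hh'
      have : Groth.Agent.Helper11.UH.awnν X ≫ h' = d := by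
        apply hdu
        change (Groth.Agent.Helper11.UH.awnν X ≫ h') ≫ π = Groth.Agent.Helper11.UH.awnν X
        rw [Category.assoc, hh'', Category.comp_id]
      rw [← this, IsIso.inv_hom_id_assoc]
  · exact (Groth.Agent.Helper11.UH.isIso_iff_isAWN (𝟙 X) hid' (𝟙 X) hid (𝟙 X)
      (Category.comp_id _)).mp inferInstance
  · exact Groth.Agent.Helper11.UH.isIso_of_isAWN π hπ hX
  · have hawn := Groth.Agent.Helper11.UH.isAWN_awnSch X
    have hsn : HTop.IsSeminormal (Groth.Agent.Helper11.UH.awnSch X) := by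
      intro x
      obtain ⟨U, hxU, hU⟩ := hawn x
      exact ⟨U, hxU, hU.1⟩
    have hred : AlgebraicGeometry.IsReduced (Groth.Agent.Helper11.UH.awnSch X) :=
      Groth.Agent.S7421.result.2 _ hsn
    have hiso : IsIso (Groth.Agent.Helper11.UH.awnν X) :=
      H _ _ (Groth.Agent.Helper11.UH.isUnivHomeo_awnν X) hred
    exact key.mp hiso

end Groth.Agent.S7426
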