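import Groth.Statements.S7429
import Mathlib.AlgebraicGeometry.Morphisms.UniversallyOpen
-- import your own Groth.Agent.* helpers here

set_option autoImplicit false
universe u
open CategoryTheory AlgebraicGeometry
open Desc

namespace Groth.Agent.S7429

section
open CategoryTheory AlgebraicGeometry MorphismProperty

theorem gen (Q : MorphismProperty Scheme.{u}) [Q.IsStableUnderComposition]
    [Q.IsStableUnderBaseChange]
    (hQ : ∀ {A B : Scheme.{u}} (i : A ⟶ B) [IsOpenImmersion i], Q i)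
    (hopen : ∀ {A B : Scheme.{u}} (g : A ⟶ B), Q g → IsOpenMap g)
    (P : MorphismProperty Scheme.{u}) [P.IsLocalAtSource (Scheme.precoverage Q)]
    {X Y : Scheme.{u}} (f : X ⟶ Y) :
    ∃ W : X.Opens, (P (W.ι ≫ f) ∧ ∀ W' : X.Opens, P (W'.ι ≫ f) → W' ≤ W) ∧
      ∀ (X' : Scheme.{u}) (g : X' ⟶ X) (_ : Q g) (V : X'.Opens),
        (P (V.ι ≫ g ≫ f) ∧ ∀ V' : X'.Opens, P (V'.ι ≫ g ≫ f) → V' ≤ V) → V = g ⁻¹ᵁ W := by
  classical
  set S : Set X.Opens := {W' | P (W'.ι ≫ f)} with hS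
  set W : X.Opens := sSup S with hW
  -- cover of W
  let 𝒰 : (W.toScheme).Cover (Scheme.precoverage Q) :=
    Scheme.Cover.mkOfCovers (↥S) (fun j => (j.1 : X.Opens).toScheme)
      (fun j => X.homOfLE (le_sSup j.2))
      (by
        intro x
        have hx : (x.1 : X) ∈ sSup S := x.2
        rw [TopologicalSpace.Opens.mem_sSup] at hx
        obtain ⟨W', hW', hxW'⟩ := hx
        refine ⟨⟨W', hW'⟩, ⟨x.1, hxW'⟩, ?_⟩
        apply Subtype.ext
        simp)
      (fun j => hQ _)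
  have hPW : P (W.ι ≫ f) := by
    refine IsLocalAtSource.of_zeroHypercover (K := Scheme.precoverage Q) 𝒰 (fun j => ?_)
    change P (X.homOfLE (le_sSup j.2) ≫ W.ι ≫ f)
    rw [← Category.assoc, Scheme.homOfLE_ι]
    exact j.2
  refine ⟨W, ⟨hPW, fun W' h => le_sSup h⟩, ?_⟩
  intro X' g hg V hV
  apply le_antisymm
  · -- V ≤ g⁻¹ W
    let U : X.Opens := ⟨g '' V, hopen g hg V V.isOpen⟩
    have hVU : V ≤ g ⁻¹ᵁ U := fun v hv => ⟨v, hv, rfl⟩
    let e : V.toScheme ⟶ U.toScheme := X'.homOfLE hVU ≫ (g ∣_ U)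
    have he : e ≫ U.ι = V.ι ≫ g := by
      simp only [e, Category.assoc, morphismRestrict_ι]
      rw [← Category.assoc, Scheme.homOfLE_ι]
    have hQe : Q e :=
      Q.comp_mem _ _ (hQ _) (Q.of_isPullback (isPullback_morphismRestrict g U).flip hg)
    let 𝒱 : Scheme.Cover.{u} (Scheme.precoverage Q) (U.toScheme) :=
      Scheme.Cover.mkOfCovers PUnit.{u+1} (fun _ => V.toScheme) (fun _ => e)
        (by
          intro u
          obtain ⟨v, hv, hvu⟩ := u.2
          refine ⟨⟨⟩, ⟨v, hv⟩, ?_⟩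
          apply Subtype.ext
          have := congrArg (fun φ : V.toScheme ⟶ X => φ ⟨v, hv⟩) he
          simp only [Scheme.Hom.comp_apply] at this
          simpa using this.trans hvu)
        (fun _ => hQe)
    have hPU : P (U.ι ≫ f) := by
      refine IsLocalAtSource.of_zeroHypercover (K := Scheme.precoverage Q) 𝒱 (fun _ => ?_)
      change P (e ≫ U.ι ≫ f)
      rw [← Category.assoc, he, Category.assoc]
      exact hV.1
    have hUW : U ≤ W := le_sSup hPU
    exact fun v hv => hUW ⟨v, hv, rfl⟩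
  · -- g⁻¹ W ≤ V
    apply hV.2
    have hQr : Q (g ∣_ W) := Q.of_isPullback (isPullback_morphismRestrict g W).flip hg
    have := (IsLocalAtSource.iff_of_zeroHypercover (P := P) (K := Scheme.precoverage Q)
      (f := W.ι ≫ f) (𝒰.add (g ∣_ W) hQr)).mp hPW none
    change P ((g ∣_ W) ≫ W.ι ≫ f) at this
    rwa [← Category.assoc, morphismRestrict_ι, Category.assoc] at this

theorem etale_case (P : MorphismProperty Scheme.{u})
    [P.IsLocalAtSource Scheme.etalePrecoverage] {X Y : Scheme.{u}} (f : X ⟶ Y) :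
    ∃ W : X.Opens, (P (W.ι ≫ f) ∧ ∀ W' : X.Opens, P (W'.ι ≫ f) → W' ≤ W) ∧
      ∀ (X' : Scheme.{u}) (g : X' ⟶ X) [Etale g] (V : X'.Opens),
        (P (V.ι ≫ g ≫ f) ∧ ∀ V' : X'.Opens, P (V'.ι ≫ g ≫ f) → V' ≤ V) → V = g ⁻¹ᵁ W := by
  haveI : P.IsLocalAtSource (Scheme.precoverage @Etale) :=
    ‹P.IsLocalAtSource Scheme.etalePrecoverage›
  obtain ⟨W, h1, h2⟩ := gen @Etale (fun i _ => inferInstance)
    (fun g hg => by haveI : Etale g := hg; exact g.isOpenMap) P f
  exact ⟨W, h1, fun X' g _ V hV => h2 X' g inferInstance V hV⟩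

theorem fppf_case (P : MorphismProperty Scheme.{u})
    [P.IsLocalAtSource Scheme.fppfPrecoverage] {X Y : Scheme.{u}} (f : X ⟶ Y) :
    ∃ W : X.Opens, (P (W.ι ≫ f) ∧ ∀ W' : X.Opens, P (W'.ι ≫ f) → W' ≤ W) ∧
      ∀ (X' : Scheme.{u}) (g : X' ⟶ X) [Flat g] [LocallyOfFinitePresentation g] (V : X'.Opens),
        (P (V.ι ≫ g ≫ f) ∧ ∀ V' : X'.Opens, P (V'.ι ≫ g ≫ f) → V' ≤ V) → V = g ⁻¹ᵁ W := by
  haveI : P.IsLocalAtSource (Scheme.precoverage (@Flat ⊓ @LocallyOfFinitePresentation)) :=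
    ‹P.IsLocalAtSource Scheme.fppfPrecoverage›
  obtain ⟨W, h1, h2⟩ := gen (@Flat ⊓ @LocallyOfFinitePresentation)
    (fun i _ => ⟨inferInstance, inferInstance⟩)
    (fun g hg => by
      haveI : Flat g := hg.1
      haveI : LocallyOfFinitePresentation g := hg.2
      exact g.isOpenMap) P f
  exact ⟨W, h1, fun X' g _ _ V hV => h2 X' g ⟨inferInstance, inferInstance⟩ V hV⟩

end

/-- Suppose `P` is a property of scheme morphisms that is local on the source for the étale topology.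
For every morphism `f : X → Y` there is a largest open `W(f) ⊆ X` such that `f|_{W(f)}` has `P`;
moreover for `g : X' → X` étale and `f' = f ∘ g` one has `W(f') = g⁻¹(W(f))`. -/
theorem result (P : MorphismProperty Scheme.{u})
    [P.IsLocalAtSource Scheme.etalePrecoverage] {X Y : Scheme.{u}} (f : X ⟶ Y) :
    ∃ W : X.Opens, (P (W.ι ≫ f) ∧ ∀ W' : X.Opens, P (W'.ι ≫ f) → W' ≤ W) ∧
      ∀ (X' : Scheme.{u}) (g : X' ⟶ X) [Etale g] (V : X'.Opens),
        (P (V.ι ≫ g ≫ f) ∧ ∀ V' : X'.Opens, P (V'.ι ≫ g ≫ f) → V' ≤ V) → V = g ⁻¹ᵁ W := by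
  exact etale_case P f

end Groth.Agent.S7429
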