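import Mathlib
import Groth.Statements.S7431
import Groth.Agent.Lib.Helper19.FibProd.OpenImm

set_option autoImplicit false
universe u
open CategoryTheory AlgebraicGeometry
open Lim

namespace Groth.Agent.S7431

/-- Let `B' = B ×_R R'` be a cartesian square of rings with maps `s : B → R`, `t : R' → R`, and let `W'
= D(f_1) ∪ … ∪ D(f_n) ⊆ Spec R'` with `t(f_i) = s(g_i)` for elements `g_i ∈ B` such that `B_{g_i} →
R_{s(g_i)}` is an isomorphism for each `i`. Then the composite `W' → Spec R' → Spec B'`, the second
map coming from `B' → R'`, is an open immersion. -/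
theorem result {B B' R R' : Type u} [CommRing B] [CommRing B']
    [CommRing R] [CommRing R'] (s : B →+* R) (t : R' →+* R) (p : B' →+* B) (q : B' →+* R')
    (hsq : IsPullback (CommRingCat.ofHom p) (CommRingCat.ofHom q) (CommRingCat.ofHom s) (CommRingCat.ofHom t))
    {n : ℕ} (f : Fin n → R') (g : Fin n → B) (hfg : ∀ i, t (f i) = s (g i))
    (hiso : ∀ i, Function.Bijective (Localization.awayMap s (g i))) :
    IsOpenImmersion (Scheme.Opens.ι (X := Spec (CommRingCat.of R')) (⨆ i, PrimeSpectrum.basicOpen (f i)) ≫
      Spec.map (CommRingCat.ofHom q)) := by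
  let c := CommRingCat.pullbackCone (CommRingCat.ofHom s) (CommRingCat.ofHom t)
  let ε : CommRingCat.of B' ≅ c.pt :=
    hsq.isLimit.conePointUniqueUpToIso (CommRingCat.pullbackConeIsLimit _ _)
  have e2 : ε.hom ≫ c.snd = CommRingCat.ofHom q :=
    CategoryTheory.Limits.IsLimit.conePointUniqueUpToIso_hom_comp _ _
      CategoryTheory.Limits.WalkingCospan.right
  let hs : Fin n → Groth.Agent.Helper19.FibProd.FP t s := fun i =>
    Groth.Agent.Helper19.FibProd.mkP t s (g i) (f i) (hfg i).symm
  have hbij : ∀ i, Function.Bijective (Groth.Agent.Helper19.FibProd.ψB t s (hs i)) := by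
    intro i
    have key : ∀ (c : R) (_ : s (g i) = c), ∀ [IsLocalization.Away (s (g i)) (Localization.Away c)],
        Function.Bijective (IsLocalization.Away.map (Localization.Away (g i))
          (Localization.Away c) s (g i)) := by
      intro c hc inst
      subst hc
      exact hiso i
    haveI : IsLocalization.Away (s (g i)) (Localization.Away (t (f i))) :=
      Groth.Agent.Helper19.FibProd.instAwayC t s (hs i)
    exact key _ (hfg i).symm
  have h0 := Groth.Agent.Helper19.FibProd.isOpenImmersion_iSup t s hs hbij
  have e3 : Spec.map (CommRingCat.ofHom q) =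
      Groth.Agent.Helper19.FibProd.sa t s ≫ Spec.map ε.hom := by
    rw [← e2, Spec.map_comp]
    rfl
  rw [e3, ← Category.assoc]
  haveI : IsOpenImmersion (Scheme.Opens.ι (X := Spec (CommRingCat.of R'))
      (⨆ i, PrimeSpectrum.basicOpen (f i)) ≫ Groth.Agent.Helper19.FibProd.sa t s) := h0
  infer_instance

end Groth.Agent.S7431
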