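import Groth.Statements.S7435
import Groth.Agent.Lib.Helper11.BddFib4

set_option autoImplicit false
universe u
open CategoryTheory AlgebraicGeometry
open BddFib

namespace Groth.Agent.S7435

/-- If `f` is finite locally free of degree `d`, then `d` bounds the degrees of the fibres of `f`. -/
theorem result {X Y : Scheme.{u}} (f : X ⟶ Y) (d : ℕ) (hf : Mor2.IsFinLocFreeOfDeg d f) :
    BddFib.FibreDegLE f d := by
  obtain ⟨⟨hfin, hflat, hlfp⟩, hdeg⟩ := hf
  intro y
  haveI := hfin
  haveI := hflat
  haveI : IsFinite (Limits.pullback.snd f (Y.fromSpecResidueField y)) :=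
    MorphismProperty.of_isPullback (IsPullback.of_hasPullback f (Y.fromSpecResidueField y)) hfin
  obtain ⟨x⟩ : Nonempty ↥(Spec (Y.residueField y)) := inferInstance
  have h1 : (Limits.pullback.snd f (Y.fromSpecResidueField y)).finrank x ≤ d := by
    rw [Scheme.Hom.finrank_pullback_snd]
    exact (hdeg _).le
  exact Groth.Agent.Helper11.BddFibLib.finiteOfDegLE_of_isFinite (Field.toIsField _)
    (Limits.pullback.snd f (Y.fromSpecResidueField y)) x d h1

end Groth.Agent.S7435
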