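import Groth.Statements.S7442
import Groth.Agent.Lib.Helper11.BddFib7

set_option autoImplicit false
universe u
open CategoryTheory AlgebraicGeometry
open BddFib

namespace Groth.Agent.S7442

/-- Let `f : X → Y` and `h : Y → Z` with `g = h ∘ f`. If `f` is flat and surjective and `n` bounds the
degrees of the fibres of `g`, then `n` bounds the degrees of the fibres of `h`. -/
theorem result {X Y Z : Scheme.{u}} (f : X ⟶ Y) (h : Y ⟶ Z) [Flat f] [Surjective f]
    (n : ℕ) (hg : BddFib.FibreDegLE (f ≫ h) n) : BddFib.FibreDegLE h n := by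
  intro z
  let ι := Z.fromSpecResidueField z
  let fz : Limits.pullback (f ≫ h) ι ⟶ Limits.pullback h ι :=
    Limits.pullback.lift (Limits.pullback.fst (f ≫ h) ι ≫ f) (Limits.pullback.snd (f ≫ h) ι)
      (by rw [Category.assoc, Limits.pullback.condition])
  have hsnd : fz ≫ Limits.pullback.snd h ι = Limits.pullback.snd (f ≫ h) ι :=
    Limits.pullback.lift_snd _ _ _
  have hpb : IsPullback fz (Limits.pullback.fst (f ≫ h) ι) (Limits.pullback.fst h ι) f := by
    refine IsPullback.of_right (h₁₂ := Limits.pullback.snd h ι) ?_ (Limits.pullback.lift_fst _ _ _)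
      (IsPullback.of_hasPullback h ι).flip
    rw [hsnd]
    exact (IsPullback.of_hasPullback (f ≫ h) ι).flip
  haveI : Flat fz := MorphismProperty.of_isPullback hpb.flip ‹Flat f›
  haveI : Surjective fz := MorphismProperty.of_isPullback hpb.flip ‹Surjective f›
  exact Groth.Agent.Helper11.BddFibLib.finiteOfDegLE_of_flat_surjective (Field.toIsField _)
    (Limits.pullback.snd h ι) (Limits.pullback.snd (f ≫ h) ι) fz hsnd n (hg z)


end Groth.Agent.S7442
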