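import Groth.Statements.S7448
import Mathlib
import Groth.Agent.Lib.Helper13.RpushRel
import Groth.Agent.Lib.Helper13.RpushShf
import Groth.Agent.Lib.Helper13.ShfZero
import Groth.Agent.Lib.Helper13.LerayBase
import Groth.Agent.Lib.Helper13.LerayZero
import Groth.Agent.Lib.Helper13.RestrCoh
import Groth.Agent.Lib.Helper13.QCohPush
import Groth.Agent.Lib.Helper13.Qcqs
import Groth.Agent.S0028

set_option autoImplicit false
universe u
open Lim

namespace Groth.Agent.S7448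

open Lim

open AlgebraicGeometry CategoryTheory Opposite TopologicalSpace in
/-- vanishing of `H^i(f⁻¹ V, N)` for quasi-coherent `N` on `f⁻¹ V` -/
lemma key {X Y : Scheme.{u}} (f : X ⟶ Y) [CompactSpace X]
    [QuasiSeparatedSpace X] [CompactSpace Y] [QuasiSeparatedSpace Y] (d : ℕ)
    (hvan : ∀ (M : X.Modules) (i : ℕ), Coh.IsQCoh M → d < i →
      Limits.IsZero ((Coh.RpushAb f i).obj (Coh.toAb M)))
    (V : Y.Opens) (hV : IsAffineOpen V) (N : (f ⁻¹ᵁ V : Scheme.{u}).Modules) [N.IsQuasicoherent]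
    (i : ℕ) (hi : d < i) : Subsingleton (Coh.HH (f ⁻¹ᵁ V : Scheme.{u}) N i) := by
  haveI : QuasiCompact f := inferInstance
  haveI : QuasiSeparated f := by
    haveI : QuasiSeparated (f ≫ Limits.terminal.from Y) := by
      rw [Limits.terminalIsTerminal.hom_ext (f ≫ Limits.terminal.from Y) (Limits.terminal.from X)]
      exact (quasiSeparatedSpace_iff_quasiSeparated X).1 inferInstance
    exact QuasiSeparated.of_comp f (Limits.terminal.from Y)
  haveI : CompactSpace (f ⁻¹ᵁ V : Scheme.{u}) :=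
    isCompact_iff_compactSpace.1 (f.isCompact_preimage hV.isCompact)
  haveI : QuasiCompact (f ⁻¹ᵁ V).ι := inferInstance
  let J : X.Modules := (Scheme.Modules.pushforward (f ⁻¹ᵁ V).ι).obj N
  haveI hJ : J.IsQuasicoherent :=
    Groth.Agent.Helper13.Qcqs.isQuasicoherent_pushforward_of_qcqs (f ⁻¹ᵁ V).ι N
  have hz := hvan J i hJ hi
  obtain ⟨e₂⟩ := Groth.Agent.Helper13.RpushShf.main (Opens.grothendieckTopology X)
    (Opens.grothendieckTopology Y) (TopologicalSpace.Opens.map f.base) (Coh.toAb J) i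
  have hz2 : Limits.IsZero ((presheafToSheaf (Opens.grothendieckTopology Y) AddCommGrpCat.{u}).obj
      (Groth.Agent.Helper13.RpushGlobal.P f J i)) := hz.of_iso e₂.symm
  have hz3 : Limits.IsZero (((presheafToSheaf (Opens.grothendieckTopology Y) AddCommGrpCat.{u}).obj
      (Groth.Agent.Helper13.RpushGlobal.P f J i)).obj.obj (op V)) :=
    Functor.map_isZero ((sheafToPresheaf _ _) ⋙ (evaluation _ _).obj (op V)) hz2
  have hs3 : Subsingleton (((presheafToSheaf (Opens.grothendieckTopology Y) AddCommGrpCat.{u}).obj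
      (Groth.Agent.Helper13.RpushGlobal.P f J i)).obj.obj (op V)) :=
    AddCommGrpCat.subsingleton_of_isZero hz3
  have hb := Groth.Agent.Helper13.RpushRel.toSheafify_bijective f V J i hV
  have hs4 : Subsingleton (CohTop.HU (X := X.toTopCat) (Coh.toAb J) i (f ⁻¹ᵁ V)) :=
    hb.1.subsingleton
  obtain ⟨e₃⟩ := Groth.Agent.Helper13.RestrCoh.main (X := X.toTopCat) (f ⁻¹ᵁ V) (Coh.toAb J) i
  have hs5 : Subsingleton (Coh.HHon X J (f ⁻¹ᵁ V) i) := e₃.symm.injective.subsingleton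
  haveI : IsIso ((Scheme.Modules.restrictAdjunction (f ⁻¹ᵁ V).ι).counit.app N) := inferInstance
  exact Groth.Agent.Helper13.LerayBase.subsingleton_H_of_iso
    ((SheafOfModules.toSheaf _).mapIso
      (asIso ((Scheme.Modules.restrictAdjunction (f ⁻¹ᵁ V).ι).counit.app N)).symm) i hs5

open AlgebraicGeometry CategoryTheory Opposite TopologicalSpace in

open AlgebraicGeometry CategoryTheory in
/-- Let `f : X → Y` be a morphism with `X`, `Y` quasi-compact and quasi-separated, and `d ≥ 0` such that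
`R^i f_* F = 0` for all `i > d` and all quasi-coherent `F`. Then for every cartesian square with
base change `f' : X' → Y'` of `f`, `R^i f'_* F' = 0` for all `i > d` and all quasi-coherent
`O_{X'}`-modules `F'`. -/
theorem result {X Y X' Y' : Scheme.{u}} (f : X ⟶ Y) [CompactSpace X]
    [QuasiSeparatedSpace X] [CompactSpace Y] [QuasiSeparatedSpace Y] (d : ℕ)
    (hvan : ∀ (M : X.Modules) (i : ℕ), Coh.IsQCoh M → d < i → Limits.IsZero ((Coh.RpushAb f i).obj (Coh.toAb M)))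
    (g : Y' ⟶ Y) (f' : X' ⟶ Y') (g' : X' ⟶ X) (sq : IsPullback g' f' f g) (M' : X'.Modules) [Coh.IsQCoh M']
    (i : ℕ) (hi : d < i) : Limits.IsZero ((Coh.RpushAb f' i).obj (Coh.toAb M')) := by
  haveI : M'.IsQuasicoherent := ‹Coh.IsQCoh M'›
  obtain ⟨e⟩ := Groth.Agent.Helper13.RpushShf.main (Opens.grothendieckTopology X')
    (Opens.grothendieckTopology Y') (TopologicalSpace.Opens.map f'.base) (Coh.toAb M') i
  refine Limits.IsZero.of_iso ?_ e
  refine Groth.Agent.Helper13.ShfZero.isZero_presheafToSheaf_of_basis (Y := Y'.toTopCat) _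
    {W | IsAffineOpen W ∧ ∃ V : Y.Opens, IsAffineOpen V ∧ W ≤ g ⁻¹ᵁ V} ?_ ?_
  · rw [TopologicalSpace.Opens.isBasis_iff_nbhd]
    intro U y hyU
    obtain ⟨_, ⟨V, hV, rfl⟩, hyV, -⟩ := Y.isBasis_affineOpens.exists_subset_of_mem_open
      (Set.mem_univ (g.base y)) isOpen_univ
    have hy' : y ∈ U ⊓ g ⁻¹ᵁ V := ⟨hyU, hyV⟩
    obtain ⟨_, ⟨W, hW, rfl⟩, hyW, hWle⟩ := Y'.isBasis_affineOpens.exists_subset_of_mem_open
      hy' (U ⊓ g ⁻¹ᵁ V).isOpen
    exact ⟨W, ⟨hW, V, hV, fun z hz => (hWle hz).2⟩, hyW, fun z hz => (hWle hz).1⟩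
  · rintro W' ⟨hW, V, hV, hWV⟩
    obtain ⟨W, rfl⟩ : ∃ W : Y'.Opens, W = W' := ⟨W', rfl⟩
    -- the affine morphism `f'⁻¹ W → f⁻¹ V`
    have hle : f' ⁻¹ᵁ W ≤ g' ⁻¹ᵁ (f ⁻¹ᵁ V) := by
      have h1 : f' ⁻¹ᵁ W ≤ f' ⁻¹ᵁ (g ⁻¹ᵁ V) := f'.preimage_mono hWV
      rw [← Scheme.Hom.comp_preimage, ← sq.w, Scheme.Hom.comp_preimage] at h1
      exact h1
    have hpb := Scheme.Hom.isPullback_resLE sq (US := V) (UT := W) (UX := f ⁻¹ᵁ V) hWV le_rfl
      (UY := f' ⁻¹ᵁ W) (le_antisymm (le_inf hle le_rfl) inf_le_right)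
    haveI : IsAffine (V : Scheme.{u}) := hV
    haveI : IsAffine (W : Scheme.{u}) := hW
    haveI : IsAffineHom (g.resLE V W hWV) := inferInstance
    haveI hπ : IsAffineHom (g'.resLE (f ⁻¹ᵁ V) (f' ⁻¹ᵁ W) hle) :=
      MorphismProperty.of_isPullback (P := @IsAffineHom) hpb.flip inferInstance
    let π := g'.resLE (f ⁻¹ᵁ V) (f' ⁻¹ᵁ W) hle
    let N' := M'.restrict (f' ⁻¹ᵁ W).ι
    haveI : N'.IsQuasicoherent := inferInstance
    haveI : ((Scheme.Modules.pushforward π).obj N').IsQuasicoherent :=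
      Groth.Agent.Helper13.QCohPush.isQuasicoherent_pushforward π N'
    have hs1 := key f d hvan V hV ((Scheme.Modules.pushforward π).obj N') i hi
    obtain ⟨e₂⟩ := Groth.Agent.Helper13.LerayZero.main π.base i (Coh.toAb N')
      (fun k => Groth.Agent.S0028.result π N' (k + 1) (Nat.succ_pos k))
    have hs1' : Subsingleton (CohTop.H ((CohTop.push π.base).obj (Coh.toAb N')) i) := hs1
    have hs2 : Subsingleton (Coh.HH (f' ⁻¹ᵁ W : Scheme.{u}) N' i) := e₂.injective.subsingleton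
    obtain ⟨e₃⟩ := Groth.Agent.Helper13.RestrCoh.main (X := X'.toTopCat) (f' ⁻¹ᵁ W) (Coh.toAb M') i
    have hs3 : Subsingleton (CohTop.H (CohTop.restr (X := X'.toTopCat) (Coh.toAb M') (f' ⁻¹ᵁ W)) i) :=
      hs2
    exact e₃.injective.subsingleton

end Groth.Agent.S7448
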