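import Groth.Statements.S7454
import Groth.Agent.Lib.Helper12.CartierSm2
import Groth.Agent.Lib.Helper18.GrpdOm
import Groth.Agent.Lib.Helper18.GrpdMax

set_option autoImplicit false
universe u
open CategoryTheory CategoryTheory.Limits AlgebraicGeometry
open Grpd

namespace Groth.Agent.S7454

/-- Let (U, R, s, t, c) be a groupoid scheme over S with U the spectrum of a field of characteristic
zero and s, t locally of finite type. Then s and t are smooth. (A groupoid scheme carries U, R, s,
t, c, e, i over S with the groupoid axioms on T-points; c is defined on the fibre product of s and t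
and sends a pair (a, b) with s(a) = t(b) to a composed with b.) -/
theorem result (S : Scheme.{u}) (G : Grpd.GroupoidScheme S) (k : Type u) [Field k] [CharZero k] (eU : G.U ≅ Spec (CommRingCat.of k)) [LocallyOfFiniteType G.s] [LocallyOfFiniteType G.t] : Smooth G.s ∧ Smooth G.t := by
  haveI : IsAffine G.U := .of_isIso eU.hom
  haveI : IsLocallyNoetherian G.U := isLocallyNoetherian_of_isOpenImmersion eU.hom
  haveI : IsLocallyNoetherian G.R := LocallyOfFiniteType.isLocallyNoetherian G.t
  haveI : QuasiSeparated G.t := inferInstance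
  obtain ⟨a⟩ := Groth.Agent.Helper18.GrpdOm.main G
  haveI := Groth.Agent.Helper18.GrpdOm.isImmersion_section G.t G.e G.e_t
  haveI := Groth.Agent.Helper18.GrpdOm.quasiCompact_section G.t G.e G.e_t
  haveI hC : (Omega.conormal G.e).IsQuasicoherent :=
    Groth.Agent.Helper18.ConormalImm.isQuasicoherent_conormal G.e
  haveI : ((Scheme.Modules.pullback eU.inv).obj (Omega.conormal G.e)).IsQuasicoherent :=
    Groth.Agent.Helper13.Pullback.isQuasicoherent_pullback eU.inv _
  obtain ⟨I, ⟨b⟩⟩ := Groth.Agent.Helper18.FieldFree.exists_iso_free k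
    ((Scheme.Modules.pullback eU.inv).obj (Omega.conormal G.e))
  have c1 : Omega.conormal G.e ≅ (Scheme.Modules.pullback eU.hom).obj
      ((Scheme.Modules.pullback eU.inv).obj (Omega.conormal G.e)) :=
    ((Scheme.Modules.pullbackId G.U).app _).symm ≪≫
      (Scheme.Modules.pullbackCongr eU.hom_inv_id.symm).app _ ≪≫
      ((Scheme.Modules.pullbackComp eU.hom eU.inv).app _).symm
  let α : Omega.sheaf G.t ≅ Groth.Agent.Helper12.FreeSec.F G.R I :=
    a.symm ≪≫ (Scheme.Modules.pullback G.s).mapIso
      (c1 ≪≫ (Scheme.Modules.pullback eU.hom).mapIso b) ≪≫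
      (Scheme.Modules.pullbackComp G.s eU.hom).app _ ≪≫
      Groth.Agent.Helper18.FieldFree.pullbackFreeIso (G.s ≫ eU.hom) I
  have ht : Smooth (G.t ≫ eU.hom) :=
    Groth.Agent.Helper12.CartierSm.smooth_comp_of_omega_free G.t eU.hom I α
  have ht' : Smooth G.t :=
    (MorphismProperty.cancel_right_of_respectsIso @Smooth G.t eU.hom).mp ht
  haveI := Groth.Agent.Helper18.GrpdMax.isIso_i G
  have hs : Smooth G.s := by
    rw [← G.i_t]
    infer_instance
  exact ⟨hs, ht'⟩

end Groth.Agent.S7454
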