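import Groth.Statements.S7456
-- import your own Groth.Agent.* helpers here

set_option autoImplicit false
universe u
open CategoryTheory CategoryTheory.Limits AlgebraicGeometry
open Grpd

namespace Groth.Agent.S7456

/-- Let (U, R, s, t, c) be a groupoid scheme over S. For every subset W of U, the subset t(s^{-1}(W)) is
set-theoretically R-invariant: its preimages under s and t coincide. If moreover s and t are open
maps and quasi-compact, then U is covered by R-invariant quasi-compact open subsets. (The published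
statement also asserts that this set is open when W is open and s, t are open maps; this row omits
that clause.) (A groupoid scheme carries U, R, s, t, c, e, i over S with the groupoid axioms on
T-points; c is defined on the fibre product of s and t and sends a pair (a, b) with s(a) = t(b) to a
composed with b.) -/
theorem result (S : Scheme.{u}) (G : Grpd.GroupoidScheme S) : (∀ W : Set G.U, ⇑G.s ⁻¹' (⇑G.t '' (⇑G.s ⁻¹' W)) = ⇑G.t ⁻¹' (⇑G.t '' (⇑G.s ⁻¹' W))) ∧ (IsOpenMap ⇑G.s → IsOpenMap ⇑G.t → QuasiCompact G.s → QuasiCompact G.t → ∀ u : G.U, ∃ W : G.U.Opens, IsCompact (W : Set G.U) ∧ u ∈ W ∧ G.s ⁻¹ᵁ W = G.t ⁻¹ᵁ W) := by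
  have hcs : G.c ≫ G.s = pullback.snd G.s G.t ≫ G.s := by
    have := G.comp_s (pullback.fst G.s G.t) (pullback.snd G.s G.t) pullback.condition
    rwa [pullback.lift_fst_snd, Category.id_comp] at this
  have hct : G.c ≫ G.t = pullback.fst G.s G.t ≫ G.t := by
    have := G.comp_t (pullback.fst G.s G.t) (pullback.snd G.s G.t) pullback.condition
    rwa [pullback.lift_fst_snd, Category.id_comp] at this
  -- composition of composable points
  have hcomp : ∀ x y : G.R, G.s x = G.t y → ∃ w : G.R, G.t w = G.t x ∧ G.s w = G.s y := by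
    intro x y hxy
    obtain ⟨z, hz1, hz2⟩ := Scheme.Pullback.exists_preimage_pullback (f := G.s) (g := G.t) x y hxy
    refine ⟨G.c z, ?_, ?_⟩
    · rw [← Scheme.Hom.comp_apply, hct, Scheme.Hom.comp_apply, hz1]
    · rw [← Scheme.Hom.comp_apply, hcs, Scheme.Hom.comp_apply, hz2]
  have his : ∀ x : G.R, G.s (G.i x) = G.t x := fun x => by
    rw [← Scheme.Hom.comp_apply, G.i_s]
  have hit : ∀ x : G.R, G.t (G.i x) = G.s x := fun x => by
    rw [← Scheme.Hom.comp_apply, G.i_t]
  have part1 : ∀ W : Set G.U, ⇑G.s ⁻¹' (⇑G.t '' (⇑G.s ⁻¹' W)) = ⇑G.t ⁻¹' (⇑G.t '' (⇑G.s ⁻¹' W)) := by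
    intro W
    ext x
    constructor
    · rintro ⟨y, hyW, hy⟩
      obtain ⟨w, hw1, hw2⟩ := hcomp x y hy.symm
      refine ⟨w, ?_, hw1⟩
      show G.s w ∈ W
      rw [hw2]
      exact hyW
    · rintro ⟨y, hyW, hy⟩
      obtain ⟨w, hw1, hw2⟩ := hcomp (G.i x) y (by rw [his, hy])
      refine ⟨w, ?_, ?_⟩
      · show G.s w ∈ W
        rw [hw2]
        exact hyW
      · rw [hw1, hit]
  refine ⟨part1, ?_⟩
  intro hso hto hsq htq u
  obtain ⟨W₀, hW₀, huW₀, -⟩ := exists_isAffineOpen_mem_and_subset (x := u) (U := ⊤) trivial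
  have hopen : IsOpen (⇑G.t '' (⇑G.s ⁻¹' (W₀ : Set G.U))) :=
    hto _ (W₀.2.preimage G.s.continuous)
  refine ⟨⟨_, hopen⟩, ?_, ?_, ?_⟩
  · exact (hsq.isCompact_preimage _ W₀.2 hW₀.isCompact).image G.t.continuous
  · refine ⟨G.e u, ?_, ?_⟩
    · show G.s (G.e u) ∈ W₀
      rw [← Scheme.Hom.comp_apply, G.e_s]
      exact huW₀
    · rw [← Scheme.Hom.comp_apply, G.e_t]
      rfl
  · ext x
    exact Set.ext_iff.mp (part1 (W₀ : Set G.U)) x

end Groth.Agent.S7456
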