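import Groth.Statements.S7483
import Groth.Agent.Lib.Helper21.DescFinC

set_option autoImplicit false
open CategoryTheory CategoryTheory.Limits AlgebraicGeometry
universe u
open Desc

namespace Groth.Agent.S7483

/-- Suppose p : X -> Y is surjective and finite locally free (that is, finite, flat, and locally of
finite presentation), and consider a scheme V over X with the property that any finite collection of
points of V mapping to a common point of Y lies inside some affine open subset of V. Under these
assumptions, each descent datum on V relative to p is effective, meaning it is isomorphic to the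
canonical descent datum attached to some scheme over Y. (Descent data are formulated in
functor-of-points form.) -/
theorem result {X Y : Scheme.{u}} (p : X ⟶ Y) [Surjective p] [IsFinite p] [Flat p] [LocallyOfFinitePresentation p] (D : Desc.SchDD p) (hV : ∀ (y : Y) (s : Finset ↑(D.obj.left)), (∀ v ∈ s, p (D.obj.hom v) = y) → ∃ U : D.obj.left.Opens, IsAffineOpen U ∧ ∀ v ∈ s, v ∈ U) : ∃ W : Over Y, Nonempty ((Desc.toDD p).obj W ≅ D) := by
  classical
  let D' := (SchDDFam.ofSchDD.{u} p).obj D
  suffices hc : Nonempty (Groth.Agent.Helper21.DescA.Cone D') by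
    obtain ⟨c⟩ := hc
    obtain ⟨U, ⟨e⟩⟩ := c.isEffective
    exact ⟨U, ⟨(SchDDFam.toSchDD p).mapIso e⟩⟩
  refine Groth.Agent.Helper21.DescFinC.cone_of_orbits p D' (fun v => ?_)
  have hfin : (Groth.Agent.Helper21.DescFinB.orb D' PUnit.unit {v} PUnit.unit).Finite :=
    Groth.Agent.Helper21.DescFinC.finite_orb p D' v
  have hfib : ∀ w : D.obj.left, w ∈ Groth.Agent.Helper21.DescFinB.orb D' PUnit.unit {v} PUnit.unit →
      p (D.obj.hom w) = p (D.obj.hom v) := by
    rintro _ ⟨r, hr, rfl⟩
    have hr' : (pullback.fst ((D'.obj PUnit.unit).hom ≫ p) p).base r = v := hr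
    have e : pullback.fst ((D'.obj PUnit.unit).hom ≫ p) p ≫ (D'.obj PUnit.unit).hom ≫ p =
        Groth.Agent.Helper21.DescA.act D' PUnit.unit PUnit.unit ≫ (D'.obj PUnit.unit).hom ≫ p := by
      rw [pullback.condition, Groth.Agent.Helper21.DescA.act_hom_assoc]
    have h1 := congrArg (fun m => m.base r) e
    simp only [Scheme.Hom.comp_base, TopCat.comp_app] at h1
    rw [hr'] at h1
    exact h1.symm
  obtain ⟨U, hU, hsU⟩ := hV (p (D.obj.hom v)) (Set.Finite.toFinset (s := (Groth.Agent.Helper21.DescFinB.orb D' PUnit.unit {v} PUnit.unit : Set D.obj.left)) hfin)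
    (fun w hw => hfib w ((Set.Finite.mem_toFinset _).mp hw))
  exact ⟨U, hU, fun w hw => hsU w ((Set.Finite.mem_toFinset _).mpr hw)⟩

end Groth.Agent.S7483
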