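import Groth.Statements.S7484
import Groth.Agent.Lib.Helper21.DescFinC
import Groth.Agent.Lib.Helper21.DescFinD

set_option autoImplicit false
open CategoryTheory CategoryTheory.Limits AlgebraicGeometry
universe u
open Desc

namespace Groth.Agent.S7484

/-- Let p : X -> Y be a surjective finite locally free morphism and d a positive integer such that for
every algebraically closed field k and every k-point of Y there are at most d k-points of X over it.
Let V be a scheme over X such that any d points of V (not necessarily distinct) lying over one point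
of Y are contained in an affine open of V. Then every descent datum on V relative to p is effective.
(Descent data are taken in functor-of-points form.) -/
theorem result {X Y : Scheme.{u}} (p : X ⟶ Y) [Surjective p] [IsFinite p] [Flat p] [LocallyOfFinitePresentation p] (d : ℕ) (hd : 0 < d) (hfib : ∀ (k : Type u) [Field k] [IsAlgClosed k] (y : Spec (CommRingCat.of k) ⟶ Y), Set.encard {x : Spec (CommRingCat.of k) ⟶ X | x ≫ p = y} ≤ d) (D : Desc.SchDD p) (hV : ∀ (y : Y) (v : Fin d → ↑(D.obj.left)), (∀ i, p (D.obj.hom (v i)) = y) → ∃ U : D.obj.left.Opens, IsAffineOpen U ∧ ∀ i, v i ∈ U) : ∃ W : Over Y, Nonempty ((Desc.toDD p).obj W ≅ D) := by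
  classical
  let D' := (SchDDFam.ofSchDD.{u} p).obj D
  suffices hc : Nonempty (Groth.Agent.Helper21.DescA.Cone D') by
    obtain ⟨c⟩ := hc
    obtain ⟨U, ⟨e⟩⟩ := c.isEffective
    exact ⟨U, ⟨(SchDDFam.toSchDD p).mapIso e⟩⟩
  refine Groth.Agent.Helper21.DescFinC.cone_of_orbits p D' (fun v => ?_)
  have hfin : (Groth.Agent.Helper21.DescFinB.orb D' PUnit.unit {v} PUnit.unit).Finite :=
    Groth.Agent.Helper21.DescFinC.finite_orb p D' v
  have hfibre : ∀ w : D.obj.left, w ∈ Groth.Agent.Helper21.DescFinB.orb D' PUnit.unit {v} PUnit.unit →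
      p (D.obj.hom w) = p (D.obj.hom v) := by
    rintro _ ⟨r, hr, rfl⟩
    have hr' : (pullback.fst ((D'.obj PUnit.unit).hom ≫ p) p).base r = v := hr
    have e : pullback.fst ((D'.obj PUnit.unit).hom ≫ p) p ≫ (D'.obj PUnit.unit).hom ≫ p =
        Groth.Agent.Helper21.DescA.act D' PUnit.unit PUnit.unit ≫ (D'.obj PUnit.unit).hom ≫ p := by
      rw [pullback.condition, Groth.Agent.Helper21.DescA.act_hom_assoc]
    have h1 := congrArg (fun m => m.base r) e
    simp only [Scheme.Hom.comp_base, TopCat.comp_app] at h1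
    rw [hr'] at h1
    exact h1.symm
  have hcard : (Groth.Agent.Helper21.DescFinB.orb D' PUnit.unit {v} PUnit.unit).encard ≤ d :=
    (Set.encard_image_le _ _).trans
      (Groth.Agent.Helper21.DescFinD.encard_fibre_le p d hfib ((D'.obj PUnit.unit).hom ≫ p) v)
  let F : Finset D.obj.left := Set.Finite.toFinset
    (s := (Groth.Agent.Helper21.DescFinB.orb D' PUnit.unit {v} PUnit.unit : Set D.obj.left)) hfin
  have hmem : ∀ w : D.obj.left, w ∈ F ↔
      w ∈ Groth.Agent.Helper21.DescFinB.orb D' PUnit.unit {v} PUnit.unit :=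
    fun w => Set.Finite.mem_toFinset _
  have hF : F.card ≤ d := by
    have h1 := hfin.encard_eq_coe_toFinset_card
    rw [h1] at hcard
    exact_mod_cast hcard
  haveI : Nonempty {w // w ∈ F} :=
    ⟨⟨v, (hmem v).mpr (Groth.Agent.Helper21.DescFinB.mem_orb_self D' PUnit.unit {v} v rfl)⟩⟩
  obtain ⟨e⟩ : Nonempty ({w // w ∈ F} ↪ Fin d) :=
    Function.Embedding.nonempty_of_card_le (by simpa using hF)
  let w : Fin d → D.obj.left := fun i => (Function.invFun e i).1
  obtain ⟨U, hU, hwU⟩ := hV (p (D.obj.hom v)) w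
    (fun i => hfibre _ ((hmem _).mp (Function.invFun e i).2))
  refine ⟨U, hU, fun u hu => ?_⟩
  have h2 := hwU (e ⟨u, (hmem u).mpr hu⟩)
  have h3 : w (e ⟨u, (hmem u).mpr hu⟩) = u :=
    congrArg Subtype.val (Function.leftInverse_invFun e.injective ⟨u, (hmem u).mpr hu⟩)
  rw [h3] at h2
  exact h2

end Groth.Agent.S7484
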