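import Groth.Statements.S7486
import Groth.Agent.Lib.Helper18.InvBasis
import Groth.Agent.Lib.Helper18.GrpdOm

set_option autoImplicit false
universe u
open CategoryTheory CategoryTheory.Limits AlgebraicGeometry
open Grpd

namespace Groth.Agent.S7486

/-- Let (U, R, s, t, c) be a groupoid scheme over S with U = Spec A and R = Spec B affine (A, B the
rings of global functions), and let x_i, i in I, be elements of A such that B is free as an A-module
through s^# with basis the elements t^#(x_i). Let C be the subring of R-invariant functions (those a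
with s^#(a) = t^#(a)). Then the x_i form a basis of A as a C-module, and the C-linear map A (x)_C A
-> B sending a (x) a' to t^#(a) s^#(a') is bijective (B carries the C-module structure through s^#).
(A groupoid scheme carries U, R, s, t, c, e, i over S with the groupoid axioms on T-points; c is
defined on the fibre product of s and t and sends a pair (a, b) with s(a) = t(b) to a composed with
b.) -/
theorem result (S : Scheme.{u}) (G : Grpd.GroupoidScheme S) [IsAffine G.U] [IsAffine G.R] (I : Type u) (x : I → Γ(G.U, ⊤)) (hB : letI := G.s.appTop.hom.toAlgebra; ∃ b : Module.Basis I Γ(G.U, ⊤) Γ(G.R, ⊤), ∀ i, b i = G.t.appTop.hom (x i)) : (∃ b : Module.Basis I G.invariants Γ(G.U, ⊤), ∀ i, b i = x i) ∧ (letI := (G.s.appTop.hom.comp G.invariants.subtype).toAlgebra; ∀ φ : TensorProduct G.invariants Γ(G.U, ⊤) Γ(G.U, ⊤) →ₗ[G.invariants] Γ(G.R, ⊤), (∀ a a' : Γ(G.U, ⊤), φ (a ⊗ₜ[G.invariants] a') = G.t.appTop.hom a * G.s.appTop.hom a') → Function.Bijective φ) := by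
  letI := G.s.appTop.hom.toAlgebra
  obtain ⟨bB, hbB⟩ := hB
  have hes : ∀ a, G.e.appTop.hom (algebraMap Γ(G.U, ⊤) Γ(G.R, ⊤) a) = a := by
    intro a
    have h2 := congrArg (fun φ => φ.appTop.hom a) G.e_s
    simp only [Scheme.Hom.comp_appTop] at h2
    exact h2.trans (by simp)
  have het : ∀ a, G.e.appTop.hom (G.t.appTop.hom a) = a := by
    intro a
    have h2 := congrArg (fun φ => φ.appTop.hom a) G.e_t
    simp only [Scheme.Hom.comp_appTop] at h2
    exact h2.trans (by simp)
  have hct : ∀ a, G.c.appTop.hom (G.t.appTop.hom a) =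
      (pullback.fst G.s G.t).appTop.hom (G.t.appTop.hom a) := by
    intro a
    have h1 : G.c ≫ G.t = pullback.fst G.s G.t ≫ G.t := by
      rw [Groth.Agent.Helper18.GrpdOm.c_eq, Groth.Agent.Helper18.GrpdOm.cmp_t]
    have h2 := congrArg (fun φ => φ.appTop.hom a) h1
    simp only [Scheme.Hom.comp_appTop] at h2
    exact h2
  have hcs : ∀ a, G.c.appTop.hom (algebraMap Γ(G.U, ⊤) Γ(G.R, ⊤) a) =
      (pullback.snd G.s G.t).appTop.hom (algebraMap Γ(G.U, ⊤) Γ(G.R, ⊤) a) := by
    intro a
    have h1 : G.c ≫ G.s = pullback.snd G.s G.t ≫ G.s := by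
      rw [Groth.Agent.Helper18.GrpdOm.c_eq, Groth.Agent.Helper18.GrpdOm.cmp_s]
    have h2 := congrArg (fun φ => φ.appTop.hom a) h1
    simp only [Scheme.Hom.comp_appTop] at h2
    exact h2
  have hpush : IsPushout (CommRingCat.ofHom G.t.appTop.hom)
      (CommRingCat.ofHom (algebraMap Γ(G.U, ⊤) Γ(G.R, ⊤)))
      (CommRingCat.ofHom (pullback.snd G.s G.t).appTop.hom)
      (CommRingCat.ofHom (pullback.fst G.s G.t).appTop.hom) :=
    (isPushout_appTop_of_isPullback (IsPullback.of_hasPullback G.s G.t)).flip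
  obtain ⟨bA, hbA⟩ := Groth.Agent.Lib.Helper18.InvBasis.part1 G.t.appTop.hom G.e.appTop.hom
    (pullback.fst G.s G.t).appTop.hom (pullback.snd G.s G.t).appTop.hom G.c.appTop.hom
    hes het hct hcs hpush x bB hbB
  refine ⟨⟨bA, hbA⟩, ?_⟩
  exact Groth.Agent.Lib.Helper18.InvBasis.part2 G.t.appTop.hom x bB hbB bA hbA

end Groth.Agent.S7486
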