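import Groth.Statements.S7490
import Groth.Agent.Lib.Helper18.QSh

set_option autoImplicit false
open CategoryTheory CategoryTheory.Limits AlgebraicGeometry
universe u
open QuotSh

namespace Groth.Agent.S7490

/-- Let K be a precoverage on schemes (the topology τ), S a scheme, s, t : R -> U morphisms of schemes
over S (a pre-relation) and q : U -> M a morphism over S such that (1) q coequalizes s and t, (2)
the induced map of τ-sheaves h_U -> h_M is an epimorphism, and (3) the map h_R -> h_(U x_M U)
induced by (t, s) is an epimorphism of τ-sheaves. Then M, through q, represents the quotient sheaf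
U/R: the canonical map from the coequalizer of h_s, h_t to h_M is an isomorphism. (The published
statement takes τ to be the Zariski, étale, fppf, smooth or syntomic topology; this row allows the
topology generated by any precoverage K.) -/
theorem result (K : Precoverage Scheme.{u}) {S : Scheme.{u}} {R U M : Over S} (s t : R ⟶ U) (q : U ⟶ M) (w : s ≫ q = t ≫ q) (w' : t.left ≫ q.left = s.left ≫ q.left) (h₂ : Epi (QuotSh.repMap K q)) (h₃ : Epi (QuotSh.repMap K (Over.homMk (pullback.lift t.left s.left w') (((Category.assoc _ _ _).symm.trans (congrArg (fun k => k ≫ U.hom) (pullback.lift_fst t.left s.left w'))).trans (Over.w t)) : R ⟶ Over.mk (pullback.fst q.left q.left ≫ U.hom)))) : QuotSh.IsQuotient K s t q := by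
  have hsnd : pullback.snd q.left q.left ≫ U.hom = pullback.fst q.left q.left ≫ U.hom := by
    rw [← Over.w q, ← Category.assoc, ← Category.assoc, pullback.condition]
  have hP : IsPullback (Over.homMk (pullback.fst q.left q.left) rfl :
        (Over.mk (pullback.fst q.left q.left ≫ U.hom) : Over S) ⟶ U)
      (Over.homMk (pullback.snd q.left q.left) hsnd) q q :=
    IsPullback.of_map_of_faithful (Over.forget S) (IsPullback.of_hasPullback q.left q.left)
  refine Groth.Agent.Helper18.QSh.isQuotient_of_epi K s t q w _ _ hP _ ?_ ?_ h₂ h₃
  · ext
    simp only [Over.comp_left, Over.homMk_left]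
    exact pullback.lift_fst _ _ _
  · ext
    simp only [Over.comp_left, Over.homMk_left]
    exact pullback.lift_snd _ _ _

end Groth.Agent.S7490
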