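import Groth.Statements.S7494


set_option autoImplicit false
universe u
open CategoryTheory MonoidalCategory CartesianMonoidalCategory MonObj GrpObj AlgebraicGeometry
open AlgGrp

namespace Groth.Agent.S7494

/-- Let G be a group scheme over S acting on a scheme X over S by a. The action is free, meaning that
for every scheme T over S and all T-points g of G and x of X with g · x = x one has g = 1, if and
only if the morphism G x_S X -> X x_S X, (g, x) ↦ (a(g, x), x), is a monomorphism of schemes. -/
theorem result {S : Scheme.{u}} (G X : Over S) [GrpObj G] (a : AlgGrp.Action G X) : (∀ (T : Over S) (g : T ⟶ G) (x : T ⟶ X), lift g x ≫ a.act = x → g = toUnit T ≫ η[G]) ↔ Mono (lift a.act (snd G X)).left := by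
  have hmul : ∀ (T : Over S) (g h : T ⟶ G) (x : T ⟶ X),
      lift (g * h) x ≫ a.act = lift g (lift h x ≫ a.act) ≫ a.act := by
    intro T g h x
    have := congrArg (fun t => lift (lift g h) x ≫ t) a.mul_act
    simp only [← Category.assoc] at this
    simpa [Hom.mul_def] using this
  have hone : ∀ (T : Over S) (x : T ⟶ X), lift (toUnit T ≫ η[G]) x ≫ a.act = x := by
    intro T x
    have := congrArg (fun t => lift (toUnit T) x ≫ t) a.one_act
    simp only [← Category.assoc] at this
    simpa using this
  constructor
  · intro hfree
    haveI : Mono (lift a.act (snd G X)) := by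
      constructor
      intro T u v huv
      have h1 := congrArg (fun t => t ≫ fst X X) huv
      have h2 := congrArg (fun t => t ≫ snd X X) huv
      simp only [Category.assoc, lift_fst, lift_snd] at h1 h2
      have hu : u = lift (u ≫ fst G X) (u ≫ snd G X) := by
        apply CartesianMonoidalCategory.hom_ext <;> simp
      have hv : v = lift (v ≫ fst G X) (v ≫ snd G X) := by
        apply CartesianMonoidalCategory.hom_ext <;> simp
      set g := u ≫ fst G X
      set x := u ≫ snd G X
      set g' := v ≫ fst G X
      set x' := v ≫ snd G X
      rw [hu, hv] at h1
      rw [← h2] at h1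
      have h3 : lift (g'⁻¹ * g) x ≫ a.act = x := by
        rw [hmul, h1, ← hmul, inv_mul_cancel, Hom.one_def, hone]
      have h4 := hfree T (g'⁻¹ * g) x h3
      rw [← Hom.one_def] at h4
      have h5 : g = g' := by
        have := congrArg (fun t => g' * t) h4
        simpa using this
      rw [hu, hv, h5, h2]
    infer_instance
  · intro hmono T g x hgx
    haveI : Mono (lift a.act (snd G X)) := Over.mono_of_mono_left _
    have h1 : lift g x ≫ lift a.act (snd G X) = lift (toUnit T ≫ η[G]) x ≫ lift a.act (snd G X) := by
      apply CartesianMonoidalCategory.hom_ext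
      · simp only [Category.assoc, lift_fst]
        rw [hgx, hone]
      · simp
    have h2 := (cancel_mono _).1 h1
    have h3 := congrArg (fun t => t ≫ fst G X) h2
    simpa using h3


end Groth.Agent.S7494
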