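import Groth.Statements.S7496


set_option autoImplicit false
universe w u
open CategoryTheory CategoryTheory.Limits AlgebraicGeometry
open HTop

namespace Groth.Agent.S7496

/-- Let T be a quasi-separated scheme and {f_i : T_i -> T} a family of morphisms. Then every affine open
of T is the union of the images of finitely many quasi-compact opens of the T_i (the
quasi-compactness condition in the definition of an fpqc covering) if and only if for every point t
of T there are finitely many quasi-compact opens U_j of members T_(i_j) such that the union of the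
f_(i_j)(U_j) is a neighbourhood of t. (The published statement also asks every f_i to be flat, on
both sides, and lists two more equivalent forms of the quasi-compactness condition; this row omits
flatness, which plays no part in the equivalence, and states only the equivalence of the
quasi-compactness condition with the neighbourhood condition.) -/
theorem result {T : Scheme.{u}} [QuasiSeparatedSpace T] (E : PreZeroHypercover.{w} T) : QuasiCompactCover E ↔ ∀ t : T, ∃ (n : ℕ) (i : Fin n → E.I₀) (V : ∀ j, (E.X (i j)).Opens), (∀ j, IsCompact (V j : Set (E.X (i j)))) ∧ (⋃ j, ⇑(E.f (i j)) '' (V j : Set (E.X (i j)))) ∈ nhds t := by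
  constructor
  · intro hqc t
    obtain ⟨U, hU, htU, -⟩ := TopologicalSpace.Opens.isBasis_iff_nbhd.mp T.isBasis_affineOpens
      (TopologicalSpace.Opens.mem_top t)
    obtain ⟨n, i, V, hV, hU'⟩ := QuasiCompactCover.exists_isAffineOpen_of_isCompact E hU.isCompact
    refine ⟨n, i, V, fun j => (hV j).isCompact, ?_⟩
    rw [hU']
    exact U.2.mem_nhds htU
  · intro h
    refine ⟨fun {U} hU => ?_⟩
    refine IsCompactOpenCovered.of_isCompact_of_forall_exists_isCompactOpenCovered hU.isCompact ?_
    intro x hx
    obtain ⟨n, i, V, hV, hN⟩ := h x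
    have hx' : x ∈ U ⊓ (⟨interior (⋃ j, ⇑(E.f (i j)) '' (V j : Set (E.X (i j)))), isOpen_interior⟩ :
        T.Opens) := ⟨hx, mem_interior_iff_mem_nhds.2 hN⟩
    obtain ⟨W, hW, hxW, hWle⟩ := TopologicalSpace.Opens.isBasis_iff_nbhd.mp T.isBasis_affineOpens hx'
    refine ⟨W, fun y hy => (hWle hy).1, hxW, W.2, ?_⟩
    have hcomp : ∀ j, IsCompact ((V j ⊓ (E.f (i j)) ⁻¹ᵁ W : (E.X (i j)).Opens) : Set (E.X (i j))) := by
      intro j
      haveI : CompactSpace (V j).toScheme := isCompact_iff_compactSpace.mp (hV j)
      haveI : QuasiCompact ((V j).ι ≫ E.f (i j)) := inferInstance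
      have h1 : IsCompact (((V j).ι ≫ E.f (i j)) ⁻¹' (W : Set T)) :=
        QuasiCompact.isCompact_preimage (f := (V j).ι ≫ E.f (i j)) _ W.2 hW.isCompact
      have h2 := h1.image (V j).ι.continuous
      convert h2 using 1
      ext y
      constructor
      · rintro ⟨hy1, hy2⟩
        exact ⟨⟨y, hy1⟩, hy2, rfl⟩
      · rintro ⟨z, hz, rfl⟩
        exact ⟨z.2, hz⟩
    refine IsCompactOpenCovered.of_finite (κ := Fin n) i (fun j => V j ⊓ (E.f (i j)) ⁻¹ᵁ W) hcomp ?_
    apply Set.Subset.antisymm
    · intro y hy
      simp only [Set.mem_iUnion] at hy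
      obtain ⟨j, z, hz, rfl⟩ := hy
      exact hz.2
    · intro y hy
      have hy' := interior_subset (hWle hy).2
      simp only [Set.mem_iUnion] at hy' ⊢
      obtain ⟨j, z, hz, rfl⟩ := hy'
      exact ⟨j, z, ⟨hz, hy⟩, rfl⟩


end Groth.Agent.S7496
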