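import Groth.Statements.S7497
import Groth.Agent.Lib.Helper11.QCCover


set_option autoImplicit false
universe u
open CategoryTheory CategoryTheory.Limits AlgebraicGeometry
open HTop

namespace Groth.Agent.S7497

/-- Let {f_i : T_i -> T} be a family of flat morphisms of schemes and {g_j : S_j -> T} an fpqc covering
such that for every j the family of base changes {S_j x_T T_i -> S_j} is an fpqc covering. Then {f_i
: T_i -> T} is an fpqc covering. (fpqc coverings are Mathlib's: flat, jointly surjective, every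
affine open of the target covered by images of finitely many quasi-compact opens.) -/
theorem result {T : Scheme.{u}} (E : PreZeroHypercover.{u} T) (hflat : ∀ i, Flat (E.f i)) (𝒱 : Scheme.Cover Scheme.fpqcPrecoverage T) (hloc : ∀ j, (E.pullback₁ (𝒱.f j)).presieve₀ ∈ Scheme.fpqcPrecoverage (𝒱.X j)) : E.presieve₀ ∈ Scheme.fpqcPrecoverage T := by
  have hV : 𝒱.presieve₀ ∈ Scheme.fpqcPrecoverage T := 𝒱.mem₀
  have hVqc : QuasiCompactCover 𝒱.toPreZeroHypercover :=
    Scheme.presieve₀_mem_qcPrecoverage_iff.1 hV.1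
  have hVsurj := ((Scheme.presieve₀_mem_precoverage_iff _).1 hV.2).1
  have hlocqc : ∀ j, QuasiCompactCover (E.pullback₁ (𝒱.f j)) := fun j =>
    Scheme.presieve₀_mem_qcPrecoverage_iff.1 (hloc j).1
  have hlocsurj := fun j => ((Scheme.presieve₀_mem_precoverage_iff _).1 (hloc j).2).1
  refine ⟨Scheme.presieve₀_mem_qcPrecoverage_iff.2 ?_, (Scheme.presieve₀_mem_precoverage_iff _).2 ⟨?_, hflat⟩⟩
  · haveI := hVqc
    haveI := hlocqc
    haveI : QuasiCompactCover (𝒱.toPreZeroHypercover.bind (fun j => E.pullback₁ (𝒱.f j))) :=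
      Groth.Agent.Helper11.QCCover.quasiCompactCover_bind _ _
    refine QuasiCompactCover.of_hom (𝒱 := 𝒱.toPreZeroHypercover.bind (fun j => E.pullback₁ (𝒱.f j)))
      ⟨fun ji => ji.2, fun ji => pullback.snd _ _, fun ji => ?_⟩
    exact pullback.condition.symm
  · intro t
    obtain ⟨j, s, rfl⟩ := hVsurj t
    obtain ⟨i, z, hz⟩ : ∃ (i : E.I₀) (z : ↥(pullback (𝒱.f j) (E.f i))),
      (pullback.fst (𝒱.f j) (E.f i)) z = s := hlocsurj j s
    refine ⟨i, (pullback.snd (𝒱.f j) (E.f i)) z, ?_⟩
    have hz' : (pullback.fst (𝒱.f j) (E.f i)) z = s := hz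
    rw [← hz', ← Scheme.Hom.comp_apply, ← Scheme.Hom.comp_apply, pullback.condition]


end Groth.Agent.S7497
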