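import Groth.Statements.S7511


set_option autoImplicit false
universe u
open CategoryTheory CategoryTheory.Limits AlgebraicGeometry
open HTop

namespace Groth.Agent.S7511

/-- Let {f_i : T_i -> T} be a family of morphisms of schemes (indexed by a type in the universe of T, so
that the coproduct exists). Then it is an fpqc covering if and only if the one-arrow family
consisting of the induced morphism from the coproduct of the T_i to T is an fpqc covering. -/
theorem result {T : Scheme.{u}} (E : PreZeroHypercover.{u} T) : E.presieve₀ ∈ Scheme.fpqcPrecoverage T ↔ Presieve.singleton (Sigma.desc E.f) ∈ Scheme.fpqcPrecoverage T := by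
  have hdesc : ∀ (p : Σ i, E.X i), (Sigma.desc E.f : ∐ E.X ⟶ T) (sigmaMk E.X p) = E.f p.1 p.2 := by
    rintro ⟨i, x⟩
    rw [sigmaMk_mk, ← Scheme.Hom.comp_apply, Sigma.ι_desc]
  have hs : (PreZeroHypercover.singleton.{0} (Sigma.desc E.f)).presieve₀ =
      Presieve.singleton (Sigma.desc E.f) := PreZeroHypercover.presieve₀_singleton _
  rw [← hs]
  constructor
  · rintro ⟨hqc, hfl⟩
    rw [Scheme.presieve₀_mem_qcPrecoverage_iff] at hqc
    replace hfl := (Scheme.presieve₀_mem_precoverage_iff _).1 hfl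
    refine ⟨Scheme.presieve₀_mem_qcPrecoverage_iff.2 ?_, (Scheme.presieve₀_mem_precoverage_iff _).2 ⟨?_, ?_⟩⟩
    · haveI := hqc
      exact QuasiCompactCover.of_hom (𝒱 := E) ⟨fun _ => ⟨⟩, fun i => Sigma.ι E.X i, fun i => Sigma.ι_desc _ _⟩
    · intro t
      obtain ⟨i, x, rfl⟩ := hfl.1 t
      refine ⟨⟨⟩, Sigma.ι E.X i x, ?_⟩
      show (Sigma.desc E.f : ∐ E.X ⟶ T) (Sigma.ι E.X i x) = _
      rw [← Scheme.Hom.comp_apply, Sigma.ι_desc]
    · intro _
      haveI : ∀ i, Flat (E.f i) := hfl.2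
      show Flat (Sigma.desc E.f : ∐ E.X ⟶ T)
      infer_instance
  · rintro ⟨hqc, hfl⟩
    rw [Scheme.presieve₀_mem_qcPrecoverage_iff] at hqc
    replace hfl := (Scheme.presieve₀_mem_precoverage_iff _).1 hfl
    refine ⟨Scheme.presieve₀_mem_qcPrecoverage_iff.2 ⟨fun {U} hU => ?_⟩, (Scheme.presieve₀_mem_precoverage_iff _).2 ⟨?_, ?_⟩⟩
    · have h1 := hqc.isCompactOpenCovered_of_isAffineOpen hU
      rw [IsCompactOpenCovered.iff_of_unique] at h1
      obtain ⟨V0, hVc, hVU⟩ := h1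
      let V : TopologicalSpace.Opens ↥(∐ E.X) := V0
      have hVU' : (Sigma.desc E.f : ∐ E.X ⟶ T) '' (V : Set ↥(∐ E.X)) = (U : Set T) := hVU
      have hVc' : IsCompact (V : Set ↥(∐ E.X)) := hVc
      have hVo : IsOpen (V : Set ↥(∐ E.X)) := V.2
      rw [IsCompactOpenCovered.iff_isCompactOpenCovered_sigmaMk, IsCompactOpenCovered.iff_of_unique]
      refine ⟨⟨sigmaMk E.X ⁻¹' (V : Set ↥(∐ E.X)), hVo.preimage (sigmaMk E.X).continuous⟩,
        (sigmaMk E.X).isCompact_preimage.2 hVc', ?_⟩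
      rw [← hVU']
      ext t
      constructor
      · rintro ⟨p, hp, rfl⟩
        exact ⟨sigmaMk E.X p, hp, hdesc p⟩
      · rintro ⟨y, hy, rfl⟩
        obtain ⟨p, rfl⟩ := (sigmaMk E.X).surjective y
        exact ⟨p, hy, (hdesc p).symm⟩
    · intro t
      obtain ⟨_, y, hy⟩ := hfl.1 t
      have hy' : (Sigma.desc E.f : ∐ E.X ⟶ T) y = t := hy
      obtain ⟨p, rfl⟩ := (sigmaMk E.X).surjective y
      exact ⟨p.1, p.2, (hdesc p).symm.trans hy'⟩
    · intro i
      have h2 : Flat (Sigma.desc E.f : ∐ E.X ⟶ T) := hfl.2 ⟨⟩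
      rw [← Sigma.ι_desc E.f i]
      infer_instance


end Groth.Agent.S7511
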