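import Groth.Statements.S7512


set_option autoImplicit false
universe w u
open HTop

namespace Groth.Agent.S7512

open CategoryTheory CategoryTheory.Limits AlgebraicGeometry in
/-- Let {f_i : T_i -> T} be a family of flat morphisms of schemes. Assume that for every affine scheme Z
and every morphism h : Z -> T there is a standard fpqc covering of Z (a finite family of flat
morphisms Z_j -> Z with Z_j affine whose images cover Z) refining the family of base changes {T_i
x_T Z -> Z} (every Z_j -> Z factors through some T_i compatibly with h). Then {f_i : T_i -> T} is an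
fpqc covering (in Mathlib's sense). -/
theorem result {T : Scheme.{u}} (E : PreZeroHypercover.{w} T) (hflat : ∀ i, Flat (E.f i)) (href : ∀ (Z : Scheme.{u}) [IsAffine Z] (h : Z ⟶ T), ∃ F : PreZeroHypercover.{0} Z, Finite F.I₀ ∧ (∀ j, IsAffine (F.X j)) ∧ (∀ j, Flat (F.f j)) ∧ (∀ z : Z, ∃ (j : F.I₀) (x : F.X j), F.f j x = z) ∧ HTop.RefinesOver h F E) : E.presieve₀ ∈ Scheme.fpqcPrecoverage T := by
  have key : ∀ (U : T.Opens) (hU : IsAffineOpen U),
      (∀ t ∈ U, ∃ i, t ∈ Set.range (E.f i)) ∧ IsCompactOpenCovered (E.f ·) (U : Set T) := by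
    intro U hU
    haveI : IsAffine U.toScheme := hU
    obtain ⟨F, hfin, haff, -, hsurj, hF⟩ := href U.toScheme U.ι
    choose a hh hcomm using hF
    constructor
    · intro t ht
      obtain ⟨j, x, hx⟩ := hsurj ⟨t, ht⟩
      refine ⟨a j, hh j x, ?_⟩
      rw [← Scheme.Hom.comp_apply, hcomm j, Scheme.Hom.comp_apply, hx]
      rfl
    · haveI := hfin
      refine IsCompactOpenCovered.of_comp (σ := F.I₀) (Y := fun j => F.X j)
        (fun j => ⇑(F.f j ≫ U.ι)) (a := a)
        (fun j => ⇑(hh j)) (fun j => (hh j).continuous) (fun j => ?_)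
        (fun i => (E.f i).continuous) U.2 ?_
      · rw [← hcomm j]
        ext x
        rw [Scheme.Hom.comp_apply]
        rfl
      · refine IsCompactOpenCovered.of_finite (κ := F.I₀) id (fun j => ⊤) (fun j => ?_) ?_
        · haveI := haff j
          exact isCompact_univ
        · apply Set.Subset.antisymm
          · intro y hy
            simp only [Set.mem_iUnion] at hy
            obtain ⟨j, x, -, rfl⟩ := hy
            show (F.f j ≫ U.ι) x ∈ (U : Set T)
            rw [Scheme.Hom.comp_apply]
            exact (F.f j x).2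
          · intro y hy
            obtain ⟨j, x, hx⟩ := hsurj ⟨y, hy⟩
            simp only [Set.mem_iUnion]
            refine ⟨j, x, trivial, ?_⟩
            show (F.f j ≫ U.ι) x = y
            rw [Scheme.Hom.comp_apply, hx]
            rfl
  refine ⟨Scheme.presieve₀_mem_qcPrecoverage_iff.2 ⟨fun {U} hU => (key U hU).2⟩,
    (Scheme.presieve₀_mem_precoverage_iff _).2 ⟨?_, hflat⟩⟩
  intro t
  obtain ⟨U, hU, htU, -⟩ := TopologicalSpace.Opens.isBasis_iff_nbhd.mp T.isBasis_affineOpens
    (TopologicalSpace.Opens.mem_top t)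
  exact (key U hU).1 t htU


end Groth.Agent.S7512
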