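import Groth.Statements.S7521
import Groth.Agent.S7483
import Groth.Agent.Lib.Helper13.SemiLocal5

set_option autoImplicit false
open CategoryTheory CategoryTheory.Limits AlgebraicGeometry
universe u
open Desc

namespace Groth.Agent.S7521

/-- Let p : X -> Y be a surjective finite locally free morphism and V a scheme over X which has an
invertible module ample relative to V -> X. Then every descent datum on V relative to p is
effective. (A quasi-projective morphism V -> X, in particular a projective one, carries such a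
module.) (Descent data are taken in functor-of-points form.) -/
theorem result {X Y : Scheme.{u}} (p : X ⟶ Y) [Surjective p] [IsFinite p] [Flat p] [LocallyOfFinitePresentation p] (D : Desc.SchDD p) (L : D.obj.left.Modules) (hL : RelAmple.IsRelAmple D.obj.hom L) : ∃ W : Over Y, Nonempty ((Desc.toDD p).obj W ≅ D) := by
  classical
  refine Groth.Agent.S7483.result p D (fun y s hs => ?_)
  obtain ⟨hqc, hA⟩ := hL
  obtain ⟨_, ⟨W, hW, rfl⟩, hyW, -⟩ := Y.isBasis_affineOpens.exists_subset_of_mem_open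
    (Set.mem_univ y) isOpen_univ
  have hX0 : IsAffineOpen (p ⁻¹ᵁ W) := hW.preimage p
  have hamp := hA ⟨p ⁻¹ᵁ W, hX0⟩
  have hsO : ∀ v ∈ s, v ∈ D.obj.hom ⁻¹ᵁ (p ⁻¹ᵁ W) := fun v hv => by
    show p (D.obj.hom v) ∈ W
    rw [hs v hv]; exact hyW
  obtain ⟨n, σ, h1, -, h3⟩ :=
    Groth.Agent.Helper13.SemiLocal.exists_affine_genLocus_finite_of_isAmple _ hamp ⊤
      (s.subtype (fun v => v ∈ D.obj.hom ⁻¹ᵁ (p ⁻¹ᵁ W))) (fun _ _ => trivial)
  refine ⟨(D.obj.hom ⁻¹ᵁ (p ⁻¹ᵁ W)).ι ''ᵁ _, h3.image_of_isOpenImmersion _, fun v hv => ?_⟩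
  exact ⟨⟨v, hsO v hv⟩, h1 _ (Finset.mem_subtype.mpr hv), rfl⟩

end Groth.Agent.S7521
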