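import Groth.Statements.S7522
-- import your own Groth.Agent.* helpers here

set_option autoImplicit false
universe u
open CategoryTheory CategoryTheory.Limits AlgebraicGeometry
open Grpd

namespace Groth.Agent.S7522

/-- Let S be a scheme, U a scheme over S and j : R -> U x_S U a pre-equivalence relation, that is a
morphism such that for every scheme T the image of the T-points of R in pairs of T-points of U is an
equivalence relation; write t = pr_0 ∘ j and s = pr_1 ∘ j. Then the relation on the points of U in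
which x ∼ y when some point r of R has t(r) = x and s(r) = y is an equivalence relation. -/
theorem result {S U R : Scheme.{u}} (pU : U ⟶ S) (j : R ⟶ pullback pU pU) (hj : ∀ T : Scheme.{u}, Equivalence (fun a b : T ⟶ U => ∃ r : T ⟶ R, r ≫ j ≫ pullback.fst pU pU = a ∧ r ≫ j ≫ pullback.snd pU pU = b)) : Equivalence (fun x y : ↥U => ∃ r : R, (j ≫ pullback.fst pU pU) r = x ∧ (j ≫ pullback.snd pU pU) r = y) := by
  set t := j ≫ pullback.fst pU pU with ht
  set s := j ≫ pullback.snd pU pU with hs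
  refine ⟨?_, ?_, ?_⟩
  · intro x
    obtain ⟨ρ, h1, h2⟩ := (hj U).refl (𝟙 U)
    refine ⟨ρ x, ?_, ?_⟩
    · rw [← Scheme.Hom.comp_apply, ht, h1]
      rfl
    · rw [← Scheme.Hom.comp_apply, hs, h2]
      rfl
  · rintro x y ⟨r, rfl, rfl⟩
    have hrel : ∃ r' : R ⟶ R, r' ≫ j ≫ pullback.fst pU pU = t ∧
        r' ≫ j ≫ pullback.snd pU pU = s := ⟨𝟙 R, by simp [ht], by simp [hs]⟩
    obtain ⟨ρ, h1, h2⟩ := (hj R).symm hrel
    refine ⟨ρ r, ?_, ?_⟩
    · rw [← Scheme.Hom.comp_apply, ht, h1]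
    · rw [← Scheme.Hom.comp_apply, hs, h2]
  · rintro x y z ⟨r₁, rfl, rfl⟩ ⟨r₂, h3, rfl⟩
    obtain ⟨w, hw1, hw2⟩ := Scheme.Pullback.exists_preimage_pullback (f := s) (g := t) r₁ r₂ h3.symm
    have hrel1 : ∃ r' : pullback s t ⟶ R, r' ≫ j ≫ pullback.fst pU pU = pullback.fst s t ≫ t ∧
        r' ≫ j ≫ pullback.snd pU pU = pullback.fst s t ≫ s := ⟨pullback.fst s t, rfl, rfl⟩
    have hrel2 : ∃ r' : pullback s t ⟶ R, r' ≫ j ≫ pullback.fst pU pU = pullback.fst s t ≫ s ∧
        r' ≫ j ≫ pullback.snd pU pU = pullback.snd s t ≫ s :=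
      ⟨pullback.snd s t, by rw [pullback.condition], rfl⟩
    obtain ⟨ρ, h1, h2⟩ := (hj (pullback s t)).trans hrel1 hrel2
    refine ⟨ρ w, ?_, ?_⟩
    · rw [← Scheme.Hom.comp_apply, h1, Scheme.Hom.comp_apply, hw1]
    · rw [← Scheme.Hom.comp_apply, h2, Scheme.Hom.comp_apply, hw2]

end Groth.Agent.S7522
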