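import Groth.Statements.S7527
import Groth.Agent.Lib.Helper11.Spectral

set_option autoImplicit false
universe u
open SpecSp

namespace Groth.Agent.S7527

/-- Let X be a spectral space and x, y ∈ X. Then either there is a third point specializing to both x
and y, or there are disjoint open neighbourhoods of x and of y. -/
theorem result {X : Type u} [TopologicalSpace X] [SpectralSpace X] (x y : X) :
    (∃ z : X, z ⤳ x ∧ z ⤳ y) ∨
    (∃ U V : Set X, IsOpen U ∧ IsOpen V ∧ x ∈ U ∧ y ∈ V ∧ Disjoint U V) := by
  classical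
  by_cases h : ∃ U V : Set X, IsOpen U ∧ IsOpen V ∧ x ∈ U ∧ y ∈ V ∧ Disjoint U V
  · exact Or.inr h
  · left
    push Not at h
    let ι := {U : Set X // IsOpen U ∧ IsCompact U ∧ (x ∈ U ∨ y ∈ U)}
    have hne : (⋂ i : ι, (i : Set X)).Nonempty := by
      apply Groth.Agent.Helper11.nonempty_iInter_of_isClosed_constructibleTopology
      · intro i
        exact Groth.Agent.Helper11.isClosed_constructibleTopology_of_isOpen_isCompact i.2.1 i.2.2.1
      · intro u
        have hA : IsOpen (⋂ i ∈ u, ⋂ (_ : x ∈ (i : Set X)), (i : Set X)) :=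
          isOpen_biInter_finset fun i _ => isOpen_iInter_of_finite fun _ => i.2.1
        have hB : IsOpen (⋂ i ∈ u, ⋂ (_ : y ∈ (i : Set X)), (i : Set X)) :=
          isOpen_biInter_finset fun i _ => isOpen_iInter_of_finite fun _ => i.2.1
        have hxA : x ∈ ⋂ i ∈ u, ⋂ (_ : x ∈ (i : Set X)), (i : Set X) := by
          simp only [Set.mem_iInter]; intro i _ hx; exact hx
        have hyB : y ∈ ⋂ i ∈ u, ⋂ (_ : y ∈ (i : Set X)), (i : Set X) := by
          simp only [Set.mem_iInter]; intro i _ hy; exact hy
        have hnd := h _ _ hA hB hxA hyB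
        rw [Set.not_disjoint_iff] at hnd
        obtain ⟨z, hzA, hzB⟩ := hnd
        refine ⟨z, ?_⟩
        simp only [Set.mem_iInter] at hzA hzB ⊢
        intro i hi
        rcases i.2.2.2 with hx | hy
        · exact hzA i hi hx
        · exact hzB i hi hy
    obtain ⟨z, hz⟩ := hne
    simp only [Set.mem_iInter] at hz
    refine ⟨z, ?_, ?_⟩
    · rw [specializes_iff_forall_open]
      intro W hW hxW
      obtain ⟨U, hU, hxU, hUW⟩ :=
        PrespectralSpace.isTopologicalBasis.exists_subset_of_mem_open hxW hW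
      exact hUW (hz ⟨U, hU.1, hU.2, Or.inl hxU⟩)
    · rw [specializes_iff_forall_open]
      intro W hW hyW
      obtain ⟨U, hU, hyU, hUW⟩ :=
        PrespectralSpace.isTopologicalBasis.exists_subset_of_mem_open hyW hW
      exact hUW (hz ⟨U, hU.1, hU.2, Or.inr hyU⟩)

end Groth.Agent.S7527
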