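import Groth.Statements.S7528
import Groth.Agent.Lib.Helper11.Spectral

set_option autoImplicit false
universe u
open SpecSp

namespace Groth.Agent.S7528

/-- For a spectral space X the following are equivalent: (1) X is profinite, i.e. quasi-compact,
Hausdorff and totally disconnected (quasi-compactness being automatic); (2) X is Hausdorff; (3) X is
totally disconnected; (4) every quasi-compact open subset is closed; (5) there are no nontrivial
specializations between points; (6) every point is closed; (7) every point is the generic point of
an irreducible component; (8) the constructible topology coincides with the topology of X. -/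
theorem result (X : Type u) [tX : TopologicalSpace X] [SpectralSpace X] :
    List.TFAE [
      T2Space X ∧ TotallyDisconnectedSpace X,
      T2Space X,
      TotallyDisconnectedSpace X,
      ∀ U : Set X, IsOpen U → IsCompact U → IsClosed U,
      ∀ x y : X, x ⤳ y → x = y,
      ∀ x : X, IsClosed ({x} : Set X),
      ∀ x : X, closure ({x} : Set X) ∈ irreducibleComponents X,
      constructibleTopology X = tX] := by
  tfae_have 1 → 3 := fun h => h.2
  tfae_have 3 → 5 := by
    intro h x y hxy
    have hpre : IsPreconnected (closure ({x} : Set X)) := isPreconnected_singleton.closure
    exact hpre.subsingleton (subset_closure rfl) (specializes_iff_mem_closure.mp hxy)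
  tfae_have 5 → 6 := by
    intro h x
    rw [← closure_subset_iff_isClosed]
    intro y hy
    exact (h x y (specializes_iff_mem_closure.mpr hy)).symm
  tfae_have 6 → 5 := by
    intro h x y hxy
    have := specializes_iff_mem_closure.mp hxy
    rw [(h x).closure_eq] at this
    exact this.symm
  tfae_have 5 → 7 := by
    intro h x
    refine ⟨isIrreducible_singleton.closure, fun Z hZ hle => ?_⟩
    obtain ⟨η, hη⟩ := QuasiSober.sober hZ.closure isClosed_closure
    have hx : x ∈ closure Z := subset_closure (hle (subset_closure rfl))
    have := h η x (hη.specializes hx)
    subst this
    rw [hη.def]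
    exact subset_closure
  tfae_have 7 → 5 := by
    intro h x y hxy
    have hsub : closure ({y} : Set X) ⊆ closure {x} :=
      closure_minimal (by simpa using specializes_iff_mem_closure.mp hxy) isClosed_closure
    have hle := (h y).2 (isIrreducible_singleton.closure) hsub
    have hyx : y ⤳ x := specializes_iff_mem_closure.mpr (hle (subset_closure rfl))
    exact (hxy.antisymm hyx).eq
  open Groth.Agent.Helper11 in
  tfae_have 5 → 4 := by
    intro h U hU hUc
    apply isClosed_of_isClosed_constructibleTopology_of_stableUnderSpecialization
    · exact isClosed_constructibleTopology_of_isOpen_isCompact hU hUc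
    · intro x y hxy hx
      rw [← h x y hxy]
      exact hx
  open Groth.Agent.Helper11 in
  tfae_have 4 → 8 := by
    intro h
    apply le_antisymm constructibleTopology_le
    apply le_generateFrom
    rintro s (⟨hs, -⟩ | ⟨hs, hsc⟩)
    · exact hs
    · have := h sᶜ hs.isOpen_compl hsc
      rw [isClosed_compl_iff] at this
      exact this
  open Groth.Agent.Helper11 in
  tfae_have 8 → 2 := by
    intro h
    have := t2Space_constructibleTopology (X := X)
    rw [h] at this
    exact this
  tfae_have 2 → 1 := by
    intro h
    exact ⟨h, inferInstance⟩
  tfae_finish

end Groth.Agent.S7528
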