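import Groth.Statements.S7530
import Groth.Agent.Lib.Helper11.Spectral

set_option autoImplicit false
universe u
open SpecSp

namespace Groth.Agent.S7530

/-- Let f : X → Y be a map of spectral spaces which is spectral and bijective, and assume that
generalizations lift along f or that specializations lift along f. Then f is a homeomorphism. -/
theorem result {X Y : Type u} [TopologicalSpace X] [TopologicalSpace Y]
    [SpectralSpace X] [SpectralSpace Y] (f : X → Y) (hf : IsSpectralMap f) (hb : Function.Bijective f)
    (hlift : GeneralizingMap f ∨ SpecializingMap f) :
    IsHomeomorph f := by
  open Groth.Agent.Helper11 in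
  rcases hlift with hg | hs
  · refine ⟨hf.continuous, fun U hU => ?_, hb⟩
    apply isOpen_of_isOpen_constructibleTopology_of_stableUnderGeneralization
    · have h1 : @IsClosed X (constructibleTopology X) Uᶜ :=
        isClosed_constructibleTopology_of_isClosed hU.isClosed_compl
      have h2 := isClosed_constructibleTopology_image hf h1
      rw [Set.image_compl_eq hb, @isClosed_compl_iff Y (constructibleTopology Y)] at h2
      exact h2
    · exact hg.stableUnderGeneralization_image hU.stableUnderGeneralization
  · rw [isHomeomorph_iff_continuous_isClosedMap_bijective]
    refine ⟨hf.continuous, fun E hE => ?_, hb⟩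
    apply isClosed_of_isClosed_constructibleTopology_of_stableUnderSpecialization
    · exact isClosed_constructibleTopology_image hf (isClosed_constructibleTopology_of_isClosed hE)
    · exact hs.stableUnderSpecialization_image hE.stableUnderSpecialization

end Groth.Agent.S7530
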