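import Groth.Statements.S7536
import Groth.Agent.Lib.Helper11.SpectralLim

set_option autoImplicit false
universe u
open CategoryTheory CategoryTheory.Limits
open SpecSp

namespace Groth.Agent.S7536

/-- Let j ↦ X_j be a cofiltered diagram of spectral spaces with spectral transition maps and X its limit
with projections p_j. For every constructible E ⊆ X there are an object i and a constructible E_i ⊆
X_i with p_i⁻¹(E_i) = E; if E is open, resp. closed, then E_i may be chosen open, resp. closed. -/
theorem result {J : Type u} [SmallCategory J] [IsCofiltered J] (F : J ⥤ TopCat.{u})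
    (hF : ∀ j, SpectralSpace (F.obj j))
    (hFm : ∀ {i j : J} (a : i ⟶ j), IsSpectralMap (F.map a : F.obj i → F.obj j))
    (c : Cone F) (hc : IsLimit c)
    (E : Set c.pt) (hE : Topology.IsConstructible E) :
    (∃ (i : J) (Ei : Set (F.obj i)), Topology.IsConstructible Ei ∧ c.π.app i ⁻¹' Ei = E) ∧
    (IsOpen E → ∃ (i : J) (Ei : Set (F.obj i)), Topology.IsConstructible Ei ∧ IsOpen Ei ∧ c.π.app i ⁻¹' Ei = E) ∧
    (IsClosed E → ∃ (i : J) (Ei : Set (F.obj i)), Topology.IsConstructible Ei ∧ IsClosed Ei ∧ c.π.app i ⁻¹' Ei = E) := by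
  open Groth.Agent.Helper11 in
  have hsp := (spectralSpace_limit hFm hc).1
  open Groth.Agent.Helper11 in
  refine ⟨exists_isConstructible_preimage_eq hFm hc hE, fun hEo => ?_, fun hEc => ?_⟩
  · have hcomp : IsCompact E := isCompact_of_isClosed_constructibleTopology
      (isClopen_constructibleTopology_of_isConstructible hE).1
    obtain ⟨i, Ui, h1, h2, h3⟩ := exists_isCompact_isOpen_preimage_eq hFm hc hEo hcomp
    exact ⟨i, Ui, h2.isConstructible h1, h1, h3⟩
  · have hcomp : IsCompact Eᶜ := isCompact_of_isClosed_constructibleTopology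
      (isClopen_constructibleTopology_of_isConstructible hE.compl).1
    obtain ⟨i, Ui, h1, h2, h3⟩ :=
      exists_isCompact_isOpen_preimage_eq hFm hc hEc.isOpen_compl hcomp
    refine ⟨i, Uiᶜ, (h2.isConstructible h1).compl, h1.isClosed_compl, ?_⟩
    rw [Set.preimage_compl, h3, compl_compl]

end Groth.Agent.S7536
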