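import Groth.Statements.S7538
import Groth.Agent.Lib.Helper11.SpectralLim

set_option autoImplicit false
universe u
open CategoryTheory CategoryTheory.Limits
open SpecSp

namespace Groth.Agent.S7538

/-- Let j ↦ X_j be a cofiltered diagram of spectral spaces with spectral transition maps f_a and X its
limit with projections p_j. (1) Any quasi-compact open U ⊆ X is p_i⁻¹(U_i) for some i and some
quasi-compact open U_i ⊆ X_i. (2) If U_i ⊆ X_i and U_j ⊆ X_j are quasi-compact opens with p_i⁻¹(U_i)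
⊆ p_j⁻¹(U_j), there are k and a : k → i, b : k → j with f_a⁻¹(U_i) ⊆ f_b⁻¹(U_j). (3) If U_i and
finitely many U_{l,i} are quasi-compact opens of X_i with p_i⁻¹(U_i) = ⋃_l p_i⁻¹(U_{l,i}), then
f_a⁻¹(U_i) = ⋃_l f_a⁻¹(U_{l,i}) for some a : j → i. (4) The same with intersections. -/
theorem result {J : Type u} [SmallCategory J] [IsCofiltered J] (F : J ⥤ TopCat.{u})
    (hF : ∀ j, SpectralSpace (F.obj j))
    (hFm : ∀ {i j : J} (a : i ⟶ j), IsSpectralMap (F.map a : F.obj i → F.obj j))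
    (c : Cone F) (hc : IsLimit c) :
    (∀ U : Set c.pt, IsOpen U → IsCompact U →
      ∃ (i : J) (Ui : Set (F.obj i)), IsOpen Ui ∧ IsCompact Ui ∧ c.π.app i ⁻¹' Ui = U) ∧
    (∀ (i j : J) (Ui : Set (F.obj i)) (Uj : Set (F.obj j)),
      IsOpen Ui → IsCompact Ui → IsOpen Uj → IsCompact Uj →
      c.π.app i ⁻¹' Ui ⊆ c.π.app j ⁻¹' Uj →
      ∃ (k : J) (a : k ⟶ i) (b : k ⟶ j), F.map a ⁻¹' Ui ⊆ F.map b ⁻¹' Uj) ∧
    (∀ (i : J) (n : ℕ) (Ui : Set (F.obj i)) (V : Fin n → Set (F.obj i)),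
      IsOpen Ui → IsCompact Ui → (∀ l, IsOpen (V l) ∧ IsCompact (V l)) →
      (c.π.app i ⁻¹' Ui = ⋃ l, c.π.app i ⁻¹' V l →
        ∃ (j : J) (a : j ⟶ i), F.map a ⁻¹' Ui = ⋃ l, F.map a ⁻¹' V l) ∧
      (c.π.app i ⁻¹' Ui = ⋂ l, c.π.app i ⁻¹' V l →
        ∃ (j : J) (a : j ⟶ i), F.map a ⁻¹' Ui = ⋂ l, F.map a ⁻¹' V l)) := by
  open Groth.Agent.Helper11 in
  refine ⟨fun U hU hUc => exists_isCompact_isOpen_preimage_eq hFm hc hU hUc, ?_, ?_⟩
  · intro i j Ui Uj hUi hUic hUj hUjc hsub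
    let k₀ := IsCofiltered.min i j
    let a₀ : k₀ ⟶ i := IsCofiltered.minToLeft i j
    let b₀ : k₀ ⟶ j := IsCofiltered.minToRight i j
    have hE := (isClopen_constructibleTopology_of_isOpen_isCompact
      (hUi.preimage (hFm a₀).continuous) (hUic.preimage_of_isOpen (hFm a₀) hUi)).1
    have hF' := (isClopen_constructibleTopology_of_isOpen_isCompact
      (hUj.preimage (hFm b₀).continuous) (hUjc.preimage_of_isOpen (hFm b₀) hUj)).2
    have h : (c.π.app k₀ : c.pt → F.obj k₀) ⁻¹' ((F.map a₀ : F.obj k₀ → F.obj i) ⁻¹' Ui) ⊆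
        (c.π.app k₀ : c.pt → F.obj k₀) ⁻¹' ((F.map b₀ : F.obj k₀ → F.obj j) ⁻¹' Uj) := by
      rw [proj_preimage_map_preimage, proj_preimage_map_preimage]
      exact hsub
    obtain ⟨k, d, hd⟩ := exists_hom_preimage_subset hFm hc k₀ hE hF' h
    refine ⟨k, d ≫ a₀, d ≫ b₀, ?_⟩
    intro y hy
    simp only [Set.mem_preimage, map_comp_apply] at hy ⊢
    exact hd hy
  · intro i n Ui V hUi hUic hV
    have hU := isClopen_constructibleTopology_of_isOpen_isCompact hUi hUic
    have hVl := fun l => isClopen_constructibleTopology_of_isOpen_isCompact (hV l).1 (hV l).2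
    constructor
    · intro h
      have hcl : @IsClosed _ (constructibleTopology (F.obj i)) (⋃ l, V l) ∧
          @IsOpen _ (constructibleTopology (F.obj i)) (⋃ l, V l) :=
        ⟨@isClosed_iUnion_of_finite _ _ (constructibleTopology _) _ _ fun l => (hVl l).1,
          @isOpen_iUnion _ _ (constructibleTopology _) _ fun l => (hVl l).2⟩
      obtain ⟨j, a, ha⟩ := exists_hom_preimage_eq hFm hc i hU hcl
        (by rw [h, Set.preimage_iUnion])
      exact ⟨j, a, by rw [ha, Set.preimage_iUnion]⟩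
    · intro h
      have hcl : @IsClosed _ (constructibleTopology (F.obj i)) (⋂ l, V l) ∧
          @IsOpen _ (constructibleTopology (F.obj i)) (⋂ l, V l) :=
        ⟨@isClosed_iInter _ _ (constructibleTopology _) _ fun l => (hVl l).1,
          @isOpen_iInter_of_finite _ _ (constructibleTopology _) _ _ fun l => (hVl l).2⟩
      obtain ⟨j, a, ha⟩ := exists_hom_preimage_eq hFm hc i hU hcl
        (by rw [h, Set.preimage_iInter])
      exact ⟨j, a, by rw [ha, Set.preimage_iInter]⟩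

end Groth.Agent.S7538
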