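import Groth.Statements.S7539
import Groth.Agent.Lib.Helper11.Spectral

set_option autoImplicit false
universe u
open SpecSp

namespace Groth.Agent.S7539

/-- For a subset W of a spectral space X, these five conditions coincide: (1) W can be written as an
intersection of constructible subsets and is stable under generalization; (2) W is quasi-compact and
stable under generalization; (3) for some quasi-compact E ⊆ X, W consists exactly of the points that
specialize to a point of E; (4) W is the intersection of some family of quasi-compact opens; (5)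
there are a nonempty index set I and quasi-compact opens U_i with W = ⋂ U_i such that for all i, j
some U_k is contained in U_i ∩ U_j. -/
theorem result {X : Type u} [TopologicalSpace X] [SpectralSpace X] (W : Set X) :
    List.TFAE [
      (∃ S : Set (Set X), (∀ s ∈ S, Topology.IsConstructible s) ∧ W = ⋂₀ S) ∧ StableUnderGeneralization W,
      IsCompact W ∧ StableUnderGeneralization W,
      ∃ E : Set X, IsCompact E ∧ W = {x | ∃ e ∈ E, x ⤳ e},
      ∃ S : Set (Set X), (∀ s ∈ S, IsOpen s ∧ IsCompact s) ∧ W = ⋂₀ S,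
      ∃ (I : Type u) (_ : Nonempty I) (U : I → Set X), (∀ i, IsOpen (U i) ∧ IsCompact (U i)) ∧
        W = ⋂ i, U i ∧ ∀ i j, ∃ k, U k ⊆ U i ∩ U j] := by
  open Groth.Agent.Helper11 in
  tfae_have 1 → 2 := by
    rintro ⟨⟨S, hS, rfl⟩, hg⟩
    refine ⟨?_, hg⟩
    apply isCompact_of_isClosed_constructibleTopology
    refine @isClosed_sInter X (constructibleTopology X) _ (fun s hs => ?_)
    exact (isClopen_constructibleTopology_of_isConstructible (hS s hs)).1
  tfae_have 2 → 3 := by
    rintro ⟨hc, hg⟩
    refine ⟨W, hc, ?_⟩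
    ext x
    constructor
    · intro hx
      exact ⟨x, hx, specializes_rfl⟩
    · rintro ⟨e, he, hxe⟩
      exact hg hxe he
  open Groth.Agent.Helper11 in
  tfae_have 3 → 4 := by
    rintro ⟨E, hE, rfl⟩
    refine ⟨{U : Set X | IsOpen U ∧ IsCompact U ∧ E ⊆ U}, fun s hs => ⟨hs.1, hs.2.1⟩, ?_⟩
    exact setOf_specializes_eq_sInter hE
  tfae_have 4 → 5 := by
    rintro ⟨S, hS, rfl⟩
    refine ⟨{T : Finset (Set X) // (T : Set (Set X)) ⊆ S}, ⟨⟨∅, by simp⟩⟩,
      fun T => ⋂₀ (T.1 : Set (Set X)), fun T => ⟨?_, ?_⟩, ?_, ?_⟩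
    · exact T.1.finite_toSet.isOpen_sInter (fun s hs => (hS s (T.2 hs)).1)
    · exact QuasiSeparatedSpace.isCompact_sInter T.1.finite_toSet
        (fun s hs => Or.inl (hS s (T.2 hs)).1) (fun s hs => (hS s (T.2 hs)).2)
    · ext x
      simp only [Set.mem_sInter, Set.mem_iInter]
      constructor
      · intro h T s hs
        exact h s (T.2 hs)
      · intro h s hs
        exact h ⟨{s}, by simpa using hs⟩ s (by simp)
    · intro T₁ T₂
      classical
      refine ⟨⟨T₁.1 ∪ T₂.1, by simpa using ⟨T₁.2, T₂.2⟩⟩, ?_⟩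
      simp only [Finset.coe_union]
      rw [Set.sInter_union]
  tfae_have 5 → 1 := by
    rintro ⟨I, _, U, hU, rfl, -⟩
    refine ⟨⟨Set.range U, ?_, rfl⟩, ?_⟩
    · rintro s ⟨i, rfl⟩
      exact (hU i).2.isConstructible (hU i).1
    · exact stableUnderGeneralization_iInter _ (fun i => (hU i).1.stableUnderGeneralization)
  tfae_finish

end Groth.Agent.S7539
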