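import Groth.Statements.S7540
import Groth.Agent.Lib.Helper11.Spectral

set_option autoImplicit false
universe u
open SpecSp

namespace Groth.Agent.S7540

/-- Let X be a spectral space, I a nonempty index set and U_i ⊆ X quasi-compact opens such that for all
i, j some U_k lies in U_i ∩ U_j; put W = ⋂ U_i. Then every open subset of X containing W contains
some U_i. The published statement also asserts that W is spectral and is the limit of the U_i; this
row states the neighbourhood property. -/
theorem result {X : Type u} [TopologicalSpace X] [SpectralSpace X]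
    {I : Type u} [Nonempty I] (U : I → Set X) (hU : ∀ i, IsOpen (U i) ∧ IsCompact (U i))
    (hdir : ∀ i j, ∃ k, U k ⊆ U i ∩ U j) :
    ∀ V : Set X, IsOpen V → (⋂ i, U i) ⊆ V → ∃ i, U i ⊆ V := by
  classical
  intro V hV hUV
  by_contra hcon
  push Not at hcon
  have hdir : ∀ u : Finset I, ∃ k, U k ⊆ ⋂ i ∈ u, U i := by
    intro u
    induction u using Finset.induction_on with
    | empty => exact ⟨Classical.arbitrary I, by simp⟩
    | insert a s _ ih =>
      obtain ⟨k, hk⟩ := ih
      obtain ⟨l, hl⟩ := hdir a k
      refine ⟨l, ?_⟩
      rw [Finset.set_biInter_insert]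
      exact Set.subset_inter (hl.trans Set.inter_subset_left) ((hl.trans Set.inter_subset_right).trans hk)
  have hne : (⋂ i, U i ∩ Vᶜ).Nonempty := by
    apply Groth.Agent.Helper11.nonempty_iInter_of_isClosed_constructibleTopology
    · intro i
      exact @IsClosed.inter X _ _ (constructibleTopology X)
        (Groth.Agent.Helper11.isClosed_constructibleTopology_of_isOpen_isCompact (hU i).1 (hU i).2)
        (Groth.Agent.Helper11.isClosed_constructibleTopology_of_isClosed hV.isClosed_compl)
    · intro u
      obtain ⟨k, hk⟩ := hdir u
      obtain ⟨z, hzk, hzV⟩ := Set.not_subset.mp (hcon k)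
      refine ⟨z, ?_⟩
      simp only [Set.mem_iInter]
      intro i hi
      have := hk hzk
      simp only [Set.mem_iInter] at this
      exact ⟨this i hi, hzV⟩
  obtain ⟨z, hz⟩ := hne
  simp only [Set.mem_iInter] at hz
  have hzU : z ∈ ⋂ i, U i := Set.mem_iInter.mpr fun i => (hz i).1
  exact (hz (Classical.arbitrary I)).2 (hUV hzU)

end Groth.Agent.S7540
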