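import Groth.Statements.S7542
-- import your own Groth.Agent.* helpers here

set_option autoImplicit false
universe u
open ConstrTop

namespace Groth.Agent.S7542

/-- Let X be a topological space such that the quasi-compact opens form a basis for the topology, and
let T ⊆ X be retrocompact in X. Then for any constructible subset E ⊆ X, the intersection E ∩ T is
constructible in T (with the induced topology). -/
theorem result {X : Type u} [TopologicalSpace X] [PrespectralSpace X]
    (T : Set X) (hT : IsRetrocompact T) (E : Set X) (hE : Topology.IsConstructible E) :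
    Topology.IsConstructible ((Subtype.val : T → X) ⁻¹' E) := by
  refine hE.preimage continuous_subtype_val ?_
  intro U hUo hUr V hVc hVo
  obtain ⟨V', hV'o, rfl⟩ := isOpen_induced_iff.mp hVo
  have hVc' : IsCompact ((Subtype.val : T → X) '' (Subtype.val ⁻¹' V')) :=
    hVc.image continuous_subtype_val
  obtain ⟨W, hWc, hWo, hVW, hWV'⟩ :=
    PrespectralSpace.exists_isCompact_and_isOpen_between hVc' hV'o (by
      rintro _ ⟨x, hx, rfl⟩
      exact hx)
  have h1 : (Subtype.val : T → X) ⁻¹' V' = Subtype.val ⁻¹' W := by
    ext x
    constructor
    · intro hx
      exact hVW ⟨x, hx, rfl⟩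
    · intro hx
      exact hWV' hx
  rw [h1, ← Set.preimage_inter, Topology.IsEmbedding.subtypeVal.isCompact_iff,
    Set.image_preimage_eq_inter_range, Subtype.range_coe_subtype, Set.inter_comm]
  exact hT (hUr hWc hWo) (hUo.inter hWo)

end Groth.Agent.S7542
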