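import Groth.Statements.S7544
-- import your own Groth.Agent.* helpers here

set_option autoImplicit false
universe u
open ConstrTop

namespace Groth.Agent.S7544

/-- Let X be a quasi-compact topological space whose quasi-compact opens form a basis and are closed
under pairwise intersection. Take T ⊆ X to be locally closed, quasi-compact, and with retrocompact
complement. Then T is constructible in X. -/
theorem result {X : Type u} [TopologicalSpace X]
    [CompactSpace X] [PrespectralSpace X] [QuasiSeparatedSpace X]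
    (T : Set X) (hT : IsLocallyClosed T) (hTc : IsCompact T) (hTr : IsRetrocompact Tᶜ) :
    Topology.IsConstructible T := by
  obtain ⟨U, Z, hU, hZ, rfl⟩ := hT
  obtain ⟨W, hWc, hWo, hTW, hWU⟩ :=
    PrespectralSpace.exists_isCompact_and_isOpen_between hTc hU Set.inter_subset_left
  have h1 : (U ∩ Z)ᶜ ∩ W = W ∩ Zᶜ := by
    ext x
    simp only [Set.mem_inter_iff, Set.mem_compl_iff, not_and]
    constructor
    · rintro ⟨h, hw⟩
      exact ⟨hw, h (hWU hw)⟩
    · rintro ⟨hw, hz⟩
      exact ⟨fun _ => hz, hw⟩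
  have h2 : IsCompact (W ∩ Zᶜ) := h1 ▸ hTr hWc hWo
  have h3 : IsOpen (W ∩ Zᶜ) := hWo.inter hZ.isOpen_compl
  have h4 : U ∩ Z = W \ (W ∩ Zᶜ) := by
    ext x
    simp only [Set.mem_inter_iff, Set.mem_sdiff, Set.mem_compl_iff, not_and, not_not]
    constructor
    · rintro ⟨hu, hz⟩
      exact ⟨hTW ⟨hu, hz⟩, fun _ => hz⟩
    · rintro ⟨hw, hz⟩
      exact ⟨hWU hw, hz hw⟩
  rw [h4]
  exact (hWc.isConstructible hWo).sdiff (h2.isConstructible h3)

end Groth.Agent.S7544
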