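import Groth.Statements.S7546
import Mathlib
-- import your own Groth.Agent.* helpers here

set_option autoImplicit false
universe u
open ConstrTop

namespace Groth.Agent.S7546

/-- Let X be a topological space, Z ⊆ X irreducible and E ⊆ X a finite union of locally closed subsets
(for instance a constructible set). Then E ∩ Z is dense in Z if and only if E ∩ Z contains a subset
of the form U ∩ Z, U open in X, which is dense in Z. If moreover ξ ∈ Z is a generic point of Z,
these conditions are equivalent to ξ ∈ E. -/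
theorem result {X : Type u} [TopologicalSpace X] (Z : Set X) (hZ : IsIrreducible Z)
    {n : ℕ} (L : Fin n → Set X) (hL : ∀ i, IsLocallyClosed (L i)) (E : Set X) (hE : E = ⋃ i, L i) :
    (Z ⊆ closure (E ∩ Z) ↔ ∃ U : Set X, IsOpen U ∧ U ∩ Z ⊆ E ∧ Z ⊆ closure (U ∩ Z)) ∧
    (∀ ξ : X, ξ ∈ Z → Z ⊆ closure {ξ} → (Z ⊆ closure (E ∩ Z) ↔ ξ ∈ E)) := by
  classical
  have hA : Z ⊆ closure (E ∩ Z) ↔ ∃ U : Set X, IsOpen U ∧ U ∩ Z ⊆ E ∧ Z ⊆ closure (U ∩ Z) := by
    constructor
    · intro h
      have hcl : closure (E ∩ Z) = ⋃ i, closure (L i ∩ Z) := by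
        rw [hE, Set.iUnion_inter, closure_iUnion_of_finite]
      rw [hcl] at h
      have := (isIrreducible_iff_sUnion_isClosed.mp hZ)
        (Finset.univ.image fun i => closure (L i ∩ Z)) (by
          intro z hz
          obtain ⟨i, _, rfl⟩ := Finset.mem_image.mp hz
          exact isClosed_closure) (by
          intro x hx
          obtain ⟨i, hi⟩ := Set.mem_iUnion.mp (h hx)
          exact Set.mem_sUnion.mpr ⟨_, by simpa using ⟨i, rfl⟩, hi⟩)
      obtain ⟨z, hz, hZz⟩ := this
      obtain ⟨i, _, rfl⟩ := Finset.mem_image.mp hz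
      obtain ⟨O, C, hO, hC, hOC⟩ := hL i
      have hZC : Z ⊆ C := by
        refine hZz.trans (closure_minimal ?_ hC)
        rw [hOC]
        exact fun x hx => hx.1.2
      refine ⟨O, hO, ?_, ?_⟩
      · intro x hx
        rw [hE]
        exact Set.mem_iUnion.mpr ⟨i, by rw [hOC]; exact ⟨hx.1, hZC hx.2⟩⟩
      · refine hZz.trans (closure_mono ?_)
        rw [hOC]
        exact fun x hx => ⟨hx.1.1, hx.2⟩
    · rintro ⟨U, _, hUE, hUZ⟩
      exact hUZ.trans (closure_mono fun x hx => ⟨hUE hx, hx.2⟩)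
  refine ⟨hA, fun ξ hξZ hξ => ⟨fun h => ?_, fun h => ?_⟩⟩
  · obtain ⟨U, hU, hUE, hUZ⟩ := hA.mp h
    have hne : (U ∩ Z).Nonempty := by
      by_contra hne
      rw [Set.not_nonempty_iff_eq_empty] at hne
      rw [hne, closure_empty] at hUZ
      exact hUZ hξZ
    obtain ⟨z, hzU, hzZ⟩ := hne
    have : ξ ⤳ z := specializes_iff_mem_closure.mpr (hξ hzZ)
    exact hUE ⟨this.mem_open hU hzU, hξZ⟩
  · exact hξ.trans (closure_mono (Set.singleton_subset_iff.mpr ⟨h, hξZ⟩))

end Groth.Agent.S7546
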