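import Groth.Statements.S7547
-- import your own Groth.Agent.* helpers here

set_option autoImplicit false
universe u
open PtTop

namespace Groth.Agent.S7547

/-- Let X be a Kolmogorov topological space whose quasi-compact opens form a basis for the topology. If
X is not Jacobson, there is a point x ∈ X which is not closed but such that {x} is locally closed. -/
theorem result {X : Type u} [TopologicalSpace X]
    [T0Space X] [PrespectralSpace X] (hX : ¬ JacobsonSpace X) :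
    ∃ x : X, ¬ IsClosed ({x} : Set X) ∧ IsLocallyClosed ({x} : Set X) := by
  rw [jacobsonSpace_iff_locallyClosed] at hX
  push Not at hX
  obtain ⟨Z, ⟨z, hz⟩, hZl, hZc⟩ := hX
  obtain ⟨U, C, hU, hC, rfl⟩ := hZl
  obtain ⟨V, ⟨hVo, hVc⟩, hzV, hVU⟩ :=
    PrespectralSpace.isTopologicalBasis.exists_subset_of_mem_open hz.1 hU
  have hK : IsCompact (V ∩ C) := hVc.inter_right hC
  have : CompactSpace ↥(V ∩ C) := isCompact_iff_compactSpace.mp hK
  have : Nonempty ↥(V ∩ C) := ⟨⟨z, hzV, hz.2⟩⟩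
  obtain ⟨x, -, hx⟩ := IsClosed.exists_closed_singleton (X := ↥(V ∩ C)) isClosed_univ
    Set.univ_nonempty
  obtain ⟨D, hD, hDx⟩ := isClosed_induced_iff.mp hx
  have hxD : ({x.1} : Set X) = V ∩ (D ∩ C) := by
    ext y
    constructor
    · rintro rfl
      have : x ∈ Subtype.val ⁻¹' D := by rw [hDx]; rfl
      exact ⟨x.2.1, this, x.2.2⟩
    · rintro ⟨hyV, hyD, hyC⟩
      have : (⟨y, hyV, hyC⟩ : ↥(V ∩ C)) ∈ Subtype.val ⁻¹' D := hyD
      rw [hDx] at this
      have h2 : (⟨y, hyV, hyC⟩ : ↥(V ∩ C)) = x := this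
      rw [← h2]
      rfl
  refine ⟨x.1, ?_, ?_⟩
  · intro hcl
    have hmem : x.1 ∈ U ∩ C ∩ closedPoints X := ⟨⟨hVU x.2.1, x.2.2⟩, hcl⟩
    rw [hZc] at hmem
    exact hmem
  · rw [hxD]
    exact ⟨V, D ∩ C, hVo, hD.inter hC, rfl⟩

end Groth.Agent.S7547
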