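import Groth.Statements.S7548
import Mathlib
-- import your own Groth.Agent.* helpers here

set_option autoImplicit false
universe u
open PtTop

namespace Groth.Agent.S7548

/-- Let X be a Jacobson space and let T = ⋃ T_i be a union of subsets T_i ⊆ X each locally closed in X
(open, closed, locally closed and constructible subsets are of this form). Then T is Jacobson and
every point of T closed in T is closed in X. -/
theorem result {X : Type u} [TopologicalSpace X] [JacobsonSpace X]
    {ι : Type u} (T : ι → Set X) (hT : ∀ i, IsLocallyClosed (T i)) :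
    JacobsonSpace ↥(⋃ i, T i) ∧
      closedPoints ↥(⋃ i, T i) ⊆ (Subtype.val : ↥(⋃ i, T i) → X) ⁻¹' closedPoints X := by
  set TT : Set X := ⋃ i, T i with hTT
  have hA : (Subtype.val : TT → X) ⁻¹' closedPoints X ⊆ closedPoints TT :=
    preimage_closedPoints_subset Subtype.val_injective continuous_subtype_val
  have hB : ∀ Z : Set TT, IsClosed Z → Z ⊆ closure (Z ∩ (Subtype.val : TT → X) ⁻¹' closedPoints X) := by
    intro Z hZ z hz
    obtain ⟨Z', hZ', rfl⟩ := isClosed_induced_iff.mp hZ
    obtain ⟨i, hi⟩ := Set.mem_iUnion.mp z.2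
    have hS : IsLocallyClosed (Z' ∩ T i) := hZ'.isLocallyClosed.inter (hT i)
    have h1 := JacobsonSpace.closure_inter_closedPoints_eq_closure hS
    rw [Topology.IsInducing.subtypeVal.closure_eq_preimage_closure_image]
    show (z : X) ∈ closure _
    have h2 : (z : X) ∈ closure (Z' ∩ T i) := subset_closure ⟨hz, hi⟩
    rw [← h1] at h2
    refine closure_mono ?_ h2
    rintro y ⟨⟨hy1, hy2⟩, hy3⟩
    exact ⟨⟨y, Set.mem_iUnion.mpr ⟨i, hy2⟩⟩, ⟨hy1, hy3⟩, rfl⟩
  refine ⟨⟨fun {Z} hZ => ?_⟩, ?_⟩
  · apply Set.Subset.antisymm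
    · exact closure_minimal Set.inter_subset_left hZ
    · exact (hB Z hZ).trans (closure_mono (Set.inter_subset_inter_right _ hA))
  · intro t ht
    have h1 := hB {t} ht
    have h2 : t ∈ closure ({t} ∩ (Subtype.val : TT → X) ⁻¹' closedPoints X) := h1 rfl
    by_contra hcon
    have : ({t} ∩ (Subtype.val : TT → X) ⁻¹' closedPoints X) = ∅ := by
      ext y
      simp only [Set.mem_inter_iff, Set.mem_singleton_iff, Set.mem_empty_iff_false, iff_false, not_and]
      rintro rfl
      exact hcon
    rw [this, closure_empty] at h2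
    exact h2

end Groth.Agent.S7548
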