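import Groth.Statements.S7550
import Mathlib
-- import your own Groth.Agent.* helpers here

set_option autoImplicit false
universe u
open PtTop

namespace Groth.Agent.S7550

/-- Let f : X → Y be a continuous and open map of topological spaces, with X Noetherian, every
irreducible closed subset of X having a generic point, and Y Kolmogorov. Then generalizations lift
along f. (Part (1), closed maps are specializing, is a library fact.) -/
theorem result {X Y : Type u} [TopologicalSpace X] [TopologicalSpace Y]
    [TopologicalSpace.NoetherianSpace X] [QuasiSober X] [T0Space Y]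
    (f : X → Y) (hf : Continuous f) (hfo : IsOpenMap f) :
    GeneralizingMap f := by
  intro x y' hb
  set T : Set X := f ⁻¹' {y'} with hT
  have hxT : x ∈ closure T := by
    rw [mem_closure_iff]
    intro U hU hxU
    have h1 : y' ∈ f '' U := hb.mem_open (hfo U hU) ⟨x, hxU, rfl⟩
    obtain ⟨z, hz, hfz⟩ := h1
    exact ⟨z, hz, hfz⟩
  -- minimal closed set
  let P : Set (TopologicalSpace.Closeds X) := {Z | x ∈ closure ((Z : Set X) ∩ T)}
  have hPne : P.Nonempty := ⟨⊤, by simpa [P] using hxT⟩
  obtain ⟨Z, hZP, hZmin⟩ := wellFounded_lt.has_min P hPne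
  have hZx : x ∈ closure ((Z : Set X) ∩ T) := hZP
  have hZdense : closure ((Z : Set X) ∩ T) = (Z : Set X) := by
    apply Set.Subset.antisymm
    · exact closure_minimal Set.inter_subset_left Z.isClosed
    · by_contra hcon
      let Z' : TopologicalSpace.Closeds X := ⟨closure ((Z : Set X) ∩ T), isClosed_closure⟩
      have hle : Z' ≤ Z := closure_minimal Set.inter_subset_left Z.isClosed
      have hlt : Z' < Z := lt_of_le_of_ne hle (by
        intro h
        apply hcon
        have h2 : (Z' : Set X) = (Z : Set X) := congrArg _ h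
        exact h2.symm.subset)
      apply hZmin Z' _ hlt
      show x ∈ closure ((Z' : Set X) ∩ T)
      refine closure_mono ?_ hZx
      intro z hz
      exact ⟨subset_closure hz, hz.2⟩
  have hZne : ((Z : Set X) ∩ T).Nonempty := by
    by_contra h
    rw [Set.not_nonempty_iff_eq_empty] at h
    rw [h, closure_empty] at hZx
    exact hZx
  have hZirr : IsIrreducible (Z : Set X) := by
    refine ⟨hZne.mono Set.inter_subset_left, ?_⟩
    rw [isPreirreducible_iff_isClosed_union_isClosed]
    intro z₁ z₂ hz₁ hz₂ hsub
    have hcov : (Z : Set X) ∩ T = ((Z : Set X) ∩ z₁ ∩ T) ∪ ((Z : Set X) ∩ z₂ ∩ T) := by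
      ext w
      constructor
      · rintro ⟨hw1, hw2⟩
        rcases hsub hw1 with h | h
        · exact Or.inl ⟨⟨hw1, h⟩, hw2⟩
        · exact Or.inr ⟨⟨hw1, h⟩, hw2⟩
      · rintro (⟨⟨hw1, _⟩, hw2⟩ | ⟨⟨hw1, _⟩, hw2⟩) <;> exact ⟨hw1, hw2⟩
    rw [hcov, closure_union] at hZx
    have aux : ∀ z : Set X, IsClosed z → x ∈ closure ((Z : Set X) ∩ z ∩ T) → (Z : Set X) ⊆ z := by
      intro z hz hxz
      let Z' : TopologicalSpace.Closeds X := ⟨(Z : Set X) ∩ z, Z.isClosed.inter hz⟩
      have hle : Z' ≤ Z := Set.inter_subset_left
      by_contra hcon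
      have hlt : Z' < Z := lt_of_le_of_ne hle (by
        intro h
        apply hcon
        have h2 : (Z' : Set X) = (Z : Set X) := congrArg _ h
        rw [← h2]
        exact Set.inter_subset_right)
      exact hZmin Z' hxz hlt
    rcases hZx with h | h
    · exact Or.inl (aux z₁ hz₁ h)
    · exact Or.inr (aux z₂ hz₂ h)
  have hgen := hZirr.isGenericPoint_genericPoint Z.isClosed
  set ξ := hZirr.genericPoint with hξ
  refine ⟨ξ, ?_, ?_⟩
  · show ξ ⤳ x
    rw [specializes_iff_mem_closure, hgen.def]
    exact closure_minimal Set.inter_subset_left Z.isClosed hZx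
  · apply Inseparable.eq
    apply Specializes.antisymm
    · -- f ξ ⤳ y'
      rw [specializes_iff_forall_open]
      intro V hV hyV
      have h1 : ξ ∈ f ⁻¹' V := by
        rw [hgen.mem_open_set_iff (hV.preimage hf)]
        obtain ⟨w, hw1, hw2⟩ := hZne
        refine ⟨w, hw1, ?_⟩
        show f w ∈ V
        have : f w = y' := hw2
        rw [this]; exact hyV
      exact h1
    · -- y' ⤳ f ξ
      rw [specializes_iff_mem_closure]
      have h1 : (Z : Set X) ⊆ f ⁻¹' closure {y'} := by
        rw [← hZdense]
        apply closure_minimal _ (isClosed_closure.preimage hf)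
        intro w hw
        have : f w = y' := hw.2
        show f w ∈ closure {y'}
        rw [this]; exact subset_closure rfl
      exact h1 hgen.mem

end Groth.Agent.S7550
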