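import Groth.Statements.S7551
-- import your own Groth.Agent.* helpers here

set_option autoImplicit false
universe u
open PtTop

namespace Groth.Agent.S7551

/-- Let s, t : R → U and π : U → X be continuous maps between topological spaces satisfying: (1) π is an
open map, (2) U is a sober space, (3) s and t have finite fibres, (4) generalizations lift along s
and along t, and (5) the image of (t, s) : R → U × U is an equivalence relation on U and π
identifies X, as a set, with the quotient of U by it. Then X is Kolmogorov. -/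
theorem result {R U X : Type u}
    [TopologicalSpace R] [TopologicalSpace U] [TopologicalSpace X] [QuasiSober U] [T0Space U]
    (s t : R → U) (π : U → X) (hs : Continuous s) (ht : Continuous t) (hπ : Continuous π)
    (hπo : IsOpenMap π) (hsf : ∀ u, (s ⁻¹' {u}).Finite) (htf : ∀ u, (t ⁻¹' {u}).Finite)
    (hsg : GeneralizingMap s) (htg : GeneralizingMap t)
    (hE : Equivalence fun u u' : U => ∃ r, t r = u ∧ s r = u')
    (hπs : Function.Surjective π) (hπq : ∀ u u' : U, π u = π u' ↔ ∃ r, t r = u ∧ s r = u') :
    T0Space X := by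
  classical
  -- fibres of π are finite
  have hfin : ∀ u : U, (π ⁻¹' {π u}).Finite := by
    intro u
    refine ((htf u).image s).subset ?_
    intro u' hu'
    obtain ⟨r, hr1, hr2⟩ := (hπq u u').mp (Eq.symm hu')
    exact ⟨r, hr1, hr2⟩
  -- key: lifts of specializations
  have key : ∀ x x' : X, x ⤳ x' → ∀ v, π v = x' → ∃ u, π u = x ∧ u ⤳ v := by
    intro x x' hxx' v hv
    obtain ⟨u0, rfl⟩ := hπs x
    set F : Set U := π ⁻¹' {π u0} with hF
    set C : Set U := ⋃ u ∈ F, closure {u} with hC
    have hCcl : IsClosed C := (hfin u0).isClosed_biUnion fun u _ => isClosed_closure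
    have hCsat : ∀ v v', v ∈ C → π v = π v' → v' ∈ C := by
      intro v v' hvC hvv'
      simp only [hC, Set.mem_iUnion, exists_prop] at hvC ⊢
      obtain ⟨u, huF, huv⟩ := hvC
      obtain ⟨r', hr'1, hr'2⟩ := (hπq v' v).mp hvv'.symm
      have h1 : u ⤳ s r' := by rw [hr'2]; exact specializes_iff_mem_closure.mpr huv
      obtain ⟨r, hr, hsr⟩ := hsg h1
      refine ⟨t r, ?_, ?_⟩
      · have : π (t r) = π u := (hπq (t r) u).mpr ⟨r, rfl, hsr⟩
        exact this.trans huF
      · rw [← hr'1]
        exact specializes_iff_mem_closure.mp (hr.map ht)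
    have hπC : IsClosed (π '' C) := by
      have h2 : π '' C = (π '' Cᶜ)ᶜ := by
        ext y
        simp only [Set.mem_image, Set.mem_compl_iff, not_exists, not_and]
        constructor
        · rintro ⟨c, hc, rfl⟩ c' hc' hcc'
          exact hc' (hCsat c c' hc hcc'.symm)
        · intro hy
          obtain ⟨c, rfl⟩ := hπs y
          refine ⟨c, ?_, rfl⟩
          by_contra hc
          exact hy c hc rfl
      rw [h2]
      exact (hπo _ hCcl.isOpen_compl).isClosed_compl
    have hu0C : u0 ∈ C := by
      simp only [hC, Set.mem_iUnion, exists_prop]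
      exact ⟨u0, rfl, subset_closure rfl⟩
    have hsub : ({π u0} : Set X) ⊆ π '' C := by
      rintro _ rfl
      exact ⟨u0, hu0C, rfl⟩
    have hx' : x' ∈ π '' C :=
      closure_minimal hsub hπC (specializes_iff_mem_closure.mp hxx')
    obtain ⟨c, hcC, hcx'⟩ := hx'
    have hvC : v ∈ C := hCsat c v hcC (hcx'.trans hv.symm)
    simp only [hC, Set.mem_iUnion, exists_prop] at hvC
    obtain ⟨u, huF, huv⟩ := hvC
    exact ⟨u, huF, specializes_iff_mem_closure.mpr huv⟩
  refine ⟨fun x x' hxx' => ?_⟩
  obtain ⟨u0, rfl⟩ := hπs x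
  obtain ⟨u0', rfl⟩ := hπs x'
  let _ := specializationPreorder U
  obtain ⟨w, hwG, hwmax⟩ := ((hfin u0).union (hfin u0')).exists_maximal ⟨u0, Or.inl rfl⟩
  rcases hwG with hw | hw
  · obtain ⟨v, hv1, hv2⟩ := key (π u0') (π u0) hxx'.specializes' w hw
    have h3 : w ⤳ v := hwmax (Or.inr hv1) hv2
    have h4 : v = w := (hv2.antisymm h3).eq
    rw [← hv1, h4, hw]
  · obtain ⟨v, hv1, hv2⟩ := key (π u0) (π u0') hxx'.specializes w hw
    have h3 : w ⤳ v := hwmax (Or.inl hv1) hv2
    have h4 : v = w := (hv2.antisymm h3).eq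
    rw [← hv1, h4, hw]

end Groth.Agent.S7551
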