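import Groth.Statements.S7559
import Groth.Agent.Lib.Helper11.Strat

set_option autoImplicit false
universe u
open PtTop

namespace Groth.Agent.S7559

/-- Let X be a topological space and X = ∐ P_k a finite partition into locally closed parts. Then there
is a finite stratification of X refining it: a finite partially ordered index set I and pairwise
disjoint locally closed strata S_i covering X with closure(S_j) ⊆ ⋃_{i ≤ j} S_i, such that every
part P_k is a union of strata. -/
theorem result {X : Type u} [TopologicalSpace X]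
    {n : ℕ} (P : Fin n → Set X) (hP : ∀ k, IsLocallyClosed (P k)) (hcov : ⋃ k, P k = Set.univ)
    (hdisj : ∀ k k', k ≠ k' → Disjoint (P k) (P k')) :
    ∃ (I : Type) (_ : Fintype I) (_ : PartialOrder I) (S : I → Set X),
      (∀ i, IsLocallyClosed (S i)) ∧ (⋃ i, S i = Set.univ) ∧ (∀ i j, i ≠ j → Disjoint (S i) (S j)) ∧
      (∀ j, closure (S j) ⊆ ⋃ i ∈ Set.Iic j, S i) ∧
      (∀ i k, (S i ∩ P k).Nonempty → S i ⊆ P k) := by
  classical
  have hZ : ∀ k : Fin (n + n), IsClosed
      (Fin.append (fun k => closure (P k)) (fun k => closure (P k) \ P k) k) := by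
    intro k
    refine Fin.addCases (fun k => ?_) (fun k => ?_) k
    · rw [Fin.append_left]
      exact isClosed_closure
    · rw [Fin.append_right]
      have h := (isLocallyClosed_iff_isOpen_coborder.mp (hP k)).isClosed_compl
      rwa [coborder, compl_compl] at h
  obtain ⟨I, hI, hI', S, h1, h2, h3, h4, h5, h6⟩ :=
    Groth.Agent.Helper11.exists_stratification_of_closed _ hZ
  refine ⟨I, hI, hI', S, ?_, h2, h3, h4, ?_⟩
  · intro i
    obtain ⟨σ, hσ⟩ := h1 i
    refine ⟨_, _, ?_, ?_, hσ⟩
    · exact (isClosed_biUnion_finset fun k _ => hZ k).isOpen_compl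
    · exact isClosed_biInter fun k _ => hZ k
  · rintro i k ⟨x, hx, hxk⟩ y hy
    have ha := h5 i (Fin.castAdd n k) ⟨x, hx, by
      rw [Fin.append_left]
      exact subset_closure hxk⟩ hy
    have hb := h6 i (Fin.natAdd n k) ⟨x, hx, by
      rw [Fin.append_right]
      exact fun h => h.2 hxk⟩ hy
    rw [Fin.append_left] at ha
    rw [Fin.append_right] at hb
    by_contra hyk
    exact hb ⟨ha, hyk⟩

end Groth.Agent.S7559
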