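import Groth.Statements.S7560
import Groth.Agent.Lib.Helper11.Strat
import Groth.Agent.Lib.Helper11.Constr

set_option autoImplicit false
universe u
open ConstrTop

namespace Groth.Agent.S7560

/-- Let X be a topological space written as a finite union X = T_1 ∪ … ∪ T_n of constructible subsets.
Then there is a finite stratification X = ∐ S_i (pairwise disjoint locally closed strata indexed by
a finite partially ordered set, with closure(S_j) ⊆ ⋃_{i ≤ j} S_i) whose strata are constructible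
and such that every T_k is a union of strata. -/
theorem result {X : Type u} [TopologicalSpace X]
    {n : ℕ} (T : Fin n → Set X) (hT : ∀ k, Topology.IsConstructible (T k)) (hcov : ⋃ k, T k = Set.univ) :
    ∃ (I : Type) (_ : Fintype I) (_ : PartialOrder I) (S : I → Set X),
      (∀ i, IsLocallyClosed (S i) ∧ Topology.IsConstructible (S i)) ∧ (⋃ i, S i = Set.univ) ∧
      (∀ i j, i ≠ j → Disjoint (S i) (S j)) ∧
      (∀ j, closure (S j) ⊆ ⋃ i ∈ Set.Iic j, S i) ∧
      (∀ i k, (S i ∩ T k).Nonempty → S i ⊆ T k) := by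
  classical
  choose t ht hTt using fun k => Groth.Agent.Helper11.isConstructible_exists_finset_sdiff (hT k)
  let 𝒰 : Finset (Set X) :=
    Finset.univ.biUnion fun k => (t k).image Prod.fst ∪ (t k).image Prod.snd
  have h𝒰 : ∀ U ∈ 𝒰, IsOpen U ∧ IsRetrocompact U := by
    intro U hU
    simp only [𝒰, Finset.mem_biUnion, Finset.mem_univ, true_and, Finset.mem_union,
      Finset.mem_image] at hU
    obtain ⟨k, ⟨p, hp, rfl⟩ | ⟨p, hp, rfl⟩⟩ := hU
    · exact (ht k p hp).1
    · exact (ht k p hp).2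
  have hfst : ∀ k, ∀ p ∈ t k, p.1 ∈ 𝒰 := by
    intro k p hp
    simp only [𝒰, Finset.mem_biUnion, Finset.mem_univ, true_and, Finset.mem_union,
      Finset.mem_image]
    exact ⟨k, Or.inl ⟨p, hp, rfl⟩⟩
  have hsnd : ∀ k, ∀ p ∈ t k, p.2 ∈ 𝒰 := by
    intro k p hp
    simp only [𝒰, Finset.mem_biUnion, Finset.mem_univ, true_and, Finset.mem_union,
      Finset.mem_image]
    exact ⟨k, Or.inr ⟨p, hp, rfl⟩⟩
  let e := 𝒰.equivFin
  let Z : Fin 𝒰.card → Set X := fun j => ((e.symm j).1)ᶜ
  have hZ : ∀ j, IsClosed (Z j) := fun j => (h𝒰 _ (e.symm j).2).1.isClosed_compl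
  have hZc : ∀ j, Topology.IsConstructible (Z j) := fun j =>
    ((h𝒰 _ (e.symm j).2).2.isConstructible (h𝒰 _ (e.symm j).2).1).compl
  have hZe : ∀ U (hU : U ∈ 𝒰), Z (e ⟨U, hU⟩) = Uᶜ := by
    intro U hU
    simp only [Z, Equiv.symm_apply_apply]
  obtain ⟨I, hI, hI', S, h1, h2, h3, h4, h5, h6⟩ :=
    Groth.Agent.Helper11.exists_stratification_of_closed Z hZ
  refine ⟨I, hI, hI', S, ?_, h2, h3, h4, ?_⟩
  · intro i
    obtain ⟨σ, hσ⟩ := h1 i
    refine ⟨⟨_, _, ?_, ?_, hσ⟩, ?_⟩
    · exact (isClosed_biUnion_finset fun k _ => hZ k).isOpen_compl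
    · exact isClosed_biInter fun k _ => hZ k
    · rw [hσ]
      refine Topology.IsConstructible.inter (Topology.IsConstructible.compl ?_) ?_
      · exact Topology.IsConstructible.biUnion (t := (↑(σᶜ) : Set _)) (Finset.finite_toSet _)
          fun k _ => hZc k
      · exact Topology.IsConstructible.biInter (t := (↑σ : Set _)) (Finset.finite_toSet _)
          fun k _ => hZc k
  · rintro i k ⟨x, hx, hxk⟩ y hy
    rw [hTt k] at hxk ⊢
    simp only [Set.mem_iUnion, exists_prop] at hxk ⊢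
    obtain ⟨p, hp, hx1, hx2⟩ := hxk
    refine ⟨p, hp, ?_, ?_⟩
    · have hb := h6 i (e ⟨p.1, hfst k p hp⟩) ⟨x, hx, by
        rw [hZe, compl_compl]
        exact hx1⟩ hy
      rwa [hZe, compl_compl] at hb
    · have ha := h5 i (e ⟨p.2, hsnd k p hp⟩) ⟨x, hx, by
        rw [hZe]
        exact hx2⟩ hy
      rwa [hZe] at ha

end Groth.Agent.S7560
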