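import Groth.Statements.S7561
import Groth.Agent.Lib.Helper11.GoodStrat

set_option autoImplicit false
universe u
open PtTop

namespace Groth.Agent.S7561

/-- Let X be a Noetherian topological space and X = ∐ P_k a finite partition into locally closed parts.
Then it is refined by a finite good stratification: a finite partition X = ∐ S_i into locally closed
strata such that S_i ∩ closure(S_j) ≠ ∅ implies S_i ⊆ closure(S_j), with every P_k a union of
strata. -/
theorem result {X : Type u} [TopologicalSpace X]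
    [TopologicalSpace.NoetherianSpace X]
    {n : ℕ} (P : Fin n → Set X) (hP : ∀ k, IsLocallyClosed (P k)) (hcov : ⋃ k, P k = Set.univ)
    (hdisj : ∀ k k', k ≠ k' → Disjoint (P k) (P k')) :
    ∃ (m : ℕ) (S : Fin m → Set X),
      (∀ i, IsLocallyClosed (S i)) ∧ (⋃ i, S i = Set.univ) ∧ (∀ i j, i ≠ j → Disjoint (S i) (S j)) ∧
      (∀ i j, (S i ∩ closure (S j)).Nonempty → S i ⊆ closure (S j)) ∧
      (∀ i k, (S i ∩ P k).Nonempty → S i ⊆ P k) := by
  classical
  let 𝒵 : Finset (Set X) := Finset.univ.image (fun k => closure (P k)) ∪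
    Finset.univ.image (fun k => closure (P k) \ P k)
  have h𝒵 : ∀ Z ∈ 𝒵, IsClosed Z := by
    intro Z hZ
    simp only [𝒵, Finset.mem_union, Finset.mem_image, Finset.mem_univ, true_and] at hZ
    obtain ⟨k, rfl⟩ | ⟨k, rfl⟩ := hZ
    · exact isClosed_closure
    · have h := (isLocallyClosed_iff_isOpen_coborder.mp (hP k)).isClosed_compl
      rwa [coborder, compl_compl] at h
  obtain ⟨𝒮, h1, h2, h3, h4, h5⟩ :=
    Groth.Agent.Helper11.exists_good_stratification_closeds (⊤ : TopologicalSpace.Closeds X) 𝒵 h𝒵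
  let e := 𝒮.equivFin
  refine ⟨𝒮.card, fun i => (e.symm i).1, ?_, ?_, ?_, ?_, ?_⟩
  · intro i
    exact h1 _ (e.symm i).2
  · rw [Set.eq_univ_iff_forall]
    intro x
    have hx : x ∈ ⋃ S ∈ 𝒮, S := by rw [h2]; trivial
    simp only [Set.mem_iUnion, exists_prop] at hx ⊢
    obtain ⟨S, hS, hxS⟩ := hx
    exact ⟨e ⟨S, hS⟩, by simpa using hxS⟩
  · intro i j hij
    refine h3 _ (e.symm i).2 _ (e.symm j).2 ?_
    intro h
    exact hij (e.symm.injective (Subtype.ext h))
  · intro i j
    exact h4 _ (e.symm i).2 _ (e.symm j).2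
  · rintro i k ⟨x, hx, hxk⟩ y hy
    have hmem1 : closure (P k) ∈ 𝒵 := by
      simp only [𝒵, Finset.mem_union, Finset.mem_image, Finset.mem_univ, true_and]
      exact Or.inl ⟨k, rfl⟩
    have hmem2 : closure (P k) \ P k ∈ 𝒵 := by
      simp only [𝒵, Finset.mem_union, Finset.mem_image, Finset.mem_univ, true_and]
      exact Or.inr ⟨k, rfl⟩
    have ha := h5 _ (e.symm i).2 _ hmem1 ⟨x, hx, subset_closure hxk⟩ hy
    by_contra hyk
    have hb := h5 _ (e.symm i).2 _ hmem2 ⟨y, hy, ha, hyk⟩ hx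
    exact hb.2 hxk

end Groth.Agent.S7561
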