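import Groth.Statements.S7563
import Mathlib
-- import your own Groth.Agent.* helpers here

set_option autoImplicit false
universe u
open PtTop

namespace Groth.Agent.S7563

/-- Let X be a topological space and X = X_1 ∪ … ∪ X_n with each X_i irreducible and closed and no X_i
contained in the union of the others. Then the irreducible components of X are precisely the sets
X_1, …, X_n. -/
theorem result {X : Type u} [TopologicalSpace X]
    {n : ℕ} (Z : Fin n → Set X) (hZ : ∀ i, IsIrreducible (Z i) ∧ IsClosed (Z i))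
    (hcov : ⋃ i, Z i = Set.univ) (hirr : ∀ i, ¬ Z i ⊆ ⋃ j ∈ ({i}ᶜ : Set (Fin n)), Z j) :
    irreducibleComponents X = Set.range Z := by
  classical
  have hsub : ∀ S : Set X, IsIrreducible S → ∃ j, S ⊆ Z j := by
    intro S hS
    have := (isIrreducible_iff_sUnion_isClosed.mp hS) (Finset.univ.image Z) (by
      intro z hz
      obtain ⟨i, _, rfl⟩ := Finset.mem_image.mp hz
      exact (hZ i).2) (by
      intro x _
      have hx : x ∈ ⋃ i, Z i := by rw [hcov]; trivial
      obtain ⟨i, hi⟩ := Set.mem_iUnion.mp hx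
      exact Set.mem_sUnion.mpr ⟨Z i, by simp, hi⟩)
    obtain ⟨z, hz, hSz⟩ := this
    obtain ⟨j, _, rfl⟩ := Finset.mem_image.mp hz
    exact ⟨j, hSz⟩
  have hmax : ∀ i, Z i ∈ irreducibleComponents X := by
    intro i
    refine ⟨(hZ i).1, fun S hS hle => ?_⟩
    obtain ⟨j, hj⟩ := hsub S hS
    by_cases hji : j = i
    · subst hji; exact hj
    · exfalso
      apply hirr i
      intro x hx
      exact Set.mem_iUnion₂.mpr ⟨j, hji, hj (hle hx)⟩
  ext S
  constructor
  · intro hS
    obtain ⟨j, hj⟩ := hsub S hS.1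
    exact ⟨j, (Set.Subset.antisymm hj (hS.2 (hZ j).1 hj)).symm ▸ rfl⟩
  · rintro ⟨i, rfl⟩
    exact hmax i

end Groth.Agent.S7563
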