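import Groth.Statements.S7564
import Mathlib
-- import your own Groth.Agent.* helpers here

set_option autoImplicit false
universe u
open PtTop

namespace Groth.Agent.S7564

/-- For a continuous surjection f : X → Y, if X has finitely many irreducible components, say n of them,
then Y has at most n irreducible components. -/
theorem result {X Y : Type u} [TopologicalSpace X] [TopologicalSpace Y]
    (f : X → Y) (hf : Continuous f) (hs : Function.Surjective f) (hfin : (irreducibleComponents X).Finite) :
    (irreducibleComponents Y).Finite ∧ (irreducibleComponents Y).ncard ≤ (irreducibleComponents X).ncard := by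
  classical
  have hsub : irreducibleComponents Y ⊆ (fun Z => closure (f '' Z)) '' irreducibleComponents X := by
    intro T hT
    have := (isIrreducible_iff_sUnion_isClosed.mp hT.1)
      (hfin.toFinset.image (fun Z => closure (f '' Z))) (by
        intro z hz
        obtain ⟨W, _, rfl⟩ := Finset.mem_image.mp hz
        exact isClosed_closure) (by
        intro y _
        obtain ⟨x, rfl⟩ := hs y
        have hx : x ∈ ⋃₀ irreducibleComponents X := by
          rw [sUnion_irreducibleComponents]; trivial
        obtain ⟨W, hW, hxW⟩ := Set.mem_sUnion.mp hx
        refine Set.mem_sUnion.mpr ⟨closure (f '' W), ?_, subset_closure ⟨x, hxW, rfl⟩⟩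
        simp only [Finset.coe_image, Set.Finite.coe_toFinset]
        exact ⟨W, hW, rfl⟩)
    obtain ⟨z, hz, hTz⟩ := this
    obtain ⟨W, hW, rfl⟩ := Finset.mem_image.mp hz
    rw [Set.Finite.mem_toFinset] at hW
    refine ⟨W, hW, ?_⟩
    have hirr : IsIrreducible (closure (f '' W)) :=
      (hW.1.image f hf.continuousOn).closure
    exact Set.Subset.antisymm (hT.2 hirr hTz) hTz
  exact ⟨(hfin.image _).subset hsub,
    (Set.ncard_le_ncard hsub (hfin.image _)).trans (Set.ncard_image_le hfin)⟩

end Groth.Agent.S7564
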