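import Groth.Statements.S7571
import Mathlib
-- import your own Groth.Agent.* helpers here

set_option autoImplicit false
universe u
open CategoryTheory CategoryTheory.Limits
open PtTop

namespace Groth.Agent.S7571

/-- Let j ↦ X_j be a diagram of topological spaces over a cofiltered category with limit X and
projections f_j. (1) Every open of X is a union of subsets of the form f_j⁻¹(U_j) with U_j ⊆ X_j
open. (2) Every quasi-compact open of X equals f_i⁻¹(U_i) for some i and some open U_i ⊆ X_i. -/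
theorem result {J : Type u} [SmallCategory J] [IsCofiltered J]
    (F : J ⥤ TopCat.{u}) (c : Cone F) (hc : IsLimit c) :
    (∀ W : Set c.pt, IsOpen W →
      ∃ S : Set (Σ j, Set (F.obj j)), (∀ s ∈ S, IsOpen s.2) ∧ W = ⋃ s ∈ S, c.π.app s.1 ⁻¹' s.2) ∧
    (∀ W : Set c.pt, IsOpen W → IsCompact W →
      ∃ (i : J) (Ui : Set (F.obj i)), IsOpen Ui ∧ W = c.π.app i ⁻¹' Ui) := by
  classical
  have hbasis := TopCat.isTopologicalBasis_cofiltered_limit.{u, u, u} F c hc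
    (fun j => {V | IsOpen V}) (fun j => TopologicalSpace.isTopologicalBasis_opens)
    (fun i => isOpen_univ) (fun i U1 U2 h1 h2 => IsOpen.inter h1 h2)
    (fun i j f V hV => hV.preimage (F.map f).hom.continuous)
  have key : ∀ W : Set c.pt, IsOpen W → ∀ x ∈ W, ∃ s : (Σ j, Set (F.obj j)),
      IsOpen s.2 ∧ c.π.app s.1 ⁻¹' s.2 ⊆ W ∧ x ∈ c.π.app s.1 ⁻¹' s.2 := by
    intro W hW x hx
    obtain ⟨b, ⟨j, V, hV, rfl⟩, hxb, hbW⟩ := hbasis.exists_subset_of_mem_open hx hW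
    exact ⟨⟨j, V⟩, hV, hbW, hxb⟩
  refine ⟨fun W hW => ?_, fun W hW hWc => ?_⟩
  · refine ⟨{s | IsOpen s.2 ∧ c.π.app s.1 ⁻¹' s.2 ⊆ W}, fun s hs => hs.1, ?_⟩
    apply Set.Subset.antisymm
    · intro x hx
      obtain ⟨s, hs1, hs2, hs3⟩ := key W hW x hx
      exact Set.mem_iUnion₂.mpr ⟨s, ⟨hs1, hs2⟩, hs3⟩
    · intro x hx
      obtain ⟨s, hs, hxs⟩ := Set.mem_iUnion₂.mp hx
      exact hs.2 hxs
  · let S : Set (Σ j, Set (F.obj j)) := {s | IsOpen s.2 ∧ c.π.app s.1 ⁻¹' s.2 ⊆ W}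
    have hcov : W ⊆ ⋃ s : S, c.π.app s.1.1 ⁻¹' s.1.2 := by
      intro x hx
      obtain ⟨s, hs1, hs2, hs3⟩ := key W hW x hx
      exact Set.mem_iUnion.mpr ⟨⟨s, hs1, hs2⟩, hs3⟩
    obtain ⟨t, ht⟩ := hWc.elim_finite_subcover (fun s : S => c.π.app s.1.1 ⁻¹' s.1.2)
      (fun s => s.2.1.preimage (c.π.app s.1.1).hom.continuous) hcov
    obtain ⟨i, hi⟩ := IsCofiltered.inf_objs_exists (t.image fun s : S => s.1.1)
    have g : ∀ s : S, s ∈ t → (i ⟶ s.1.1) := fun s hs =>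
      (hi (Finset.mem_image_of_mem (fun s : S => s.1.1) hs)).some
    refine ⟨i, ⋃ s : S, ⋃ hs : s ∈ t, F.map (g s hs) ⁻¹' s.1.2, ?_, ?_⟩
    · exact isOpen_iUnion fun s => isOpen_iUnion fun hs =>
        s.2.1.preimage (F.map (g s hs)).hom.continuous
    · have hpre : ∀ (s : S) (hs : s ∈ t),
          c.π.app i ⁻¹' (F.map (g s hs) ⁻¹' s.1.2) = c.π.app s.1.1 ⁻¹' s.1.2 := by
        intro s hs
        rw [← Set.preimage_comp]
        have := c.w (g s hs)
        rw [← this]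
        rfl
      simp only [Set.preimage_iUnion, hpre]
      apply Set.Subset.antisymm
      · intro x hx
        obtain ⟨s, hs⟩ := Set.mem_iUnion.mp (ht hx)
        obtain ⟨hst, hxs⟩ := Set.mem_iUnion.mp hs
        exact Set.mem_iUnion.mpr ⟨s, Set.mem_iUnion.mpr ⟨hst, hxs⟩⟩
      · intro x hx
        obtain ⟨s, hs⟩ := Set.mem_iUnion.mp hx
        obtain ⟨hst, hxs⟩ := Set.mem_iUnion.mp hs
        exact s.2.2 hxs

end Groth.Agent.S7571
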