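import Groth.Statements.S7574
import Mathlib
import Groth.Agent.S12443

set_option autoImplicit false
universe u
open CategoryTheory TopologicalSpace
open ShSp

namespace Groth.Agent.S7574

section helpers
set_option linter.unusedSectionVars false
open CategoryTheory TopologicalSpace Opposite
section


variable {X : TopCat.{u}} (U : Opens X)

abbrev incl : TopCat.of U ⟶ X := TopCat.ofHom ⟨Subtype.val, continuous_subtype_val⟩

lemma incl_open : Topology.IsOpenEmbedding (incl U) := U.isOpenEmbedding

/-- restriction ⊣ pushforward -/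
noncomputable def adjR : U.sheafRestrict (C := Type u) ⊣ TopCat.Sheaf.pushforward (Type u) (incl U) :=
  (TopCat.Sheaf.pullbackPushforwardAdjunction (Type u) (incl U)).ofNatIsoLeft
    ((incl_open U).sheafPullbackIso (Type u))

lemma isIso_counit_adjR : IsIso (adjR U).counit := by
  refine @NatIso.isIso_of_isIso_app _ _ _ _ _ _ _ (fun F => ?_)
  have h := Groth.Agent.S12443.result (incl U) (incl_open U) F
  dsimp only [adjR]
  rw [Adjunction.ofNatIsoLeft_counit]
  dsimp
  exact @IsIso.comp_isIso _ _ _ _ _ _ _ inferInstance h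

variable {U}
variable {L : (TopCat.of U).Sheaf (Type u) ⥤ X.Sheaf (Type u)} (adj : L ⊣ U.sheafRestrict (C := Type u))

include adj in
lemma isIso_unit : IsIso adj.unit := by
  let t : Adjunction.Triple L (U.sheafRestrict (C := Type u))
      (TopCat.Sheaf.pushforward (Type u) (incl U)) :=
    { adj₁ := adj
      adj₂ := adjR U }
  have := isIso_counit_adjR U
  exact t.isIso_unit_iff_isIso_counit.2 this

end

section

variable {X : TopCat.{u}} (U : Opens X)

lemma isSheaf_yoneda : Presieve.IsSheaf (Opens.grothendieckTopology X) (yoneda.obj U) := by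
  intro V S hS x hx
  have hVU : V ≤ U := by
    intro y hy
    obtain ⟨W, f, hf, hyW⟩ := hS y hy
    exact (leOfHom (x f hf)) hyW
  exact ⟨homOfLE hVU, fun W f hf => Subsingleton.elim (α := (W ⟶ U)) _ _,
    fun t _ => Subsingleton.elim (α := (V ⟶ U)) _ _⟩

/-- the subterminal sheaf of `U` -/
noncomputable def E : X.Sheaf (Type u) :=
  ⟨yoneda.obj U, (isSheaf_iff_isSheaf_of_type _ _).2 (isSheaf_yoneda U)⟩

/-- unique map to the restriction of `E` -/
noncomputable def toRE (F : (TopCat.of U).Sheaf (Type u)) :
    F ⟶ (U.sheafRestrict (C := Type u)).obj (E U) :=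
  ⟨{ app := fun W => TypeCat.ofHom (fun _ =>
        (homOfLE (by
          rintro _ ⟨y, _, rfl⟩
          exact y.2) : (incl_open U).isOpenMap.functor.obj W.unop ⟶ U))
     naturality := fun W W' f => by
        ext a
        exact Subsingleton.elim (α := ((incl_open U).isOpenMap.functor.obj W'.unop ⟶ U)) _ _ }⟩

variable {U}
variable {L : (TopCat.of U).Sheaf (Type u) ⥤ X.Sheaf (Type u)} (adj : L ⊣ U.sheafRestrict (C := Type u))

include adj in
lemma le_of_section (F : (TopCat.of U).Sheaf (Type u)) (V : Opens X)
    (s : (L.obj F).obj.obj (op V)) : V ≤ U :=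
  leOfHom (((adj.homEquiv F (E U)).symm (toRE U F)).hom.app (op V) s)

end

section

variable {X : TopCat.{u}} {U : Opens X}
variable {L : (TopCat.of U).Sheaf (Type u) ⥤ X.Sheaf (Type u)} (adj : L ⊣ U.sheafRestrict (C := Type u))

include adj in
lemma stalk_empty_of_essImage (G : X.Sheaf (Type u)) (hG : L.essImage G) (x : X) (hx : x ∉ U) :
    IsEmpty (G.presheaf.stalk x) := by
  obtain ⟨F, ⟨e⟩⟩ := hG
  refine ⟨fun t => ?_⟩
  obtain ⟨V, hxV, s, rfl⟩ := TopCat.Presheaf.exists_germ_eq G.presheaf t
  exact hx (le_of_section adj F V (e.inv.hom.app (op V) s) hxV)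

lemma functor_map_eq (V : Opens X) (hV : V ≤ U) :
    V = (incl_open U).isOpenMap.functor.obj ((Opens.map (incl U)).obj V) := by
  ext y
  constructor
  · intro hy
    exact ⟨⟨y, hV hy⟩, hy, rfl⟩
  · rintro ⟨z, hz, rfl⟩
    exact hz

include adj in
lemma isIso_counit_of_stalk_empty (G : X.Sheaf (Type u))
    (h : ∀ x : X, x ∉ U → IsEmpty (G.presheaf.stalk x)) : IsIso (adj.counit.app G) := by
  have hunit := isIso_unit adj
  have hA : IsIso ((U.sheafRestrict (C := Type u)).map (adj.counit.app G)) := by
    have tri := adj.right_triangle_components G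
    have h0 : IsIso (adj.unit.app ((U.sheafRestrict (C := Type u)).obj G)) :=
      @NatIso.isIso_app_of_isIso _ _ _ _ _ _ adj.unit hunit _
    exact @IsIso.of_isIso_fac_left _ _ _ _ _ _ _ _ h0 (IsIso.id _) tri
  have hA' : ∀ W : Opens U, Function.Bijective
      ((adj.counit.app G).hom.app (op ((incl_open U).isOpenMap.functor.obj W))) := by
    intro W
    have h1 : IsIso ((sheafToPresheaf _ _).map
        ((U.sheafRestrict (C := Type u)).map (adj.counit.app G))) := inferInstance
    have h2 : IsIso (((sheafToPresheaf _ _).map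
        ((U.sheafRestrict (C := Type u)).map (adj.counit.app G))).app (op W)) := inferInstance
    exact (isIso_iff_bijective _).1 h2
  have hB : IsIso ((sheafToPresheaf _ _).map (adj.counit.app G)) := by
    refine @NatIso.isIso_of_isIso_app _ _ _ _ _ _ _ (fun V => ?_)
    rw [isIso_iff_bijective]
    obtain ⟨V⟩ := V
    by_cases hV : V ≤ U
    · have := functor_map_eq V hV
      rw [this]
      exact hA' _
    · have hne : ∃ x, x ∈ V ∧ x ∉ U := by
        by_contra hcon
        refine hV (fun x hx => ?_)
        by_contra hxU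
        exact hcon ⟨x, hx, hxU⟩
      obtain ⟨x, hxV, hxU⟩ := hne
      have e1 : IsEmpty ((L.obj ((U.sheafRestrict (C := Type u)).obj G)).obj.obj (op V)) :=
        ⟨fun s => hV (le_of_section adj _ V s)⟩
      have e2 : IsEmpty (G.obj.obj (op V)) :=
        ⟨fun s => (h x hxU).false (G.presheaf.germ V x hxV s)⟩
      exact ⟨fun a => (e1.false a).elim, fun b => (e2.false b).elim⟩
  exact (isIso_iff_of_reflects_iso _ (sheafToPresheaf _ _)).1 hB

include adj in
theorem main :
    L.Full ∧ L.Faithful ∧
    ∀ G : X.Sheaf (Type u), L.essImage G ↔ ∀ x : X, x ∉ U → IsEmpty (G.presheaf.stalk x) := by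
  have hunit := isIso_unit adj
  have hff := adj.fullyFaithfulLOfIsIsoUnit
  refine ⟨hff.full, hff.faithful, fun G => ⟨fun hG x hx => stalk_empty_of_essImage adj G hG x hx,
    fun h => ?_⟩⟩
  have := isIso_counit_of_stalk_empty adj G h
  exact adj.mem_essImage_of_counit_isIso G

end

end helpers

/-- Let X be a topological space, U ⊆ X open and j_! : Sh(U) → Sh(X) a left adjoint of restriction of
sheaves of sets to U. Then j_! is fully faithful, and a sheaf G on X lies in its essential image if
and only if G_x = ∅ for all x ∈ X not in U. -/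
theorem result {X : TopCat.{u}} (U : Opens X)
    (L : (TopCat.of U).Sheaf (Type u) ⥤ X.Sheaf (Type u)) (adj : L ⊣ U.sheafRestrict (C := Type u)) :
    L.Full ∧ L.Faithful ∧
    ∀ G : X.Sheaf (Type u), L.essImage G ↔ ∀ x : X, x ∉ U → IsEmpty (G.presheaf.stalk x) := by
  exact main adj

end Groth.Agent.S7574
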