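import Groth.Statements.S7578
import Groth.Statements.S7578
import Mathlib
import Groth.Agent.S7577
-- import your own Groth.Agent.* helpers here

set_option autoImplicit false
universe u
open PtTop

namespace Groth.Agent.S7578

section
open TopologicalSpace PtTop

variable {X : Type u} [TopologicalSpace X] [QuasiSober X] [T0Space X]

theorem diff_eq (δ δ' : X → ℤ) (hδ : PtTop.IsDimensionFunction δ)
    (hδ' : PtTop.IsDimensionFunction δ') {ξ y : X} (h : ξ ⤳ y) :
    δ ξ - δ' ξ = δ y - δ' y := by
  have h1 := Groth.Agent.S7577.codim_eq δ hδ h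
  have h2 := Groth.Agent.S7577.codim_eq δ' hδ' h
  rw [h1] at h2
  have h3 : (δ ξ - δ y).toNat = (δ' ξ - δ' y).toNat := by exact_mod_cast h2
  have h4 := Groth.Agent.S7577.delta_le δ hδ h
  have h5 := Groth.Agent.S7577.delta_le δ' hδ' h
  omega

theorem exists_generic_finite (W : Set X) [NoetherianSpace W] :
    ∃ G : Set X, G.Finite ∧ ∀ y ∈ W, ∃ ξ ∈ G, ξ ⤳ y := by
  have hfin : (irreducibleComponents W).Finite := NoetherianSpace.finite_irreducibleComponents
  have hirr : ∀ C : irreducibleComponents W,
      IsIrreducible (closure (Subtype.val '' (C : Set W)) : Set X) := fun C =>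
    (C.2.prop.image _ continuous_subtype_val.continuousOn).closure
  choose ξ hξ using fun C => QuasiSober.sober (hirr C) isClosed_closure
  haveI : Finite (irreducibleComponents W) := hfin.to_subtype
  refine ⟨Set.range ξ, Set.finite_range ξ, fun y hy => ?_⟩
  let C : irreducibleComponents W :=
    ⟨irreducibleComponent (⟨y, hy⟩ : W), irreducibleComponent_mem_irreducibleComponents _⟩
  refine ⟨ξ C, Set.mem_range_self C, ?_⟩
  rw [specializes_iff_mem_closure, (hξ C).def]
  exact subset_closure ⟨⟨y, hy⟩, mem_irreducibleComponent, rfl⟩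

theorem main
    (hX : ∀ x : X, ∃ E ∈ nhds x, TopologicalSpace.NoetherianSpace E)
    (δ δ' : X → ℤ) (hδ : PtTop.IsDimensionFunction δ) (hδ' : PtTop.IsDimensionFunction δ') :
    IsLocallyConstant (fun x => δ x - δ' x) := by
  rw [IsLocallyConstant.iff_exists_open]
  intro x
  obtain ⟨E, hE, hEN⟩ := hX x
  have hxW : x ∈ interior E := mem_interior_iff_mem_nhds.2 hE
  haveI : NoetherianSpace (interior E) := NoetherianSpace.of_subset interior_subset
  obtain ⟨G, hG, hGW⟩ := exists_generic_finite (interior E)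
  refine ⟨interior E ∩ ⋂ ξ ∈ {ξ ∈ G | ¬ ξ ⤳ x}, (closure {ξ})ᶜ, ?_, ⟨hxW, ?_⟩, ?_⟩
  · exact isOpen_interior.inter ((hG.subset (Set.sep_subset _ _)).isOpen_biInter
      fun ξ _ => isClosed_closure.isOpen_compl)
  · simp only [Set.mem_iInter, Set.mem_compl_iff]
    intro ξ hξ
    rw [← specializes_iff_mem_closure]
    exact hξ.2
  · rintro y ⟨hyW, hy⟩
    obtain ⟨ξ, hξG, hξy⟩ := hGW y hyW
    have hξx : ξ ⤳ x := by
      by_contra hcon
      simp only [Set.mem_iInter, Set.mem_compl_iff] at hy
      exact hy ξ ⟨hξG, hcon⟩ (specializes_iff_mem_closure.1 hξy)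
    show δ y - δ' y = δ x - δ' x
    rw [← diff_eq δ δ' hδ hδ' hξy, ← diff_eq δ δ' hδ hδ' hξx]

end

/-- Let X be a topological space which is locally Noetherian (every point has a Noetherian
neighbourhood) and sober, and let δ, δ' be two dimension functions on X. Then δ − δ' is locally
constant. -/
theorem result {X : Type u} [TopologicalSpace X] [QuasiSober X] [T0Space X]
    (hX : ∀ x : X, ∃ E ∈ nhds x, TopologicalSpace.NoetherianSpace E)
    (δ δ' : X → ℤ) (hδ : PtTop.IsDimensionFunction δ) (hδ' : PtTop.IsDimensionFunction δ') :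
    IsLocallyConstant (fun x => δ x - δ' x) := by
  exact Groth.Agent.S7578.main hX δ δ' hδ hδ'

end Groth.Agent.S7578
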