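import Groth.Statements.S7579
import Groth.Agent.Lib.Helper11.Spectral

set_option autoImplicit false
universe u
open SpecSp

namespace Groth.Agent.S7579

/-- Let X be a spectral space. Then X with its constructible topology is Hausdorff and totally
disconnected. The published statement also asserts that the constructible topology is quasi-compact;
this row states the Hausdorff and totally disconnected parts. -/
theorem result (X : Type u) [TopologicalSpace X] [SpectralSpace X] :
    T2Space (WithConstructibleTopology X) ∧ TotallyDisconnectedSpace (WithConstructibleTopology X) := by
  have hT2 : T2Space (WithConstructibleTopology X) := by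
    constructor
    intro x y hxy
    have hne : x.ofTopology ≠ y.ofTopology := fun h => hxy (WithTopology.ofTopology_injective _ h)
    obtain ⟨U, V, hU, hV, hxU, hyV, hdisj⟩ :=
      (@t2_separation X (constructibleTopology X)
        Groth.Agent.Helper11.t2Space_constructibleTopology _ _ hne)
    refine ⟨WithTopology.ofTopology ⁻¹' U, WithTopology.ofTopology ⁻¹' V, ?_, ?_, hxU, hyV,
      hdisj.preimage _⟩
    · exact (WithTopology.isOpen_iff (constructibleTopology X)).mpr hU
    · exact (WithTopology.isOpen_iff (constructibleTopology X)).mpr hV
  have hprespec : PrespectralSpace (WithConstructibleTopology X) := by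
    refine PrespectralSpace.of_isTopologicalBasis (B := {U | IsOpen U ∧ IsCompact U})
      ?_ (fun U hU => hU.2)
    refine TopologicalSpace.isTopologicalBasis_of_isOpen_of_nhds (fun U hU => hU.1) ?_
    intro a W haW hW
    -- W is open in the constructible topology: use generateFrom
    rw [WithTopology.isOpen_iff] at hW
    have hbasis := @TopologicalSpace.isTopologicalBasis_of_subbasis X (constructibleTopology X)
      (constructibleTopologySubbasis X) rfl
    obtain ⟨b, hb, hab, hbW⟩ := @TopologicalSpace.IsTopologicalBasis.exists_subset_of_mem_open X
      (constructibleTopology X) _ hbasis a.ofTopology _ haW hW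
    obtain ⟨f, ⟨hf1, hf2⟩, rfl⟩ := hb
    refine ⟨WithTopology.ofTopology ⁻¹' (⋂₀ f), ⟨?_, ?_⟩, hab, fun z hz => hbW hz⟩
    · apply (WithTopology.isOpen_iff (constructibleTopology X)).mpr
      exact @Set.Finite.isOpen_sInter X (constructibleTopology X) f hf1
        (fun s hs => TopologicalSpace.isOpen_generateFrom_of_mem (hf2 hs))
    · -- closed in compact space
      have hcl : IsClosed (WithTopology.ofTopology (t := constructibleTopology X) ⁻¹' (⋂₀ f)) := by
        apply (WithTopology.isClosed_iff (constructibleTopology X)).mpr
        apply @isClosed_sInter X (constructibleTopology X)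
        intro s hs
        rw [← @isOpen_compl_iff X _ (constructibleTopology X)]
        exact TopologicalSpace.isOpen_generateFrom_of_mem
          (compl_mem_constructibleTopologySubbasis_iff.mpr (hf2 hs))
      exact hcl.isCompact
  exact ⟨hT2, inferInstance⟩

end Groth.Agent.S7579
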