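import Groth.Statements.S7580
import Mathlib
-- import your own Groth.Agent.* helpers here

set_option autoImplicit false
universe u
open PtTop

namespace Groth.Agent.S7580

/-- Let f : X → Y be a continuous map of topological spaces with f(X) dense in Y and Y Hausdorff. Then
the cardinality of Y is at most that of the double power set of X. -/
theorem result {X Y : Type u} [TopologicalSpace X] [TopologicalSpace Y] [T2Space Y]
    (f : X → Y) (hf : Continuous f) (hd : DenseRange f) :
    Cardinal.mk Y ≤ (2 : Cardinal.{u}) ^ ((2 : Cardinal.{u}) ^ Cardinal.mk X) := by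
  let g : Y → Set (Set X) := fun y => {A | y ∈ closure (f '' A)}
  have hg : Function.Injective g := by
    intro y y' hyy'
    by_contra hne
    obtain ⟨U, V, hU, hV, hyU, hy'V, hdisj⟩ := t2_separation hne
    have h1 : f ⁻¹' U ∈ g y := by
      show y ∈ closure (f '' (f ⁻¹' U))
      rw [mem_closure_iff]
      intro W hW hyW
      have : (U ∩ W) ∩ Set.range f ≠ ∅ := by
        rw [← Set.nonempty_iff_ne_empty]
        exact hd.inter_open_nonempty _ (hU.inter hW) ⟨y, hyU, hyW⟩
      obtain ⟨z, ⟨hzU, hzW⟩, ⟨x, rfl⟩⟩ := Set.nonempty_iff_ne_empty.mpr this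
      exact ⟨f x, hzW, ⟨x, hzU, rfl⟩⟩
    have h2 : f ⁻¹' U ∉ g y' := by
      intro h
      have h' : y' ∈ closure (f '' (f ⁻¹' U)) := h
      rw [mem_closure_iff] at h'
      obtain ⟨z, hzV, ⟨x, hxU, rfl⟩⟩ := h' V hV hy'V
      exact Set.disjoint_left.mp hdisj hxU hzV
    rw [hyy'] at h1
    exact h2 h1
  have h3 : Cardinal.mk Y ≤ Cardinal.mk (Set (Set X)) := Cardinal.mk_le_of_injective hg
  rw [Cardinal.mk_set, Cardinal.mk_set] at h3
  exact h3

end Groth.Agent.S7580
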