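import Groth.Statements.S7582
import Groth.Agent.Lib.Helper11.Sob

set_option autoImplicit false
universe u
open PtTop

namespace Groth.Agent.S7582

/-- Let X be a topological space and c : X → X′ the canonical map to its soberification (X′ =
irreducible closed subsets of X, with opens the sets of those meeting a given open of X; c(x) =
closure of {x}). Then X′ is sober, c is continuous, the rule U′ ↦ c⁻¹(U′) is a bijection from the
open subsets of X′ onto the open subsets of X (it automatically respects finite intersections and
arbitrary unions), and every continuous map from X to a sober space Y is of the form g ∘ c for a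
continuous g : X′ → Y. The published statement also asserts that g is unique and that c(X) is a
Kolmogorov space universal for maps to Kolmogorov spaces; this row omits those clauses and lets Y
range over the universe of X. -/
theorem result (X : Type u) [TopologicalSpace X] :
    QuasiSober (PtTop.Sob X) ∧ T0Space (PtTop.Sob X) ∧ Continuous (PtTop.toSob X) ∧
    Set.BijOn (fun U' : Set (PtTop.Sob X) => PtTop.toSob X ⁻¹' U') {U' | IsOpen U'} {U : Set X | IsOpen U} ∧
    ∀ (Y : Type u) [TopologicalSpace Y] [QuasiSober Y] [T0Space Y] (f : X → Y), Continuous f →
      ∃ g : PtTop.Sob X → Y, Continuous g ∧ g ∘ PtTop.toSob X = f := by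
  refine ⟨Groth.Agent.Helper11.SobLib.quasiSober, Groth.Agent.Helper11.SobLib.t0Space,
    Groth.Agent.Helper11.SobLib.continuous_toSob, Groth.Agent.Helper11.SobLib.bijOn_preimage, ?_⟩
  intro Y _ _ _ f hf
  exact ⟨Groth.Agent.Helper11.SobLib.ext f hf, Groth.Agent.Helper11.SobLib.continuous_ext f hf,
    Groth.Agent.Helper11.SobLib.ext_comp_toSob f hf⟩

end Groth.Agent.S7582
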