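import Groth.Statements.S7584
import Mathlib
-- import your own Groth.Agent.* helpers here

set_option autoImplicit false
universe u
open PtTop

namespace Groth.Agent.S7584

/-- Let X be a quasi-compact topological space in which each connected component equals the intersection
of all clopen sets that contain it. Then π₀(X), the set of connected components with the quotient
topology, is Hausdorff. The published statement concludes that π₀(X) is profinite; this row records
the Hausdorff property, quasi-compactness and total disconnectedness of the quotient being
automatic. -/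
theorem result (X : Type u) [TopologicalSpace X] [CompactSpace X]
    (h : ∀ x : X, connectedComponent x = ⋂₀ {Z : Set X | IsClopen Z ∧ x ∈ Z}) :
    T2Space (ConnectedComponents X) := by
  constructor
  intro a b hab
  obtain ⟨x, rfl⟩ := ConnectedComponents.surjective_coe a
  obtain ⟨y, rfl⟩ := ConnectedComponents.surjective_coe b
  have hne : connectedComponent x ≠ connectedComponent y := by
    intro h'
    exact hab (ConnectedComponents.coe_eq_coe.mpr h')
  have hy : y ∉ connectedComponent x := by
    intro hy
    exact hne (connectedComponent_eq hy)
  rw [h x, Set.mem_sInter] at hy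
  push Not at hy
  obtain ⟨Z, ⟨hZ, hxZ⟩, hyZ⟩ := hy
  have hpre : ((↑) : X → ConnectedComponents X) ⁻¹' (((↑) : X → ConnectedComponents X) '' Z) = Z := by
    rw [connectedComponents_preimage_image, hZ.biUnion_connectedComponent_eq]
  have hpre' : ((↑) : X → ConnectedComponents X) ⁻¹' (((↑) : X → ConnectedComponents X) '' Z)ᶜ = Zᶜ := by
    rw [Set.preimage_compl, hpre]
  refine ⟨((↑) : X → ConnectedComponents X) '' Z, (((↑) : X → ConnectedComponents X) '' Z)ᶜ, ?_, ?_,
    ⟨x, hxZ, rfl⟩, ?_, disjoint_compl_right⟩
  · rw [← ConnectedComponents.isQuotientMap_coe.isOpen_preimage, hpre]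
    exact hZ.isOpen
  · rw [← ConnectedComponents.isQuotientMap_coe.isOpen_preimage, hpre']
    exact hZ.compl.isOpen
  · intro hy
    have : y ∈ ((↑) : X → ConnectedComponents X) ⁻¹' (((↑) : X → ConnectedComponents X) '' Z) := hy
    rw [hpre] at this
    exact hyZ this

end Groth.Agent.S7584
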