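import Groth.Statements.S7592
import Groth.Agent.Lib.Helper4.BCTower
import Groth.Agent.Lib.Helper4.GeomConnSet

set_option autoImplicit false
universe u
open CategoryTheory CategoryTheory.Limits AlgebraicGeometry
open Variety

namespace Groth.Agent.S7592

/-- Let K be a (possibly infinite) Galois extension of a field k and f : T → X a morphism of schemes
over k. If the base change T_K is connected and X_K is not connected, then X is not connected. -/
theorem result (k : Type u) [Field k] (K : Type u) [Field K] [Algebra k K] [IsGalois k K]
    (T X : Scheme.{u}) [T.Over (Spec (CommRingCat.of k))] [X.Over (Spec (CommRingCat.of k))]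
    (f : T ⟶ X) [f.IsOver (Spec (CommRingCat.of k))]
    [ConnectedSpace ↥(Curv2.bc k T K)] (hX : ¬ ConnectedSpace ↥(Curv2.bc k X K)) :
    ¬ ConnectedSpace ↥X := by
  intro hXc
  apply hX
  haveI := hXc
  haveI : Algebra.IsAlgebraic k K := Algebra.IsSeparable.isAlgebraic k K
  set y := Spec.map (CommRingCat.ofHom (algebraMap k K)) with hy
  set g := X ↘ Spec (CommRingCat.of k) with hg
  set p := pullback.fst g y with hp
  have hpo : IsOpenMap p.base := p.isOpenMap
  have hpc : IsClosedMap p.base := Groth.Agent.Helper4.BCTower.fst_isClosedMap g K
  have hover : f ≫ g = T ↘ Spec (CommRingCat.of k) := comp_over f _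
  have h1 : ConnectedSpace ↥(pullback (f ≫ g) y) := by
    rw [hover]
    infer_instance
  have h2 : ConnectedSpace ↥(pullback f p) :=
    ((pullbackRightPullbackFstIso g y f).hom.homeomorph.connectedSpace_iff).2 h1
  have hD : _root_.IsConnected (p.base ⁻¹' Set.range f.base) := by
    rw [← Scheme.Pullback.range_snd, ← Set.image_univ]
    exact (@isConnected_univ _ _ h2).image _ (pullback.snd f p).continuous.continuousOn
  have h3 := Groth.Agent.Helper4.GeomConnSet.isConnected_preimage_of_saturated p.base p.continuous
    hpo hpc Set.univ (Set.range f.base) isConnected_univ (Set.subset_univ _) hD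
  rw [Set.preimage_univ] at h3
  exact connectedSpace_iff_univ.mpr h3

end Groth.Agent.S7592
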