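import Groth.Statements.S7595
import Mathlib.AlgebraicGeometry.Morphisms.UniversallyOpen


set_option autoImplicit false
universe u
open CategoryTheory CategoryTheory.Limits AlgebraicGeometry
open Variety

namespace Groth.Agent.S7595

/-- Let X be a scheme over a field k, K an extension field of k and T an irreducible component of X.
Then each point of the inverse image of T in X_K lies on some irreducible component of X_K that is
contained in this inverse image; so the inverse image of T is the union of the irreducible
components of X_K lying inside it. -/
theorem result (k : Type u) [Field k] (X : Scheme.{u}) [X.Over (Spec (CommRingCat.of k))] (K : Type u) [Field K] [Algebra k K]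
    (T : Set ↥X) (hT : T ∈ irreducibleComponents ↥X) :
    (Curv2.bcFst k X K).base ⁻¹' T = ⋃₀ {Z : Set ↥(Curv2.bc k X K) | Z ∈ irreducibleComponents ↥(Curv2.bc k X K) ∧ Z ⊆ (Curv2.bcFst k X K).base ⁻¹' T} := by
  haveI : Flat (Spec.map (CommRingCat.ofHom (algebraMap k K))) := inferInstance
  haveI : Flat (Curv2.bcFst k X K) := inferInstance
  have hgen : GeneralizingMap (Curv2.bcFst k X K) := Flat.generalizingMap _
  apply Set.Subset.antisymm
  · intro z hz
    have hTirr : IsIrreducible T := hT.1
    have hTcl : IsClosed T := isClosed_of_mem_irreducibleComponents T hT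
    obtain ⟨η, hη⟩ := QuasiSober.sober hTirr hTcl
    have h1 : η ⤳ (Curv2.bcFst k X K) z := by
      rw [specializes_iff_mem_closure, hη.def]
      exact hz
    obtain ⟨z', hz'z, hπ⟩ := hgen h1
    have hZ : irreducibleComponent z' ∈ irreducibleComponents ↥(Curv2.bc k X K) :=
      irreducibleComponent_mem_irreducibleComponents z'
    have hz'Z : z' ∈ irreducibleComponent z' := mem_irreducibleComponent
    have hZcl : IsClosed (irreducibleComponent z') := isClosed_irreducibleComponent
    have hzZ : z ∈ irreducibleComponent z' := hz'z.mem_closed hZcl hz'Z
    refine ⟨irreducibleComponent z', ⟨hZ, ?_⟩, hzZ⟩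
    have hZirr : IsIrreducible (irreducibleComponent z') := isIrreducible_irreducibleComponent
    have himg : IsIrreducible (closure ((Curv2.bcFst k X K) '' irreducibleComponent z')) :=
      (hZirr.image _ (Curv2.bcFst k X K).continuous.continuousOn).closure
    have hTsub : T ⊆ closure ((Curv2.bcFst k X K) '' irreducibleComponent z') := by
      rw [← hη.def]
      apply closure_minimal _ isClosed_closure
      rw [Set.singleton_subset_iff]
      exact subset_closure ⟨z', hz'Z, hπ⟩
    have hle := hT.2 himg hTsub
    intro w hw
    exact hle (subset_closure ⟨w, hw, rfl⟩)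
  · rintro z ⟨Z, ⟨-, hZ⟩, hz⟩
    exact hZ hz


end Groth.Agent.S7595
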