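import Groth.Statements.S7600
import Mathlib
import Groth.Agent.Lib.Helper6.BCFlatPtA
import Groth.Agent.Lib.Helper29.NormDesc

set_option autoImplicit false
universe u
open CategoryTheory CategoryTheory.Limits AlgebraicGeometry
open Variety

namespace Groth.Agent.S7600

/-- (2) ⇒ (1): let X be a scheme over a field k, k' an extension field of k and x' a point of X_{k'}
with image x in X. If X_{k'} is geometrically normal at x' over k' (for every extension field k'' of
k' and every point x'' of (X_{k'})_{k''} over x' the local ring at x'' is an integrally closed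
domain), then X is geometrically normal at x over k. -/
theorem result (k : Type u) [Field k] (X : Scheme.{u}) [X.Over (Spec (CommRingCat.of k))] (k' : Type u) [Field k'] [Algebra k k'] (x' : ↥(Curv2.bc k X k'))
    (h : letI : (Curv2.bc k X k').Over (Spec (CommRingCat.of k')) := ⟨Curv2.bcSnd k X k'⟩
      ∀ (k'' : Type u) [Field k''] [Algebra k' k''] (x'' : ↥(Curv2.bc k' (Curv2.bc k X k') k'')), Curv2.bcFst k' (Curv2.bc k X k') k'' x'' = x' →
          IsDomain ↥((Curv2.bc k' (Curv2.bc k X k') k'').presheaf.stalk x'') ∧ IsIntegrallyClosed ↥((Curv2.bc k' (Curv2.bc k X k') k'').presheaf.stalk x'')) :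
    ∀ (K : Type u) [Field K] [Algebra k K] (y : ↥(Curv2.bc k X K)), Curv2.bcFst k X K y = (Curv2.bcFst k X k' x') →
          IsDomain ↥((Curv2.bc k X K).presheaf.stalk y) ∧ IsIntegrallyClosed ↥((Curv2.bc k X K).presheaf.stalk y) := by
  intro K _ _ y hy
  obtain ⟨L, _, _, x'', q, hflat, hx'', hqy⟩ :=
    Groth.Agent.Helper6.BCFlatPt.exists_flat_point (X ↘ Spec (CommRingCat.of k)) k' K x' y hy
  haveI := hflat
  obtain ⟨hd, hic⟩ := h L x'' hx''
  subst hqy
  have hff := Groth.Agent.Helper6.BCFlatPt.faithfullyFlat_stalkMap q x''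
  letI : Algebra ((Curv2.bc k X K).presheaf.stalk (q x''))
      ((pullback (pullback.snd (X ↘ Spec (CommRingCat.of k))
        (Spec.map (CommRingCat.ofHom (algebraMap k k'))))
        (Spec.map (CommRingCat.ofHom (algebraMap k' L)))).presheaf.stalk x'') :=
    (q.stalkMap x'').hom.toAlgebra
  haveI : Module.FaithfullyFlat ((Curv2.bc k X K).presheaf.stalk (q x''))
      ((pullback (pullback.snd (X ↘ Spec (CommRingCat.of k))
        (Spec.map (CommRingCat.ofHom (algebraMap k k'))))
        (Spec.map (CommRingCat.ofHom (algebraMap k' L)))).presheaf.stalk x'') := hff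
  haveI hd' : IsDomain ((pullback (pullback.snd (X ↘ Spec (CommRingCat.of k))
        (Spec.map (CommRingCat.ofHom (algebraMap k k'))))
        (Spec.map (CommRingCat.ofHom (algebraMap k' L)))).presheaf.stalk x'') := hd
  haveI hic' : IsIntegrallyClosed ((pullback (pullback.snd (X ↘ Spec (CommRingCat.of k))
        (Spec.map (CommRingCat.ofHom (algebraMap k k'))))
        (Spec.map (CommRingCat.ofHom (algebraMap k' L)))).presheaf.stalk x'') := hic
  exact ⟨Groth.Agent.Helper29.NormDesc.isDomain_of_faithfullyFlat _
      ((pullback (pullback.snd (X ↘ Spec (CommRingCat.of k))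
        (Spec.map (CommRingCat.ofHom (algebraMap k k'))))
        (Spec.map (CommRingCat.ofHom (algebraMap k' L)))).presheaf.stalk x''),
    Groth.Agent.Helper29.NormDesc.isIntegrallyClosed_of_faithfullyFlat _
      ((pullback (pullback.snd (X ↘ Spec (CommRingCat.of k))
        (Spec.map (CommRingCat.ofHom (algebraMap k k'))))
        (Spec.map (CommRingCat.ofHom (algebraMap k' L)))).presheaf.stalk x'')⟩

end Groth.Agent.S7600
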