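import Groth.Statements.S7607
import Mathlib
import Groth.Agent.Lib.Helper6.BCFlatPtB
import Groth.Agent.Lib.Lead.Hom14

set_option autoImplicit false
universe u
open CategoryTheory CategoryTheory.Limits AlgebraicGeometry
open Variety

namespace Groth.Agent.S7607

/-- (2) ⇒ (1): let X be a scheme over a field k, k' a finitely generated field extension of k and x' a
point of X_{k'} with image x in X. If X_{k'} is geometrically regular at x' over k', then X is
geometrically regular at x over k. (The published setting defines geometric regularity only for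
locally Noetherian schemes; this row allows any scheme X over k.) -/
theorem result (k : Type u) [Field k] (X : Scheme.{u}) [X.Over (Spec (CommRingCat.of k))] (k' : Type u) [Field k'] [Algebra k k'] (hfg : (⊤ : IntermediateField k k').FG)
    (x' : ↥(Curv2.bc k X k'))
    (h : @Curv2.IsGeomRegularAt k' _ (Curv2.bc k X k') ⟨Curv2.bcSnd k X k'⟩ x') :
    Curv2.IsGeomRegularAt k X (Curv2.bcFst k X k' x') := by
  intro K _ _ hK y hy
  obtain ⟨L, _, _, hLfg, x'', q, hflat, hx'', hqy⟩ :=
    Groth.Agent.Helper6.BCFlatPt.exists_flat_point_fg (X ↘ Spec (CommRingCat.of k)) k' K hK x' y hy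
  haveI := hflat
  have hreg := h L hLfg x'' hx''
  subst hqy
  have hff := Groth.Agent.Helper6.BCFlatPt.faithfullyFlat_stalkMap q x''
  letI : Algebra ((Curv2.bc k X K).presheaf.stalk (q x''))
      ((pullback (pullback.snd (X ↘ Spec (CommRingCat.of k))
        (Spec.map (CommRingCat.ofHom (algebraMap k k'))))
        (Spec.map (CommRingCat.ofHom (algebraMap k' L)))).presheaf.stalk x'') :=
    (q.stalkMap x'').hom.toAlgebra
  haveI : Module.FaithfullyFlat ((Curv2.bc k X K).presheaf.stalk (q x''))
      ((pullback (pullback.snd (X ↘ Spec (CommRingCat.of k))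
        (Spec.map (CommRingCat.ofHom (algebraMap k k'))))
        (Spec.map (CommRingCat.ofHom (algebraMap k' L)))).presheaf.stalk x'') := hff
  haveI hreg' : IsRegularLocalRing ((pullback (pullback.snd (X ↘ Spec (CommRingCat.of k))
        (Spec.map (CommRingCat.ofHom (algebraMap k k'))))
        (Spec.map (CommRingCat.ofHom (algebraMap k' L)))).presheaf.stalk x'') := hreg
  haveI : IsNoetherianRing ((Curv2.bc k X K).presheaf.stalk (q x'')) :=
    Groth.Agent.Lead.Hom.isNoetherianRing_of_faithfullyFlat _
      ((pullback (pullback.snd (X ↘ Spec (CommRingCat.of k))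
        (Spec.map (CommRingCat.ofHom (algebraMap k k'))))
        (Spec.map (CommRingCat.ofHom (algebraMap k' L)))).presheaf.stalk x'')
  haveI : IsLocalHom (algebraMap ((Curv2.bc k X K).presheaf.stalk (q x''))
      ((pullback (pullback.snd (X ↘ Spec (CommRingCat.of k))
        (Spec.map (CommRingCat.ofHom (algebraMap k k'))))
        (Spec.map (CommRingCat.ofHom (algebraMap k' L)))).presheaf.stalk x'')) :=
    q.toLRSHom.prop x''
  exact Groth.Agent.Lead.Hom.isRegularLocalRing_of_flat _
      ((pullback (pullback.snd (X ↘ Spec (CommRingCat.of k))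
        (Spec.map (CommRingCat.ofHom (algebraMap k k'))))
        (Spec.map (CommRingCat.ofHom (algebraMap k' L)))).presheaf.stalk x'')

end Groth.Agent.S7607
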