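import Groth.Statements.S7613
import Groth.Agent.Lib.Helper4.SmoothRat
import Groth.Agent.Lib.Helper4.CurveMor

set_option autoImplicit false
universe u
open CategoryTheory CategoryTheory.Limits AlgebraicGeometry
open Variety

namespace Groth.Agent.S7613

/-- Let X be a variety over a field k (integral, separated and of finite type over k) with a k-rational
point x (k → κ(x) onto) such that X → Spec k is smooth at x. Then every base change of X to an
extension field of k is an integral scheme (X is geometrically integral over k). -/
theorem result (k : Type u) [Field k] (X : Scheme.{u}) [X.Over (Spec (CommRingCat.of k))] [IsIntegral X] [IsSeparated (X ↘ (Spec (CommRingCat.of k)))]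
    [LocallyOfFiniteType (X ↘ (Spec (CommRingCat.of k)))] [QuasiCompact (X ↘ (Spec (CommRingCat.of k)))]
    (x : ↥X) (hx : Function.Surjective (Curv2.resMap k X x)) (hsm : x ∈ (X ↘ (Spec (CommRingCat.of k))).smoothLocus) :
    GeometricallyIntegral (X ↘ (Spec (CommRingCat.of k))) := by
  refine Groth.Agent.Helper4.SmoothRat.geometricallyIntegral_of_smooth_ratPt
    (X ↘ Spec (CommRingCat.of k)) x (Curv2.resMap k X x) ?_ hx hsm
  have h1 : CommRingCat.ofHom (Curv2.resMap k X x) =
      CommRingCat.ofHom (Curv2.stalkMap k X x) ≫ X.residue x := rfl
  rw [h1, Spec.map_comp, ← Groth.Agent.Helper4.CurveMor.fromSpecStalk_over,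
    ← Category.assoc]
  rfl

end Groth.Agent.S7613
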