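import Groth.Statements.S7615
import Groth.Agent.Lib.Helper23.GammaField2

set_option autoImplicit false
universe u
open CategoryTheory CategoryTheory.Limits AlgebraicGeometry
open Variety

namespace Groth.Agent.S7615

/-- Let X be a proper variety over a field k (integral, separated, of finite type and proper over k) and
K = H^0(X, O_X), a k-algebra via the structure morphism. Then K is a field, finite over k; K/k is
separable when X is geometrically reduced over k, and purely inseparable when X is geometrically
irreducible over k. -/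
theorem result (k : Type u) [Field k] (X : Scheme.{u}) [X.Over (Spec (CommRingCat.of k))] [IsIntegral X] [IsProper (X ↘ (Spec (CommRingCat.of k)))] :
    letI := ((X ↘ (Spec (CommRingCat.of k))).appTop.hom.comp (Scheme.ΓSpecIso (CommRingCat.of k)).inv.hom : k →+* Γ(X, ⊤)).toAlgebra
    IsField ↑Γ(X, ⊤) ∧ Module.Finite k ↑Γ(X, ⊤) ∧
      (GeometricallyReduced (X ↘ (Spec (CommRingCat.of k))) → Algebra.IsSeparable k ↑Γ(X, ⊤)) ∧
      (GeometricallyIrreducible (X ↘ (Spec (CommRingCat.of k))) → IsPurelyInseparable k ↑Γ(X, ⊤)) := by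
  letI alg : Algebra k ↑Γ(X, ⊤) := ((X ↘ (Spec (CommRingCat.of k))).appTop.hom.comp (Scheme.ΓSpecIso (CommRingCat.of k)).inv.hom : k →+* Γ(X, ⊤)).toAlgebra
  let f := X ↘ (Spec (CommRingCat.of k))
  have hfield : IsField ↑Γ(X, ⊤) := isField_of_universallyClosed k f
  have hfin0 : f.appTop.hom.Finite := finite_appTop_of_universallyClosed k f
  have hfin : Module.Finite k ↑Γ(X, ⊤) := by
    have h1 : (Scheme.ΓSpecIso (CommRingCat.of k)).inv.hom.Finite :=
      RingHom.Finite.of_surjective _
        (ConcreteCategory.bijective_of_isIso (Scheme.ΓSpecIso (CommRingCat.of k)).inv).2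
    exact RingHom.Finite.comp hfin0 h1
  have hcpt : CompactSpace X := (quasiCompact_iff_compactSpace f).mp inferInstance
  have hqs : QuasiSeparatedSpace X := quasiSeparatedSpace_of_quasiSeparated f
  letI fld : Field ↑Γ(X, ⊤) := hfield.toField
  have halg : Algebra.IsAlgebraic k ↑Γ(X, ⊤) := Algebra.IsAlgebraic.of_finite k _
  refine ⟨hfield, hfin, ?_, ?_⟩
  · intro hgr
    have hred := Groth.Agent.Helper23.GammaField.isReduced_tensor_of_geometricallyReduced k X
    exact @Groth.Agent.Helper23.GammaField.isSeparable_of_isReduced k (AlgebraicClosure k) ↑Γ(X, ⊤)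
      _ _ fld _ alg _ halg hred
  · intro hgi
    have hid := Groth.Agent.Helper23.GammaField.idempotent_tensor_of_geometricallyIrreducible k X
    exact Groth.Agent.Helper23.GammaField.isPurelyInseparable_of_idempotents k (AlgebraicClosure k)
      ↑Γ(X, ⊤) hid

end Groth.Agent.S7615
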