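import Groth.Statements.S7616
import Groth.Agent.S9675
import Groth.Agent.Lib.Helper14.FieldSchemeBridge
import Groth.Agent.Lib.Helper7.Mono2

set_option autoImplicit false
universe u
open CategoryTheory CategoryTheory.Limits AlgebraicGeometry
open Variety

namespace Groth.Agent.S7616

/-- Let f : Y → X be a quasi-compact morphism of schemes locally of finite type over a field k, with Y
reduced; f is automatically quasi-separated. Then the normalization of X in Y is finite over X. -/
theorem result (k : Type u) [Field k] (X : Scheme.{u}) [X.Over (Spec (CommRingCat.of k))] [LocallyOfFiniteType (X ↘ (Spec (CommRingCat.of k)))]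
    (Y : Scheme.{u}) [Y.Over (Spec (CommRingCat.of k))] [LocallyOfFiniteType (Y ↘ (Spec (CommRingCat.of k)))] [IsReduced Y]
    (f : Y ⟶ X) [f.IsOver (Spec (CommRingCat.of k))] [QuasiCompact f] [QuasiSeparated f] :
    IsFinite f.fromNormalization := by
  haveI : LocallyOfFiniteType (f ≫ (X ↘ (Spec (CommRingCat.of k)))) := by
    rw [CategoryTheory.comp_over]; infer_instance
  haveI : LocallyOfFiniteType f := locallyOfFiniteType_of_comp f (X ↘ (Spec (CommRingCat.of k)))
  refine Groth.Agent.S9675.result f (fun U => ?_)
  letI algk : Algebra k Γ(X, U.1) :=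
    (Groth.Agent.Helper14.FieldSchemeBridge.kU k X U.1).toAlgebra
  haveI : Algebra.FiniteType k Γ(X, U.1) :=
    Groth.Agent.Helper14.FieldSchemeBridge.kU_finiteType k X U.2
  exact Groth.Agent.Helper7.Mono.s0566 k (Groth.Agent.Helper7.Mono.isNagata_of_isField k) Γ(X, U.1)

end Groth.Agent.S7616
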