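import Groth.Statements.S7618
import Mathlib
-- import your own Groth.Agent.* helpers here

set_option autoImplicit false
universe u
open CategoryTheory CategoryTheory.Limits AlgebraicGeometry
open Variety

namespace Groth.Agent.S7618

section
open AlgebraicGeometry CategoryTheory Polynomial

/-- algebraic core -/
lemma unit_or_zero_aux {D : Type*} [CommRing D] [IsReduced D]
    (hidem : ∀ e : D, e * e = e → e = 0 ∨ e = 1) (a b : D) (N : ℕ)
    (h : a ^ N = a ^ (N + 1) * b) : a = 0 ∨ a ^ N * b ^ N = 1 := by
  have hk : ∀ k : ℕ, a ^ N = a ^ (N + k) * b ^ k := by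
    intro k
    induction k with
    | zero => simp
    | succ k ih =>
      calc a ^ N = a ^ (N + k) * b ^ k := ih
        _ = a ^ k * a ^ N * b ^ k := by rw [pow_add]; ring
        _ = a ^ k * (a ^ (N + 1) * b) * b ^ k := by rw [← h]
        _ = a ^ (N + (k + 1)) * b ^ (k + 1) := by ring
  have he : (a ^ N * b ^ N) * (a ^ N * b ^ N) = a ^ N * b ^ N := by
    have := hk N
    calc (a ^ N * b ^ N) * (a ^ N * b ^ N) = (a ^ (N + N) * b ^ N) * b ^ N := by ring
      _ = a ^ N * b ^ N := by rw [← this]
  rcases hidem _ he with h0 | h1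
  · left
    have : a ^ N = 0 := by
      have h2 := hk N
      rw [pow_add, mul_assoc, h0, mul_zero] at h2
      exact h2
    exact IsReduced.eq_zero _ ⟨N, this⟩
  · right; exact h1

lemma unit_or_zero {D : Type*} [CommRing D] [IsReduced D]
    (hidem : ∀ e : D, e * e = e → e = 0 ∨ e = 1) (a b : D) (n : ℕ)
    (h0 : a ^ n = a ^ (n + 1) * b) : a = 0 ∨ a * (a ^ n * b ^ (n + 1)) = 1 := by
  have h : a ^ (n + 1) = a ^ (n + 1 + 1) * b := by
    calc a ^ (n + 1) = a * a ^ n := by ring
      _ = a * (a ^ (n + 1) * b) := by rw [← h0]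
      _ = _ := by ring
  rcases unit_or_zero_aux hidem a b (n + 1) h with h1 | h1
  · left; exact h1
  · right
    rw [← h1]; ring

lemma isField_integralClosure (k A : Type*) [Field k] [CommRing A] [Algebra k A] [IsReduced A]
    [Nontrivial A] (hidem : ∀ e : A, e * e = e → e = 0 ∨ e = 1) :
    IsField (integralClosure k A) := by
  refine ⟨⟨0, 1, zero_ne_one⟩, mul_comm, ?_⟩
  rintro ⟨a, ha⟩ hne
  have ha0 : a ≠ 0 := fun h => hne (Subtype.ext h)
  obtain ⟨P, hP, hPa⟩ := ha
  have hP0 : P ≠ 0 := hP.ne_zero
  obtain ⟨Q, hQ, hQ0⟩ := Polynomial.exists_eq_pow_rootMultiplicity_mul_and_not_dvd P hP0 0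
  simp only [map_zero, sub_zero] at hQ hQ0
  rw [Polynomial.X_dvd_iff] at hQ0
  set n := P.rootMultiplicity 0
  have hQd := Polynomial.divX_mul_X_add Q
  have hPa' : aeval a P = 0 := hPa
  have h1 : a ^ n * (aeval a Q.divX * a + algebraMap k A (Q.coeff 0)) = 0 := by
    rw [hQ, ← hQd] at hPa'
    simpa using hPa'
  set c := Q.coeff 0
  set b : A := - (algebraMap k A c⁻¹ * aeval a Q.divX) with hb
  have hbint : IsIntegral k b := by
    have h2 : IsIntegral k (aeval a Q.divX) := by
      have : aeval a Q.divX ∈ integralClosure k A := by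
        have ha' : a ∈ integralClosure k A := ⟨P, hP, hPa⟩
        have : aeval a Q.divX = ((aeval (⟨a, ha'⟩ : integralClosure k A) Q.divX : integralClosure k A) : A) := by
          rw [← Subalgebra.coe_val, ← Polynomial.aeval_algHom_apply]
          rfl
        rw [this]
        exact Subtype.prop _
      exact this
    exact (isIntegral_algebraMap.mul h2).neg
  have h3 : a ^ n = a ^ (n + 1) * b := by
    have hc : algebraMap k A c⁻¹ * algebraMap k A c = 1 := by
      rw [← map_mul, inv_mul_cancel₀ hQ0, map_one]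
    have : a ^ n * algebraMap k A c = - (a ^ (n + 1) * aeval a Q.divX) := by
      have := h1
      rw [mul_add] at this
      rw [eq_neg_iff_add_eq_zero, add_comm, ← this]; ring
    calc a ^ n = a ^ n * algebraMap k A c * algebraMap k A c⁻¹ := by
          rw [mul_assoc, mul_comm (algebraMap k A c), hc, mul_one]
      _ = _ := by rw [this, hb]; ring
  rcases unit_or_zero hidem a b n h3 with h4 | h4
  · exact absurd h4 ha0
  · refine ⟨⟨a ^ n * b ^ (n + 1), ?_⟩, Subtype.ext h4⟩
    exact (IsIntegral.pow ⟨P, hP, hPa⟩ n).mul (hbint.pow (n + 1))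

lemma idem_trivial (X : Scheme.{u}) [ConnectedSpace ↥X] [IsReduced X] (e : Γ(X, ⊤))
    (he : e * e = e) : e = 0 ∨ e = 1 := by
  have hdisj : X.basicOpen e ⊓ X.basicOpen (1 - e) = ⊥ := by
    rw [← Scheme.basicOpen_mul]
    have : e * (1 - e) = 0 := by rw [mul_sub, mul_one, he, sub_self]
    rw [this, Scheme.basicOpen_zero]
  have hcov : ∀ x : X, x ∈ X.basicOpen e ∨ x ∈ X.basicOpen (1 - e) := by
    intro x
    rw [Scheme.mem_basicOpen_top, Scheme.mem_basicOpen_top]
    have : X.presheaf.germ ⊤ x trivial e + X.presheaf.germ ⊤ x trivial (1 - e) = 1 := by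
      rw [← map_add]; simp
    exact IsLocalRing.isUnit_or_isUnit_of_add_one this
  have hclopen : IsClopen (X.basicOpen e : Set X) := by
    refine ⟨?_, (X.basicOpen e).isOpen⟩
    have : (X.basicOpen e : Set X) = ((X.basicOpen (1 - e) : Set X))ᶜ := by
      ext x
      simp only [Set.mem_compl_iff, SetLike.mem_coe]
      constructor
      · intro h1 h2
        have : x ∈ X.basicOpen e ⊓ X.basicOpen (1 - e) := ⟨h1, h2⟩
        rw [hdisj] at this
        exact this
      · intro h
        exact (hcov x).resolve_right h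
    rw [this]
    exact (X.basicOpen (1 - e)).isOpen.isClosed_compl
  rcases isClopen_iff.mp hclopen with h | h
  · left
    have : X.basicOpen e = ⊥ := by
      ext x
      simp [← SetLike.mem_coe, h]
    exact (basicOpen_eq_bot_iff e).mp this
  · right
    have : X.basicOpen (1 - e) = ⊥ := by
      ext x
      constructor
      · intro h2
        have h1 : x ∈ X.basicOpen e := by
          rw [← SetLike.mem_coe, h]; trivial
        have : x ∈ X.basicOpen e ⊓ X.basicOpen (1 - e) := ⟨h1, h2⟩
        rw [hdisj] at this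
        exact this
      · intro h2; exact absurd h2 (by simp)
    have := (basicOpen_eq_bot_iff (1 - e)).mp this
    exact (sub_eq_zero.mp this).symm

theorem main (k : Type u) [Field k] (X : Scheme.{u}) [X.Over (Spec (CommRingCat.of k))]
    [ConnectedSpace ↥X] [IsReduced X] :
    letI := ((X ↘ (Spec (CommRingCat.of k))).appTop.hom.comp
      (Scheme.ΓSpecIso (CommRingCat.of k)).inv.hom : k →+* Γ(X, ⊤)).toAlgebra
    IsField ↥(integralClosure k ↑Γ(X, ⊤)) := by
  letI := ((X ↘ (Spec (CommRingCat.of k))).appTop.hom.comp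
      (Scheme.ΓSpecIso (CommRingCat.of k)).inv.hom : k →+* Γ(X, ⊤)).toAlgebra
  haveI : Nonempty X := inferInstance
  haveI : Nonempty (⊤ : X.Opens) := ⟨⟨Classical.arbitrary X, trivial⟩⟩
  haveI : Nontrivial Γ(X, ⊤) := inferInstance
  exact isField_integralClosure k Γ(X, ⊤) (idem_trivial X)

end

/-- Let X be a connected reduced scheme over a field k. Then the global functions on X that are integral
over k form a field. -/
theorem result (k : Type u) [Field k] (X : Scheme.{u}) [X.Over (Spec (CommRingCat.of k))] [ConnectedSpace ↥X] [IsReduced X] :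
    letI := ((X ↘ (Spec (CommRingCat.of k))).appTop.hom.comp (Scheme.ΓSpecIso (CommRingCat.of k)).inv.hom : k →+* Γ(X, ⊤)).toAlgebra
    IsField ↥(integralClosure k ↑Γ(X, ⊤)) := by
  exact Groth.Agent.S7618.main k X

end Groth.Agent.S7618
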