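import Groth.Statements.S7619
import Mathlib
-- import your own Groth.Agent.* helpers here

set_option autoImplicit false
universe u
open CategoryTheory CategoryTheory.Limits AlgebraicGeometry
open scoped TensorProduct
open Variety

namespace Groth.Agent.S7619

section
open TensorProduct KaehlerDifferential

theorem unram_of {A R' B : Type*} [CommRing A] [CommRing R'] [CommRing B] [Algebra A R']
    [Algebra A B] [Algebra R' B] [IsScalarTower A R' B] [Algebra.FiniteType A B]
    (q : Ideal B) [q.IsPrime] {ι : Type*} (x : ι → R')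
    (hspan : Submodule.span q.ResidueField
      (Set.range fun i => (1 : q.ResidueField) ⊗ₜ[B] D A B (algebraMap R' B (x i))) = ⊤) :
    Algebra.IsUnramifiedAt R' q := by
  haveI : Algebra.FiniteType R' B := Algebra.FiniteType.of_restrictScalars_finiteType A R' B
  let f : Ω[B⁄A] →ₗ[B] Ω[B⁄R'] := KaehlerDifferential.map A R' B B
  have hf : Function.Surjective f := KaehlerDifferential.map_surjective A R' B
  let g : q.ResidueField ⊗[B] Ω[B⁄A] →ₗ[q.ResidueField] q.ResidueField ⊗[B] Ω[B⁄R'] :=
    LinearMap.baseChange q.ResidueField f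
  have hg : Function.Surjective g := by
    intro y
    obtain ⟨z, hz⟩ := LinearMap.lTensor_surjective q.ResidueField hf y
    exact ⟨z, hz⟩
  have hg0 : g = 0 := by
    apply LinearMap.ext_on_range hspan
    intro i
    show g ((1 : q.ResidueField) ⊗ₜ[B] D A B (algebraMap R' B (x i))) = 0
    rw [LinearMap.baseChange_tmul]
    show (1 : q.ResidueField) ⊗ₜ[B] (KaehlerDifferential.map A R' B B (D A B (algebraMap R' B (x i)))) = 0
    rw [KaehlerDifferential.map_D, Algebra.algebraMap_self_apply, Derivation.map_algebraMap,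
      tmul_zero]
  have hsub : Subsingleton (q.ResidueField ⊗[B] Ω[B⁄R']) := by
    refine ⟨fun a b => ?_⟩
    obtain ⟨a', rfl⟩ := hg a
    obtain ⟨b', rfl⟩ := hg b
    rw [hg0]
    rfl
  have : (⟨q, inferInstance⟩ : PrimeSpectrum B) ∈ Algebra.unramifiedLocus R' B := by
    rw [Algebra.unramifiedLocus_eq_compl_support, Set.mem_compl_iff,
      Module.mem_support_iff_nontrivial_residueField_tensorProduct, not_nontrivial_iff_subsingleton]
    exact hsub
  exact this

theorem span_top {A B : Type*} [CommRing A] [CommRing B] [Algebra A B] (q : Ideal B) [q.IsPrime] :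
    Submodule.span q.ResidueField
      (Set.range fun b : B => (1 : q.ResidueField) ⊗ₜ[B] D A B b) = ⊤ := by
  have key : ∀ ω : Ω[B⁄A], ∀ c : q.ResidueField, c ⊗ₜ[B] ω ∈ Submodule.span q.ResidueField
      (Set.range fun b : B => (1 : q.ResidueField) ⊗ₜ[B] D A B b) := by
    intro ω
    have hω : ω ∈ Submodule.span B (Set.range (D A B)) := by
      rw [KaehlerDifferential.span_range_derivation]
      trivial
    induction hω using Submodule.span_induction with
    | mem ω h =>
      intro c
      obtain ⟨b, rfl⟩ := h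
      have : c ⊗ₜ[B] D A B b = c • ((1 : q.ResidueField) ⊗ₜ[B] D A B b) := by
        rw [smul_tmul', smul_eq_mul, mul_one]
      rw [this]
      exact Submodule.smul_mem _ _ (Submodule.subset_span ⟨b, rfl⟩)
    | zero =>
      intro c
      rw [tmul_zero]
      exact zero_mem _
    | add x y _ _ hx hy =>
      intro c
      rw [tmul_add]
      exact add_mem (hx c) (hy c)
    | smul a x _ hx =>
      intro c
      rw [← smul_tmul]
      exact hx (a • c)
  rw [eq_top_iff]
  rintro z -
  induction z using TensorProduct.induction_on with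
  | zero => exact zero_mem _
  | tmul c ω => exact key ω c
  | add x y hx hy => exact add_mem hx hy

theorem main (A B : Type u) [CommRing A] [CommRing B] [Algebra A B] [Algebra.FiniteType A B]
    (q : Ideal B) [q.IsPrime] (r : ℕ)
    (hr : Module.finrank q.ResidueField (q.ResidueField ⊗[B] Ω[B⁄A]) = r) :
    ∃ φ : MvPolynomial (Fin r) A →ₐ[A] B,
      letI := φ.toRingHom.toAlgebra
      Algebra.IsUnramifiedAt (MvPolynomial (Fin r) A) q := by
  classical
  have hs := span_top (A := A) q
  obtain ⟨f, hfs, hfspan, -⟩ := Submodule.exists_fun_fin_finrank_span_eq q.ResidueField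
    (Set.range fun b : B => (1 : q.ResidueField) ⊗ₜ[B] D A B b)
  have hcard : Module.finrank q.ResidueField (Submodule.span q.ResidueField
      (Set.range fun b : B => (1 : q.ResidueField) ⊗ₜ[B] D A B b)) = r := by
    rw [hs, finrank_top, hr]
  choose b hb using hfs
  let b' : Fin r → B := fun i => b (Fin.cast hcard.symm i)
  let φ : MvPolynomial (Fin r) A →ₐ[A] B := MvPolynomial.aeval b'
  refine ⟨φ, ?_⟩
  letI := φ.toRingHom.toAlgebra
  haveI : IsScalarTower A (MvPolynomial (Fin r) A) B :=
    IsScalarTower.of_algebraMap_eq (fun a => (φ.commutes a).symm)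
  refine unram_of (A := A) q (fun i => (MvPolynomial.X i : MvPolynomial (Fin r) A)) ?_
  rw [eq_top_iff, ← hs, ← hfspan]
  apply Submodule.span_mono
  rintro _ ⟨i, rfl⟩
  refine ⟨Fin.cast hcard i, ?_⟩
  show (1 : q.ResidueField) ⊗ₜ[B] D A B (φ (MvPolynomial.X (Fin.cast hcard i))) = f i
  rw [← hb i]
  show _ ⊗ₜ[B] D A B (MvPolynomial.aeval b' (MvPolynomial.X (Fin.cast hcard i))) = _
  rw [MvPolynomial.aeval_X]
  show _ ⊗ₜ[B] D A B (b (Fin.cast hcard.symm (Fin.cast hcard i))) = _
  simp

end

/-- Let A → B be a finite type ring map (a finite type morphism of affine schemes), q a prime of B and r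
= dim_{κ(q)} Ω_{B/A} ⊗_B κ(q). Then there is an A-algebra homomorphism A[x_1, …, x_r] → B for which
B is unramified over A[x_1, …, x_r] at q. -/
theorem result (A B : Type u) [CommRing A] [CommRing B] [Algebra A B] [Algebra.FiniteType A B]
    (q : Ideal B) [q.IsPrime] (r : ℕ) (hr : Module.finrank q.ResidueField (q.ResidueField ⊗[B] Ω[B⁄A]) = r) :
    ∃ φ : MvPolynomial (Fin r) A →ₐ[A] B,
      letI := φ.toRingHom.toAlgebra
      Algebra.IsUnramifiedAt (MvPolynomial (Fin r) A) q := by
  exact Groth.Agent.S7619.main A B q r hr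

end Groth.Agent.S7619
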