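import Groth.Statements.S7628
import Groth.Agent.Lib.Helper4.LimSubalgK
import Groth.Agent.Lib.Helper4.LimBC

set_option autoImplicit false
universe u
open CategoryTheory CategoryTheory.Limits AlgebraicGeometry
open Variety

namespace Groth.Agent.S7628

/-- Let X be a scheme over a field k, A a k-algebra and V ⊆ X_A = X ×_k Spec A a quasi-compact open
subset. Then there are a finitely generated k-subalgebra A' ⊆ A and a quasi-compact open subset V' ⊆
X_{A'} such that V is the inverse image of V' under the transition morphism X_A → X_{A'} (any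
morphism compatible with the projections to X and with Spec A → Spec A'; it is unique). -/
theorem result (k : Type u) [Field k] (X : Scheme.{u}) [X.Over (Spec (CommRingCat.of k))] (A : Type u) [CommRing A] [Algebra k A]
    (V : Set ↥(pullback (X ↘ (Spec (CommRingCat.of k))) (Spec.map (CommRingCat.ofHom (algebraMap k A))))) (hV : IsOpen V) (hVc : IsCompact V) :
    ∃ (A' : Subalgebra k A), A'.FG ∧
      ∃ (V' : Set ↥(pullback (X ↘ (Spec (CommRingCat.of k))) (Spec.map (CommRingCat.ofHom (algebraMap k ↥A'))))), IsOpen V' ∧ IsCompact V' ∧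
        ∀ π : pullback (X ↘ (Spec (CommRingCat.of k))) (Spec.map (CommRingCat.ofHom (algebraMap k A))) ⟶
            pullback (X ↘ (Spec (CommRingCat.of k))) (Spec.map (CommRingCat.ofHom (algebraMap k ↥A'))),
          π ≫ pullback.fst _ _ = pullback.fst _ _ →
          π ≫ pullback.snd _ _ = pullback.snd _ _ ≫ Spec.map (CommRingCat.ofHom A'.val.toRingHom) →
            π.base ⁻¹' V' = V := by
  classical
  let B : Scheme.{u} := Spec (CommRingCat.of k)
  let x : X ⟶ B := X ↘ B
  let D := Helper4.LimSubalgK.D k A
  let t := Helper4.LimSubalgK.t k A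
  let c := Helper4.LimSubalgK.cone k A
  let tc' : c.pt ⟶ B := Spec.map (CommRingCat.ofHom (algebraMap k A))
  have h : ∀ i, c.π.app i ≫ t.app i = tc' := fun i => Helper4.LimSubalgK.cone_t k A i
  let cF := Helper4.LimBC.coneX x D t c tc' h
  have : IsConnected (Helper4.LimSubalgK.J k A)ᵒᵖ := IsCofiltered.isConnected _
  have hcF : IsLimit cF := Helper4.LimBC.isLimitX x D t c tc' h (Helper4.LimSubalgK.isLimit k A)
  obtain ⟨i, V', hV'c, hV'⟩ := exists_preimage_eq (Helper4.LimBC.FX x D t) cF hcF ⟨V, hV⟩ hVc
  refine ⟨i.unop.1, i.unop.2, ?_⟩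
  refine ⟨(V' : Set ((Helper4.LimBC.FX x D t).obj i)), ?_, ?_, ?_⟩
  · exact V'.2
  · exact hV'c
  intro π h1 h2
  have hπ : π = cF.π.app i := by
    apply pullback.hom_ext
    · rw [h1]
      exact (Helper4.LimBC.coneX_π_fst x D t c tc' h i).symm
    · rw [h2]
      exact (Helper4.LimBC.coneX_π_snd x D t c tc' h i).symm
  rw [hπ]
  have := congrArg (fun U : TopologicalSpace.Opens cF.pt => (U : Set cF.pt)) hV'
  exact this

end Groth.Agent.S7628
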