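import Groth.Statements.S7621
import Groth.Agent.S7628
import Groth.Agent.Lib.Helper4.GalAct

set_option autoImplicit false
universe u
open CategoryTheory CategoryTheory.Limits AlgebraicGeometry
open Variety

namespace Groth.Agent.S7621

/-- Let K be a (possibly infinite) Galois extension of a field k, X a scheme over k and V a
quasi-compact open subset of X_K. Then there is a subextension k'/k of K, finite over k, such that
every k-automorphism of K fixing k' pointwise maps V onto itself under its action on X_K (an open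
subgroup of the Galois group stabilises V). -/
theorem result (k : Type u) [Field k] (K : Type u) [Field K] [Algebra k K] [IsGalois k K]
    (X : Scheme.{u}) [X.Over (Spec (CommRingCat.of k))] (V : Set ↥(Curv2.bc k X K)) (hV : IsOpen V) (hVc : IsCompact V) :
    ∃ E : IntermediateField k K, FiniteDimensional k ↥E ∧
      ∀ σ : K ≃ₐ[k] K, (∀ a : K, a ∈ E → σ a = a) → (Curv2.galAct k X K σ).base '' V = V := by
  classical
  obtain ⟨A', hfg, V', hV'o, hV'c, hπ⟩ := Groth.Agent.S7628.result k X K V hV hVc
  obtain ⟨s, hs⟩ := hfg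
  haveI : Algebra.IsAlgebraic k K := inferInstance
  refine ⟨IntermediateField.adjoin k (s : Set K), ?_, ?_⟩
  · exact IntermediateField.finiteDimensional_adjoin
      (fun x _ => (Algebra.IsIntegral.isIntegral (R := k) x))
  -- the projection to `X_{A'}`
  let f := X ↘ Spec (CommRingCat.of k)
  let π₀ : pullback f (Spec.map (CommRingCat.ofHom (algebraMap k K))) ⟶
      pullback f (Spec.map (CommRingCat.ofHom (algebraMap k ↥A'))) :=
    pullback.map _ _ _ _ (𝟙 X) (Spec.map (CommRingCat.ofHom A'.val.toRingHom)) (𝟙 _)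
      (by simp) (by
        rw [Category.comp_id, ← Spec.map_comp, ← CommRingCat.ofHom_comp]
        rfl)
  have hπ₀1 : π₀ ≫ pullback.fst _ _ = pullback.fst _ _ :=
    (pullback.lift_fst _ _ _).trans (Category.comp_id _)
  have hπ₀2 : π₀ ≫ pullback.snd _ _ =
      pullback.snd _ _ ≫ Spec.map (CommRingCat.ofHom A'.val.toRingHom) :=
    pullback.lift_snd _ _ _
  have key : ∀ σ : K ≃ₐ[k] K, (∀ a : K, a ∈ IntermediateField.adjoin k (s : Set K) → σ a = a) →
      (Curv2.galAct k X K σ).base ⁻¹' V = V := by
    intro σ hσ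
    have hfix : ∀ a : ↥A', σ (a : K) = a := by
      intro a
      have ha : (a : K) ∈ Algebra.adjoin k (s : Set K) := by rw [hs]; exact a.2
      have hle : Algebra.adjoin k (s : Set K) ≤ AlgHom.equalizer (σ : K →ₐ[k] K) (AlgHom.id k K) := by
        apply Algebra.adjoin_le
        intro x hx
        exact hσ x (IntermediateField.subset_adjoin k _ hx)
      exact hle ha
    have h1 : (Curv2.galAct k X K σ ≫ π₀) ≫ pullback.fst _ _ = pullback.fst _ _ := by
      rw [Category.assoc, hπ₀1]
      exact Groth.Agent.Helper4.GalAct.gA_fst f K σ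
    have h2 : (Curv2.galAct k X K σ ≫ π₀) ≫ pullback.snd _ _ =
        pullback.snd _ _ ≫ Spec.map (CommRingCat.ofHom A'.val.toRingHom) := by
      rw [Category.assoc, hπ₀2]
      have := Groth.Agent.Helper4.GalAct.gA_snd_assoc f K σ
        (Spec.map (CommRingCat.ofHom A'.val.toRingHom))
      refine this.trans ?_
      rw [← Spec.map_comp, ← CommRingCat.ofHom_comp]
      congr 3
      ext a
      exact hfix a
    have e1 := hπ (Curv2.galAct k X K σ ≫ π₀) h1 h2
    have e2 := hπ π₀ hπ₀1 hπ₀2
    calc (Curv2.galAct k X K σ).base ⁻¹' V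
        = (Curv2.galAct k X K σ).base ⁻¹' (π₀.base ⁻¹' V') := by rw [e2]
      _ = (Curv2.galAct k X K σ ≫ π₀).base ⁻¹' V' := rfl
      _ = V := e1
  intro σ hσ
  have hσ' : ∀ a : K, a ∈ IntermediateField.adjoin k (s : Set K) → σ.symm a = a := by
    intro a ha
    have := hσ a ha
    rw [AlgEquiv.symm_apply_eq]
    exact this.symm
  have e := key σ.symm hσ'
  ext t
  constructor
  · rintro ⟨v, hv, rfl⟩
    rw [← e]
    show (Curv2.galAct k X K σ.symm).base ((Curv2.galAct k X K σ).base v) ∈ V
    rw [show (Curv2.galAct k X K σ.symm).base ((Curv2.galAct k X K σ).base v) = v from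
      Groth.Agent.Helper4.GalAct.gA_symm_apply f K σ v]
    exact hv
  · intro ht
    refine ⟨(Curv2.galAct k X K σ.symm).base t, ?_, Groth.Agent.Helper4.GalAct.gA_apply_symm f K σ t⟩
    have : t ∈ (Curv2.galAct k X K σ.symm).base ⁻¹' V := by rw [e]; exact ht
    exact this

end Groth.Agent.S7621
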