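import Groth.Statements.S7623
import Groth.Agent.Lib.Helper19.Jac.Generic
import Groth.Agent.Lib.Helper14.SepGen

set_option autoImplicit false
universe u
open CategoryTheory CategoryTheory.Limits AlgebraicGeometry
open Variety

namespace Groth.Agent.S7623

/-- Let k be a perfect field and A a reduced finite type k-algebra such that Ω_{A/k} is a projective
A-module (locally free, as it is finitely presented). Then A is smooth over k. The scheme statement,
X reduced and locally of finite type over k with Ω_{X/k} locally free is smooth over k, is this
assertion on affine opens. -/
theorem result (k A : Type u) [Field k] [PerfectField k] [CommRing A] [Algebra k A]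
    [Algebra.FiniteType k A] [_root_.IsReduced A] [Module.Projective A Ω[A⁄k]] : Algebra.Smooth k A := by
  rw [Groth.Agent.Helper19.Jac.smooth_iff]
  refine ⟨inferInstance, fun p _ hp => ?_⟩
  rw [Algebra.isGeometricallyReduced_field_iff]
  haveI : _root_.IsReduced (Localization.AtPrime p) :=
    isReduced_localizationPreserves p.primeCompl _ inferInstance
  haveI h1 : _root_.IsReduced (TensorProduct k (Localization.AtPrime p) (AlgebraicClosure k)) :=
    Groth.Agent.Helper14.isReduced_tensor_of_perfectField
  exact isReduced_of_injective
    (Algebra.TensorProduct.comm k (AlgebraicClosure k) (Localization.AtPrime p)).toAlgHom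
    (Algebra.TensorProduct.comm k (AlgebraicClosure k) (Localization.AtPrime p)).injective

end Groth.Agent.S7623
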