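import Groth.Statements.S7625
import Mathlib
import Groth.Agent.Lib.Helper14.AffSpEquidim2
import Groth.Agent.Lib.Helper14.FlatRelDim
-- import your own Groth.Agent.* helpers here

set_option autoImplicit false
universe u
open CategoryTheory CategoryTheory.Limits AlgebraicGeometry
open Variety

namespace Groth.Agent.S7625

/-- Let f : X → S be locally of finite type, x a point of X with image s, V an affine open neighbourhood
of s in S, and suppose dim_x(X_s) = d. Then there is an affine open neighbourhood U of x with f(U) ⊆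
V and a factorisation of f|_U as U → 𝔸^d_V → V with U → 𝔸^d_V locally quasi-finite and locally of
finite type (hence quasi-finite, U being affine). -/
theorem result {X S : Scheme.{u}} (f : X ⟶ S) [LocallyOfFiniteType f] (x : ↥X)
    (V : S.Opens) (hV : IsAffineOpen V) (hxV : f x ∈ V) (d : ℕ) (hd : FlatMor.fibreDimAt f x = d) :
    ∃ (U : X.Opens), IsAffineOpen U ∧ x ∈ U ∧
      ∃ (g : (U : Scheme.{u}) ⟶ (V : Scheme.{u})) (π : (U : Scheme.{u}) ⟶ 𝔸(ULift.{u} (Fin d); (V : Scheme.{u}))),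
        g ≫ V.ι = U.ι ≫ f ∧ π ≫ (𝔸(ULift.{u} (Fin d); (V : Scheme.{u})) ↘ (V : Scheme.{u})) = g ∧
          LocallyQuasiFinite π ∧ LocallyOfFiniteType π := by
  classical
  open Groth.Agent.Helper14 in
  -- an open neighbourhood in the fibre attaining the local dimension
  obtain ⟨W, hxW, hWdim⟩ := FlatRelDim.exists_dim_eq_localDim (T := ↥(f.fiber (f x))) (f.asFiber x)
  have hWd : topologicalKrullDim ((W : Set ↥(f.fiber (f x)))) = d := by rw [hWdim]; exact hd
  obtain ⟨U'set, hU'open, hU'eq⟩ := (f.fiberι (f x)).isEmbedding.isInducing.isOpen_iff.mp W.isOpen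
  let U' : X.Opens := ⟨U'set, hU'open⟩
  have hxU' : x ∈ U' := by
    have : f.asFiber x ∈ (f.fiberι (f x)) ⁻¹' U'set := by rw [hU'eq]; exact hxW
    rw [Set.mem_preimage, f.fiberι_asFiber] at this
    exact this
  obtain ⟨U₁, hU₁, hxU₁, hU₁le⟩ := exists_isAffineOpen_mem_and_subset (x := x)
    (U := f ⁻¹ᵁ V ⊓ U') ⟨hxV, hxU'⟩
  have hle : U₁ ≤ f ⁻¹ᵁ V := fun z hz => (hU₁le hz).1
  have hle' : U₁ ≤ U' := fun z hz => (hU₁le hz).2
  haveI : IsAffine (U₁ : Scheme.{u}) := hU₁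
  haveI : IsAffine (V : Scheme.{u}) := hV
  set f' := f.resLE V U₁ hle with hf'
  have hf'ι : f' ≫ V.ι = U₁.ι ≫ f := Scheme.Hom.resLE_comp_ι f hle
  let x₁ : U₁ := ⟨x, hxU₁⟩
  let y' : V := ⟨f x, hxV⟩
  have hf'val : ∀ u : U₁, (f' u).1 = f u.1 := by
    intro u
    change (f' ≫ V.ι) u = f u.1
    rw [hf'ι]
    rfl
  have hf'x : f' x₁ = y' := Subtype.ext (hf'val x₁)
  have hfdeq : ∀ u : U₁, FlatMor.fibreDimAt f' u = FlatMor.fibreDimAt f u.1 := by
    intro u
    haveI : LocallyOfFiniteType (f' ≫ V.ι) := by rw [hf'ι]; infer_instance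
    rw [Groth.Agent.Helper16.ConsFD.fibreDimAt_comp_mono f' V.ι u]
    have h4 : FlatMor.fibreDimAt (f' ≫ V.ι) u = FlatMor.fibreDimAt (U₁.ι ≫ f) u := by
      rw [hf'ι]
    rw [h4, QuasiSection.fibreDimAt_opens f U₁ u]
  have he' : topologicalKrullDim ↥(f'.fiber y') = d := by
    rw [Groth.Agent.Helper9.TopDim.dim_eq_iSup_localDim]
    apply le_antisymm
    · refine iSup_le fun z => ?_
      have hz : f' (f'.fiberι y' z) = y' := (f'.fiberHomeo y' z).2
      have h1 := FibreChart.localDim_asFiber_congr f' (f'.fiberι y' z) y' hz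
      have h2 : (f'.fiberHomeo y').symm ⟨f'.fiberι y' z, hz⟩ = z := by
        apply (f'.fiberHomeo y').injective
        rw [Homeomorph.apply_symm_apply]
        rfl
      rw [h2] at h1
      rw [← h1, hfdeq]
      set u := f'.fiberι y' z with hu
      have hfu : f u.1 = f x := by
        rw [← hf'val u, hz]
      rw [FibreChart.localDim_asFiber_congr f u.1 (f x) hfu, ← hWd]
      apply Groth.Agent.Helper9.TopDim.localDim_le_of_mem W
      have : (f.fiberHomeo (f x)).symm ⟨u.1, hfu⟩ ∈ (f.fiberι (f x)) ⁻¹' U'set := by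
        rw [Set.mem_preimage, Scheme.Hom.fiberι_fiberHomeo_symm]
        exact hle' u.2
      rw [hU'eq] at this
      exact this
    · have h1 := FibreChart.localDim_asFiber_congr f' x₁ y' hf'x
      rw [hfdeq] at h1
      have h1' : FlatMor.fibreDimAt f x = _ := h1
      rw [hd] at h1'
      rw [h1']
      exact le_iSup (fun z => FlatMor.localDim ↥(f'.fiber y') z) _
  obtain ⟨g', hg', hfin⟩ := Groth.Agent.S3394.result f' y' ⟨x₁, hf'x⟩ d he'
  obtain ⟨-, U₂, hU₂, hqf⟩ := Groth.Agent.S3395.result f' y' ⟨x₁, hf'x⟩ d he' g' hg' hfin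
  have hx₁U₂ : x₁ ∈ U₂ := hU₂ hf'x
  obtain ⟨U₃, hU₃, hx₁U₃, hU₃le⟩ := exists_isAffineOpen_mem_and_subset (x := x₁) (U := U₂) hx₁U₂
  have hU₃le' : U₃ ≤ U₂ := hU₃le
  refine ⟨U₁.ι ''ᵁ U₃, hU₃.image_of_isOpenImmersion U₁.ι, ⟨x₁, hx₁U₃, rfl⟩,
    (U₁.ι.isoImage U₃).inv ≫ U₃.ι ≫ f', (U₁.ι.isoImage U₃).inv ≫ U₃.ι ≫ g', ?_, ?_, ?_, ?_⟩
  · simp only [Category.assoc]
    rw [hf'ι, ← Category.assoc U₃.ι, ← Category.assoc,
      Scheme.Hom.isoImage_inv_ι]
  · simp only [Category.assoc]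
    rw [hg']
  · have h5 : U₃.ι = (U₁ : Scheme.{u}).homOfLE hU₃le' ≫ U₂.ι := by simp
    haveI : LocallyQuasiFinite (U₂.ι ≫ g') := hqf
    have h6 : (U₁.ι.isoImage U₃).inv ≫ U₃.ι ≫ g' =
        ((U₁.ι.isoImage U₃).inv ≫ (U₁ : Scheme.{u}).homOfLE hU₃le') ≫ (U₂.ι ≫ g') := by
      rw [h5]
      simp only [Category.assoc]
    rw [h6]
    infer_instance
  · haveI : LocallyOfFiniteType (g' ≫ (𝔸(ULift.{u} (Fin d); (V : Scheme.{u})) ↘ (V : Scheme.{u}))) := by
      rw [hg']; infer_instance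
    haveI : LocallyOfFiniteType g' := locallyOfFiniteType_of_comp g'
      (𝔸(ULift.{u} (Fin d); (V : Scheme.{u})) ↘ (V : Scheme.{u}))
    infer_instance

end Groth.Agent.S7625
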