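import Groth.Statements.S7631
import Mathlib.AlgebraicGeometry.Morphisms.SchemeTheoreticallyDominant
import Mathlib.AlgebraicGeometry.Morphisms.Flat

set_option autoImplicit false
set_option linter.style.haveILetI false
universe u
open CategoryTheory CategoryTheory.Limits AlgebraicGeometry
open Variety

namespace Groth.Agent.S7631

theorem toImage_dominant {A X : Scheme.{u}} (f : A ⟶ X) [QuasiCompact f] :
    IsSchemeTheoreticallyDominant f.toImage := by
  rw [isSchemeTheoreticallyDominant_iff]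
  have hf : f.toImage.toImage ≫ (f.toImage.ker.subschemeι ≫ f.imageι) = f := by
    rw [← Category.assoc]
    have h1 : f.toImage.toImage ≫ f.toImage.ker.subschemeι = f.toImage :=
      f.toImage.toImage_imageι
    rw [h1]
    exact f.toImage_imageι
  have h1 : (f.toImage.ker.subschemeι ≫ f.imageι).ker ≤ f.imageι.ker := by
    have h := Scheme.Hom.le_ker_comp f.toImage.toImage (f.toImage.ker.subschemeι ≫ f.imageι)
    rw [hf] at h
    rw [show f.imageι.ker = f.ker from Scheme.IdealSheafData.ker_subschemeι _]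
    exact h
  have h2 : f.imageι.ker ≤ (f.toImage.ker.subschemeι ≫ f.imageι).ker :=
    Scheme.Hom.le_ker_comp _ _
  haveI : IsIso f.toImage.ker.subschemeι :=
    IsClosedImmersion.isIso_of_ker_eq (f.toImage.ker.subschemeι ≫ f.imageι) f.imageι
      f.toImage.ker.subschemeι rfl (le_antisymm h1 h2)
  have h3 : f.toImage.ker.subschemeι.ker = ⊥ :=
    IsSchemeTheoreticallyDominant.ker_eq_bot f.toImage.ker.subschemeι
  rw [Scheme.IdealSheafData.ker_subschemeι] at h3
  exact h3

theorem key {S X Y A B : Scheme.{u}} (sX : X ⟶ S) (sY : Y ⟶ S) (sA : A ⟶ S) (sB : B ⟶ S)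
    (hflat : ∀ {T : Scheme.{u}} (s : T ⟶ S), Flat s)
    (f : A ⟶ X) [QuasiCompact f] (g : B ⟶ Y) [QuasiCompact g]
    (hf : f ≫ sX = sA) (hg : g ≫ sY = sB)
    (F : pullback sA sB ⟶ pullback sX sY)
    (hF₁ : F ≫ pullback.fst sX sY = pullback.fst sA sB ≫ f)
    (hF₂ : F ≫ pullback.snd sX sY = pullback.snd sA sB ≫ g) :
    F.ker ≤ f.ker.comap (pullback.fst sX sY) ⊔ g.ker.comap (pullback.snd sX sY) := by
  subst hf hg
  haveI := toImage_dominant f
  haveI := toImage_dominant g
  have htf : f.toImage ≫ (f.imageι ≫ sX) = f ≫ sX := by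
    rw [← Category.assoc, f.toImage_imageι]
  have htg : g.toImage ≫ (g.imageι ≫ sY) = g ≫ sY := by
    rw [← Category.assoc, g.toImage_imageι]
  -- the three maps
  let F₁ : pullback (f ≫ sX) (g ≫ sY) ⟶ pullback (f.imageι ≫ sX) (g ≫ sY) :=
    pullback.map (f ≫ sX) (g ≫ sY) (f.imageι ≫ sX) (g ≫ sY) f.toImage (𝟙 B) (𝟙 S)
      (by rw [Category.comp_id, htf]) (by rw [Category.comp_id, Category.id_comp])
  let F₂ : pullback (f.imageι ≫ sX) (g ≫ sY) ⟶ pullback (f.imageι ≫ sX) (g.imageι ≫ sY) :=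
    pullback.map (f.imageι ≫ sX) (g ≫ sY) (f.imageι ≫ sX) (g.imageι ≫ sY) (𝟙 _) g.toImage (𝟙 S)
      (by rw [Category.comp_id, Category.id_comp]) (by rw [Category.comp_id, htg])
  let ι' : pullback (f.imageι ≫ sX) (g.imageι ≫ sY) ⟶ pullback sX sY :=
    pullback.map (f.imageι ≫ sX) (g.imageι ≫ sY) sX sY f.imageι g.imageι (𝟙 S)
      (by rw [Category.comp_id]) (by rw [Category.comp_id])
  have F₁_fst : F₁ ≫ pullback.fst (f.imageι ≫ sX) (g ≫ sY) =
      pullback.fst (f ≫ sX) (g ≫ sY) ≫ f.toImage := pullback.lift_fst _ _ _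
  have F₁_snd : F₁ ≫ pullback.snd (f.imageι ≫ sX) (g ≫ sY) =
      pullback.snd (f ≫ sX) (g ≫ sY) :=
    (pullback.lift_snd _ _ _).trans (Category.comp_id _)
  have F₂_fst : F₂ ≫ pullback.fst (f.imageι ≫ sX) (g.imageι ≫ sY) =
      pullback.fst (f.imageι ≫ sX) (g ≫ sY) :=
    (pullback.lift_fst _ _ _).trans (Category.comp_id _)
  have F₂_snd : F₂ ≫ pullback.snd (f.imageι ≫ sX) (g.imageι ≫ sY) =
      pullback.snd (f.imageι ≫ sX) (g ≫ sY) ≫ g.toImage := pullback.lift_snd _ _ _
  have ι'_fst : ι' ≫ pullback.fst sX sY =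
      pullback.fst (f.imageι ≫ sX) (g.imageι ≫ sY) ≫ f.imageι := pullback.lift_fst _ _ _
  have ι'_snd : ι' ≫ pullback.snd sX sY =
      pullback.snd (f.imageι ≫ sX) (g.imageι ≫ sY) ≫ g.imageι := pullback.lift_snd _ _ _
  have hfac : (F₁ ≫ F₂) ≫ ι' = F := by
    apply pullback.hom_ext
    · rw [hF₁, Category.assoc, Category.assoc, ι'_fst, ← Category.assoc F₂, F₂_fst,
        ← Category.assoc, F₁_fst, Category.assoc, f.toImage_imageι]
    · rw [hF₂, Category.assoc, Category.assoc, ι'_snd, ← Category.assoc F₂, F₂_snd,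
        Category.assoc, ← Category.assoc F₁, F₁_snd, g.toImage_imageι]
  -- dominance
  haveI : Flat (g ≫ sY) := hflat _
  haveI : Flat (f.imageι ≫ sX) := hflat _
  have sq1 : IsPullback F₁ (pullback.fst (f ≫ sX) (g ≫ sY))
      (pullback.fst (f.imageι ≫ sX) (g ≫ sY)) f.toImage := by
    refine IsPullback.of_right ?_ F₁_fst (IsPullback.of_hasPullback (f.imageι ≫ sX) (g ≫ sY)).flip
    rw [F₁_snd, htf]
    exact (IsPullback.of_hasPullback (f ≫ sX) (g ≫ sY)).flip
  have sq2 : IsPullback F₂ (pullback.snd (f.imageι ≫ sX) (g ≫ sY))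
      (pullback.snd (f.imageι ≫ sX) (g.imageι ≫ sY)) g.toImage := by
    refine IsPullback.of_right ?_ F₂_snd (IsPullback.of_hasPullback (f.imageι ≫ sX) (g.imageι ≫ sY))
    rw [F₂_fst, htg]
    exact IsPullback.of_hasPullback (f.imageι ≫ sX) (g ≫ sY)
  haveI : IsSchemeTheoreticallyDominant F₁ := IsSchemeTheoreticallyDominant.of_isPullback sq1.flip
  haveI : IsSchemeTheoreticallyDominant F₂ := IsSchemeTheoreticallyDominant.of_isPullback sq2.flip
  rw [← hfac, Scheme.Hom.ker_comp, IsSchemeTheoreticallyDominant.ker_eq_bot (F₁ ≫ F₂),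
    Scheme.IdealSheafData.map_bot]
  -- the lift
  generalize hK : f.ker.comap (pullback.fst sX sY) ⊔ g.ker.comap (pullback.snd sX sY) = K
  have hK1 : f.ker.comap (pullback.fst sX sY) ≤ K := hK ▸ le_sup_left
  have hK2 : g.ker.comap (pullback.snd sX sY) ≤ K := hK ▸ le_sup_right
  have Ha : f.imageι.ker ≤ (K.subschemeι ≫ pullback.fst sX sY).ker := by
    rw [Scheme.IdealSheafData.ker_subschemeι, ← Scheme.IdealSheafData.map_ker,
      Scheme.IdealSheafData.ker_subschemeι, Scheme.IdealSheafData.le_map_iff_comap_le]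
    exact hK1
  have Hb : g.imageι.ker ≤ (K.subschemeι ≫ pullback.snd sX sY).ker := by
    rw [Scheme.IdealSheafData.ker_subschemeι, ← Scheme.IdealSheafData.map_ker,
      Scheme.IdealSheafData.ker_subschemeι, Scheme.IdealSheafData.le_map_iff_comap_le]
    exact hK2
  have ha : IsClosedImmersion.lift f.imageι (K.subschemeι ≫ pullback.fst sX sY) Ha ≫ f.imageι =
      K.subschemeι ≫ pullback.fst sX sY := IsClosedImmersion.lift_fac _ _ _
  have hb : IsClosedImmersion.lift g.imageι (K.subschemeι ≫ pullback.snd sX sY) Hb ≫ g.imageι =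
      K.subschemeι ≫ pullback.snd sX sY := IsClosedImmersion.lift_fac _ _ _
  let h : K.subscheme ⟶ pullback (f.imageι ≫ sX) (g.imageι ≫ sY) :=
    pullback.lift (IsClosedImmersion.lift f.imageι (K.subschemeι ≫ pullback.fst sX sY) Ha)
      (IsClosedImmersion.lift g.imageι (K.subschemeι ≫ pullback.snd sX sY) Hb)
      (by rw [← Category.assoc, ha, ← Category.assoc, hb, Category.assoc, Category.assoc,
        pullback.condition])
  have hh : h ≫ ι' = K.subschemeι := by
    apply pullback.hom_ext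
    · rw [Category.assoc, ι'_fst, ← Category.assoc]
      rw [show h ≫ pullback.fst (f.imageι ≫ sX) (g.imageι ≫ sY) = _ from
        pullback.lift_fst _ _ _, ha]
    · rw [Category.assoc, ι'_snd, ← Category.assoc]
      rw [show h ≫ pullback.snd (f.imageι ≫ sX) (g.imageι ≫ sY) = _ from
        pullback.lift_snd _ _ _, hb]
  have hle := Scheme.Hom.le_ker_comp h ι'
  rw [hh, Scheme.IdealSheafData.ker_subschemeι] at hle
  exact hle

/-- Let f : A → X and g : B → Y be quasi-compact morphisms of schemes over a field k and F = f × g : A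
×_k B → X ×_k Y. Then the scheme-theoretic image of F is Z ×_k Z', where Z ⊆ X and Z' ⊆ Y are the
scheme-theoretic images of f and g: in terms of kernel ideal sheaves, ker F is the sum of the
pullback of ker f along the first projection and of ker g along the second. -/
theorem result (k : Type u) [Field k] (X : Scheme.{u}) [X.Over (Spec (CommRingCat.of k))] (Y : Scheme.{u}) [Y.Over (Spec (CommRingCat.of k))]
    (A B : Scheme.{u}) [A.Over (Spec (CommRingCat.of k))] [B.Over (Spec (CommRingCat.of k))]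
    (f : A ⟶ X) [f.IsOver (Spec (CommRingCat.of k))] [QuasiCompact f] (g : B ⟶ Y) [g.IsOver (Spec (CommRingCat.of k))] [QuasiCompact g]
    (F : pullback (A ↘ (Spec (CommRingCat.of k))) (B ↘ (Spec (CommRingCat.of k))) ⟶ pullback (X ↘ (Spec (CommRingCat.of k))) (Y ↘ (Spec (CommRingCat.of k))))
    (hF₁ : F ≫ pullback.fst (X ↘ (Spec (CommRingCat.of k))) (Y ↘ (Spec (CommRingCat.of k))) = pullback.fst (A ↘ (Spec (CommRingCat.of k))) (B ↘ (Spec (CommRingCat.of k))) ≫ f)
    (hF₂ : F ≫ pullback.snd (X ↘ (Spec (CommRingCat.of k))) (Y ↘ (Spec (CommRingCat.of k))) = pullback.snd (A ↘ (Spec (CommRingCat.of k))) (B ↘ (Spec (CommRingCat.of k))) ≫ g) :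
    F.ker = f.ker.comap (pullback.fst (X ↘ (Spec (CommRingCat.of k))) (Y ↘ (Spec (CommRingCat.of k)))) ⊔ g.ker.comap (pullback.snd (X ↘ (Spec (CommRingCat.of k))) (Y ↘ (Spec (CommRingCat.of k)))) := by
  haveI : Subsingleton ↥(Spec (CommRingCat.of k)) :=
    (inferInstance : Subsingleton (PrimeSpectrum k))
  haveI : IsIntegral (Spec (CommRingCat.of k)) := inferInstance
  have hflat : ∀ {T : Scheme.{u}} (s : T ⟶ Spec (CommRingCat.of k)), Flat s :=
    fun s => inferInstance
  apply le_antisymm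
  · exact key (X ↘ (Spec (CommRingCat.of k))) (Y ↘ (Spec (CommRingCat.of k)))
      (A ↘ (Spec (CommRingCat.of k))) (B ↘ (Spec (CommRingCat.of k))) hflat f g
      (comp_over f _) (comp_over g _) F hF₁ hF₂
  · apply sup_le
    · rw [← Scheme.IdealSheafData.le_map_iff_comap_le, Scheme.IdealSheafData.map_ker, hF₁]
      exact Scheme.Hom.le_ker_comp _ _
    · rw [← Scheme.IdealSheafData.le_map_iff_comap_le, Scheme.IdealSheafData.map_ker, hF₂]
      exact Scheme.Hom.le_ker_comp _ _

end Groth.Agent.S7631
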