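import Groth.Statements.S7641
import Groth.Agent.S1519
import Groth.Agent.Lib.Helper12.CompDeg

set_option autoImplicit false
set_option linter.style.haveILetI false
universe u
open CategoryTheory CategoryTheory.Limits AlgebraicGeometry
open Variety

namespace Groth.Agent.S7641

open Groth.Agent.Helper13.PbUnit Groth.Agent.Helper13.PbInv Groth.Agent.Helper12.CompDeg in
/-- each irreducible component lies in the locus where `s` generates, or is disjoint from it. -/
theorem component_dichotomy (k : Type u) [Field k] (X : Scheme.{u})
    [X.Over (Spec (CommRingCat.of k))] [IsProper (X ↘ (Spec (CommRingCat.of k)))]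
    [IsNoetherian X]
    (C : Set X) (hC : C ∈ irreducibleComponents (X : Type u))
    (hdimC : topologicalKrullDim C = 1)
    (L : X.Modules) (hL : PicF.IsInvertible L)
    (hdeg : @Curv2.deg k _ (X.irreducibleComponentIdeal C hC).radical.subscheme
      ⟨(X.irreducibleComponentIdeal C hC).radical.subschemeι ≫ (X ↘ (Spec (CommRingCat.of k)))⟩
      ((Scheme.Modules.pullback (X.irreducibleComponentIdeal C hC).radical.subschemeι).obj L) 1 ≤ 0)
    (s : Coh.structureModule X ⟶ L) :
    C ⊆ (CohB1.genLocus L s : Set X) ∨ Disjoint C (CohB1.genLocus L s : Set X) := by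
  set I := (X.irreducibleComponentIdeal C hC).radical with hI
  set ι := I.subschemeι with hι
  letI : I.subscheme.Over (Spec (CommRingCat.of k)) := ⟨ι ≫ (X ↘ (Spec (CommRingCat.of k)))⟩
  haveI : IsProper (I.subscheme ↘ (Spec (CommRingCat.of k))) := by
    change IsProper (ι ≫ (X ↘ (Spec (CommRingCat.of k))))
    infer_instance
  haveI : IsReduced I.subscheme := isReduced_radical_subscheme _
  haveI : IrreducibleSpace I.subscheme := Subtype.irreducibleSpace hC.1
  haveI : IsIntegral I.subscheme := isIntegral_of_irreducibleSpace_of_isReduced _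
  have hdimZ : topologicalKrullDim I.subscheme = 1 := hdimC
  have hLZ : PicF.IsInvertible ((Scheme.Modules.pullback ι).obj L) := isInvertible_pullback ι L hL
  let e : Coh.structureModule I.subscheme ≅
      (Scheme.Modules.pullback ι).obj (Coh.structureModule X) := (pullbackUnitIso ι).symm
  let sZ : Coh.structureModule I.subscheme ⟶ (Scheme.Modules.pullback ι).obj L :=
    e.hom ≫ (Scheme.Modules.pullback ι).map s
  have hG : CohB1.genLocus ((Scheme.Modules.pullback ι).obj L) sZ = ι ⁻¹ᵁ CohB1.genLocus L s :=
    genLocus_pullback ι L hL s e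
  have hmem : ∀ (x : X) (hx : x ∈ C), x ∈ CohB1.genLocus L s ↔
      (⟨x, hx⟩ : I.subscheme) ∈ CohB1.genLocus ((Scheme.Modules.pullback ι).obj L) sZ := by
    intro x hx
    rw [hG]
    rfl
  by_cases hsZ : sZ = 0
  · right
    rw [Set.disjoint_left]
    intro x hxC hxG
    have h1 := (hmem x hxC).1 hxG
    rw [hsZ, genLocus_zero] at h1
    exact h1
  · left
    intro x hxC
    by_contra hxG
    have h1 : (⟨x, hxC⟩ : I.subscheme) ∉
        CohB1.genLocus ((Scheme.Modules.pullback ι).obj L) sZ := fun h => hxG ((hmem x hxC).2 h)
    have := Groth.Agent.S1519.result k I.subscheme hdimZ _ hLZ sZ hsZ _ h1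
    exact absurd hdeg (not_le.2 this)


/-- Let X be proper over a field k, reduced and connected, with every irreducible component of dimension
one, and let L be an invertible module whose restriction to each irreducible component C, with its
reduced induced structure, has degree at most zero. Then H^0(X, L) = 0 or L is isomorphic to O_X. -/
theorem result (k : Type u) [Field k] (X : Scheme.{u}) [X.Over (Spec (CommRingCat.of k))] [IsProper (X ↘ (Spec (CommRingCat.of k)))]
    [IsReduced X] [ConnectedSpace X] [IsNoetherian X]
    (hdim : ∀ (C : Set X), C ∈ irreducibleComponents (X : Type u) → topologicalKrullDim C = 1)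
    (L : X.Modules) (hL : PicF.IsInvertible L)
    (hdeg : ∀ (C : Set X) (hC : C ∈ irreducibleComponents (X : Type u)), @Curv2.deg k _ (X.irreducibleComponentIdeal C hC).radical.subscheme ⟨(X.irreducibleComponentIdeal C hC).radical.subschemeι ≫ (X ↘ (Spec (CommRingCat.of k)))⟩ ((Scheme.Modules.pullback (X.irreducibleComponentIdeal C hC).radical.subschemeι).obj L) 1 ≤ 0) :
    Subsingleton (Coh.HH X L 0) ∨ Nonempty (L ≅ Coh.structureModule X) := by
  exact Groth.Agent.Helper12.CompDeg.main_of_components L hL
    (fun s C hC => component_dichotomy k X C hC (hdim C hC) L hL (hdeg C hC) s)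

end Groth.Agent.S7641
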