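import Groth.Statements.S7642
import Groth.Agent.S1530
import Groth.Agent.S11559
import Groth.Agent.S1529
import Groth.Agent.Lib.Helper13.AmpleQA
import Groth.Agent.Lib.Helper12.CompDeg

set_option autoImplicit false
set_option linter.style.haveILetI false
universe u
open CategoryTheory CategoryTheory.Limits AlgebraicGeometry
open Variety

namespace Groth.Agent.S7642

open TopologicalSpace Groth.Agent.Helper13.PbInv

theorem withBot_enat_le_zero_of_lt_one (x : WithBot ℕ∞) (hx : x < 1) : x ≤ 0 := by
  induction x using WithBot.recBotCoe with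
  | bot => exact bot_le
  | coe n =>
    have h1 : (n : WithBot ℕ∞) < ((1 : ℕ∞) : WithBot ℕ∞) := hx
    rw [WithBot.coe_lt_coe] at h1
    have h2 : n = 0 := Order.lt_one_iff.1 h1
    rw [h2]
    rfl

/-- transport along an equality of ideal sheaves. -/
theorem isAmple_pullback_congr {X : Scheme.{u}} (L : X.Modules) {I J : X.IdealSheafData}
    (h : I = J) :
    CohB1.IsAmple ((Scheme.Modules.pullback I.subschemeι).obj L) ↔
      CohB1.IsAmple ((Scheme.Modules.pullback J.subschemeι).obj L) := by
  subst h
  rfl

theorem radical_eq_vanishingIdeal (X : Scheme.{u}) [IsNoetherian X] (C : Set X)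
    (hC : C ∈ irreducibleComponents (X : Type u)) :
    (X.irreducibleComponentIdeal C hC).radical =
      Scheme.IdealSheafData.vanishingIdeal ⟨C, isClosed_of_mem_irreducibleComponents C hC⟩ := by
  rw [← Scheme.IdealSheafData.vanishingIdeal_support]
  rfl

/-- ampleness on a one-dimensional component is positivity of the degree. -/
theorem comp_iff (k : Type u) [Field k] (X : Scheme.{u})
    [X.Over (Spec (CommRingCat.of k))] [IsProper (X ↘ (Spec (CommRingCat.of k)))]
    [IsNoetherian X]
    (C : Set X) (hC : C ∈ irreducibleComponents (X : Type u))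
    (hdimC : topologicalKrullDim C = 1)
    (L : X.Modules) (hL : PicF.IsInvertible L) :
    CohB1.IsAmple ((Scheme.Modules.pullback (Scheme.IdealSheafData.vanishingIdeal
      ⟨C, isClosed_of_mem_irreducibleComponents C hC⟩).subschemeι).obj L) ↔
    0 < @Curv2.deg k _ (X.irreducibleComponentIdeal C hC).radical.subscheme
      ⟨(X.irreducibleComponentIdeal C hC).radical.subschemeι ≫ (X ↘ (Spec (CommRingCat.of k)))⟩
      ((Scheme.Modules.pullback (X.irreducibleComponentIdeal C hC).radical.subschemeι).obj L) 1 := by
  rw [← isAmple_pullback_congr L (radical_eq_vanishingIdeal X C hC)]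
  set I := (X.irreducibleComponentIdeal C hC).radical with hI
  set ι := I.subschemeι with hι
  letI : I.subscheme.Over (Spec (CommRingCat.of k)) := ⟨ι ≫ (X ↘ (Spec (CommRingCat.of k)))⟩
  haveI : IsProper (I.subscheme ↘ (Spec (CommRingCat.of k))) := by
    change IsProper (ι ≫ (X ↘ (Spec (CommRingCat.of k))))
    infer_instance
  haveI : IsReduced I.subscheme := Groth.Agent.Helper12.CompDeg.isReduced_radical_subscheme _
  haveI : IrreducibleSpace I.subscheme := Subtype.irreducibleSpace hC.1
  haveI : IsIntegral I.subscheme := isIntegral_of_irreducibleSpace_of_isReduced _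
  have hdimZ : topologicalKrullDim I.subscheme = 1 := hdimC
  have hLZ : PicF.IsInvertible ((Scheme.Modules.pullback ι).obj L) := isInvertible_pullback ι L hL
  exact Groth.Agent.S1530.result k I.subscheme hdimZ _ hLZ

/-- a zero-dimensional component carries only ample invertible modules. -/
theorem isAmple_of_dim_zero (k : Type u) [Field k] (X : Scheme.{u})
    [X.Over (Spec (CommRingCat.of k))] [IsProper (X ↘ (Spec (CommRingCat.of k)))]
    (Z : Closeds X) (hdimZ : topologicalKrullDim (Z : Set X) ≤ 0)
    (L : X.Modules) (hL : PicF.IsInvertible L) :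
    CohB1.IsAmple ((Scheme.Modules.pullback
      (Scheme.IdealSheafData.vanishingIdeal Z).subschemeι).obj L) := by
  set I := Scheme.IdealSheafData.vanishingIdeal Z with hI
  set ι := I.subschemeι with hι
  letI : I.subscheme.Over (Spec (CommRingCat.of k)) := ⟨ι ≫ (X ↘ (Spec (CommRingCat.of k)))⟩
  haveI : IsProper (I.subscheme ↘ (Spec (CommRingCat.of k))) := by
    change IsProper (ι ≫ (X ↘ (Spec (CommRingCat.of k))))
    infer_instance
  have hdimW : topologicalKrullDim I.subscheme ≤ 0 := hdimZ
  haveI : IsAffine I.subscheme := (Groth.Agent.S1529.result k I.subscheme hdimW).1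
  exact Groth.Agent.Helper13.GenLoc.isAmple_of_isQuasiAffine _ (isInvertible_pullback ι L hL)


/-- Let X be proper of dimension at most one over a field k and let L be an invertible module on X. Then
L is ample if and only if deg(L|_C) > 0 for every irreducible component C of X of dimension one, C
carrying its reduced induced structure. -/
theorem result (k : Type u) [Field k] (X : Scheme.{u}) [X.Over (Spec (CommRingCat.of k))] [IsProper (X ↘ (Spec (CommRingCat.of k)))] [IsNoetherian X]
    (hdim : topologicalKrullDim X ≤ 1) (L : X.Modules) (hL : PicF.IsInvertible L) :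
    CohB1.IsAmple L ↔ ∀ (C : Set X) (hC : C ∈ irreducibleComponents (X : Type u)),
      topologicalKrullDim C = 1 → 0 < @Curv2.deg k _ (X.irreducibleComponentIdeal C hC).radical.subscheme ⟨(X.irreducibleComponentIdeal C hC).radical.subschemeι ≫ (X ↘ (Spec (CommRingCat.of k)))⟩ ((Scheme.Modules.pullback (X.irreducibleComponentIdeal C hC).radical.subschemeι).obj L) 1 := by
  rw [Groth.Agent.S11559.result k X L hL]
  constructor
  · intro h C hC hd
    exact (comp_iff k X C hC hd L hL).1 (h ⟨C, isClosed_of_mem_irreducibleComponents C hC⟩ hC)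
  · intro h Z hZ
    by_cases hd : topologicalKrullDim (Z : Set X) = 1
    · exact (comp_iff k X (Z : Set X) hZ hd L hL).2 (h (Z : Set X) hZ hd)
    · apply isAmple_of_dim_zero k X Z _ L hL
      have hle : topologicalKrullDim (Z : Set X) ≤ 1 :=
        (topologicalKrullDim_subspace_le X (Z : Set X)).trans hdim
      have hlt : topologicalKrullDim (Z : Set X) < 1 := lt_of_le_of_ne hle hd
      exact withBot_enat_le_zero_of_lt_one _ hlt

end Groth.Agent.S7642
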