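import Groth.Statements.S7651
import Groth.Agent.Lib.Helper12.DimOneLocal3

set_option autoImplicit false
universe u
open CategoryTheory CategoryTheory.Limits AlgebraicGeometry
open Variety

namespace Groth.Agent.S7651

open Groth.Agent.Helper12.DimOne in

/-- Let (A, m) be a Noetherian local ring of dimension one and f ∈ m. Then (1) m = √(f), (2) f lies in
no minimal prime of A, and (3) A_f ≅ ∏_{p minimal} A_p as A-algebras, are equivalent; such an f
exists; if A has depth one, for instance if A is reduced, they are also equivalent to (4) f is a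
nonzerodivisor and to (5) A → A_f is the localization of A at all its nonzerodivisors; and if A is
reduced they are also equivalent to (6) A_f ≅ ∏_{p minimal} κ(p) as A-algebras. -/
theorem result (A : Type u) [CommRing A] [IsLocalRing A]
    [IsNoetherianRing A] (hdim : ringKrullDim A = 1) :
    (∃ f ∈ IsLocalRing.maximalIdeal A, ∀ p ∈ minimalPrimes A, f ∉ p) ∧
    ∀ f ∈ IsLocalRing.maximalIdeal A,
      ((IsLocalRing.maximalIdeal A = (Ideal.span {f}).radical) ↔ (∀ p ∈ minimalPrimes A, f ∉ p)) ∧
      ((∀ p ∈ minimalPrimes A, f ∉ p) ↔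
        Nonempty (Localization.Away f ≃ₐ[A] (∀ p : {p : PrimeSpectrum A // p.asIdeal ∈ minimalPrimes A}, Localization.AtPrime p.1.asIdeal))) ∧
      ((LocCoh.depth A A = 1 ∨ IsReduced A) →
        ((∀ p ∈ minimalPrimes A, f ∉ p) ↔ f ∈ nonZeroDivisors A) ∧
        ((∀ p ∈ minimalPrimes A, f ∉ p) ↔ IsLocalization (nonZeroDivisors A) (Localization.Away f))) ∧
      (IsReduced A →
        ((∀ p ∈ minimalPrimes A, f ∉ p) ↔
          Nonempty (Localization.Away f ≃ₐ[A] (∀ p : {p : PrimeSpectrum A // p.asIdeal ∈ minimalPrimes A}, p.1.asIdeal.ResidueField)))) := by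
  refine ⟨exists_notMem_minimalPrimes hdim, fun f hf => ⟨?_, ?_, ?_, ?_⟩⟩
  · exact ⟨notMem_of_radical_span_eq hdim, radical_span_eq hdim hf⟩
  · exact ⟨fun h => ⟨awayEquivPiMin hdim hf h⟩, fun ⟨e⟩ => notMem_of_algEquiv_piMin e⟩
  · intro hdr
    have hS : NoSocle A := by
      rcases hdr with h | h
      · exact noSocle_of_depth h
      · exact noSocle_of_isReduced hdim
    exact ⟨⟨mem_nonZeroDivisors_of_notMem hdim hS, notMem_of_mem_nonZeroDivisors⟩,
      ⟨isLocalization_nonZeroDivisors hdim hS hf, notMem_of_isLocalization_nonZeroDivisors⟩⟩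
  · intro hred
    exact ⟨fun h => ⟨(awayEquivPiMin hdim hf h).trans piMinEquivResidue⟩,
      fun ⟨e⟩ => notMem_of_algEquiv_residue e⟩

end Groth.Agent.S7651
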