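import Groth.Statements.S7652
import Groth.Agent.Lib.Helper12.NagataDimOne

set_option autoImplicit false
universe u
open CategoryTheory CategoryTheory.Limits AlgebraicGeometry
open Variety

namespace Groth.Agent.S7652

/-- For a reduced local Nagata ring (A, m) of Krull dimension one, write A' for the integral closure of
A in its total fraction ring. Then A' is a finite A-module, every localization of A' at a prime is
an integrally closed domain, and the quotient A'/A is an A-module of finite length. (The published
statement also says that A' is Nagata, which follows from the finiteness of A' over A; this row does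
not restate it.) -/
theorem result (A : Type u) [CommRing A] [IsLocalRing A]
    [IsReduced A] (hN : CAlg.IsNagata A) (hdim : ringKrullDim A = 1) :
    Module.Finite A (integralClosure A (FractionRing A)) ∧
      (∀ p : PrimeSpectrum (integralClosure A (FractionRing A)),
        IsDomain (Localization.AtPrime p.asIdeal) ∧ IsIntegrallyClosed (Localization.AtPrime p.asIdeal)) ∧
      Curv2.deltaInv A < ⊤ := by
  obtain ⟨hNoeth, hN2⟩ := hN
  haveI := hNoeth
  have hfin : ∀ p : Groth.Agent.Helper12.NagataDimOne.MinP A,
      Module.Finite (A ⧸ p.1) (Groth.Agent.Helper12.NagataDimOne.Bp A p) := fun p =>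
    (hN2 p.1) (FractionRing (A ⧸ p.1)) inferInstance
  haveI hA' : Module.Finite A (integralClosure A (FractionRing A)) :=
    Groth.Agent.Helper12.NagataDimOne.finite_integralClosure hfin
  haveI : Ring.KrullDimLE 1 A := Ring.krullDimLE_iff.mpr hdim.le
  refine ⟨hA', fun p => Groth.Agent.Helper12.NagataDimOne.localization_normal p.asIdeal, ?_⟩
  rw [Curv2.deltaInv]
  exact lt_top_iff_ne_top.mpr (Module.length_ne_top_iff.mpr
    Groth.Agent.Helper12.NagataDimOne.isFiniteLength_quotient)

end Groth.Agent.S7652
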