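import Groth.Statements.S7653
import Groth.Agent.Lib.Helper12.DeltaZero

set_option autoImplicit false
universe u
open CategoryTheory CategoryTheory.Limits AlgebraicGeometry
open Variety

namespace Groth.Agent.S7653

/-- For a reduced local Nagata ring A of Krull dimension one, the δ-invariant of A is zero exactly when
A is a DVR (in particular a domain). -/
theorem result (A : Type u) [CommRing A] [IsLocalRing A]
    [IsReduced A] (hN : CAlg.IsNagata A) (hdim : ringKrullDim A = 1) :
    Curv2.deltaInv A = 0 ↔ ∃ _ : IsDomain A, IsDiscreteValuationRing A := by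
  haveI : IsNoetherianRing A := hN.1
  unfold Curv2.deltaInv
  rw [Module.length_eq_zero_iff, Submodule.Quotient.subsingleton_iff]
  constructor
  · intro hrange
    have hcl : ∀ x : FractionRing A, IsIntegral A x →
        ∃ a : A, algebraMap A (FractionRing A) a = x := by
      intro x hx
      have hmem : (⟨x, hx⟩ : ↥(integralClosure A (FractionRing A))) ∈
          LinearMap.range (Algebra.linearMap A ↥(integralClosure A (FractionRing A))) := by
        rw [hrange]; exact Submodule.mem_top
      obtain ⟨a, ha⟩ := hmem
      exact ⟨a, congrArg Subtype.val ha⟩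
    have hdom : IsDomain A := Groth.Agent.Helper12.DeltaZero.isDomain_of_closed hcl
    refine ⟨hdom, ?_⟩
    have hic : IsIntegrallyClosed A := (isIntegrallyClosed_iff (FractionRing A)).mpr
      (fun {x} hx => hcl x hx)
    have hkd : Ring.KrullDimLE 1 A := Ring.krullDimLE_iff.mpr (by rw [hdim]; exact le_rfl)
    have hprimes : ∀ P : Ideal A, P ≠ ⊥ → P.IsPrime → P = IsLocalRing.maximalIdeal A := by
      intro P hP hPp
      exact IsLocalRing.eq_maximalIdeal (hPp.isMaximal_of_ne_bot hP)
    have htfae := (tfae_of_isNoetherianRing_of_isLocalRing_of_isDomain A).out 3 0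
    have hpir : IsPrincipalIdealRing A := htfae.mp ⟨hic, hprimes⟩
    have hnf : IsLocalRing.maximalIdeal A ≠ ⊥ := by
      intro hbot
      have hfield : IsField A := IsLocalRing.isField_iff_maximalIdeal_eq.mpr hbot
      have := ringKrullDim_eq_zero_of_isField hfield
      rw [hdim] at this
      exact one_ne_zero this
    exact { hpir with not_a_field' := hnf }
  · rintro ⟨hdom, hdvr⟩
    rw [eq_top_iff]
    intro q _
    obtain ⟨a, ha⟩ := (isIntegrallyClosed_iff (FractionRing A)).mp inferInstance q.2
    exact ⟨a, Subtype.ext ha⟩

end Groth.Agent.S7653
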