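import Groth.Statements.S7655
import Groth.Agent.Lib.Helper12.GeomBranches

set_option autoImplicit false
universe u
open CategoryTheory CategoryTheory.Limits AlgebraicGeometry
open Variety

namespace Groth.Agent.S7655

/-- Let (A, m) be a reduced Nagata local ring of dimension one. Then the δ-invariant of A is at least
the number of geometric branches of A minus one. -/
theorem result (A : Type u) [CommRing A] [IsLocalRing A]
    [IsReduced A] (hN : CAlg.IsNagata A) (hdim : ringKrullDim A = 1) :
    Brnch.numGeomBranches A ≤ Curv2.deltaInv A + 1 := by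
  obtain ⟨hNoeth, -⟩ := hN
  haveI := hNoeth
  have hfin : (minimalPrimes A).Finite := minimalPrimes.finite_of_isNoetherianRing A
  rw [Brnch.numGeomBranches, if_pos hfin]
  let q : A →+* CAlg2.red A := Ideal.Quotient.mk (nilradical A)
  have hq : Function.Bijective q := by
    refine ⟨?_, Ideal.Quotient.mk_surjective⟩
    rw [injective_iff_map_eq_zero]
    intro a ha
    rw [Ideal.Quotient.eq_zero_iff_mem, nilradical_eq_zero] at ha
    exact ha
  let φ : A →+* CAlg2.normRed A := (algebraMap (CAlg2.red A) (CAlg2.normRed A)).comp q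
  letI alg : Algebra A (CAlg2.normRed A) := φ.toAlgebra
  have h1 := @Groth.Agent.Helper12.GeomBranches.card_sigma_E_le A _ _ (CAlg2.normRed A) _ alg
    (AlgebraicClosure (IsLocalRing.ResidueField A)) _ _
  have h2 := @Groth.Agent.Helper12.GeomBranches.δ'_le A (CAlg2.red A) _ _ q hq alg (fun a => rfl)
  calc ENat.card (Σ m' : MaximalSpectrum (CAlg2.normRed A), Brnch.Emb A m')
      ≤ Groth.Agent.Helper12.GeomBranches.δ' A (CAlg2.normRed A) + 1 := h1
    _ ≤ Curv2.deltaInv A + 1 := add_le_add_left h2 1

end Groth.Agent.S7655
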