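import Groth.Statements.S7661
import Mathlib.RingTheory.Ideal.Operations
import Mathlib.Order.Preorder.Finite

set_option autoImplicit false
universe u
open CategoryTheory CategoryTheory.Limits AlgebraicGeometry
open Variety

namespace Groth.Agent.S7661

theorem avoid (A : Type u) [CommRing A] (I : Ideal A)
    (s : Finset (Ideal A)) (hs : ∀ p ∈ s, p.IsPrime) (hI : ∀ p ∈ s, ¬ I ≤ p) (f₀ : A) :
    ∃ a ∈ I, ∀ p ∈ s, f₀ + a ∉ p := by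
  classical
  obtain ⟨M, hM⟩ : ∃ M : Finset (Ideal A), ∀ p, p ∈ M ↔ (p ∈ s ∧ Maximal (· ∈ s) p) :=
    ⟨s.filter fun p => Maximal (· ∈ s) p, fun p => by simp⟩
  obtain ⟨s₁, hs₁⟩ : ∃ s₁ : Finset (Ideal A), ∀ p, p ∈ s₁ ↔ (p ∈ M ∧ f₀ ∈ p) :=
    ⟨M.filter fun p => f₀ ∈ p, fun p => by simp⟩
  obtain ⟨s₂, hs₂⟩ : ∃ s₂ : Finset (Ideal A), ∀ p, p ∈ s₂ ↔ (p ∈ M ∧ f₀ ∉ p) :=
    ⟨M.filter fun p => f₀ ∉ p, fun p => by simp⟩
  obtain ⟨J, hJ⟩ : ∃ J : Ideal A, J = I * ∏ q ∈ s₂, q := ⟨_, rfl⟩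
  have hnot : ¬ ∃ p ∈ s₁, J ≤ p := by
    rintro ⟨p, hp, hJp⟩
    have hp1 := (hs₁ p).mp hp
    have hps := ((hM p).mp hp1.1).1
    have hpp := hs p hps
    rw [hJ] at hJp
    rcases (Ideal.IsPrime.mul_le hpp).mp hJp with h | h
    · exact hI p hps h
    · obtain ⟨q, hq, hqp⟩ := (Ideal.IsPrime.prod_le hpp).mp h
      have hq1 := (hs₂ q).mp hq
      have hqmax := ((hM q).mp hq1.1).2
      have hpq : p ≤ q := hqmax.2 hps hqp
      exact hq1.2 (hpq hp1.2)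
  have hnot' : ¬ ((J : Set A) ⊆ ⋃ p ∈ (↑s₁ : Set (Ideal A)), ((fun q : Ideal A => q) p : Ideal A)) := by
    rw [Ideal.subset_union_prime (f := fun q : Ideal A => q) ⊥ ⊥]
    · exact hnot
    · intro p hp _ _
      exact hs p ((hM p).mp ((hs₁ p).mp hp).1).1
  obtain ⟨a, haJ, ha⟩ := Set.not_subset.mp hnot'
  have haI : a ∈ I := by rw [hJ] at haJ; exact Ideal.mul_le_left haJ
  have ha2 : ∀ q ∈ s₂, a ∈ q := by
    intro q hq
    rw [hJ] at haJ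
    have h1 : I * ∏ q ∈ s₂, q ≤ ∏ q ∈ s₂, q := Ideal.mul_le_right
    have h2 : (∏ q ∈ s₂, q) ≤ s₂.inf id := Ideal.prod_le_inf
    exact (Finset.inf_le hq : s₂.inf id ≤ id q) (h2 (h1 haJ))
  have ha1 : ∀ p ∈ s₁, a ∉ p := by
    intro p hp hap
    apply ha
    simp only [Set.mem_iUnion]
    exact ⟨p, hp, hap⟩
  refine ⟨a, haI, fun p hp hfa => ?_⟩
  obtain ⟨p', hpp', hp'max⟩ := (s.finite_toSet).exists_le_maximal hp
  have hp'M : p' ∈ M := (hM p').mpr ⟨hp'max.1, hp'max⟩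
  have hfa' : f₀ + a ∈ p' := hpp' hfa
  by_cases hf : f₀ ∈ p'
  · have : p' ∈ s₁ := (hs₁ p').mpr ⟨hp'M, hf⟩
    exact ha1 p' this ((Ideal.add_mem_iff_right p' hf).mp hfa')
  · have : p' ∈ s₂ := (hs₂ p').mpr ⟨hp'M, hf⟩
    exact hf ((Ideal.add_mem_iff_left p' (ha2 p' this)).mp hfa')


/-- Let A be a ring, I an ideal, p_1, …, p_r prime ideals with I ⊄ p_i for all i, and let f̄ ∈ A/I. Then
f̄ lifts to an element f ∈ A with f ∉ p_i for all i. -/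
theorem result (A : Type u) [CommRing A] (I : Ideal A)
    (s : Finset (Ideal A)) (hs : ∀ p ∈ s, p.IsPrime) (hI : ∀ p ∈ s, ¬ I ≤ p) (fbar : A ⧸ I) :
    ∃ f : A, Ideal.Quotient.mk I f = fbar ∧ ∀ p ∈ s, f ∉ p := by
  obtain ⟨f₀, rfl⟩ := Ideal.Quotient.mk_surjective fbar
  obtain ⟨a, haI, ha⟩ := avoid A I s hs hI f₀
  refine ⟨f₀ + a, ?_, ha⟩
  rw [map_add, Ideal.Quotient.eq_zero_iff_mem.mpr haI, add_zero]

end Groth.Agent.S7661
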