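import Groth.Statements.S7664
import Groth.Agent.Lib.Helper12.SemiGlue2

set_option autoImplicit false
universe u
open CategoryTheory CategoryTheory.Limits AlgebraicGeometry
open Variety

namespace Groth.Agent.S7664

/-- Let K be a field, A ⊆ K a Noetherian semi-local domain of dimension one and B ⊆ K a discrete
valuation ring, both with fraction field K, and R = A ∩ B. (a) If some unit of A does not lie in R,
then Spec A and Spec B each map to Spec R by an open immersion, Spec R is the union of the two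
images, and the natural map A ⊗_R B → K is an isomorphism. (b) If every unit of A lies in R, then B
dominates the local ring of A at one of its maximal ideals (A ⊆ B and the maximal ideal of B
contracts to a maximal ideal of A) and A ⊗ B → K is not surjective. -/
theorem result (K : Type u) [Field K]
    (A : Subring K) [IsFractionRing A K] [IsNoetherianRing A] (hdim : ringKrullDim A = 1) (hsl : Finite (MaximalSpectrum A))
    (B : ValuationSubring K) [IsDiscreteValuationRing B] :
    ((∃ u : A, IsUnit u ∧ (u : K) ∉ B) →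
      IsOpenImmersion (Spec.map (CommRingCat.ofHom (Subring.inclusion (inf_le_left : A ⊓ B.toSubring ≤ A)))) ∧
      IsOpenImmersion (Spec.map (CommRingCat.ofHom (Subring.inclusion (inf_le_right : A ⊓ B.toSubring ≤ B.toSubring)))) ∧
      Set.range (Spec.map (CommRingCat.ofHom (Subring.inclusion (inf_le_left : A ⊓ B.toSubring ≤ A)))).base ∪
        Set.range (Spec.map (CommRingCat.ofHom (Subring.inclusion (inf_le_right : A ⊓ B.toSubring ≤ B.toSubring)))).base = Set.univ ∧
      IsPushout (CommRingCat.ofHom (Subring.inclusion (inf_le_left : A ⊓ B.toSubring ≤ A)))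
        (CommRingCat.ofHom (Subring.inclusion (inf_le_right : A ⊓ B.toSubring ≤ B.toSubring)))
        (CommRingCat.ofHom A.subtype) (CommRingCat.ofHom B.toSubring.subtype)) ∧
    ((∀ u : A, IsUnit u → (u : K) ∈ B) →
      (∃ h : A ≤ B.toSubring,
        (Ideal.comap (Subring.inclusion h) (IsLocalRing.maximalIdeal B)).IsMaximal) ∧ A ⊔ B.toSubring ≠ ⊤) := by
  open Groth.Agent.Helper12.SemiGlue in
  classical
  have hA1 : OneDim A := oneDim_of_ringKrullDim_le hdim.le
  have hnf : ¬ IsField A := by
    intro h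
    have := ringKrullDim_eq_zero_of_isField h
    rw [hdim] at this
    exact one_ne_zero this
  obtain ⟨y, hy0, hy⟩ := exists_ne_zero_mem_Jac A hsl hnf
  have : IsFractionRing B.toSubring K := inferInstanceAs (IsFractionRing B K)
  have hB1 : OneDim B.toSubring := fun I hI hp =>
    Ring.DimensionLEOne.maximalOfPrime (R := B) hI hp
  obtain ⟨ϖ, hϖB, hϖ0, hϖinv⟩ := exists_inv_not_mem_of_isDiscreteValuationRing B
  refine ⟨?_, ?_⟩
  · rintro ⟨u, hu, huB⟩
    obtain ⟨hu0, huinv⟩ := (isUnit_subring_iff u).mp hu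
    have hπB : (u : K)⁻¹ ∈ Jac B.toSubring := mem_Jac_valuationSubring B (by rwa [inv_inv])
    obtain ⟨g, hgA, hgB, hg0, hg1⟩ := exists_glue_of_unit hB1 hy hy0 (inv_ne_zero hu0)
      (by rw [inv_inv]; exact u.2) hπB
    obtain ⟨hLA, hLB⟩ := isLoc_of_glue hA1 hB1 hgA hgB hg0 hg1
    exact glue_conclusion hLA hLB (by ring) (exists_pow_mul_mem hB1 hgB)
  · intro hunits
    have hle : A ≤ B.toSubring := by
      intro a ha
      by_contra haB
      have haB' : a ∉ B := haB
      have hainv : a⁻¹ ∈ Jac B.toSubring := mem_Jac_valuationSubring B (by rwa [inv_inv])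
      have ha0 : a ≠ 0 := by
        rintro rfl
        exact haB B.toSubring.zero_mem
      obtain ⟨n, hn⟩ := exists_pow_mul_mem hB1 hainv y⁻¹
      have hq : a⁻¹ * (a⁻¹ ^ n * y⁻¹) ∈ Jac B.toSubring := Jac.mul_mem hainv hn
      have hq0 : a⁻¹ * (a⁻¹ ^ n * y⁻¹) ≠ 0 :=
        mul_ne_zero (inv_ne_zero ha0) (mul_ne_zero (pow_ne_zero _ (inv_ne_zero ha0))
          (inv_ne_zero hy0))
      have hpq : (a⁻¹ * (a⁻¹ ^ n * y⁻¹))⁻¹ = y * a ^ (n + 1) := by
        rw [mul_inv, mul_inv, inv_inv, inv_inv, inv_pow, inv_inv, pow_succ]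
        ring
      have hp : (a⁻¹ * (a⁻¹ ^ n * y⁻¹))⁻¹ ∈ Jac A := by
        rw [hpq]
        exact Jac.mul_mem hy (A.pow_mem ha _)
      generalize a⁻¹ * (a⁻¹ ^ n * y⁻¹) = q at hq hq0 hp
      have hu : IsUnit (⟨1 + q⁻¹, A.add_mem A.one_mem (Jac.mem hp)⟩ : A) :=
        (isUnit_subring_iff _).mpr ⟨Jac.one_add_ne_zero hp, Jac.inv_one_add_mem hp⟩
      have huB : 1 + q⁻¹ ∈ B.toSubring := hunits _ hu
      have hq1 : 1 + q ≠ 0 := Jac.one_add_ne_zero hq
      have hqinv : q⁻¹ ∈ B.toSubring := by
        have h1 : q⁻¹ = (1 + q⁻¹) * (1 + q)⁻¹ := by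
          field_simp
          ring
        rw [h1]
        exact B.toSubring.mul_mem huB (Jac.inv_one_add_mem hq)
      have h1 : (1 : K) ∈ Jac B.toSubring := by
        have := Jac.mul_mem hq hqinv
        rwa [mul_inv_cancel₀ hq0] at this
      exact Jac.one_not_mem h1
    refine ⟨⟨hle, ?_⟩, ?_⟩
    · refine hA1 _ ?_ (Ideal.comap_isPrime _ _)
      intro hbot
      obtain ⟨a, s, hs, has⟩ := IsFractionRing.div_surjective (A := A) ϖ⁻¹
      have hs0 : s ≠ 0 := nonZeroDivisors.ne_zero hs
      have hsK : (s : K) ≠ 0 := fun h => hs0 (Subtype.ext h)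
      have hsm : s ∉ Ideal.comap (Subring.inclusion hle) (IsLocalRing.maximalIdeal B) := by
        rw [hbot]
        exact hs0
      have hsu : IsUnit (Subring.inclusion hle s : B.toSubring) := by
        have : (Subring.inclusion hle s : B) ∉ IsLocalRing.maximalIdeal B := hsm
        exact IsLocalRing.notMem_maximalIdeal.mp this
      have hsinv : (s : K)⁻¹ ∈ B.toSubring := ((isUnit_subring_iff _).mp hsu).2
      apply hϖinv
      rw [← has]
      show (a : K) / (s : K) ∈ B.toSubring
      rw [div_eq_mul_inv]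
      exact B.toSubring.mul_mem (hle a.2) hsinv
    · rw [sup_eq_right.mpr hle]
      intro htop
      apply hϖinv
      have : ϖ⁻¹ ∈ B.toSubring := by rw [htop]; exact Subring.mem_top _
      exact this

end Groth.Agent.S7664
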