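import Groth.Statements.S7665
import Groth.Agent.Lib.Helper12.SemiGlue6

set_option autoImplicit false
universe u
open CategoryTheory CategoryTheory.Limits AlgebraicGeometry
open Variety

namespace Groth.Agent.S7665

/-- Let K be a field and A_1, …, A_r ⊆ K (r ≥ 1) Noetherian semi-local rings of dimension one with
fraction field K, and assume A_i and A_j generate K as a ring whenever i ≠ j. Then A = A_1 ∩ … ∩ A_r
is a Noetherian semi-local domain of dimension one with fraction field K contained in every A_i,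
each Spec A_i → Spec A is an open immersion, Spec A is the union of their images, and every closed
point of Spec A belongs to the image of exactly one Spec A_i. (The published statement asserts only
that some such subring A exists; this row takes A to be the intersection A_1 ∩ … ∩ A_r.) -/
theorem result (K : Type u) [Field K] (r : ℕ) (hr : 1 ≤ r)
    (A : Fin r → Subring K) [∀ i, IsNoetherianRing (A i)] [∀ i, IsFractionRing (A i) K]
    (hdim : ∀ i, ringKrullDim (A i) = 1) (hsl : ∀ i, Finite (MaximalSpectrum (A i)))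
    (hgen : ∀ i j, i ≠ j → A i ⊔ A j = ⊤) :
    IsNoetherianRing ↥(⨅ i, A i) ∧ ringKrullDim ↥(⨅ i, A i) = 1 ∧ Finite (MaximalSpectrum ↥(⨅ i, A i)) ∧
      IsFractionRing ↥(⨅ i, A i) K ∧
      (∀ i, IsOpenImmersion (Spec.map (CommRingCat.ofHom (Subring.inclusion (iInf_le A i))))) ∧
      (⋃ i, Set.range (Spec.map (CommRingCat.ofHom (Subring.inclusion (iInf_le A i)))).base) = Set.univ ∧
      (∀ m : PrimeSpectrum ↥(⨅ i, A i), m.asIdeal.IsMaximal →
        ∃! i, m ∈ Set.range (Spec.map (CommRingCat.ofHom (Subring.inclusion (iInf_le A i)))).base) := by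
  open Groth.Agent.Helper12.SemiGlue in
  classical
  have hA : ∀ i, Nice (A i) := fun i => ⟨inferInstance, inferInstance, hdim i, hsl i⟩
  have hne : (Finset.univ : Finset (Fin r)).Nonempty := ⟨⟨0, hr⟩, Finset.mem_univ _⟩
  have hinv := inv_of_pairwise A hA hgen Finset.univ hne
  obtain ⟨hN, hloc, hcov⟩ := hinv (⨅ i, A i) (Finset.inf_univ_eq_iInf A).symm
  choose f hf using fun i => hloc i (Finset.mem_univ i)
  refine ⟨hN.noeth, hN.dim, hN.fin, hN.frac, fun i => (hf i).isOpenImmersion, ?_, ?_⟩
  · rw [Set.eq_univ_iff_forall]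
    intro p
    obtain ⟨i, -, hle, q, hq⟩ := hcov p
    rw [Set.mem_iUnion]
    exact ⟨i, q, hq⟩
  · intro m hm
    obtain ⟨i, -, hle, q, hq⟩ := hcov m
    refine ⟨i, ⟨q, hq⟩, ?_⟩
    intro j hj
    by_contra hji
    have hi : m ∈ Set.range (Spec.map (CommRingCat.ofHom
        (Subring.inclusion (iInf_le A i)))).base := ⟨q, hq⟩
    have hfi : (⟨f i, (hf i).mem⟩ : (⨅ i, A i : Subring K)) ∉ m.asIdeal := by
      have := (hf i).range_eq
      rw [this] at hi
      exact hi
    have hfj : (⟨f j, (hf j).mem⟩ : (⨅ i, A i : Subring K)) ∉ m.asIdeal := by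
      have := (hf j).range_eq
      rw [this] at hj
      exact hj
    have hm0 : m.asIdeal ≠ ⊥ := Ring.ne_bot_of_isMaximal_of_not_isField hm hN.not_isField
    obtain ⟨x, hx, hx0⟩ := Submodule.exists_mem_ne_zero_of_ne_bot hm0
    have hxK : (x : K) ≠ 0 := fun h => hx0 (Subtype.ext h)
    have hfij : f i * f j ∈ (⨅ i, A i : Subring K) := Subring.mul_mem _ (hf i).mem (hf j).mem
    have h1 : A i ≤ locSubring (⨅ i, A i) (f i * f j) hfij := by
      intro a ha
      obtain ⟨n, hn⟩ := (hf i).exists_pow a ha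
      refine ⟨n, ?_⟩
      have : (f i * f j) ^ n * a = f j ^ n * (f i ^ n * a) := by rw [mul_pow]; ring
      rw [this]
      exact Subring.mul_mem _ (Subring.pow_mem _ (hf j).mem n) hn
    have h2 : A j ≤ locSubring (⨅ i, A i) (f i * f j) hfij := by
      intro a ha
      obtain ⟨n, hn⟩ := (hf j).exists_pow a ha
      refine ⟨n, ?_⟩
      have : (f i * f j) ^ n * a = f i ^ n * (f j ^ n * a) := by rw [mul_pow]; ring
      rw [this]
      exact Subring.mul_mem _ (Subring.pow_mem _ (hf i).mem n) hn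
    have h3 : (⊤ : Subring K) ≤ locSubring (⨅ i, A i) (f i * f j) hfij := by
      rw [← hgen i j (fun h => hji h.symm)]
      exact sup_le h1 h2
    obtain ⟨n, hn⟩ := h3 (Subring.mem_top (x : K)⁻¹)
    have h4 : ((⟨f i, (hf i).mem⟩ : (⨅ i, A i : Subring K)) * ⟨f j, (hf j).mem⟩) ^ n =
        ⟨(f i * f j) ^ n * (x : K)⁻¹, hn⟩ * x := by
      apply Subtype.ext
      show (f i * f j) ^ n = (f i * f j) ^ n * (x : K)⁻¹ * (x : K)
      rw [mul_assoc, inv_mul_cancel₀ hxK, mul_one]
    have h5 : ((⟨f i, (hf i).mem⟩ : (⨅ i, A i : Subring K)) * ⟨f j, (hf j).mem⟩) ^ n ∈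
        m.asIdeal := by
      rw [h4]
      exact Ideal.mul_mem_left _ _ hx
    have h6 := m.isPrime.mem_of_pow_mem n h5
    rcases m.isPrime.mem_or_mem h6 with h7 | h7
    · exact hfi h7
    · exact hfj h7

end Groth.Agent.S7665
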