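import Groth.Statements.S7666
import Mathlib.RingTheory.Ideal.MinimalPrime.Localization
import Mathlib.RingTheory.Finiteness.Ideal
import Mathlib.RingTheory.Noetherian.Basic
import Mathlib.Order.KrullDimension
import Mathlib.Algebra.Ring.GeomSum
import Mathlib.Tactic

set_option autoImplicit false
universe u
open CategoryTheory CategoryTheory.Limits AlgebraicGeometry
open Variety

namespace Groth.Agent.S7666

/-- Let A be a one-dimensional Noetherian local ring and L = ∏ A_p, the product over the minimal primes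
of A. If a_1, a_2 ∈ m_A have the same image in L, then a_1 and a_2 have equal n-th powers for some
positive integer n. -/
theorem result (A : Type u) [CommRing A]
    [IsLocalRing A] [IsNoetherianRing A] (hdim : ringKrullDim A = 1)
    (a₁ a₂ : A) (h₁ : a₁ ∈ IsLocalRing.maximalIdeal A) (h₂ : a₂ ∈ IsLocalRing.maximalIdeal A)
    (heq : ∀ p : {p : PrimeSpectrum A // p.asIdeal ∈ minimalPrimes A},
      algebraMap A (Localization.AtPrime p.1.asIdeal) a₁ = algebraMap A (Localization.AtPrime p.1.asIdeal) a₂) :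
    ∃ n : ℕ, 0 < n ∧ a₁ ^ n = a₂ ^ n := by
  classical
  -- the annihilator of the difference
  have hJmem : ∀ s : A, s ∈ Ideal.torsionOf A A (a₁ - a₂) ↔ s * (a₁ - a₂) = 0 := by
    intro s; rw [Ideal.mem_torsionOf_iff, smul_eq_mul]
  have hmin : ∀ q : Ideal A, q ∈ minimalPrimes A →
      ∃ s ∈ Ideal.torsionOf A A (a₁ - a₂), s ∉ q := by
    intro q hq
    have hqp : q.IsPrime := hq.1.1
    have h := heq ⟨⟨q, hqp⟩, hq⟩
    obtain ⟨c, hc⟩ := (IsLocalization.eq_iff_exists q.primeCompl _).1 h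
    refine ⟨c, ?_, c.2⟩
    rw [hJmem, mul_sub, hc, sub_self]
  have hrad : IsLocalRing.maximalIdeal A ≤ (Ideal.torsionOf A A (a₁ - a₂)).radical := by
    rw [Ideal.radical_eq_sInf]
    refine le_sInf ?_
    rintro q ⟨hJq, hq⟩
    by_contra hmq
    have hqm : q ≤ IsLocalRing.maximalIdeal A := IsLocalRing.le_maximalIdeal hq.ne_top
    have hqltm : q < IsLocalRing.maximalIdeal A := lt_of_le_not_ge hqm hmq
    obtain ⟨p₀, hp₀, hp₀q⟩ := Ideal.exists_minimalPrimes_le (bot_le : (⊥ : Ideal A) ≤ q)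
    have hp₀' : p₀ ∈ minimalPrimes A := hp₀
    obtain ⟨s, hsJ, hsp⟩ := hmin p₀ hp₀'
    have hp₀ltq : p₀ < q := lt_of_le_of_ne hp₀q (fun h => hsp (h ▸ hJq hsJ))
    let x0 : PrimeSpectrum A := ⟨p₀, hp₀.1.1⟩
    let x1 : PrimeSpectrum A := ⟨q, hq⟩
    let x2 : PrimeSpectrum A := ⟨IsLocalRing.maximalIdeal A, inferInstance⟩
    have h01 : x0 < x1 := hp₀ltq
    have h12 : x1 < x2 := hqltm
    let s0 : LTSeries (PrimeSpectrum A) := RelSeries.singleton _ x0
    let s1 : LTSeries (PrimeSpectrum A) := s0.snoc x1 (by simpa [s0] using h01)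
    let s2 : LTSeries (PrimeSpectrum A) := s1.snoc x2 (by simpa [s1] using h12)
    have hlen : s2.length = 2 := by simp [s2, s1, s0]
    have h2 := Order.LTSeries.length_le_krullDim s2
    rw [hlen] at h2
    have h3 : Order.krullDim (PrimeSpectrum A) = 1 := hdim
    rw [h3] at h2
    exact absurd h2 (by norm_cast)
  obtain ⟨N, hN⟩ := Ideal.exists_radical_pow_le_of_fg (Ideal.torsionOf A A (a₁ - a₂))
    (IsNoetherian.noetherian _)
  have hNJ : IsLocalRing.maximalIdeal A ^ N ≤ Ideal.torsionOf A A (a₁ - a₂) :=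
    (Ideal.pow_right_mono hrad N).trans hN
  have hterm : ∀ i ∈ Finset.range (N + 1), a₁ ^ i * a₂ ^ (N + 1 - 1 - i) * (a₁ - a₂) = 0 := by
    intro i hi
    have hi' : i ≤ N := Nat.lt_succ_iff.1 (Finset.mem_range.1 hi)
    have h1 : a₁ ^ i * a₂ ^ (N + 1 - 1 - i) ∈ IsLocalRing.maximalIdeal A ^ N := by
      have : IsLocalRing.maximalIdeal A ^ N =
          IsLocalRing.maximalIdeal A ^ i * IsLocalRing.maximalIdeal A ^ (N + 1 - 1 - i) := by
        rw [← pow_add]; congr 1; omega
      rw [this]; exact Ideal.mul_mem_mul (Ideal.pow_mem_pow h₁ i) (Ideal.pow_mem_pow h₂ _)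
    exact (hJmem _).1 (hNJ h1)
  refine ⟨N + 1, Nat.succ_pos N, ?_⟩
  have := geom_sum₂_mul a₁ a₂ (N + 1)
  rw [Finset.sum_mul, Finset.sum_eq_zero hterm] at this
  exact sub_eq_zero.1 this.symm

end Groth.Agent.S7666
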