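import Groth.Statements.S7667
import Groth.Agent.Lib.Helper12.OneDim

set_option autoImplicit false
universe u
open CategoryTheory CategoryTheory.Limits AlgebraicGeometry
open Variety

namespace Groth.Agent.S7667

/-- Let A be a one-dimensional Noetherian local ring, L the product of the localizations A_p over its
minimal primes p, and I the intersection of those primes (the nilradical of A). If f ∈ L equals i +
a with a in the maximal ideal of A and i ∈ I·L, then for some positive integer n, f^n belongs to the
subring of L obtained as the image of the structure map from A. -/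
theorem result (A : Type u) [CommRing A]
    [IsLocalRing A] [IsNoetherianRing A] (hdim : ringKrullDim A = 1)
    (a : A) (ha : a ∈ IsLocalRing.maximalIdeal A)
    (i : ∀ p : {p : PrimeSpectrum A // p.asIdeal ∈ minimalPrimes A}, Localization.AtPrime p.1.asIdeal)
    (hi : i ∈ (nilradical A).map (algebraMap A (∀ p : {p : PrimeSpectrum A // p.asIdeal ∈ minimalPrimes A}, Localization.AtPrime p.1.asIdeal))) :
    ∃ n : ℕ, 0 < n ∧ (i + algebraMap A (∀ p : {p : PrimeSpectrum A // p.asIdeal ∈ minimalPrimes A}, Localization.AtPrime p.1.asIdeal) a) ^ n ∈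
      (algebraMap A (∀ p : {p : PrimeSpectrum A // p.asIdeal ∈ minimalPrimes A}, Localization.AtPrime p.1.asIdeal)).range := by
  classical
  obtain ⟨t, ht⟩ : ∃ t : ℕ, nilradical A ^ t = 0 := IsNoetherianRing.isNilpotent_nilradical A
  have hit : i ^ t = 0 := by
    have h1 : i ^ t ∈ ((nilradical A).map (algebraMap A (Groth.Agent.Helper12.ProdLoc A))) ^ t :=
      Ideal.pow_mem_pow hi t
    rw [← Ideal.map_pow, ht, Ideal.zero_eq_bot, Ideal.map_bot] at h1
    simpa using h1
  choose M hM using fun k : ℕ => Groth.Agent.Helper12.exists_pow_mul_mem_range A hdim (i ^ k)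
  refine ⟨t + (Finset.range t).sup M + 1, by omega, ?_⟩
  rw [add_pow]
  refine Subring.sum_mem _ ?_
  intro k hk
  by_cases hkt : k < t
  · have hMk : M k ≤ (Finset.range t).sup M := Finset.le_sup (Finset.mem_range.2 hkt)
    have h1 : a ^ (t + (Finset.range t).sup M + 1 - k) ∈ IsLocalRing.maximalIdeal A ^ M k := by
      refine Ideal.pow_le_pow_right ?_ (Ideal.pow_mem_pow ha _)
      omega
    have h2 := hM k _ h1
    have h3 : i ^ k * (algebraMap A (Groth.Agent.Helper12.ProdLoc A) a) ^
        (t + (Finset.range t).sup M + 1 - k) *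
        (((t + (Finset.range t).sup M + 1).choose k : ℕ) : Groth.Agent.Helper12.ProdLoc A) =
        (algebraMap A (Groth.Agent.Helper12.ProdLoc A)
          (a ^ (t + (Finset.range t).sup M + 1 - k)) * i ^ k) *
        (((t + (Finset.range t).sup M + 1).choose k : ℕ) : Groth.Agent.Helper12.ProdLoc A) := by
      rw [map_pow]; ring
    rw [h3]
    exact Subring.mul_mem _ h2 (natCast_mem _ _)
  · have h0 : i ^ k = 0 := by
      obtain ⟨j, rfl⟩ := Nat.exists_eq_add_of_le (not_lt.1 hkt)
      rw [pow_add, hit, zero_mul]
    rw [h0, zero_mul, zero_mul]; exact zero_mem _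

end Groth.Agent.S7667
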