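import Groth.Statements.S7668
import Mathlib.RingTheory.Localization.Ideal
import Mathlib.RingTheory.Ideal.Operations
import Mathlib.Tactic

set_option autoImplicit false
universe u
open CategoryTheory CategoryTheory.Limits AlgebraicGeometry
open Variety

namespace Groth.Agent.S7668

/-- Let A be a ring, p_1, …, p_r primes of A and S = A ∖ ⋃ p_i. Then S is a multiplicative subset, S⁻¹A
is semi-local, and contraction to A is a bijection from the maximal ideals of S⁻¹A onto the maximal
elements of {p_1, …, p_r}. -/
theorem result (A : Type u) [CommRing A]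
    (r : ℕ) (p : Fin r → PrimeSpectrum A) :
    Finite (MaximalSpectrum (Localization (⨅ i, (p i).asIdeal.primeCompl))) ∧
      Set.BijOn (fun m : Ideal (Localization (⨅ i, (p i).asIdeal.primeCompl)) =>
          m.comap (algebraMap A (Localization (⨅ i, (p i).asIdeal.primeCompl))))
        {m | m.IsMaximal}
        {q | q ∈ Set.range (fun i => (p i).asIdeal) ∧
          ∀ j, q ≤ (p j).asIdeal → q = (p j).asIdeal} := by
  classical
  have hmemS : ∀ x : A, x ∈ (⨅ i, (p i).asIdeal.primeCompl : Submonoid A) ↔
      ∀ i, x ∉ (p i).asIdeal := by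
    intro x
    rw [Submonoid.mem_iInf]
    exact Iff.rfl
  generalize (⨅ i, (p i).asIdeal.primeCompl : Submonoid A) = S at hmemS ⊢
  have hdisj : ∀ i, Disjoint (S : Set A) ((p i).asIdeal : Set A) := by
    intro i
    rw [Set.disjoint_left]
    intro x hx hxi
    exact (hmemS x).1 hx i hxi
  have havoid : ∀ q : Ideal A, q.IsPrime → Disjoint (S : Set A) (q : Set A) →
      ∃ i, q ≤ (p i).asIdeal := by
    intro q hq hqd
    have h0 : (0 : A) ∉ S := fun h => Set.disjoint_left.1 hqd h (zero_mem q)
    obtain ⟨i0, hi0⟩ : ∃ i, (0 : A) ∈ (p i).asIdeal := by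
      by_contra hcon; push Not at hcon; exact h0 ((hmemS 0).2 hcon)
    have hsub : (q : Set A) ⊆ ⋃ i ∈ ((Finset.univ : Finset (Fin r)) : Set (Fin r)),
        ((p i).asIdeal : Set A) := by
      intro x hx
      have hxS : x ∉ S := fun h => Set.disjoint_left.1 hqd h hx
      rw [hmemS] at hxS; push Not at hxS
      obtain ⟨i, hi⟩ := hxS
      exact Set.mem_biUnion (by simp) hi
    obtain ⟨i, -, hi⟩ := (Ideal.subset_union_prime (s := Finset.univ)
      (f := fun i => (p i).asIdeal) i0 i0 (fun i _ _ _ => (p i).isPrime)).1 hsub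
    exact ⟨i, hi⟩
  have hmc : ∀ J : Ideal (Localization S), (J.comap (algebraMap A (Localization S))).map
      (algebraMap A (Localization S)) = J := IsLocalization.map_comap S (Localization S)
  have hcm : ∀ q : Ideal A, q.IsPrime → Disjoint (S : Set A) (q : Set A) →
      (q.map (algebraMap A (Localization S))).comap (algebraMap A (Localization S)) = q :=
    fun q hq hd => IsLocalization.comap_map_of_isPrime_disjoint S (Localization S) hq hd
  have hpr : ∀ J : Ideal (Localization S), J.IsPrime →
      (J.comap (algebraMap A (Localization S))).IsPrime ∧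
      Disjoint (S : Set A) ((J.comap (algebraMap A (Localization S)) : Ideal A) : Set A) :=
    fun J hJ => (IsLocalization.isPrime_iff_isPrime_disjoint S (Localization S) J).1 hJ
  have hkey : ∀ m : Ideal (Localization S), m.IsMaximal → ∀ j,
      m.comap (algebraMap A (Localization S)) ≤ (p j).asIdeal →
      m.comap (algebraMap A (Localization S)) = (p j).asIdeal := by
    intro m hm j hj
    have hne : ((p j).asIdeal.map (algebraMap A (Localization S))) ≠ ⊤ :=
      (IsLocalization.isPrime_of_isPrime_disjoint S (Localization S) _ (p j).isPrime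
        (hdisj j)).ne_top
    have hle : m ≤ (p j).asIdeal.map (algebraMap A (Localization S)) := by
      rw [← hmc m]; exact Ideal.map_mono hj
    have := hm.eq_of_le hne hle
    rw [this, hcm _ (p j).isPrime (hdisj j)]
  have hmaps : ∀ m : Ideal (Localization S), m.IsMaximal →
      ∃ i, m.comap (algebraMap A (Localization S)) = (p i).asIdeal := by
    intro m hm
    obtain ⟨hq, hqd⟩ := hpr m hm.isPrime
    obtain ⟨i, hi⟩ := havoid _ hq hqd
    exact ⟨i, hkey m hm i hi⟩
  refine ⟨?_, ?_, ?_, ?_⟩
  · choose g hg using fun m : MaximalSpectrum (Localization S) => hmaps m.asIdeal m.isMaximal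
    refine Finite.of_injective g ?_
    intro m₁ m₂ h12
    apply MaximalSpectrum.ext
    rw [← hmc m₁.asIdeal, ← hmc m₂.asIdeal, hg m₁, hg m₂, h12]
  · intro m hm
    obtain ⟨i, hi⟩ := hmaps m hm
    exact ⟨⟨i, hi.symm⟩, fun j hj => hkey m hm j hj⟩
  · intro m₁ _ m₂ _ h12
    have : m₁.comap (algebraMap A (Localization S)) = m₂.comap (algebraMap A (Localization S)) :=
      h12
    rw [← hmc m₁, ← hmc m₂, this]
  · rintro q ⟨⟨i, rfl⟩, hq⟩
    refine ⟨(p i).asIdeal.map (algebraMap A (Localization S)), ?_,
      hcm _ (p i).isPrime (hdisj i)⟩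
    have hprime := IsLocalization.isPrime_of_isPrime_disjoint S (Localization S) _
      (p i).isPrime (hdisj i)
    obtain ⟨m', hm'max, hmm'⟩ := Ideal.exists_le_maximal _ hprime.ne_top
    obtain ⟨hq', hqd'⟩ := hpr m' hm'max.isPrime
    obtain ⟨j, hj⟩ := havoid _ hq' hqd'
    have h1 : (p i).asIdeal ≤ m'.comap (algebraMap A (Localization S)) := by
      conv_lhs => rw [← hcm _ (p i).isPrime (hdisj i)]
      exact Ideal.comap_mono hmm'
    have h2 : (p i).asIdeal = (p j).asIdeal := hq j (h1.trans hj)
    have h3 : m'.comap (algebraMap A (Localization S)) = (p i).asIdeal :=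
      le_antisymm (by rw [h2]; exact hj) h1
    have h4 : m' = (p i).asIdeal.map (algebraMap A (Localization S)) := by rw [← hmc m', h3]
    show ((p i).asIdeal.map (algebraMap A (Localization S))).IsMaximal
    rw [← h4]; exact hm'max

end Groth.Agent.S7668
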