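import Groth.Statements.S9560
import Mathlib
import Groth.Agent.S9563
-- import your own Groth.Agent.* helpers here

set_option autoImplicit false
universe u
open EtLocal

namespace Groth.Agent.S9560

/-- Suppose A is a Noetherian ring and B is a finite-type A-algebra, and consider a prime q of B lying
over the prime p of A, where B_q carries its A_p-algebra structure. Then B is étale at q over A (the
local ring B_q is formally étale over A) if and only if the local homomorphism A_p → B_q is étale,
which means three things: B_q is A_p-flat, the ideal p B_q equals the maximal ideal of B_q, and the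
residue field of q is a finite separable extension of the residue field of p (that B_q is
essentially of finite type over A_p holds automatically). -/
theorem result (A B : Type u) [CommRing A] [CommRing B]
    [Algebra A B] [IsNoetherianRing A] [Algebra.FiniteType A B]
    (p : Ideal A) [p.IsPrime] (q : Ideal B) [q.IsPrime] [q.LiesOver p]
    [Algebra (Localization.AtPrime p) (Localization.AtPrime q)]
    [Localization.AtPrime.IsLiesOverAlgebra p q] :
    Algebra.IsEtaleAt A q ↔
      Module.Flat (Localization.AtPrime p) (Localization.AtPrime q) ∧
        p.map (algebraMap A (Localization.AtPrime q)) = IsLocalRing.maximalIdeal (Localization.AtPrime q) ∧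
        Module.Finite p.ResidueField q.ResidueField ∧
        Algebra.IsSeparable p.ResidueField q.ResidueField := by
  classical
  haveI : Algebra.FinitePresentation A B := Algebra.FinitePresentation.of_finiteType.mp inferInstance
  constructor
  · intro het
    haveI : Algebra.IsEtaleAt A q := het
    haveI hunr : Algebra.IsUnramifiedAt A q := by
      change Algebra.FormallyUnramified A (Localization.AtPrime q)
      have : Algebra.FormallyEtale A (Localization.AtPrime q) := het
      infer_instance
    obtain ⟨hsep, hmap⟩ := (Algebra.isUnramifiedAt_iff_map_eq A p q).mp hunr
    refine ⟨?_, hmap, inferInstance, hsep⟩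
    obtain ⟨f, hfq, hf⟩ := Algebra.exists_etale_of_isEtaleAt (R := A) q
    have hfu : IsUnit (algebraMap B (Localization.AtPrime q) f) :=
      IsLocalization.map_units (Localization.AtPrime q) (⟨f, hfq⟩ : q.primeCompl)
    let g : Localization.Away f →ₐ[B] Localization.AtPrime q :=
      IsLocalization.liftAlgHom (M := Submonoid.powers f) (f := Algebra.ofId B (Localization.AtPrime q)) (by
        rintro ⟨_, n, rfl⟩
        simpa using hfu.pow n)
    letI : Algebra (Localization.Away f) (Localization.AtPrime q) := g.toRingHom.toAlgebra
    haveI : IsScalarTower B (Localization.Away f) (Localization.AtPrime q) :=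
      IsScalarTower.of_algebraMap_eq (fun b => (g.commutes b).symm)
    haveI : IsScalarTower A (Localization.Away f) (Localization.AtPrime q) :=
      IsScalarTower.to₁₃₄ A B (Localization.Away f) (Localization.AtPrime q)
    haveI : IsLocalization (Algebra.algebraMapSubmonoid (Localization.Away f) q.primeCompl)
        (Localization.AtPrime q) :=
      IsLocalization.isLocalization_of_submonoid_le (Localization.Away f) (Localization.AtPrime q)
        (Submonoid.powers f) q.primeCompl (by
          rintro _ ⟨n, rfl⟩
          exact q.primeCompl.pow_mem hfq n)
    haveI : Module.Flat (Localization.Away f) (Localization.AtPrime q) :=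
      IsLocalization.flat (Localization.AtPrime q)
        (Algebra.algebraMapSubmonoid (Localization.Away f) q.primeCompl)
    haveI : Module.Flat A (Localization.Away f) := inferInstance
    have : Module.Flat A (Localization.AtPrime q) :=
      Module.Flat.trans A (Localization.Away f) (Localization.AtPrime q)
    exact (Module.flat_iff_of_isLocalization (Localization.AtPrime p) p.primeCompl (Localization.AtPrime q)).mpr this
  · rintro ⟨hflat, hmap, hfin, hsep⟩
    haveI := hflat
    haveI := hfin
    haveI := hsep
    haveI : Algebra.EssFiniteType (Localization.AtPrime p) (Localization.AtPrime q) :=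
      Algebra.EssFiniteType.of_comp A _ _
    haveI : IsNoetherianRing B := Algebra.FiniteType.isNoetherianRing A B
    have hm : (IsLocalRing.maximalIdeal (Localization.AtPrime p)).map
        (algebraMap (Localization.AtPrime p) (Localization.AtPrime q)) =
        IsLocalRing.maximalIdeal (Localization.AtPrime q) := by
      rw [← Localization.AtPrime.map_eq_maximalIdeal, Ideal.map_map,
        ← IsScalarTower.algebraMap_eq, hmap]
    obtain ⟨P, 𝔮, h𝔮, ⟨e⟩⟩ := Groth.Agent.S9563.result (Localization.AtPrime p)
      (Localization.AtPrime q) hm
    haveI : Algebra.FormallyEtale (Localization.AtPrime p) (Localization.AtPrime 𝔮) :=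
      Algebra.FormallyEtale.comp _ P.Ring _
    haveI : Algebra.FormallyEtale (Localization.AtPrime p) (Localization.AtPrime q) :=
      Algebra.FormallyEtale.of_equiv e.symm
    haveI : Algebra.FormallyEtale A (Localization.AtPrime p) :=
      Algebra.FormallyEtale.of_isLocalization p.primeCompl
    change Algebra.FormallyEtale A (Localization.AtPrime q)
    exact Algebra.FormallyEtale.comp A (Localization.AtPrime p) (Localization.AtPrime q)

end Groth.Agent.S9560
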