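import Groth.Statements.S8264
import Groth.Agent.Lib.Helper12.RelProjIntegral

set_option autoImplicit false
universe u
open CategoryTheory CategoryTheory.Limits AlgebraicGeometry Opposite TopologicalSpace
open scoped HomogeneousIdeal
open EGA2

namespace Groth.Agent.S8264

open Groth.Agent.Helper12.RelProjBasic Groth.Agent.Helper12.RelProjIntegral

/-- The preimage of a nonempty affine open is an integral scheme. -/
theorem isIntegral_preimage {Y P : Scheme.{u}} (𝒮 : RelProj.QCGrAlg Y)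
    (hint : ∀ (U : Y.Opens) (hU : IsAffineOpen U), (U : Set Y).Nonempty →
      IsDomain (𝒮.presheaf.obj (op U)) ∧ ((𝒮.deg U hU)₊).toIdeal ≠ ⊥)
    (p : P ⟶ Y)
    (chart : ∀ (U : Y.Opens) (hU : IsAffineOpen U), (((p ⁻¹ᵁ U : P.Opens) : Scheme.{u}) ≅ Proj (𝒮.deg U hU)))
    (U : Y.Opens) (hU : IsAffineOpen U) (hne : (U : Set Y).Nonempty) :
    IsIntegral ((p ⁻¹ᵁ U : P.Opens) : Scheme.{u}) := by
  obtain ⟨hdom, hirr⟩ := hint U hU hne
  have : IsIntegral (Proj (𝒮.deg U hU)) := isIntegral_proj _ hirr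
  exact IsIntegral.of_isIso (chart U hU).inv

theorem exists_mem_preimage {Y P : Scheme.{u}} (𝒮 : RelProj.QCGrAlg Y)
    (hint : ∀ (U : Y.Opens) (hU : IsAffineOpen U), (U : Set Y).Nonempty →
      IsDomain (𝒮.presheaf.obj (op U)) ∧ ((𝒮.deg U hU)₊).toIdeal ≠ ⊥)
    (p : P ⟶ Y)
    (chart : ∀ (U : Y.Opens) (hU : IsAffineOpen U), (((p ⁻¹ᵁ U : P.Opens) : Scheme.{u}) ≅ Proj (𝒮.deg U hU)))
    (U : Y.Opens) (hU : IsAffineOpen U) (hne : (U : Set Y).Nonempty) :
    ∃ z : P, p.base z ∈ U := by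
  have := isIntegral_preimage 𝒮 hint p chart U hU hne
  obtain ⟨z⟩ : Nonempty ((p ⁻¹ᵁ U : P.Opens) : Scheme.{u}) := inferInstance
  exact ⟨z.1, z.2⟩

/-- Let Y be an integral scheme and 𝒮 a quasi-coherent positively graded O_Y-algebra with 𝒮_0 = O_Y
which is integral, stated here affine-locally: over every nonempty affine open U the ring 𝒮(U) is an
integral domain whose irrelevant ideal is nonzero (for Y integral this is equivalent to the
stalkwise condition of the published text: every stalk 𝒮_y an integral domain with (𝒮_y)_+ ≠ 0).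
Then Proj(𝒮) is integral and its structure morphism to Y is dominant. -/
theorem result {Y P : Scheme.{u}} [IsIntegral Y] (𝒮 : RelProj.QCGrAlg Y)
    (h0 : ∀ (U : Y.Opens) (hU : IsAffineOpen U), Function.Bijective (𝒮.strZero U hU).hom)
    (hint : ∀ (U : Y.Opens) (hU : IsAffineOpen U), (U : Set Y).Nonempty →
      IsDomain (𝒮.presheaf.obj (op U)) ∧ ((𝒮.deg U hU)₊).toIdeal ≠ ⊥)
    (p : P ⟶ Y)
    (chart : ∀ (U : Y.Opens) (hU : IsAffineOpen U), (((p ⁻¹ᵁ U : P.Opens) : Scheme.{u}) ≅ Proj (𝒮.deg U hU)))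
    (hP : RelProj.IsRelProj 𝒮 p chart) : IsIntegral P ∧ DenseRange p.base := by
  have hYirr : IrreducibleSpace Y := inferInstance
  have hex := exists_mem_preimage 𝒮 hint p chart
  -- every nonempty open of `Y` contains the image of a point of `P`
  have hopen : ∀ O : Set Y, IsOpen O → O.Nonempty → ∃ z : P, p.base z ∈ O := by
    intro O hO ⟨y, hy⟩
    obtain ⟨W, hW, hyW, hWO⟩ := Opens.isBasis_iff_nbhd.mp (Y.isBasis_affineOpens)
      (show y ∈ (⟨O, hO⟩ : Y.Opens) from hy)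
    obtain ⟨z, hz⟩ := hex W hW ⟨y, hyW⟩
    exact ⟨z, hWO hz⟩
  refine ⟨?_, ?_⟩
  · let ι := {U : Y.affineOpens // ((U.1 : Y.Opens) : Set Y).Nonempty}
    have hι : Nonempty ι := by
      obtain ⟨y⟩ : Nonempty Y := inferInstance
      obtain ⟨W, hW, hyW, -⟩ := Opens.isBasis_iff_nbhd.mp (Y.isBasis_affineOpens)
        (show y ∈ (⊤ : Y.Opens) from trivial)
      exact ⟨⟨⟨W, hW⟩, ⟨y, hyW⟩⟩⟩
    have hcov : ⋃ U : ι, ((p ⁻¹ᵁ U.1.1 : P.Opens) : Set P) = Set.univ := by
      rw [Set.eq_univ_iff_forall]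
      intro x
      obtain ⟨W, hW, hyW, -⟩ := Opens.isBasis_iff_nbhd.mp (Y.isBasis_affineOpens)
        (show p.base x ∈ (⊤ : Y.Opens) from trivial)
      exact Set.mem_iUnion.mpr ⟨⟨⟨W, hW⟩, ⟨_, hyW⟩⟩, hyW⟩
    have hirr : ∀ U : ι, IsIrreducible ((p ⁻¹ᵁ U.1.1 : P.Opens) : Set P) := by
      intro U
      have := isIntegral_preimage 𝒮 hint p chart U.1.1 U.1.2 U.2
      have h1 : IrreducibleSpace ((p ⁻¹ᵁ U.1.1 : P.Opens) : Scheme.{u}) := inferInstance
      have h1' : IrreducibleSpace ((p ⁻¹ᵁ U.1.1 : P.Opens) : Set P) := h1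
      have h2 := (IrreducibleSpace.isIrreducible_univ
        ((p ⁻¹ᵁ U.1.1 : P.Opens) : Set P)).image Subtype.val
          continuous_subtype_val.continuousOn
      rwa [Set.image_univ, Subtype.range_coe] at h2
    have hmeet : ∀ U V : ι, (((p ⁻¹ᵁ U.1.1 : P.Opens) : Set P) ∩
        ((p ⁻¹ᵁ V.1.1 : P.Opens) : Set P)).Nonempty := by
      intro U V
      have h1 : (((U.1.1 : Y.Opens) : Set Y) ∩ ((V.1.1 : Y.Opens) : Set Y)).Nonempty :=
        nonempty_preirreducible_inter U.1.1.2 V.1.1.2 U.2 V.2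
      obtain ⟨z, hz⟩ := hopen _ (U.1.1.2.inter V.1.1.2) h1
      exact ⟨z, hz.1, hz.2⟩
    have hPirr : IrreducibleSpace P :=
      irreducibleSpace_of_cover (fun U : ι => ((p ⁻¹ᵁ U.1.1 : P.Opens) : Set P))
        (fun U => (p ⁻¹ᵁ U.1.1).2) hcov hirr hmeet
    have hPred : IsReduced P := by
      have hcov' : IsOpenCover (fun U : ι => p ⁻¹ᵁ U.1.1) := by
        rw [IsOpenCover, eq_top_iff]
        intro x _
        have : x ∈ ⋃ U : ι, ((p ⁻¹ᵁ U.1.1 : P.Opens) : Set P) := hcov ▸ Set.mem_univ x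
        obtain ⟨U, hU⟩ := Set.mem_iUnion.mp this
        exact Opens.mem_iSup.mpr ⟨U, hU⟩
      have : ∀ U, IsReduced ((P.openCoverOfIsOpenCover _ hcov').X U) := by
        intro U
        have := isIntegral_preimage 𝒮 hint p chart U.1.1 U.1.2 U.2
        change IsReduced ((p ⁻¹ᵁ U.1.1 : P.Opens) : Scheme.{u})
        infer_instance
      exact IsReduced.of_openCover _ (P.openCoverOfIsOpenCover _ hcov')
    exact isIntegral_of_irreducibleSpace_of_isReduced P
  · rw [DenseRange, dense_iff_inter_open]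
    intro O hO hOne
    obtain ⟨z, hz⟩ := hopen O hO hOne
    exact ⟨p.base z, hz, z, rfl⟩

end Groth.Agent.S8264
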