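import Groth.Statements.S8265
import Groth.Agent.Lib.Helper12.RelProjIntegral

set_option autoImplicit false
universe u
open CategoryTheory CategoryTheory.Limits AlgebraicGeometry Opposite TopologicalSpace
open scoped HomogeneousIdeal
open EGA2

namespace Groth.Agent.S8265

open Groth.Agent.Helper12.RelProjBasic Groth.Agent.Helper12.RelProjIntegral HomogeneousLocalization

theorem lemmaM {Y P : Scheme.{u}} [IsIntegral Y] (𝒮 : RelProj.QCGrAlg Y) (p : P ⟶ Y)
    (chart : ∀ (U : Y.Opens) (hU : IsAffineOpen U), (((p ⁻¹ᵁ U : P.Opens) : Scheme.{u}) ≅ Proj (𝒮.deg U hU)))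
    (hP : RelProj.IsRelProj 𝒮 p chart) [IsIntegral P] (hdom : DenseRange p.base)
    (U : Y.Opens) (hU : IsAffineOpen U) (r : Γ(Y, U)) (y : 𝒮.presheaf.obj (op U)) {e : ℕ}
    (he : 0 < e) (hy : y ∈ 𝒮.deg U hU e) (hnil : ¬ IsNilpotent y)
    (hxy : (𝒮.str.app (op U)).hom r * y = 0) : r = 0 := by
  by_contra hr
  have h1 : Y.basicOpen r ≠ ⊥ := by rwa [Ne, basicOpen_eq_bot_iff]
  obtain ⟨y0, hy0⟩ : ((Y.basicOpen r : Y.Opens) : Set Y).Nonempty := by
    rw [Set.nonempty_iff_ne_empty]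
    intro h
    apply h1
    ext1
    simpa using h
  have h2 : ((p ⁻¹ᵁ Y.basicOpen r : P.Opens) : Set P).Nonempty := by
    obtain ⟨_, hz, z, rfl⟩ := (dense_iff_inter_open.mp hdom) _ (Y.basicOpen r).2 ⟨y0, hy0⟩
    exact ⟨z, hz⟩
  have := away_nontrivial (𝒮.deg U hU) hnil
  let j : Spec (.of (Away (𝒮.deg U hU) y)) ⟶ P :=
    Proj.awayι _ y hy he ≫ (chart U hU).inv ≫ (p ⁻¹ᵁ U).ι
  have hj : IsOpenImmersion j := inferInstance
  obtain ⟨w⟩ : Nonempty (Spec (.of (Away (𝒮.deg U hU) y))) :=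
    inferInstanceAs (Nonempty (PrimeSpectrum (Away (𝒮.deg U hU) y)))
  have h3 : ((j.opensRange : P.Opens) : Set P).Nonempty := ⟨j.base w, w, rfl⟩
  obtain ⟨_, ⟨w', rfl⟩, hw'⟩ :=
    nonempty_preirreducible_inter j.opensRange.2 (p ⁻¹ᵁ Y.basicOpen r).2 h3 h2
  let ψ : Γ(Y, U) ⟶ CommRingCat.of (Away (𝒮.deg U hU) y) :=
    𝒮.strZero U hU ≫ CommRingCat.ofHom (fromZeroRingHom (𝒮.deg U hU) (Submonoid.powers y))
  have hjp : j ≫ p = Spec.map ψ ≫ hU.fromSpec := by
    simp only [j, ψ, Category.assoc]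
    rw [← hP.chart_over U hU, Iso.inv_hom_id_assoc, Proj.awayι_toSpecZero_assoc, Spec.map_comp,
      Category.assoc]
  have h4 : (j ≫ p).base w' ∈ Y.basicOpen r := hw'
  rw [hjp] at h4
  have h5 : (Spec.map ψ).base w' ∈ hU.fromSpec ⁻¹ᵁ Y.basicOpen r := h4
  rw [hU.fromSpec_preimage_basicOpen] at h5
  apply h5
  change ψ.hom r ∈ w'.asIdeal
  have : ψ.hom r = 0 := fromZero_eq_zero _ ((𝒮.strZero U hU).hom r) hxy
  rw [this]
  exact zero_mem _

/-- Let Y be an integral scheme and 𝒮 a quasi-coherent positively graded O_Y-algebra with 𝒮_0 = O_Y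
which is essentially reduced (affine-locally, every nilpotent element of the irrelevant ideal of
𝒮(U) vanishes). If Proj(𝒮) is integral and dominant over Y, then 𝒮 is integral: over every nonempty
affine open U, 𝒮(U) is an integral domain with nonzero irrelevant ideal (for Y integral, the
affine-local form of the stalkwise condition of the text). -/
theorem result {Y P : Scheme.{u}} [IsIntegral Y] (𝒮 : RelProj.QCGrAlg Y)
    (h0 : ∀ (U : Y.Opens) (hU : IsAffineOpen U), Function.Bijective (𝒮.strZero U hU).hom)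
    (hred : ∀ (U : Y.Opens) (hU : IsAffineOpen U) (x : 𝒮.presheaf.obj (op U)),
      x ∈ (𝒮.deg U hU)₊ → IsNilpotent x → x = 0)
    (p : P ⟶ Y)
    (chart : ∀ (U : Y.Opens) (hU : IsAffineOpen U), (((p ⁻¹ᵁ U : P.Opens) : Scheme.{u}) ≅ Proj (𝒮.deg U hU)))
    (hP : RelProj.IsRelProj 𝒮 p chart) [IsIntegral P] (hdom : DenseRange p.base)
    (U : Y.Opens) (hU : IsAffineOpen U) (hne : (U : Set Y).Nonempty) :
    IsDomain (𝒮.presheaf.obj (op U)) ∧ ((𝒮.deg U hU)₊).toIdeal ≠ ⊥ := by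
  classical
  obtain ⟨z, hz⟩ : ∃ z : P, p.base z ∈ U := by
    obtain ⟨_, hz, z, rfl⟩ := (dense_iff_inter_open.mp hdom) _ U.2 hne
    exact ⟨z, hz⟩
  have hne' : Nonempty ((p ⁻¹ᵁ U : P.Opens) : Scheme.{u}) := ⟨⟨z, hz⟩⟩
  have hint1 : IsIntegral ((p ⁻¹ᵁ U : P.Opens) : Scheme.{u}) :=
    isIntegral_of_isOpenImmersion (p ⁻¹ᵁ U).ι
  have hint2 : IsIntegral (Proj (𝒮.deg U hU)) := IsIntegral.of_isIso (chart U hU).hom
  have hirrP : IrreducibleSpace (Proj (𝒮.deg U hU)) := inferInstance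
  have hirrel : ((𝒮.deg U hU)₊).toIdeal ≠ ⊥ := by
    intro h
    obtain ⟨x⟩ : Nonempty (Proj (𝒮.deg U hU)) := inferInstance
    apply x.not_irrelevant_le
    intro a ha
    have h1 : a ∈ ((𝒮.deg U hU)₊).toIdeal := ha
    rw [h, Ideal.mem_bot] at h1
    subst h1
    exact zero_mem _
  refine ⟨?_, hirrel⟩
  have hΓ : IsDomain Γ(Y, U) := by
    have : Nonempty U := ⟨⟨_, hne.some_mem⟩⟩
    infer_instance
  have hnil : ∀ (a : 𝒮.presheaf.obj (op U)) (k : ℕ), 0 < k → a ∈ 𝒮.deg U hU k → a ≠ 0 →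
      ¬ IsNilpotent a := fun a k hk ha ha0 hn =>
    ha0 (hred U hU a (HomogeneousIdeal.mem_irrelevant_of_mem _ hk ha) hn)
  have hbot : (⊥ : Ideal (𝒮.presheaf.obj (op U))).IsPrime := by
    apply (Ideal.IsHomogeneous.bot (𝒮.deg U hU)).isPrime_of_homogeneous_mem_or_mem
    · intro h
      apply hirrel
      rw [eq_bot_iff, h]
      exact le_top
    · rintro x y ⟨i, hx⟩ ⟨j, hy⟩ hxy
      rw [Ideal.mem_bot] at hxy
      simp only [Ideal.mem_bot]
      by_contra hcon
      push Not at hcon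
      obtain ⟨hx0, hy0⟩ := hcon
      rcases Nat.eq_zero_or_pos i with hi | hi <;> rcases Nat.eq_zero_or_pos j with hj | hj
      · subst hi hj
        obtain ⟨r, hr⟩ := (h0 U hU).2 ⟨x, hx⟩
        obtain ⟨r', hr'⟩ := (h0 U hU).2 ⟨y, hy⟩
        have h1 : (𝒮.strZero U hU).hom (r * r') = 0 := by
          rw [map_mul, hr, hr']
          exact Subtype.ext hxy
        have h2 := (h0 U hU).1 (h1.trans (map_zero _).symm)
        rcases mul_eq_zero.mp h2 with h | h
        · apply hx0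
          have h3 := congrArg Subtype.val hr
          rw [h, map_zero] at h3
          exact h3.symm
        · apply hy0
          have h3 := congrArg Subtype.val hr'
          rw [h, map_zero] at h3
          exact h3.symm
      · subst hi
        obtain ⟨r, hr⟩ := (h0 U hU).2 ⟨x, hx⟩
        have hx' : x = (𝒮.str.app (op U)).hom r := (congrArg Subtype.val hr).symm
        have h1 := lemmaM 𝒮 p chart hP hdom U hU r y hj hy (hnil y j hj hy hy0) (hx' ▸ hxy)
        apply hx0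
        rw [hx', h1, map_zero]
      · subst hj
        obtain ⟨r, hr⟩ := (h0 U hU).2 ⟨y, hy⟩
        have hy' : y = (𝒮.str.app (op U)).hom r := (congrArg Subtype.val hr).symm
        have h1 := lemmaM 𝒮 p chart hP hdom U hU r x hi hx (hnil x i hi hx hx0)
          (by rw [← hy', mul_comm]; exact hxy)
        apply hy0
        rw [hy', h1, map_zero]
      · obtain ⟨a, ha⟩ := basicOpen_nonempty (𝒮.deg U hU) hx hi (hnil x i hi hx hx0)
        obtain ⟨b, hb⟩ := basicOpen_nonempty (𝒮.deg U hU) hy hj (hnil y j hj hy hy0)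
        obtain ⟨c, hc1, hc2⟩ := nonempty_preirreducible_inter
          (Proj.basicOpen (𝒮.deg U hU) x).2 (Proj.basicOpen (𝒮.deg U hU) y).2 ⟨a, ha⟩ ⟨b, hb⟩
        have h1 : c ∈ Proj.basicOpen (𝒮.deg U hU) (x * y) := by
          rw [Proj.basicOpen_mul]
          exact ⟨hc1, hc2⟩
        rw [hxy, Proj.basicOpen_zero] at h1
        exact h1
  exact IsDomain.of_bot_isPrime _

end Groth.Agent.S8265
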