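import Groth.Statements.S8267
import Groth.Agent.Lib.Helper12.VecBun1
import Groth.Agent.Lib.Helper18.SymAlg4
import Groth.Agent.Lib.Helper13.FinAffine2

set_option autoImplicit false
universe u
open CategoryTheory CategoryTheory.Limits AlgebraicGeometry Opposite TopologicalSpace
open EGA2

namespace Groth.Agent.S8267

/-- Let E be a quasi-coherent O_S-module of finite type and A (through j : E → A) its symmetric algebra.
Then the vector bundle V(E) = Spec(A) is of finite type over S, i.e. its (affine) structure morphism
is locally of finite type. -/
theorem result {S : Scheme.{u}} (E : S.Modules) (hE : Coh.IsCoh E)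
    (A : RelSpec.QCAlg S) (j : E ⟶ A.toModule) (hA : RelSpec.IsSymAlg E A j) :
    LocallyOfFiniteType A.π := by
  open Groth.Agent.Helper18.SymAlg Groth.Agent.Helper12.VecBun Opposite in
  classical
  have : E.IsQuasicoherent := hE.1
  have : SheafOfModules.IsFiniteType (R := S.ringCatSheaf) E := hE.2
  apply π_of_chartwise (P := @LocallyOfFiniteType) A
  intro U hU
  have h1 : LocallyOfFiniteType (Spec.map (A.str.app (op U))) := by
    rw [HasRingHomProperty.Spec_iff (P := @LocallyOfFiniteType)]
    have : Module.Finite Γ(S, U) Γ(E, U) :=
      Groth.Agent.Helper13.FinType.finite_sections_of_isFiniteType E hU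
    have hft := finiteType_symmetricAlgebra Γ(S, U) Γ(E, U)
    have hbij := symToA_bijective E A j hA U hU
    have hcomp : (A.str.app (op U)).hom =
        (symToA E A j U).comp (algebraMap Γ(S, U) (SymmetricAlgebra Γ(S, U) Γ(E, U))) := by
      ext r
      exact (symToA_algebraMap E A j U r).symm
    rw [hcomp]
    exact RingHom.FiniteType.comp (RingHom.FiniteType.of_surjective _ hbij.2)
      (RingHom.finiteType_algebraMap.mpr hft)
  infer_instance

end Groth.Agent.S8267
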