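import Groth.Statements.S8268
import Groth.Agent.Lib.Helper12.VecBun1
import Groth.Agent.Lib.Helper18.SymAlg4

set_option autoImplicit false
universe u
open CategoryTheory CategoryTheory.Limits AlgebraicGeometry Opposite TopologicalSpace
open EGA2

namespace Groth.Agent.S8268

/-- A surjective homomorphism E → F of quasi-coherent O_S-modules induces a closed immersion V(F) → V(E)
of the associated vector bundles (relative spectra of the symmetric algebras; the algebra map A → B
is the one extending E → F). -/
theorem result {S : Scheme.{u}} (E F : S.Modules) (hE : Coh.IsQCoh E)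
    (hF : Coh.IsQCoh F) (u : E ⟶ F) [Epi u]
    (A B : RelSpec.QCAlg S) (j : E ⟶ A.toModule) (k : F ⟶ B.toModule)
    (hA : RelSpec.IsSymAlg E A j) (hB : RelSpec.IsSymAlg F B k)
    (ψ : A ⟶ B) (hψ : j ≫ RelSpec.QCAlg.Hom.toModuleMap ψ = u ≫ k) :
    IsClosedImmersion (RelSpec.QCAlg.specMap ψ) := by
  open Groth.Agent.Helper18.SymAlg Groth.Agent.Helper12.VecBun Opposite in
  classical
  have : E.IsQuasicoherent := hE
  have : F.IsQuasicoherent := hF
  apply specMap_of_chartwise (P := @IsClosedImmersion) ψ
  intro U hU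
  apply IsClosedImmersion.spec_of_surjective
  change Function.Surjective (ψ.hom.app (op U)).hom
  intro b
  obtain ⟨y, rfl⟩ := (symToA_bijective F B k hB U hU).2 b
  induction y using SymmetricAlgebra.induction with
  | algebraMap r =>
    refine ⟨(A.str.app (op U)).hom r, ?_⟩
    rw [symToA_algebraMap]
    exact congrArg (fun χ => (χ.app (op U)).hom r) ψ.comm
  | ι m =>
    obtain ⟨m', rfl⟩ := app_surjective_of_epi u hU m
    refine ⟨jU E A j U m', ?_⟩
    rw [symToA_ι, ← jU_comp_toModuleMap, hψ]
    rfl
  | mul a b ha hb =>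
    obtain ⟨a', ha'⟩ := ha
    obtain ⟨b', hb'⟩ := hb
    exact ⟨a' * b', by rw [map_mul, map_mul, ha', hb']⟩
  | add a b ha hb =>
    obtain ⟨a', ha'⟩ := ha
    obtain ⟨b', hb'⟩ := hb
    exact ⟨a' + b', by rw [map_add, map_add, ha', hb']⟩

end Groth.Agent.S8268
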