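import Groth.Statements.S8270
import Groth.Agent.Lib.Helper18.SymAlg4

set_option autoImplicit false
universe u
open CategoryTheory CategoryTheory.Limits AlgebraicGeometry Opposite TopologicalSpace
open EGA2

namespace Groth.Agent.S8270

/-- For a quasi-coherent O_S-module E the symmetric algebra Sym(E) exists as a quasi-coherent
O_S-algebra: there are a quasi-coherent O_S-algebra A and a module map j : E → A through which every
module map from E to a quasi-coherent O_S-algebra extends uniquely to an algebra homomorphism. -/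
theorem result {S : Scheme.{u}} (E : S.Modules) (hE : Coh.IsQCoh E) :
    ∃ (A : RelSpec.QCAlg S) (j : E ⟶ A.toModule), RelSpec.IsSymAlg E A j := by
  open Groth.Agent.Helper18.SymAlg Groth.Agent.Helper18 Opposite in
  classical
  have : E.IsQuasicoherent := hE
  refine ⟨symAlg E, jZero E, ?_⟩
  intro B φ
  refine ⟨sigma E B φ, jZero_sigma E B φ, ?_⟩
  intro ψ hψ
  apply RelSpec.QCAlg.hom_ext
  apply (Functor.IsCoverDense.restrictHomEquivHom (G := Scheme.AffineZariskiSite.toOpensFunctor S)
    (K := Opens.grothendieckTopology S) (ℱ := (symAlg E).presheaf)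
    (ℱ' := (⟨B.presheaf, B.isSheaf⟩ : TopCat.Sheaf CommRingCat.{u} S.carrier))).symm.injective
  ext U : 2
  change ψ.hom.app (op U.unop.1) = (sigma E B φ).hom.app (op U.unop.1)
  obtain ⟨⟨U, hU⟩⟩ := U
  change ψ.hom.app (op U) = (sigma E B φ).hom.app (op U)
  refine (cancel_epi (inv (AffGlue.gammaAff (symStr_coequifibered E) U hU))).mp ?_
  apply CommRingCat.hom_ext
  apply ringHom_ext
  · intro r
    -- scalars
    have h1 : ∀ χ : symAlg E ⟶ B,
        ((inv (AffGlue.gammaAff (symStr_coequifibered E) U hU)) ≫ χ.hom.app (op U)).hom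
          (algebraMap Γ(S, U) (SymmetricAlgebra Γ(S, U) Γ(E, U)) r) =
        (B.str.app (op U)).hom r := by
      intro χ
      have e1 := AffGlue.gammaAff_str (symStr_coequifibered E) U hU r
      have e2 : (inv (AffGlue.gammaAff (symStr_coequifibered E) U hU)).hom
          (algebraMap Γ(S, U) (SymmetricAlgebra Γ(S, U) Γ(E, U)) r) =
          ((symAlg E).str.app (op U)).hom r := by
        have e3 : (AffGlue.strAt (symStr E) U hU).hom r =
            algebraMap Γ(S, U) (SymmetricAlgebra Γ(S, U) Γ(E, U)) r := rfl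
        rw [← e3, ← e1]
        exact AffGlue.gammaAffInv_gammaAff (symStr_coequifibered E) U hU _
      have e4 := congrArg (fun k => (k.app (op U)).hom r) χ.comm
      change (χ.hom.app (op U)).hom ((inv (AffGlue.gammaAff (symStr_coequifibered E) U hU)).hom
        (algebraMap Γ(S, U) (SymmetricAlgebra Γ(S, U) Γ(E, U)) r)) = _
      rw [e2]
      exact e4
    exact (h1 ψ).trans (h1 (sigma E B φ)).symm
  · intro m
    have h2 : ∀ χ : symAlg E ⟶ B, jZero E ≫ RelSpec.QCAlg.Hom.toModuleMap χ = φ →
        ((inv (AffGlue.gammaAff (symStr_coequifibered E) U hU)) ≫ χ.hom.app (op U)).hom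
          (SymmetricAlgebra.ι Γ(S, U) Γ(E, U) m) = jU E B φ U m := by
      intro χ hχ
      have e1 := gammaAff_jZero E U hU m
      have e2 : (inv (AffGlue.gammaAff (symStr_coequifibered E) U hU)).hom
          (SymmetricAlgebra.ι Γ(S, U) Γ(E, U) m) = jU E (symAlg E) (jZero E) U m := by
        rw [← e1]
        exact AffGlue.gammaAffInv_gammaAff (symStr_coequifibered E) U hU _
      change (χ.hom.app (op U)).hom ((inv (AffGlue.gammaAff (symStr_coequifibered E) U hU)).hom
        (SymmetricAlgebra.ι Γ(S, U) Γ(E, U) m)) = _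
      rw [e2, ← jU_comp_toModuleMap, hχ]
    exact (h2 ψ hψ).trans (h2 (sigma E B φ) (jZero_sigma E B φ)).symm

end Groth.Agent.S8270
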