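import Groth.Statements.S8272
import Mathlib

set_option autoImplicit false
universe u
open CategoryTheory CategoryTheory.Limits AlgebraicGeometry Opposite TopologicalSpace
open EGA2

namespace Groth.Agent.S8272

open HomogeneousLocalization

section
variable {A σ : Type*} [CommRing A] [SetLike σ A] [AddSubgroupClass σ A] (𝒜 : ℕ → σ) [GradedRing 𝒜]

theorem awayMap_injective {d e : ℕ} {f g x : A} (hf : f ∈ 𝒜 d) (hg : g ∈ 𝒜 e) (hx : x = f * g)
    (hnz : g ∈ nonZeroDivisors A) : Function.Injective (awayMap 𝒜 hg hx : Away 𝒜 f →+* Away 𝒜 x) := by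
  rw [injective_iff_map_eq_zero]
  intro z hz
  obtain ⟨n, a, ha, rfl⟩ := Away.mk_surjective 𝒜 hf z
  rw [awayMap_mk 𝒜 hg hx n hf a ha] at hz
  have h1 := congrArg HomogeneousLocalization.val hz
  rw [Away.val_mk, val_zero, Localization.mk_eq_mk', IsLocalization.mk'_eq_zero_iff] at h1
  obtain ⟨⟨_, m, rfl⟩, hm⟩ := h1
  have hm : x ^ m * (a * g ^ n) = 0 := hm
  have h2 : (f ^ m * a) * g ^ (m + n) = 0 := by
    rw [← hm, hx]
    ring
  have h3 : f ^ m * a = 0 := (pow_mem hnz (m + n)).2 _ h2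
  apply val_injective
  rw [Away.val_mk, val_zero, Localization.mk_eq_mk', IsLocalization.mk'_eq_zero_iff]
  exact ⟨⟨f ^ m, m, rfl⟩, h3⟩

end

section
variable {A : Type u} {σ : Type*} [CommRing A] [SetLike σ A] [AddSubgroupClass σ A] (𝒜 : ℕ → σ)
  [GradedRing 𝒜]

theorem res_injective {m d : ℕ} {f g : A} (hf : f ∈ 𝒜 m) (hm : 0 < m) (hg : g ∈ 𝒜 d)
    (hnz : g ∈ nonZeroDivisors A) :
    Function.Injective ((Proj 𝒜).presheaf.map
      (homOfLE (Proj.basicOpen_mono 𝒜 f (f * g) ⟨g, rfl⟩)).op).hom := by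
  have hcomm := Proj.awayMap_awayToSection 𝒜 (f := f) hg (x := f * g) rfl
  have hfg : f * g ∈ 𝒜 (m + d) := SetLike.mul_mem_graded hf hg
  have hmd : 0 < m + d := by omega
  let e1 := Proj.basicOpenIsoAway 𝒜 f hf hm
  let e2 := Proj.basicOpenIsoAway 𝒜 (f * g) hfg hmd
  have he1 : e1.hom = Proj.awayToSection 𝒜 f := Proj.basicOpenIsoAway_hom 𝒜 f hf hm
  have he2 : e2.hom = Proj.awayToSection 𝒜 (f * g) := Proj.basicOpenIsoAway_hom 𝒜 (f * g) hfg hmd
  rw [injective_iff_map_eq_zero]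
  intro s hs
  obtain ⟨a, rfl⟩ : ∃ a, e1.hom.hom a = s := ⟨e1.inv.hom s, by
    rw [← CommRingCat.comp_apply, Iso.inv_hom_id]; rfl⟩
  have h1 : e2.hom.hom (awayMap 𝒜 hg rfl a) = 0 := by
    rw [← hs, he1, he2]
    exact congrArg (fun φ => φ.hom a) hcomm
  have h2 : awayMap 𝒜 hg rfl a = 0 := by
    have := congrArg e2.inv.hom h1
    rw [← CommRingCat.comp_apply, Iso.hom_inv_id, map_zero] at this
    exact this
  have h3 := awayMap_injective 𝒜 hf hg rfl hnz (h2.trans (map_zero _).symm)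
  rw [h3, map_zero]

theorem res_injective' {m d : ℕ} {f g : A} (hf : f ∈ 𝒜 m) (hm : 0 < m) (hg : g ∈ 𝒜 d)
    (hnz : g ∈ nonZeroDivisors A) (W : (Proj 𝒜).Opens) (hW : W = Proj.basicOpen 𝒜 (f * g))
    (hle : W ≤ Proj.basicOpen 𝒜 f) :
    Function.Injective ((Proj 𝒜).presheaf.map (homOfLE hle).op).hom := by
  subst hW
  exact res_injective 𝒜 hf hm hg hnz

end

/-- Let T be a positively graded ring, Z = Proj T and g ∈ T_d (d > 0) a homogeneous element that is not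
a zero divisor in T. Then Z is the smallest closed subscheme of Z containing the open D_+(g);
equivalently the kernel (ideal sheaf) of the open immersion D_+(g) → Z vanishes. -/
theorem result {R A : Type u} [CommRing R] [CommRing A] [Algebra R A]
    (𝒜 : ℕ → Submodule R A) [GradedAlgebra 𝒜] {d : ℕ} (hd : 0 < d) (g : A) (hg : g ∈ 𝒜 d)
    (hnz : g ∈ nonZeroDivisors A) :
    (Proj.basicOpen 𝒜 g).ι.ker = ⊥ := by
  have hle : ∀ (U : (Proj 𝒜).affineOpens), (Proj.basicOpen 𝒜 g).ι.ker.ideal U ≤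
      RingHom.ker ((Proj.basicOpen 𝒜 g).ι.app U.1).hom := fun U =>
    Scheme.Hom.ideal_ker_le _ U
  have hcov : (⨆ s : (Σ i : ℕ+, 𝒜 i), Proj.basicOpen 𝒜 (s.2 : A)) = ⊤ := by
    have := (Proj.affineOpenCover 𝒜).openCover.iSup_opensRange
    rw [← this]
    refine iSup_congr fun s => ?_
    exact (Proj.opensRange_awayι 𝒜 _ s.2.2 s.1.pos).symm
  apply Scheme.IdealSheafData.ext_of_iSup_eq_top
    (fun s : (Σ i : ℕ+, 𝒜 i) => (⟨Proj.basicOpen 𝒜 (s.2 : A),
      Proj.isAffineOpen_basicOpen 𝒜 _ s.2.2 s.1.pos⟩ : (Proj 𝒜).affineOpens)) hcov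
  intro s
  rw [Scheme.IdealSheafData.ideal_bot, Pi.bot_apply, eq_bot_iff]
  refine (hle _).trans ?_
  rw [← eq_bot_iff, ← RingHom.injective_iff_ker_eq_bot, Scheme.Opens.ι_app]
  apply res_injective' 𝒜 s.2.2 s.1.pos hg hnz
  rw [Scheme.Hom.image_preimage_eq_opensRange_inf, Scheme.Opens.opensRange_ι, Proj.basicOpen_mul,
    inf_comm]

end Groth.Agent.S8272
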