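import Groth.Statements.S8273
import Groth.Agent.Lib.Helper12.RelProjGlue

set_option autoImplicit false
universe u
open CategoryTheory CategoryTheory.Limits AlgebraicGeometry Opposite TopologicalSpace
open scoped HomogeneousIdeal
open EGA2

namespace Groth.Agent.S8273

open Groth.Agent.Helper12.RelProjBasic Groth.Agent.Helper12.RelProjGlue in
theorem exists_glue {Y P P' : Scheme.{u}} (𝒮 : RelProj.QCGrAlg Y) (p : P ⟶ Y)
    (chart : ∀ (U : Y.Opens) (hU : IsAffineOpen U), (((p ⁻¹ᵁ U : P.Opens) : Scheme.{u}) ≅ Proj (𝒮.deg U hU)))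
    (hP : RelProj.IsRelProj 𝒮 p chart) (p' : P' ⟶ Y)
    (chart' : ∀ (U : Y.Opens) (hU : IsAffineOpen U), (((p' ⁻¹ᵁ U : P'.Opens) : Scheme.{u}) ≅ Proj (𝒮.deg U hU)))
    (hP' : RelProj.IsRelProj 𝒮 p' chart') :
    ∃! e : P ⟶ P', ∀ (U : Y.Opens) (hU : IsAffineOpen U),
        (p ⁻¹ᵁ U).ι ≫ e = (chart U hU).hom ≫ (chart' U hU).inv ≫ (p' ⁻¹ᵁ U).ι := by
  apply glue_of_basic p (fun U hU => (chart U hU).hom ≫ (chart' U hU).inv ≫ (p' ⁻¹ᵁ U).ι)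
  intro U hU r
  have h1 := hP.chart_res U hU r
  have h2 := hP'.chart_res U hU r
  have h3 : Proj.map (𝒮.res hU (hU.basicOpen r) (Y.basicOpen_le r)) (𝒮.irrelevant_le_map U hU r) ≫
      (chart' U hU).inv = (chart' (Y.basicOpen r) (hU.basicOpen r)).inv ≫
        P'.homOfLE (p'.preimage_mono (Y.basicOpen_le r)) := by
    rw [Iso.eq_inv_comp, ← Category.assoc, ← h2, Category.assoc, Iso.hom_inv_id, Category.comp_id]
  rw [← Category.assoc, h1, Category.assoc, ← Category.assoc (Proj.map _ _), h3, Category.assoc,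
    Scheme.homOfLE_ι]

theorem comp_eq {Y P P' : Scheme.{u}} (𝒮 : RelProj.QCGrAlg Y) (p : P ⟶ Y)
    (chart : ∀ (U : Y.Opens) (hU : IsAffineOpen U), (((p ⁻¹ᵁ U : P.Opens) : Scheme.{u}) ≅ Proj (𝒮.deg U hU)))
    (hP : RelProj.IsRelProj 𝒮 p chart) (p' : P' ⟶ Y)
    (chart' : ∀ (U : Y.Opens) (hU : IsAffineOpen U), (((p' ⁻¹ᵁ U : P'.Opens) : Scheme.{u}) ≅ Proj (𝒮.deg U hU)))
    (hP' : RelProj.IsRelProj 𝒮 p' chart') (e : P ⟶ P')
    (he : ∀ (U : Y.Opens) (hU : IsAffineOpen U),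
        (p ⁻¹ᵁ U).ι ≫ e = (chart U hU).hom ≫ (chart' U hU).inv ≫ (p' ⁻¹ᵁ U).ι) : e ≫ p' = p := by
  apply (Groth.Agent.Helper12.RelProjBasic.preimageCover p).hom_ext
  intro U
  change (p ⁻¹ᵁ U.1).ι ≫ e ≫ p' = (p ⁻¹ᵁ U.1).ι ≫ p
  rw [← Category.assoc, he U.1 U.2, Category.assoc, Category.assoc, ← hP'.chart_over U.1 U.2,
    Iso.inv_hom_id_assoc, hP.chart_over U.1 U.2]

/-- Uniqueness of the relative homogeneous spectrum: two schemes over Y equipped with the chart data of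
Proj(𝒮) are related by a unique morphism compatible with the charts (chartwise the identity of Proj
𝒮(U)), and that morphism is a Y-isomorphism. -/
theorem result {Y P P' : Scheme.{u}} (𝒮 : RelProj.QCGrAlg Y) (p : P ⟶ Y)
    (chart : ∀ (U : Y.Opens) (hU : IsAffineOpen U), (((p ⁻¹ᵁ U : P.Opens) : Scheme.{u}) ≅ Proj (𝒮.deg U hU)))
    (hP : RelProj.IsRelProj 𝒮 p chart) (p' : P' ⟶ Y)
    (chart' : ∀ (U : Y.Opens) (hU : IsAffineOpen U), (((p' ⁻¹ᵁ U : P'.Opens) : Scheme.{u}) ≅ Proj (𝒮.deg U hU)))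
    (hP' : RelProj.IsRelProj 𝒮 p' chart') :
    (∃! e : P ⟶ P', ∀ (U : Y.Opens) (hU : IsAffineOpen U),
        (p ⁻¹ᵁ U).ι ≫ e = (chart U hU).hom ≫ (chart' U hU).inv ≫ (p' ⁻¹ᵁ U).ι) ∧
      ∀ e : P ⟶ P', (∀ (U : Y.Opens) (hU : IsAffineOpen U),
        (p ⁻¹ᵁ U).ι ≫ e = (chart U hU).hom ≫ (chart' U hU).inv ≫ (p' ⁻¹ᵁ U).ι) → IsIso e ∧ e ≫ p' = p := by
  refine ⟨exists_glue 𝒮 p chart hP p' chart' hP', ?_⟩
  intro e he
  refine ⟨?_, comp_eq 𝒮 p chart hP p' chart' hP' e he⟩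
  obtain ⟨e', he', -⟩ := exists_glue 𝒮 p' chart' hP' p chart hP
  refine ⟨e', ?_, ?_⟩
  · apply (Groth.Agent.Helper12.RelProjBasic.preimageCover p).hom_ext
    intro U
    change (p ⁻¹ᵁ U.1).ι ≫ e ≫ e' = (p ⁻¹ᵁ U.1).ι ≫ 𝟙 _
    rw [← Category.assoc, he U.1 U.2, Category.assoc, Category.assoc, he' U.1 U.2]
    simp
  · apply (Groth.Agent.Helper12.RelProjBasic.preimageCover p').hom_ext
    intro U
    change (p' ⁻¹ᵁ U.1).ι ≫ e' ≫ e = (p' ⁻¹ᵁ U.1).ι ≫ 𝟙 _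
    rw [← Category.assoc, he' U.1 U.2, Category.assoc, Category.assoc, he U.1 U.2]
    simp

end Groth.Agent.S8273
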