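import Groth.Statements.S8274
import Groth.Agent.Lib.Helper12.RelProjGlue

set_option autoImplicit false
universe u
open CategoryTheory CategoryTheory.Limits AlgebraicGeometry Opposite TopologicalSpace
open scoped HomogeneousIdeal
open EGA2

namespace Groth.Agent.S8274

section
variable {Y P : Scheme.{u}} (𝒮 : RelProj.QCGrAlg Y) (p : P ⟶ Y)
    (chart : ∀ (U : Y.Opens) (hU : IsAffineOpen U), (((p ⁻¹ᵁ U : P.Opens) : Scheme.{u}) ≅ Proj (𝒮.deg U hU)))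
    (f : 𝒮.presheaf.obj (op ⊤))

/-- restriction of the global section -/
noncomputable def fU (U : Y.Opens) : 𝒮.presheaf.obj (op U) := (𝒮.presheaf.map (homOfLE le_top).op).hom f

/-- the piece of `X_f` over an affine open -/
noncomputable def G (W : Y.affineOpens) : P.Opens :=
  (p ⁻¹ᵁ W.1).ι ''ᵁ ((chart W.1 W.2).hom ⁻¹ᵁ Proj.basicOpen (𝒮.deg W.1 W.2) (fU 𝒮 f W.1))

theorem mem_G (W : Y.affineOpens) (x : P) :
    x ∈ G 𝒮 p chart f W ↔ ∃ hx : p.base x ∈ W.1,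
      (chart W.1 W.2).hom.base ⟨x, hx⟩ ∈ Proj.basicOpen (𝒮.deg W.1 W.2) (fU 𝒮 f W.1) := by
  constructor
  · rintro ⟨y, hy, rfl⟩
    exact ⟨y.2, hy⟩
  · rintro ⟨hx, h⟩
    exact ⟨⟨x, hx⟩, h, rfl⟩

theorem G_le (W : Y.affineOpens) : G 𝒮 p chart f W ≤ p ⁻¹ᵁ W.1 := by
  intro x hx
  obtain ⟨h, -⟩ := (mem_G 𝒮 p chart f W x).mp hx
  exact h

theorem fU_res {U V : Y.Opens} (h : V ≤ U) :
    (𝒮.presheaf.map (homOfLE h).op).hom (fU 𝒮 f U) = fU 𝒮 f V := by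
  simp only [fU]
  rw [← CommRingCat.comp_apply, ← Functor.map_comp]
  rfl

variable (hP : RelProj.IsRelProj 𝒮 p chart)
include hP

theorem mem_G_basic (U : Y.affineOpens) (r : Γ(Y, U.1)) (x : P)
    (hx : p.base x ∈ Y.basicOpen r) :
    x ∈ G 𝒮 p chart f ⟨Y.basicOpen r, U.2.basicOpen r⟩ ↔ x ∈ G 𝒮 p chart f U := by
  have hxU : p.base x ∈ U.1 := Y.basicOpen_le r hx
  have h1 := hP.chart_res U.1 U.2 r
  have h2 : (chart U.1 U.2).hom.base ⟨x, hxU⟩ =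
      (Proj.map (𝒮.res U.2 (U.2.basicOpen r) (Y.basicOpen_le r))
        (𝒮.irrelevant_le_map U.1 U.2 r)).base
        ((chart (Y.basicOpen r) (U.2.basicOpen r)).hom.base ⟨x, hx⟩) := by
    have := congrArg (fun g => g.base ⟨x, hx⟩) h1
    simp only [Scheme.Hom.comp_base, TopCat.hom_comp, ContinuousMap.comp_apply] at this
    rw [Scheme.homOfLE_apply'] at this
    exact this
  rw [mem_G, mem_G]
  constructor
  · rintro ⟨_, h⟩
    refine ⟨hxU, ?_⟩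
    rw [h2]
    change _ ∈ (Proj.map _ _) ⁻¹ᵁ Proj.basicOpen _ _
    rw [Proj.map_preimage_basicOpen]
    have h3 := fU_res 𝒮 f (Y.basicOpen_le r)
    rw [RelProj.QCGrAlg.res_apply, h3]
    exact h
  · rintro ⟨_, h⟩
    refine ⟨hx, ?_⟩
    rw [h2] at h
    change _ ∈ (Proj.map _ _) ⁻¹ᵁ Proj.basicOpen _ _ at h
    rw [Proj.map_preimage_basicOpen] at h
    have h3 := fU_res 𝒮 f (Y.basicOpen_le r)
    rw [RelProj.QCGrAlg.res_apply, h3] at h
    exact h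

theorem mem_G_iff (U V : Y.affineOpens) (x : P) (hxU : p.base x ∈ U.1) (hxV : p.base x ∈ V.1) :
    x ∈ G 𝒮 p chart f U ↔ x ∈ G 𝒮 p chart f V := by
  obtain ⟨a, b, hab, hxa⟩ := exists_basicOpen_le_affine_inter U.2 V.2 (p.base x) ⟨hxU, hxV⟩
  have hxb : p.base x ∈ Y.basicOpen b := hab ▸ hxa
  rw [← mem_G_basic 𝒮 p chart f hP U a x hxa, ← mem_G_basic 𝒮 p chart f hP V b x hxb]
  have : (⟨Y.basicOpen a, U.2.basicOpen a⟩ : Y.affineOpens) = ⟨Y.basicOpen b, V.2.basicOpen b⟩ :=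
    Subtype.ext hab
  rw [this]

end

/-- Let 𝒮 be a quasi-coherent positively graded O_Y-algebra, P = Proj(𝒮) with structure morphism p and
charts, and f a global section of 𝒮 homogeneous of degree d > 0. There is an open subset X_f of P
such that for every affine open U of Y, X_f ∩ p⁻¹(U) is the open D_+(f|U) of Proj 𝒮(U) transported
by the chart; moreover X_f is affine over Y. (The identification of X_f with the spectrum of a
quotient of the d-th Veronese algebra is not stated here.) -/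
theorem result {Y P : Scheme.{u}} (𝒮 : RelProj.QCGrAlg Y) (p : P ⟶ Y)
    (chart : ∀ (U : Y.Opens) (hU : IsAffineOpen U), (((p ⁻¹ᵁ U : P.Opens) : Scheme.{u}) ≅ Proj (𝒮.deg U hU)))
    (hP : RelProj.IsRelProj 𝒮 p chart) {d : ℕ} (hd : 0 < d) (f : 𝒮.presheaf.obj (op ⊤))
    (hf : ∀ (U : Y.Opens) (hU : IsAffineOpen U), (𝒮.presheaf.map (homOfLE le_top).op).hom f ∈ 𝒮.deg U hU d) :
    ∃ Xf : P.Opens,
      (∀ (U : Y.Opens) (hU : IsAffineOpen U),
        Xf ⊓ p ⁻¹ᵁ U =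
          (p ⁻¹ᵁ U).ι ''ᵁ ((chart U hU).hom ⁻¹ᵁ
            Proj.basicOpen (𝒮.deg U hU) ((𝒮.presheaf.map (homOfLE le_top).op).hom f))) ∧
      IsAffineHom (Xf.ι ≫ p) := by
  have key : ∀ (U : Y.Opens) (hU : IsAffineOpen U),
      (⨆ W : Y.affineOpens, G 𝒮 p chart f W) ⊓ p ⁻¹ᵁ U = G 𝒮 p chart f ⟨U, hU⟩ := by
    intro U hU
    ext x
    simp only [Opens.coe_inf, Set.mem_inter_iff, SetLike.mem_coe, Opens.mem_iSup]
    constructor
    · rintro ⟨⟨W, hW⟩, hxU⟩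
      have hxW := G_le 𝒮 p chart f W hW
      exact (mem_G_iff 𝒮 p chart f hP W ⟨U, hU⟩ x hxW hxU).mp hW
    · intro h
      exact ⟨⟨⟨U, hU⟩, h⟩, G_le 𝒮 p chart f ⟨U, hU⟩ h⟩
  refine ⟨⨆ W : Y.affineOpens, G 𝒮 p chart f W, key, ?_⟩
  constructor
  intro V hV
  rw [← (⨆ W : Y.affineOpens, G 𝒮 p chart f W).ι.isAffineOpen_iff_of_isOpenImmersion]
  have h1 : (⨆ W : Y.affineOpens, G 𝒮 p chart f W).ι ''ᵁ
      (((⨆ W : Y.affineOpens, G 𝒮 p chart f W).ι ≫ p) ⁻¹ᵁ V) = G 𝒮 p chart f ⟨V, hV⟩ := by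
    change (⨆ W : Y.affineOpens, G 𝒮 p chart f W).ι ''ᵁ
      ((⨆ W : Y.affineOpens, G 𝒮 p chart f W).ι ⁻¹ᵁ (p ⁻¹ᵁ V)) = _
    rw [Scheme.Hom.image_preimage_eq_opensRange_inf, Scheme.Opens.opensRange_ι]
    exact key V hV
  rw [h1]
  unfold G
  apply IsAffineOpen.image_of_isOpenImmersion
  apply IsAffineOpen.preimage_of_isIso
  exact Proj.isAffineOpen_basicOpen _ _ (hf V hV) hd

end Groth.Agent.S8274
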