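import Groth.Statements.S8275
import Groth.Agent.Lib.Helper12.SNat

set_option autoImplicit false
universe u
open EGA2

namespace Groth.Agent.S8275

open Groth.Agent.Helper12.SNat Groth.Agent.Helper7.Graded Polynomial DirectSum in
theorem ft_of_ft_nat {R A B : Type u} [CommRing R] [CommRing A] [Algebra R A]
    (𝒜 : ℕ → Submodule R A) [GradedAlgebra 𝒜] [CommRing B] [Algebra R B] (ℬ : ℕ → Submodule R B)
    [GradedAlgebra ℬ] (φ : B →ₐ[R] Polynomial A)
    (hdeg : ∀ n : ℕ, Submodule.map φ.toLinearMap (ℬ n) =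
      Submodule.map ((Polynomial.monomial n : A →ₗ[A] Polynomial A).restrictScalars R)
        (⨆ (m : ℕ) (_ : n ≤ m), 𝒜 m))
    [Algebra.FiniteType (ℬ 0) B] : Algebra.FiniteType (𝒜 0) A := by
  classical
  rw [← irrelevant_fg_iff_finiteType]
  obtain ⟨s, hs, hs'⟩ := exists_finset_irrelevant_eq_span ℬ
  choose! deg hdegpos hdegmem using hs'
  let T : Finset A := (s.filter (fun e => deg e = 1)).image (fun e => (φ e).coeff 1)
  refine ⟨T, ?_⟩
  apply le_antisymm
  · rw [Ideal.span_le]
    intro t ht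
    obtain ⟨e, he, rfl⟩ := Finset.mem_image.mp ht
    have he1 : e ∈ ℬ 1 := by
      rw [← (Finset.mem_filter.mp he).2]
      exact hdegmem e (Finset.mem_filter.mp he).1
    obtain ⟨x, hx, hex⟩ := exists_of_mem 𝒜 ℬ φ hdeg he1
    rw [hex, coeff_monomial, if_pos rfl]
    exact (HomogeneousIdeal.mem_irrelevant_iff 𝒜 x).mpr (proj_eq_zero_of_mem_I 𝒜 hx one_pos)
  · intro x hx
    have hx1 : x ∈ I 𝒜 1 := by
      rw [mem_I_iff]
      intro j hj
      obtain rfl : j = 0 := by omega
      exact (HomogeneousIdeal.mem_irrelevant_iff 𝒜 x).mp hx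
    obtain ⟨b, hb, hbx⟩ := exists_lift 𝒜 ℬ φ hdeg hx1
    have hbirr : b ∈ Ideal.span (s : Set B) := hs ▸ mem_irrelevant_of_mem_pos ℬ one_pos hb
    have hcl := mem_closure_of_mem_span ℬ deg (fun e he => hdegmem e he) hb hbirr
    have key : ∀ y ∈ AddSubmonoid.closure
        {y : B | ∃ e ∈ (s : Set B), deg e ≤ 1 ∧ ∃ a ∈ ℬ (1 - deg e), y = a * e},
        (φ y).coeff 1 ∈ Ideal.span (T : Set A) := by
      intro y hy
      induction hy using AddSubmonoid.closure_induction with
      | mem y hy =>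
        obtain ⟨e, he, hle, a, ha, rfl⟩ := hy
        have hd1 : deg e = 1 := by have := hdegpos e he; omega
        rw [hd1] at ha
        obtain ⟨c, -, hac⟩ := exists_of_mem 𝒜 ℬ φ hdeg ha
        have he1 : e ∈ ℬ 1 := hd1 ▸ hdegmem e he
        obtain ⟨se, -, hese⟩ := exists_of_mem 𝒜 ℬ φ hdeg he1
        have hseT : se ∈ (T : Set A) := by
          rw [Finset.mem_coe, Finset.mem_image]
          refine ⟨e, Finset.mem_filter.mpr ⟨he, hd1⟩, ?_⟩
          rw [hese, coeff_monomial, if_pos rfl]
        rw [map_mul, hac, hese, monomial_mul_monomial, coeff_monomial, if_pos (by omega)]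
        exact Ideal.mul_mem_left _ _ (Ideal.subset_span hseT)
      | zero => simp
      | add y z _ _ hy hz =>
        rw [map_add, coeff_add]
        exact Ideal.add_mem _ hy hz
    have := key b hcl
    rwa [hbx, coeff_monomial, if_pos rfl] at this

open Groth.Agent.Helper12.SNat Groth.Agent.Helper7.Graded Polynomial DirectSum in
theorem ft_nat_of_ft {R A B : Type u} [CommRing R] [CommRing A] [Algebra R A]
    (𝒜 : ℕ → Submodule R A) [GradedAlgebra 𝒜] [CommRing B] [Algebra R B] (ℬ : ℕ → Submodule R B)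
    [GradedAlgebra ℬ] (φ : B →ₐ[R] Polynomial A) (hφ : Function.Injective φ)
    (hdeg : ∀ n : ℕ, Submodule.map φ.toLinearMap (ℬ n) =
      Submodule.map ((Polynomial.monomial n : A →ₗ[A] Polynomial A).restrictScalars R)
        (⨆ (m : ℕ) (_ : n ≤ m), 𝒜 m))
    [Algebra.FiniteType (𝒜 0) A] : Algebra.FiniteType (ℬ 0) B := by
  classical
  rw [← irrelevant_fg_iff_finiteType]
  obtain ⟨s, hs, hs'⟩ := exists_finset_irrelevant_eq_span 𝒜
  choose! deg hdegpos hdegmem using hs'
  have hl : ∀ (e : A) (j : ℕ), ∃ b : B, (e ∈ s → 1 ≤ j → j ≤ deg e →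
      b ∈ ℬ j ∧ φ b = monomial j e) := by
    intro e j
    by_cases h : e ∈ s ∧ 1 ≤ j ∧ j ≤ deg e
    · obtain ⟨b, hb, hbe⟩ := exists_lift 𝒜 ℬ φ hdeg (le_I 𝒜 h.2.2 (hdegmem e h.1))
      exact ⟨b, fun _ _ _ => ⟨hb, hbe⟩⟩
    · exact ⟨0, fun h1 h2 h3 => absurd ⟨h1, h2, h3⟩ h⟩
  choose lb hlb using hl
  let G : Finset B := (s.sigma (fun e => Finset.Icc 1 (deg e))).image (fun p => lb p.1 p.2)
  have hGmem : ∀ e ∈ s, ∀ j, 1 ≤ j → j ≤ deg e → lb e j ∈ (G : Set B) := by
    intro e he j h1 h2
    rw [Finset.mem_coe, Finset.mem_image]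
    exact ⟨⟨e, j⟩, Finset.mem_sigma.mpr ⟨he, Finset.mem_Icc.mpr ⟨h1, h2⟩⟩, rfl⟩
  refine ⟨G, ?_⟩
  apply le_antisymm
  · rw [Ideal.span_le]
    intro g hg
    obtain ⟨⟨e, j⟩, hp, rfl⟩ := Finset.mem_image.mp hg
    obtain ⟨he, hj⟩ := Finset.mem_sigma.mp hp
    obtain ⟨h1, h2⟩ := Finset.mem_Icc.mp hj
    exact mem_irrelevant_of_mem_pos ℬ h1 (hlb e j he h1 h2).1
  · intro b hb
    rw [← DirectSum.sum_support_decompose ℬ b]
    refine Ideal.sum_mem _ fun n _ => ?_
    by_cases hn : n = 0
    · subst hn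
      have := (HomogeneousIdeal.mem_irrelevant_iff ℬ b).mp hb
      rw [GradedRing.proj_apply] at this
      rw [this]
      exact Ideal.zero_mem _
    · have hle : ℬ n ≤ (Ideal.span (G : Set B)).restrictScalars R := by
        refine le_of_bihomogeneous 𝒜 ℬ φ hφ hdeg n _ (fun m b x hnm hb hx hbx => ?_)
        have hxirr : x ∈ Ideal.span (s : Set A) :=
          hs ▸ mem_irrelevant_of_mem_pos 𝒜 (by omega) hx
        have hcl := mem_closure_of_mem_span 𝒜 deg (fun e he => hdegmem e he) hx hxirr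
        have key : ∀ y ∈ AddSubmonoid.closure
            {y : A | ∃ e ∈ (s : Set A), deg e ≤ m ∧ ∃ a ∈ 𝒜 (m - deg e), y = a * e},
            monomial n y ∈ Submodule.map φ.toLinearMap
              ((Ideal.span (G : Set B)).restrictScalars R) := by
          intro y hy
          induction hy using AddSubmonoid.closure_induction with
          | mem y hy =>
            obtain ⟨e, he, hle, a, ha, rfl⟩ := hy
            have hdpos := hdegpos e he
            have hj1 : 1 ≤ min n (deg e) := le_min (by omega) hdpos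
            have hj2 : min n (deg e) ≤ deg e := min_le_right _ _
            obtain ⟨hlbmem, hlbφ⟩ := hlb e (min n (deg e)) he hj1 hj2
            have haI : a ∈ I 𝒜 (n - min n (deg e)) := by
              refine le_I 𝒜 ?_ ha
              rcases le_total n (deg e) with h | h
              · rw [min_eq_left h]; omega
              · rw [min_eq_right h]; omega
            obtain ⟨a', -, ha'φ⟩ := exists_lift 𝒜 ℬ φ hdeg haI
            refine ⟨a' * lb e (min n (deg e)), ?_, ?_⟩
            · exact Ideal.mul_mem_left _ _ (Ideal.subset_span (hGmem e he _ hj1 hj2))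
            · change φ (a' * lb e (min n (deg e))) = _
              rw [map_mul, ha'φ, hlbφ, monomial_mul_monomial]
              rw [Nat.sub_add_cancel (min_le_left n (deg e))]
          | zero => simp
          | add y z _ _ hy hz =>
            rw [map_add]
            exact Submodule.add_mem _ hy hz
        obtain ⟨b', hb', hb'φ⟩ := key x hcl
        have hbb : b' = b := hφ (hb'φ.trans hbx.symm)
        rw [← hbb]
        exact hb'
      exact hle (decompose ℬ b n).2


/-- For a positively graded ring S and the graded ring S♮ with S♮_n = S_{≥ n} = ⊕_{m ≥ n} S_m (presented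
here as a graded ring S' with an injective algebra homomorphism φ : S' → S[X] carrying S'_n onto
S_{≥ n}·X^n for every n, so that S'_0 is identified with S): S♮ is of finite type over S♮_0 = S if
and only if S is of finite type over S_0. -/
theorem result {R A B : Type u} [CommRing R] [CommRing A] [Algebra R A]
    (𝒜 : ℕ → Submodule R A) [GradedAlgebra 𝒜] [CommRing B] [Algebra R B] (ℬ : ℕ → Submodule R B) [GradedAlgebra ℬ]
    (φ : B →ₐ[R] Polynomial A) (hφ : Function.Injective φ)
    (hdeg : ∀ n : ℕ, Submodule.map φ.toLinearMap (ℬ n) =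
      Submodule.map ((Polynomial.monomial n : A →ₗ[A] Polynomial A).restrictScalars R) (⨆ (m : ℕ) (_ : n ≤ m), 𝒜 m)) :
    Algebra.FiniteType (ℬ 0) B ↔ Algebra.FiniteType (𝒜 0) A := by
  constructor
  · intro h
    exact ft_of_ft_nat 𝒜 ℬ φ hdeg
  · intro h
    exact ft_nat_of_ft 𝒜 ℬ φ hφ hdeg

end Groth.Agent.S8275
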