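import Groth.Statements.S8291
import Groth.Agent.Lib.Helper18.ProjQBC

set_option autoImplicit false
universe u
open CategoryTheory CategoryTheory.Limits AlgebraicGeometry Opposite TopologicalSpace
open scoped HomogeneousIdeal
noncomputable section
open EGA2

namespace Groth.Agent.S8291

/-- Let ψ : Y' → Y be a morphism, 𝒮 a quasi-coherent positively graded O_Y-algebra and 𝒮' = ψ^*𝒮,
presented as a quasi-coherent graded O_{Y'}-algebra with a graded ψ-morphism u : 𝒮 → ψ_*𝒮' whose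
squares O_Y(U) → O_{Y'}(U'), 𝒮(U) → 𝒮'(U') over affine opens U' ⊆ ψ⁻¹(U) are pushouts of rings. If g
: Proj(𝒮') → Proj(𝒮) is chartwise the morphism of homogeneous spectra induced by 𝒮(U) → 𝒮'(U'), then
Proj(𝒮') together with g and its structure morphism is the fibre product Proj(𝒮) ×_Y Y'. -/
theorem result {Y Y' P P' : Scheme.{u}} (ψ : Y' ⟶ Y) (𝒮 : RelProj.QCGrAlg Y)
    (𝒮' : RelProj.QCGrAlg Y') (u : 𝒮.presheaf ⟶ ψ.base _* 𝒮'.presheaf)
    (hu : 𝒮.str ≫ u = ψ.c ≫ (TopCat.Presheaf.pushforward CommRingCat.{u} ψ.base).map 𝒮'.str)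
    (φ : ∀ (U : Y.Opens) (hU : IsAffineOpen U) (U' : Y'.Opens) (hU' : IsAffineOpen U') (_ : U' ≤ ψ ⁻¹ᵁ U),
      𝒮.deg U hU →+*ᵍ 𝒮'.deg U' hU')
    (hφ : ∀ (U : Y.Opens) (hU : IsAffineOpen U) (U' : Y'.Opens) (hU' : IsAffineOpen U') (hle : U' ≤ ψ ⁻¹ᵁ U),
      (φ U hU U' hU' hle).toRingHom =
        ((u.app (op U) : 𝒮.presheaf.obj (op U) ⟶ 𝒮'.presheaf.obj (op (ψ ⁻¹ᵁ U))) ≫
          𝒮'.presheaf.map (homOfLE hle).op).hom)
    (hpo : ∀ (U : Y.Opens) (hU : IsAffineOpen U) (U' : Y'.Opens) (hU' : IsAffineOpen U') (hle : U' ≤ ψ ⁻¹ᵁ U),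
      IsPushout (ψ.appLE U U' hle) (𝒮.str.app (op U)) (𝒮'.str.app (op U'))
        ((u.app (op U) : 𝒮.presheaf.obj (op U) ⟶ 𝒮'.presheaf.obj (op (ψ ⁻¹ᵁ U))) ≫
          𝒮'.presheaf.map (homOfLE hle).op))
    (hirr : ∀ (U : Y.Opens) (hU : IsAffineOpen U) (U' : Y'.Opens) (hU' : IsAffineOpen U') (hle : U' ≤ ψ ⁻¹ᵁ U),
      (𝒮'.deg U' hU')₊ ≤ ((𝒮.deg U hU)₊).map (φ U hU U' hU' hle))
    (p : P ⟶ Y)
    (chart : ∀ (U : Y.Opens) (hU : IsAffineOpen U), (((p ⁻¹ᵁ U : P.Opens) : Scheme.{u}) ≅ Proj (𝒮.deg U hU)))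
    (hP : RelProj.IsRelProj 𝒮 p chart) (p' : P' ⟶ Y')
    (chart' : ∀ (U' : Y'.Opens) (hU' : IsAffineOpen U'), (((p' ⁻¹ᵁ U' : P'.Opens) : Scheme.{u}) ≅ Proj (𝒮'.deg U' hU')))
    (hP' : RelProj.IsRelProj 𝒮' p' chart') (g : P' ⟶ P)
    (hg : ∀ (U : Y.Opens) (hU : IsAffineOpen U) (U' : Y'.Opens) (hU' : IsAffineOpen U') (hle : U' ≤ ψ ⁻¹ᵁ U),
      (p' ⁻¹ᵁ U').ι ≫ g =
        (chart' U' hU').hom ≫ Proj.map (φ U hU U' hU' hle) (hirr U hU U' hU' hle) ≫ RelProj.emb p chart U hU) :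
    IsPullback g p' p ψ := by
  classical
  -- the `ψ`-morphism of algebras
  let uQ : RelSpec.QHom ψ 𝒮.toQCAlg 𝒮'.toQCAlg :=
    { app := fun U => u.app (op U)
      naturality := fun {U V} i => (u.naturality (homOfLE i).op).symm
      str_app := fun U => congrArg (fun k => k.app (op U)) hu }
  have happLE : ∀ (U : Y.Opens) (U' : Y'.Opens) (hle : U' ≤ ψ ⁻¹ᵁ U),
      uQ.appLE U U' hle = (u.app (op U) : 𝒮.presheaf.obj (op U) ⟶ 𝒮'.presheaf.obj (op (ψ ⁻¹ᵁ U))) ≫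
          𝒮'.presheaf.map (homOfLE hle).op := fun U U' hle => rfl
  let uG : RelProj.QGrHom ψ 𝒮 𝒮' :=
    { toQHom := uQ
      map_mem := fun U hU U' hU' hle d x hx => by
        have h1 := (φ U hU U' hU' hle).map_mem hx
        have h2 : (φ U hU U' hU' hle).toRingHom x =
            (𝒮'.presheaf.map (homOfLE hle).op).hom ((uQ.app U).hom x) := by
          rw [hφ U hU U' hU' hle]; rfl
        rw [← h2]; exact h1 }
  have hgr : ∀ (U : Y.Opens) (hU : IsAffineOpen U) (U' : Y'.Opens) (hU' : IsAffineOpen U')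
      (hle : U' ≤ ψ ⁻¹ᵁ U), uG.gradedAt U hU U' hU' hle = φ U hU U' hU' hle := by
    intro U hU U' hU' hle
    apply GradedRingHom.ext
    intro x
    have h2 : (φ U hU U' hU' hle).toRingHom x =
        (𝒮'.presheaf.map (homOfLE hle).op).hom ((uQ.app U).hom x) := by
      rw [hφ U hU U' hU' hle]; rfl
    exact h2.symm
  have hbc : RelSpec.IsQBaseChange uG.toQHom := fun U hU U' hU' hle => hpo U hU U' hU' hle
  have hdom := Groth.Agent.Helper18.ProjQBC.domQ_eq_top uG hbc (p' := p') (chart' := chart')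
  refine Groth.Agent.Helper18.ProjQBC.isPullback_of_isProjQMap uG hbc hP hP' g ⟨hdom, ?_⟩
  intro U hU U' hU' hle d hd f hf
  unfold RelProj.awayEmb RelProj.emb
  rw [Category.assoc, Category.assoc, hg U hU U' hU' hle, Iso.inv_hom_id_assoc]
  have key : ∀ (θ : 𝒮.deg U hU →+*ᵍ 𝒮'.deg U' hU') (e : θ = φ U hU U' hU' hle),
      Proj.awayι (𝒮'.deg U' hU') (θ f) (θ.map_mem hf) hd ≫
        Proj.map (φ U hU U' hU' hle) (hirr U hU U' hU' hle) ≫ (chart U hU).inv ≫ (p ⁻¹ᵁ U).ι =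
      Spec.map (CommRingCat.ofHom (HomogeneousLocalization.Away.map θ f)) ≫
        Proj.awayι (𝒮.deg U hU) f hf hd ≫ (chart U hU).inv ≫ (p ⁻¹ᵁ U).ι := by
    intro θ e
    subst e
    rw [← Category.assoc, Proj.awayι_comp_map _ _ hd f hf, Category.assoc]
  exact key _ (hgr U hU U' hU' hle)

end Groth.Agent.S8291
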