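import Groth.Statements.S8295
import Groth.Agent.Lib.Helper12.RelConeBasic

set_option autoImplicit false
universe u
open CategoryTheory CategoryTheory.Limits AlgebraicGeometry Opposite TopologicalSpace
open scoped HomogeneousIdeal
noncomputable section
open EGA2

namespace Groth.Agent.S8295

/-- The vertex section of the affine cone: let 𝒮 be a quasi-coherent positively graded O_Y-algebra with
𝒮_0 = O_Y, aug : 𝒮 → O_Y its augmentation (the algebra homomorphism over O_Y that vanishes on
sections of positive degree) and C = Spec(𝒮) the affine cone. There is exactly one morphism ε : Y →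
C which is a section of the structure morphism and which over every affine open U of Y is, on Spec
O_Y(U), the morphism Spec of aug(U) followed by the chart Spec 𝒮(U) → C; moreover every such ε is a
closed immersion. -/
theorem result {Y : Scheme.{u}} (𝒮 : RelProj.QCGrAlg Y)
    (h0 : RelCone.StrZeroBij 𝒮) (aug : 𝒮.toQCAlg ⟶ RelSpec.QCAlg.unit Y) (haug : RelCone.IsAugmentation 𝒮 aug) :
    (∃! ε : Y ⟶ 𝒮.toQCAlg.spec, RelCone.IsVertex 𝒮 aug ε) ∧
      ∀ ε : Y ⟶ 𝒮.toQCAlg.spec, RelCone.IsVertex 𝒮 aug ε → IsClosedImmersion ε := by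
  have hiso := Groth.Agent.Helper12.RelConeBasic.isIso_unit_π Y
  let ε₀ : Y ⟶ 𝒮.toQCAlg.spec := inv (RelSpec.QCAlg.unit Y).π ≫ RelSpec.QCAlg.specMap aug
  have hfs : ∀ (U : Y.Opens) (hU : IsAffineOpen U),
      hU.fromSpec ≫ inv (RelSpec.QCAlg.unit Y).π = (RelSpec.QCAlg.unit Y).ι U hU := by
    intro U hU
    refine (IsIso.comp_inv_eq _).mpr ?_
    refine Eq.trans ?_ ((RelSpec.QCAlg.unit Y).ι_π U hU).symm
    change _ = Spec.map (𝟙 _) ≫ _
    rw [Spec.map_id, Category.id_comp]
  have hε₀ : RelCone.IsVertex 𝒮 aug ε₀ := by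
    constructor
    · simp only [ε₀, Category.assoc]
      rw [RelSpec.QCAlg.specMap_π, IsIso.inv_hom_id]
    · intro U hU
      simp only [ε₀]
      rw [← Category.assoc, hfs U hU]
      exact RelSpec.QCAlg.ι_specMap U hU aug
  constructor
  · refine ⟨ε₀, hε₀, fun ε hε => ?_⟩
    apply Groth.Agent.Helper12.RelConeBasic.hom_ext_fromSpec
    intro U hU
    rw [hε.chart U hU, hε₀.chart U hU]
  · intro ε hε
    refine Groth.Agent.Helper12.RelProjGlue.of_local_squares (P := @IsClosedImmersion) ε
      (fun U : Y.affineOpens => (𝒮.toQCAlg.ι U.1 U.2).opensRange)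
      (Groth.Agent.Helper12.RelConeBasic.iSup_opensRange_ι _)
      (fun U => Spec Γ(Y, U.1)) (fun U => (U.2 : IsAffineOpen U.1).fromSpec)
      (fun U => Spec.map (aug.hom.app (op U.1)) ≫ (𝒮.toQCAlg.ι U.1 U.2).isoOpensRange.hom) ?_ ?_ ?_
    · intro U
      rw [hε.chart, Category.assoc, Scheme.Hom.isoOpensRange_hom_ι]
      rfl
    · intro U
      rw [← 𝒮.toQCAlg.π_preimage U.1 U.2, ← Scheme.Hom.comp_preimage, hε.comp_π,
        IsAffineOpen.opensRange_fromSpec]
      rfl
    · intro U
      rw [MorphismProperty.cancel_right_of_respectsIso (P := @IsClosedImmersion)]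
      apply IsClosedImmersion.spec_of_surjective
      intro r
      refine ⟨(𝒮.str.app (op U.1)).hom r, ?_⟩
      have := NatTrans.congr_app aug.comm (op U.1)
      exact congrArg (fun f => f.hom r) this

end Groth.Agent.S8295
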