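import Groth.Statements.S8298
import Groth.Agent.Lib.Helper12.RelConeInfty

set_option autoImplicit false
universe u
open CategoryTheory CategoryTheory.Limits AlgebraicGeometry Opposite TopologicalSpace
open scoped HomogeneousIdeal
noncomputable section
open EGA2

namespace Groth.Agent.S8298

/-- The pointed projective cone: let 𝒮 be a quasi-coherent positively graded O_Y-algebra with 𝒮_0 = O_Y,
aug its augmentation and ε : Y → C = Spec(𝒮) the vertex section; let Ŝ = 𝒮[z] (given through a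
graded homomorphism ι : 𝒮 → Ŝ and a degree-one global section z, polynomial over every affine open),
Ĉ = Proj(Ŝ) its relative homogeneous spectrum with charts, and i : C → Ĉ the canonical open
immersion. Then the open subset of Ĉ which is the union, over the affine opens U of Y, of the chart
images of the opens of Proj Ŝ(U) where the morphism induced by ι(U) : 𝒮(U) → Ŝ(U) is defined (the
complement of V_+ of the ideal generated by ι(𝒮(U)_+)) has underlying set exactly the complement of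
i(ε(Y)): the pointed projective cone Ê is Ĉ minus its vertex section. -/
theorem result {Y PC : Scheme.{u}} (𝒮 𝒮h : RelProj.QCGrAlg Y) (h0 : RelCone.StrZeroBij 𝒮)
    (ι : 𝒮.toQCAlg ⟶ 𝒮h.toQCAlg) (z : 𝒮h.presheaf.obj (op ⊤)) (hz : RelCone.IsPolyOver 𝒮 𝒮h ι z)
    (pC : PC ⟶ Y)
    (chartC : ∀ (U : Y.Opens) (hU : IsAffineOpen U), (((pC ⁻¹ᵁ U : PC.Opens) : Scheme.{u}) ≅ Proj (𝒮h.deg U hU)))
    (hPC : RelProj.IsRelProj 𝒮h pC chartC)
    (aug : 𝒮.toQCAlg ⟶ RelSpec.QCAlg.unit Y) (haug : RelCone.IsAugmentation 𝒮 aug)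
    (ε : Y ⟶ 𝒮.toQCAlg.spec) (hε : RelCone.IsVertex 𝒮 aug ε)
    (i : 𝒮.toQCAlg.spec ⟶ PC) (hi : RelCone.IsConeImm 𝒮 hz pC chartC i) :
    ((RelCone.pointedProjCone 𝒮 hz pC chartC : PC.Opens) : Set PC) = (Set.range (ε ≫ i).base)ᶜ := by
  have hi' := Groth.Agent.Helper12.RelConeInfty.hi_of_isConeImm 𝒮 𝒮h hz hi
  have hθ := Groth.Agent.Helper12.RelConeInfty.hθ₀ 𝒮 𝒮h hz
  have hcomp := Groth.Agent.Helper12.RelConeImm.comp_pC 𝒮 𝒮h ι hz.graded z hz.deg_z pC chartC hPC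
    (Groth.Agent.Helper12.RelConeInfty.θ₀ 𝒮 𝒮h hz) hθ i hi'
  have K := Groth.Agent.Helper12.RelConeBasic.mem_range_vertex_iff 𝒮 h0 aug haug ε hε
  have V := fun (U : Y.Opens) (hU : IsAffineOpen U) =>
    Groth.Agent.Helper12.RelConeInfty.notMem_domOpen_iff (RelProj.gradedHomAt ι hz.graded U hU)
      (hz.deg_z U hU) (hz.bij U hU) (Groth.Agent.Helper12.RelConeInfty.θ₀ 𝒮 𝒮h hz U hU).hom (hθ U hU)
  ext x
  simp only [RelCone.pointedProjCone, SetLike.mem_coe, TopologicalSpace.Opens.mem_iSup, Set.mem_compl_iff]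
  constructor
  · rintro ⟨U, y, hy, rfl⟩ ⟨s, hs⟩
    -- the point `c = ε s` of the cone
    have hc1 : 𝒮.toQCAlg.π.base (ε.base s) = s := by
      change (ε ≫ 𝒮.toQCAlg.π).base s = s
      rw [hε.comp_π]
      rfl
    have hs' : i.base (ε.base s) = (RelProj.emb pC chartC U.1 U.2).base y := hs
    have hsU : s ∈ U.1 := by
      have h1 : pC.base (i.base (ε.base s)) = s := by
        change (i ≫ pC).base (ε.base s) = s
        rw [hcomp]
        exact hc1
      rw [hs'] at h1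
      rw [← h1]
      exact ((chartC U.1 U.2).inv.base y).2
    have hcU : ε.base s ∈ 𝒮.toQCAlg.π ⁻¹ᵁ U.1 := by
      change 𝒮.toQCAlg.π.base (ε.base s) ∈ U.1
      rw [hc1]
      exact hsU
    rw [𝒮.toQCAlg.π_preimage U.1 U.2] at hcU
    obtain ⟨w, hw⟩ := hcU
    have hwz := (K U.1 U.2 w).mp ⟨s, hw.symm⟩
    have h2 : i.base ((𝒮.toQCAlg.ι U.1 U.2).base w) =
        (RelProj.emb pC chartC U.1 U.2).base
          ((Proj.awayι (𝒮h.deg U.1 U.2) (RelCone.restrictTop 𝒮h z U.1) (hz.deg_z U.1 U.2) one_pos).base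
            ((Spec.map (Groth.Agent.Helper12.RelConeInfty.θ₀ 𝒮 𝒮h hz U.1 U.2)).base w)) := by
      change (𝒮.toQCAlg.ι U.1 U.2 ≫ i).base w = _
      rw [hi' U.1 U.2]
      rfl
    rw [hw, hs'] at h2
    have h3 := (RelProj.emb pC chartC U.1 U.2).isOpenEmbedding.injective h2
    exact ((V U.1 U.2 y).mpr ⟨w, hwz, h3.symm⟩) hy
  · intro hx
    have hxc : x ∈ (⨆ U : Y.affineOpens, pC ⁻¹ᵁ U.1) := by
      rw [Groth.Agent.Helper12.RelProjBasic.isOpenCover_preimage_affineOpens pC]; trivial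
    obtain ⟨U, hxU⟩ := TopologicalSpace.Opens.mem_iSup.mp hxc
    let x' : ((pC ⁻¹ᵁ U.1 : PC.Opens) : Scheme.{u}) := ⟨x, hxU⟩
    have hxe : (RelProj.emb pC chartC U.1 U.2).base ((chartC U.1 U.2).hom.base x') = x := by
      change (pC ⁻¹ᵁ U.1).ι.base (((chartC U.1 U.2).hom ≫ (chartC U.1 U.2).inv).base x') = x
      rw [Iso.hom_inv_id]
      rfl
    refine ⟨U, (chartC U.1 U.2).hom.base x', ?_, hxe⟩
    by_contra hy
    obtain ⟨w, hwz, hwy⟩ := (V U.1 U.2 _).mp hy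
    obtain ⟨s, hs⟩ := (K U.1 U.2 w).mpr hwz
    apply hx
    refine ⟨s, ?_⟩
    change i.base (ε.base s) = x
    rw [hs]
    change (𝒮.toQCAlg.ι U.1 U.2 ≫ i).base w = x
    rw [hi' U.1 U.2, ← hxe, ← hwy]
    rfl

end Groth.Agent.S8298
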