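import Groth.Statements.S8299
import Groth.Agent.Lib.Helper12.RelSpecMap

set_option autoImplicit false
universe u
open CategoryTheory CategoryTheory.Limits AlgebraicGeometry Opposite TopologicalSpace
open scoped HomogeneousIdeal
noncomputable section
open EGA2

namespace Groth.Agent.S8299

theorem map_mem_irrelevant {A B σ τ : Type*} [CommRing A] [SetLike σ A] [AddSubgroupClass σ A]
    [CommRing B] [SetLike τ B] [AddSubgroupClass τ B] {𝒜 : ℕ → σ} {ℬ : ℕ → τ}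
    [GradedRing 𝒜] [GradedRing ℬ] (ψ : 𝒜 →+*ᵍ ℬ) {f : A} (hf : f ∈ 𝒜₊) : ψ f ∈ ℬ₊ := by
  rw [HomogeneousIdeal.mem_irrelevant_iff, GradedRing.proj_apply] at hf ⊢
  rw [← GradedRingHom.map_directSumDecompose, hf, map_zero]

/-- Let q : Y' → Y be a morphism of schemes, 𝒮 and 𝒮' quasi-coherent positively graded algebras over O_Y
and O_{Y'} with 𝒮_0 = O_Y and 𝒮'_0 = O_{Y'}, and φ : 𝒮 → q_*𝒮' a graded q-morphism (a map of sheaves
of rings compatible with the structure maps through q^♯, whose components 𝒮(U) → 𝒮'(U') for affine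
opens U' ⊆ q⁻¹(U) preserve degrees, recorded as graded ring homomorphisms); let C = Spec(𝒮), C' =
Spec(𝒮') be the affine cones and Φ : C' → C the morphism Spec(φ), i.e. the morphism which on the
charts over affine opens U' ⊆ q⁻¹(U) is Spec of 𝒮(U) → 𝒮'(U'); let E ⊆ C and E' ⊆ C' be the pointed
affine cones (defined chart by chart as the complements of V(𝒮(U)_+), resp. V(𝒮'(U')_+)). Then the
inverse image of E under Φ is contained in E'. -/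
theorem result {Y Y' : Scheme.{u}} (q : Y' ⟶ Y) (𝒮 : RelProj.QCGrAlg Y) (𝒮' : RelProj.QCGrAlg Y')
    (h0 : RelCone.StrZeroBij 𝒮) (h0' : RelCone.StrZeroBij 𝒮')
    (u : 𝒮.presheaf ⟶ q.base _* 𝒮'.presheaf)
    (hu : 𝒮.str ≫ u = q.c ≫ (TopCat.Presheaf.pushforward CommRingCat.{u} q.base).map 𝒮'.str)
    (φ : ∀ (U : Y.Opens) (hU : IsAffineOpen U) (U' : Y'.Opens) (hU' : IsAffineOpen U') (_ : U' ≤ q ⁻¹ᵁ U),
      𝒮.deg U hU →+*ᵍ 𝒮'.deg U' hU')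
    (hφ : ∀ (U : Y.Opens) (hU : IsAffineOpen U) (U' : Y'.Opens) (hU' : IsAffineOpen U') (hle : U' ≤ q ⁻¹ᵁ U),
      (φ U hU U' hU' hle).toRingHom =
        ((u.app (op U) : 𝒮.presheaf.obj (op U) ⟶ 𝒮'.presheaf.obj (op (q ⁻¹ᵁ U))) ≫
          𝒮'.presheaf.map (homOfLE hle).op).hom)
    (Φ : 𝒮'.toQCAlg.spec ⟶ 𝒮.toQCAlg.spec)
    (hΦ : ∀ (U : Y.Opens) (hU : IsAffineOpen U) (U' : Y'.Opens) (hU' : IsAffineOpen U') (hle : U' ≤ q ⁻¹ᵁ U),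
      𝒮'.toQCAlg.ι U' hU' ≫ Φ =
        Spec.map ((u.app (op U) : 𝒮.presheaf.obj (op U) ⟶ 𝒮'.presheaf.obj (op (q ⁻¹ᵁ U))) ≫
          𝒮'.presheaf.map (homOfLE hle).op) ≫ 𝒮.toQCAlg.ι U hU) :
    Φ ⁻¹ᵁ RelCone.pointedCone 𝒮 ≤ RelCone.pointedCone 𝒮' := by
  intro x' hx'
  obtain ⟨V, w, hw, hwx⟩ := Opens.mem_iSup.mp hx'
  have hover := Groth.Agent.Helper12.RelSpecMap.over_q q 𝒮.toQCAlg 𝒮'.toQCAlg u hu Φ hΦ
  have h1 : q.base (𝒮'.toQCAlg.π.base x') ∈ V.1 := by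
    have h5 : q.base (𝒮'.toQCAlg.π.base x') = 𝒮.toQCAlg.π.base (Φ.base x') :=
      (congrArg (fun g => g.base x') hover).symm
    rw [h5, ← hwx]
    change _ ∈ 𝒮.toQCAlg.π ⁻¹ᵁ V.1
    rw [𝒮.toQCAlg.π_preimage V.1 V.2]
    exact ⟨w, rfl⟩
  obtain ⟨U', hU', hxU', hle⟩ := Opens.isBasis_iff_nbhd.mp (Y'.isBasis_affineOpens)
    (show 𝒮'.toQCAlg.π.base x' ∈ q ⁻¹ᵁ V.1 from h1)
  have h2 : x' ∈ (𝒮'.toQCAlg.ι U' hU').opensRange := by
    rw [← 𝒮'.toQCAlg.π_preimage U' hU']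
    exact hxU'
  obtain ⟨w', rfl⟩ := h2
  have h3 : Φ.base ((𝒮'.toQCAlg.ι U' hU').base w') =
      (𝒮.toQCAlg.ι V.1 V.2).base ((Spec.map ((u.app (op V.1) :
        𝒮.presheaf.obj (op V.1) ⟶ 𝒮'.presheaf.obj (op (q ⁻¹ᵁ V.1))) ≫
          𝒮'.presheaf.map (homOfLE hle).op)).base w') := by
    rw [← Scheme.Hom.comp_apply, hΦ V.1 V.2 U' hU' hle]
    rfl
  rw [h3] at hwx
  have h4 := (𝒮.toQCAlg.ι V.1 V.2).isOpenEmbedding.injective hwx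
  refine Opens.mem_iSup.mpr ⟨⟨U', hU'⟩, w', ?_, rfl⟩
  intro hw'
  apply hw
  intro f hf
  rw [h4]
  change ((u.app (op V.1) : 𝒮.presheaf.obj (op V.1) ⟶ 𝒮'.presheaf.obj (op (q ⁻¹ᵁ V.1))) ≫
          𝒮'.presheaf.map (homOfLE hle).op).hom f ∈ w'.asIdeal
  apply hw'
  have h6 := map_mem_irrelevant (φ V.1 V.2 U' hU' hle) hf
  have h7 := congrArg (fun g => g f) (hφ V.1 V.2 U' hU' hle)
  exact h7 ▸ h6

end Groth.Agent.S8299
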