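import Groth.Statements.S8311
import Groth.Agent.Lib.Helper12.ProjNat

set_option autoImplicit false
universe u
open CategoryTheory AlgebraicGeometry
open scoped HomogeneousIdeal
open EGA2

namespace Groth.Agent.S8311

/-- Let S be a positively graded ring (an ℕ-graded R-algebra), S♮ the graded ring with S♮_n = S_[n] =
⊕_{m ≥ n} S_m (presented as a graded ring S' with an injective algebra homomorphism φ : S' → S[X]
carrying S'_n onto S_[n]·X^n), and T = S♮ ⊗_S S_0 = ⊕_n S_[n]/S_+S_[n] (presented as a graded ring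
with a surjective graded homomorphism π : S' → T whose kernel is the ideal generated by the elements
of S' corresponding to the constants in S_+); let ρ : T → S be the surjective graded homomorphism
sending the class of a ∈ S_[n] (in degree n) to the degree-n component of a, and Proj S → Proj T the
morphism it induces (a closed immersion, ρ being surjective). If there is n₀ such that S_{n+1} = S_1
S_n for every n ≥ n₀ (products of graded pieces as submodules), then the morphism Proj S → Proj T is
an isomorphism. (The published statement also asserts the converse when S is Noetherian; that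
converse is not correct as published: for S = k[y] with y of degree 2 the morphism is an isomorphism
of one-point schemes Spec k while S_{2m} ≠ S_1 S_{2m−1} = 0 for all m, so only the direct
implication is stated here.) -/
theorem result {R A B C : Type u} [CommRing R] [CommRing A] [Algebra R A]
    (𝒜 : ℕ → Submodule R A) [GradedAlgebra 𝒜] [CommRing B] [Algebra R B] (ℬ : ℕ → Submodule R B) [GradedAlgebra ℬ]
    (φ : B →ₐ[R] Polynomial A) (hφ : Function.Injective φ)
    (hdeg : ∀ n : ℕ, Submodule.map φ.toLinearMap (ℬ n) =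
      Submodule.map ((Polynomial.monomial n : A →ₗ[A] Polynomial A).restrictScalars R) (⨆ (m : ℕ) (_ : n ≤ m), 𝒜 m))
    [CommRing C] [Algebra R C] (𝒞 : ℕ → Submodule R C) [GradedAlgebra 𝒞]
    (π : ℬ →+*ᵍ 𝒞) (hπ : Function.Surjective π)
    (hker : RingHom.ker π.toRingHom =
      Ideal.span (⇑φ ⁻¹' (⇑(Polynomial.C : A →+* Polynomial A) '' ((HomogeneousIdeal.irrelevant 𝒜).toIdeal : Set A))))
    (ρ : 𝒞 →+*ᵍ 𝒜) (hρ : ∀ (n : ℕ) (b : B), b ∈ ℬ n → ρ (π b) = GradedRing.proj 𝒜 n ((φ b).coeff n))
    (hirr : HomogeneousIdeal.irrelevant 𝒜 ≤ (HomogeneousIdeal.irrelevant 𝒞).map ρ)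
    (hgen : ∃ n₀ : ℕ, ∀ n : ℕ, n₀ ≤ n → 𝒜 (n + 1) = 𝒜 1 * 𝒜 n) :
    IsIso (Proj.map ρ hirr) := by
  classical
  obtain ⟨n₀, hgen⟩ := hgen
  have hbij := Groth.Agent.Helper12.ProjNat.comap_bijective 𝒜 ℬ φ hφ hdeg 𝒞 π hπ hker ρ hρ hirr
  have hsurj := Groth.Agent.Helper12.ProjNat.rho_surjective 𝒜 ℬ φ hdeg 𝒞 π ρ hρ
  -- the map on points is an open embedding
  have hcoe : ⇑(Proj.map ρ hirr) = ⇑(ProjectiveSpectrum.comap ρ hirr) := rfl
  have hopenmap : IsOpenMap (ProjectiveSpectrum.comap ρ hirr) := by
    rw [(ProjectiveSpectrum.isTopologicalBasis_basic_opens 𝒜).isOpenMap_iff]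
    rintro _ ⟨a, rfl⟩
    obtain ⟨c, rfl⟩ := hsurj a
    have : (ProjectiveSpectrum.comap ρ hirr) '' (ProjectiveSpectrum.basicOpen 𝒜 (ρ c) : Set _) =
        (ProjectiveSpectrum.basicOpen 𝒞 c : Set _) := by
      ext q
      constructor
      · rintro ⟨p, hp, rfl⟩
        exact hp
      · intro hq
        obtain ⟨p, rfl⟩ := hbij.2 q
        exact ⟨p, hq, rfl⟩
    rw [this]
    exact (ProjectiveSpectrum.basicOpen 𝒞 c).2
  have hopen : Topology.IsOpenEmbedding (Proj.map ρ hirr) := by
    rw [hcoe]
    exact Topology.IsOpenEmbedding.of_continuous_injective_isOpenMap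
      (ProjectiveSpectrum.comap ρ hirr).continuous hbij.1 hopenmap
  have hstalk : ∀ p, IsIso ((Proj.map ρ hirr).stalkMap p) := by
    intro p
    have hb := Groth.Agent.Helper12.ProjNat.localRingHom_bijective 𝒜 ℬ φ hφ hdeg 𝒞 π hπ hker ρ hρ
      hgen p ((ProjectiveSpectrum.comap ρ hirr p).asHomogeneousIdeal.toIdeal) rfl
    have hiso : IsIso (CommRingCat.ofHom (HomogeneousLocalization.localRingHom ρ
        ((ProjectiveSpectrum.comap ρ hirr p).asHomogeneousIdeal.toIdeal)
        p.asHomogeneousIdeal.toIdeal rfl)) :=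
      (RingEquiv.ofBijective _ hb).toCommRingCatIso.isIso_hom
    have heq := Proj.localRingHom_comp_stalkIso ρ hirr p
    have : IsIso ((Proj.sheafedSpaceMap ρ hirr).hom.stalkMap p) := by
      rw [← heq]
      exact IsIso.comp_isIso' inferInstance (IsIso.comp_isIso' hiso inferInstance)
    exact this
  have := hstalk
  have : IsOpenImmersion (Proj.map ρ hirr) := IsOpenImmersion.of_isIso_stalkMap _ hopen
  have : Epi (Proj.map ρ hirr).base := (TopCat.epi_iff_surjective _).mpr hbij.2
  exact (isIso_iff_isOpenImmersion_and_epi_base _).mpr ⟨inferInstance, inferInstance⟩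

end Groth.Agent.S8311
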