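import Groth.Statements.S8312
import Groth.Agent.Lib.Helper12.SNat

set_option autoImplicit false
universe u
open scoped HomogeneousIdeal
open EGA2

namespace Groth.Agent.S8312

open Groth.Agent.Helper12.SNat Groth.Agent.Helper7.Graded Polynomial DirectSum in
theorem core {R A B : Type u} [CommRing R] [CommRing A] [Algebra R A]
    (𝒜 : ℕ → Submodule R A) [GradedAlgebra 𝒜] [CommRing B] [Algebra R B] (ℬ : ℕ → Submodule R B)
    [GradedAlgebra ℬ] (φ : B →ₐ[R] Polynomial A) (hφ : Function.Injective φ)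
    (hdeg : ∀ n : ℕ, Submodule.map φ.toLinearMap (ℬ n) =
      Submodule.map ((Polynomial.monomial n : A →ₗ[A] Polynomial A).restrictScalars R)
        (⨆ (m : ℕ) (_ : n ≤ m), 𝒜 m))
    {ι : Type u} (d : ι → ℕ) (f : ι → A) (hf : ∀ a, f a ∈ 𝒜 (d a))
    (hrad : ∀ g ∈ (HomogeneousIdeal.irrelevant 𝒜).toIdeal, ∃ n : ℕ, 0 < n ∧
      g ^ n ∈ Ideal.span (Set.range f))
    (fn : ι → B) (hfn : ∀ a, φ (fn a) = Polynomial.monomial (d a) (f a))
    (n m : ℕ) (hn : 1 ≤ n) (hnm : n ≤ m) (b : B) (x : A) (hx : x ∈ 𝒜 m)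
    (hbx : φ b = Polynomial.monomial n x) :
    b ∈ (Ideal.span (Set.range fn)).radical := by
  classical
  have hxirr : x ∈ (HomogeneousIdeal.irrelevant 𝒜).toIdeal :=
    mem_irrelevant_of_mem_pos 𝒜 (by omega) hx
  obtain ⟨N, hN, hxN⟩ := hrad x hxirr
  -- degree function on the generators
  let deg : A → ℕ := fun e => if h : e ∈ Set.range f then d h.choose else 0
  have hdegmem : ∀ e ∈ Set.range f, e ∈ 𝒜 (deg e) := by
    intro e he
    simp only [deg, dif_pos he]
    have := hf he.choose
    rwa [he.choose_spec] at this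
  have hxNmem : x ^ N ∈ 𝒜 (N • m) := SetLike.pow_mem_graded N hx
  have hcl := mem_closure_of_mem_span 𝒜 deg hdegmem hxNmem hxN
  set k := N • m + N with hk
  have hkN : N ≤ k := by omega
  have key : ∀ y ∈ AddSubmonoid.closure
      {y : A | ∃ e ∈ Set.range f, deg e ≤ N • m ∧ ∃ a ∈ 𝒜 (N • m - deg e), y = a * e},
      monomial (n * k) (x ^ (k - N) * y) ∈ Submodule.map φ.toLinearMap
        ((Ideal.span (Set.range fn)).restrictScalars R) := by
    intro y hy
    induction hy using AddSubmonoid.closure_induction with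
    | mem y hy =>
      obtain ⟨e, he, hle, a, ha, rfl⟩ := hy
      have hdege : deg e = d he.choose := by simp only [deg, dif_pos he]
      have hfe : f he.choose = e := he.choose_spec
      set α := he.choose with hα
      rw [hdege] at hle ha
      have hxk : x ^ (k - N) ∈ 𝒜 ((k - N) • m) := SetLike.pow_mem_graded _ hx
      have ha'' : x ^ (k - N) * a ∈ 𝒜 ((k - N) • m + (N • m - d α)) :=
        SetLike.GradedMul.mul_mem hxk ha
      have hdk : d α ≤ n * k := by
        have h1 : k ≤ n * k := Nat.le_mul_of_pos_left k hn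
        have h2 : N • m ≤ k := by omega
        omega
      have hI : x ^ (k - N) * a ∈ I 𝒜 (n * k - d α) := by
        refine le_I 𝒜 ?_ ha''
        have h1 : (k - N) • m + N • m = k * m := by
          rw [← add_smul, Nat.sub_add_cancel hkN, smul_eq_mul]
        have h2 : n * k ≤ k * m := by
          rw [mul_comm n k]; exact Nat.mul_le_mul_left k hnm
        have h3 : (k - N) • m + (N • m - d α) = (k - N) • m + N • m - d α := by omega
        rw [h3, h1]
        omega
      obtain ⟨a', -, ha'φ⟩ := exists_lift 𝒜 ℬ φ hdeg hI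
      refine ⟨a' * fn α, Ideal.mul_mem_left _ _ (Ideal.subset_span ⟨α, rfl⟩), ?_⟩
      change φ (a' * fn α) = _
      rw [map_mul, ha'φ, hfn, monomial_mul_monomial, Nat.sub_add_cancel hdk, hfe, mul_assoc]
    | zero => simp
    | add y z _ _ hy hz =>
      rw [mul_add (x ^ (k - N)), map_add]
      exact Submodule.add_mem _ hy hz
  obtain ⟨b', hb', hb'φ⟩ := key (x ^ N) hcl
  have hbk : φ (b ^ k) = monomial (n * k) (x ^ (k - N) * x ^ N) := by
    rw [map_pow, hbx, monomial_pow, ← pow_add, Nat.sub_add_cancel hkN]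
  have hbb : b' = b ^ k := hφ (hb'φ.trans hbk.symm)
  exact ⟨k, hbb ▸ hb'⟩


/-- Let S be a positively graded ring (an ℕ-graded R-algebra) and S♮ the graded ring with S♮_n = S_[n] =
⊕_{m ≥ n} S_m, presented as a graded ring S' with an injective algebra homomorphism φ : S' → S[X]
carrying S'_n onto S_[n]·X^n; for a homogeneous f ∈ S_d write f♮ for the element of S' with φ(f♮) =
f·X^d (f placed in degree d of S♮). If (f_α) is a family of homogeneous elements of S of positive
degrees such that every element of the irrelevant ideal S_+ has a positive power in the ideal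
generated by the f_α (that is, S_+ is the radical in S_+ of that ideal), then every element of the
irrelevant ideal S'_+ has a positive power in the ideal of S' generated by the f_α♮. -/
theorem result {R A B : Type u} [CommRing R] [CommRing A] [Algebra R A]
    (𝒜 : ℕ → Submodule R A) [GradedAlgebra 𝒜] [CommRing B] [Algebra R B] (ℬ : ℕ → Submodule R B) [GradedAlgebra ℬ]
    (φ : B →ₐ[R] Polynomial A) (hφ : Function.Injective φ)
    (hdeg : ∀ n : ℕ, Submodule.map φ.toLinearMap (ℬ n) =
      Submodule.map ((Polynomial.monomial n : A →ₗ[A] Polynomial A).restrictScalars R) (⨆ (m : ℕ) (_ : n ≤ m), 𝒜 m))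
    {ι : Type u} (d : ι → ℕ) (hd : ∀ a, 0 < d a) (f : ι → A) (hf : ∀ a, f a ∈ 𝒜 (d a))
    (hrad : ∀ g ∈ (HomogeneousIdeal.irrelevant 𝒜).toIdeal, ∃ n : ℕ, 0 < n ∧ g ^ n ∈ Ideal.span (Set.range f))
    (fn : ι → B) (hfn : ∀ a, φ (fn a) = Polynomial.monomial (d a) (f a)) :
    ∀ g ∈ (HomogeneousIdeal.irrelevant ℬ).toIdeal, ∃ n : ℕ, 0 < n ∧ g ^ n ∈ Ideal.span (Set.range fn) := by
  classical
  intro g hg
  have hmem : g ∈ (Ideal.span (Set.range fn)).radical := by
    rw [← DirectSum.sum_support_decompose ℬ g]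
    refine Ideal.sum_mem _ fun n _ => ?_
    by_cases hn : n = 0
    · subst hn
      have := (HomogeneousIdeal.mem_irrelevant_iff ℬ g).mp hg
      rw [GradedRing.proj_apply] at this
      rw [this]
      exact Ideal.zero_mem _
    · have hle : ℬ n ≤ ((Ideal.span (Set.range fn)).radical).restrictScalars R := by
        refine Groth.Agent.Helper12.SNat.le_of_bihomogeneous 𝒜 ℬ φ hφ hdeg n _
          (fun m b x hnm hb hx hbx => ?_)
        exact core 𝒜 ℬ φ hφ hdeg d f hf hrad fn hfn n m (by omega) hnm b x hx hbx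
      exact hle (DirectSum.decompose ℬ g n).2
  obtain ⟨k, hk⟩ := hmem
  rcases Nat.eq_zero_or_pos k with rfl | hkpos
  · refine ⟨1, one_pos, ?_⟩
    rw [pow_zero] at hk
    rw [(Ideal.eq_top_iff_one _).mpr hk]
    trivial
  · exact ⟨k, hkpos, hk⟩

end Groth.Agent.S8312
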