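import Groth.Statements.S8345

set_option autoImplicit false
universe u
open ConstrTop

namespace Groth.Agent.S8345

open TopologicalSpace in
/-- Suppose X is a topological space that is Noetherian. Then a subset s of X is constructible exactly
when s can be written as the union of finitely many locally closed subsets of X. -/
theorem result {X : Type u} [TopologicalSpace X]
    [NoetherianSpace X] (s : Set X) :
    Topology.IsConstructible s ↔
      ∃ (n : ℕ) (Z : Fin n → Set X), (∀ i, IsLocallyClosed (Z i)) ∧ s = ⋃ i, Z i := by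
  classical
  have hretro : ∀ t : Set X, IsRetrocompact t :=
    fun t U _ _ => NoetherianSpace.isCompact _
  have hopen : ∀ U : Set X, IsOpen U → Topology.IsConstructible U :=
    fun U hU => (hretro U).isConstructible hU
  constructor
  · intro hs
    suffices h : ∃ T : Finset (Set X), (∀ Z ∈ T, IsLocallyClosed Z) ∧ s = ⋃₀ (T : Set (Set X)) by
      obtain ⟨T, hT, rfl⟩ := h
      refine ⟨T.card, fun i => (T.equivFin.symm i).1, fun i => hT _ (T.equivFin.symm i).2, ?_⟩
      ext x
      simp only [Set.mem_sUnion, Finset.mem_coe, Set.mem_iUnion]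
      constructor
      · rintro ⟨Z, hZ, hx⟩
        exact ⟨T.equivFin ⟨Z, hZ⟩, by simpa using hx⟩
      · rintro ⟨i, hx⟩
        exact ⟨_, (T.equivFin.symm i).2, hx⟩
    have hsub : IsSublattice {U : Set X | IsOpen U ∧ IsRetrocompact U} :=
      ⟨fun a ha b hb => ⟨ha.1.union hb.1, ha.2.union hb.2⟩,
       fun a ha b hb => ⟨ha.1.inter hb.1, ha.2.inter_isOpen hb.2 hb.1⟩⟩
    induction s, hs using BooleanSubalgebra.closure_sdiff_sup_induction hsub
        ⟨isOpen_empty, .empty⟩ ⟨isOpen_univ, .univ⟩ with
    | sdiff x hx y hy =>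
      refine ⟨{x \ y}, ?_, by simp⟩
      intro Z hZ
      rw [Finset.mem_singleton] at hZ
      subst hZ
      exact ⟨x, yᶜ, hx.1, hy.1.isClosed_compl, rfl⟩
    | sup x hx y hy hx' hy' =>
      obtain ⟨T1, h1, rfl⟩ := hx'
      obtain ⟨T2, h2, rfl⟩ := hy'
      refine ⟨T1 ∪ T2, ?_, ?_⟩
      · intro Z hZ
        rcases Finset.mem_union.mp hZ with h | h
        · exact h1 Z h
        · exact h2 Z h
      · rw [Finset.coe_union, Set.sUnion_union]; rfl
  · rintro ⟨n, Z, hZ, rfl⟩
    apply Topology.IsConstructible.iUnion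
    intro i
    obtain ⟨U, C, hU, hC, h⟩ := hZ i
    rw [h]
    exact (hopen U hU).inter (hopen _ hC.isOpen_compl).of_compl

end Groth.Agent.S8345
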