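import Groth.Statements.S8346
import Groth.Agent.S8344

set_option autoImplicit false
universe u
open ConstrTop

namespace Groth.Agent.S8346

open TopologicalSpace in
/-- Let X be a topological space admitting a basis of open subsets which are retrocompact in X. Then
every locally constructible subset T of X is retrocompact in X. -/
theorem result {X : Type u} [TopologicalSpace X]
    {B : Set (Set X)} (hB : IsTopologicalBasis B) (hBr : ∀ U ∈ B, IsRetrocompact U) {T : Set X}
    (hT : Topology.IsLocallyConstructible T) : IsRetrocompact T := by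
  intro U hUc hUo
  have key : ∀ x ∈ U, ∃ W : Set X, W ∈ nhds x ∧ W ⊆ U ∧ IsCompact (T ∩ W) := by
    intro x hxU
    obtain ⟨V, hVx, hVo, hVc⟩ := hT x
    obtain ⟨W, hWB, hxW, hWVU⟩ :=
      hB.mem_nhds_iff.mp (Filter.inter_mem hVx (hUo.mem_nhds hxU))
    have hWo : IsOpen W := hB.isOpen hWB
    have hWV : W ⊆ V := fun y hy => (hWVU hy).1
    have hWU : W ⊆ U := fun y hy => (hWVU hy).2
    have hWc : IsCompact W := by
      have := hBr W hWB hUc hUo
      rwa [Set.inter_eq_left.mpr hWU] at this
    refine ⟨W, hWo.mem_nhds hxW, hWU, ?_⟩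
    have hcon : Topology.IsConstructible (Set.inclusion hWV ⁻¹' ((Subtype.val : V → X) ⁻¹' T)) :=
      hVc.preimage_of_isOpenEmbedding
        (.inclusion _ (hWo.preimage continuous_subtype_val))
    have hretro := Groth.Agent.S8344.result hcon
    haveI : CompactSpace W := isCompact_iff_compactSpace.mp hWc
    have h1 := hretro isCompact_univ isOpen_univ
    rw [Set.inter_univ] at h1
    have h2 := h1.image continuous_subtype_val
    convert h2 using 1
    ext y
    simp only [Set.mem_inter_iff, Set.mem_image, Set.mem_preimage, Subtype.exists,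
      exists_and_right, exists_eq_right]
    constructor
    · rintro ⟨hyT, hyW⟩; exact ⟨hyW, hyT⟩
    · rintro ⟨hyW, hyT⟩; exact ⟨hyT, hyW⟩
  choose! W hW using key
  obtain ⟨t, htU, htcov⟩ := hUc.elim_nhds_subcover W (fun x hx => (hW x hx).1)
  have heq : T ∩ U = ⋃ x ∈ t, T ∩ W x := by
    ext y
    simp only [Set.mem_inter_iff, Set.mem_iUnion, exists_and_left, exists_prop]
    constructor
    · rintro ⟨hyT, hyU⟩
      obtain ⟨x, hx, hyx⟩ := Set.mem_iUnion₂.mp (htcov hyU)
      exact ⟨hyT, x, hx, hyx⟩
    · rintro ⟨hyT, x, hx, hyx⟩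
      exact ⟨hyT, (hW x (htU x hx)).2.1 hyx⟩
  rw [heq]
  exact t.isCompact_biUnion (fun x hx => (hW x (htU x hx)).2.2)

end Groth.Agent.S8346
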