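import Groth.Statements.S8347
import Groth.Agent.Lib.Helper13.SpSeqLib

set_option autoImplicit false
universe v u
open CategoryTheory CategoryTheory.Limits
open SpSeq

namespace Groth.Agent.S8347

open Groth.Agent.Helper13.SpSeqL

lemma gr_transport {C : Type u} [Category.{v} C] [Abelian C] {r₀ : ℤ}
    {E : CohomologicalSpectralSequence C r₀} {H : ℤ → C} (a : SpSeq.Abutment E H)
    (M n : ℤ) (hM : M = n) (p : ℤ) :
    Nonempty (SpSeq.grPiece (a.fil M) (a.anti M) p ≅ SpSeq.grPiece (a.fil n) (a.anti n) p) := by
  subst hM
  exact ⟨Iso.refl _⟩

/-- Let E be a spectral sequence in an abelian category with abutment data (H^m), and suppose that for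
some page r and every total degree m there is an integer q(m) such that E_r^{m-q,q} = 0 for every q
other than q(m). Let n be a total degree such that the filtration of H^n is discrete (some step is
zero) and exhaustive (H^n is the supremum of the steps), and such that the position (n - q(n), q(n))
is stationary from page r on. Then H^n is isomorphic to E_r^{n-q(n), q(n)}. (The published statement
asserts this without any condition on the differentials at the surviving positions; that version
fails when a differential d_r links the surviving terms of two consecutive total degrees, for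
instance a spectral sequence whose only nonzero page-2 terms are E_2^{0,1} and E_2^{2,0} with d_2 an
isomorphism between them and zero abutment. The stationarity assumed here is automatic when q(m)
does not depend on m and r ≥ 2.) -/
theorem result {C : Type u} [Category.{v} C] [Abelian C] {r₀ : ℤ}
    (E : CohomologicalSpectralSequence C r₀) {H : ℤ → C} (a : SpSeq.Abutment E H)
    (r : ℤ) (hr : r₀ ≤ r) (q : ℤ → ℤ)
    (hdeg : ∀ m q' : ℤ, q' ≠ q m → IsZero ((E.page r hr).X (m - q', q')))
    (n : ℤ) (hdisc : (a.filObj n).IsDiscrete) (hexh : a.IsExhaustive n)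
    (hst : SpSeq.StationaryAt E (n - q n, q n) r) :
    Nonempty (H n ≅ (E.page r hr).X (n - q n, q n)) := by
  -- graded pieces away from p₀ vanish
  have hz : ∀ p, p ≠ n - q n → IsZero (SpSeq.grPiece (a.fil n) (a.anti n) p) := by
    intro p hp
    have h1 : IsZero ((E.page r hr).X (p, n - p)) := by
      have := hdeg n (n - p) (by omega)
      have e : (n - (n - p), n - p) = (p, n - p) := by
        congr 1
        omega
      rwa [e] at this
    have h2 := isZero_gr_of_isZero E r hr (p, n - p) h1 a
    obtain ⟨e⟩ := gr_transport a (p + (n - p)) n (by omega) p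
    exact IsZero.of_iso h2 e.symm
  obtain ⟨e1⟩ := gr_iso_of_single (a.fil n) (a.anti n) (n - q n) hz hdisc hexh
  obtain ⟨e2⟩ := gr_transport a (n - q n + q n) n (by omega) (n - q n)
  obtain ⟨e3⟩ := iso_of_stationary_of_stationary E (n - q n, q n) _ r (a.stat (n - q n, q n)) hst
  exact ⟨e1.symm ≪≫ e2.symm ≪≫ (a.β (n - q n, q n)).symm ≪≫ e3⟩

end Groth.Agent.S8347
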