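import Groth.Statements.S8352

set_option autoImplicit false
universe u
open CategoryTheory CategoryTheory.Limits Opposite
open HomAlg3

namespace Groth.Agent.S8352

section aux
variable (F : ℕᵒᵖ ⥤ AddCommGrpCat.{u})

private lemma exists_lim_of_mem (hF : (F ⋙ forget AddCommGrpCat).IsMittagLeffler) (n : ℕ)
    (x : F.obj (op n))
    (hx : x ∈ (F ⋙ forget AddCommGrpCat).eventualRange (op n)) :
    ∃ y : (limit F : AddCommGrpCat.{u}), (limit.π F (op n)).hom y = x := by
  set G := F ⋙ forget AddCommGrpCat with hG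
  set E := G.toEventualRanges with hE
  have hsurj : ∀ k : ℕ, Function.Surjective (E.map (homOfLE (Nat.le_succ k)).op) :=
    fun k => Functor.surjective_toEventualRanges G hF _
  let w : (j : ℕ) → E.obj (op (n + j)) := fun j =>
    Nat.rec (motive := fun j => E.obj (op (n + j))) ⟨x, hx⟩
      (fun j wj => (hsurj (n + j) wj).choose) j
  have hw : ∀ j, E.map (homOfLE (Nat.le_succ (n + j))).op (w (j + 1)) = w j :=
    fun j => (hsurj (n + j) (w j)).choose_spec
  have wcompat : ∀ (a b : ℕ) (h : b ≤ a),
      E.map (homOfLE (Nat.add_le_add_left h n)).op (w a) = w b := by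
    intro a b h
    induction h with
    | refl =>
      have : (homOfLE (Nat.add_le_add_left (le_refl b) n)).op = 𝟙 (op (n + b)) :=
        Subsingleton.elim _ _
      rw [this, E.map_id]; rfl
    | @step a h ih =>
      have : (homOfLE (Nat.add_le_add_left (Nat.le_succ_of_le h) n)).op =
          (homOfLE (Nat.le_succ (n + a))).op ≫ (homOfLE (Nat.add_le_add_left h n)).op :=
        Subsingleton.elim _ _
      rw [this, Functor.map_comp_apply, hw a, ih]
  let sfun : ∀ k : ℕᵒᵖ, G.obj k := fun k =>
    G.map (homOfLE (Nat.le_add_left k.unop n)).op (w k.unop).1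
  have hsec : sfun ∈ G.sections := by
    intro j j' f
    have hle : j'.unop ≤ j.unop := leOfHom f.unop
    have e1 : (homOfLE (Nat.le_add_left j.unop n)).op ≫ f =
        (homOfLE (Nat.add_le_add_left hle n)).op ≫ (homOfLE (Nat.le_add_left j'.unop n)).op :=
      Subsingleton.elim _ _
    show G.map f (G.map (homOfLE (Nat.le_add_left j.unop n)).op (w j.unop).1) =
      G.map (homOfLE (Nat.le_add_left j'.unop n)).op (w j'.unop).1
    rw [← Functor.map_comp_apply, e1, Functor.map_comp_apply]
    congr 1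
    have := wcompat j.unop j'.unop hle
    exact congrArg Subtype.val this
  have hlim := isLimitOfPreserves (forget AddCommGrpCat.{u}) (limit.isLimit F)
  refine ⟨(Types.isLimitEquivSections hlim).symm ⟨sfun, hsec⟩, ?_⟩
  have h1 := Types.isLimitEquivSections_symm_apply hlim ⟨sfun, hsec⟩ (op n)
  have h2 : sfun (op n) = x := by
    have := wcompat n 0 (Nat.zero_le n)
    exact congrArg Subtype.val this
  rw [← h2]
  exact h1

end aux

/-- Category of abelian groups, system indexed by the natural numbers: Let (A_k) be an inverse system of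
abelian groups satisfying the Mittag-Leffler condition, A = lim A_k with projections π_p : A ⟶ A_p.
Filter A and each A_k by the kernels of the maps to A_{p-1} (with A_{-1} = 0); the graded piece
gr^p(A) is identified with Im(π_p) ∩ Ker(A_p ⟶ A_{p-1}) and gr^p(A_k), k ≥ p, with Im(A_k ⟶ A_p) ∩
Ker(A_p ⟶ A_{p-1}), a decreasing family of subgroups of A_p. The statement gr^p(A) ≅ lim_k gr^p(A_k)
then reads: Im(π_0) = ⋂_k Im(A_k ⟶ A_0), and for every p, Im(π_{p+1}) ∩ Ker(A_{p+1} ⟶ A_p) = ⋂_{k ≥
p+1} (Im(A_k ⟶ A_{p+1}) ∩ Ker(A_{p+1} ⟶ A_p)). -/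
theorem result (F : ℕᵒᵖ ⥤ AddCommGrpCat.{u})
    (hF : (F ⋙ forget AddCommGrpCat).IsMittagLeffler) :
    (limit.π F (op 0)).hom.range = ⨅ k : ℕ, (F.map (homOfLE (Nat.zero_le k)).op).hom.range ∧
      ∀ p : ℕ, (limit.π F (op (p + 1))).hom.range ⊓ (F.map (homOfLE (Nat.le_succ p)).op).hom.ker =
        ⨅ (k : ℕ) (hk : p + 1 ≤ k),
          (F.map (homOfLE hk).op).hom.range ⊓ (F.map (homOfLE (Nat.le_succ p)).op).hom.ker := by
  have key : ∀ (n : ℕ) (x : F.obj (op n)),
      x ∈ (limit.π F (op n)).hom.range ↔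
        ∀ (k : ℕ) (hk : n ≤ k), x ∈ (F.map (homOfLE hk).op).hom.range := by
    intro n x
    constructor
    · rintro ⟨y, rfl⟩ k hk
      refine ⟨(limit.π F (op k)).hom y, ?_⟩
      have := limit.w F (homOfLE hk).op
      rw [← this]
      rfl
    · intro h
      have hx : x ∈ (F ⋙ forget AddCommGrpCat).eventualRange (op n) := by
        rw [Functor.mem_eventualRange_iff]
        intro i f
        have hle : n ≤ i.unop := leOfHom f.unop
        obtain ⟨z, hz⟩ := h i.unop hle
        refine ⟨z, ?_⟩
        have e : f = (homOfLE hle).op := Subsingleton.elim _ _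
        rw [e]
        exact hz
      obtain ⟨y, hy⟩ := exists_lim_of_mem F hF n x hx
      exact ⟨y, hy⟩
  constructor
  · ext x
    rw [key 0 x, AddSubgroup.mem_iInf]
    exact ⟨fun h k => h k (Nat.zero_le k), fun h k hk => h k⟩
  · intro p
    ext x
    rw [AddSubgroup.mem_inf, key (p + 1) x]
    simp only [AddSubgroup.mem_iInf, AddSubgroup.mem_inf]
    constructor
    · rintro ⟨h1, h2⟩ k hk
      exact ⟨h1 k hk, h2⟩
    · intro h
      exact ⟨fun k hk => (h k hk).1, (h (p + 1) le_rfl).2⟩

end Groth.Agent.S8352
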