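import Groth.Statements.S8353
import Mathlib.RingTheory.Finiteness.Ideal
import Mathlib.RingTheory.Finiteness.Finsupp
import Mathlib.RingTheory.Ideal.Operations

set_option autoImplicit false
universe u
open HomAlg3

namespace Groth.Agent.S8353

/-- successive approximation -/
lemma approx {S : Type u} [CommRing S] (J : Ideal S) [IsPrecomplete J S]
    {M : Type u} [AddCommGroup M] [Module S M] (N : Submodule S M) (hN : N.FG)
    (G : ℕ → Submodule S M) (hinf : ∀ x : M, (∀ k, x ∈ G k) → x = 0)
    (h1 : ∀ k, J ^ k • N ≤ G k) (h2 : ∀ k, G k ≤ J ^ k • N ⊔ G (k + 1)) : G 0 ≤ N := by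
  classical
  obtain ⟨m, y, rfl⟩ := Submodule.fg_iff_exists_fin_generating_family.1 hN
  intro x hx
  -- one step
  have step : ∀ k, ∀ z ∈ G k, ∃ a : Fin m → S, (∀ i, a i ∈ J ^ k) ∧ z - ∑ i, a i • y i ∈ G (k + 1) := by
    intro k z hz
    obtain ⟨n, hn, z', hz', rfl⟩ := Submodule.mem_sup.1 (h2 k hz)
    obtain ⟨a, ha, rfl⟩ := (Submodule.mem_ideal_smul_span_iff_exists_sum (J ^ k) y n).1 hn
    refine ⟨fun i => a i, ha, ?_⟩
    have h5 : (a.sum fun i c => c • y i) = ∑ i, a i • y i :=
      Finsupp.sum_fintype _ _ (fun i => zero_smul _ _)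
    rw [h5]
    simpa using hz'
  choose a ha hstep using step
  let r : (k : ℕ) → {z : M // z ∈ G k} := fun k =>
    Nat.rec (motive := fun k => {z : M // z ∈ G k}) ⟨x, hx⟩
      (fun k z => ⟨z.1 - ∑ i, a k z.1 z.2 i • y i, hstep k z.1 z.2⟩) k
  have hr0 : (r 0).1 = x := rfl
  let A : ℕ → Fin m → S := fun k i => a k (r k).1 (r k).2 i
  have hrs : ∀ k, (r (k + 1)).1 = (r k).1 - ∑ i, A k i • y i := fun k => rfl
  have hA : ∀ k i, A k i ∈ J ^ k := fun k i => ha k (r k).1 (r k).2 i
  let s : ℕ → Fin m → S := fun K i => ∑ k ∈ Finset.range K, A k i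
  have hrK : ∀ K, (r K).1 = x - ∑ i, s K i • y i := by
    intro K
    induction K with
    | zero => simp [s, hr0]
    | succ K ih =>
      rw [hrs, ih]
      simp only [s, Finset.sum_range_succ, add_smul, Finset.sum_add_distrib]
      abel
  -- Cauchy
  have hcauchy : ∀ i, ∀ {K K' : ℕ}, K ≤ K' → s K i ≡ s K' i [SMOD (J ^ K • ⊤ : Submodule S S)] := by
    intro i K K' hKK'
    rw [SModEq.sub_mem]
    obtain ⟨d, rfl⟩ := Nat.exists_eq_add_of_le hKK'
    simp only [s]
    rw [Finset.sum_range_add, sub_add_cancel_left, smul_eq_mul, Ideal.mul_top]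
    apply neg_mem
    apply Submodule.sum_mem
    intro k _
    exact Ideal.pow_le_pow_right (Nat.le_add_right K k) (hA (K + k) i)
  choose L hL using fun i => IsPrecomplete.prec (I := J) (M := S) ‹_› (hcauchy i)
  have hz : x - ∑ i, L i • y i = 0 := by
    apply hinf
    intro K
    have h3 : x - ∑ i, L i • y i = (r K).1 - ∑ i, (L i - s K i) • y i := by
      rw [hrK]
      simp only [sub_smul, Finset.sum_sub_distrib]
      abel
    rw [h3]
    apply Submodule.sub_mem _ (r K).2
    apply Submodule.sum_mem
    intro i _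
    apply h1 K
    refine Submodule.smul_mem_smul ?_ (Submodule.subset_span ⟨i, rfl⟩)
    have := hL i K
    rw [SModEq.sub_mem, smul_eq_mul, Ideal.mul_top] at this
    have h4 := neg_mem this
    rwa [neg_sub] at h4
  rw [sub_eq_zero] at hz
  rw [hz]
  apply Submodule.sum_mem
  intro i _
  exact Submodule.smul_mem _ _ (Submodule.subset_span ⟨i, rfl⟩)


section
variable {S : Type u} [CommRing S] (J : Ideal S) {M : Type u} [AddCommGroup M] [Module S M]
  (F : ℤ → Submodule S M)

lemma pow_smul_le (hJ : ∀ p : ℤ, J • F p ≤ F (p + 1)) (p : ℤ) (k : ℕ) :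
    J ^ k • F p ≤ F (p + k) := by
  induction k with
  | zero => simp
  | succ k ih =>
    rw [pow_succ', mul_smul]
    calc J • J ^ k • F p ≤ J • F (p + k) := Submodule.smul_mono le_rfl ih
      _ ≤ F (p + k + 1) := hJ _
      _ = F (p + (k + 1 : ℕ)) := by push_cast; rw [add_assoc]

lemma claimA (hJ : ∀ p : ℤ, J • F p ≤ F (p + 1)) (p₁ : ℤ)
    (h : ∀ p : ℤ, p₁ ≤ p → F (p + 1) = J • F p ⊔ F (p + 2)) (p : ℤ) (hp : p₁ ≤ p)
    (N : Submodule S M) (hN : F p ≤ N ⊔ F (p + 1)) (k : ℕ) :
    F (p + k) ≤ J ^ k • N ⊔ F (p + k + 1) := by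
  induction k with
  | zero => simpa using hN
  | succ k ih =>
    have h1 : F (p + (k + 1 : ℕ)) = J • F (p + k) ⊔ F (p + k + 2) := by
      have := h (p + k) (by omega)
      push_cast
      rw [← add_assoc, this]
    rw [h1]
    apply sup_le
    · calc J • F (p + k) ≤ J • (J ^ k • N ⊔ F (p + k + 1)) := Submodule.smul_mono le_rfl ih
        _ = J ^ (k + 1) • N ⊔ J • F (p + k + 1) := by
          rw [Submodule.smul_sup, ← mul_smul, ← pow_succ']
        _ ≤ J ^ (k + 1) • N ⊔ F (p + (k + 1 : ℕ) + 1) := by
          apply sup_le_sup_left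
          have := hJ (p + k + 1)
          push_cast
          rw [← add_assoc]
          exact this
    · apply le_sup_of_le_right
      push_cast
      rw [← add_assoc, add_assoc (p + k) 1 1]
      norm_num

end

/-- Let S be a Noetherian ring which is separated and complete for the adic topology of an ideal J, and
let M be an S-module with a decreasing filtration (F^p M)_{p ∈ ℤ} by submodules such that F^p M = M
for some p, J·F^p M ⊆ F^{p+1} M for all p, and ⋂_p F^p M = 0. Then the following are equivalent: (a)
M is a finitely generated S-module and J·F^p M = F^{p+1} M for all large p; (c) every F^p M /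
F^{p+1} M is a finitely generated S-module and, for all large p, the map J ⊗ (F^p M/F^{p+1} M) ⟶
F^{p+1} M/F^{p+2} M is surjective, that is F^{p+1} M = J·F^p M + F^{p+2} M. (The published statement
also lists a third equivalent condition, finite generation of the associated graded module over the
associated graded ring; this row states the equivalence of the other two.) -/
theorem result {S : Type u} [CommRing S] [IsNoetherianRing S]
    (J : Ideal S) [IsAdicComplete J S] {M : Type u} [AddCommGroup M] [Module S M]
    (F : ℤ → Submodule S M) (hF : Antitone F) (hcod : ∃ p₀ : ℤ, F p₀ = ⊤)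
    (hJ : ∀ p : ℤ, J • F p ≤ F (p + 1)) (hsep : ⨅ p : ℤ, F p = ⊥) :
    (Module.Finite S M ∧ ∃ p₁ : ℤ, ∀ p : ℤ, p₁ ≤ p → J • F p = F (p + 1)) ↔
      ((∀ p : ℤ, (Submodule.map (F (p + 1)).mkQ (F p)).FG) ∧
        ∃ p₁ : ℤ, ∀ p : ℤ, p₁ ≤ p → F (p + 1) = J • F p ⊔ F (p + 2)) := by
  constructor
  · rintro ⟨hfin, p₁, hp₁⟩
    have hnoeth : IsNoetherian S M := isNoetherian_of_isNoetherianRing_of_finite S M
    refine ⟨fun p => (IsNoetherian.noetherian (F p)).map _, p₁, fun p hp => ?_⟩
    rw [hp₁ p hp]
    symm
    apply sup_eq_left.2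
    apply hF
    omega
  · rintro ⟨hgr, p₁, hp₁⟩
    -- separation along tails
    have hinf : ∀ q : ℤ, ∀ x : M, (∀ k : ℕ, x ∈ F (q + k)) → x = 0 := by
      intro q x hx
      have : x ∈ ⨅ p : ℤ, F p := by
        rw [Submodule.mem_iInf]
        intro p
        have h1 := hx (p - q).toNat
        apply hF _ h1
        have := Int.self_le_toNat (p - q)
        omega
      rw [hsep] at this
      simpa using this
    -- C: F p is FG for p ≥ p₁
    have hC : ∀ p : ℤ, p₁ ≤ p → (F p).FG := by
      intro p hp
      obtain ⟨m, f, hf⟩ := Submodule.fg_iff_exists_fin_generating_family.1 (hgr p)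
      have hfm : ∀ i, f i ∈ Submodule.map (F (p + 1)).mkQ (F p) := by
        intro i
        rw [← hf]
        exact Submodule.subset_span ⟨i, rfl⟩
      choose y hy hyf using hfm
      let N : Submodule S M := Submodule.span S (Set.range y)
      have hNle : N ≤ F p := Submodule.span_le.2 (by rintro _ ⟨i, rfl⟩; exact hy i)
      have hN1 : F p ≤ N ⊔ F (p + 1) := by
        intro x hx
        have h1 : (F (p + 1)).mkQ x ∈ Submodule.map (F (p + 1)).mkQ N := by
          rw [Submodule.map_span, ← Set.range_comp]
          have : ((F (p + 1)).mkQ ∘ y) = f := funext hyf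
          rw [this, hf]
          exact Submodule.mem_map_of_mem hx
        obtain ⟨n, hn, hnx⟩ := h1
        have h2 : x - n ∈ F (p + 1) := by
          rw [← Submodule.ker_mkQ (F (p + 1)), LinearMap.mem_ker, map_sub, hnx, sub_self]
        rw [Submodule.mem_sup]
        exact ⟨n, hn, x - n, h2, by abel⟩
      have h3 : F p ≤ N := by
        have := approx J N (Submodule.fg_span (Set.finite_range y)) (fun k => F (p + k)) (hinf p)
          (fun k => le_trans (Submodule.smul_mono le_rfl hNle) (pow_smul_le J F hJ p k))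
          (fun k => by
            have := claimA J F hJ p₁ hp₁ p hp N hN1 k
            simpa [add_assoc] using this)
        simpa using this
      have : F p = N := le_antisymm h3 hNle
      rw [this]
      exact Submodule.fg_span (Set.finite_range y)
    refine ⟨?_, p₁, ?_⟩
    · -- finiteness
      obtain ⟨p₀, hp₀⟩ := hcod
      have hdown : ∀ j : ℕ, (F (max p₀ p₁ - j)).FG := by
        intro j
        induction j with
        | zero => simpa using hC _ (le_max_right _ _)
        | succ j ih =>
          apply Submodule.fg_of_fg_map_of_fg_inf_ker ((F (max p₀ p₁ - (j + 1 : ℕ) + 1)).mkQ) (hgr _)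
          rw [Submodule.ker_mkQ]
          have h1 : max p₀ p₁ - (j + 1 : ℕ) + 1 = max p₀ p₁ - j := by push_cast; ring
          rw [h1]
          have h2 : F (max p₀ p₁ - (j + 1 : ℕ)) ⊓ F (max p₀ p₁ - j) = F (max p₀ p₁ - j) := by
            apply inf_eq_right.2
            apply hF
            push_cast
            omega
          rw [h2]
          exact ih
      have h1 := hdown (max p₀ p₁ - p₀).toNat
      have h2 : max p₀ p₁ - ((max p₀ p₁ - p₀).toNat : ℤ) = p₀ := by
        have := Int.toNat_of_nonneg (show 0 ≤ max p₀ p₁ - p₀ by have := le_max_left p₀ p₁; omega)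
        omega
      rw [h2, hp₀] at h1
      exact ⟨h1⟩
    · intro p hp
      apply le_antisymm (hJ p)
      have hJfg : J.FG := (isNoetherianRing_iff_ideal_fg S).1 inferInstance J
      have := approx J (J • F p) (Submodule.FG.smul hJfg (hC p hp)) (fun k => F (p + 1 + k)) (hinf (p + 1))
        (fun k => by
          rw [← mul_smul, ← pow_succ]
          have := pow_smul_le J F hJ p (k + 1)
          push_cast at this
          rw [add_assoc, add_comm (1 : ℤ)]
          exact this)
        (fun k => by
          have := claimA J F hJ p₁ hp₁ p hp (F p) le_sup_left (k + 1)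
          rw [← mul_smul, ← pow_succ]
          push_cast at this
          have e1 : p + 1 + (k : ℤ) = p + ((k : ℤ) + 1) := by ring
          have e2 : p + 1 + ((k + 1 : ℕ) : ℤ) = p + ((k : ℤ) + 1) + 1 := by push_cast; ring
          rw [e1, e2]
          exact this)
      simpa using this

end Groth.Agent.S8353
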