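import Groth.Statements.S8355

set_option autoImplicit false
universe v u
open CategoryTheory CategoryTheory.Limits
open SpSeq

namespace Groth.Agent.S8355

lemma isZero_succ {C : Type u} [Category.{v} C] [Abelian C] {r₀ : ℤ}
    (E : CohomologicalSpectralSequence C r₀) (r : ℤ) (hr : r₀ ≤ r) (pq : ℤ × ℤ)
    (h : IsZero ((E.page r hr).X pq)) : IsZero ((E.page (r + 1) (by omega)).X pq) := by
  have h1 : IsZero ((E.page r hr).homology pq) :=
    (HomologicalComplex.ExactAt.of_isZero h).isZero_homology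
  exact IsZero.of_iso h1 (E.iso r (r + 1) pq rfl hr).symm

lemma isZero_of_le {C : Type u} [Category.{v} C] [Abelian C] {r₀ : ℤ}
    (E : CohomologicalSpectralSequence C r₀) (r : ℤ) (hr : r₀ ≤ r) (pq : ℤ × ℤ)
    (h : IsZero ((E.page r hr).X pq)) (k : ℤ) (hk : r ≤ k) :
    IsZero ((E.page k (hr.trans hk)).X pq) := by
  induction k, hk using Int.leInduction with
  | base => exact h
  | succ k hk ih => exact isZero_succ E k (hr.trans hk) pq ih

lemma iso_succ_of_stationary {C : Type u} [Category.{v} C] [Abelian C] {r₀ : ℤ}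
    (E : CohomologicalSpectralSequence C r₀) (pq : ℤ × ℤ) (k : ℤ) (hk : r₀ ≤ k)
    (h1 : (E.page k hk).d (pq - (k, 1 - k)) pq = 0)
    (h2 : (E.page k hk).d pq (pq + (k, 1 - k)) = 0) :
    Nonempty ((E.page k hk).X pq ≅ (E.page (k + 1) (by omega)).X pq) := by
  have hprev : (ComplexShape.up' ((k, 1 - k) : ℤ × ℤ)).prev pq = pq - (k, 1 - k) := by
    apply ComplexShape.prev_eq'
    show pq - (k, 1 - k) + (k, 1 - k) = pq
    exact sub_add_cancel _ _
  have hnext : (ComplexShape.up' ((k, 1 - k) : ℤ × ℤ)).next pq = pq + (k, 1 - k) := by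
    apply ComplexShape.next_eq'
    show pq + (k, 1 - k) = pq + (k, 1 - k)
    rfl
  exact ⟨((E.page k hk).iCyclesIso pq _ hnext h2).symm ≪≫
    (E.page k hk).isoHomologyπ _ pq hprev h1 ≪≫ E.iso k (k + 1) pq rfl hk⟩

lemma iso_of_stationary {C : Type u} [Category.{v} C] [Abelian C] {r₀ : ℤ}
    (E : CohomologicalSpectralSequence C r₀) (pq : ℤ × ℤ) (s : ℤ)
    (hs : SpSeq.StationaryAt E pq s) (k : ℤ) (hk : s ≤ k) :
    Nonempty ((E.page s hs.1).X pq ≅ (E.page k (hs.1.trans hk)).X pq) := by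
  induction k, hk using Int.leInduction with
  | base => exact ⟨Iso.refl _⟩
  | succ k hk ih =>
    obtain ⟨e⟩ := ih
    obtain ⟨h1, h2⟩ := hs.2 k (hs.1.trans hk) hk
    obtain ⟨e'⟩ := iso_succ_of_stationary E pq k (hs.1.trans hk) h1 h2
    exact ⟨e ≪≫ e'⟩

/-- Let E be a spectral sequence in an abelian category and suppose E_r^{p,q} = 0. Then E_k^{p,q} = 0
for every k ≥ r, and E_∞^{p,q} = 0: for any abutment data (H^n) of E, the graded piece gr^p H^{p+q},
identified by the abutment with the limit term at (p, q), is zero. -/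
theorem result {C : Type u} [Category.{v} C] [Abelian C] {r₀ : ℤ}
    (E : CohomologicalSpectralSequence C r₀) (r : ℤ) (hr : r₀ ≤ r) (pq : ℤ × ℤ)
    (h : IsZero ((E.page r hr).X pq)) :
    (∀ (k : ℤ) (hk : r ≤ k), IsZero ((E.page k (hr.trans hk)).X pq)) ∧
      ∀ (H : ℤ → C) (a : SpSeq.Abutment E H),
        IsZero (SpSeq.grPiece (a.fil (pq.1 + pq.2)) (a.anti (pq.1 + pq.2)) pq.1) := by
  refine ⟨fun k hk => isZero_of_le E r hr pq h k hk, ?_⟩
  intro H a
  refine IsZero.of_iso ?_ (a.β pq).symm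
  rcases le_total r (a.rk pq) with hle | hle
  · exact isZero_of_le E r hr pq h _ hle
  · obtain ⟨e⟩ := iso_of_stationary E pq (a.rk pq) (a.stat pq) r hle
    exact IsZero.of_iso h e

end Groth.Agent.S8355
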