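import Groth.Statements.S8357
import Groth.Agent.Lib.Helper12.LieAdd

set_option autoImplicit false
universe u
open CategoryTheory MonObj AlgebraicGeometry
open LieS

namespace Groth.Agent.S8357

/-- For a group scheme G over a scheme S and an affine S-scheme T = Spec B, the map induced on
Lie(G/S)(T) by the n-th power map of G is multiplication by n; that is, for v in Lie(G/S)(T) and an
integer n, the n-th power of v in the group law inherited from G is the rescaling of v by the image
of n in B. -/
theorem result (S : Scheme.{u}) (G : Over S) [GrpObj G] (B : Type u) [CommRing B]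
    (f : Spec (CommRingCat.of B) ⟶ S) (v : LieS.Lie G B f) (n : ℤ) :
    v ^ n = ((n : B) • v : LieS.Lie G B f) := by
  have hv : LieS.zeroSec B f ≫ v.1 = 1 := (LieS.mem_Lie_iff G B f v.1).1 v.2
  let φ : Multiplicative B →* (LieS.dpt B f ⟶ G) :=
    { toFun := fun b => LieS.scale B f (Multiplicative.toAdd b) ≫ v.1
      map_one' := by
        show LieS.scale B f 0 ≫ v.1 = 1
        rw [Groth.Agent.Helper12.LieAdd.scale_zero, Category.assoc, hv, MonObj.comp_one]
      map_mul' := fun b c => Groth.Agent.Helper12.LieAdd.scale_add_comp B f v.1 hv _ _ }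
  have h1 : φ (Multiplicative.ofAdd (1 : B)) = v.1 := by
    show LieS.scale B f 1 ≫ v.1 = v.1
    rw [Groth.Agent.Helper12.LieAdd.scale_one, Category.id_comp]
  have h2 := map_zpow φ (Multiplicative.ofAdd (1 : B)) n
  rw [h1] at h2
  apply Subtype.ext
  rw [LieS.smul_val, Subgroup.coe_zpow, ← h2]
  show LieS.scale B f (Multiplicative.toAdd (Multiplicative.ofAdd (1 : B) ^ n)) ≫ v.1 = _
  rw [← ofAdd_zsmul, toAdd_ofAdd, zsmul_one]

end Groth.Agent.S8357
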