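import Groth.Statements.S8362
import Mathlib.AlgebraicGeometry.Pullbacks
import Mathlib.CategoryTheory.Comma.Over.Pullback
import Mathlib.RingTheory.Ideal.Quotient.Defs
import Mathlib.RingTheory.Ideal.Operations
import Mathlib.AlgebraicGeometry.Morphisms.IsIso
import Mathlib.AlgebraicGeometry.AffineScheme
import Mathlib.RingTheory.Spectrum.Prime.RingHom

set_option autoImplicit false
universe u
open CategoryTheory AlgebraicGeometry
open SGA3

namespace Groth.Agent.S8362

open Limits

section RingLemma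

variable {R A : Type u} [CommRing R] [CommRing A]

lemma fixed_of_mem (J : Ideal R) (hJ : J * J = ⊥) (ρ : R →+* A) (φ : A →+* A)
    (hφρ : ∀ r, φ (ρ r) = ρ r) (hφ : ∀ a, φ a - a ∈ J.map ρ) (n : A) (hn : n ∈ J.map ρ) : φ n = n := by
  have hNN : J.map ρ * J.map ρ = ⊥ := by rw [← Ideal.map_mul, hJ, Ideal.map_bot]
  rw [Ideal.map] at hn
  induction hn using Submodule.span_induction with
  | mem x hx =>
    obtain ⟨j, hj, rfl⟩ := hx
    exact hφρ j
  | zero => exact map_zero φ
  | add x y _ _ hx hy => rw [map_add, hx, hy]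
  | smul a x hx' hx =>
    rw [smul_eq_mul, map_mul, hx]
    have h1 : (φ a - a) * x ∈ J.map ρ * J.map ρ := Ideal.mul_mem_mul (hφ a) hx'
    rw [hNN, Ideal.mem_bot] at h1
    have : φ a * x = a * x + (φ a - a) * x := by ring
    rw [this, h1, add_zero]

lemma bijective_of_congr (J : Ideal R) (hJ : J * J = ⊥) (ρ : R →+* A) (φ : A →+* A)
    (hφρ : ∀ r, φ (ρ r) = ρ r) (hφ : ∀ a, φ a - a ∈ J.map ρ) : Function.Bijective φ := by
  have hfix := fixed_of_mem J hJ ρ φ hφρ hφ
  constructor
  · rw [injective_iff_map_eq_zero]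
    intro a ha
    have h1 : a ∈ J.map ρ := by
      have := hφ a
      rw [ha, zero_sub] at this
      exact neg_mem_iff.mp this
    rw [← hfix a h1, ha]
  · intro b
    refine ⟨b - (φ b - b), ?_⟩
    rw [map_sub, hfix _ (hφ b)]
    ring

end RingLemma

section Geom

variable {R : Type u} [CommRing R] (J : Ideal R)
  {Y : Scheme.{u}} (f : Y ⟶ Spec (CommRingCat.of R)) (v : Y ⟶ Y)

/-- the ring map `R → Γ(Y, U)` -/
noncomputable def rho {U : Y.Opens} (hU : IsAffineOpen U) : CommRingCat.of R ⟶ Γ(Y, U) :=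
  Spec.preimage (hU.fromSpec ≫ f)

lemma map_rho {U : Y.Opens} (hU : IsAffineOpen U) : Spec.map (rho f hU) = hU.fromSpec ≫ f :=
  Spec.map_preimage _

/-- the ideal `J Γ(Y, U)` -/
noncomputable def IA {U : Y.Opens} (hU : IsAffineOpen U) : Ideal Γ(Y, U) := J.map (rho f hU).hom

/-- the quotient map -/
noncomputable def piB {U : Y.Opens} (hU : IsAffineOpen U) :
    Γ(Y, U) ⟶ CommRingCat.of (Γ(Y, U) ⧸ IA J f hU) :=
  CommRingCat.ofHom (Ideal.Quotient.mk (IA J f hU))

/-- the closed subscheme `V(J Γ(U))` mapping to `Y` -/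
noncomputable def qq {U : Y.Opens} (hU : IsAffineOpen U) :
    Spec (CommRingCat.of (Γ(Y, U) ⧸ IA J f hU)) ⟶ Y :=
  Spec.map (piB J f hU) ≫ hU.fromSpec

lemma qq_comp (hv : pullback.fst f (Spec.map (CommRingCat.ofHom (Ideal.Quotient.mk J))) ≫ v =
      pullback.fst f (Spec.map (CommRingCat.ofHom (Ideal.Quotient.mk J))))
    {U : Y.Opens} (hU : IsAffineOpen U) : qq J f hU ≫ v = qq J f hU := by
  let lft : CommRingCat.of (R ⧸ J) ⟶ CommRingCat.of (Γ(Y, U) ⧸ IA J f hU) :=
    CommRingCat.ofHom (Ideal.Quotient.lift J ((Ideal.Quotient.mk (IA J f hU)).comp (rho f hU).hom)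
      (by
        intro a ha
        exact Ideal.Quotient.eq_zero_iff_mem.mpr (Ideal.mem_map_of_mem _ ha)))
  have hcomm : CommRingCat.ofHom (Ideal.Quotient.mk J) ≫ lft = rho f hU ≫ piB J f hU := by
    ext a
    simp [lft, piB]
  have hq : qq J f hU ≫ f = Spec.map lft ≫ Spec.map (CommRingCat.ofHom (Ideal.Quotient.mk J)) := by
    rw [qq, Category.assoc, ← map_rho, ← Spec.map_comp, ← Spec.map_comp, hcomm]
  let s := pullback.lift (qq J f hU) (Spec.map lft) hq
  have hs : s ≫ pullback.fst f _ = qq J f hU := pullback.lift_fst _ _ _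
  rw [← hs, Category.assoc, hv]



lemma IA_sq (hJ : J * J = ⊥) {U : Y.Opens} (hU : IsAffineOpen U) : IA J f hU * IA J f hU = ⊥ := by
  rw [IA, ← Ideal.map_mul, hJ, Ideal.map_bot]

lemma piB_surj_points (hJ : J * J = ⊥) {U : Y.Opens} (hU : IsAffineOpen U) (y : Spec Γ(Y, U)) :
    ∃ z, Spec.map (piB J f hU) z = y := by
  have hsurj : Function.Surjective (piB J f hU).hom := Ideal.Quotient.mk_surjective
  have hy : (show PrimeSpectrum Γ(Y, U) from y) ∈ Set.range (PrimeSpectrum.comap (piB J f hU).hom) := by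
    rw [range_comap_of_surjective _ _ hsurj]
    refine (PrimeSpectrum.mem_zeroLocus _ _).mpr ?_
    intro a ha
    have ha' : a ∈ IA J f hU := by
      have : (piB J f hU).hom a = 0 := ha
      exact Ideal.Quotient.eq_zero_iff_mem.mp this
    have h2 : a * a ∈ IA J f hU * IA J f hU := Ideal.mul_mem_mul ha' ha'
    rw [IA_sq J f hJ hU, Ideal.mem_bot] at h2
    have h3 : a * a ∈ (show PrimeSpectrum Γ(Y, U) from y).asIdeal := by rw [h2]; exact zero_mem _
    rcases (show PrimeSpectrum Γ(Y, U) from y).isPrime.mem_or_mem h3 with h | h <;> exact h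
  obtain ⟨z, hz⟩ := hy
  exact ⟨z, hz⟩

lemma v_apply (hJ : J * J = ⊥)
    (hv : pullback.fst f (Spec.map (CommRingCat.ofHom (Ideal.Quotient.mk J))) ≫ v =
      pullback.fst f (Spec.map (CommRingCat.ofHom (Ideal.Quotient.mk J)))) (x : Y) : v x = x := by
  obtain ⟨U, hU, hxU, -⟩ := exists_isAffineOpen_mem_and_subset (x := x) (U := ⊤) trivial
  have hx : x ∈ Set.range hU.fromSpec := by rw [hU.range_fromSpec]; exact hxU
  obtain ⟨y, rfl⟩ := hx
  obtain ⟨z, rfl⟩ := piB_surj_points J f hJ hU y
  have := congrArg (fun g => g z) (qq_comp J f v hv hU)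
  simpa [qq] using this

lemma v_preimage (hJ : J * J = ⊥)
    (hv : pullback.fst f (Spec.map (CommRingCat.ofHom (Ideal.Quotient.mk J))) ≫ v =
      pullback.fst f (Spec.map (CommRingCat.ofHom (Ideal.Quotient.mk J)))) (U : Y.Opens) : v ⁻¹ᵁ U = U := by
  ext x
  change v x ∈ U ↔ x ∈ U
  rw [v_apply J f v hJ hv x]



lemma appLE_bijective (hJ : J * J = ⊥) (hvf : v ≫ f = f)
    (hv : pullback.fst f (Spec.map (CommRingCat.ofHom (Ideal.Quotient.mk J))) ≫ v =
      pullback.fst f (Spec.map (CommRingCat.ofHom (Ideal.Quotient.mk J))))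
    {U : Y.Opens} (hU : IsAffineOpen U) (e : U ≤ v ⁻¹ᵁ U) :
    Function.Bijective (v.appLE U U e).hom := by
  set φ := v.appLE U U e with hφ
  have h1 : Spec.map φ ≫ hU.fromSpec = hU.fromSpec ≫ v := hU.SpecMap_appLE_fromSpec v hU e
  have hρ : rho f hU ≫ φ = rho f hU := by
    apply Spec.map_injective
    rw [Spec.map_comp, map_rho, reassoc_of% h1, hvf]
  have hπ : φ ≫ piB J f hU = piB J f hU := by
    apply Spec.map_injective
    rw [Spec.map_comp, ← cancel_mono hU.fromSpec, Category.assoc, h1]
    exact qq_comp J f v hv hU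
  apply bijective_of_congr J hJ (rho f hU).hom φ.hom
  · intro r
    have := congrArg (fun g => g.hom r) hρ
    simpa using this
  · intro a
    have := congrArg (fun g => g.hom a) hπ
    simp only [CommRingCat.hom_comp, RingHom.coe_comp, Function.comp_apply] at this
    change Ideal.Quotient.mk (IA J f hU) (φ.hom a) = Ideal.Quotient.mk (IA J f hU) a at this
    rw [Ideal.Quotient.eq] at this
    exact this



lemma isIso_app (hJ : J * J = ⊥) (hvf : v ≫ f = f)
    (hv : pullback.fst f (Spec.map (CommRingCat.ofHom (Ideal.Quotient.mk J))) ≫ v =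
      pullback.fst f (Spec.map (CommRingCat.ofHom (Ideal.Quotient.mk J))))
    {W : Y.Opens} (hW : IsAffineOpen W) : IsIso (v.app W) := by
  have hpre := v_preimage J f v hJ hv W
  have hb := appLE_bijective J f v hJ hvf hv hW hpre.ge
  have h1 : IsIso (v.appLE W W hpre.ge) := (ConcreteCategory.isIso_iff_bijective _).mpr hb
  have h2 : IsIso (Y.presheaf.map (homOfLE hpre.ge).op) := by
    have : homOfLE hpre.ge = eqToHom hpre.symm := rfl
    rw [this]
    infer_instance
  rw [Scheme.Hom.appLE] at h1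
  exact IsIso.of_isIso_comp_right (v.app W) (Y.presheaf.map (homOfLE hpre.ge).op)

set_option backward.isDefEq.respectTransparency false in
lemma isIso_v (hJ : J * J = ⊥) (hvf : v ≫ f = f)
    (hv : pullback.fst f (Spec.map (CommRingCat.ofHom (Ideal.Quotient.mk J))) ≫ v =
      pullback.fst f (Spec.map (CommRingCat.ofHom (Ideal.Quotient.mk J)))) : IsIso v := by
  rw [← MorphismProperty.isomorphisms.iff,
    HasAffineProperty.iff_of_iSup_eq_top (P := MorphismProperty.isomorphisms Scheme)
      (fun i : Y.affineOpens => i) (iSup_affineOpens_eq_top Y)]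
  intro U
  constructor
  · have : IsAffineOpen (v ⁻¹ᵁ U.1) := by
      rw [v_preimage J f v hJ hv]
      exact U.2
    exact this
  · rw [morphismRestrict_appTop]
    have hW : IsAffineOpen (U.1.ι ''ᵁ ⊤) := by
      rw [Scheme.Opens.ι_image_top]
      exact U.2
    have := isIso_app J f v hJ hvf hv hW
    infer_instance

end Geom

theorem main (R : Type u) [CommRing R] (J : Ideal R) (hJ : J * J = ⊥)
    (X : Over (Spec (CommRingCat.of R))) (u : X ⟶ X)
    (h : (Over.pullback (Spec.map (CommRingCat.ofHom (Ideal.Quotient.mk J)))).map u = 𝟙 _) :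
    IsIso u := by
  have hvf : u.left ≫ X.hom = X.hom := Over.w u
  have hv : pullback.fst X.hom (Spec.map (CommRingCat.ofHom (Ideal.Quotient.mk J))) ≫ u.left =
      pullback.fst X.hom (Spec.map (CommRingCat.ofHom (Ideal.Quotient.mk J))) := by
    have h1 := congrArg (fun g => g.left ≫ pullback.fst X.hom
      (Spec.map (CommRingCat.ofHom (Ideal.Quotient.mk J)))) h
    simp only [Over.pullback_map_left, Over.id_left, Category.id_comp] at h1
    rw [pullback.lift_fst] at h1
    exact h1
  have : IsIso u.left := isIso_v J X.hom u.left hJ hvf hv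
  have : IsIso ((Over.forget _).map u) := this
  exact isIso_of_reflects_iso u (Over.forget _)

/-- Over an affine base S = Spec R with S₀ = Spec (R/J) for an ideal J of square zero: for an arbitrary
S-scheme X, every S-endomorphism of X inducing the identity on X ×_S S₀ is an automorphism. (The
published statement is over an arbitrary base scheme with a quasi-coherent ideal of square zero;
this row is its case of an affine base, to which it reduces since being an isomorphism is local on
the base.) -/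
theorem result (R : Type u) [CommRing R] (J : Ideal R) (hJ : J * J = ⊥)
    (X : Over (Spec (CommRingCat.of R))) (u : X ⟶ X)
    (h : (Over.pullback (Spec.map (CommRingCat.ofHom (Ideal.Quotient.mk J)))).map u = 𝟙 _) :
    IsIso u := by
  exact main R J hJ X u h

end Groth.Agent.S8362
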