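import Groth.Statements.S8364

set_option autoImplicit false
universe u
open SGA3

namespace Groth.Agent.S8364

/-- For a commutative ring R, an ideal J of R of square zero, a smooth R-algebra A and the extended
ideal I = J·A, every R-algebra automorphism of A/I lifts to an R-algebra automorphism of A. (The
published statement concerns the automorphism functor of a smooth affine S-scheme E and affine test
schemes Y; this row is the case Y = S = Spec R, E = Spec A, which gives the general one after
replacing R by the ring of Y.) -/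
theorem result (R A : Type u) [CommRing R] [CommRing A] [Algebra R A]
    [Algebra.Smooth R A] (J : Ideal R) (hJ : J * J = ⊥)
    (φ₀ : (A ⧸ Ideal.map (algebraMap R A) J) ≃ₐ[R] (A ⧸ Ideal.map (algebraMap R A) J)) :
    ∃ φ : A ≃ₐ[R] A,
      (Ideal.Quotient.mkₐ R (Ideal.map (algebraMap R A) J)).comp φ.toAlgHom =
        φ₀.toAlgHom.comp (Ideal.Quotient.mkₐ R (Ideal.map (algebraMap R A) J)) := by
  have hI2 : (Ideal.map (algebraMap R A) J) * (Ideal.map (algebraMap R A) J) = ⊥ := by
    rw [← Ideal.map_mul, hJ, Ideal.map_bot]
  have hnil : IsNilpotent (Ideal.map (algebraMap R A) J) := ⟨2, by rw [pow_two, hI2]; rfl⟩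
  obtain ⟨φ, hφ⟩ := Algebra.FormallySmooth.exists_lift (Ideal.map (algebraMap R A) J) hnil
    (φ₀.toAlgHom.comp (Ideal.Quotient.mkₐ R (Ideal.map (algebraMap R A) J)))
  obtain ⟨ψ, hψ⟩ := Algebra.FormallySmooth.exists_lift (Ideal.map (algebraMap R A) J) hnil
    (φ₀.symm.toAlgHom.comp (Ideal.Quotient.mkₐ R (Ideal.map (algebraMap R A) J)))
  have key : ∀ θ : A →ₐ[R] A,
      (Ideal.Quotient.mkₐ R (Ideal.map (algebraMap R A) J)).comp θ =
        Ideal.Quotient.mkₐ R (Ideal.map (algebraMap R A) J) → Function.Bijective θ := by
    intro θ hθ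
    have hδ : ∀ a, θ a - a ∈ Ideal.map (algebraMap R A) J := fun a => by
      have := AlgHom.congr_fun hθ a
      simp only [AlgHom.coe_comp, Function.comp_apply, Ideal.Quotient.mkₐ_eq_mk] at this
      exact Ideal.Quotient.eq.mp this
    have hI0 : ∀ x ∈ Ideal.map (algebraMap R A) J, θ x = x := by
      intro x hx
      induction hx using Submodule.span_induction with
      | mem x hx =>
        obtain ⟨j, _, rfl⟩ := hx
        exact θ.commutes j
      | zero => exact map_zero θ
      | add x y _ _ hx hy => rw [map_add, hx, hy]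
      | smul a x hx ih =>
        rw [smul_eq_mul, map_mul, ih]
        have h0 : (θ a - a) * x ∈ (Ideal.map (algebraMap R A) J) * (Ideal.map (algebraMap R A) J) :=
          Ideal.mul_mem_mul (hδ a) hx
        rw [hI2, Ideal.mem_bot] at h0
        linear_combination h0
    constructor
    · intro a b hab
      have h1 : θ (a - b) = 0 := by rw [map_sub, hab, sub_self]
      have h2 : a - b ∈ Ideal.map (algebraMap R A) J := by
        have := hδ (a - b)
        rw [h1, zero_sub] at this
        simpa using (Ideal.neg_mem_iff _).mp this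
      have h3 := hI0 _ h2
      rw [h1] at h3
      exact sub_eq_zero.mp h3.symm
    · intro b
      refine ⟨b - (θ b - b), ?_⟩
      rw [map_sub, hI0 _ (hδ b)]
      ring
  have h1 : Function.Bijective (φ.comp ψ) := by
    apply key
    rw [← AlgHom.comp_assoc, hφ, AlgHom.comp_assoc, hψ, ← AlgHom.comp_assoc]
    ext x
    simp
  have h2 : Function.Bijective (ψ.comp φ) := by
    apply key
    rw [← AlgHom.comp_assoc, hψ, AlgHom.comp_assoc, hφ, ← AlgHom.comp_assoc]
    ext x
    simp
  have hbij : Function.Bijective φ := by
    constructor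
    · intro a b hab
      apply h2.1
      simp only [AlgHom.coe_comp, Function.comp_apply, hab]
    · intro b
      obtain ⟨a, ha⟩ := h1.2 b
      exact ⟨ψ a, ha⟩
  refine ⟨AlgEquiv.ofBijective φ hbij, ?_⟩
  rw [← hφ]
  ext x
  rfl

end Groth.Agent.S8364
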