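import Groth.Statements.S8365
import Groth.Agent.Lib.Helper12.LieAdd

set_option autoImplicit false
universe u
open CategoryTheory MonObj AlgebraicGeometry
open LieS

namespace Groth.Agent.S8365

/-- For a monoid scheme X over a scheme S (an associative unital monoid object in S-schemes) and an
affine S-scheme T = Spec B, a point of X with values in the dual numbers over T is invertible if and
only if its restriction along the zero section ε = 0 is invertible in X(T); in particular every such
point restricting to the unit section is invertible. (The published statement is for monoid-valued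
functors satisfying a tangent-space exactness condition, which every representable functor
satisfies, and its special case where the restriction is the unit section allows unital composition
laws that need not be associative; this row treats monoid schemes only.) -/
theorem result (S : Scheme.{u}) (X : Over S) [MonObj X] (B : Type u) [CommRing B]
    (f : Spec (CommRingCat.of B) ⟶ S) (v : LieS.dpt B f ⟶ X) :
    IsUnit v ↔ IsUnit (LieS.zeroSec B f ≫ v) := by
  constructor
  · intro h
    let φ : (LieS.dpt B f ⟶ X) →* (LieS.pt B f ⟶ X) :=
      { toFun := fun w => LieS.zeroSec B f ≫ w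
        map_one' := MonObj.comp_one _
        map_mul' := fun a b => MonObj.comp_mul _ a b }
    exact h.map φ
  · intro h
    obtain ⟨⟨v₀, u₀, h1, h2⟩, hv₀⟩ := h
    simp only at hv₀
    -- the unit `proj ≫ v₀` of `X(I_T)`
    have hu1 : (LieS.proj B f ≫ v₀) * (LieS.proj B f ≫ u₀) = 1 := by
      rw [← MonObj.comp_mul, h1, MonObj.comp_one]
    have hu2 : (LieS.proj B f ≫ u₀) * (LieS.proj B f ≫ v₀) = 1 := by
      rw [← MonObj.comp_mul, h2, MonObj.comp_one]
    -- `v' = u * v` restricts to the unit
    have hv' : LieS.zeroSec B f ≫ ((LieS.proj B f ≫ u₀) * v) = 1 := by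
      rw [MonObj.comp_mul, ← Category.assoc, LieS.zeroSec_proj, Category.id_comp, ← hv₀, h2]
    have h0 : LieS.scale B f 0 ≫ ((LieS.proj B f ≫ u₀) * v) = 1 := by
      rw [Groth.Agent.Helper12.LieAdd.scale_zero, Category.assoc, hv', MonObj.comp_one]
    have hid : LieS.scale B f 1 ≫ ((LieS.proj B f ≫ u₀) * v) = (LieS.proj B f ≫ u₀) * v := by
      rw [Groth.Agent.Helper12.LieAdd.scale_one, Category.id_comp]
    have ha := Groth.Agent.Helper12.LieAdd.scale_add_comp B f _ hv' 1 (-1)
    have hb := Groth.Agent.Helper12.LieAdd.scale_add_comp B f _ hv' (-1) 1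
    rw [add_neg_cancel, h0, hid] at ha
    rw [neg_add_cancel, h0, hid] at hb
    have hunit' : IsUnit ((LieS.proj B f ≫ u₀) * v) :=
      ⟨⟨_, _, ha.symm, hb.symm⟩, rfl⟩
    have hunit : IsUnit (LieS.proj B f ≫ v₀) := ⟨⟨_, _, hu1, hu2⟩, rfl⟩
    have hv : v = (LieS.proj B f ≫ v₀) * ((LieS.proj B f ≫ u₀) * v) := by
      rw [← _root_.mul_assoc, hu1, _root_.one_mul]
    rw [hv]
    exact hunit.mul hunit'

end Groth.Agent.S8365
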