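import Groth.Statements.S8368
import Mathlib
import Groth.Agent.Lib.Helper2.KosSum
-- import your own Groth.Agent.* helpers here

set_option autoImplicit false
universe u
open SGA3

namespace Groth.Agent.S8368

section
open Groth.Agent.Helper21.KL TensorProduct

theorem main (A B : Type u) [CommRing A] [CommRing B] [Algebra A B]
    [Module.Flat A B] (J : Ideal A) (hJ : J * J = ⊥) (rs : List B)
    (hreg : LCI.IsKoszulRegularSeq (B ⧸ Ideal.map (algebraMap A B) J)
      (rs.map (Ideal.Quotient.mk (Ideal.map (algebraMap A B) J))))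
    (hflat : Module.Flat (A ⧸ J) ((B ⧸ Ideal.map (algebraMap A B) J) ⧸
      Ideal.ofList (rs.map (Ideal.Quotient.mk (Ideal.map (algebraMap A B) J))))) :
    LCI.IsKoszulRegularSeq B rs ∧ Module.Flat A (B ⧸ Ideal.ofList rs) := by
  have h0 : ∀ i : ℤ, i ≠ 0 → AcycAt rs (B ⊗[A] (A ⧸ J)) i := by
    intro i hi
    apply acycAt_of_quotient J
    exact (isKoszulRegularSeq_iff _).mp hreg i hi
  have hK : Ideal.ofList (rs.map (Ideal.Quotient.mk (Ideal.map (algebraMap A B) J))) =
      (Ideal.ofList rs).map (Ideal.Quotient.mkₐ A (J.map (algebraMap A B))) := by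
    rw [← Ideal.map_ofList]
    rfl
  haveI := flat_tensor_quot J (Ideal.ofList rs)
    (Ideal.ofList (rs.map (Ideal.Quotient.mk (Ideal.map (algebraMap A B) J)))) hK
  obtain ⟨h1, h2⟩ := Groth.Agent.Helper2.KosSum.main rs J 2 (by rw [pow_two, hJ]) h0
  exact ⟨(isKoszulRegularSeq_iff _).mpr h2, h1⟩

end

/-- Let A be a commutative ring, J an ideal of A of square zero, B a flat A-algebra and f₁, …, f_d
elements of B (a linear map from a free B-module of rank d to B). If the reductions of the f_i to
B/JB form a Koszul-regular sequence and the quotient of B/JB by them is flat over A/J, then f₁, …,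
f_d is a Koszul-regular sequence in B and B/(f₁, …, f_d) is flat over A. -/
theorem result (A B : Type u) [CommRing A] [CommRing B] [Algebra A B]
    [Module.Flat A B] (J : Ideal A) (hJ : J * J = ⊥) (rs : List B)
    (hreg : LCI.IsKoszulRegularSeq (B ⧸ Ideal.map (algebraMap A B) J)
      (rs.map (Ideal.Quotient.mk (Ideal.map (algebraMap A B) J))))
    (hflat : Module.Flat (A ⧸ J) ((B ⧸ Ideal.map (algebraMap A B) J) ⧸
      Ideal.ofList (rs.map (Ideal.Quotient.mk (Ideal.map (algebraMap A B) J))))) :
    LCI.IsKoszulRegularSeq B rs ∧ Module.Flat A (B ⧸ Ideal.ofList rs) := by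
  exact Groth.Agent.S8368.main A B J hJ rs hreg hflat

end Groth.Agent.S8368
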