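import Groth.Statements.S8369
import Mathlib.RingTheory.Flat.EquationalCriterion

set_option autoImplicit false
universe u v
open SGA3

namespace Groth.Agent.S8369

/-- Let A be a commutative ring, J a nilpotent ideal, N ⊆ M A-modules with M/N flat over A. If elements
of N have images generating the image of N in M/JM, then they generate N. (The published statement
takes finitely many elements; this row allows an arbitrary set, which the same argument permits.) -/
theorem result (A : Type u) [CommRing A] (J : Ideal A) (hJ : IsNilpotent J)
    (M : Type v) [AddCommGroup M] [Module A M] (N : Submodule A M) [Module.Flat A (M ⧸ N)] (s : Set M)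
    (hs : s ⊆ N)
    (hgen : (Submodule.span A s).map (J • (⊤ : Submodule A M)).mkQ = N.map (J • (⊤ : Submodule A M)).mkQ) :
    Submodule.span A s = N := by
  classical
  -- Step 1: J M ∩ N ⊆ J N by flatness of M ⧸ N
  have step1 : ∀ y : M, y ∈ J • (⊤ : Submodule A M) → y ∈ N → y ∈ J • N := by
    intro y hyJ hyN
    have htop : (⊤ : Submodule A M) = Submodule.span A (Set.range (id : M → M)) := by
      rw [Set.range_id, Submodule.span_univ]
    rw [htop, Submodule.mem_ideal_smul_span_iff_exists_sum] at hyJ
    obtain ⟨a, haJ, hsum⟩ := hyJ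
    simp only [id] at hsum
    have hsum' : ∑ i : a.support, a i.1 • (i.1 : M) = y := by
      rw [← hsum, Finsupp.sum]
      exact Finset.sum_coe_sort a.support (fun i => a i • i)
    have hrel : ∑ i : a.support, a i.1 • N.mkQ (i.1 : M) = 0 := by
      simp only [← map_smul, ← map_sum]
      rw [hsum']
      simpa using hyN
    obtain ⟨k, c, z, hz, hc⟩ := Module.Flat.isTrivialRelation_of_sum_smul_eq_zero hrel
    beta_reduce at hz hc
    choose w hw using fun j => N.mkQ_surjective (z j)
    have hmem : ∀ i : a.support, (i.1 : M) - ∑ j, c i j • w j ∈ N := by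
      intro i
      rw [← Submodule.Quotient.mk_eq_zero, Submodule.Quotient.mk_sub, ← Submodule.mkQ_apply,
        ← Submodule.mkQ_apply, map_sum, hz i, sub_eq_zero]
      apply Finset.sum_congr rfl
      intro j _
      rw [map_smul, hw]
    have hy2 : y = ∑ i : a.support, a i.1 • ((i.1 : M) - ∑ j, c i j • w j) := by
      have h0 : ∑ i : a.support, a i.1 • ∑ j, c i j • w j = 0 := by
        simp only [Finset.smul_sum, smul_smul]
        rw [Finset.sum_comm]
        apply Finset.sum_eq_zero
        intro j _
        rw [← Finset.sum_smul, hc j, zero_smul]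
      simp only [smul_sub, Finset.sum_sub_distrib]
      rw [h0, sub_zero, hsum']
    rw [hy2]
    exact Submodule.sum_mem _ fun i _ => Submodule.smul_mem_smul (haJ i.1) (hmem i)
  have hle : Submodule.span A s ≤ N := Submodule.span_le.mpr hs
  -- Step 2
  have step2 : N ≤ Submodule.span A s ⊔ J • N := by
    intro n hn
    have h1 : (J • (⊤ : Submodule A M)).mkQ n ∈ N.map (J • (⊤ : Submodule A M)).mkQ :=
      Submodule.mem_map_of_mem hn
    rw [← hgen] at h1
    obtain ⟨n', hn', hnn'⟩ := h1
    have hd : n - n' ∈ J • (⊤ : Submodule A M) := by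
      rw [← Submodule.Quotient.mk_eq_zero, Submodule.Quotient.mk_sub, sub_eq_zero]
      exact hnn'.symm
    have hdN : n - n' ∈ N := N.sub_mem hn (hle hn')
    have := step1 _ hd hdN
    have e : n = n' + (n - n') := by abel
    rw [e]
    exact Submodule.add_mem_sup hn' this
  -- Step 3
  have step3 : ∀ k : ℕ, N ≤ Submodule.span A s ⊔ (J ^ k) • N := by
    intro k
    induction k with
    | zero => rw [pow_zero, Ideal.one_eq_top, Submodule.top_smul]; exact le_sup_right
    | succ k ih =>
      calc N ≤ Submodule.span A s ⊔ J • N := step2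
        _ ≤ Submodule.span A s ⊔ J • (Submodule.span A s ⊔ (J ^ k) • N) :=
            sup_le_sup_left (Submodule.smul_mono le_rfl ih) _
        _ ≤ Submodule.span A s ⊔ (J ^ (k + 1)) • N := by
            rw [Submodule.smul_sup, ← Submodule.mul_smul, ← pow_succ']
            exact sup_le le_sup_left (sup_le (Submodule.smul_le_right.trans le_sup_left) le_sup_right)
  obtain ⟨k, hk⟩ := hJ
  have := step3 k
  rw [hk, Ideal.zero_eq_bot, Submodule.bot_smul, sup_bot_eq] at this
  exact le_antisymm hle this

end Groth.Agent.S8369
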