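import Groth.Statements.S8370
import Groth.Agent.Lib.Helper12.LieAdd

set_option autoImplicit false
universe u
open CategoryTheory MonObj AlgebraicGeometry
open LieS

namespace Groth.Agent.S8370

open CategoryTheory MonoidalCategory CartesianMonoidalCategory MonObj GrpObj AlgebraicGeometry in
/-- the affine case of the implication from `Ad`-invariance to commutation. -/
theorem affine_case (S : Scheme.{u}) (G K : Over S) [GrpObj G] [GrpObj K] (i : K ⟶ G)
    (B : Type u) [CommRing B] (f : Spec (CommRingCat.of B) ⟶ S) (x : LieS.Lie G B f)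
    (hAd : ∀ (B' : Type u) [CommRing B'] (h : B →+* B')
      (k : LieS.pt B' (Spec.map (CommRingCat.ofHom h) ≫ f) ⟶ K),
      LieS.Ad G B' (Spec.map (CommRingCat.ofHom h) ≫ f) (k ≫ i) (LieS.pull G f h x) =
        LieS.pull G f h x)
    (R : CommRingCat.{u}) (g : Spec R ⟶ S) (y : Over.mk g ⟶ LieS.dpt B f) (h : Over.mk g ⟶ K) :
    (y ≫ x.1) * (h ≫ i) = (h ≫ i) * (y ≫ x.1) := by
  -- the ring map of `y`
  let ψ : CommRingCat.of (DualNumber B) ⟶ R := Spec.preimage y.left
  have hψ : Spec.map ψ = y.left := Spec.map_preimage _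
  let h₀ : B →+* R := ψ.hom.comp (algebraMap B (DualNumber B))
  let e₀ : R := ψ.hom DualNumber.eps
  have he₀ : e₀ * e₀ = 0 := by
    show ψ.hom DualNumber.eps * ψ.hom DualNumber.eps = 0
    rw [← map_mul, DualNumber.eps_mul_eps, map_zero]
  have hg : g = Spec.map (CommRingCat.ofHom h₀) ≫ f := by
    have := Over.w y
    simp only [Over.mk_hom] at this
    rw [← this, ← hψ]
    show Spec.map ψ ≫ Spec.map (CommRingCat.ofHom (algebraMap B (DualNumber B))) ≫ f = _
    rw [← Category.assoc, ← Spec.map_comp]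
    rfl
  -- identification of `Over.mk g` with the standard affine `S`-scheme
  let e : Over.mk g ≅ LieS.pt (↑R) (Spec.map (CommRingCat.ofHom h₀) ≫ f) :=
    Over.isoMk (Iso.refl _) (by simp [hg])
  have hk := hAd (↑R) h₀ (e.inv ≫ h)
  have hk1 := congrArg Subtype.val hk
  -- the section `ε ↦ e₀`
  let σ : DualNumber ↑R →+* ↑R := LieS.dualHom (RingHom.id ↑R) e₀ he₀
  have hσ1 : σ.comp (algebraMap ↑R (DualNumber ↑R)) = RingHom.id _ :=
    LieS.dualHom_comp_algebraMap _ _ _
  have hσ2 : σ.comp (LieS.bcHom h₀) = ψ.hom := by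
    apply RingHom.ext
    intro z
    have hz : z = algebraMap B (DualNumber B) z.fst +
        algebraMap B (DualNumber B) z.snd * DualNumber.eps := by
      apply TrivSqZeroExt.ext <;>
        simp [TrivSqZeroExt.algebraMap_eq_inl', DualNumber.eps, -DualNumber.inr_eq_smul_eps]
    conv_rhs => rw [hz]
    rw [map_add, map_mul]
    simp [σ, LieS.bcHom, LieS.dualHom_apply, TrivSqZeroExt.algebraMap_eq_inl', h₀, e₀,
      DualNumber.eps, -DualNumber.inr_eq_smul_eps]
  let s' : Over.mk g ⟶ LieS.dpt (↑R) (Spec.map (CommRingCat.ofHom h₀) ≫ f) :=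
    Over.homMk (Spec.map (CommRingCat.ofHom σ)) (by
      change Spec.map _ ≫ Spec.map _ ≫ Spec.map _ ≫ f = g
      rw [← Category.assoc, LieS.specMap_comp, hσ1, CommRingCat.ofHom_id]
      erw [Spec.map_id]
      exact (Category.id_comp _).trans hg.symm)
  have F1 : s' ≫ LieS.proj (↑R) (Spec.map (CommRingCat.ofHom h₀) ≫ f) ≫ e.inv = 𝟙 _ := by
    apply Over.OverMorphism.ext
    change Spec.map _ ≫ Spec.map _ ≫ 𝟙 _ = 𝟙 _
    rw [Category.comp_id, LieS.specMap_comp, hσ1, CommRingCat.ofHom_id]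
    erw [Spec.map_id]
    rfl
  have F2 : s' ≫ LieS.dptMap f h₀ = y := by
    apply Over.OverMorphism.ext
    change Spec.map _ ≫ Spec.map _ = y.left
    rw [LieS.specMap_comp, hσ2, ← hψ]
    rfl
  have hk2 : (LieS.proj (↑R) (Spec.map (CommRingCat.ofHom h₀) ≫ f) ≫ (e.inv ≫ h) ≫ i) *
      (LieS.dptMap f h₀ ≫ x.1) *
      (LieS.proj (↑R) (Spec.map (CommRingCat.ofHom h₀) ≫ f) ≫ (e.inv ≫ h) ≫ i)⁻¹ =
      LieS.dptMap f h₀ ≫ x.1 := hk1
  have F1' : s' ≫ LieS.proj (↑R) (Spec.map (CommRingCat.ofHom h₀) ≫ f) ≫ (e.inv ≫ h) ≫ i =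
      h ≫ i := by
    rw [← Category.assoc, ← Category.assoc, ← Category.assoc, Category.assoc s', F1,
      Category.id_comp]
  have hB : s' ≫ LieS.dptMap f h₀ ≫ x.1 = y ≫ x.1 := by rw [← Category.assoc, F2]
  have hk3 : s' ≫ ((LieS.proj (↑R) (Spec.map (CommRingCat.ofHom h₀) ≫ f) ≫ (e.inv ≫ h) ≫ i) *
      (LieS.dptMap f h₀ ≫ x.1) *
      (LieS.proj (↑R) (Spec.map (CommRingCat.ofHom h₀) ≫ f) ≫ (e.inv ≫ h) ≫ i)⁻¹) =
      s' ≫ LieS.dptMap f h₀ ≫ x.1 := by rw [hk2]
  rw [MonObj.comp_mul, MonObj.comp_mul, GrpObj.comp_inv, F1', hB] at hk3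
  rw [mul_inv_eq_iff_eq_mul] at hk3
  exact hk3.symm

/-- For a group scheme G over a scheme S (the group law of the Lie algebra functor of a group scheme is
commutative, which the published statement assumes), a sub-group-scheme K of G given by a
monomorphic homomorphism i, and an affine S-scheme T = Spec B: an element x of Lie(G/S)(T) belongs
to the Lie algebra of the centraliser of K, i.e. the point x of G with values in the dual numbers
I_T commutes with every point of K with values in any scheme over I_T, if and only if x is fixed by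
the adjoint action of every point of K with values in an affine scheme T' = Spec B' over T (acting
on the restriction of x to T'). -/
theorem result (S : Scheme.{u}) (G K : Over S) [GrpObj G] [GrpObj K] (i : K ⟶ G)
    [IsMonHom i] [Mono i] (B : Type u) [CommRing B] (f : Spec (CommRingCat.of B) ⟶ S) (x : LieS.Lie G B f) :
    (∀ (X' : Over S) (y : X' ⟶ LieS.dpt B f) (h : X' ⟶ K), (y ≫ x.1) * (h ≫ i) = (h ≫ i) * (y ≫ x.1)) ↔
    (∀ (B' : Type u) [CommRing B'] (h : B →+* B')
      (k : LieS.pt B' (Spec.map (CommRingCat.ofHom h) ≫ f) ⟶ K),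
      LieS.Ad G B' (Spec.map (CommRingCat.ofHom h) ≫ f) (k ≫ i) (LieS.pull G f h x) = LieS.pull G f h x) := by
  constructor
  · intro H B' _ h k
    apply Subtype.ext
    show (LieS.proj B' (Spec.map (CommRingCat.ofHom h) ≫ f) ≫ k ≫ i) *
      (LieS.dptMap f h ≫ x.1) *
      (LieS.proj B' (Spec.map (CommRingCat.ofHom h) ≫ f) ≫ k ≫ i)⁻¹ = LieS.dptMap f h ≫ x.1
    have := H _ (LieS.dptMap f h) (LieS.proj B' (Spec.map (CommRingCat.ofHom h) ≫ f) ≫ k)
    rw [Category.assoc] at this
    rw [mul_inv_eq_iff_eq_mul]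
    exact this.symm
  · intro H X' y h
    apply Over.OverMorphism.ext
    refine Scheme.Cover.hom_ext X'.left.affineOpenCover.openCover _ _ (fun j => ?_)
    let c : Spec (X'.left.affineOpenCover.X j) ⟶ X'.left := X'.left.affineOpenCover.f j
    let ιj : Over.mk (c ≫ X'.hom) ⟶ X' := Over.homMk c rfl
    have h1 := affine_case S G K i B f x H (X'.left.affineOpenCover.X j) (c ≫ X'.hom) (ιj ≫ y)
      (ιj ≫ h)
    have h2 : ιj ≫ ((y ≫ x.1) * (h ≫ i)) = ιj ≫ ((h ≫ i) * (y ≫ x.1)) := by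
      rw [MonObj.comp_mul, MonObj.comp_mul, ← Category.assoc, ← Category.assoc]
      exact h1
    exact congrArg (fun t => t.left) h2

end Groth.Agent.S8370
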