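import Groth.Statements.S8371

set_option autoImplicit false
universe u
open CategoryTheory MonObj AlgebraicGeometry
open LieS

namespace Groth.Agent.S8371

/-- The sequence of Lie algebras, with M = O_S: if 1 → G' → G → G'' → 1 is a sequence of homomorphisms
of group schemes over a scheme S which is exact on points with values in every S-scheme, then for
every affine S-scheme T = Spec B the derived morphisms give an exact sequence 1 → Lie(G'/S)(T) →
Lie(G/S)(T) → Lie(G''/S)(T) → 1: the first is injective, the second surjective, and the kernel of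
the second is the image of the first. -/
theorem result (S : Scheme.{u}) (G' G G'' : Over S) [GrpObj G'] [GrpObj G] [GrpObj G'']
    (i : G' ⟶ G) [IsMonHom i] (q : G ⟶ G'') [IsMonHom q]
    (hex : ∀ T : Over S, Function.Injective (fun a : T ⟶ G' => a ≫ i) ∧
      Function.Surjective (fun b : T ⟶ G => b ≫ q) ∧ ∀ b : T ⟶ G, b ≫ q = 1 ↔ ∃ a : T ⟶ G', a ≫ i = b)
    (B : Type u) [CommRing B] (f : Spec (CommRingCat.of B) ⟶ S) :
    Function.Injective (LieS.map B f i) ∧ Function.Surjective (LieS.map B f q) ∧
      ∀ v : LieS.Lie G B f, LieS.map B f q v = 1 ↔ ∃ w : LieS.Lie G' B f, LieS.map B f i w = v := by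
  have hmapval : ∀ {H K : Over S} [GrpObj H] [GrpObj K] (φ : H ⟶ K) [IsMonHom φ] (v : LieS.Lie H B f),
      (LieS.map B f φ v).1 = v.1 ≫ φ := fun {H K} _ _ φ _ v => rfl
  refine ⟨?_, ?_, ?_⟩
  · intro v w h
    apply Subtype.ext
    apply (hex (LieS.dpt B f)).1
    have := congrArg Subtype.val h
    rw [hmapval, hmapval] at this
    exact this
  · intro v
    obtain ⟨b, hb⟩ := (hex (LieS.dpt B f)).2.1 v.1
    have hb' : b ≫ q = v.1 := hb
    have hv : LieS.zeroSec B f ≫ v.1 = 1 := v.2
    set z := LieS.zeroSec B f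
    set p := LieS.proj B f
    have hzp : z ≫ p = 𝟙 _ := LieS.zeroSec_proj B f
    let c : LieS.dpt B f ⟶ G := b * (p ≫ z ≫ b)⁻¹
    have hc : c ∈ LieS.Lie G B f := by
      rw [LieS.mem_Lie_iff]
      change z ≫ (b * (p ≫ z ≫ b)⁻¹) = 1
      rw [MonObj.comp_mul, GrpObj.comp_inv, ← Category.assoc z p, hzp, Category.id_comp]
      exact mul_inv_cancel _
    refine ⟨⟨c, hc⟩, ?_⟩
    apply Subtype.ext
    rw [hmapval]
    change (b * (p ≫ z ≫ b)⁻¹) ≫ q = v.1
    rw [MonObj.mul_comp, GrpObj.inv_comp, Category.assoc, Category.assoc, hb', hv, MonObj.comp_one, inv_one,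
      _root_.mul_one]
  · intro v
    constructor
    · intro h
      have h1 : v.1 ≫ q = 1 := by
        have := congrArg Subtype.val h
        rw [hmapval] at this
        exact this
      obtain ⟨a, ha⟩ := ((hex (LieS.dpt B f)).2.2 v.1).1 h1
      have hv : LieS.zeroSec B f ≫ v.1 = 1 := v.2
      have haL : a ∈ LieS.Lie G' B f := by
        rw [LieS.mem_Lie_iff]
        apply (hex (LieS.pt B f)).1
        change (LieS.zeroSec B f ≫ a) ≫ i = (1 : LieS.pt B f ⟶ G') ≫ i
        rw [Category.assoc, ha, hv, MonObj.one_comp]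
      refine ⟨⟨a, haL⟩, ?_⟩
      apply Subtype.ext
      rw [hmapval]
      exact ha
    · rintro ⟨w, hw⟩
      apply Subtype.ext
      rw [hmapval]
      change v.1 ≫ q = 1
      apply ((hex (LieS.dpt B f)).2.2 v.1).2
      refine ⟨w.1, ?_⟩
      have := congrArg Subtype.val hw
      rw [hmapval] at this
      exact this

end Groth.Agent.S8371
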