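import Groth.Statements.S8372
import Groth.Agent.Lib.Helper20.CartRel3
import Groth.Agent.Lib.Helper20.CartRel7

set_option autoImplicit false
universe u
open scoped TensorProduct
open SGA3t2b

namespace Groth.Agent.S8372


theorem result {A : Type u} [CommRing A] {L : Type u} [LieRing L]
    [LieAlgebra A L] [Module.Finite A L] [Module.Projective A L] (a : L) (ha : SGA3t2b.IsQuasiRegular A L a) :
    (∀ H : LieSubalgebra A L, SGA3t2b.IsCartanRel H → a ∈ H → H = LieSubalgebra.engel A a) ∧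
    ((∃ H : LieSubalgebra A L, SGA3t2b.IsCartanRel H ∧ a ∈ H) ↔
      (Module.Projective A (L ⧸ (LieSubalgebra.engel A a).toSubmodule) ∧
        (∀ z : L, ⁅a, z⁆ ∈ LieSubalgebra.engel A a → z ∈ LieSubalgebra.engel A a) ∧
        (∀ y : L, ∃ z : L, ⁅a, z⁆ - y ∈ LieSubalgebra.engel A a))) := by
  refine ⟨fun H hH haH => Groth.Agent.Helper20.CartRel.eq_engel H a haH hH ha, ⟨?_, ?_⟩⟩
  · rintro ⟨H, hH, haH⟩
    have hE := Groth.Agent.Helper20.CartRel.eq_engel H a haH hH ha
    refine ⟨?_, ?_, ?_⟩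
    · rw [← hE]; exact hH.1
    · intro z hz
      rw [LieSubalgebra.mem_engel_iff] at hz ⊢
      obtain ⟨n, hn⟩ := hz
      refine ⟨n + 1, ?_⟩
      rw [pow_succ, Module.End.mul_apply, LieAlgebra.ad_apply]
      exact hn
    · intro y
      rw [← hE]
      exact Groth.Agent.Helper20.CartRel.exists_lie_sub_mem H a haH hH ha y
  · rintro ⟨hproj, hinj, hsurj⟩
    exact ⟨LieSubalgebra.engel A a,
      Groth.Agent.Helper20.CartRel.isCartanRel_engel a hinj hsurj ha hproj,
      LieSubalgebra.self_mem_engel A a⟩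

end Groth.Agent.S8372
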