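import Groth.Statements.S8376
import Groth.Agent.Lib.Helper20.CartRel15

set_option autoImplicit false
universe u
open scoped TensorProduct
open SGA3t2b

namespace Groth.Agent.S8376


theorem result {A : Type u} [CommRing A] {L : Type u} [LieRing L]
    [LieAlgebra A L] [Module.Finite A L] [Module.Projective A L]
    (hC2 : ((∀ p : PrimeSpectrum A, ∃ f : A, f ∉ p.asIdeal ∧ ∀ q : PrimeSpectrum A, f ∉ q.asIdeal →
        LieAlgebra.rank q.asIdeal.ResidueField (q.asIdeal.ResidueField ⊗[A] L) =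
          LieAlgebra.rank p.asIdeal.ResidueField (p.asIdeal.ResidueField ⊗[A] L)) ∧
      ∀ (A' : Type u) [CommRing A'] [Algebra A A'] (a' : A' ⊗[A] L),
        SGA3t2b.IsQuasiRegular A' (A' ⊗[A] L) a' → SGA3t2b.IsRegularRel A' (A' ⊗[A] L) a'))
    (p : PrimeSpectrum A)
    (hp : ∃ x : p.asIdeal.ResidueField ⊗[A] L, LieAlgebra.IsRegular p.asIdeal.ResidueField x) :
    ∃ f : A, f ∉ p.asIdeal ∧
      ∃ H : LieSubalgebra (Localization.Away f) (Localization.Away f ⊗[A] L), SGA3t2b.IsCartanRel H := by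
  obtain ⟨hC0, hC2'⟩ := hC2
  obtain ⟨f, hf, a, ha⟩ := Groth.Agent.Helper20.CartRel.exists_regular_lift
    (Groth.Agent.Helper20.CartRel.isLocallyConstant_fibreRank_of_basicOpen hC0) p hp
  obtain ⟨-, H, hH, -⟩ := hC2' (Localization.Away f) ((1 : Localization.Away f) ⊗ₜ[A] a)
    (Groth.Agent.Helper20.CartRel.isQuasiRegular_away f a ha)
  exact ⟨f, hf, H, hH⟩

end Groth.Agent.S8376
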