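import Groth.Statements.S8383
import Mathlib.LinearAlgebra.Determinant
import Mathlib.LinearAlgebra.Matrix.NonsingularInverse
import Mathlib.LinearAlgebra.Dimension.Free
import Mathlib.RingTheory.TensorProduct.Free
import Mathlib.LinearAlgebra.Dual.Basis

set_option autoImplicit false
universe u
open scoped TensorProduct
open SGA3t2b

namespace Groth.Agent.S8383

/-- general lemma: an invertible matrix over an extension field has a rational vector with all
coordinates of the image nonzero -/
lemma exists_vec {k : Type*} [Field k] {L : Type*} [Field L] [Algebra k L] (n : ℕ)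
    (M : Matrix (Fin n) (Fin n) L) (hM : M.det ≠ 0) :
    ∃ x : Fin n → k, ∀ i, ∑ l, M i l * algebraMap k L (x l) ≠ 0 := by
  classical
  -- the span of the entries
  let W : Submodule k L := Submodule.span k (Set.range (fun il : Fin n × Fin n => M il.1 il.2))
  have hWfin : Module.Finite k W := Module.Finite.span_of_finite k (Set.finite_range _)
  have hmem : ∀ i l, M i l ∈ W := fun i l => Submodule.subset_span ⟨(i, l), rfl⟩
  let c := Module.finBasis k W
  set m := Module.finrank k W with hm
  let B : Fin m → Fin n → Fin n → k := fun j i l => c.repr ⟨M i l, hmem i l⟩ j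
  have hB : ∀ i l, M i l = ∑ j, (c j : L) * algebraMap k L (B j i l) := by
    intro i l
    have h := c.sum_repr ⟨M i l, hmem i l⟩
    have h2 := congrArg (Subtype.val) h
    simp only [Submodule.coe_sum, Submodule.coe_smul] at h2
    rw [← h2]
    apply Finset.sum_congr rfl
    intro j _
    rw [Algebra.smul_def, mul_comm]
  -- expansion of the determinant
  have hrow : M = fun i => ∑ j, (c j : L) • (fun l => algebraMap k L (B j i l)) := by
    funext i l
    rw [hB i l]
    simp [Finset.sum_apply]
  have hdet : M.det = ∑ r : Fin n → Fin m, (∏ i, (c (r i) : L)) *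
      algebraMap k L (Matrix.det (Matrix.of fun i l => B (r i) i l)) := by
    have h1 : M.det = (Matrix.detRowAlternating : (Fin n → L) [⋀^Fin n]→ₗ[L] L)
        (fun i => ∑ j, (c j : L) • (fun l => algebraMap k L (B j i l))) := by
      rw [← hrow]; rfl
    rw [h1, ← AlternatingMap.coe_multilinearMap, MultilinearMap.map_sum]
    apply Finset.sum_congr rfl
    intro r _
    rw [MultilinearMap.map_smul_univ, smul_eq_mul]
    congr 1
    exact (RingHom.map_det (algebraMap k L) (Matrix.of fun i l => B (r i) i l)).symm
  -- some term is nonzero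
  obtain ⟨r, hr⟩ : ∃ r : Fin n → Fin m, Matrix.det (Matrix.of fun i l => B (r i) i l) ≠ 0 := by
    by_contra hcon
    push Not at hcon
    apply hM
    rw [hdet]
    apply Finset.sum_eq_zero
    intro r _
    rw [hcon r, map_zero, mul_zero]
  set N : Matrix (Fin n) (Fin n) k := Matrix.of fun i l => B (r i) i l with hN
  have hNu : IsUnit N.det := isUnit_iff_ne_zero.2 hr
  refine ⟨N⁻¹.mulVec 1, ?_⟩
  intro i hi
  set x := N⁻¹.mulVec 1 with hx
  have hNx : N.mulVec x = 1 := by
    rw [hx, Matrix.mulVec_mulVec, Matrix.mul_nonsing_inv N hNu, Matrix.one_mulVec]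
  -- rewrite the sum
  have h3 : ∑ l, M i l * algebraMap k L (x l) = ∑ j, (∑ l, B j i l * x l) • (c j : L) := by
    simp_rw [hB, Finset.sum_mul]
    rw [Finset.sum_comm]
    apply Finset.sum_congr rfl
    intro j _
    rw [Algebra.smul_def, map_sum, Finset.sum_mul]
    apply Finset.sum_congr rfl
    intro l _
    rw [map_mul]
    ring
  rw [h3] at hi
  have hli : LinearIndependent k (fun j => (c j : L)) :=
    c.linearIndependent.map' W.subtype (Submodule.ker_subtype W)
  have h4 := Fintype.linearIndependent_iff.1 hli (fun j => ∑ l, B j i l * x l) hi (r i)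
  have h5 := congrFun hNx i
  simp only [Matrix.mulVec, dotProduct, Pi.one_apply] at h5
  rw [hN] at h5
  simp only [Matrix.of_apply] at h5
  rw [h4] at h5
  exact zero_ne_one h5

/-- Let k be a finite field with algebraic closure K, V a finite-dimensional vector space over k, and
θ₁, …, θₙ a basis of the dual of the K-vector space K ⊗ V. Then there is x ∈ V with θᵢ(1 ⊗ x) ≠ 0
for every i. -/
theorem result (k : Type u) [Field k] [Finite k]
    (V : Type u) [AddCommGroup V] [Module k V] [Module.Finite k V] {ι : Type} [Fintype ι]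
    (θ : Module.Basis ι (AlgebraicClosure k) (Module.Dual (AlgebraicClosure k) (AlgebraicClosure k ⊗[k] V))) :
    ∃ x : V, ∀ i : ι, θ i ((1 : AlgebraicClosure k) ⊗ₜ[k] x) ≠ 0 := by
  classical
  let K := AlgebraicClosure k
  let e := Module.finBasis k V
  set n := Module.finrank k V with hn
  let eK : Module.Basis (Fin n) K (K ⊗[k] V) := Algebra.TensorProduct.basis K e
  have heK : ∀ l, eK l = (1 : K) ⊗ₜ[k] e l := fun l => Algebra.TensorProduct.basis_apply e l
  let σ : ι ≃ Fin n := θ.indexEquiv eK.dualBasis
  let θ' := θ.reindex σ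
  let M : Matrix (Fin n) (Fin n) K := Matrix.of fun i l => θ' i (eK l)
  have hM : M.det ≠ 0 := by
    have h1 : M = (eK.dualBasis.toMatrix θ').transpose := by
      ext i l
      simp [M, Module.Basis.toMatrix_apply]
    rw [h1, Matrix.det_transpose, ← Module.Basis.det_apply]
    exact (eK.dualBasis.isUnit_det θ').ne_zero
  obtain ⟨x, hx⟩ := exists_vec (k := k) n M hM
  refine ⟨∑ l, x l • e l, ?_⟩
  intro i
  have h2 : θ i ((1 : K) ⊗ₜ[k] (∑ l, x l • e l)) = ∑ l, M (σ i) l * algebraMap k K (x l) := by
    rw [TensorProduct.tmul_sum, map_sum]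
    apply Finset.sum_congr rfl
    intro l _
    have h3 : (1 : K) ⊗ₜ[k] (x l • e l) = (algebraMap k K (x l)) • ((1 : K) ⊗ₜ[k] e l) := by
      rw [TensorProduct.tmul_smul, algebraMap_smul]
    rw [h3, map_smul, smul_eq_mul, mul_comm]
    simp [M, θ', heK]
  rw [h2]
  exact hx (σ i)

end Groth.Agent.S8383
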