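import Groth.Statements.S8385
import Mathlib
import Groth.Agent.Lib.Helper29.SbA
import Groth.Agent.Lib.Helper29.SbB
import Groth.Agent.Lib.Helper29.SbD
import Groth.Agent.Lib.Helper29.SbE
import Groth.Agent.Lib.Helper29.SbF
import Groth.Agent.Lib.Helper29.SbG

set_option autoImplicit false
universe u
open CategoryTheory MonoidalCategory CartesianMonoidalCategory MonObj GrpObj AlgebraicGeometry
open SGA3x

namespace Groth.Agent.S8385

/-- Let A be a complete Noetherian local ring with maximal ideal m, S = Spec A, Sₙ = Spec(A/mⁿ), X =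
Spec B a scheme finite over S (B a finite A-algebra) and Y an S-scheme. Then the canonical map
Hom_S(X, Y) → lim Hom_{Sₙ}(Xₙ, Yₙ), Xₙ = Spec(B/mⁿB), is bijective: two S-morphisms X → Y agreeing
on every Xₙ are equal, and every family of S-morphisms Xₙ → Y compatible with the closed immersions
Xₙ → Xₙ₊₁ comes from an S-morphism X → Y. -/
theorem result (A : Type u) [CommRing A] [IsLocalRing A]
    [IsNoetherianRing A] [IsAdicComplete (IsLocalRing.maximalIdeal A) A] (B : Type u) [CommRing B] [Algebra A B]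
    [Module.Finite A B] (Y : Over (Spec (CommRingCat.of A))) :
    (∀ f g : Spec (CommRingCat.of B) ⟶ Y.left, f ≫ Y.hom = Spec.map (CommRingCat.ofHom (algebraMap A B)) →
      g ≫ Y.hom = Spec.map (CommRingCat.ofHom (algebraMap A B)) →
      (∀ n : ℕ, Spec.map (CommRingCat.ofHom (Ideal.Quotient.mk (Ideal.map (algebraMap A B) ((IsLocalRing.maximalIdeal A) ^ n)))) ≫ f =
        Spec.map (CommRingCat.ofHom (Ideal.Quotient.mk (Ideal.map (algebraMap A B) ((IsLocalRing.maximalIdeal A) ^ n)))) ≫ g) → f = g) ∧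
    (∀ u : (n : ℕ) → (Spec (CommRingCat.of (B ⧸ (Ideal.map (algebraMap A B) ((IsLocalRing.maximalIdeal A) ^ n)))) ⟶ Y.left),
      (∀ n : ℕ, u n ≫ Y.hom =
        Spec.map (CommRingCat.ofHom ((Ideal.Quotient.mk (Ideal.map (algebraMap A B) ((IsLocalRing.maximalIdeal A) ^ n))).comp (algebraMap A B)))) →
      (∀ n : ℕ, Spec.map (CommRingCat.ofHom (Ideal.Quotient.factor
          (Ideal.map_mono (Ideal.pow_le_pow_right (I := (IsLocalRing.maximalIdeal A)) (Nat.le_succ n))))) ≫ u (n + 1) = u n) →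
      ∃ f : Spec (CommRingCat.of B) ⟶ Y.left, f ≫ Y.hom = Spec.map (CommRingCat.ofHom (algebraMap A B)) ∧
        ∀ n : ℕ, Spec.map (CommRingCat.ofHom (Ideal.Quotient.mk (Ideal.map (algebraMap A B) ((IsLocalRing.maximalIdeal A) ^ n)))) ≫ f = u n) := by
  classical
  haveI hcB : IsAdicComplete ((IsLocalRing.maximalIdeal A).map (algebraMap A B)) B :=
    (IsAdicComplete.map_algebraMap_iff (S := B) (M := B) (IsLocalRing.maximalIdeal A)).mpr
      (Groth.Agent.Helper29.SbE.isAdicComplete_of_finite A B)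
  haveI := Groth.Agent.Helper29.SbE.isArtinianRing_quot A B
  obtain ⟨idx, hidx, e, he, hloc⟩ := Groth.Agent.Helper29.SbD.exists_decomp B
    ((IsLocalRing.maximalIdeal A).map (algebraMap A B))
  letI := hidx
  refine ⟨fun f g _ _ h => Groth.Agent.Helper29.SbG.uniq A B e he hloc Y.left f g h,
    fun u hu1 hu2 => ?_⟩
  obtain ⟨F, hF⟩ := Groth.Agent.Helper29.SbG.exist A B e he hloc Y.left u hu2
  refine ⟨F, ?_, hF⟩
  apply Groth.Agent.Helper29.SbA.hom_ext (fun i => Groth.Agent.Helper29.SbF.Rq B e i) B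
    (fun i => Groth.Agent.Helper29.SbF.pq B e i) he.bijective_pi
  intro i
  haveI := hloc i
  haveI := Groth.Agent.Helper29.SbG.Iq_complete A B e he hloc i
  apply Groth.Agent.Helper29.SbB.uniq (Groth.Agent.Helper29.SbF.Iq A B e i)
    (Groth.Agent.Helper29.SbG.Iq_ne_top A B e he hloc i)
  intro n
  rw [← Category.assoc, ← Category.assoc, ← Groth.Agent.Helper29.SbF.spec_comp,
    ← Groth.Agent.Helper29.SbF.psi_comp_mk, Groth.Agent.Helper29.SbF.spec_comp,
    Category.assoc, Category.assoc]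
  have h1 := hF n
  have h2 := hu1 n
  rw [← Category.assoc (Spec.map (CommRingCat.ofHom (Ideal.Quotient.mk
    (Groth.Agent.Helper29.SbF.Jn A B n)))) F Y.hom, h1, h2,
    Groth.Agent.Helper29.SbF.spec_comp]
  rw [← Category.assoc, ← Category.assoc, ← Groth.Agent.Helper29.SbF.spec_comp,
    ← Groth.Agent.Helper29.SbF.spec_comp, Groth.Agent.Helper29.SbF.psi_comp_mk]
  rw [Groth.Agent.Helper29.SbF.spec_comp, Groth.Agent.Helper29.SbF.spec_comp]


end Groth.Agent.S8385
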