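import Groth.Statements.S8431
import Groth.Agent.Lib.Helper7.CEF

set_option autoImplicit false
universe u
open CategoryTheory MonoidalCategory CartesianMonoidalCategory MonObj GrpObj AlgebraicGeometry
open SGA3x

namespace Groth.Agent.S8431

/-- Let G be an algebraic group over a field k and Z a central algebraic subgroup such that G′ = G/Z is
a torus. Then G is commutative. Here q : G → G′ is a homomorphism representing the fppf quotient of
G by Z, and G′ is a k-torus. -/
theorem result (k : Type u) [Field k]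
    (G : Over (Spec (CommRingCat.of k))) [GrpObj G] [QuasiCompact G.hom] [LocallyOfFiniteType G.hom]
    (Z : Over (Spec (CommRingCat.of k))) [GrpObj Z] (z : Z ⟶ G) [IsMonHom z] [Mono z]
    (hz : ∀ (X : Over (Spec (CommRingCat.of k))) (x : X ⟶ Z) (g : X ⟶ G), (x ≫ z) * g = g * (x ≫ z))
    (G' : Over (Spec (CommRingCat.of k))) [GrpObj G'] (q : G ⟶ G') [IsMonHom q] (hq : RedSub.IsQuotient z q) (hT : Red.IsTorus G') :
    ∀ (X : Over (Spec (CommRingCat.of k))) (g h : X ⟶ G), g * h = h * g := by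
  obtain ⟨hsurj, hflat, hfp, hpb⟩ := hq
  haveI := hsurj
  haveI := hflat
  have hcen : ∀ (X : Over (Spec (CommRingCat.of k))) (w : X ⟶ G), w ≫ q = 1 →
      ∀ g : X ⟶ G, w * g = g * w := by
    intro X w hw g
    have h1 : (1 : X ⟶ G) ≫ q = w ≫ q := by rw [hw, MonObj.one_comp]
    let l := hpb.lift (1 : X ⟶ G) w h1
    have hl1 : l ≫ fst G Z = 1 := hpb.lift_fst _ _ _
    have hl2 : l ≫ (G ◁ z) ≫ μ[G] = w := hpb.lift_snd _ _ _
    have hl : l = lift (l ≫ fst G Z) (l ≫ snd G Z) := by
      apply CartesianMonoidalCategory.hom_ext <;> simp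
    have hw' : w = (l ≫ snd G Z) ≫ z := by
      calc w = lift (l ≫ fst G Z) (l ≫ snd G Z) ≫ (G ◁ z) ≫ μ[G] := by rw [← hl, hl2]
        _ = (l ≫ fst G Z) * ((l ≫ snd G Z) ≫ z) := by rw [lift_whiskerLeft_assoc, Hom.mul_def]
        _ = (l ≫ snd G Z) ≫ z := by rw [hl1, _root_.one_mul]
    rw [hw']
    exact hz X _ g
  intro X g h
  exact Groth.Agent.Helper7.CE.comm_of_central_extension_of_torus_field k q hT hcen X g h

end Groth.Agent.S8431
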