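import Groth.Statements.S8441
import Mathlib

set_option autoImplicit false
universe u v w
open SGA3t2b

namespace Groth.Agent.S8441

/-- Let R be a root system with a system of simple roots a₁, …, aₙ and simple reflections rᵢ, and put θᵢ
= rₙ ⋯ rᵢ₊₁(aᵢ). Then the θᵢ form a basis of the group generated by the roots. Stated for a root
pairing over ℤ (Mathlib) with a base whose support is enumerated by Fin n: the θᵢ are ℤ-linearly
independent and their ℤ-span is the ℤ-span of all roots. -/
theorem result {ι : Type u} {M : Type v} {N : Type w} [AddCommGroup M] [Module ℤ M]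
    [AddCommGroup N] [Module ℤ N] (P : RootPairing ι ℤ M N) (b : P.Base) (n : ℕ) (e : Fin n ≃ ↥b.support) :
    LinearIndependent ℤ (fun i : Fin n =>
      ((List.finRange n).filter (fun j => i < j)).foldl (fun x j => P.reflection (e j : ι) x) (P.root (e i : ι))) ∧
    Submodule.span ℤ (Set.range (fun i : Fin n =>
      ((List.finRange n).filter (fun j => i < j)).foldl (fun x j => P.reflection (e j : ι) x) (P.root (e i : ι)))) =
      Submodule.span ℤ (Set.range P.root) := by
  classical
  set v : Fin n → M := fun i => P.root (e i : ι) with hv_def
  set θ : Fin n → M := fun i => ((List.finRange n).filter (fun j => i < j)).foldl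
    (fun x j => P.reflection (e j : ι) x) (P.root (e i : ι)) with hθ_def
  have hv : LinearIndependent ℤ v := by
    have h1 : LinearIndependent ℤ (fun s : b.support => P.root (s : ι)) := b.linearIndepOn_root
    exact h1.comp e e.injective
  let S : Fin n → Submodule ℤ M := fun i => Submodule.span ℤ (v '' {j | i < j})
  have hA : ∀ (i : Fin n) (l : List (Fin n)), (∀ j ∈ l, i < j) → ∀ x : M,
      x - v i ∈ S i → l.foldl (fun x j => P.reflection (e j : ι) x) x - v i ∈ S i := by
    intro i l
    induction l with
    | nil => intro _ x hx; exact hx
    | cons j l ih =>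
      intro hl x hx
      rw [List.foldl_cons]
      apply ih (fun j' hj' => hl j' (List.mem_cons_of_mem _ hj'))
      rw [P.reflection_apply]
      have h2 : ∀ y : M, x - y - v i = (x - v i) - y := fun y => by abel
      rw [h2]
      exact sub_mem hx (Submodule.smul_mem _ _
        (Submodule.subset_span ⟨j, hl j List.mem_cons_self, rfl⟩))
  have hθ : ∀ i, θ i - v i ∈ S i := by
    intro i
    apply hA i
    · intro j hj
      rw [List.mem_filter] at hj
      exact of_decide_eq_true hj.2
    · rw [sub_self]; exact zero_mem _
  have hSle : ∀ i, S i ≤ Submodule.span ℤ (Set.range v) :=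
    fun i => Submodule.span_mono (Set.image_subset_range _ _)
  have hθv : ∀ i, θ i ∈ Submodule.span ℤ (Set.range v) := by
    intro i
    have h1 := hSle i (hθ i)
    have h2 : v i ∈ Submodule.span ℤ (Set.range v) := Submodule.subset_span (Set.mem_range_self i)
    have := add_mem h1 h2
    rwa [sub_add_cancel] at this
  have hB : ∀ k : ℕ, ∀ i : Fin n, n - (i : ℕ) ≤ k → v i ∈ Submodule.span ℤ (Set.range θ) := by
    intro k
    induction k with
    | zero => intro i hi; have := i.2; omega
    | succ k ih =>
      intro i hi
      have hS : S i ≤ Submodule.span ℤ (Set.range θ) := by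
        rw [Submodule.span_le]
        rintro _ ⟨j, hj, rfl⟩
        apply ih j
        have : (i : ℕ) < j := hj
        omega
      have h1 := hS (hθ i)
      have h2 : θ i ∈ Submodule.span ℤ (Set.range θ) := Submodule.subset_span (Set.mem_range_self i)
      have := sub_mem h2 h1
      rwa [sub_sub_cancel] at this
  have hspan : Submodule.span ℤ (Set.range θ) = Submodule.span ℤ (Set.range v) := by
    apply le_antisymm
    · rw [Submodule.span_le]; rintro _ ⟨i, rfl⟩; exact hθv i
    · rw [Submodule.span_le]; rintro _ ⟨i, rfl⟩; exact hB n i (by omega)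
  have hrange : Set.range v = P.root '' (b.support : Set ι) := by
    ext x
    constructor
    · rintro ⟨i, rfl⟩; exact ⟨e i, (e i).2, rfl⟩
    · rintro ⟨s, hs, rfl⟩; exact ⟨e.symm ⟨s, hs⟩, by simp [hv_def]⟩
  refine ⟨?_, ?_⟩
  · let W := Submodule.span ℤ (Set.range v)
    letI : Module ℤ ↥W := W.module
    let Bv : Module.Basis (Fin n) ℤ W := Module.Basis.span hv
    have hfr : Module.finrank ℤ W = n := by
      rw [Module.finrank_eq_card_basis Bv, Fintype.card_fin]
    let ϑ : Fin n → W := fun i => ⟨θ i, hθv i⟩
    have htop : ⊤ ≤ Submodule.span ℤ (Set.range ϑ) := by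
      rw [top_le_iff]
      apply Submodule.map_injective_of_injective W.injective_subtype
      rw [Submodule.map_span, ← Set.range_comp, Submodule.map_subtype_top]
      exact hspan
    have hLI := linearIndependent_of_top_le_span_of_card_eq_finrank htop
      (by rw [Fintype.card_fin, hfr])
    exact hLI.map' W.subtype (Submodule.ker_subtype W)
  · rw [hspan, hrange]
    exact b.span_root_support

end Groth.Agent.S8441
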