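import Groth.Statements.S8471
import Mathlib.Algebra.MvPolynomial.CommRing
import Mathlib.Algebra.MvPolynomial.Equiv
import Mathlib.Algebra.Polynomial.Eval.Degree
import Mathlib.FieldTheory.RatFunc.AsPolynomial
import Mathlib.RingTheory.Localization.FractionRing
import Mathlib.RingTheory.MvPolynomial.Basic
import Mathlib.RingTheory.Polynomial.Basic

set_option autoImplicit false
open Red

namespace Groth.Agent.S8471

open Polynomial

section Aux

variable (k : Type) [Field k]

/-- the comparison map `k[x,y] → k(x)[Y]` -/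
noncomputable def gg : MvPolynomial (Fin 2) k →ₐ[k] (RatFunc k)[X] :=
  MvPolynomial.aeval ![Polynomial.C RatFunc.X, Polynomial.X]

noncomputable def inner1 : MvPolynomial (Fin 1) k →ₐ[k] RatFunc k :=
  MvPolynomial.aeval (fun _ => RatFunc.X)

lemma inner1_injective : Function.Injective (inner1 k) := by
  have h : inner1 k = ((Algebra.ofId (k[X]) (RatFunc k)).restrictScalars k).comp
      (((MvPolynomial.finSuccEquiv k 0).trans
        (Polynomial.mapAlgEquiv (MvPolynomial.isEmptyAlgEquiv k (Fin 0)))) : MvPolynomial (Fin 1) k →ₐ[k] k[X]) := by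
    apply MvPolynomial.algHom_ext
    intro i
    have hi : i = 0 := Subsingleton.elim _ _
    subst hi
    simp [inner1, MvPolynomial.finSuccEquiv_X_zero, Algebra.ofId_apply]
  rw [h]
  exact (RatFunc.algebraMap_injective k).comp (AlgEquiv.injective _)

lemma gg_injective : Function.Injective (gg k) := by
  have h : gg k = (Polynomial.mapAlgHom (inner1 k)).comp
      (((MvPolynomial.renameEquiv k (Equiv.swap (0 : Fin 2) 1)).trans
        (MvPolynomial.finSuccEquiv k 1)) : MvPolynomial (Fin 2) k →ₐ[k] _) := by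
    apply MvPolynomial.algHom_ext
    intro i
    fin_cases i
    · have e : (1 : Fin 2) = Fin.succ 0 := rfl
      simp only [gg, MvPolynomial.aeval_X, AlgHom.comp_apply, AlgEquiv.coe_toAlgHom, AlgEquiv.trans_apply,
        MvPolynomial.renameEquiv_apply, MvPolynomial.rename_X, Fin.zero_eta, Fin.isValue,
        Equiv.swap_apply_left, Matrix.cons_val_zero]
      rw [e, MvPolynomial.finSuccEquiv_X_succ]
      simp [inner1]
    · simp only [gg, MvPolynomial.aeval_X, AlgHom.comp_apply, AlgEquiv.coe_toAlgHom, AlgEquiv.trans_apply,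
        MvPolynomial.renameEquiv_apply, MvPolynomial.rename_X, Fin.mk_one, Fin.isValue,
        Equiv.swap_apply_right, Matrix.cons_val_one, Matrix.cons_val_zero]
      rw [MvPolynomial.finSuccEquiv_X_zero]
      simp
  rw [h]
  exact (Polynomial.map_injective _ (inner1_injective k)).comp (AlgEquiv.injective _)



local notation "KK" => FractionRing (MvPolynomial (Fin 2) k)
local notation "LL" => RatFunc k

/-- the ring hom `Frac k[x,y] → k(x)(Y)` -/
noncomputable def theta : KK →+* RatFunc LL :=
  IsFractionRing.lift (A := MvPolynomial (Fin 2) k) (K := KK)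
    (g := (algebraMap LL[X] (RatFunc LL)).comp (gg k).toRingHom)
    ((RatFunc.algebraMap_injective LL).comp (gg_injective k))

lemma theta_algebraMap (p : MvPolynomial (Fin 2) k) :
    theta k (algebraMap _ KK p) = algebraMap LL[X] (RatFunc LL) (gg k p) := by
  simp [theta, IsFractionRing.lift_algebraMap]

/-- the coefficient map `k → k(x)[Y]` -/
noncomputable def phi2 : k →+* LL[X] := (Polynomial.C).comp (algebraMap k LL)

lemma theta_comp_algebraMap :
    (theta k).comp (algebraMap k KK) = (algebraMap LL[X] (RatFunc LL)).comp (phi2 k) := by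
  ext a
  have : algebraMap k KK a = algebraMap _ KK (MvPolynomial.C a : MvPolynomial (Fin 2) k) := by
    rw [IsScalarTower.algebraMap_apply k (MvPolynomial (Fin 2) k) KK]
    rfl
  rw [RingHom.comp_apply, this, theta_algebraMap]
  simp [gg, phi2]

lemma theta_eval (a : KK) (F : RatFunc k) :
    theta k (RatFunc.eval (algebraMap k KK) a F) =
      RatFunc.eval ((algebraMap LL[X] (RatFunc LL)).comp (phi2 k)) (theta k a) F := by
  rw [RatFunc.eval, RatFunc.eval, map_div₀, Polynomial.hom_eval₂, Polynomial.hom_eval₂,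
    theta_comp_algebraMap]

lemma eval_algebraMap (s : LL[X]) (F : RatFunc k) :
    RatFunc.eval ((algebraMap LL[X] (RatFunc LL)).comp (phi2 k)) (algebraMap LL[X] (RatFunc LL) s) F =
      algebraMap LL[X] (RatFunc LL) (F.num.eval₂ (phi2 k) s) /
        algebraMap LL[X] (RatFunc LL) (F.denom.eval₂ (phi2 k) s) := by
  rw [RatFunc.eval, ← Polynomial.hom_eval₂, ← Polynomial.hom_eval₂]

lemma eval₂_phi2 (G : k[X]) (s : LL[X]) :
    G.eval₂ (phi2 k) s = (G.map (algebraMap k LL)).comp s := by
  rw [Polynomial.comp, Polynomial.eval₂_map]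
  rfl

end Aux

section Core

variable {L : Type} [Field L]

lemma natDegree_tt (x0 F : L) (hF : F ≠ 0) : (C x0 + X * C F : L[X]).natDegree = 1 := by
  have : (C x0 + X * C F : L[X]) = C F * X + C x0 := by ring
  rw [this]
  exact natDegree_linear hF

lemma leadingCoeff_tt (x0 F : L) (hF : F ≠ 0) : (C x0 + X * C F : L[X]).leadingCoeff = F := by
  have : (C x0 + X * C F : L[X]) = C F * X + C x0 := by ring
  rw [this]
  exact leadingCoeff_linear hF

lemma comp_tt_eq (x0 F : L) (hF : F ≠ 0) (G H : L[X]) (hG : G ≠ 0) (hdvd : G ∣ G.comp (C x0 + X * C F) * H)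
    (hcop : IsCoprime G H) :
    G.comp (C x0 + X * C F) = C (F ^ G.natDegree) * G := by
  set t : L[X] := C x0 + X * C F with ht
  have h1 : G ∣ G.comp t := hcop.dvd_of_dvd_mul_right hdvd
  obtain ⟨r, hr⟩ := h1
  have hdeg : (G.comp t).natDegree = G.natDegree := by
    rw [natDegree_comp, natDegree_tt x0 F hF, mul_one]
  have hcomp0 : G.comp t ≠ 0 := by
    intro h0
    rw [comp_eq_zero_iff] at h0
    rcases h0 with h0 | ⟨_, h0⟩
    · exact hG h0
    · have := natDegree_tt x0 F hF
      rw [← ht, h0, natDegree_C] at this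
      exact zero_ne_one this
  have hr0 : r ≠ 0 := by
    rintro rfl
    rw [mul_zero] at hr
    exact hcomp0 hr
  have hrdeg : r.natDegree = 0 := by
    have := congrArg natDegree hr
    rw [natDegree_mul hG hr0, hdeg] at this
    omega
  obtain ⟨c, rfl⟩ := natDegree_eq_zero.mp hrdeg
  have hlc := congrArg leadingCoeff hr
  rw [leadingCoeff_comp (by rw [natDegree_tt x0 F hF]; exact one_ne_zero), leadingCoeff_tt x0 F hF,
    leadingCoeff_mul, leadingCoeff_C] at hlc
  have hlcG : G.leadingCoeff ≠ 0 := leadingCoeff_ne_zero.mpr hG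
  have hc : c = F ^ G.natDegree := by
    have := mul_left_cancel₀ hlcG hlc
    exact this.symm
  rw [hr, hc, mul_comm]



lemma main_of_star (k : Type) [Field k] (F : RatFunc k) (h0 : F.denom.eval 0 ≠ 0)
    (h1 : F.num.eval 0 = F.denom.eval 0)
    (star : (F.num.map (algebraMap k (RatFunc k))).comp (C RatFunc.X + X * C F) *
        (F.denom.map (algebraMap k (RatFunc k))) =
      C F * (F.num.map (algebraMap k (RatFunc k))) *
        (F.denom.map (algebraMap k (RatFunc k))).comp (C RatFunc.X + X * C F)) :
    ∃ a : k, F = 1 + RatFunc.C a * RatFunc.X := by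
  set P := F.num with hPdef
  set Q := F.denom with hQdef
  set ι := algebraMap k (RatFunc k) with hι
  set Pm := P.map ι with hPm
  set Qm := Q.map ι with hQm
  set t : (RatFunc k)[X] := C RatFunc.X + X * C F with ht
  have hcop : IsCoprime P Q := F.isCoprime_num_denom
  have hcopm : IsCoprime Pm Qm := hcop.map (mapRingHom ι)
  have hQmonic : Q.Monic := F.monic_denom
  have hQ0 : Q ≠ 0 := hQmonic.ne_zero
  have hP0 : P ≠ 0 := by
    intro h
    rw [h, eval_zero] at h1
    exact h0 h1.symm
  have hF0 : F ≠ 0 := by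
    intro h
    apply hP0
    rw [hPdef, h, RatFunc.num_zero]
  have hFeq : algebraMap k[X] (RatFunc k) P / algebraMap k[X] (RatFunc k) Q = F := F.num_div_denom
  have hQx0 : algebraMap k[X] (RatFunc k) Q ≠ 0 := by
    rw [Ne, map_eq_zero_iff _ (RatFunc.algebraMap_injective k)]
    exact hQ0
  have hιinj : Function.Injective ι := ι.injective
  have hQm0 : Qm ≠ 0 := by
    rw [hQm, Ne, Polynomial.map_eq_zero_iff hιinj]
    exact hQ0
  have hPm0 : Pm ≠ 0 := by
    rw [hPm, Ne, Polynomial.map_eq_zero_iff hιinj]
    exact hP0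
  have hCF : (C F : (RatFunc k)[X]) * C F⁻¹ = 1 := by
    rw [← C_mul, mul_inv_cancel₀ hF0, C_1]
  -- B1
  have hdvd : Qm ∣ Qm.comp t * Pm := by
    refine ⟨C F⁻¹ * Pm.comp t, ?_⟩
    calc Qm.comp t * Pm = C F⁻¹ * (C F * Pm * Qm.comp t) := by
          rw [show C F⁻¹ * (C F * Pm * Qm.comp t) = (C F * C F⁻¹) * (Qm.comp t * Pm) by ring, hCF, one_mul]
      _ = Qm * (C F⁻¹ * Pm.comp t) := by rw [← star]; ring
  have hB1 := comp_tt_eq RatFunc.X F hF0 Qm Pm hQm0 hdvd hcopm.symm
  have hm : Qm.natDegree = Q.natDegree := natDegree_map_eq_of_injective hιinj Q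
  have heval : ∀ G : k[X], (G.map ι).eval (RatFunc.X) = algebraMap k[X] (RatFunc k) G := by
    intro G
    rw [eval_map, ← RatFunc.aeval_X_left_eq_algebraMap]
    rfl
  have hB1' : algebraMap k[X] (RatFunc k) Q = F ^ Q.natDegree * ι (Q.eval 0) := by
    have := congrArg (eval 0) hB1
    rw [eval_comp, eval_mul, eval_C, hm] at this
    have ht0 : t.eval 0 = RatFunc.X := by simp [ht]
    rw [ht0, heval] at this
    rw [this, hQm, eval_map, eval₂_at_zero, coeff_zero_eq_eval_zero]
  -- Q^(m+1) = C q0 * P^m
  have hkey : Q ^ (Q.natDegree + 1) = C (Q.eval 0) * P ^ Q.natDegree := by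
    apply RatFunc.algebraMap_injective k
    rw [map_pow, map_mul, map_pow, pow_succ]
    have hC : algebraMap k[X] (RatFunc k) (C (Q.eval 0)) = ι (Q.eval 0) := by
      rw [RatFunc.algebraMap_C]
      rfl
    rw [hC]
    have hBF : algebraMap k[X] (RatFunc k) Q * F = algebraMap k[X] (RatFunc k) P := by
      rw [← hFeq]
      field_simp
    calc algebraMap k[X] (RatFunc k) Q ^ Q.natDegree * algebraMap k[X] (RatFunc k) Q
        = algebraMap k[X] (RatFunc k) Q ^ Q.natDegree * (F ^ Q.natDegree * ι (Q.eval 0)) :=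
          congrArg (algebraMap k[X] (RatFunc k) Q ^ Q.natDegree * ·) hB1'
      _ = (algebraMap k[X] (RatFunc k) Q * F) ^ Q.natDegree * ι (Q.eval 0) := by
          rw [mul_pow]; ring
      _ = ι (Q.eval 0) * algebraMap k[X] (RatFunc k) P ^ Q.natDegree := by
          rw [hBF]; ring
  have hm0 : Q.natDegree = 0 := by
    by_contra hm0
    have hd : Q ∣ C (Q.eval 0) * P ^ Q.natDegree := by
      rw [← hkey]
      exact dvd_pow_self Q (Nat.succ_ne_zero _)
    have hd' : Q ∣ C (Q.eval 0) := (hcop.symm.pow_right).dvd_of_dvd_mul_right hd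
    have := natDegree_le_of_dvd hd' (by rwa [Ne, C_eq_zero])
    rw [natDegree_C] at this
    omega
  have hQ1 : Q = 1 := by
    exact (Polynomial.Monic.natDegree_eq_zero hQmonic).mp hm0
  have hFP : F = algebraMap k[X] (RatFunc k) P := by
    rw [← hFeq, hQ1, map_one, div_one]
  have hP1 : P.eval 0 = 1 := by rw [h1, hQ1, eval_one]
  have hQm1 : Qm = 1 := by rw [hQm, hQ1, Polynomial.map_one]
  have star' : Pm.comp t = C F * Pm := by
    have := star
    rw [hQm1, one_comp, mul_one, mul_one] at this
    exact this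
  have hlc := congrArg leadingCoeff star'
  rw [leadingCoeff_comp (by rw [natDegree_tt RatFunc.X F hF0]; exact one_ne_zero),
    leadingCoeff_tt RatFunc.X F hF0, leadingCoeff_mul, leadingCoeff_C, mul_comm] at hlc
  have hlcP : Pm.leadingCoeff ≠ 0 := leadingCoeff_ne_zero.mpr hPm0
  have hFn : F ^ Pm.natDegree = F := mul_right_cancel₀ hlcP hlc
  have hn : Pm.natDegree = P.natDegree := natDegree_map_eq_of_injective hιinj P
  have hPn : P ^ P.natDegree = P := by
    apply RatFunc.algebraMap_injective k
    rw [map_pow, ← hFP, ← hn, hFn]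
  have hdeg : P.natDegree * P.natDegree = P.natDegree := by
    have := congrArg natDegree hPn
    rwa [natDegree_pow] at this
  have hn01 : P.natDegree = 0 ∨ P.natDegree = 1 := by
    rcases Nat.eq_zero_or_pos P.natDegree with h | h
    · exact Or.inl h
    · right
      exact Nat.eq_of_mul_eq_mul_left h (by rw [hdeg, mul_one])
  have hPform : P = C (P.coeff 1) * X + C 1 := by
    have hle : P.natDegree ≤ 1 := by rcases hn01 with h | h <;> omega
    have := eq_X_add_C_of_natDegree_le_one hle
    rw [coeff_zero_eq_eval_zero, hP1] at this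
    exact this
  refine ⟨P.coeff 1, ?_⟩
  rw [hFP]
  conv_lhs => rw [hPform]
  rw [map_add, map_mul, RatFunc.algebraMap_C, RatFunc.algebraMap_C, RatFunc.algebraMap_X, map_one,
    add_comm]

end Core


section Final

variable (k : Type) [Field k]

lemma star_of_FE (F : RatFunc k) (h0 : F.denom.eval 0 ≠ 0) (h1 : F.num.eval 0 = F.denom.eval 0)
    (hFE : RatFunc.eval (algebraMap k (FractionRing (MvPolynomial (Fin 2) k)))
        (algebraMap (MvPolynomial (Fin 2) k) (FractionRing (MvPolynomial (Fin 2) k)) (MvPolynomial.X 0) +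
          algebraMap (MvPolynomial (Fin 2) k) (FractionRing (MvPolynomial (Fin 2) k)) (MvPolynomial.X 1) *
            RatFunc.eval (algebraMap k (FractionRing (MvPolynomial (Fin 2) k)))
              (algebraMap (MvPolynomial (Fin 2) k) (FractionRing (MvPolynomial (Fin 2) k)) (MvPolynomial.X 0)) F) F =
      RatFunc.eval (algebraMap k (FractionRing (MvPolynomial (Fin 2) k)))
          (algebraMap (MvPolynomial (Fin 2) k) (FractionRing (MvPolynomial (Fin 2) k)) (MvPolynomial.X 0)) F *
        RatFunc.eval (algebraMap k (FractionRing (MvPolynomial (Fin 2) k)))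
          (algebraMap (MvPolynomial (Fin 2) k) (FractionRing (MvPolynomial (Fin 2) k)) (MvPolynomial.X 1)) F) :
    (F.num.map (algebraMap k (RatFunc k))).comp (C RatFunc.X + X * C F) *
        (F.denom.map (algebraMap k (RatFunc k))) =
      C F * (F.num.map (algebraMap k (RatFunc k))) *
        (F.denom.map (algebraMap k (RatFunc k))).comp (C RatFunc.X + X * C F) := by
  have hF0 : F ≠ 0 := by
    intro h
    subst h
    rw [RatFunc.num_zero, eval_zero] at h1
    exact h0 h1.symm
  have hQ0 : F.denom ≠ 0 := F.denom_ne_zero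
  set j := algebraMap (RatFunc k)[X] (RatFunc (RatFunc k)) with hj
  have hjinj : Function.Injective j := RatFunc.algebraMap_injective (RatFunc k)
  have hx : theta k (algebraMap (MvPolynomial (Fin 2) k) (FractionRing (MvPolynomial (Fin 2) k)) (MvPolynomial.X 0)) =
      j (C RatFunc.X) := by
    rw [theta_algebraMap, gg, MvPolynomial.aeval_X]; rfl
  have hy : theta k (algebraMap (MvPolynomial (Fin 2) k) (FractionRing (MvPolynomial (Fin 2) k)) (MvPolynomial.X 1)) =
      j X := by
    rw [theta_algebraMap, gg, MvPolynomial.aeval_X]; rfl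
  have heval : ∀ G : k[X], (G.map (algebraMap k (RatFunc k))).eval (RatFunc.X) = algebraMap k[X] (RatFunc k) G := by
    intro G
    rw [eval_map, ← RatFunc.aeval_X_left_eq_algebraMap]
    rfl
  have hex : RatFunc.eval (j.comp (phi2 k)) (j (C RatFunc.X)) F = j (C F) := by
    rw [eval_algebraMap, eval₂_phi2, eval₂_phi2, comp_C, comp_C, heval, heval]
    have : (j.comp C : RatFunc k →+* _) (algebraMap k[X] (RatFunc k) F.num) /
        (j.comp C : RatFunc k →+* _) (algebraMap k[X] (RatFunc k) F.denom) = (j.comp C : RatFunc k →+* _) F := by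
      rw [← map_div₀, F.num_div_denom]
    exact this
  have h := congrArg (theta k) hFE
  rw [theta_eval, map_mul, theta_eval, theta_eval, map_add, map_mul, theta_eval, hx, hy, hex,
    ← map_mul, ← map_add, eval_algebraMap, eval_algebraMap, eval₂_phi2, eval₂_phi2, eval₂_phi2,
    eval₂_phi2, comp_X, comp_X] at h
  set t : (RatFunc k)[X] := C RatFunc.X + X * C F with ht
  have hQm0 : F.denom.map (algebraMap k (RatFunc k)) ≠ 0 := by
    rw [Ne, Polynomial.map_eq_zero_iff (algebraMap k (RatFunc k)).injective]
    exact hQ0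
  have hQt0 : (F.denom.map (algebraMap k (RatFunc k))).comp t ≠ 0 := by
    intro h0'
    rw [comp_eq_zero_iff] at h0'
    rcases h0' with h0' | ⟨_, h0'⟩
    · exact hQm0 h0'
    · have := natDegree_tt RatFunc.X F hF0
      rw [← ht, h0', natDegree_C] at this
      exact zero_ne_one this
  have hjQm : j (F.denom.map (algebraMap k (RatFunc k))) ≠ 0 := by
    rwa [Ne, map_eq_zero_iff j hjinj]
  have hjQt : j ((F.denom.map (algebraMap k (RatFunc k))).comp t) ≠ 0 := by
    rwa [Ne, map_eq_zero_iff j hjinj]
  rw [div_eq_iff hjQt, mul_div_assoc', div_mul_eq_mul_div, eq_div_iff hjQm] at h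
  apply hjinj
  rw [map_mul, map_mul, map_mul, h]

end Final

/-- Let k be a field and F ∈ k(X) a rational function whose denominator does not vanish at 0 and with
F(0) = 1. Suppose that in the field of fractions L of k[X₀, X₁] one has F(X₀ + X₁ · F(X₀)) = F(X₀) ·
F(X₁) (the functional equation F(x + y F(x)) = F(x) F(y)). Then there is a ∈ k with F = 1 + a X.
(The published statement takes the identity on an open neighbourhood of the origin of 𝔾_a × 𝔾_a on
which all terms are defined; this row takes it as an identity of rational functions in two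
variables.) -/
theorem result (k : Type) [Field k] (F : RatFunc k)
    (h0 : F.denom.eval 0 ≠ 0) (h1 : F.num.eval 0 = F.denom.eval 0)
    (hFE : RatFunc.eval (algebraMap k (FractionRing (MvPolynomial (Fin 2) k)))
        (algebraMap (MvPolynomial (Fin 2) k) (FractionRing (MvPolynomial (Fin 2) k)) (MvPolynomial.X 0) +
          algebraMap (MvPolynomial (Fin 2) k) (FractionRing (MvPolynomial (Fin 2) k)) (MvPolynomial.X 1) *
            RatFunc.eval (algebraMap k (FractionRing (MvPolynomial (Fin 2) k)))
              (algebraMap (MvPolynomial (Fin 2) k) (FractionRing (MvPolynomial (Fin 2) k)) (MvPolynomial.X 0)) F) F =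
      RatFunc.eval (algebraMap k (FractionRing (MvPolynomial (Fin 2) k)))
          (algebraMap (MvPolynomial (Fin 2) k) (FractionRing (MvPolynomial (Fin 2) k)) (MvPolynomial.X 0)) F *
        RatFunc.eval (algebraMap k (FractionRing (MvPolynomial (Fin 2) k)))
          (algebraMap (MvPolynomial (Fin 2) k) (FractionRing (MvPolynomial (Fin 2) k)) (MvPolynomial.X 1)) F) :
    ∃ a : k, F = 1 + RatFunc.C a * RatFunc.X := by
  exact main_of_star k F h0 h1 (star_of_FE k F h0 h1 hFE)

end Groth.Agent.S8471
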