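import Groth.Statements.S8517
import Groth.Agent.Lib.Helper22.Parab1

set_option autoImplicit false
open CategoryTheory MonoidalCategory CartesianMonoidalCategory MonObj GrpObj AlgebraicGeometry
universe u
open RedSub

namespace Groth.Agent.S8517

open Groth.Agent.Helper22

/-- Let R be the set of roots of a root pairing over ℤ with finitely many roots, and R₁, R₂ two closed
subsets of R (if a, b ∈ Rᵢ and root a + root b is a root c then c ∈ Rᵢ), each containing a system of
positive roots (the positive roots of some base). If R₁ ∪ R₂ = R, then R₁ ∩ (−R₂) (the roots of R₁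
whose negative is a root in R₂) contains a system of positive roots. -/
theorem result {idx M N : Type} [Finite idx] [AddCommGroup M] [AddCommGroup N] (P : RootPairing idx ℤ M N) (R₁ R₂ : Set idx)
    (h₁ : ∀ a b c : idx, a ∈ R₁ → b ∈ R₁ → P.root a + P.root b = P.root c → c ∈ R₁)
    (h₂ : ∀ a b c : idx, a ∈ R₂ → b ∈ R₂ → P.root a + P.root b = P.root c → c ∈ R₂)
    (hb₁ : ∃ b : P.Base, RedSub.posRoots P b ⊆ R₁) (hb₂ : ∃ b : P.Base, RedSub.posRoots P b ⊆ R₂)
    (hunion : R₁ ∪ R₂ = Set.univ) :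
    ∃ b : P.Base, RedSub.posRoots P b ⊆ {a | a ∈ R₁ ∧ ∃ c ∈ R₂, P.root a = -P.root c} := by
  classical
  obtain ⟨b₁, hb₁⟩ := hb₁
  obtain ⟨b₂, hb₂⟩ := hb₂
  have hR₁ : ∀ a, a ∈ R₁ ∨ P.reflectionPerm a a ∈ R₁ := by
    intro a
    rcases b₁.root_mem_or_neg_mem a with h | h
    · exact Or.inl (hb₁ h)
    · right
      apply hb₁
      show P.root (P.reflectionPerm a a) ∈ AddSubmonoid.closure (P.root '' (b₁.support : Set idx))
      rw [Parab.root_neg]
      exact h
  have hR₂ : ∀ a, a ∈ R₂ ∨ P.reflectionPerm a a ∈ R₂ := by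
    intro a
    rcases b₂.root_mem_or_neg_mem a with h | h
    · exact Or.inl (hb₂ h)
    · right
      apply hb₂
      show P.root (P.reflectionPerm a a) ∈ AddSubmonoid.closure (P.root '' (b₂.support : Set idx))
      rw [Parab.root_neg]
      exact h
  have hU : ∀ a, a ∈ R₁ ∨ a ∈ R₂ := by
    intro a
    have : a ∈ R₁ ∪ R₂ := by rw [hunion]; exact Set.mem_univ a
    exact this
  have hSmem : ∀ a, a ∈ R₁ → P.reflectionPerm a a ∈ R₂ →
      a ∈ {a | a ∈ R₁ ∧ ∃ c ∈ R₂, P.root a = -P.root c} := by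
    intro a h1 h2
    exact ⟨h1, P.reflectionPerm a a, h2, by rw [Parab.root_neg, neg_neg]⟩
  have hcl : ∀ a b c : idx, a ∈ {a | a ∈ R₁ ∧ ∃ c ∈ R₂, P.root a = -P.root c} →
      b ∈ {a | a ∈ R₁ ∧ ∃ c ∈ R₂, P.root a = -P.root c} → P.root a + P.root b = P.root c →
      c ∈ {a | a ∈ R₁ ∧ ∃ c ∈ R₂, P.root a = -P.root c} := by
    rintro a b c ⟨ha1, a', ha', haa'⟩ ⟨hb1, b', hb', hbb'⟩ habc
    refine ⟨h₁ a b c ha1 hb1 habc, P.reflectionPerm c c, ?_, by rw [Parab.root_neg, neg_neg]⟩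
    refine h₂ a' b' _ ha' hb' ?_
    rw [Parab.root_neg, ← habc, haa', hbb', neg_add, neg_neg, neg_neg]
  have hS2 : ∀ a, a ∈ {a | a ∈ R₁ ∧ ∃ c ∈ R₂, P.root a = -P.root c} ∨
      P.reflectionPerm a a ∈ {a | a ∈ R₁ ∧ ∃ c ∈ R₂, P.root a = -P.root c} := by
    intro a
    have e : P.reflectionPerm (P.reflectionPerm a a) (P.reflectionPerm a a) = a := by
      apply P.root.injective
      rw [Parab.root_neg, Parab.root_neg, neg_neg]
    rcases hR₁ a with A | A' <;> rcases hR₂ a with B | B' <;> rcases hU a with C | C <;>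
      rcases hU (P.reflectionPerm a a) with D | D
    all_goals first
      | exact Or.inl (hSmem a ‹_› ‹_›)
      | exact Or.inr (hSmem _ ‹_› (by rw [e]; assumption))
  obtain ⟨b, hb⟩ := Parab.exists_base_pos_subset (P := P) _ hcl hS2 b₁
  exact ⟨b, hb⟩

end Groth.Agent.S8517
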