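import Groth.Statements.S8524
import Mathlib.AlgebraicGeometry.Morphisms.UniversallyOpen
import Mathlib.AlgebraicGeometry.Sites.Etale

set_option autoImplicit false
universe u
open CategoryTheory CategoryTheory.Limits AlgebraicGeometry Opposite
open EtAcyc

namespace Groth.Agent.S8524

/-- sections of an étale sheaf are determined on a covering family -/
lemma sect_eq_zero_of_cover {X : Scheme.{u}} (F : EtCoh.Ab X) (U : X.Etale) {ι : Type*}
    (Z : ι → X.Etale) (f : ∀ i, Z i ⟶ U) (hcov : ⋃ i, Set.range (f i).left = Set.univ)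
    (s : EtCoh.sect F U) (hs : ∀ i, F.obj.map (f i).op s = 0) : s = 0 := by
  have hS : Sieve.ofArrows _ f ∈ X.smallEtaleTopology U :=
    (AlgebraicGeometry.Scheme.ofArrows_mem_smallEtaleTopology_iff f).2 hcov
  have h1 : Presheaf.IsSheaf X.smallEtaleTopology (F.obj ⋙ forget AddCommGrpCat) :=
    (Presheaf.isSheaf_iff_isSheaf_forget _ _ (forget AddCommGrpCat)).1 F.property
  have h2 := (isSheaf_iff_isSheaf_of_type _ _).1 h1
  refine (h2.isSeparated _ hS).ext ?_
  rintro Y g ⟨W, b, _, ⟨i⟩, rfl⟩
  change F.obj.map (b ≫ f i).op s = F.obj.map (b ≫ f i).op 0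
  rw [op_comp, F.obj.map_comp]
  change F.obj.map b.op (F.obj.map (f i).op s) = _
  rw [hs i, map_zero, map_zero]

/-- For the small etale site of a scheme and abelian sheaves: let L be a set of primes, F an abelian
L-torsion sheaf on the small etale site of a scheme X, and U an etale X-scheme with quasi-compact
underlying space. Then every section of F over U is killed by some positive integer all of whose
prime factors lie in L. -/
theorem result {X : Scheme.{u}} (L : Set ℕ) (F : EtCoh.Ab X)
    (hF : EtAcyc.IsLTorsion L F) (U : X.Etale) [CompactSpace U.left] (s : EtCoh.sect F U) :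
    ∃ m : ℕ, EtAcyc.PrimesIn L m ∧ m • s = 0 := by
  classical
  choose V g m hv hm hs using hF U s
  have hopen : ∀ x : U.left, IsOpen (Set.range (g x).left) := fun x =>
    (g x).left.isOpenMap.isOpen_range
  have hmem : ∀ x : U.left, x ∈ Set.range (g x).left := fun x => by
    obtain ⟨v, hv'⟩ := hv x
    exact ⟨v, hv'⟩
  obtain ⟨t, ht⟩ := isCompact_univ.elim_finite_subcover (fun x : U.left => Set.range (g x).left) hopen
    (fun x _ => Set.mem_iUnion.2 ⟨x, hmem x⟩)
  refine ⟨∏ x ∈ t, m x, ⟨Finset.prod_pos fun x _ => (hm x).1, ?_⟩, ?_⟩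
  · intro p hp hdvd
    obtain ⟨x, hx, hpx⟩ := (Prime.dvd_finsetProd_iff hp.prime _).1 hdvd
    exact (hm x).2 p hp hpx
  · apply sect_eq_zero_of_cover F U (fun x : t => V x) (fun x : t => g x)
    · apply Set.eq_univ_of_univ_subset
      intro y hy
      obtain ⟨x, hx⟩ := Set.mem_iUnion.1 (ht hy)
      obtain ⟨hxt, hy'⟩ := Set.mem_iUnion.1 hx
      exact Set.mem_iUnion.2 ⟨⟨x, hxt⟩, hy'⟩
    · rintro ⟨x, hx⟩
      rw [map_nsmul]
      obtain ⟨k, hk⟩ := Finset.dvd_prod_of_mem m hx
      rw [hk, mul_comm, mul_smul, hs x, smul_zero]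

end Groth.Agent.S8524
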