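import Groth.Statements.S8532
import Mathlib
import Groth.Agent.Lib.Helper10.EtTrace
import Groth.Agent.Lib.Helper10.EtDegree

set_option autoImplicit false
universe u
open CategoryTheory CategoryTheory.Limits AlgebraicGeometry Opposite
open EtAcyc

namespace Groth.Agent.S8532

section helpers

open CategoryTheory.Abelian
open Groth.Agent.Helper10
open Groth.Agent.Helper10.FieldTrace (mk₀_nsmul sheaf_nsmul_app)

lemma comp_mk₀_nsmul_id {C : Type*} [Category C] [Abelian C] [HasExt C] {Z A : C} {n : ℕ}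
    (x : Ext Z A n) (d : ℕ) : x.comp (Ext.mk₀ (d • 𝟙 A)) (add_zero n) = d • x := by
  rw [mk₀_nsmul]
  have := map_nsmul (x.precomp A (add_zero n)) d (Ext.mk₀ (𝟙 A))
  refine this.trans ?_
  congr 1
  exact Ext.comp_mk₀_id x

lemma nsmul_id_app {X : Scheme.{u}} (F : EtCoh.Ab X) (d : ℕ) (U : X.Etale)
    (s : F.obj.obj (op U)) : (d • 𝟙 F : F ⟶ F).hom.app (op U) s = d • s := by
  rw [sheaf_nsmul_app]
  show (d • (𝟙 F : F ⟶ F).hom.app (op U)).hom s = d • s
  rw [AddCommGrpCat.hom_nsmul]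
  rfl

lemma coprime_of {L : Set ℕ} {d m : ℕ} (hL : ∀ p : ℕ, p.Prime → p ∈ L → ¬ p ∣ d)
    (hm : EtAcyc.PrimesIn L m) : Nat.Coprime d m := by
  rw [Nat.coprime_iff_gcd_eq_one]
  by_contra hne
  obtain ⟨p, hp, hpg⟩ := Nat.exists_prime_and_dvd hne
  exact hL p hp (hm.2 p hp (hpg.trans (Nat.gcd_dvd_right d m))) (hpg.trans (Nat.gcd_dvd_left d m))

lemma bezout_smul {A : Type*} [AddCommGroup A] {d m : ℕ} (h : Nat.Coprime d m) (t : A)
    (hm : m • t = 0) : ∃ a : ℤ, t = d • (a • t) := by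
  refine ⟨Nat.gcdA d m, ?_⟩
  have h1 : ((d : ℤ) * Nat.gcdA d m + (m : ℤ) * Nat.gcdB d m) = 1 := by
    rw [← Nat.gcd_eq_gcd_ab, h.gcd_eq_one]
    rfl
  have h2 : t = ((d : ℤ) * Nat.gcdA d m + (m : ℤ) * Nat.gcdB d m) • t := by rw [h1, one_smul]
  rw [add_smul, mul_smul, mul_comm, mul_smul, natCast_zsmul, natCast_zsmul, hm, smul_zero,
    add_zero] at h2
  exact h2

theorem isIso_nsmul {X : Scheme.{u}} (F : EtCoh.Ab X) (L : Set ℕ) (hF : EtAcyc.IsLTorsion L F)
    (d : ℕ) (hL : ∀ p : ℕ, p.Prime → p ∈ L → ¬ p ∣ d) : IsIso (d • 𝟙 F : F ⟶ F) := by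
  have hmono : Mono (d • 𝟙 F : F ⟶ F) := by
    have hm : Mono (d • 𝟙 F : F ⟶ F).hom := by
      have hU : ∀ U : X.Etaleᵒᵖ, Mono ((d • 𝟙 F : F ⟶ F).hom.app U) := ?_
      · exact NatTrans.mono_of_mono_app _
      intro U
      rw [AddCommGrpCat.mono_iff_injective]
      rw [injective_iff_map_eq_zero]
      intro s hs
      have hs' : d • s = 0 := by
        rw [← nsmul_id_app F d U.unop s]
        exact hs
      let R : Sieve U.unop :=
        { arrows := fun V u => F.obj.map u.op s = 0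
          downward_closed := by
            intro V V' u hu v
            show F.obj.map (v ≫ u).op s = 0
            rw [op_comp, F.obj.map_comp, ConcreteCategory.comp_apply, hu, map_zero] }
      have hR : R ∈ X.smallEtaleTopology U.unop := by
        rw [EtLoc.mem_iff]
        intro x
        obtain ⟨V, g, m, ⟨v, hv⟩, hm, hms⟩ := hF U.unop s x
        refine ⟨V, g, v, ?_, hv⟩
        obtain ⟨a, ha⟩ := bezout_smul (coprime_of hL hm) (F.obj.map g.op s) hms
        show F.obj.map g.op s = 0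
        rw [ha, ← map_zsmul, ← map_nsmul, smul_comm, hs', smul_zero, map_zero]
      exact Transfer.ext_of_cover F R hR s 0 (fun V u hu => by rw [map_zero]; exact hu)
    exact Sheaf.Hom.mono_of_presheaf_mono _ _ _
  have hepi : Epi (d • 𝟙 F : F ⟶ F) := by
    rw [← Sheaf.isLocallySurjective_iff_epi']
    constructor
    intro U s
    rw [EtLoc.mem_iff]
    intro x
    obtain ⟨V, g, m, ⟨v, hv⟩, hm, hms⟩ := hF U s x
    refine ⟨V, g, v, ?_, hv⟩
    obtain ⟨a, ha⟩ := bezout_smul (coprime_of hL hm) (F.obj.map g.op s) hms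
    refine ⟨a • F.obj.map g.op s, ?_⟩
    rw [nsmul_id_app]
    exact ha.symm
  exact isIso_of_mono_of_epi _

theorem main {X X' : Scheme.{u}} (f : X' ⟶ X) [IsFinite f] [Etale f]
    (d : ℕ) (hd : ∀ (Ω : Type u) [Field Ω] [IsSepClosed Ω] (ξ : Spec (CommRingCat.of Ω) ⟶ X),
      Nat.card ↥(pullback f ξ) = d)
    (L : Set ℕ) (hL : ∀ p : ℕ, p.Prime → p ∈ L → ¬ p ∣ d) (F : EtCoh.Ab X)
    (hF : EtAcyc.IsLTorsion L F)
    [PreservesFiniteLimits (EtCoh.pull f)] (q : ℕ)
    (h : Subsingleton (EtCoh.H X' ((EtCoh.pull f).obj F) q)) :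
    Subsingleton (EtCoh.H X F q) := by
  apply subsingleton_of_forall_eq 0
  intro α
  have h1 : d • α = 0 :=
    EtTrace.nsmul_eq_zero f d (EtDegree.split_n_eq f d hd) F q α (Subsingleton.elim _ _)
  have hiso := isIso_nsmul F L hF d hL
  have h2 : (α.comp (Ext.mk₀ (d • 𝟙 F)) (add_zero q)).comp (Ext.mk₀ (inv (d • 𝟙 F : F ⟶ F)))
      (add_zero q) = α := by
    rw [Ext.comp_assoc_of_third_deg_zero, Ext.mk₀_comp_mk₀, IsIso.hom_inv_id, Ext.comp_mk₀_id]
  rw [← h2, comp_mk₀_nsmul_id, h1, Ext.zero_comp]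

end helpers

/-- Let f : X' → X be finite etale of constant degree d (every geometric fibre has exactly d points), L
a set of primes such that no prime in L divides d, F an abelian L-torsion sheaf on the small etale
site of X, and q a natural number. If H^q(X', f⁻¹F) = 0, then H^q(X, F) = 0. -/
theorem result {X X' : Scheme.{u}} (f : X' ⟶ X) [IsFinite f] [Etale f]
    (d : ℕ) (hd : ∀ (Ω : Type u) [Field Ω] [IsSepClosed Ω] (ξ : Spec (CommRingCat.of Ω) ⟶ X),
      Nat.card ↥(pullback f ξ) = d)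
    (L : Set ℕ) (hL : ∀ p : ℕ, p.Prime → p ∈ L → ¬ p ∣ d) (F : EtCoh.Ab X) (hF : EtAcyc.IsLTorsion L F)
    [PreservesFiniteLimits (EtCoh.pull f)] (q : ℕ)
    (h : Subsingleton (EtCoh.H X' ((EtCoh.pull f).obj F) q)) :
    Subsingleton (EtCoh.H X F q) := by
  exact main f d hd L hL F hF q h

end Groth.Agent.S8532
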