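import Groth.Statements.S8535
import Groth.Agent.Lib.Helper13.DeltaF
import Mathlib.CategoryTheory.Limits.FunctorCategory.EpiMono

set_option autoImplicit false
universe v v' u u'
open CategoryTheory CategoryTheory.Limits
open DeltaF

namespace Groth.Agent.S8535

/-- Let A and B be abelian categories, T and T' cohomological delta-functors from A to B in degrees ≥ 0
whose degree-0 components are left exact (they vanish in negative degrees), such that T^i is
effaceable for every i > 0, and let φ : T → T' be a morphism of delta-functors and n a natural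
number. Then the following are equivalent: (a) φ^i is an isomorphism for i ≤ n and a monomorphism
for i = n + 1; (b) φ^0 is a monomorphism and φ^i is an epimorphism for every i ≤ n; (c) φ^0 is an
isomorphism and, for 0 < i ≤ n, T'^i is effaceable (every object X admits a monomorphism X → Y
killed by T'^i). -/
theorem result {A : Type u} [Category.{v} A] [Abelian A]
    {B : Type u'} [Category.{v'} B] [Abelian B] (T T' : DeltaF.CohDeltaFunctor A B ℕ)
    (h0 : T.ZeroMono) (h0' : T'.ZeroMono) (hT : T.IsEffaceable) (φ : T ⟶ T') (n : ℕ) :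
    ((∀ i : ℕ, i ≤ n → IsIso (φ.app i)) ∧ Mono (φ.app (n + 1)) ↔
      (Mono (φ.app 0) ∧ ∀ i : ℕ, i ≤ n → Epi (φ.app i))) ∧
    ((∀ i : ℕ, i ≤ n → IsIso (φ.app i)) ∧ Mono (φ.app (n + 1)) ↔
      (IsIso (φ.app 0) ∧ ∀ i : ℕ, 0 < i → i ≤ n → ∀ X : A, ∃ (Y : A) (u : X ⟶ Y), Mono u ∧ (T'.F i).map u = 0)) := by
  open Groth.Agent.Helper13.DeltaFLemmas in
  -- the key implication: mono in degree 0 and epi in degrees ≤ n give mono in degrees ≤ n + 1
  have key : (∀ X, Mono ((φ.app 0).app X)) → (∀ i : ℕ, i ≤ n → ∀ X, Epi ((φ.app i).app X)) →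
      ∀ i : ℕ, i ≤ n + 1 → ∀ X, Mono ((φ.app i).app X) := by
    intro hm he i
    induction i with
    | zero => intro _; exact hm
    | succ i ih =>
      intro hi X
      exact mono_succ T T' φ i (hT i) (he i (by omega)) (ih (by omega)) X
  have hiso : ∀ i : ℕ, IsIso (φ.app i) ↔ ∀ X, IsIso ((φ.app i).app X) := fun i =>
    NatTrans.isIso_iff_isIso_app _
  have hmono : ∀ i : ℕ, Mono (φ.app i) ↔ ∀ X, Mono ((φ.app i).app X) := fun i =>
    NatTrans.mono_iff_mono_app _
  have hepi : ∀ i : ℕ, Epi (φ.app i) ↔ ∀ X, Epi ((φ.app i).app X) := fun i =>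
    NatTrans.epi_iff_epi_app _
  have hb : (Mono (φ.app 0) ∧ ∀ i : ℕ, i ≤ n → Epi (φ.app i)) →
      (∀ i : ℕ, i ≤ n → IsIso (φ.app i)) ∧ Mono (φ.app (n + 1)) := by
    rintro ⟨hm, he⟩
    have hk := key ((hmono 0).1 hm) (fun i hi => (hepi i).1 (he i hi))
    refine ⟨fun i hi => ?_, (hmono _).2 (hk (n + 1) le_rfl)⟩
    rw [hiso]
    intro X
    have := hk i (by omega) X
    have := (hepi i).1 (he i hi) X
    exact isIso_of_mono_of_epi _
  refine ⟨⟨?_, hb⟩, ⟨?_, ?_⟩⟩
  · rintro ⟨h1, _⟩
    have := h1 0 (Nat.zero_le _)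
    refine ⟨inferInstance, fun i hi => ?_⟩
    have := h1 i hi
    infer_instance
  · rintro ⟨h1, _⟩
    refine ⟨h1 0 (Nat.zero_le _), ?_⟩
    intro i hi0 hin X
    obtain ⟨j, rfl⟩ : ∃ j, i = j + 1 := ⟨i - 1, by omega⟩
    obtain ⟨Y, u, hu, hu0⟩ := hT j X
    refine ⟨Y, u, hu, ?_⟩
    have hI := (hiso (j + 1)).1 (h1 (j + 1) hin)
    have := hI X
    have := hI Y
    have hnat := (φ.app (j + 1)).naturality u
    rw [hu0, zero_comp] at hnat
    exact (cancel_epi ((φ.app (j + 1)).app X)).1 (by rw [comp_zero]; exact hnat.symm)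
  · rintro ⟨h00, heff⟩
    apply hb
    have hI0 := (hiso 0).1 h00
    refine ⟨(hmono 0).2 (fun X => by have := hI0 X; infer_instance), ?_⟩
    -- all φ^i, i ≤ n, are isomorphisms objectwise, by induction
    have hall : ∀ i : ℕ, i ≤ n → ∀ X, IsIso ((φ.app i).app X) := by
      intro i
      induction i with
      | zero => intro _; exact hI0
      | succ i ih =>
        intro hi X
        have ih' := ih (by omega)
        have hm : Mono ((φ.app (i + 1)).app X) :=
          mono_succ T T' φ i (hT i) (fun X => by have := ih' X; infer_instance)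
            (fun X => by have := ih' X; infer_instance) X
        have he : Epi ((φ.app (i + 1)).app X) :=
          epi_succ T T' φ i (heff (i + 1) (by omega) hi) (fun X => by have := ih' X; infer_instance) X
        exact isIso_of_mono_of_epi _
    intro i hi
    rw [hepi]
    intro X
    have := hall i hi X
    infer_instance

end Groth.Agent.S8535
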