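import Groth.Statements.S8536
import Mathlib
import Groth.Prelude.Def_EtCore
import Groth.Prelude.Def_EtAcyc

set_option autoImplicit false
universe u
open CategoryTheory CategoryTheory.Limits AlgebraicGeometry Opposite
open EtAcyc

namespace Groth.Agent.S8536

section helpers

open CategoryTheory.Abelian

theorem pointwise_of_mem {X : Scheme.{u}} (U : X.Etale) (R : Sieve U)
    (h : R ∈ X.smallEtaleTopology U) (x : U.left) :
    ∃ (V : X.Etale) (g : V ⟶ U) (v : V.left), R g ∧ g.left.base v = x := by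
  have eX : X.smallEtaleTopology =
      (X.smallPretopology (P := EtCoh.etaleMP) (Q := EtCoh.etaleMP)).toGrothendieck :=
    Scheme.smallGrothendieckTopology_eq_toGrothendieck_smallPretopology X le_rfl
  rw [eX] at h
  obtain ⟨V, g, v, hg, -, hv⟩ := (Scheme.mem_toGrothendieck_smallPretopology U R).1 h x
  exact ⟨V, g, v, hg, hv⟩

lemma isLTorsion_of_epi {X : Scheme.{u}} {L : Set ℕ} {G Q : EtCoh.Ab X} (π : G ⟶ Q) [Epi π]
    (hG : EtAcyc.IsLTorsion L G) : EtAcyc.IsLTorsion L Q := by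
  intro U s x
  have hls : Sheaf.IsLocallySurjective π := (Sheaf.isLocallySurjective_iff_epi' _ π).2 inferInstance
  obtain ⟨V, g, v, ⟨t, ht⟩, hv⟩ :=
    pointwise_of_mem U _ (Presheaf.imageSieve_mem X.smallEtaleTopology π.hom s) x
  obtain ⟨V', g', m, ⟨v', hv'⟩, hm, hmt⟩ := hG V t v
  refine ⟨V', g' ≫ g, m, ⟨v', ?_⟩, hm, ?_⟩
  · have : (g' ≫ g).left.base v' = g.left.base (g'.left.base v') := rfl
    rw [this, hv', hv]
  · have h1 : Q.obj.map (g' ≫ g).op s = Q.obj.map g'.op (Q.obj.map g.op s) := by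
      rw [op_comp, Functor.map_comp]
      rfl
    have h2 : Q.obj.map g'.op (π.hom.app (op V) t) = π.hom.app (op V') (G.obj.map g'.op t) :=
      (NatTrans.naturality_apply π.hom g'.op t).symm
    rw [h1, ← ht, h2, ← map_nsmul, hmt, map_zero]


section Chase

variable {X Y : Scheme.{u}} (h : Y ⟶ X) [PreservesFiniteLimits (EtCoh.pull h)]

lemma Hpull_apply (A : EtCoh.Ab X) (m : ℕ) (x : EtCoh.H X A m) :
    EtCore.Hpull h A m x = (Ext.mk₀ (EtCore.pullConst h ℤ).inv).comp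
      (x.mapExactFunctor (EtCoh.pull h)) (zero_add m) := rfl

lemma Hpull_nat {A B : EtCoh.Ab X} (φ : A ⟶ B) (m : ℕ) (x : EtCoh.H X A m) :
    EtCore.Hpull h B m (x.comp (Ext.mk₀ φ) (add_zero m)) =
      (EtCore.Hpull h A m x).comp (Ext.mk₀ ((EtCoh.pull h).map φ)) (add_zero m) := by
  rw [Hpull_apply, Hpull_apply, Ext.mapExactFunctor_comp, Ext.mapExactFunctor_mk₀,
    Ext.comp_assoc_of_third_deg_zero]

lemma Hpull_delta {S : ShortComplex (EtCoh.Ab X)} (hS : S.ShortExact) (m : ℕ)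
    (x : EtCoh.H X S.X₃ m) :
    EtCore.Hpull h S.X₁ (m + 1) (x.comp hS.extClass rfl) =
      (EtCore.Hpull h S.X₃ m x).comp (hS.map_of_exact (EtCoh.pull h)).extClass rfl := by
  rw [Hpull_apply, Hpull_apply, Ext.mapExactFunctor_comp, Ext.mapExactFunctor_extClass]
  exact (Ext.comp_assoc (Ext.mk₀ _) _ _ (zero_add m) rfl (by omega)).symm

end Chase

theorem main {X Y : Scheme.{u}} (h : Y ⟶ X) (L : Set ℕ) (n : ℕ) (hc : EtAcyc.CompN h L n)
    [PreservesFiniteLimits (EtCoh.pull h)] {F G : EtCoh.Ab X} (u : F ⟶ G) [Mono u]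
    (hG : EtAcyc.IsLTorsion L G)
    (ξ : EtCoh.H Y ((EtCoh.pull h).obj F) (n + 1))
    (hξ : (EtCoh.HF Y (n + 1)).map ((EtCoh.pull h).map u) ξ ∈ Set.range (EtCore.Hpull h G (n + 1))) :
    ξ ∈ Set.range (EtCore.Hpull h F (n + 1)) := by
  let S : ShortComplex (EtCoh.Ab X) := ShortComplex.mk u (cokernel.π u) (cokernel.condition u)
  have hS : S.ShortExact :=
    { exact := ShortComplex.exact_cokernel u
      mono_f := inferInstanceAs (Mono u)
      epi_g := inferInstanceAs (Epi (cokernel.π u)) }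
  have hQ : EtAcyc.IsLTorsion L S.X₃ := isLTorsion_of_epi (cokernel.π u) hG
  have hS' : (S.map (EtCoh.pull h)).ShortExact := hS.map_of_exact (EtCoh.pull h)
  obtain ⟨hbijQ, hinjQ⟩ := hc S.X₃ hQ
  obtain ⟨η, hη⟩ := hξ
  have hη' : EtCore.Hpull h S.X₂ (n + 1) η =
      ξ.comp (Ext.mk₀ ((EtCoh.pull h).map S.f)) (add_zero (n + 1)) := hη
  -- step 1
  have e1 : EtCore.Hpull h S.X₃ (n + 1) (η.comp (Ext.mk₀ S.g) (add_zero _)) = 0 := by
    rw [Hpull_nat, hη', Ext.comp_assoc_of_third_deg_zero, Ext.mk₀_comp_mk₀, ← Functor.map_comp,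
      S.zero, Functor.map_zero, Ext.mk₀_zero, Ext.comp_zero]
  have e2 : η.comp (Ext.mk₀ S.g) (add_zero _) = 0 := hinjQ (e1.trans (map_zero _).symm)
  -- step 2
  obtain ⟨ζ, hζ⟩ := Ext.covariant_sequence_exact₂ _ hS η e2
  -- step 3
  have e3 : (ξ - EtCore.Hpull h S.X₁ (n + 1) ζ).comp
      (Ext.mk₀ (S.map (EtCoh.pull h)).f) (add_zero _) = 0 := by
    have : (EtCore.Hpull h S.X₁ (n + 1) ζ).comp (Ext.mk₀ ((EtCoh.pull h).map S.f)) (add_zero _) =
        EtCore.Hpull h S.X₂ (n + 1) η := by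
      rw [← Hpull_nat, hζ]
    show (ξ - EtCore.Hpull h S.X₁ (n + 1) ζ).comp
      (Ext.mk₀ ((EtCoh.pull h).map S.f)) (add_zero _) = 0
    rw [sub_eq_add_neg, Ext.add_comp, Ext.neg_comp, this, hη', add_neg_cancel]
  obtain ⟨θ, hθ⟩ := Ext.covariant_sequence_exact₁ _ hS' (ξ - EtCore.Hpull h S.X₁ (n + 1) ζ) e3
    (rfl : n + 1 = n + 1)
  obtain ⟨θ', hθ'⟩ := (hbijQ n le_rfl).2 θ
  refine ⟨ζ + θ'.comp hS.extClass rfl, ?_⟩
  have hd : EtCore.Hpull h S.X₁ (n + 1) (θ'.comp hS.extClass rfl) =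
      ξ - EtCore.Hpull h S.X₁ (n + 1) ζ := by
    refine (Hpull_delta h hS n θ').trans ?_
    rw [hθ']
    exact hθ
  have : EtCore.Hpull h S.X₁ (n + 1) (ζ + θ'.comp hS.extClass rfl) = ξ := by
    rw [map_add, hd]
    abel
  exact this

end helpers

/-- Let h : Y → X be a morphism of quasi-compact quasi-separated schemes, L a set of primes and n a
natural number, and suppose that for every abelian L-torsion sheaf on X the pullback map on etale
cohomology along h is bijective in degrees ≤ n and injective in degree n + 1. Let u : F → G be a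
monomorphism of abelian L-torsion sheaves on X and ξ a class in H^{n+1}(Y, h⁻¹F) whose image in
H^{n+1}(Y, h⁻¹G) comes from H^{n+1}(X, G). Then ξ comes from H^{n+1}(X, F). -/
theorem result {X Y : Scheme.{u}} [CompactSpace X] [QuasiSeparatedSpace X]
    [CompactSpace Y] [QuasiSeparatedSpace Y] (h : Y ⟶ X) (L : Set ℕ) (n : ℕ) (hc : EtAcyc.CompN h L n)
    [PreservesFiniteLimits (EtCoh.pull h)] {F G : EtCoh.Ab X} (u : F ⟶ G) [Mono u]
    (hF : EtAcyc.IsLTorsion L F) (hG : EtAcyc.IsLTorsion L G)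
    (ξ : EtCoh.H Y ((EtCoh.pull h).obj F) (n + 1))
    (hξ : (EtCoh.HF Y (n + 1)).map ((EtCoh.pull h).map u) ξ ∈ Set.range (EtCore.Hpull h G (n + 1))) :
    ξ ∈ Set.range (EtCore.Hpull h F (n + 1)) := by
  exact main h L n hc u hG ξ hξ

end Groth.Agent.S8536
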