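import Groth.Statements.S8539
import Groth.Agent.Lib.Helper4.SHClosedPt2

set_option autoImplicit false
universe u
open CategoryTheory CategoryTheory.Limits AlgebraicGeometry Opposite
open EtCd

namespace Groth.Agent.S8539

/-- Let X be a scheme of finite type over a field k, x a point of X and A a strict henselization of the
local ring of X at x. Then there are a separably closed field k', a scheme X' of finite type over k'
and a closed point x' of X' such that A is (isomorphic to) a strict henselization of the local ring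
of X' at x': some local algebra structure over that local ring makes A a strict henselization of it. -/
theorem result (k : Type u) [Field k] {X : Scheme.{u}}
    (f : X ⟶ Spec (CommRingCat.of k)) [LocallyOfFiniteType f] [QuasiCompact f] (x : X)
    (A : Type u) [CommRing A] [IsLocalRing A] [Algebra (X.presheaf.stalk x) A]
    [IsLocalHom (algebraMap (X.presheaf.stalk x) A)] [Hensel.IsStrictHenselization (X.presheaf.stalk x) A] :
    ∃ (k' : Type u) (_ : Field k') (_ : IsSepClosed k') (X' : Scheme.{u}) (f' : X' ⟶ Spec (CommRingCat.of k'))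
      (_ : LocallyOfFiniteType f') (_ : QuasiCompact f') (x' : X') (_ : IsClosed ({x'} : Set X'))
      (_ : Algebra (X'.presheaf.stalk x') A) (_ : IsLocalHom (algebraMap (X'.presheaf.stalk x') A)),
      Hensel.IsStrictHenselization (X'.presheaf.stalk x') A := by
  classical
  obtain ⟨U, hU, hxU⟩ : ∃ U : X.Opens, IsAffineOpen U ∧ x ∈ U := by
    obtain ⟨_, ⟨U, hU : IsAffineOpen U, rfl⟩, hxU, -⟩ :=
      X.isBasis_affineOpens.exists_subset_of_mem_open (Set.mem_univ x) isOpen_univ
    exact ⟨U, hU, hxU⟩
  have hfin := HasRingHomProperty.appLE (P := @LocallyOfFiniteType) f inferInstance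
    ⟨⊤, isAffineOpen_top _⟩ ⟨U, hU⟩ le_top
  let φ : k →+* Γ(X, U) :=
    (f.appLE ⊤ U le_top).hom.comp (Scheme.ΓSpecIso (CommRingCat.of k)).inv.hom
  have hφ : φ.FiniteType := by
    refine RingHom.FiniteType.comp hfin (RingHom.FiniteType.of_surjective _ ?_)
    exact (ConcreteCategory.bijective_of_isIso (Scheme.ΓSpecIso (CommRingCat.of k)).inv).2
  letI : Algebra k Γ(X, U) := φ.toAlgebra
  haveI : Algebra.FiniteType k Γ(X, U) := hφ
  letI := X.presheaf.algebra_section_stalk ⟨x, hxU⟩
  haveI := hU.isLocalization_stalk ⟨x, hxU⟩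
  obtain ⟨K, hK, hKsc, C, hC, hKC, hft, q, hq, hS⟩ :=
    Groth.Agent.Helper4.SHClosedPt.core_field k Γ(X, U) (hU.primeIdealOf ⟨x, hxU⟩).asIdeal
      (X.presheaf.stalk x) A
  haveI hqp : q.IsPrime := hq.isPrime
  let x' : ↥(Spec (CommRingCat.of C)) := (⟨q, hqp⟩ : PrimeSpectrum C)
  have hcl : IsClosed ({x'} : Set ↥(Spec (CommRingCat.of C))) :=
    (PrimeSpectrum.isClosed_singleton_iff_isMaximal (⟨q, hqp⟩ : PrimeSpectrum C)).mpr hq
  have hlft : LocallyOfFiniteType (Spec.map (CommRingCat.ofHom (algebraMap K C))) := by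
    rw [HasRingHomProperty.Spec_iff (P := @LocallyOfFiniteType)]
    exact RingHom.finiteType_algebraMap.mpr hft
  letI algS : Algebra C ((Spec (CommRingCat.of C)).presheaf.stalk x') :=
    StructureSheaf.stalkAlgebra C (⟨q, hqp⟩ : PrimeSpectrum C)
  haveI hlocS : IsLocalization.AtPrime ((Spec (CommRingCat.of C)).presheaf.stalk x') q :=
    StructureSheaf.IsLocalization.to_stalk C (⟨q, hqp⟩ : PrimeSpectrum C)
  obtain ⟨alg, hloc, hSH⟩ := hS ((Spec (CommRingCat.of C)).presheaf.stalk x')
  exact ⟨K, hK, hKsc, Spec (CommRingCat.of C), Spec.map (CommRingCat.ofHom (algebraMap K C)),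
    hlft, inferInstance, x', hcl, alg, hloc, hSH⟩

end Groth.Agent.S8539
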