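import Groth.Statements.S8543
import Groth.Agent.Lib.Helper4.SHClosedPt3
import Groth.Agent.Lib.Helper16.Sch.FlatDVR

set_option autoImplicit false
universe u
open CategoryTheory CategoryTheory.Limits AlgebraicGeometry Opposite
open EtCd

namespace Groth.Agent.S8543

/-- Let R be a discrete valuation ring, X a scheme of finite type over Spec R, x a point of X over the
closed point of Spec R, and A a strict henselization of the local ring of X at x. Then there are a
strictly henselian discrete valuation ring R' (henselian, with separably closed residue field), a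
scheme X' of finite type over Spec R', a closed point x' of X' over the closed point of Spec R', and
a local algebra structure over the local ring of X' at x' for which A is a strict henselization of
that local ring. -/
theorem result (R : Type u) [CommRing R] [IsDomain R]
    [IsDiscreteValuationRing R] {X : Scheme.{u}} (f : X ⟶ Spec (CommRingCat.of R)) [LocallyOfFiniteType f]
    [QuasiCompact f] (x : X)
    (hx : f.base x = ((IsLocalRing.closedPoint R : PrimeSpectrum R) : ↥(Spec (CommRingCat.of R))))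
    (A : Type u) [CommRing A] [IsLocalRing A] [Algebra (X.presheaf.stalk x) A]
    [IsLocalHom (algebraMap (X.presheaf.stalk x) A)] [Hensel.IsStrictHenselization (X.presheaf.stalk x) A] :
    ∃ (R' : Type u) (_ : CommRing R') (_ : IsDomain R') (_ : IsDiscreteValuationRing R') (_ : HenselianLocalRing R')
      (_ : IsSepClosed (IsLocalRing.ResidueField R'))
      (X' : Scheme.{u}) (f' : X' ⟶ Spec (CommRingCat.of R')) (_ : LocallyOfFiniteType f') (_ : QuasiCompact f')
      (x' : X') (_ : IsClosed ({x'} : Set X'))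
      (_ : f'.base x' = ((IsLocalRing.closedPoint R' : PrimeSpectrum R') : ↥(Spec (CommRingCat.of R'))))
      (_ : Algebra (X'.presheaf.stalk x') A) (_ : IsLocalHom (algebraMap (X'.presheaf.stalk x') A)),
      Hensel.IsStrictHenselization (X'.presheaf.stalk x') A := by
  classical
  obtain ⟨U, hU, hxU⟩ : ∃ U : X.Opens, IsAffineOpen U ∧ x ∈ U := by
    obtain ⟨_, ⟨U, hU : IsAffineOpen U, rfl⟩, hxU, -⟩ :=
      X.isBasis_affineOpens.exists_subset_of_mem_open (Set.mem_univ x) isOpen_univ
    exact ⟨U, hU, hxU⟩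
  have hfin := HasRingHomProperty.appLE (P := @LocallyOfFiniteType) f inferInstance
    ⟨⊤, isAffineOpen_top _⟩ ⟨U, hU⟩ le_top
  let φ : R →+* Γ(X, U) :=
    (f.appLE ⊤ U le_top).hom.comp (Scheme.ΓSpecIso (CommRingCat.of R)).inv.hom
  have hφ : φ.FiniteType := by
    refine RingHom.FiniteType.comp hfin (RingHom.FiniteType.of_surjective _ ?_)
    exact (ConcreteCategory.bijective_of_isIso (Scheme.ΓSpecIso (CommRingCat.of R)).inv).2
  letI : Algebra R Γ(X, U) := φ.toAlgebra
  haveI : Algebra.FiniteType R Γ(X, U) := hφ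
  letI := X.presheaf.algebra_section_stalk ⟨x, hxU⟩
  haveI := hU.isLocalization_stalk ⟨x, hxU⟩
  have hψ₀ : ∀ r : R, (algebraMap Γ(X, U) (X.presheaf.stalk x)) (algebraMap R Γ(X, U) r) =
      Groth.Agent.Helper16.FlatDVR.stalkImg f x r := by
    intro r
    rw [← Groth.Agent.Helper16.FlatDVR.germ_gsec]
    exact TopCat.Presheaf.germ_res_apply X.presheaf (homOfLE (le_top : U ≤ f ⁻¹ᵁ ⊤)) x hxU
      ((f.app ⊤).hom ((Scheme.ΓSpecIso (CommRingCat.of R)).inv.hom r))
  have hlocR : IsLocalHom ((algebraMap Γ(X, U) (X.presheaf.stalk x)).comp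
      (algebraMap R Γ(X, U))) := by
    refine ⟨fun r hr => ?_⟩
    rw [RingHom.comp_apply, hψ₀] at hr
    have hfx : r ∉ (f.base x).asIdeal :=
      (Groth.Agent.Helper16.FlatDVR.isUnit_stalkImg_iff f x r).mp hr
    rw [hx] at hfx
    exact IsLocalRing.notMem_maximalIdeal.mp hfx
  obtain ⟨R', hR'c, hR'd, hR'dvr, hR'h, hR'sc, C, hC, hR'C, hft, q, hq, hqcomap, hS⟩ :=
    Groth.Agent.Helper4.SHClosedPt.core_dvr R Γ(X, U) (hU.primeIdealOf ⟨x, hxU⟩).asIdeal
      (X.presheaf.stalk x) hlocR A
  haveI hqp : q.IsPrime := hq.isPrime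
  let x' : ↥(Spec (CommRingCat.of C)) := (⟨q, hqp⟩ : PrimeSpectrum C)
  have hcl : IsClosed ({x'} : Set ↥(Spec (CommRingCat.of C))) :=
    (PrimeSpectrum.isClosed_singleton_iff_isMaximal (⟨q, hqp⟩ : PrimeSpectrum C)).mpr hq
  have hlft : LocallyOfFiniteType (Spec.map (CommRingCat.ofHom (algebraMap R' C))) := by
    rw [HasRingHomProperty.Spec_iff (P := @LocallyOfFiniteType)]
    exact RingHom.finiteType_algebraMap.mpr hft
  have hfx' : (Spec.map (CommRingCat.ofHom (algebraMap R' C))).base x' =
      ((IsLocalRing.closedPoint R' : PrimeSpectrum R') : ↥(Spec (CommRingCat.of R'))) := by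
    apply PrimeSpectrum.ext
    exact hqcomap
  letI algS : Algebra C ((Spec (CommRingCat.of C)).presheaf.stalk x') :=
    StructureSheaf.stalkAlgebra C (⟨q, hqp⟩ : PrimeSpectrum C)
  haveI hlocS : IsLocalization.AtPrime ((Spec (CommRingCat.of C)).presheaf.stalk x') q :=
    StructureSheaf.IsLocalization.to_stalk C (⟨q, hqp⟩ : PrimeSpectrum C)
  obtain ⟨alg, hloc, hSH⟩ := hS ((Spec (CommRingCat.of C)).presheaf.stalk x')
  exact ⟨R', hR'c, hR'd, hR'dvr, hR'h, hR'sc, Spec (CommRingCat.of C),
    Spec.map (CommRingCat.ofHom (algebraMap R' C)), hlft, inferInstance, x', hcl, hfx',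
    alg, hloc, hSH⟩

end Groth.Agent.S8543
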