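import Groth.Statements.S8561
import Mathlib
import Groth.Prelude.Def_PBC
import Groth.Prelude.Def_EtCore
import Groth.Prelude.Def_EtShriek2
import Groth.Agent.S0128
import Groth.Agent.S0648
import Groth.Agent.S0654
import Groth.Agent.Lib.Helper10.EtLoc
import Groth.Agent.Lib.Helper10.LcCons
import Groth.Agent.Lib.Helper10.ConsChain
import Groth.Agent.Lib.Helper10.ExtZeroComp
import Groth.Agent.Lib.Helper24.EtOpen3

set_option autoImplicit false
universe u
open CategoryTheory CategoryTheory.Limits AlgebraicGeometry Opposite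
open EtPBC

namespace Groth.Agent.S8561

section helpers

open Groth.Agent.Helper10 Groth.Agent.Helper24.EtOpen Topology

/-- one step of the filtration -/
def Piece {X : Scheme.{u}} {A B : EtCoh.Ab X} (ι : A ⟶ B) : Prop :=
  ∃ (U W : Scheme.{u}) (j : U ⟶ X) (_ : IsOpenImmersion j) (c : W ⟶ U)
    (_ : IsClosedImmersion c) (G : EtCoh.Ab W)
    (π : B ⟶ (EtShriek.extZero j).obj ((EtCoh.push c).obj G)) (hz : ι ≫ π = 0),
    Topology.IsConstructible (Set.range (c ≫ j)) ∧ EtCoh.IsFiniteLocallyConstant G ∧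
    (ShortComplex.mk ι π hz).ShortExact

/-- filtrations indexed by `ℕ` -/
def FiltN {X : Scheme.{u}} (F : EtCoh.Ab X) (n : ℕ) : Prop :=
  ∃ E : ℕ → EtCoh.Ab X, IsZero (E 0) ∧ Nonempty (E n ≅ F) ∧
    ∀ k < n, ∃ ι : E k ⟶ E (k + 1), Piece ι

lemma filtN_to_fin {X : Scheme.{u}} {F : EtCoh.Ab X} {n : ℕ} (h : FiltN F n) :
    ∃ (n : ℕ) (E : Fin (n + 1) → EtCoh.Ab X) (ι : ∀ k : Fin n, E k.castSucc ⟶ E k.succ),
      IsZero (E 0) ∧ Nonempty (E (Fin.last n) ≅ F) ∧
      ∀ k : Fin n, ∃ (U W : Scheme.{u}) (j : U ⟶ X) (_ : IsOpenImmersion j) (c : W ⟶ U)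
        (_ : IsClosedImmersion c) (G : EtCoh.Ab W)
        (π : E k.succ ⟶ (EtShriek.extZero j).obj ((EtCoh.push c).obj G)) (hz : ι k ≫ π = 0),
        Topology.IsConstructible (Set.range (c ≫ j)) ∧ EtCoh.IsFiniteLocallyConstant G ∧
        (ShortComplex.mk (ι k) π hz).ShortExact := by
  obtain ⟨E, h0, hn, hp⟩ := h
  choose ι hι using fun (k : Fin n) => hp k.val k.isLt
  exact ⟨n, fun k => E k.val, fun k => ι k, h0, hn, fun k => hι k⟩


lemma piece_extZero {U X : Scheme.{u}} (j : U ⟶ X) [IsOpenImmersion j]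
    (hjr : IsRetrocompact (Set.range j)) {A B : EtCoh.Ab U} {ι : A ⟶ B} (h : Piece ι) :
    Piece ((EtShriek.extZero j).map ι) := by
  obtain ⟨U', W, j', hj', c, hc, G, π, hz, hcons, hG, hS⟩ := h
  have hz' : (EtShriek.extZero j).map ι ≫ ((EtShriek.extZero j).map π ≫
      (ExtZeroComp.extZeroComp j' j).hom.app ((EtCoh.push c).obj G)) = 0 := by
    rw [← Category.assoc, ← Functor.map_comp, hz, Functor.map_zero, zero_comp]
  refine ⟨U', W, j' ≫ j, inferInstance, c, hc, G, (EtShriek.extZero j).map π ≫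
      (ExtZeroComp.extZeroComp j' j).hom.app ((EtCoh.push c).obj G), hz', ?_, hG, ?_⟩
  · have : Set.range (c ≫ j' ≫ j) = j '' Set.range (c ≫ j') := by
      rw [← Category.assoc, Scheme.Hom.comp_base (c ≫ j') j, TopCat.coe_comp, Set.range_comp]
    rw [this]
    exact hcons.image_of_isOpenEmbedding j.isOpenEmbedding hjr
  · have h1 : ((ShortComplex.mk ι π hz).map (EtShriek.extZero j)).ShortExact :=
      hS.map_of_exact (EtShriek.extZero j)
    refine ShortComplex.shortExact_of_iso ?_ h1
    exact ShortComplex.isoMk (Iso.refl _) (Iso.refl _)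
      ((ExtZeroComp.extZeroComp j' j).app ((EtCoh.push c).obj G))
      ((Category.id_comp _).trans (Category.comp_id _).symm) (Category.id_comp _)

lemma filtN_extZero {U X : Scheme.{u}} (j : U ⟶ X) [IsOpenImmersion j]
    (hjr : IsRetrocompact (Set.range j)) {F : EtCoh.Ab U} {n : ℕ} (h : FiltN F n) :
    FiltN ((EtShriek.extZero j).obj F) n := by
  obtain ⟨E, h0, ⟨e⟩, hp⟩ := h
  refine ⟨fun k => (EtShriek.extZero j).obj (E k), (EtShriek.extZero j).map_isZero h0,
    ⟨(EtShriek.extZero j).mapIso e⟩, fun k hk => ?_⟩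
  obtain ⟨ι, hι⟩ := hp k hk
  exact ⟨(EtShriek.extZero j).map ι, piece_extZero j hjr hι⟩


structure ChainData {X : Scheme.{u}} (F : EtCoh.Ab X) (N : ℕ) (W : ℕ → X.Opens) : Prop where
  zero : W 0 = ⊥
  top : W N = ⊤
  mono : ∀ k, W k ≤ W (k + 1)
  compact : ∀ k, IsCompact (W k : Set X)
  strata : ∀ k < N, ∃ (Z : Scheme.{u}) (z : Z ⟶ X), IsImmersion z ∧
    Set.range z = (W (k + 1) : Set X) \ (W k : Set X) ∧
    EtCoh.IsFiniteLocallyConstant ((EtCoh.pull z).obj F)

lemma ChainData.le {X : Scheme.{u}} {F : EtCoh.Ab X} {N : ℕ} {W : ℕ → X.Opens}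
    (h : ChainData F N W) {a b : ℕ} (hab : a ≤ b) : W a ≤ W b :=
  monotone_nat_of_le_succ h.mono hab

instance jcont_ι {X : Scheme.{u}} (U : X.Opens) : EtShriek.JCont U.ι := inferInstance

lemma chainData_restrict {X : Scheme.{u}} [QuasiSeparatedSpace X] (F : EtCoh.Ab X) (N : ℕ)
    (W : ℕ → X.Opens) (h : ChainData F (N + 1) W) :
    ChainData ((EtShriek.restrAlong (W N).ι).obj F) N (fun k => (W N).ι ⁻¹ᵁ (W k)) := by
  refine ⟨?_, ?_, ?_, ?_, ?_⟩
  · show (W N).ι ⁻¹ᵁ (W 0) = ⊥
    rw [h.zero]
    rfl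
  · exact Scheme.Opens.ι_preimage_self (W N)
  · intro k x hx
    exact h.mono k hx
  · intro k
    have e : (((W N).ι ⁻¹ᵁ (W k) : (W N).toScheme.Opens) : Set (W N).toScheme) =
        (W N).ι ⁻¹' ((W k : Set X) ∩ (W N : Set X)) := by
      ext x
      constructor
      · intro hx
        exact ⟨hx, x.2⟩
      · intro hx
        exact hx.1
    rw [e]
    refine (W N).ι.isOpenEmbedding.isInducing.isCompact_preimage' ?_ ?_
    · exact (h.compact k).inter_of_isOpen (h.compact N) (W k).isOpen (W N).isOpen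
    · rw [Scheme.Opens.range_ι]
      exact Set.inter_subset_right
  · intro k hk
    obtain ⟨Z, z, hz, hr, hflc⟩ := h.strata k (by omega)
    have hsub : Set.range z ⊆ Set.range (W N).ι := by
      rw [Scheme.Opens.range_ι, hr]
      exact Set.sdiff_subset.trans (h.le (by omega))
    let z' : Z ⟶ (W N).toScheme := IsOpenImmersion.lift (W N).ι z hsub
    have hz' : z' ≫ (W N).ι = z := IsOpenImmersion.lift_fac _ _ _
    have : IsImmersion (z' ≫ (W N).ι) := by rw [hz']; exact hz
    refine ⟨Z, z', IsImmersion.of_comp z' (W N).ι, ?_, ?_⟩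
    · ext x
      have key : x ∈ Set.range z' ↔ (W N).ι x ∈ Set.range z := by
        constructor
        · rintro ⟨y, rfl⟩
          refine ⟨y, ?_⟩
          rw [← hz']
          rfl
        · rintro ⟨y, hy⟩
          refine ⟨y, (W N).ι.isOpenEmbedding.injective ?_⟩
          rw [← hy, ← hz']
          rfl
      rw [key, hr]
      rfl
    · have e1 : (EtCoh.pull z').obj ((EtCoh.pull (W N).ι).obj F) ≅
          (EtCoh.pull z').obj ((EtShriek.restrAlong (W N).ι).obj F) :=
        (EtCoh.pull z').mapIso ((eIso (W N).ι).app F)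
      refine LcStrata.isFLC_of_iso e1 ?_
      refine LcStrata.isFLC_of_iso ((EtCore.pullComp z' (W N).ι).app F) ?_
      rw [hz']
      exact hflc


theorem filt_of_chain : ∀ (N : ℕ) {X : Scheme.{u}} [CompactSpace X] [QuasiSeparatedSpace X]
    (F : EtCoh.Ab X) (W : ℕ → X.Opens), ChainData F N W → FiltN F N := by
  intro N
  induction N with
  | zero =>
    intro X _ _ F W h
    have : IsEmpty X := by
      have h1 : (⊥ : X.Opens) = ⊤ := h.zero.symm.trans h.top
      constructor
      intro x
      have hx : x ∈ (⊤ : X.Opens) := trivial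
      rw [← h1] at hx
      exact hx
    exact ⟨fun _ => F, ExtZeroComp.isZero_of_isEmpty F, ⟨Iso.refl _⟩,
      fun k hk => absurd hk (Nat.not_lt_zero k)⟩
  | succ N ih =>
    intro X _ _ F W h
    have : CompactSpace (W N).toScheme := isCompact_iff_compactSpace.1 (h.compact N)
    have : QuasiSeparatedSpace (W N).toScheme :=
      QuasiSeparatedSpace.of_isOpenEmbedding (W N).ι.isOpenEmbedding
    have hres := chainData_restrict F N W h
    have h1 := ih ((EtShriek.restrAlong (W N).ι).obj F) _ hres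
    have hUr : IsRetrocompact ((W N : X.Opens) : Set X) :=
      (QuasiSeparatedSpace.isRetrocompact_iff_isCompact (W N).isOpen).2 (h.compact N)
    have hjr : IsRetrocompact (Set.range (W N).ι) := by
      rw [Scheme.Opens.range_ι]
      exact hUr
    obtain ⟨E, h0, ⟨eN⟩, hp⟩ := filtN_extZero (W N).ι hjr h1
    obtain ⟨Z, i, hi, hr, hflc⟩ := h.strata N (Nat.lt_succ_self N)
    have hrange : Set.range i = ((W N : X.Opens) : Set X)ᶜ := by
      rw [hr, h.top]
      ext x
      simp
    have : IsClosedImmersion i := IsClosedImmersion.of_isPreimmersion i (by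
      rw [hrange]
      exact (W N).isOpen.isClosed_compl)
    have hU : ((W N : X.Opens) : Set X) = (Set.range i.base)ᶜ := by
      rw [show Set.range i.base = Set.range i from rfl, hrange, compl_compl]
    obtain ⟨w, hS⟩ := Groth.Agent.S0654.result i (W N) hU F
    obtain ⟨E', hE'⟩ : ∃ E' : ℕ → EtCoh.Ab X, ∀ k, E' k = if k ≤ N then E k else F :=
      ⟨_, fun _ => rfl⟩
    refine ⟨E', ?_, ?_, ?_⟩
    · rw [hE' 0, if_pos (Nat.zero_le _)]
      exact h0
    · rw [hE' (N + 1), if_neg (by omega)]
      exact ⟨Iso.refl _⟩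
    · intro k hk
      by_cases hkN : k < N
      · rw [hE' k, hE' (k + 1), if_pos (by omega), if_pos (by omega)]
        exact hp k hkN
      · obtain rfl : k = N := by omega
        rw [hE' k, hE' (k + 1), if_pos le_rfl, if_neg (by omega)]
        have hz : (eN.hom ≫ (EtShriek.extZeroAdj (W k).ι).counit.app F) ≫
            ((EtCoh.pullPushAdj i).unit.app F ≫ (ExtZeroComp.extZeroId X).inv.app _) = 0 := by
          rw [Category.assoc, reassoc_of% w, zero_comp, comp_zero]
        refine ⟨eN.hom ≫ (EtShriek.extZeroAdj (W k).ι).counit.app F, X, Z, 𝟙 X, inferInstance, i,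
          inferInstance, (EtCoh.pull i).obj F,
          (EtCoh.pullPushAdj i).unit.app F ≫ (ExtZeroComp.extZeroId X).inv.app _, hz, ?_, hflc, ?_⟩
        · rw [Category.comp_id, hrange]
          exact (hUr.isConstructible (W k).isOpen).compl
        · refine ShortComplex.shortExact_of_iso ?_ hS
          refine ShortComplex.isoMk eN.symm (Iso.refl _)
            ((ExtZeroComp.extZeroId X).symm.app _) ?_ ?_
          · exact (Iso.inv_hom_id_assoc eN _).trans (Category.comp_id _).symm
          · exact Category.id_comp _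


lemma exists_chainData {X : Scheme.{u}} [CompactSpace X] [QuasiSeparatedSpace X] (F : EtCoh.Ab X)
    (hF : EtPBC.IsConstructible F) : ∃ (N : ℕ) (W : ℕ → X.Opens), ChainData F N W := by
  obtain ⟨n, T, t, hi, hc, hd, hu, hl⟩ := (Groth.Agent.S0128.result X F).1 hF
  have hcons : ∀ i, IsConstructible (Set.range (t i)) := fun i =>
    ConsTop.isConstructible_of_preimage_val IsConstructible.univ (Set.subset_univ _) (hc i)
  obtain ⟨N, W, hW, hdiff⟩ := ConsChain.exists_chain (fun i => Set.range (t i)) hcons hu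
  refine ⟨N, fun k => ⟨W k, hW.isOpen k⟩, ?_, ?_, ?_, ?_, ?_⟩
  · exact TopologicalSpace.Opens.ext hW.zero
  · exact TopologicalSpace.Opens.ext hW.top
  · exact fun k => hW.mono k
  · intro k
    have := hW.retro k isCompact_univ isOpen_univ
    rwa [Set.inter_univ] at this
  · intro k hk
    obtain ⟨i, hi'⟩ := hdiff k hk
    let U' : X.Opens := ⟨W (k + 1), hW.isOpen (k + 1)⟩
    obtain ⟨Y, c, hcl, hcr⟩ := LcGlue.exists_closedImmersion_range_eq_compl (X := U'.toScheme)
      (U'.ι ⁻¹' W k) ((hW.isOpen k).preimage U'.ι.continuous)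
    have hyr : Set.range (c ≫ U'.ι) = W (k + 1) \ W k := by
      rw [Scheme.Hom.comp_base, TopCat.coe_comp, Set.range_comp, hcr]
      ext x
      constructor
      · rintro ⟨u, hu', rfl⟩
        exact ⟨u.2, hu'⟩
      · rintro ⟨hx1, hx2⟩
        exact ⟨⟨x, hx1⟩, hx2, rfl⟩
    have := hi i
    refine ⟨pullback (t i) (c ≫ U'.ι), pullback.fst _ _ ≫ t i, inferInstance, ?_, ?_⟩
    · rw [Scheme.Hom.comp_base, TopCat.coe_comp, Set.range_comp, Scheme.Pullback.range_fst,
        Set.image_preimage_eq_inter_range, Set.inter_comm, hyr]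
      exact Set.inter_eq_right.2 hi'
    · exact LcStrata.isFLC_pull_comp _ _ rfl (hl i)

theorem main {X : Scheme.{u}} [CompactSpace X] [QuasiSeparatedSpace X] (F : EtCoh.Ab X)
    (hF : EtPBC.IsConstructible F) :
    ∃ (n : ℕ) (E : Fin (n + 1) → EtCoh.Ab X) (ι : ∀ k : Fin n, E k.castSucc ⟶ E k.succ),
      IsZero (E 0) ∧ Nonempty (E (Fin.last n) ≅ F) ∧
      ∀ k : Fin n, ∃ (U W : Scheme.{u}) (j : U ⟶ X) (_ : IsOpenImmersion j) (c : W ⟶ U)
        (_ : IsClosedImmersion c) (G : EtCoh.Ab W)
        (π : E k.succ ⟶ (EtShriek.extZero j).obj ((EtCoh.push c).obj G)) (hz : ι k ≫ π = 0),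
        Topology.IsConstructible (Set.range (c ≫ j)) ∧ EtCoh.IsFiniteLocallyConstant G ∧
        (ShortComplex.mk (ι k) π hz).ShortExact := by
  obtain ⟨N, W, h⟩ := exists_chainData F hF
  exact filtN_to_fin (filt_of_chain N F W h)

end helpers

/-- Let X be a quasi-compact and quasi-separated scheme and F a constructible abelian sheaf on the small
etale site of X (every affine open has a finite partition into constructible locally closed strata
along which F is finite locally constant). Then F has a finite filtration whose successive quotients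
are extensions by zero of finite locally constant sheaves on constructible locally closed
subschemes: there are abelian sheaves 0 = E₀, E₁, …, E_n with E_n ≅ F and short exact sequences 0 →
E_k → E_{k+1} → j_!(c_* G) → 0, where j : U ⟶ X is an open immersion, c : W ⟶ U a closed immersion
with the image of c ≫ j constructible in X, and G a finite locally constant abelian sheaf on W. (The
refinement with irreducible strata for X Noetherian is not stated.) -/
theorem result {X : Scheme.{u}} [CompactSpace X]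
    [QuasiSeparatedSpace X] (F : EtCoh.Ab X) (hF : EtPBC.IsConstructible F) :
    ∃ (n : ℕ) (E : Fin (n + 1) → EtCoh.Ab X) (ι : ∀ k : Fin n, E k.castSucc ⟶ E k.succ),
      IsZero (E 0) ∧ Nonempty (E (Fin.last n) ≅ F) ∧
      ∀ k : Fin n, ∃ (U W : Scheme.{u}) (j : U ⟶ X) (_ : IsOpenImmersion j) (c : W ⟶ U)
        (_ : IsClosedImmersion c) (G : EtCoh.Ab W)
        (π : E k.succ ⟶ (EtShriek.extZero j).obj ((EtCoh.push c).obj G)) (hz : ι k ≫ π = 0),
        Topology.IsConstructible (Set.range (c ≫ j)) ∧ EtCoh.IsFiniteLocallyConstant G ∧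
        (ShortComplex.mk (ι k) π hz).ShortExact := by
  exact main F hF

end Groth.Agent.S8561
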