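import Groth.Statements.S8565
import Mathlib

set_option autoImplicit false
open CategoryTheory CategoryTheory.Limits Opposite
universe v u
open Hyper

namespace Groth.Agent.S8565

section helpers
open SimplexCategory Simplicial

variable {E : Type u} [Category.{v} E]

instance finite_trunc (n : ℕ) : Finite (SimplexCategory.Truncated n) := by
  refine Finite.of_injective
    (fun a : SimplexCategory.Truncated n => (⟨a.obj.len, Nat.lt_succ_of_le a.property⟩ : Fin (n+1))) ?_
  intro a b h
  have h' : a.obj.len = b.obj.len := by simpa using congrArg Fin.val h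
  obtain ⟨a, ha⟩ := a
  obtain ⟨b, hb⟩ := b
  have : a = b := SimplexCategory.ext h'
  subst this
  rfl

instance finite_trunc_hom (n : ℕ) (a b : SimplexCategory.Truncated n) : Finite (a ⟶ b) :=
  Finite.of_injective (fun f => f.hom) (fun f g h => ObjectProperty.hom_ext _ h)

instance finite_op_hom {C : Type*} [Category C] (a b : Cᵒᵖ) [Finite (b.unop ⟶ a.unop)] : Finite (a ⟶ b) :=
  Finite.of_injective (fun f => f.unop) (fun f g h => Quiver.Hom.unop_inj h)

instance finite_sa (n : ℕ) (Y : SimplexCategoryᵒᵖ) :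
    Finite (StructuredArrow Y (SimplexCategory.Truncated.inclusion n).op) := by
  let φ : StructuredArrow Y (SimplexCategory.Truncated.inclusion n).op →
      Σ (c : (SimplexCategory.Truncated n)ᵒᵖ), (Y ⟶ (SimplexCategory.Truncated.inclusion n).op.obj c) :=
    fun g => ⟨g.right, g.hom⟩
  haveI : Finite ((SimplexCategory.Truncated n)ᵒᵖ) := Finite.of_injective (fun c => c.unop) (fun a b h => Opposite.unop_injective h)
  haveI : ∀ c : (SimplexCategory.Truncated n)ᵒᵖ, Finite (Y ⟶ (SimplexCategory.Truncated.inclusion n).op.obj c) := by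
    intro c
    dsimp
    infer_instance
  refine Finite.of_injective φ ?_
  intro g g' h
  obtain ⟨⟨⟨⟩⟩, r, hm⟩ := g
  obtain ⟨⟨⟨⟩⟩, r', hm'⟩ := g'
  simp only [φ, Sigma.mk.injEq] at h
  obtain ⟨h1, h2⟩ := h
  subst h1
  simp only [heq_eq_eq] at h2
  subst h2
  rfl

noncomputable instance finCat_sa (n : ℕ) (Y : SimplexCategoryᵒᵖ) :
    FinCategory (StructuredArrow Y (SimplexCategory.Truncated.inclusion n).op) where
  fintypeObj := Fintype.ofFinite _
  fintypeHom := fun j j' => by
    haveI : Finite (j ⟶ j') :=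
      Finite.of_injective (fun φ => φ.right) (fun a b h => by ext; exact h)
    exact Fintype.ofFinite _

instance hasPointwise (n : ℕ) [HasFiniteLimits E] (F : (SimplexCategory.Truncated n)ᵒᵖ ⥤ E) :
    (SimplexCategory.Truncated.inclusion n).op.HasPointwiseRightKanExtension F := fun Y => by
  dsimp [Functor.HasPointwiseRightKanExtensionAt]
  infer_instance


section setup
variable [HasFiniteLimits E] (n : ℕ)
  [∀ (F : (SimplexCategory.Truncated n)ᵒᵖ ⥤ E),
    (SimplexCategory.Truncated.inclusion n).op.HasRightKanExtension F]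

/-- the counit of the coskeleton -/
noncomputable abbrev eps (X : SimplicialObject E) :
    (SimplexCategory.Truncated.inclusion n).op ⋙ ((SimplicialObject.cosk n).obj X) ⟶
      (SimplexCategory.Truncated.inclusion n).op ⋙ X :=
  (SimplexCategory.Truncated.inclusion n).op.ranCounit.app ((SimplicialObject.truncation n).obj X)

/-- projections of the coskeleton -/
noncomputable def pr (X : SimplicialObject E) {a b : SimplexCategory} (ha : a.len ≤ n) (β : a ⟶ b) :
    ((SimplicialObject.cosk n).obj X).obj (op b) ⟶ X.obj (op a) :=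
  ((SimplicialObject.cosk n).obj X).map β.op ≫ (eps n X).app (op ⟨a, ha⟩)

lemma map_pr (X : SimplicialObject E) {a b b' : SimplexCategory} (ha : a.len ≤ n) (β : a ⟶ b)
    (γ : b ⟶ b') :
    ((SimplicialObject.cosk n).obj X).map γ.op ≫ pr n X ha β = pr n X ha (β ≫ γ) := by
  unfold pr
  rw [op_comp, Functor.map_comp, Category.assoc]

lemma pr_map (X : SimplicialObject E) {a a' b : SimplexCategory} (ha : a.len ≤ n) (ha' : a'.len ≤ n)
    (β : a ⟶ b) (γ : a' ⟶ a) :
    pr n X ha β ≫ X.map γ.op = pr n X ha' (γ ≫ β) := by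
  unfold pr
  have nat := (eps n X).naturality
    (X := op (⟨a, ha⟩ : SimplexCategory.Truncated n)) (Y := op (⟨a', ha'⟩ : SimplexCategory.Truncated n))
    (Quiver.Hom.op (ObjectProperty.homMk γ))
  dsimp at nat
  rw [Category.assoc]
  erw [← nat]
  rw [op_comp, Functor.map_comp, Category.assoc]
  rfl

lemma pr_hom_ext (X : SimplicialObject E) {b : SimplexCategory} {T : E}
    (u w : T ⟶ ((SimplicialObject.cosk n).obj X).obj (op b))
    (h : ∀ (a : SimplexCategory) (ha : a.len ≤ n) (β : a ⟶ b), u ≫ pr n X ha β = w ≫ pr n X ha β) :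
    u = w := by
  have hpt := (SimplexCategory.Truncated.inclusion n).op.isPointwiseRightKanExtensionRanCounit
    ((SimplicialObject.truncation n).obj X) (op b)
  apply hpt.hom_ext
  intro j
  exact h j.right.unop.obj j.right.unop.property j.hom.unop


/-- lifting a compatible family into the coskeleton -/
noncomputable def prLift (X : SimplicialObject E) {b : SimplexCategory} {T : E}
    (t : ∀ (a : SimplexCategory) (_ : a.len ≤ n) (_ : a ⟶ b), T ⟶ X.obj (op a))
    (ht : ∀ (a a' : SimplexCategory) (ha : a.len ≤ n) (ha' : a'.len ≤ n) (β : a ⟶ b) (γ : a' ⟶ a),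
      t a ha β ≫ X.map γ.op = t a' ha' (γ ≫ β)) :
    T ⟶ ((SimplicialObject.cosk n).obj X).obj (op b) :=
  ((SimplexCategory.Truncated.inclusion n).op.isPointwiseRightKanExtensionRanCounit
    ((SimplicialObject.truncation n).obj X) (op b)).lift
    { pt := T
      π :=
        { app := fun j => t j.right.unop.obj j.right.unop.property j.hom.unop
          naturality := by
            intro j j' φ
            dsimp
            rw [Category.id_comp]
            have hw := StructuredArrow.w φ
            have h1 := ht j.right.unop.obj j'.right.unop.obj j.right.unop.property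
              j'.right.unop.property j.hom.unop φ.right.unop.hom
            have h2 : j'.hom.unop = φ.right.unop.hom ≫ j.hom.unop := by
              rw [← hw]
              rfl
            rw [h2, ← h1]
            rfl } }

lemma prLift_pr (X : SimplicialObject E) {b : SimplexCategory} {T : E}
    (t : ∀ (a : SimplexCategory) (_ : a.len ≤ n) (_ : a ⟶ b), T ⟶ X.obj (op a))
    (ht : ∀ (a a' : SimplexCategory) (ha : a.len ≤ n) (ha' : a'.len ≤ n) (β : a ⟶ b) (γ : a' ⟶ a),
      t a ha β ≫ X.map γ.op = t a' ha' (γ ≫ β))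
    {a : SimplexCategory} (ha : a.len ≤ n) (β : a ⟶ b) :
    prLift n X t ht ≫ pr n X ha β = t a ha β := by
  have := ((SimplexCategory.Truncated.inclusion n).op.isPointwiseRightKanExtensionRanCounit
    ((SimplicialObject.truncation n).obj X) (op b)).fac
    { pt := T
      π :=
        { app := fun j => t j.right.unop.obj j.right.unop.property j.hom.unop
          naturality := by
            intro j j' φ
            dsimp
            rw [Category.id_comp]
            have hw := StructuredArrow.w φ
            have h1 := ht j.right.unop.obj j'.right.unop.obj j.right.unop.property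
              j'.right.unop.property j.hom.unop φ.right.unop.hom
            have h2 : j'.hom.unop = φ.right.unop.hom ≫ j.hom.unop := by
              rw [← hw]
              rfl
            rw [h2, ← h1]
            rfl } }
    (StructuredArrow.mk (Y := op (⟨a, ha⟩ : SimplexCategory.Truncated n)) β.op)
  exact this

lemma cosk_map_pr {X X' : SimplicialObject E} (f : X ⟶ X') {a b : SimplexCategory} (ha : a.len ≤ n)
    (β : a ⟶ b) :
    ((SimplicialObject.cosk n).map f).app (op b) ≫ pr n X' ha β = pr n X ha β ≫ f.app (op a) := by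
  unfold pr
  have nat := (SimplexCategory.Truncated.inclusion n).op.ranCounit.naturality
    ((SimplicialObject.truncation n).map f)
  have nat' := congrArg (fun τ => τ.app (op (⟨a, ha⟩ : SimplexCategory.Truncated n))) nat
  dsimp at nat'
  rw [← Category.assoc, ← ((SimplicialObject.cosk n).map f).naturality, Category.assoc, Category.assoc]
  congr 1

end setup


section homotopy
variable [HasFiniteLimits E] (n : ℕ)
  [∀ (F : (SimplexCategory.Truncated n)ᵒᵖ ⥤ E),
    (SimplexCategory.Truncated.inclusion n).op.HasRightKanExtension F]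
variable {X X' : SimplicialObject E} (f g : X ⟶ X')

/-- the choice between `f` and `g` -/
def ch (i x : ℕ) : X ⟶ X' := if i < x then g else f

lemma ch_congr {i x i' x' : ℕ} (h : i < x ↔ i' < x') : ch f g i x = ch f g i' x' := by
  unfold ch
  by_cases hx : i < x
  · rw [if_pos hx, if_pos (h.1 hx)]
  · rw [if_neg hx, if_neg (fun h' => hx (h.2 h'))]

variable (hfg : ∀ p : ℕ, p < n → f.app (op (SimplexCategory.mk p)) = g.app (op (SimplexCategory.mk p)))

include hfg in
lemma app_eq_of_lt (a : SimplexCategory) (ha : a.len < n) : f.app (op a) = g.app (op a) := by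
  have := hfg a.len ha
  rwa [SimplexCategory.mk_len] at this

include hfg in
lemma keyK {a a' : SimplexCategory} (ha : a.len ≤ n) (ha' : a'.len ≤ n) (γ : a' ⟶ a)
    (hγ : γ.toOrderHom 0 ≠ 0) :
    X.map γ.op ≫ f.app (op a') = X.map γ.op ≫ g.app (op a') := by
  by_cases hlt : a'.len < n
  · rw [app_eq_of_lt n f g hfg a' hlt]
  · have hlen : a'.len = n := le_antisymm ha' (not_lt.mp hlt)
    have hni : ¬ Function.Injective γ.toOrderHom := by
      intro hinj
      haveI : Mono γ := SimplexCategory.mono_iff_injective.2 hinj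
      have hle := SimplexCategory.len_le_of_mono γ
      have hlen2 : a.len = a'.len := by omega
      have : a = a' := SimplexCategory.ext hlen2
      subst this
      have := SimplexCategory.eq_id_of_mono γ
      rw [this] at hγ
      exact hγ rfl
    obtain ⟨m, hm⟩ : ∃ m, a'.len = m + 1 := by
      rcases Nat.eq_zero_or_pos a'.len with h0 | h0
      · exfalso
        apply hni
        intro x y _
        have hx : (x : ℕ) = 0 := by have := x.2; omega
        have hy : (y : ℕ) = 0 := by have := y.2; omega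
        exact Fin.ext (hx.trans hy.symm)
      · exact ⟨a'.len - 1, by omega⟩
    have ha'eq : a' = ⦋m + 1⦌ := SimplexCategory.ext hm
    subst ha'eq
    obtain ⟨j, θ', hθ⟩ := SimplexCategory.eq_σ_comp_of_not_injective γ hni
    have hmn : m < n := by
      have : (⦋m+1⦌ : SimplexCategory).len = m + 1 := rfl
      omega
    have e := hfg m hmn
    rw [hθ, op_comp, Functor.map_comp, Category.assoc, Category.assoc, f.naturality, g.naturality, e]

/-- the homotopy maps -/
noncomputable def hmap {p : ℕ} (i : Fin (p + 1)) :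
    ((SimplicialObject.cosk n).obj X).obj (op ⦋p⦌) ⟶
      ((SimplicialObject.cosk n).obj X').obj (op ⦋p + 1⦌) :=
  prLift n X'
    (fun a ha α => pr n X ha (α ≫ SimplexCategory.σ i) ≫
      (ch f g (i : ℕ) ((α.toOrderHom 0 : Fin (p + 1 + 1)) : ℕ)).app (op a))
    (by
      intro a a' ha ha' α γ
      rw [Category.assoc, ← (ch f g _ _).naturality, ← Category.assoc, pr_map n X ha ha',
        Category.assoc γ α]
      by_cases hc : ((i : ℕ) < ((α.toOrderHom 0 : Fin (p + 1 + 1)) : ℕ)) ↔
          ((i : ℕ) < (((γ ≫ α).toOrderHom 0 : Fin (p + 1 + 1)) : ℕ))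
      · rw [ch_congr f g hc]
      · have hγ : γ.toOrderHom 0 ≠ 0 := by
          intro h0
          apply hc
          have e0 : (γ ≫ α).toOrderHom 0 = α.toOrderHom (γ.toOrderHom 0) := rfl
          rw [e0, h0]
        rw [← pr_map n X ha ha' (α ≫ SimplexCategory.σ i) γ, Category.assoc, Category.assoc]
        congr 1
        have hk := keyK n f g hfg ha ha' γ hγ
        unfold ch
        split_ifs <;> first | rfl | (exact hk) | (exact hk.symm))

lemma hmap_pr {p : ℕ} (i : Fin (p + 1)) {a : SimplexCategory} (ha : a.len ≤ n) (α : a ⟶ ⦋p + 1⦌) :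
    hmap n f g hfg i ≫ pr n X' ha α = pr n X ha (α ≫ SimplexCategory.σ i) ≫
      (ch f g (i : ℕ) ((α.toOrderHom 0 : Fin (p + 1 + 1)) : ℕ)).app (op a) := by
  unfold hmap
  rw [prLift_pr]

end homotopy


section values

lemma δ_val {p : ℕ} (i : Fin (p + 2)) (x : Fin (p + 1)) :
    (((SimplexCategory.δ i).toOrderHom x : Fin (p + 1 + 1)) : ℕ) =
      if (x : ℕ) < (i : ℕ) then (x : ℕ) else (x : ℕ) + 1 := by
  have : (SimplexCategory.δ i).toOrderHom x = Fin.succAbove i x := rfl
  rw [this]
  unfold Fin.succAbove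
  split_ifs with h1 h2 h2
  · rfl
  · exfalso; apply h2; simpa [Fin.lt_def] using h1
  · exfalso; apply h1; simpa [Fin.lt_def] using h2
  · rfl

lemma σ_val {p : ℕ} (i : Fin (p + 1)) (x : Fin (p + 2)) :
    (((SimplexCategory.σ i).toOrderHom x : Fin (p + 1)) : ℕ) =
      if (i : ℕ) < (x : ℕ) then (x : ℕ) - 1 else (x : ℕ) := by
  have : (SimplexCategory.σ i).toOrderHom x = Fin.predAbove i x := rfl
  rw [this]
  unfold Fin.predAbove
  split_ifs with h1 h2 h2
  · simp
  · exfalso; apply h2; simpa [Fin.lt_def] using h1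
  · exfalso; apply h1; simpa [Fin.lt_def] using h2
  · simp

end values


section final
variable [HasFiniteLimits E] (n : ℕ)
  [∀ (F : (SimplexCategory.Truncated n)ᵒᵖ ⥤ E),
    (SimplexCategory.Truncated.inclusion n).op.HasRightKanExtension F]
variable {X X' : SimplicialObject E} (f g : X ⟶ X')
variable (hfg : ∀ p : ℕ, p < n → f.app (op (SimplexCategory.mk p)) = g.app (op (SimplexCategory.mk p)))

lemma hmap_δ_pr {p : ℕ} (j : Fin (p + 1)) (i : Fin (p + 2)) {a : SimplexCategory} (ha : a.len ≤ n)
    (α : a ⟶ ⦋p⦌) :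
    hmap n f g hfg j ≫ ((SimplicialObject.cosk n).obj X').δ i ≫ pr n X' ha α =
      pr n X ha (α ≫ SimplexCategory.δ i ≫ SimplexCategory.σ j) ≫
        (ch f g (j : ℕ) (if ((α.toOrderHom 0 : Fin (p + 1)) : ℕ) < (i : ℕ) then
          ((α.toOrderHom 0 : Fin (p + 1)) : ℕ) else
          ((α.toOrderHom 0 : Fin (p + 1)) : ℕ) + 1)).app (op a) := by
  have e1 : ((SimplicialObject.cosk n).obj X').δ i ≫ pr n X' ha α =
      pr n X' ha (α ≫ SimplexCategory.δ i) := map_pr n X' ha α (SimplexCategory.δ i)
  rw [e1, hmap_pr, Category.assoc α]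
  have e0 : (α ≫ SimplexCategory.δ i).toOrderHom 0 =
      (SimplexCategory.δ i).toOrderHom (α.toOrderHom 0) := rfl
  rw [e0, δ_val]

lemma δ_hmap_pr {p : ℕ} (j : Fin (p + 1)) (i : Fin (p + 2)) {a : SimplexCategory} (ha : a.len ≤ n)
    (α : a ⟶ ⦋p + 1⦌) :
    ((SimplicialObject.cosk n).obj X).δ i ≫ hmap n f g hfg j ≫ pr n X' ha α =
      pr n X ha (α ≫ SimplexCategory.σ j ≫ SimplexCategory.δ i) ≫
        (ch f g (j : ℕ) ((α.toOrderHom 0 : Fin (p + 1 + 1)) : ℕ)).app (op a) := by
  rw [hmap_pr, ← Category.assoc]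
  have e1 : ((SimplicialObject.cosk n).obj X).δ i ≫ pr n X ha (α ≫ SimplexCategory.σ j) =
      pr n X ha ((α ≫ SimplexCategory.σ j) ≫ SimplexCategory.δ i) :=
    map_pr n X ha (α ≫ SimplexCategory.σ j) (SimplexCategory.δ i)
  rw [e1, Category.assoc α]

lemma hmap_σ_pr {p : ℕ} (j : Fin (p + 1)) (i : Fin (p + 2)) {a : SimplexCategory} (ha : a.len ≤ n)
    (α : a ⟶ ⦋p + 2⦌) :
    hmap n f g hfg j ≫ ((SimplicialObject.cosk n).obj X').σ i ≫ pr n X' ha α =
      pr n X ha (α ≫ SimplexCategory.σ i ≫ SimplexCategory.σ j) ≫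
        (ch f g (j : ℕ) (if (i : ℕ) < ((α.toOrderHom 0 : Fin (p + 2 + 1)) : ℕ) then
          ((α.toOrderHom 0 : Fin (p + 2 + 1)) : ℕ) - 1 else
          ((α.toOrderHom 0 : Fin (p + 2 + 1)) : ℕ))).app (op a) := by
  have e1 : ((SimplicialObject.cosk n).obj X').σ i ≫ pr n X' ha α =
      pr n X' ha (α ≫ SimplexCategory.σ i) := map_pr n X' ha α (SimplexCategory.σ i)
  rw [e1, hmap_pr, Category.assoc α]
  have e0 : (α ≫ SimplexCategory.σ i).toOrderHom 0 =
      (SimplexCategory.σ i).toOrderHom (α.toOrderHom 0) := rfl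
  rw [e0, σ_val]

lemma σ_hmap_pr {p : ℕ} (j : Fin (p + 2)) (i : Fin (p + 1)) {a : SimplexCategory} (ha : a.len ≤ n)
    (α : a ⟶ ⦋p + 2⦌) :
    ((SimplicialObject.cosk n).obj X).σ i ≫ hmap n f g hfg j ≫ pr n X' ha α =
      pr n X ha (α ≫ SimplexCategory.σ j ≫ SimplexCategory.σ i) ≫
        (ch f g (j : ℕ) ((α.toOrderHom 0 : Fin (p + 2 + 1)) : ℕ)).app (op a) := by
  rw [hmap_pr, ← Category.assoc]
  have e1 : ((SimplicialObject.cosk n).obj X).σ i ≫ pr n X ha (α ≫ SimplexCategory.σ j) =
      pr n X ha ((α ≫ SimplexCategory.σ j) ≫ SimplexCategory.σ i) :=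
    map_pr n X ha (α ≫ SimplexCategory.σ j) (SimplexCategory.σ i)
  rw [e1, Category.assoc α]

lemma ch_pos {i x : ℕ} (h : i < x) : ch f g i x = g := if_pos h
lemma ch_neg {i x : ℕ} (h : ¬ i < x) : ch f g i x = f := if_neg h

include hfg in
theorem main : Nonempty (SimplicialObject.Homotopy ((SimplicialObject.cosk n).map f)
    ((SimplicialObject.cosk n).map g)) := by
  refine ⟨{ h := fun {p} i => hmap n f g hfg i
            h_zero_comp_δ_zero := ?_
            h_last_comp_δ_last := ?_
            h_succ_comp_δ_castSucc_of_lt := ?_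
            h_succ_comp_δ_castSucc_succ := ?_
            h_castSucc_comp_δ_succ_of_lt := ?_
            h_comp_σ_castSucc_of_le := ?_
            h_comp_σ_succ_of_lt := ?_ }⟩
  · -- h 0 ≫ δ 0 = g
    intro p
    apply pr_hom_ext n X'
    intro a ha α
    rw [Category.assoc, cosk_map_pr, hmap_δ_pr,
      SimplexCategory.δ_comp_σ_self' (by simp), Category.comp_id, ch_pos]
    simp
  · -- h last ≫ δ last = f
    intro p
    apply pr_hom_ext n X'
    intro a ha α
    rw [Category.assoc, cosk_map_pr, hmap_δ_pr,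
      SimplexCategory.δ_comp_σ_succ' (by simp), Category.comp_id, ch_neg]
    have hx : ((α.toOrderHom 0 : Fin (p + 1)) : ℕ) < p + 1 := (α.toOrderHom 0 : Fin (p + 1)).2
    generalize ((α.toOrderHom 0 : Fin (p + 1)) : ℕ) = x at hx ⊢
    simp only [Fin.val_last]
    split_ifs <;> omega
  · -- h j.succ ≫ δ i.castSucc = δ i ≫ h j  (i ≤ j.castSucc)
    intro p i j hij
    apply pr_hom_ext n X'
    intro a ha α
    rw [Category.assoc, Category.assoc, hmap_δ_pr, δ_hmap_pr, SimplexCategory.δ_comp_σ_of_le hij]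
    refine congrArg (fun c => _ ≫ (NatTrans.app c (op a))) (ch_congr f g ?_)
    have hx : ((α.toOrderHom 0 : Fin (p + 1 + 1)) : ℕ) < p + 1 + 1 :=
      (α.toOrderHom 0 : Fin (p + 1 + 1)).2
    generalize ((α.toOrderHom 0 : Fin (p + 1 + 1)) : ℕ) = x at hx ⊢
    simp only [Fin.val_succ, Fin.val_castSucc, Fin.le_def] at hij ⊢
    split_ifs <;> omega
  · -- h j.succ ≫ δ j.castSucc.succ = h j.castSucc ≫ δ j.castSucc.succ
    intro p j
    apply pr_hom_ext n X'
    intro a ha α
    rw [Category.assoc, Category.assoc, hmap_δ_pr, hmap_δ_pr,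
      SimplexCategory.δ_comp_σ_self' (by simp), SimplexCategory.δ_comp_σ_succ' (by simp)]
    refine congrArg (fun c => _ ≫ (NatTrans.app c (op a))) (ch_congr f g ?_)
    have hx : ((α.toOrderHom 0 : Fin (p + 1 + 1)) : ℕ) < p + 1 + 1 :=
      (α.toOrderHom 0 : Fin (p + 1 + 1)).2
    generalize ((α.toOrderHom 0 : Fin (p + 1 + 1)) : ℕ) = x at hx ⊢
    simp only [Fin.val_succ, Fin.val_castSucc]
    split_ifs <;> omega
  · -- h j.castSucc ≫ δ i.succ = δ i ≫ h j  (j.castSucc < i)
    intro p i j hji
    apply pr_hom_ext n X'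
    intro a ha α
    rw [Category.assoc, Category.assoc, hmap_δ_pr, δ_hmap_pr, SimplexCategory.δ_comp_σ_of_gt hji]
    refine congrArg (fun c => _ ≫ (NatTrans.app c (op a))) (ch_congr f g ?_)
    have hx : ((α.toOrderHom 0 : Fin (p + 1 + 1)) : ℕ) < p + 1 + 1 :=
      (α.toOrderHom 0 : Fin (p + 1 + 1)).2
    generalize ((α.toOrderHom 0 : Fin (p + 1 + 1)) : ℕ) = x at hx ⊢
    simp only [Fin.val_succ, Fin.val_castSucc, Fin.lt_def] at hji ⊢
    split_ifs <;> omega
  · -- h j ≫ σ i.castSucc = σ i ≫ h j.succ  (i ≤ j)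
    intro p i j hij
    apply pr_hom_ext n X'
    intro a ha α
    rw [Category.assoc, Category.assoc, hmap_σ_pr, σ_hmap_pr, SimplexCategory.σ_comp_σ hij]
    refine congrArg (fun c => _ ≫ (NatTrans.app c (op a))) (ch_congr f g ?_)
    have hx : ((α.toOrderHom 0 : Fin (p + 2 + 1)) : ℕ) < p + 2 + 1 :=
      (α.toOrderHom 0 : Fin (p + 2 + 1)).2
    generalize ((α.toOrderHom 0 : Fin (p + 2 + 1)) : ℕ) = x at hx ⊢
    simp only [Fin.val_succ, Fin.val_castSucc, Fin.le_def] at hij ⊢
    split_ifs <;> omega
  · -- h j ≫ σ i.succ = σ i ≫ h j.castSucc  (j ≤ i)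
    intro p i j hji
    apply pr_hom_ext n X'
    intro a ha α
    rw [Category.assoc, Category.assoc, hmap_σ_pr, σ_hmap_pr, ← SimplexCategory.σ_comp_σ hji]
    refine congrArg (fun c => _ ≫ (NatTrans.app c (op a))) (ch_congr f g ?_)
    have hx : ((α.toOrderHom 0 : Fin (p + 2 + 1)) : ℕ) < p + 2 + 1 :=
      (α.toOrderHom 0 : Fin (p + 2 + 1)).2
    generalize ((α.toOrderHom 0 : Fin (p + 2 + 1)) : ℕ) = x at hx ⊢
    simp only [Fin.val_succ, Fin.val_castSucc, Fin.le_def] at hji ⊢
    split_ifs <;> omega

end final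

end helpers

/-- Let E be a category with finite limits, n a natural number and f, g : X ⟶ X' two morphisms of
simplicial objects of E whose components agree in every degree p < n. Then there is a simplicial
homotopy between the morphisms cosk_n(f) and cosk_n(g) of n-coskeleta (cosk_n = right Kan extension
of the n-truncation; Mathlib's combinatorial simplicial homotopies). For n = 0 the hypothesis is
empty. -/
theorem result {E : Type u} [Category.{v} E] [HasFiniteLimits E] (n : ℕ)
    [∀ (F : (SimplexCategory.Truncated n)ᵒᵖ ⥤ E), (SimplexCategory.Truncated.inclusion n).op.HasRightKanExtension F]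
    {X X' : SimplicialObject E} (f g : X ⟶ X')
    (hfg : ∀ p : ℕ, p < n → f.app (op (SimplexCategory.mk p)) = g.app (op (SimplexCategory.mk p))) :
    Nonempty (SimplicialObject.Homotopy ((SimplicialObject.cosk n).map f) ((SimplicialObject.cosk n).map g)) := by
  exact main n f g hfg

end Groth.Agent.S8565
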