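import Groth.Statements.S8569
import Mathlib

set_option autoImplicit false
open CategoryTheory
universe v u
open SGA4

namespace Groth.Agent.S8569

set_option linter.unusedSectionVars false

section helpers

open CategoryTheory.Limits Opposite CategoryTheory.Prod

variable {C D : Type u} [SmallCategory C] [SmallCategory D] (J : GrothendieckTopology C)

/-- The slice of a sieve of `(d, c)` along the identity of `d`. -/
def slice {X : Dᵒᵖ × C} (S : Sieve X) : Sieve X.2 where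
  arrows c' f := S.arrows (Y := (X.1, c')) (Prod.mkHom (𝟙 X.1) f)
  downward_closed := by
    intro c' c'' f hf g
    have h : (Prod.mkHom (𝟙 X.1) (g ≫ f) : ((X.1, c'') : Dᵒᵖ × C) ⟶ X) =
        (Prod.mkHom (𝟙 X.1) g : ((X.1, c'') : Dᵒᵖ × C) ⟶ (X.1, c')) ≫
          (Prod.mkHom (𝟙 X.1) f : ((X.1, c') : Dᵒᵖ × C) ⟶ X) := by
      apply Prod.hom_ext
      · exact (Category.comp_id _).symm
      · rfl
    rw [h]
    exact S.downward_closed hf _

lemma slice_pullback {X Y : Dᵒᵖ × C} (S : Sieve X) (k : Y ⟶ X) :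
    (slice S).pullback k.2 ≤ slice (S.pullback k) := by
  intro c' f hf
  change S.arrows _
  have h : (Prod.mkHom (𝟙 Y.1) f : ((Y.1, c') : Dᵒᵖ × C) ⟶ Y) ≫ k =
      (Prod.mkHom k.1 (𝟙 c') : ((Y.1, c') : Dᵒᵖ × C) ⟶ (X.1, c')) ≫
        (Prod.mkHom (𝟙 X.1) (f ≫ k.2) : ((X.1, c') : Dᵒᵖ × C) ⟶ X) := by
    apply Prod.hom_ext
    · exact (Category.id_comp _).trans (Category.comp_id _).symm
    · exact (Category.id_comp _).symm
  rw [h]
  exact S.downward_closed hf _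

lemma slice_pullback_id {X : Dᵒᵖ × C} (S : Sieve X) {c' : C} (f : c' ⟶ X.2) :
    slice (S.pullback (Prod.mkHom (𝟙 X.1) f : ((X.1, c') : Dᵒᵖ × C) ⟶ X)) =
      (slice S).pullback f := by
  ext c'' g
  change S.arrows _ ↔ S.arrows _
  have h : (Prod.mkHom (𝟙 X.1) g : ((X.1, c'') : Dᵒᵖ × C) ⟶ (X.1, c')) ≫
      (Prod.mkHom (𝟙 X.1) f : ((X.1, c') : Dᵒᵖ × C) ⟶ X) =
      (Prod.mkHom (𝟙 X.1) (g ≫ f) : ((X.1, c'') : Dᵒᵖ × C) ⟶ X) := by
    apply Prod.hom_ext
    · exact Category.comp_id _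
    · rfl
  rw [h]

/-- The topology on `Dᵒᵖ × C` whose covering sieves are those with covering slice. -/
def prodTopology : GrothendieckTopology (Dᵒᵖ × C) where
  sieves X := {S | slice S ∈ J X.2}
  top_mem' X := by
    change slice ⊤ ∈ J X.2
    have : slice (⊤ : Sieve X) = ⊤ := by
      ext c' f
      exact ⟨fun _ => trivial, fun _ => trivial⟩
    rw [this]
    exact J.top_mem _
  pullback_stable' X Y S k hS :=
    J.superset_covering (slice_pullback S k) (J.pullback_stable k.2 hS)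
  transitive' X S hS R hR := by
    refine J.transitive hS (slice R) ?_
    intro c' f hf
    have h2 : slice (R.pullback
        (Prod.mkHom (𝟙 X.1) f : ((X.1, c') : Dᵒᵖ × C) ⟶ X)) ∈ J c' := hR hf
    rwa [slice_pullback_id] at h2

lemma family_congr {X : Dᵒᵖ × C} {Q : (Dᵒᵖ × C)ᵒᵖ ⥤ Type u} {R : Presieve X}
    (x : Presieve.FamilyOfElements Q R) {Y : Dᵒᵖ × C} {k k' : Y ⟶ X} (e : k = k') (hk : R k)
    (hk' : R k') : x k hk = x k' hk' := by
  subst e
  rfl

/-- A presheaf all of whose fibres are sheaves is a sheaf for the product topology. -/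
theorem isSheaf_of_fibres (Q : (Dᵒᵖ × C)ᵒᵖ ⥤ Type u)
    (hQ : ∀ e : Dᵒᵖ, Presieve.IsSheaf J ((Prod.sectR e C).op ⋙ Q)) :
    Presieve.IsSheaf (prodTopology J) Q := by
  intro X S hS
  have hS' : slice S ∈ J X.2 := hS
  intro x hx
  have hxs := (Presieve.compatible_iff_sieveCompatible x).1 hx
  let x₀ : Presieve.FamilyOfElements ((Prod.sectR X.1 C).op ⋙ Q) (slice S).arrows :=
    fun c' f hf => x (Y := (X.1, c')) (Prod.mkHom (𝟙 X.1) f) hf
  have hx₀ : x₀.Compatible := by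
    rw [Presieve.compatible_iff_sieveCompatible]
    intro c' c'' f g hf
    have h := hxs (Y := (X.1, c')) (Z := (X.1, c'')) (Prod.mkHom (𝟙 X.1) f)
      (Prod.mkHom (𝟙 X.1) g) hf
    refine Eq.trans ?_ h
    have e : (Prod.mkHom (𝟙 X.1) (g ≫ f) : ((X.1, c'') : Dᵒᵖ × C) ⟶ X) =
        (Prod.mkHom (𝟙 X.1) g : ((X.1, c'') : Dᵒᵖ × C) ⟶ (X.1, c')) ≫
          (Prod.mkHom (𝟙 X.1) f : ((X.1, c') : Dᵒᵖ × C) ⟶ X) :=
      Prod.hom_ext (Category.comp_id _).symm rfl
    exact family_congr x e _ _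
  obtain ⟨t, ht, huniq⟩ := hQ X.1 (slice S) hS' x₀ hx₀
  refine ⟨t, ?_, ?_⟩
  · intro Y k hk
    have hcov : (slice S).pullback k.2 ∈ J Y.2 := J.pullback_stable k.2 hS'
    refine (hQ Y.1 _ hcov).isSeparatedFor.ext ?_
    intro c'' f hf
    have hf' : S.arrows (Y := (X.1, c'')) (Prod.mkHom (𝟙 X.1) (f ≫ k.2)) := hf
    have hdec : (Prod.mkHom (𝟙 Y.1) f : ((Y.1, c'') : Dᵒᵖ × C) ⟶ Y) ≫ k =
        (Prod.mkHom k.1 (𝟙 c'') : ((Y.1, c'') : Dᵒᵖ × C) ⟶ (X.1, c'')) ≫
          (Prod.mkHom (𝟙 X.1) (f ≫ k.2) : ((X.1, c'') : Dᵒᵖ × C) ⟶ X) :=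
      Prod.hom_ext ((Category.id_comp _).trans (Category.comp_id _).symm)
        (Category.id_comp _).symm
    change Q.map (Prod.mkHom (𝟙 Y.1) f : ((Y.1, c'') : Dᵒᵖ × C) ⟶ Y).op (Q.map k.op t) =
      Q.map (Prod.mkHom (𝟙 Y.1) f : ((Y.1, c'') : Dᵒᵖ × C) ⟶ Y).op (x k hk)
    rw [← Functor.map_comp_apply, ← op_comp, hdec, op_comp, Functor.map_comp_apply]
    have h1 : Q.map (Prod.mkHom (𝟙 X.1) (f ≫ k.2) : ((X.1, c'') : Dᵒᵖ × C) ⟶ X).op t =
        x (Y := (X.1, c'')) (Prod.mkHom (𝟙 X.1) (f ≫ k.2)) hf' := ht (f ≫ k.2) hf'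
    rw [h1]
    have h2 := hxs (Y := (X.1, c'')) (Z := (Y.1, c''))
      (Prod.mkHom (𝟙 X.1) (f ≫ k.2)) (Prod.mkHom k.1 (𝟙 c'')) hf'
    have h3 := hxs (Y := Y) (Z := (Y.1, c'')) k (Prod.mkHom (𝟙 Y.1) f) hk
    rw [← h2, ← h3]
    exact family_congr x hdec.symm _ _
  · intro t' ht'
    apply huniq
    intro c' f hf
    exact ht' _ hf

/-- The sieve of `(e, c)` of all morphisms whose second component is in a given sieve of `c`. -/
def thicken (e : Dᵒᵖ) {c : C} (S₀ : Sieve c) : Sieve ((e, c) : Dᵒᵖ × C) where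
  arrows Y k := S₀.arrows k.2
  downward_closed := by
    intro Y Z k hk l
    exact S₀.downward_closed hk l.2

lemma slice_thicken (e : Dᵒᵖ) {c : C} (S₀ : Sieve c) : slice (thicken (D := D) e S₀) = S₀ := by
  ext c' f
  exact Iff.rfl

/-- The fibres of a sheaf for the product topology are sheaves. -/
theorem isSheaf_fibre (Q : (Dᵒᵖ × C)ᵒᵖ ⥤ Type u) (hQ : Presieve.IsSheaf (prodTopology J) Q)
    (e : Dᵒᵖ) : Presieve.IsSheaf J ((Prod.sectR e C).op ⋙ Q) := by
  intro c S₀ hS₀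
  have hS : thicken (D := D) e S₀ ∈ prodTopology J (e, c) := by
    show slice (thicken (D := D) e S₀) ∈ J c
    rw [slice_thicken]
    exact hS₀
  intro x₀ hx₀
  have hx₀s := (Presieve.compatible_iff_sieveCompatible x₀).1 hx₀
  let x : Presieve.FamilyOfElements Q (thicken (D := D) e S₀).arrows := fun Y k hk =>
    Q.map (Prod.mkHom k.1 (𝟙 Y.2) : Y ⟶ ((e, Y.2) : Dᵒᵖ × C)).op (x₀ k.2 hk)
  have hx : x.Compatible := by
    rw [Presieve.compatible_iff_sieveCompatible]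
    intro Y Z k l hk
    have h1 : x₀ (l.2 ≫ k.2) (S₀.downward_closed hk l.2) =
        Q.map (Prod.mkHom (𝟙 e) l.2 : ((e, Z.2) : Dᵒᵖ × C) ⟶ (e, Y.2)).op (x₀ k.2 hk) :=
      hx₀s k.2 l.2 hk
    change Q.map (Prod.mkHom (l.1 ≫ k.1) (𝟙 Z.2) : Z ⟶ ((e, Z.2) : Dᵒᵖ × C)).op
        (x₀ (l.2 ≫ k.2) _) =
      Q.map l.op (Q.map (Prod.mkHom k.1 (𝟙 Y.2) : Y ⟶ ((e, Y.2) : Dᵒᵖ × C)).op (x₀ k.2 hk))
    have he : (Prod.mkHom (l.1 ≫ k.1) (𝟙 Z.2) : Z ⟶ ((e, Z.2) : Dᵒᵖ × C)) ≫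
        (Prod.mkHom (𝟙 e) l.2 : ((e, Z.2) : Dᵒᵖ × C) ⟶ (e, Y.2)) =
        l ≫ (Prod.mkHom k.1 (𝟙 Y.2) : Y ⟶ ((e, Y.2) : Dᵒᵖ × C)) := by
      refine Prod.hom_ext ?_ ?_
      · exact Category.comp_id _
      · exact (Category.id_comp _).trans (Category.comp_id _).symm
    rw [h1, ← Functor.map_comp_apply, ← Functor.map_comp_apply, ← op_comp, ← op_comp, he]
  obtain ⟨t, ht, huniq⟩ := hQ _ hS x hx
  refine ⟨t, ?_, ?_⟩
  · intro c' f hf
    have h := ht (Y := (e, c')) (Prod.mkHom (𝟙 e) f) hf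
    refine h.trans ?_
    change Q.map (𝟙 _) (x₀ f hf) = x₀ f hf
    rw [Functor.map_id_apply]
  · intro t' ht'
    apply huniq
    intro Y k hk
    have h := ht' k.2 hk
    change Q.map k.op t' =
      Q.map (Prod.mkHom k.1 (𝟙 Y.2) : Y ⟶ ((e, Y.2) : Dᵒᵖ × C)).op (x₀ k.2 hk)
    rw [← h]
    change _ = Q.map _ (Q.map (Prod.mkHom (𝟙 e) k.2 : ((e, Y.2) : Dᵒᵖ × C) ⟶ (e, c)).op t')
    have he : k = (Prod.mkHom k.1 (𝟙 Y.2) : Y ⟶ ((e, Y.2) : Dᵒᵖ × C)) ≫
        (Prod.mkHom (𝟙 e) k.2 : ((e, Y.2) : Dᵒᵖ × C) ⟶ (e, c)) := by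
      refine Prod.hom_ext ?_ ?_
      · exact (Category.comp_id _).symm
      · exact (Category.id_comp _).symm
    rw [← Functor.map_comp_apply, ← op_comp, ← he]

/-- The reindexing functor `(Dᵒᵖ × C)ᵒᵖ ⥤ D × Cᵒᵖ`. -/
def T : (Dᵒᵖ × C)ᵒᵖ ⥤ D × Cᵒᵖ where
  obj X := (X.unop.1.unop, op X.unop.2)
  map f := Prod.mkHom f.unop.1.unop f.unop.2.op
  map_id _ := rfl
  map_comp _ _ := rfl

/-- The inverse reindexing functor. -/
def T' : D × Cᵒᵖ ⥤ (Dᵒᵖ × C)ᵒᵖ where
  obj Y := op (op Y.1, Y.2.unop)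
  map {Y Y'} f := (Prod.mkHom f.1.op f.2.unop :
    ((op Y'.1, Y'.2.unop) : Dᵒᵖ × C) ⟶ (op Y.1, Y.2.unop)).op
  map_id _ := rfl
  map_comp _ _ := rfl

/-- The reindexing equivalence. -/
def Teq : (Dᵒᵖ × C)ᵒᵖ ≌ D × Cᵒᵖ :=
  CategoryTheory.Equivalence.mk (T (C := C) (D := D)) T'
    (NatIso.ofComponents (fun X => Iso.refl _) (fun {X Y} f => by
      change f ≫ 𝟙 _ = 𝟙 _ ≫ f
      rw [Category.comp_id, Category.id_comp]))
    (NatIso.ofComponents (fun Y => Iso.refl _) (fun {X Y} f => by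
      change f ≫ 𝟙 _ = 𝟙 _ ≫ f
      rw [Category.comp_id, Category.id_comp]))

/-- The equivalence between `D`-indexed families of presheaves on `C` and presheaves on
`Dᵒᵖ × C`. -/
def Eqv : (D ⥤ Cᵒᵖ ⥤ Type u) ≌ ((Dᵒᵖ × C)ᵒᵖ ⥤ Type u) :=
  Functor.currying.trans (Teq (C := C) (D := D)).congrLeft.symm

/-- The fibre over `e` of the presheaf attached to a family `H` is `H.obj e.unop`. -/
def fibIso (H : D ⥤ Cᵒᵖ ⥤ Type u) (e : Dᵒᵖ) :
    (Prod.sectR e C).op ⋙ (Eqv (C := C) (D := D)).functor.obj H ≅ H.obj e.unop :=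
  NatIso.ofComponents (fun c => Iso.refl _) (fun {c c'} f => by
    change ((H.map (𝟙 e.unop)).app c ≫ (H.obj e.unop).map f) ≫ 𝟙 _ = 𝟙 _ ≫ (H.obj e.unop).map f
    rw [H.map_id]
    simp)

lemma isSheaf_Eqv_functor (H : D ⥤ Cᵒᵖ ⥤ Type u) (hH : ∀ d, Presieve.IsSheaf J (H.obj d)) :
    Presieve.IsSheaf (prodTopology J) ((Eqv (C := C) (D := D)).functor.obj H) :=
  isSheaf_of_fibres J _ (fun e => Presieve.isSheaf_iso J (fibIso H e).symm (hH e.unop))

/-- From families of sheaves to sheaves for the product topology. -/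
def Φ : (D ⥤ Sheaf J (Type u)) ⥤ Sheaf (prodTopology (D := D) J) (Type u) where
  obj G := ⟨(Eqv (C := C) (D := D)).functor.obj (G ⋙ sheafToPresheaf J (Type u)),
    (isSheaf_iff_isSheaf_of_type _ _).2 (isSheaf_Eqv_functor J _
      (fun d => (isSheaf_iff_isSheaf_of_type _ _).1 (G.obj d).property))⟩
  map τ := ⟨(Eqv (C := C) (D := D)).functor.map
    (Functor.whiskerRight τ (sheafToPresheaf J (Type u)))⟩
  map_id G := by
    apply Sheaf.hom_ext
    change (Eqv (C := C) (D := D)).functor.map (Functor.whiskerRight (𝟙 G) _) = 𝟙 _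
    rw [Functor.whiskerRight_id']
    exact (Eqv (C := C) (D := D)).functor.map_id _
  map_comp τ σ := by
    apply Sheaf.hom_ext
    change (Eqv (C := C) (D := D)).functor.map (Functor.whiskerRight (τ ≫ σ) _) =
      (Eqv (C := C) (D := D)).functor.map _ ≫ (Eqv (C := C) (D := D)).functor.map _
    rw [Functor.whiskerRight_comp]
    exact (Eqv (C := C) (D := D)).functor.map_comp _ _

/-- `Φ` is fully faithful. -/
def ΦFF : (Φ (D := D) J).FullyFaithful :=
  Functor.FullyFaithful.ofCompFaithful (G := sheafToPresheaf (prodTopology (D := D) J) (Type u))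
    (show ((Functor.whiskeringRight D _ _).obj (sheafToPresheaf J (Type u)) ⋙
        (Eqv (C := C) (D := D)).functor).FullyFaithful from
      ((fullyFaithfulSheafToPresheaf J (Type u)).whiskeringRight D).comp
        (Eqv (C := C) (D := D)).fullyFaithfulFunctor)

instance : (Φ (D := D) J).Full := (ΦFF J).full

instance : (Φ (D := D) J).Faithful := (ΦFF J).faithful

instance : (Φ (D := D) J).EssSurj where
  mem_essImage Q := by
    let H : D ⥤ Cᵒᵖ ⥤ Type u := (Eqv (C := C) (D := D)).inverse.obj Q.obj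
    let ε : (Eqv (C := C) (D := D)).functor.obj H ≅ Q.obj :=
      (Eqv (C := C) (D := D)).counitIso.app Q.obj
    have hQ : Presieve.IsSheaf (prodTopology (D := D) J) Q.obj :=
      (isSheaf_iff_isSheaf_of_type _ _).1 Q.property
    have hH : ∀ d, Presheaf.IsSheaf J (H.obj d) := by
      intro d
      rw [isSheaf_iff_isSheaf_of_type]
      have h1 : Presieve.IsSheaf J ((Prod.sectR (op d) C).op ⋙ Q.obj) :=
        isSheaf_fibre J Q.obj hQ (op d)
      have h2 : Presieve.IsSheaf J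
          ((Prod.sectR (op d) C).op ⋙ (Eqv (C := C) (D := D)).functor.obj H) :=
        Presieve.isSheaf_iso J (Functor.isoWhiskerLeft (Prod.sectR (op d) C).op ε).symm h1
      exact Presieve.isSheaf_iso J (fibIso H (op d)) h2
    let G : D ⥤ Sheaf J (Type u) :=
      { obj := fun d => ⟨H.obj d, hH d⟩
        map := fun m => ⟨H.map m⟩
        map_id := fun d => by
          apply Sheaf.hom_ext
          exact H.map_id d
        map_comp := fun m m' => by
          apply Sheaf.hom_ext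
          exact H.map_comp m m' }
    have hG : G ⋙ sheafToPresheaf J (Type u) = H := rfl
    refine ⟨G, ⟨(fullyFaithfulSheafToPresheaf _ _).preimageIso ?_⟩⟩
    exact ε

end helpers

/-- Let E be a topos (a category equivalent to the category of sheaves of sets on a small site, for the
universe u) and D a u-small category. Then the category of functors D ⥤ E, which is the category of
sections of the constant D-topos with value E, is a topos. (The published statement is for an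
arbitrary D-topos, i.e. a category bifibred in topoi over D; this row is the case of a constant
one.) -/
theorem result {E : Type v} [Category.{u} E] (hE : SGA4.IsTopos E)
    (D : Type u) [SmallCategory D] : SGA4.IsTopos (D ⥤ E) := by
  obtain ⟨C, hC, J, ⟨e⟩⟩ := hE
  have : (Φ (D := D) J).IsEquivalence := { }
  exact ⟨Dᵒᵖ × C, inferInstance, prodTopology (D := D) J,
    ⟨(e.congrRight (E := D)).trans (Φ (D := D) J).asEquivalence⟩⟩

end Groth.Agent.S8569
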