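import Groth.Statements.S8580
import Groth.Agent.Lib.Helper24.SplitCx
import Groth.Agent.Lib.Helper24.EtDesc

set_option autoImplicit false
open CategoryTheory CategoryTheory.Limits AlgebraicGeometry
universe u
open EtDesc

namespace Groth.Agent.S8580

open Groth.Agent.Helper24

section
variable {X S : Scheme.{u}} (f : X ⟶ S) (s : S ⟶ X) (hs : s ≫ f = 𝟙 S)

/-- the `(p+1)`-fold fibre product -/
noncomputable abbrev Xp (p : ℕ) : Scheme.{u} :=
  widePullback S (fun _ : Fin (p + 1) => X) (fun _ => f)

/-- its projection to the base -/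
noncomputable abbrev bp (p : ℕ) : Xp f p ⟶ S := WidePullback.base (fun _ : Fin (p + 1) => f)

/-- forget the last coordinate -/
noncomputable def πp (p : ℕ) : Xp f (p + 1) ⟶ Xp f p :=
  WidePullback.lift (bp f (p + 1))
    (fun j => WidePullback.π (fun _ : Fin (p + 1 + 1) => f) (Fin.castSucc j))
    (fun j => WidePullback.π_arrow (fun _ : Fin (p + 1 + 1) => f) (Fin.castSucc j))

lemma πp_bp (p : ℕ) : πp f p ≫ bp f p = bp f (p + 1) :=
  WidePullback.lift_base _ _ _ _

lemma πp_π (p : ℕ) (j : Fin (p + 1)) :
    πp f p ≫ WidePullback.π (fun _ : Fin (p + 1) => f) j =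
      WidePullback.π (fun _ : Fin (p + 1 + 1) => f) (Fin.castSucc j) :=
  WidePullback.lift_π _ _ _ _ _

/-- add a last coordinate using the section -/
noncomputable def σp (p : ℕ) : Xp f p ⟶ Xp f (p + 1) :=
  WidePullback.lift (bp f p)
    (fun j => Fin.lastCases (bp f p ≫ s) (fun j' => WidePullback.π (fun _ : Fin (p + 1) => f) j') j)
    (by
      intro j
      refine Fin.lastCases ?_ (fun j' => ?_) j
      · rw [Fin.lastCases_last, Category.assoc, hs, Category.comp_id]
      · rw [Fin.lastCases_castSucc]
        exact WidePullback.π_arrow (fun _ : Fin (p + 1) => f) j')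

lemma σp_bp (p : ℕ) : σp f s hs p ≫ bp f (p + 1) = bp f p :=
  WidePullback.lift_base _ _ _ _

lemma σp_π (p : ℕ) (j : Fin (p + 1)) :
    σp f s hs p ≫ WidePullback.π (fun _ : Fin (p + 1 + 1) => f) (Fin.castSucc j) =
      WidePullback.π (fun _ : Fin (p + 1) => f) j := by
  have := WidePullback.lift_π (arrows := fun _ : Fin (p + 1 + 1) => f) (bp f p)
    (fun j => Fin.lastCases (bp f p ≫ s) (fun j' => WidePullback.π (fun _ : Fin (p + 1) => f) j') j)
    (by
      intro j
      refine Fin.lastCases ?_ (fun j' => ?_) j
      · rw [Fin.lastCases_last, Category.assoc, hs, Category.comp_id]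
      · rw [Fin.lastCases_castSucc]
        exact WidePullback.π_arrow (fun _ : Fin (p + 1) => f) j') (Fin.castSucc j)
  rw [Fin.lastCases_castSucc] at this
  exact this

lemma σp_πp (p : ℕ) : σp f s hs p ≫ πp f p = 𝟙 _ := by
  apply WidePullback.hom_ext
  · intro j
    rw [Category.assoc, πp_π, σp_π, Category.id_comp]
  · rw [Category.assoc]
    erw [πp_bp, σp_bp, Category.id_comp]

/-- the section of the zeroth stage -/
noncomputable def σ0 : S ⟶ Xp f 0 :=
  WidePullback.lift (𝟙 S) (fun _ => s) (fun _ => hs)

lemma σ0_bp : σ0 f s hs ≫ bp f 0 = 𝟙 S :=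
  WidePullback.lift_base _ _ _ _

end

/-- In the setting of schemes and abelian sheaves on their small etale sites (where every morphism is
flat for the inverse image of sheaves), let f : X → Y be a morphism of schemes with a section s, s
followed by f being the identity, and F any abelian sheaf on the small etale site of Y. Then f is of
universal cohomological descent, and the descent spectral sequence reads, in existence form: there
is a bounded spectral sequence of abelian groups starting at page one with E_1^{p,q} isomorphic, for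
p, q ≥ 0, to the etale cohomology group H^q(X_p, F|X_p), where X_p is the (p+1)-fold fibre product
of X over Y and F|X_p the inverse image of F along its projection to Y, and zero otherwise, together
with abutment data whose filtrations are finite on H^n(Y_et, F) for n ≥ 0 (zero for n < 0). (The E_1
identifications and the abutment isomorphisms are asserted to exist only; the differentials are not
part of this statement.) -/
theorem result {X Y : Scheme.{u}} (f : X ⟶ Y) (s : Y ⟶ X)
    (hs : s ≫ f = 𝟙 Y) (F : EtCoh.Ab Y) :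
    ∃ (E : CohomologicalSpectralSequence AddCommGrpCat.{u + 1} 1)
      (a : SpSeq.Abutment E (fun n : ℤ =>
        if 0 ≤ n then AddCommGrpCat.of (EtCoh.H Y F n.toNat) else AddCommGrpCat.of PUnit.{u + 2})),
      (∀ n, a.IsFinite n) ∧ SpSeq.IsBounded E ∧
      ∀ p q : ℤ, Nonempty ((E.page 1 le_rfl).X (p, q) ≅
        (if 0 ≤ p ∧ 0 ≤ q then
          AddCommGrpCat.of (EtCoh.H (widePullback Y (fun _ : Fin (p.toNat + 1) => X) (fun _ => f))
            ((EtCoh.pull (WidePullback.base (fun _ : Fin (p.toNat + 1) => f) :
              widePullback Y (fun _ : Fin (p.toNat + 1) => X) (fun _ => f) ⟶ Y)).obj F) q.toNat)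
         else AddCommGrpCat.of PUnit.{u + 2})) := by
  have h0 := fun q : ℕ => Helper24.EtDesc.exists_retract (bp f 0) (σ0 f s hs) (σ0_bp f s hs) F
    ((EtCoh.pull (bp f 0)).obj F) (Iso.refl _) q
  have h1 := fun (p q : ℕ) => Helper24.EtDesc.exists_retract (πp f p) (σp f s hs p) (σp_πp f s hs p)
    ((EtCoh.pull (bp f p)).obj F) ((EtCoh.pull (bp f (p + 1))).obj F)
    ((EtCore.pullComp (πp f p) (bp f p)).symm.app F ≪≫
      eqToIso (congrArg (fun g => (EtCoh.pull g).obj F) (πp_bp f p))) q
  choose i₀ r₀ h₀ using h0
  choose i r h using h1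
  exact SplitCx.exists_ss_of_split
    (fun p q : ℕ => AddCommGrpCat.of (EtCoh.H (Xp f p) ((EtCoh.pull (bp f p)).obj F) q))
    (fun q : ℕ => AddCommGrpCat.of (EtCoh.H Y F q)) i₀ r₀ h₀ i r h
    (AddCommGrpCat.of PUnit.{u + 2}) (AddCommGrpCat.isZero_of_subsingleton _)

end Groth.Agent.S8580
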