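import Groth.Statements.S8586
import Mathlib

set_option autoImplicit false
universe u
open CAlg

namespace Groth.Agent.S8586

/-- Suppose A is a Cohen–Macaulay local ring whose Krull dimension is d, and consider two systems of
parameters u = (u_1, ..., u_d) and v = (v_1, ..., v_d) of A (that is, d-tuples of elements of the
maximal ideal m such that the ideal they generate has radical m). Then one can find a finite
sequence w_0 = u, w_1, ..., w_m = v, each term a system of parameters of A, where w_{k+1} arises
from w_k by altering just one coordinate. -/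
theorem result (A : Type u) [CommRing A] [LocCoh.IsCohenMacaulayLocalRing A]
    (d : ℕ) (hd : ringKrullDim A = d) (u v : Fin d → A)
    (hu : ∀ i, u i ∈ IsLocalRing.maximalIdeal A) (hu' : IsLocalRing.maximalIdeal A ≤ (Ideal.span (Set.range u)).radical)
    (hv : ∀ i, v i ∈ IsLocalRing.maximalIdeal A) (hv' : IsLocalRing.maximalIdeal A ≤ (Ideal.span (Set.range v)).radical) :
    ∃ (m : ℕ) (w : Fin (m + 1) → Fin d → A), w 0 = u ∧ w (Fin.last m) = v ∧
      (∀ k : Fin (m + 1), (∀ i, w k i ∈ IsLocalRing.maximalIdeal A) ∧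
        IsLocalRing.maximalIdeal A ≤ (Ideal.span (Set.range (w k))).radical) ∧
      (∀ k : Fin m, ∃ i : Fin d, ∀ i' : Fin d, i' ≠ i → w k.castSucc i' = w k.succ i') := by
  classical
  set m := IsLocalRing.maximalIdeal A with hm
  let sop : (Fin d → A) → Prop := fun w =>
    (∀ i, w i ∈ m) ∧ m ≤ (Ideal.span (Set.range w)).radical
  let Step : (Fin d → A) → (Fin d → A) → Prop := fun w w' =>
    ∃ i : Fin d, ∀ i' : Fin d, i' ≠ i → w i' = w' i'
  let Rel : (Fin d → A) → (Fin d → A) → Prop := fun w w' => sop w' ∧ Step w w'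
  have hconv : ∀ v', Relation.ReflTransGen Rel u v' →
      ∃ (n : ℕ) (w : Fin (n + 1) → Fin d → A), w 0 = u ∧ w (Fin.last n) = v' ∧
        (∀ k, sop (w k)) ∧ ∀ k : Fin n, Step (w k.castSucc) (w k.succ) := by
    intro v' h
    induction h with
    | refl => exact ⟨0, fun _ => u, rfl, rfl, fun _ => ⟨hu, hu'⟩, fun k => k.elim0⟩
    | @tail b c _ hbc ih =>
      obtain ⟨n, w, hw0, hwl, hwsop, hwstep⟩ := ih
      refine ⟨n + 1, Fin.snoc (α := fun _ => Fin d → A) w c, ?_, ?_, ?_, ?_⟩
      · rw [← Fin.castSucc_zero, Fin.snoc_castSucc]; exact hw0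
      · exact Fin.snoc_last (α := fun _ => Fin d → A) _ _
      · intro i
        refine Fin.lastCases ?_ (fun j => ?_) i
        · rw [Fin.snoc_last (α := fun _ => Fin d → A)]; exact hbc.1
        · rw [Fin.snoc_castSucc (α := fun _ => Fin d → A)]; exact hwsop j
      · intro i
        refine Fin.lastCases ?_ (fun j => ?_) i
        · rw [Fin.snoc_castSucc (α := fun _ => Fin d → A), Fin.succ_last,
            Fin.snoc_last (α := fun _ => Fin d → A), hwl]
          exact hbc.2
        · rw [Fin.snoc_castSucc (α := fun _ => Fin d → A), Fin.succ_castSucc,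
            Fin.snoc_castSucc (α := fun _ => Fin d → A)]
          exact hwstep j
  have hheight : m.height = (d : ℕ∞) := by
    have h1 := IsLocalRing.maximalIdeal_height_eq_ringKrullDim (R := A)
    rw [hd] at h1
    exact_mod_cast h1
  have key : ∀ (w : Fin d → A), sop w → ∀ k : Fin d, ∀ x ∈ m,
      (∀ Q ∈ (Ideal.span (w '' {i | i ≠ k})).minimalPrimes, x ∉ Q) →
      sop (Function.update w k x) := by
    rintro w ⟨hw, hw'⟩ k x hx hxQ
    refine ⟨?_, ?_⟩
    · intro i
      by_cases hik : i = k
      · subst hik; rw [Function.update_self]; exact hx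
      · rw [Function.update_of_ne hik]; exact hw i
    · rw [Ideal.radical_eq_sInf]
      refine le_sInf ?_
      rintro P ⟨hPle, hPprime⟩
      haveI := hPprime
      by_contra hmP
      have hPm : P ≤ m := IsLocalRing.le_maximalIdeal hPprime.ne_top
      have hlt : P < m := lt_of_le_of_ne hPm (fun h => hmP h.ge)
      set s : Set A := w '' {i | i ≠ k} with hs
      have hrange : Set.range w = insert (w k) s := by
        ext y
        constructor
        · rintro ⟨i, rfl⟩
          by_cases hik : i = k
          · left; rw [hik]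
          · right; exact ⟨i, hik, rfl⟩
        · rintro (rfl | ⟨i, _, rfl⟩)
          · exact ⟨k, rfl⟩
          · exact ⟨i, rfl⟩
      have hmmin : m ∈ (Ideal.span (insert (w k) s)).minimalPrimes := by
        rw [← hrange]
        refine ⟨⟨inferInstance, ?_⟩, ?_⟩
        · rw [Ideal.span_le]; rintro _ ⟨i, rfl⟩; exact hw i
        · rintro Q ⟨hQprime, hQle⟩ _
          exact hw'.trans (hQprime.radical_le_iff.mpr hQle)
      have hsP : s ⊆ P := by
        rintro _ ⟨i, hik, rfl⟩
        apply hPle
        apply Ideal.subset_span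
        exact ⟨i, by rw [Function.update_of_ne hik]⟩
      have hPmin := Ideal.mem_minimalPrimes_span_of_mem_minimalPrimes_span_insert hlt (w k) s
        hmmin s hsP
        (fun y hy => Ideal.le_radical (Ideal.subset_span (Set.mem_insert_of_mem _ hy)))
      apply hxQ P hPmin
      apply hPle
      apply Ideal.subset_span
      exact ⟨k, Function.update_self ..⟩
  have hne : ∀ (z : Fin d → A) (k : Fin d),
      ∀ Q ∈ (Ideal.span (z '' {i | i ≠ k})).minimalPrimes, ¬ m ≤ Q := by
    intro z k Q hQ hmQ
    haveI := hQ.1.1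
    have hQm : Q = m := le_antisymm (IsLocalRing.le_maximalIdeal hQ.1.1.ne_top) hmQ
    have hfin : (z '' {i | i ≠ k}).Finite := Set.toFinite _
    have h1 := Ideal.height_le_card_of_mem_minimalPrimes_span hfin hQ
    rw [hQm, hheight] at h1
    have h2 : (z '' {i | i ≠ k}).ncard ≤ ({i : Fin d | i ≠ k}).ncard :=
      Set.ncard_image_le (Set.toFinite _)
    have h3 : ({i : Fin d | i ≠ k}).ncard = d - 1 := by
      have : {i : Fin d | i ≠ k} = ({k} : Set (Fin d))ᶜ := by ext; simp
      rw [this, Set.ncard_compl, Set.ncard_singleton, Nat.card_eq_fintype_card, Fintype.card_fin]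
    have hd1 : 0 < d := k.pos
    have h4 : (d : ℕ∞) ≤ ((d - 1 : ℕ) : ℕ∞) := h1.trans (by exact_mod_cast h2.trans h3.le)
    have h5 : d ≤ d - 1 := by exact_mod_cast h4
    omega
  have hexists : ∀ (w w' : Fin d → A) (k : Fin d), ∃ x ∈ m,
      (∀ Q ∈ (Ideal.span (w '' {i | i ≠ k})).minimalPrimes, x ∉ Q) ∧
      (∀ Q ∈ (Ideal.span (w' '' {i | i ≠ k})).minimalPrimes, x ∉ Q) := by
    intro w w' k
    set F : Finset (Ideal A) :=
      (Ideal.finite_minimalPrimes_of_isNoetherianRing A
        (Ideal.span (w '' {i | i ≠ k}))).toFinset ∪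
      (Ideal.finite_minimalPrimes_of_isNoetherianRing A
        (Ideal.span (w' '' {i | i ≠ k}))).toFinset with hF
    have hFmem : ∀ Q, Q ∈ F ↔ Q ∈ (Ideal.span (w '' {i | i ≠ k})).minimalPrimes ∨
        Q ∈ (Ideal.span (w' '' {i | i ≠ k})).minimalPrimes := by
      intro Q; simp [hF]
    by_contra hcon
    push_neg at hcon
    have hsub : (m : Set A) ⊆ ⋃ Q ∈ (F : Set (Ideal A)), (Q : Set A) := by
      intro x hx
      by_cases h1 : ∀ Q ∈ (Ideal.span (w '' {i | i ≠ k})).minimalPrimes, x ∉ Q
      · obtain ⟨Q, hQ, hxQ⟩ := hcon x hx h1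
        exact Set.mem_biUnion (Finset.mem_coe.mpr ((hFmem Q).mpr (Or.inr hQ))) hxQ
      · push_neg at h1
        obtain ⟨Q, hQ, hxQ⟩ := h1
        exact Set.mem_biUnion (Finset.mem_coe.mpr ((hFmem Q).mpr (Or.inl hQ))) hxQ
    obtain ⟨Q, hQF, hmQ⟩ := (Ideal.subset_union_prime (s := F) (f := fun Q => Q) ⊥ ⊥
      (fun Q hQ _ _ => by
        rcases (hFmem Q).mp hQ with h | h
        · exact h.1.1
        · exact h.1.1)).mp hsub
    rcases (hFmem Q).mp hQF with h | h
    · exact hne w k Q h hmQ
    · exact hne w' k Q h hmQ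
  have main : ∀ (j : ℕ), j ≤ d → ∀ u' v' : Fin d → A, sop u' → sop v' →
      (∀ i : Fin d, i.val < d - j → u' i = v' i) → Relation.ReflTransGen Rel u' v' := by
    intro j
    induction j with
    | zero =>
      intro _ u' v' _ _ hag
      have : u' = v' := funext fun i => hag i (by have := i.isLt; omega)
      rw [this]
    | succ j ih =>
      intro hj u' v' hu1 hv1 hag
      let k : Fin d := ⟨d - (j + 1), by omega⟩
      obtain ⟨x, hx, hxu, hxv⟩ := hexists u' v' k
      have hu2 := key u' hu1 k x hx hxu
      have hv2 := key v' hv1 k x hx hxv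
      have hag2 : ∀ i : Fin d, i.val < d - j →
          Function.update u' k x i = Function.update v' k x i := by
        intro i hi
        by_cases hik : i = k
        · rw [hik, Function.update_self, Function.update_self]
        · rw [Function.update_of_ne hik, Function.update_of_ne hik]
          apply hag
          have : i.val ≠ d - (j + 1) := fun h => hik (Fin.ext h)
          omega
      have hmid := ih (by omega) _ _ hu2 hv2 hag2
      have h1 : Rel u' (Function.update u' k x) :=
        ⟨hu2, k, fun i' hi' => (Function.update_of_ne hi' _ _).symm⟩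
      have h2 : Rel (Function.update v' k x) v' :=
        ⟨hv1, k, fun i' hi' => Function.update_of_ne hi' _ _⟩
      exact (Relation.ReflTransGen.head h1 hmid).tail h2
  exact hconv v (main d le_rfl u v ⟨hu, hu'⟩ ⟨hv, hv'⟩ (fun i hi => by omega))

end Groth.Agent.S8586
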