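import Groth.Statements.S8591
import Mathlib.RingTheory.Norm.Defs
import Mathlib.RingTheory.AdjoinRoot
import Mathlib.LinearAlgebra.Charpoly.Basic
import Mathlib.LinearAlgebra.Determinant
import Mathlib.RingTheory.Polynomial.Resultant.Basic
import Mathlib.LinearAlgebra.Matrix.Charpoly.Minpoly
import Mathlib.LinearAlgebra.Matrix.Charpoly.LinearMap
import Mathlib.LinearAlgebra.Charpoly.ToMatrix

set_option autoImplicit false
universe u
open CAlg

namespace Groth.Agent.S8591

universe w

section Aux

open Polynomial Matrix

noncomputable def detAeval {R : Type u} [CommRing R] {n : Type w} [Fintype n] [DecidableEq n]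
    (A : Matrix n n R) : R[X] →* R :=
  (Matrix.detMonoidHom (n := n) (R := R)).comp ((aeval A : R[X] →ₐ[R] Matrix n n R) : R[X] →* Matrix n n R)

lemma detAeval_apply {R : Type u} [CommRing R] {n : Type w} [Fintype n] [DecidableEq n]
    (A : Matrix n n R) (P : R[X]) : detAeval A P = (aeval A P).det := rfl

lemma det_aeval_of_splits {K : Type u} [Field K] {n : Type w} [Fintype n] [DecidableEq n]
    (A : Matrix n n K) (P : K[X]) (hP : P.Splits) (d : ℕ) (hd : P.natDegree ≤ d) :
    (aeval A P).det = resultant A.charpoly P (Fintype.card n) d := by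
  obtain ⟨k, rfl⟩ := Nat.exists_eq_add_of_le hd
  have hmonic := A.charpoly_monic
  have hdeg : A.charpoly.natDegree = Fintype.card n := A.charpoly_natDegree_eq_dim
  rw [resultant_add_right_deg _ _ _ _ k le_rfl, ← hdeg, hmonic.coeff_natDegree, one_pow, one_mul,
    resultant_comm, resultant_eq_prod_eval P A.charpoly _ le_rfl hP, ← detAeval_apply]
  conv_lhs => rw [hP.eq_prod_roots]
  rw [map_mul, map_multiset_prod, Multiset.map_map]
  have h1 : detAeval A (C P.leadingCoeff) = P.leadingCoeff ^ A.charpoly.natDegree := by
    rw [detAeval_apply, aeval_C, hdeg, Algebra.algebraMap_eq_smul_one, det_smul, det_one, mul_one]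
  have h2 : ∀ x : K, (detAeval A ∘ fun a => X - C a) x = (-1) ^ A.charpoly.natDegree * eval x A.charpoly := by
    intro x
    rw [Function.comp_apply, detAeval_apply, eval_charpoly, map_sub, aeval_X, aeval_C, hdeg,
      ← neg_sub, det_neg]
    rfl
  rw [h1, Multiset.map_congr rfl (fun x _ => h2 x), Multiset.prod_map_mul, Multiset.map_const',
    Multiset.prod_replicate, ← hP.natDegree_eq_card_roots, ← pow_mul]
  ring

lemma map_det_aeval {R S : Type u} [CommRing R] [CommRing S] (φ : R →+* S) {n : Type w} [Fintype n]
    [DecidableEq n] (A : Matrix n n R) (P : R[X]) :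
    φ (aeval A P).det = (aeval (A.map φ) (P.map φ)).det := by
  rw [RingHom.map_det]
  congr 1
  have h : (algebraMap S (Matrix n n S)).comp φ = (φ.mapMatrix).comp (algebraMap R (Matrix n n R)) := by
    ext r i j
    simp [Matrix.algebraMap_matrix_apply, apply_ite φ]
  exact map_aeval_eq_aeval_map h P A

lemma det_aeval_eq_resultant {R : Type u} [CommRing R] (P : R[X]) :
    ∀ (n : Type w) [Fintype n] [DecidableEq n] (A : Matrix n n R) (d : ℕ), P.natDegree ≤ d →
      (aeval A P).det = resultant A.charpoly P (Fintype.card n) d := by
  induction P using induction_of_Splits_of_injective_of_surjective with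
  | Splits R p hp =>
    intro n _ _ A d hd
    exact det_aeval_of_splits A p hp d hd
  | injective R S φ hφ p IH =>
    intro n _ _ A d hd
    apply hφ
    have := IH n (A.map φ) d (natDegree_map_le.trans hd)
    rw [charpoly_map, resultant_map_map] at this
    rw [← this, map_det_aeval]
  | surjective R S φ hφ p IH =>
    intro n _ _ A d hd
    obtain ⟨q, hq, hqd⟩ := exists_degree_eq_of_mem_lifts ((mem_lifts p).mpr (map_surjective φ hφ p))
    let B : Matrix n n R := fun i j => (hφ (A i j)).choose
    have hB : B.map φ = A := by
      ext i j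
      exact (hφ (A i j)).choose_spec
    have hqd' : q.natDegree ≤ d := by
      rw [natDegree_eq_of_degree_eq hqd]
      exact hd
    have := congrArg φ (IH q n B d hqd')
    rw [map_det_aeval, hB, hq, ← resultant_map_map, ← charpoly_map, hB, hq] at this
    exact this

lemma minpoly_root_of_monic {k : Type u} [CommRing k] [Nontrivial k] (χ : k[X]) (hχ : χ.Monic) :
    minpoly k (AdjoinRoot.root χ) = χ := by
  symm
  apply minpoly.unique' k _ hχ
  · rw [AdjoinRoot.aeval_eq, AdjoinRoot.mk_self]
  · intro q hq
    by_cases h : aeval (AdjoinRoot.root χ) q = 0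
    · left
      rw [AdjoinRoot.aeval_eq, AdjoinRoot.mk_eq_zero] at h
      by_contra h0
      exact hχ.not_dvd_of_degree_lt h0 hq h
    · right
      exact h

theorem main (k : Type u) [CommRing k] (M : Type u) [AddCommGroup M] [Module k M]
    [Module.Free k M] [Module.Finite k M] (u : M →ₗ[k] M) (P : Polynomial k) :
    Algebra.norm k (AdjoinRoot.mk u.charpoly P) = LinearMap.det (Polynomial.aeval u P) := by
  cases subsingleton_or_nontrivial k
  · exact Subsingleton.elim _ _
  have hχ : u.charpoly.Monic := u.charpoly_monic
  let pb := AdjoinRoot.powerBasis' hχ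
  have h1 : Algebra.norm k (AdjoinRoot.mk u.charpoly P) =
      resultant u.charpoly P u.charpoly.natDegree P.natDegree := by
    rw [Algebra.norm_eq_matrix_det pb.basis, ← AdjoinRoot.aeval_eq, ← aeval_algHom_apply,
      det_aeval_eq_resultant P _ _ _ le_rfl]
    have h2 : AdjoinRoot.root u.charpoly = pb.gen := (AdjoinRoot.powerBasis'_gen hχ).symm
    rw [h2, charpoly_leftMulMatrix, ← h2, minpoly_root_of_monic _ hχ, Fintype.card_fin]
    rfl
  let b := Module.Free.chooseBasis k M
  have h3 : LinearMap.det (Polynomial.aeval u P) =
      resultant u.charpoly P u.charpoly.natDegree P.natDegree := by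
    rw [← LinearMap.det_toMatrix b]
    have : LinearMap.toMatrix b b (aeval u P) = aeval (LinearMap.toMatrix b b u) P := by
      have := aeval_algHom_apply ((LinearMap.toMatrixAlgEquiv b).toAlgHom) u P
      exact this.symm
    rw [this, det_aeval_eq_resultant P _ _ _ le_rfl]
    have h4 : (LinearMap.toMatrix b b u).charpoly = u.charpoly := rfl
    rw [h4, ← h4, Matrix.charpoly_natDegree_eq_dim]
  rw [h1, h3]

end Aux

/-- Let k be a commutative ring, M a finite free k-module, u an endomorphism of M with characteristic
polynomial χ, and P a polynomial over k. Then the norm, from the k-algebra k[T]/(χ) (free of rank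
the rank of M) down to k, of the class of P(T) equals det(P(u)). (The published statement writes the
quotient by det(u - T), which generates the same ideal as χ(T) = det(T - u).) -/
theorem result (k : Type u) [CommRing k] (M : Type u) [AddCommGroup M] [Module k M]
    [Module.Free k M] [Module.Finite k M] (u : M →ₗ[k] M) (P : Polynomial k) :
    Algebra.norm k (AdjoinRoot.mk u.charpoly P) = LinearMap.det (Polynomial.aeval u P) := by
  exact main k M u P

end Groth.Agent.S8591
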