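import Groth.Statements.S8598
import Mathlib
import Groth.Agent.S6631

set_option autoImplicit false
universe u
open CategoryTheory CategoryTheory.Limits AlgebraicGeometry Opposite
open EtDl

namespace Groth.Agent.S8598

section helpers

/-- Separatedness of an abelian étale sheaf along a surjective morphism of the small étale site. -/
lemma sepAb {Y₀ : Scheme.{u}} (G : EtCoh.Ab Y₀) {W Z : Y₀.Etale} (p : Z ⟶ W)
    (hs : Function.Surjective p.left) (s s' : G.obj.obj (op W))
    (h : G.obj.map p.op s = G.obj.map p.op s') : s = s' := by
  let Gs := (sheafCompose Y₀.smallEtaleTopology (forget AddCommGrpCat.{u + 1})).obj G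
  have hcov := Groth.Agent.S6631.single_cover p hs
  have hsep := ((isSheaf_iff_isSheaf_of_type _ _).1 Gs.2).isSeparated _ hcov
  have key : (s : Gs.obj.obj (op W)) = s' := by
    apply hsep.ext
    rintro Z' g ⟨W', a, b, ⟨i⟩, rfl⟩
    rw [op_comp, Gs.obj.map_comp]
    exact congrArg (Gs.obj.map a.op) h
  exact key

/-- The projection `W ×_Y X ⟶ W` as a morphism of the small étale site of `Y`. -/
noncomputable def projHom {X Y₀ : Scheme.{u}} (f : X ⟶ Y₀) [Etale f] (W : Y₀.Etale) :
    (EtShriek.compEtale f).obj ((EtCoh.bc f).obj W) ⟶ W :=
  MorphismProperty.Over.homMk (pullback.fst W.hom f) (pullback.condition) trivial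

lemma projHom_surj {X Y₀ : Scheme.{u}} (f : X ⟶ Y₀) [Etale f] [Surjective f] (W : Y₀.Etale) :
    Function.Surjective (projHom f W).left := by
  have : Surjective (pullback.fst W.hom f) := inferInstance
  exact this.surj

theorem faithful_restrAlong {X Y₀ : Scheme.{u}} (f : X ⟶ Y₀) [Etale f] [Surjective f]
    [EtShriek.JCont f] : (EtShriek.restrAlong f).Faithful where
  map_injective := by
    intro F G φ ψ h
    apply Sheaf.hom_ext
    ext ⟨W⟩ s
    apply sepAb G (projHom f W) (projHom_surj f W)
    have h1 : φ.hom.app (op ((EtShriek.compEtale f).obj ((EtCoh.bc f).obj W))) =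
        ψ.hom.app (op ((EtShriek.compEtale f).obj ((EtCoh.bc f).obj W))) :=
      congrArg (fun k => k.hom.app (op ((EtCoh.bc f).obj W))) h
    have n1 := congrArg (fun k => k s) (congrArg (fun k => k.hom) (φ.hom.naturality (projHom f W).op))
    have n2 := congrArg (fun k => k s) (congrArg (fun k => k.hom) (ψ.hom.naturality (projHom f W).op))
    simp only [AddCommGrpCat.hom_comp, AddMonoidHom.coe_comp, Function.comp_apply] at n1 n2
    rw [← n1, ← n2, h1]

end helpers

/-- Let u : X -> Y be an etale, separated morphism of finite type that is surjective, and F an abelian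
sheaf on Y_et. The sheaves F_n = (u_n)_! u_n^* F built from the iterated fibre powers of X over Y
form a left resolution of F; in particular (the part stated here) the augmentation u_! u^* F -> F,
which is the counit of the adjunction between extension by zero u_! and restriction u^*, is an
epimorphism. (The continuity of V ↦ (V -> X -> Y) between the small etale sites is carried as an
instance hypothesis, the prelude's convention for extension by zero along an etale morphism.) -/
theorem result {X Y : Scheme.{u}} (u : X ⟶ Y) [Etale u] [IsSeparated u]
    [LocallyOfFiniteType u] [QuasiCompact u] [Surjective u] [EtShriek.JCont u] (F : EtCoh.Ab Y) :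
    Epi ((EtShriek.extZeroAdj u).counit.app F) := by
  have := faithful_restrAlong u
  infer_instance

end Groth.Agent.S8598
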