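import Groth.Statements.S8611
import Groth.Agent.Lib.Helper13.DeltaFAb

set_option autoImplicit false
universe w v u
open CategoryTheory CategoryTheory.Limits
open SGA4h

namespace Groth.Agent.S8611

/-- Let C be an abelian category, T and T' cohomological delta-functors on C in degrees ≥ 0 with values
in abelian groups, both left exact in degree 0, with T effaceable in every degree q > 0 (every
element of T^q(A) is killed by T^q(u) for some monomorphism u : A → M, depending on the element),
and φ : T → T' a morphism of delta-functors. Let E be a class of objects such that every object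
admits a monomorphism into a member of E. Then the following are equivalent: (i) φ^q(A) is bijective
for all q and all A; (ii) φ^0(M) is bijective and φ^q(M) is surjective for q > 0, for all M in E;
(iii) φ^0(A) is bijective for all A and T' is effaceable in every degree > 0 (in the same
element-wise sense). Stated as (i) ⇔ (ii) together with (i) ⇔ (iii). -/
theorem result {C : Type u} [Category.{v} C] [Abelian C]
    (T T' : DeltaF.CohDeltaFunctor C AddCommGrpCat.{w} ℕ) (hT0 : T.ZeroMono) (hT'0 : T'.ZeroMono)
    (hT : ∀ (q : ℕ) (A : C) (α : (T.F (q + 1)).obj A),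
      ∃ (M : C) (u : A ⟶ M), Mono u ∧ (T.F (q + 1)).map u α = 0)
    (φ : T ⟶ T') (E : ObjectProperty C)
    (hE : ∀ A : C, ∃ (M : C) (i : A ⟶ M), Mono i ∧ E M) :
    ((∀ (q : ℕ) (A : C), IsIso ((φ.app q).app A)) ↔
      ((∀ M : C, E M → IsIso ((φ.app 0).app M)) ∧
        ∀ (q : ℕ) (M : C), E M → Epi ((φ.app (q + 1)).app M))) ∧
    ((∀ (q : ℕ) (A : C), IsIso ((φ.app q).app A)) ↔
      ((∀ A : C, IsIso ((φ.app 0).app A)) ∧
        ∀ (q : ℕ) (A : C) (α : (T'.F (q + 1)).obj A),
          ∃ (M : C) (u : A ⟶ M), Mono u ∧ (T'.F (q + 1)).map u α = 0)) := by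
  open Groth.Agent.Helper13.DeltaFLemmas Groth.Agent.Helper13.DeltaFAb in
  have hbij : ∀ (q : ℕ) (A : C), IsIso ((φ.app q).app A) ↔ Function.Bijective ((φ.app q).app A) :=
    fun q A => ConcreteCategory.isIso_iff_bijective _
  -- injectivity in degree q + 1 from bijectivity in degree q
  have hinjstep : ∀ q : ℕ, (∀ A : C, Function.Bijective ((φ.app q).app A)) →
      ∀ A : C, Function.Injective ((φ.app (q + 1)).app A) := by
    intro q ih A
    rw [injective_iff_map_eq_zero]
    intro x hx
    obtain ⟨M, u, hu, hux⟩ := hT q A x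
    exact mono_step_ab φ q _ (shortExact_of_mono u) (ih _).2 (ih _).1 x hux hx
  refine ⟨⟨?_, ?_⟩, ⟨?_, ?_⟩⟩
  · intro h
    exact ⟨fun M _ => h 0 M, fun q M _ => by have := h (q + 1) M; infer_instance⟩
  · rintro ⟨hE0, hEq⟩ q
    induction q with
    | zero =>
      have hinj : ∀ A : C, Function.Injective ((φ.app 0).app A) := by
        intro A
        obtain ⟨M, i, hi, hM⟩ := hE A
        exact inj_zero φ hT0 _ (shortExact_of_mono i) ((hbij 0 M).1 (hE0 M hM)).1
      intro A
      rw [hbij]
      refine ⟨hinj A, ?_⟩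
      obtain ⟨M, i, hi, hM⟩ := hE A
      intro x'
      refine surj_middle φ 0 _ (shortExact_of_mono i) ((hbij 0 M).1 (hE0 M hM)).2 (hinj _) ?_ x'
      intro z' hz'
      refine ⟨0, ?_⟩
      rw [map_zero]
      exact (zeroMono_injective T' hT'0 _ (shortExact_of_mono i) (by rw [hz', map_zero])).symm
    | succ q ih =>
      have ih' : ∀ A : C, Function.Bijective ((φ.app q).app A) := fun A => (hbij q A).1 (ih A)
      have hinj := hinjstep q ih'
      intro A
      rw [hbij]
      refine ⟨hinj A, ?_⟩
      obtain ⟨M, i, hi, hM⟩ := hE A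
      intro x'
      refine surj_middle φ (q + 1) _ (shortExact_of_mono i)
        ((AddCommGrpCat.epi_iff_surjective _).1 (hEq q M hM)) (hinj _) ?_ x'
      intro z' hz'
      exact epi_step_ab φ q _ (shortExact_of_mono i) (ih' _).2 z' hz'
  · intro h
    refine ⟨fun A => h 0 A, ?_⟩
    intro q A α
    obtain ⟨β, rfl⟩ := ((hbij (q + 1) A).1 (h (q + 1) A)).2 α
    obtain ⟨M, u, hu, huβ⟩ := hT q A β
    refine ⟨M, u, hu, ?_⟩
    rw [← nat_apply, huβ, map_zero]
  · rintro ⟨h0, heff⟩ q
    induction q with
    | zero => exact h0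
    | succ q ih =>
      have ih' : ∀ A : C, Function.Bijective ((φ.app q).app A) := fun A => (hbij q A).1 (ih A)
      intro A
      rw [hbij]
      refine ⟨hinjstep q ih' A, ?_⟩
      intro x'
      obtain ⟨M, u, hu, hux⟩ := heff q A x'
      exact epi_step_ab φ q _ (shortExact_of_mono u) (ih' _).2 x' hux

end Groth.Agent.S8611
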