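import Groth.Statements.S8612
import Groth.Agent.Lib.Helper13.DeltaFColim

set_option autoImplicit false
universe w v u
open CategoryTheory CategoryTheory.Limits
open SGA4h

namespace Groth.Agent.S8612

/-- Let C be an abelian category with filtered colimits, T and T' cohomological delta-functors on C in
degrees ≥ 0 with values in abelian groups, both left exact in degree 0 and commuting with filtered
colimits in every degree, and φ : T → T' a morphism of delta-functors. Let D and E be classes of
objects such that (a) every object of C is a filtered colimit of objects of D and (b) every object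
of D admits a monomorphism into a member of E. Then φ^q(A) is bijective for all q and all A if and
only if φ^q(M) is bijective for all q and all M in E. -/
theorem result {C : Type u} [Category.{v} C] [Abelian C]
    [HasFilteredColimitsOfSize.{v, v} C]
    (T T' : DeltaF.CohDeltaFunctor C AddCommGrpCat.{w} ℕ) (hT0 : T.ZeroMono) (hT'0 : T'.ZeroMono)
    [∀ n, PreservesFilteredColimitsOfSize.{v, v} (T.F n)] [∀ n, PreservesFilteredColimitsOfSize.{v, v} (T'.F n)]
    (φ : T ⟶ T') (D E : ObjectProperty C)
    (hD : ∀ A : C, ∃ (J : Type v) (_ : SmallCategory J) (_ : IsFiltered J) (K : J ⥤ C) (c : Cocone K)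
      (_ : IsColimit c), (∀ j, D (K.obj j)) ∧ Nonempty (c.pt ≅ A))
    (hE : ∀ A : C, D A → ∃ (M : C) (i : A ⟶ M), Mono i ∧ E M) :
    (∀ (q : ℕ) (A : C), IsIso ((φ.app q).app A)) ↔
      ∀ (q : ℕ) (M : C), E M → IsIso ((φ.app q).app M) := by
  open Groth.Agent.Helper13.DeltaFLemmas Groth.Agent.Helper13.DeltaFAb Groth.Agent.Helper13.DeltaFColim in
  have hbij : ∀ (q : ℕ) (A : C), IsIso ((φ.app q).app A) ↔ Function.Bijective ((φ.app q).app A) :=
    fun q A => ConcreteCategory.isIso_iff_bijective _
  constructor
  · intro h q M _
    exact h q M
  · intro hEiso q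
    have hEb : ∀ (q : ℕ) (M : C), E M → Function.Bijective ((φ.app q).app M) :=
      fun q M hM => (hbij q M).1 (hEiso q M hM)
    -- passage from D to all objects
    have hallinj : ∀ q : ℕ, (∀ A, D A → Function.Injective ((φ.app q).app A)) →
        ∀ A, Function.Injective ((φ.app q).app A) := by
      intro q h
      refine forall_of_filtered_colimit D (fun A => Function.Injective ((φ.app q).app A)) ?_ hD h
      intro J _ _ K c hc hK
      exact injective_of_colimit φ q hc hK
    have hallsurj : ∀ q : ℕ, (∀ A, D A → Function.Surjective ((φ.app q).app A)) →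
        ∀ A, Function.Surjective ((φ.app q).app A) := by
      intro q h
      refine forall_of_filtered_colimit D (fun A => Function.Surjective ((φ.app q).app A)) ?_ hD h
      intro J _ _ K c hc hK
      exact surjective_of_colimit φ q hc hK
    suffices H : ∀ A : C, Function.Bijective ((φ.app q).app A) from fun A => (hbij q A).2 (H A)
    induction q with
    | zero =>
      have hinj : ∀ A : C, Function.Injective ((φ.app 0).app A) := by
        apply hallinj
        intro A hA
        obtain ⟨M, i, hi, hM⟩ := hE A hA
        exact inj_zero φ hT0 _ (shortExact_of_mono i) (hEb 0 M hM).1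
      have hsurj : ∀ A : C, Function.Surjective ((φ.app 0).app A) := by
        apply hallsurj
        intro A hA
        obtain ⟨M, i, hi, hM⟩ := hE A hA
        intro x'
        refine surj_middle φ 0 _ (shortExact_of_mono i) (hEb 0 M hM).2 (hinj _) ?_ x'
        intro z' hz'
        refine ⟨0, ?_⟩
        rw [map_zero]
        exact (zeroMono_injective T' hT'0 _ (shortExact_of_mono i) (by rw [hz', map_zero])).symm
      exact fun A => ⟨hinj A, hsurj A⟩
    | succ q ih =>
      have hinj : ∀ A : C, Function.Injective ((φ.app (q + 1)).app A) := by
        apply hallinj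
        intro A hA
        obtain ⟨M, i, hi, hM⟩ := hE A hA
        rw [injective_iff_map_eq_zero]
        intro x hx
        have hS := shortExact_of_mono i
        refine mono_step_ab φ q _ hS (ih _).2 (ih _).1 x ?_ hx
        apply (hEb (q + 1) M hM).1
        rw [nat_apply, hx, map_zero, map_zero]
      have hsurj : ∀ A : C, Function.Surjective ((φ.app (q + 1)).app A) := by
        apply hallsurj
        intro A hA
        obtain ⟨M, i, hi, hM⟩ := hE A hA
        intro x'
        refine surj_middle φ (q + 1) _ (shortExact_of_mono i) (hEb (q + 1) M hM).2 (hinj _) ?_ x'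
        intro z' hz'
        exact epi_step_ab φ q _ (shortExact_of_mono i) (ih _).2 z' hz'
      exact fun A => ⟨hinj A, hsurj A⟩

end Groth.Agent.S8612
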