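import Groth.Statements.S8625
import Mathlib.Tactic.Group

set_option autoImplicit false
universe u
open SGA4h

namespace Groth.Agent.S8625

section aux
variable {G : Type u} [Group G] (F : G →* G)

private lemma fix_right (g : G) (h : F (F g * g⁻¹) = F g * g⁻¹) :
    F (g⁻¹ * F g) = g⁻¹ * F g := by
  have h1 : F (F g) = F g * g⁻¹ * F g := by
    have : F (F g) * (F g)⁻¹ = F g * g⁻¹ := by simpa using h
    calc F (F g) = F (F g) * (F g)⁻¹ * F g := by group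
      _ = _ := by rw [this]
  rw [map_mul, map_inv, h1]; group

private lemma fix_left (g : G) (h : F (g⁻¹ * F g) = g⁻¹ * F g) :
    F (F g * g⁻¹) = F g * g⁻¹ := by
  have h1 : F (F g) = F g * g⁻¹ * F g := by
    have : (F g)⁻¹ * F (F g) = g⁻¹ * F g := by simpa using h
    calc F (F g) = F g * ((F g)⁻¹ * F (F g)) := by group
      _ = _ := by rw [this]; group
  rw [map_mul, map_inv, h1]; group

private lemma conj_iff (g g' : G) (ha : F (F g * g⁻¹) = F g * g⁻¹)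
    (ha' : F (F g' * g'⁻¹) = F g' * g'⁻¹) (hb : F (g⁻¹ * F g) = g⁻¹ * F g)
    (hb' : F (g'⁻¹ * F g') = g'⁻¹ * F g') :
    IsConj (⟨F g * g⁻¹, ha⟩ : ↥(F.eqLocus (MonoidHom.id G))) ⟨F g' * g'⁻¹, ha'⟩ ↔
    IsConj (⟨g⁻¹ * F g, hb⟩ : ↥(F.eqLocus (MonoidHom.id G))) ⟨g'⁻¹ * F g', hb'⟩ := by
  simp only [isConj_iff]
  constructor
  · rintro ⟨⟨h, hh⟩, hc⟩
    have hh' : F h = h := hh
    have hc' : h * (F g * g⁻¹) * h⁻¹ = F g' * g'⁻¹ := congrArg Subtype.val hc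
    have e : F g' = h * F g * g⁻¹ * h⁻¹ * g' := by
      calc F g' = (F g' * g'⁻¹) * g' := by group
        _ = _ := by rw [← hc']; group
    refine ⟨⟨g'⁻¹ * h * g, ?_⟩, ?_⟩
    · show F (g'⁻¹ * h * g) = g'⁻¹ * h * g
      rw [map_mul, map_mul, map_inv, hh', e]; group
    · apply Subtype.ext
      show g'⁻¹ * h * g * (g⁻¹ * F g) * (g'⁻¹ * h * g)⁻¹ = g'⁻¹ * F g'
      rw [e]; group
  · rintro ⟨⟨y, hy⟩, hc⟩
    have hy' : F y = y := hy
    have hc' : y * (g⁻¹ * F g) * y⁻¹ = g'⁻¹ * F g' := congrArg Subtype.val hc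
    have e : F g' = g' * y * g⁻¹ * F g * y⁻¹ := by
      calc F g' = g' * (g'⁻¹ * F g') := by group
        _ = _ := by rw [← hc']; group
    refine ⟨⟨g' * y * g⁻¹, ?_⟩, ?_⟩
    · show F (g' * y * g⁻¹) = g' * y * g⁻¹
      rw [map_mul, map_mul, map_inv, hy', e]; group
    · apply Subtype.ext
      show g' * y * g⁻¹ * (F g * g⁻¹) * (g' * y * g⁻¹)⁻¹ = F g' * g'⁻¹
      rw [e]; group

end aux

/-- Let G be a group with an endomorphism F, and assume the Lang map g ↦ F(g)g⁻¹ is surjective (for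
instance the geometric points of a connected algebraic group over F_q with its Frobenius, where the
surjectivity is the classical result of Lang; the other Lang map g ↦ g⁻¹F(g) is then surjective too,
by g ↦ g⁻¹). Let G^F be the subgroup of fixed points of F. (i) If F(g)g⁻¹ is fixed by F then so is
g⁻¹F(g). (ii), (iii) There is a bijection of the set of conjugacy classes of G^F with itself
sending, for every g with F(g)g⁻¹ ∈ G^F, the class of F(g)g⁻¹ to the class of g⁻¹F(g) (in particular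
the latter class depends only on the former). -/
theorem result {G : Type u} [Group G] (F : G →* G)
    (hL : Function.Surjective fun g : G => F g * g⁻¹) :
    (∀ g : G, F (F g * g⁻¹) = F g * g⁻¹ → F (g⁻¹ * F g) = g⁻¹ * F g) ∧
    ∃ φ : ConjClasses ↥(F.eqLocus (MonoidHom.id G)) → ConjClasses ↥(F.eqLocus (MonoidHom.id G)),
      Function.Bijective φ ∧
      ∀ (g : G) (h : F (F g * g⁻¹) = F g * g⁻¹) (h' : F (g⁻¹ * F g) = g⁻¹ * F g),
        φ (ConjClasses.mk (⟨F g * g⁻¹, h⟩ : ↥(F.eqLocus (MonoidHom.id G)))) =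
          ConjClasses.mk (⟨g⁻¹ * F g, h'⟩ : ↥(F.eqLocus (MonoidHom.id G))) := by
  refine ⟨fun g h => fix_right F g h, ?_⟩
  classical
  let sel : ↥(F.eqLocus (MonoidHom.id G)) → G := fun a => Classical.choose (hL a.1)
  have hsel : ∀ a, F (sel a) * (sel a)⁻¹ = a.1 := fun a => Classical.choose_spec (hL a.1)
  have hfixa : ∀ a : ↥(F.eqLocus (MonoidHom.id G)),
      F (F (sel a) * (sel a)⁻¹) = F (sel a) * (sel a)⁻¹ := by
    intro a; rw [hsel a]; exact a.2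
  have hmk : ∀ a : ↥(F.eqLocus (MonoidHom.id G)),
      (⟨F (sel a) * (sel a)⁻¹, hfixa a⟩ : ↥(F.eqLocus (MonoidHom.id G))) = a :=
    fun a => Subtype.ext (hsel a)
  let φ0 : ↥(F.eqLocus (MonoidHom.id G)) → ConjClasses ↥(F.eqLocus (MonoidHom.id G)) :=
    fun a => ConjClasses.mk ⟨(sel a)⁻¹ * F (sel a), fix_right F _ (hfixa a)⟩
  have hwd : ∀ a b : ↥(F.eqLocus (MonoidHom.id G)), IsConj a b → φ0 a = φ0 b := by
    intro a b hab
    apply ConjClasses.mk_eq_mk_iff_isConj.mpr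
    refine (conj_iff F (sel a) (sel b) (hfixa a) (hfixa b) _ _).mp ?_
    rw [hmk a, hmk b]; exact hab
  let φ : ConjClasses ↥(F.eqLocus (MonoidHom.id G)) → ConjClasses ↥(F.eqLocus (MonoidHom.id G)) :=
    Quotient.lift φ0 (fun a b h => hwd a b h)
  have hprop : ∀ (g : G) (h : F (F g * g⁻¹) = F g * g⁻¹) (h' : F (g⁻¹ * F g) = g⁻¹ * F g),
      φ (ConjClasses.mk (⟨F g * g⁻¹, h⟩ : ↥(F.eqLocus (MonoidHom.id G)))) =
        ConjClasses.mk (⟨g⁻¹ * F g, h'⟩ : ↥(F.eqLocus (MonoidHom.id G))) := by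
    intro g h h'
    show φ0 ⟨F g * g⁻¹, h⟩ = _
    apply ConjClasses.mk_eq_mk_iff_isConj.mpr
    refine (conj_iff F (sel ⟨F g * g⁻¹, h⟩) g (hfixa _) h _ h').mp ?_
    rw [hmk]
  refine ⟨φ, ⟨?_, ?_⟩, hprop⟩
  · intro x y
    obtain ⟨a, rfl⟩ := ConjClasses.exists_rep x
    obtain ⟨b, rfl⟩ := ConjClasses.exists_rep y
    intro hxy
    have hxy' : φ0 a = φ0 b := hxy
    have := ConjClasses.mk_eq_mk_iff_isConj.mp hxy'
    have h2 := (conj_iff F (sel a) (sel b) (hfixa a) (hfixa b) _ _).mpr this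
    rw [hmk a, hmk b] at h2
    exact ConjClasses.mk_eq_mk_iff_isConj.mpr h2
  · intro y
    obtain ⟨b, rfl⟩ := ConjClasses.exists_rep y
    obtain ⟨k, hk⟩ := hL (b.1)⁻¹
    have hk : F k * k⁻¹ = (b.1)⁻¹ := hk
    have hg : (k⁻¹)⁻¹ * F k⁻¹ = b.1 := by
      rw [map_inv, inv_inv, ← inv_inj, mul_inv_rev, inv_inv, hk]
    have hb : F ((k⁻¹)⁻¹ * F k⁻¹) = (k⁻¹)⁻¹ * F k⁻¹ := by rw [hg]; exact b.2
    refine ⟨ConjClasses.mk ⟨F k⁻¹ * (k⁻¹)⁻¹, fix_left F _ hb⟩, ?_⟩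
    rw [hprop k⁻¹ _ hb]
    congr 1
    exact Subtype.ext hg

end Groth.Agent.S8625
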