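import Groth.Statements.S8630
import Mathlib
-- import your own Groth.Agent.* helpers here

set_option autoImplicit false
open Zeta

namespace Groth.Agent.S8630

section
open Polynomial PowerSeries

theorem lemA (p : ℕ) [hp : Fact p.Prime] (F : ℤ[X]) (h0 : (p:ℤ) ∣ F.coeff 0)
    (hF : ∃ i, ¬ (p:ℤ) ∣ F.coeff i) :
    ∀ (n : ℕ) (N : ℤ) (W : ℤ⟦X⟧), N.natAbs = n → N ≠ 0 →
      (F : ℤ⟦X⟧) * W ≠ PowerSeries.C N := by
  intro n
  induction n using Nat.strong_induction_on with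
  | _ n ih =>
  intro N W hn hN heq
  have hpN : (p : ℤ) ∣ N := by
    have h1 := congrArg PowerSeries.constantCoeff heq
    rw [map_mul, Polynomial.constantCoeff_coe, PowerSeries.constantCoeff_C] at h1
    rw [← h1]
    exact Dvd.dvd.mul_right h0 _
  have hW : ∀ k, (p : ℤ) ∣ PowerSeries.coeff k W := by
    have h2 := congrArg (PowerSeries.map (Int.castRingHom (ZMod p))) heq
    rw [map_mul, PowerSeries.map_C] at h2
    have h3 : (Int.castRingHom (ZMod p)) N = 0 := by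
      rw [eq_intCast]
      exact (ZMod.intCast_zmod_eq_zero_iff_dvd N p).mpr hpN
    rw [h3, map_zero] at h2
    have h4 : PowerSeries.map (Int.castRingHom (ZMod p)) (F : ℤ⟦X⟧) ≠ 0 := by
      obtain ⟨i, hi⟩ := hF
      intro h
      have := congrArg (PowerSeries.coeff i) h
      rw [PowerSeries.coeff_map, Polynomial.coeff_coe, map_zero, eq_intCast] at this
      exact hi ((ZMod.intCast_zmod_eq_zero_iff_dvd _ p).mp this)
    have h5 := (mul_eq_zero.mp h2).resolve_left h4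
    intro k
    have := congrArg (PowerSeries.coeff k) h5
    rw [PowerSeries.coeff_map, map_zero, eq_intCast] at this
    exact (ZMod.intCast_zmod_eq_zero_iff_dvd _ p).mp this
  obtain ⟨N₁, rfl⟩ := hpN
  set W₁ : ℤ⟦X⟧ := PowerSeries.mk (fun k => PowerSeries.coeff k W / p) with hW₁
  have hWeq : W = PowerSeries.C (p : ℤ) * W₁ := by
    ext k
    rw [PowerSeries.coeff_C_mul, hW₁, PowerSeries.coeff_mk, Int.mul_ediv_cancel' (hW k)]
  have hp0 : (PowerSeries.C (p : ℤ) : ℤ⟦X⟧) ≠ 0 := by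
    intro h
    have := congrArg PowerSeries.constantCoeff h
    rw [PowerSeries.constantCoeff_C, map_zero] at this
    exact hp.out.ne_zero (by exact_mod_cast this)
  have heq' : (F : ℤ⟦X⟧) * W₁ = PowerSeries.C N₁ := by
    apply mul_left_cancel₀ hp0
    rw [← map_mul, ← heq, hWeq]
    ring
  have hN₁ : N₁ ≠ 0 := by
    rintro rfl
    exact hN (mul_zero _)
  refine ih N₁.natAbs ?_ N₁ W₁ rfl hN₁ heq'
  rw [← hn, Int.natAbs_mul, Int.natAbs_natCast]
  have h1 : 0 < N₁.natAbs := Int.natAbs_pos.mpr hN₁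
  have h2 := hp.out.two_le
  nlinarith

theorem lemB (U : ℚ[X]) : ∃ (b : ℤ) (_ : b ≠ 0) (U₀ : ℤ[X]),
    U₀.map (Int.castRingHom ℚ) = Polynomial.C (b : ℚ) * U := by
  obtain ⟨b, hb, h⟩ := IsLocalization.integerNormalization_spec (nonZeroDivisors ℤ) U
  refine ⟨b, nonZeroDivisors.ne_zero hb, IsLocalization.integerNormalization (nonZeroDivisors ℤ) U, ?_⟩
  rw [show Int.castRingHom ℚ = algebraMap ℤ ℚ from rfl, h]
  ext i
  simp

theorem map_injective_int : Function.Injective (PowerSeries.map (Int.castRingHom ℚ)) := by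
  intro a b hab
  ext k
  have := congrArg (PowerSeries.coeff k) hab
  simpa using this

theorem main (P Q : Polynomial ℚ)
    (hPQ : IsCoprime P Q) (hP : P.coeff 0 = 1) (hQ : Q.coeff 0 = 1) (Z : PowerSeries ℤ)
    (hZ : (P : PowerSeries ℚ) = (Q : PowerSeries ℚ) * PowerSeries.map (Int.castRingHom ℚ) Z) :
    (∃ P₀ : Polynomial ℤ, P₀.map (Int.castRingHom ℚ) = P) ∧
      ∃ Q₀ : Polynomial ℤ, Q₀.map (Int.castRingHom ℚ) = Q := by
  classical
  have hex : ∃ d : ℕ, 0 < d ∧ ∃ Q₀ : ℤ[X], Q₀.map (Int.castRingHom ℚ) =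
      Polynomial.C (d : ℚ) * Q := by
    obtain ⟨b, hb, Q₁, hQ₁⟩ := lemB Q
    rcases Int.natAbs_eq b with h | h
    · refine ⟨b.natAbs, Int.natAbs_pos.mpr hb, Q₁, ?_⟩
      rw [hQ₁]
      congr 2
      rw [← Int.cast_natCast, ← h]
    · refine ⟨b.natAbs, Int.natAbs_pos.mpr hb, -Q₁, ?_⟩
      rw [Polynomial.map_neg, hQ₁, ← neg_mul, ← Polynomial.C_neg]
      congr 2
      rw [← Int.cast_natCast, ← Int.cast_neg]
      congr 1
      omega
  obtain ⟨hd0, Q₀, hQ₀⟩ := Nat.find_spec hex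
  have hdmin := fun m => Nat.find_min hex (m := m)
  set d := Nat.find hex with hd
  have hd1 : d = 1 := by
    by_contra hne
    obtain ⟨p, hp, hpd⟩ := Nat.exists_prime_and_dvd hne
    haveI := Fact.mk hp
    have hF0 : Q₀.coeff 0 = d := by
      have := congrArg (fun f => f.coeff 0) hQ₀
      simp only [Polynomial.coeff_map, Polynomial.coeff_C_mul, hQ, mul_one, eq_intCast] at this
      exact_mod_cast this
    have hFp : ∃ i, ¬ (p:ℤ) ∣ Q₀.coeff i := by
      by_contra hall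
      push Not at hall
      obtain ⟨F₁, hF₁⟩ := (Polynomial.C_dvd_iff_dvd_coeff _ _).mpr hall
      obtain ⟨d', hd'⟩ := hpd
      have hd'0 : 0 < d' := by
        rcases Nat.eq_zero_or_pos d' with h | h
        · rw [h, mul_zero] at hd'; omega
        · exact h
      have hd'lt : d' < d := by
        rw [hd']
        nlinarith [hp.two_le]
      apply hdmin d' hd'lt
      refine ⟨hd'0, F₁, ?_⟩
      have hCp : (Polynomial.C (p:ℚ) : ℚ[X]) ≠ 0 := by
        simp [hp.ne_zero]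
      apply mul_left_cancel₀ hCp
      rw [← mul_assoc, ← Polynomial.C_mul, ← Nat.cast_mul, ← hd', ← hQ₀, hF₁, Polynomial.map_mul,
        Polynomial.map_C]
      simp
    obtain ⟨U, V, hUV⟩ := hPQ
    obtain ⟨b₁, hb₁, U₀, hU₀⟩ := lemB U
    obtain ⟨b₂, hb₂, V₀, hV₀⟩ := lemB V
    let W : ℤ⟦X⟧ := ((Polynomial.C b₂ * U₀ : ℤ[X]) : ℤ⟦X⟧) * Z +
      ((Polynomial.C b₁ * V₀ : ℤ[X]) : ℤ⟦X⟧)
    have hFW : (Q₀ : ℤ⟦X⟧) * W = PowerSeries.C ((d:ℤ) * b₁ * b₂) := by
      apply map_injective_int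
      rw [map_mul, map_add, map_mul, ← Polynomial.polynomial_map_coe,
        ← Polynomial.polynomial_map_coe, ← Polynomial.polynomial_map_coe, hQ₀,
        Polynomial.map_mul, Polynomial.map_mul, hU₀, hV₀, Polynomial.map_C, Polynomial.map_C,
        PowerSeries.map_C]
      have hUV' : ((U : ℚ⟦X⟧)) * (P : ℚ⟦X⟧) + (V : ℚ⟦X⟧) * (Q : ℚ⟦X⟧) = 1 := by
        rw [← Polynomial.coe_mul, ← Polynomial.coe_mul, ← Polynomial.coe_add, hUV,
          Polynomial.coe_one]
      rw [hZ] at hUV'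
      simp only [Polynomial.coe_mul, Polynomial.coe_C, eq_intCast, Int.cast_mul,
        Int.cast_natCast, map_mul]
      linear_combination (PowerSeries.C (d:ℚ) * PowerSeries.C (b₁:ℚ) * PowerSeries.C (b₂:ℚ)) * hUV'
    have hN : (d:ℤ) * b₁ * b₂ ≠ 0 := by
      have : (d : ℤ) ≠ 0 := by exact_mod_cast hd0.ne'
      exact mul_ne_zero (mul_ne_zero this hb₁) hb₂
    exact lemA p Q₀ (hF0 ▸ (Int.natCast_dvd_natCast.mpr hpd)) hFp _ _ W rfl hN hFW
  have hQ₀' : Q₀.map (Int.castRingHom ℚ) = Q := by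
    rw [hQ₀, hd1]
    simp
  refine ⟨?_, Q₀, hQ₀'⟩
  rw [← Polynomial.mem_lifts, Polynomial.lifts_iff_coeff_lifts]
  intro n
  refine ⟨PowerSeries.coeff n ((Q₀ : ℤ⟦X⟧) * Z), ?_⟩
  rw [← Polynomial.coeff_coe, hZ, ← hQ₀', Polynomial.polynomial_map_coe, ← map_mul,
    PowerSeries.coeff_map]

end

/-- Fatou's lemma: let P, Q ∈ ℚ[T] be coprime with constant coefficient 1, and suppose the power series
P/Q has integer coefficients, i.e. P = Q·Z in ℚ⟦T⟧ for a power series Z with coefficients in ℤ. Then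
P and Q have integer coefficients. -/
theorem result (P Q : Polynomial ℚ)
    (hPQ : IsCoprime P Q) (hP : P.coeff 0 = 1) (hQ : Q.coeff 0 = 1) (Z : PowerSeries ℤ)
    (hZ : (P : PowerSeries ℚ) = (Q : PowerSeries ℚ) * PowerSeries.map (Int.castRingHom ℚ) Z) :
    (∃ P₀ : Polynomial ℤ, P₀.map (Int.castRingHom ℚ) = P) ∧
      ∃ Q₀ : Polynomial ℤ, Q₀.map (Int.castRingHom ℚ) = Q := by
  exact Groth.Agent.S8630.main P Q hPQ hP hQ Z hZ

end Groth.Agent.S8630
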