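import Groth.Statements.S8649

set_option autoImplicit false
universe u
open Finset
open LambdaRing

namespace Groth.Agent.S8649

section aux
variable {K : Type u} [CommRing K] [LambdaRing.LambdaOps K]

private lemma lam_natCast (h1 : ∀ k : ℕ, 2 ≤ k → LambdaRing.LambdaOps.lam k (1 : K) = 0)
    (m j : ℕ) : LambdaRing.LambdaOps.lam j ((m : K)) = (Nat.choose m j : K) := by
  have hzero : ∀ k : ℕ, 1 ≤ k → LambdaRing.LambdaOps.lam k (0 : K) = 0 := by
    intro k
    induction k using Nat.strong_induction_on with
    | _ k ih =>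
      intro hk
      have h := LambdaRing.LambdaOps.lam_add k (0 : K) 0
      rw [add_zero, Finset.sum_range_succ, Nat.sub_self, LambdaRing.LambdaOps.lam_zero,
        mul_one] at h
      obtain ⟨k', rfl⟩ : ∃ k', k = k' + 1 := ⟨k - 1, by omega⟩
      rw [Finset.sum_range_succ'] at h
      simp only [LambdaRing.LambdaOps.lam_zero, Nat.sub_zero, one_mul] at h
      have hs : ∑ i ∈ range k', LambdaRing.LambdaOps.lam (i + 1) (0 : K) *
          LambdaRing.LambdaOps.lam (k' + 1 - (i + 1)) 0 = 0 := by
        apply Finset.sum_eq_zero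
        intro i hi
        rw [Finset.mem_range] at hi
        rw [ih (i + 1) (by omega) (by omega), zero_mul]
      rw [hs, zero_add] at h
      have : LambdaRing.LambdaOps.lam (k' + 1) (0 : K) + LambdaRing.LambdaOps.lam (k' + 1) (0 : K)
          = LambdaRing.LambdaOps.lam (k' + 1) (0 : K) + 0 := by rw [add_zero]; exact h.symm
      exact add_left_cancel this
  induction m generalizing j with
  | zero =>
    rcases Nat.eq_zero_or_pos j with rfl | hj
    · simp [LambdaRing.LambdaOps.lam_zero]
    · rw [Nat.cast_zero, hzero j hj, Nat.choose_eq_zero_of_lt hj, Nat.cast_zero]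
  | succ m ih =>
    rcases Nat.eq_zero_or_pos j with rfl | hj
    · simp [LambdaRing.LambdaOps.lam_zero]
    · obtain ⟨j', rfl⟩ : ∃ j', j = j' + 1 := ⟨j - 1, by omega⟩
      rw [Nat.cast_succ, LambdaRing.LambdaOps.lam_add, Finset.sum_range_succ,
        Finset.sum_range_succ]
      have hs : ∑ i ∈ range j', LambdaRing.LambdaOps.lam i (m : K) *
          LambdaRing.LambdaOps.lam (j' + 1 - i) (1 : K) = 0 := by
        apply Finset.sum_eq_zero
        intro i hi
        rw [Finset.mem_range] at hi
        rw [h1 (j' + 1 - i) (by omega), mul_zero]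
      rw [hs, zero_add, Nat.sub_self, LambdaRing.LambdaOps.lam_zero, mul_one,
        show j' + 1 - j' = 1 by omega, LambdaRing.LambdaOps.lam_one, mul_one, ih, ih,
        Nat.choose_succ_succ, Nat.cast_add]

end aux

/-- Let K be a pre-λ-ring (λ^0 = 1, λ^1 = id, λ^n(x + y) = Σ λ^p(x) λ^q(y)) in which λ^k(1) = 0 for all
k ≥ 2, so that λ_t(1) = 1 + t. Then the γ-operations, defined as the coefficients of λ_{t/(1−t)}(x)
(γ^0 = 1 and γ^n(x) = Σ_{j=1}^{n} C(n−1, j−1) λ^j(x) for n ≥ 1), satisfy γ^n(x) = λ^n(x + n − 1) for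
all x and n. (The published statement is for a λ-ring, where λ_t also respects products and
composition; its proof uses only additivity and λ_t(1) = 1 + t, which are the hypotheses taken
here.) -/
theorem result (K : Type u) [CommRing K] [LambdaRing.LambdaOps K]
    (h1 : ∀ k : ℕ, 2 ≤ k → LambdaRing.LambdaOps.lam k (1 : K) = 0) (n : ℕ) (x : K) :
    LambdaRing.gamma n x = LambdaRing.LambdaOps.lam n (x + (n : K) - 1) := by
  rcases Nat.eq_zero_or_pos n with rfl | hn
  · simp [LambdaRing.gamma, LambdaRing.LambdaOps.lam_zero]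
  · obtain ⟨m, rfl⟩ : ∃ m, n = m + 1 := ⟨n - 1, by omega⟩
    have hx : x + ((m + 1 : ℕ) : K) - 1 = x + (m : K) := by push_cast; ring
    rw [hx, LambdaRing.LambdaOps.lam_add, LambdaRing.gamma, if_neg (Nat.succ_ne_zero m)]
    apply Finset.sum_congr rfl
    intro j hj
    rw [Finset.mem_range] at hj
    rw [lam_natCast h1]
    rcases Nat.eq_zero_or_pos j with rfl | hj0
    · simp [Nat.choose_eq_zero_of_lt]
    · rw [if_neg (by omega), Nat.add_sub_cancel, mul_comm]
      congr 2
      rw [← Nat.choose_symm (by omega : j - 1 ≤ m)]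
      congr 1
      omega

end Groth.Agent.S8649
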