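import Groth.Statements.S8650

set_option autoImplicit false
universe u
open Finset
open LambdaRing

namespace Groth.Agent.S8650

section aux
variable {K : Type u} [CommRing K] [LambdaRing.LambdaOps K]

private lemma lam_succ_add_one (h1 : ∀ k : ℕ, 2 ≤ k → LambdaRing.LambdaOps.lam k (1 : K) = 0)
    (k : ℕ) (z : K) : LambdaRing.LambdaOps.lam (k + 1) (z + 1) =
      LambdaRing.LambdaOps.lam (k + 1) z + LambdaRing.LambdaOps.lam k z := by
  rw [LambdaRing.LambdaOps.lam_add, Finset.sum_range_succ, Finset.sum_range_succ]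
  have hs : ∑ i ∈ range k, LambdaRing.LambdaOps.lam i z *
      LambdaRing.LambdaOps.lam (k + 1 - i) (1 : K) = 0 := by
    apply Finset.sum_eq_zero
    intro i hi
    rw [Finset.mem_range] at hi
    rw [h1 (k + 1 - i) (by omega), mul_zero]
  rw [hs, zero_add, Nat.sub_self, LambdaRing.LambdaOps.lam_zero, mul_one,
    show k + 1 - k = 1 by omega, LambdaRing.LambdaOps.lam_one, mul_one, add_comm]

private lemma lam_sub_one (h1 : ∀ k : ℕ, 2 ≤ k → LambdaRing.LambdaOps.lam k (1 : K) = 0)
    (k : ℕ) (y : K) : LambdaRing.LambdaOps.lam k (y - 1) =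
      (-1 : K) ^ k * ∑ i ∈ range (k + 1), (-1 : K) ^ i * LambdaRing.LambdaOps.lam i y := by
  induction k with
  | zero => simp [LambdaRing.LambdaOps.lam_zero]
  | succ k ih =>
    have h := lam_succ_add_one h1 k (y - 1)
    rw [sub_add_cancel] at h
    have h' : LambdaRing.LambdaOps.lam (k + 1) (y - 1) =
        LambdaRing.LambdaOps.lam (k + 1) y - LambdaRing.LambdaOps.lam k (y - 1) := by
      rw [h]; ring
    rw [h', ih, Finset.sum_range_succ _ (k + 1)]
    have e : (-1 : K) ^ (k + 1) * (-1 : K) ^ (k + 1) = 1 := by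
      rw [← mul_pow]; simp
    rw [mul_add, ← mul_assoc, e, one_mul, pow_succ]
    ring

end aux

/-- Let K be a pre-λ-ring (λ^0 = 1, λ^1 = id, additive formula) in which λ^k(1) = 0 for all k ≥ 2. Then
for every x ∈ K and every n, λ^n(x + n − 1) = (−1)^n Σ_{i=0}^{n} (−1)^i λ^i(x + n). (The published
statement is for a λ-ring; its proof uses only additivity and λ_t(1) = 1 + t, the hypotheses taken
here.) -/
theorem result (K : Type u) [CommRing K] [LambdaRing.LambdaOps K]
    (h1 : ∀ k : ℕ, 2 ≤ k → LambdaRing.LambdaOps.lam k (1 : K) = 0) (n : ℕ) (x : K) :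
    LambdaRing.LambdaOps.lam n (x + (n : K) - 1) =
      (-1 : K) ^ n * ∑ i ∈ range (n + 1), (-1 : K) ^ i * LambdaRing.LambdaOps.lam i (x + (n : K)) := by
  have hx : x + (n : K) - 1 = (x + (n : K)) - 1 := rfl
  rw [hx, lam_sub_one h1]

end Groth.Agent.S8650
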