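import Groth.Statements.S8655
import Mathlib
import Groth.Agent.Lib.Helper2.KRCompSch
-- import your own Groth.Agent.* helpers here

set_option autoImplicit false
universe u
open CategoryTheory CategoryTheory.Limits AlgebraicGeometry
open RegImm

namespace Groth.Agent.S8655

section

open CategoryTheory CategoryTheory.Limits AlgebraicGeometry
open Groth.Agent.Helper2.KRCompSch

theorem main {X Y Z : Scheme.{u}} (n m : ℕ) (i : Y ⟶ X) (j : Z ⟶ Y)
    (hi : RegImm.IsRegularImmersionOfCodim .koszul n i) (hj : RegImm.IsRegularImmersionOfCodim .koszul m j) :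
    RegImm.IsRegularImmersionOfCodim .koszul (m + n) (j ≫ i) := by
  haveI := hi.1
  haveI := hj.1
  refine ⟨inferInstance, fun z => ?_⟩
  obtain ⟨⟨U, hU⟩, hzU, hclU, rs, hrlen, hrs, hkerU⟩ := hi.2 (j z)
  obtain ⟨⟨V, hV⟩, hzV, hclV, ts, htlen, hts, hkerV⟩ := hj.2 z
  obtain ⟨W, hzW, hclW, qs, hqlen, hqs, hker⟩ := comp_at i j z U hU hzU hclU rs hrs hkerU
    V hV hzV hclV ts hts hkerV
  exact ⟨W, hzW, hclW, qs, by rw [hqlen, hrlen, htlen], hqs, hker⟩

end

/-- Let i : Y ⟶ X be a Koszul-regular immersion of constant codimension n and j : Z ⟶ Y a Koszul-regular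
immersion of constant codimension m (around every point the ideal is generated by a Koszul-regular
sequence of that length). Then j ≫ i is a Koszul-regular immersion of constant codimension m + n. -/
theorem result {X Y Z : Scheme.{u}} (n m : ℕ) (i : Y ⟶ X) (j : Z ⟶ Y)
    (hi : RegImm.IsRegularImmersionOfCodim .koszul n i) (hj : RegImm.IsRegularImmersionOfCodim .koszul m j) :
    RegImm.IsRegularImmersionOfCodim .koszul (m + n) (j ≫ i) := by
  exact Groth.Agent.S8655.main n m i j hi hj

end Groth.Agent.S8655
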