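import Groth.Statements.S8666
import Mathlib
-- import your own Groth.Agent.* helpers here

set_option autoImplicit false
universe u
open CAlg

namespace Groth.Agent.S8666

section

variable {A : Type u} [CommRing A] {M : Type u} [AddCommGroup M] [Module A M]

/-- `s` generates the localization of `M` at `q` -/
def Gen (q : Ideal A) [q.IsPrime] (s : M) : Prop :=
  Submodule.span (Localization.AtPrime q) {LocalizedModule.mkLinearMap q.primeCompl M s} = ⊤

theorem gen_iff (q : Ideal A) [q.IsPrime] (s : M) :
    Gen q s ↔ ∀ m : M, ∃ t ∉ q, ∃ a : A, t • m = a • s := by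
  constructor
  · intro h m
    have hm : LocalizedModule.mkLinearMap q.primeCompl M m ∈
        Submodule.span (Localization.AtPrime q) {LocalizedModule.mkLinearMap q.primeCompl M s} :=
      h ▸ Submodule.mem_top
    rw [Submodule.mem_span_singleton] at hm
    obtain ⟨c, hc⟩ := hm
    obtain ⟨⟨a, t⟩, rfl⟩ := IsLocalization.mk'_surjective q.primeCompl c
    rw [LocalizedModule.mkLinearMap_apply, LocalizedModule.mkLinearMap_apply,
      ← Localization.mk_eq_mk', LocalizedModule.mk_smul_mk, mul_one] at hc
    obtain ⟨u, hu⟩ := LocalizedModule.mk_eq.mp hc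
    refine ⟨u * t, ?_, u * a, ?_⟩
    · exact fun h => (q.primeCompl.mul_mem u.2 t.2) h
    · simp only [one_smul, Submonoid.smul_def] at hu
      rw [mul_smul, mul_smul, ← hu]
  · intro h
    rw [Gen, eq_top_iff]
    rintro x -
    induction x using LocalizedModule.induction_on with
    | h m t' =>
      obtain ⟨t, ht, a, hta⟩ := h m
      rw [Submodule.mem_span_singleton]
      refine ⟨Localization.mk a (⟨t, ht⟩ * t'), ?_⟩
      rw [LocalizedModule.mkLinearMap_apply, LocalizedModule.mk_smul_mk, mul_one,
        LocalizedModule.mk_eq]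
      refine ⟨1, ?_⟩
      simp only [one_smul, Submonoid.smul_def, Submonoid.coe_mul]
      rw [← hta, mul_smul, smul_comm]

theorem gen_of_le {q q' : Ideal A} [q.IsPrime] [q'.IsPrime] (hle : q' ≤ q) {s : M}
    (h : Gen q s) : Gen q' s := by
  rw [gen_iff] at h ⊢
  intro m
  obtain ⟨t, ht, a, hta⟩ := h m
  exact ⟨t, fun h' => ht (hle h'), a, hta⟩

theorem exists_gen [Module.Invertible A M] (q : Ideal A) [q.IsPrime] : ∃ s : M, Gen q s := by
  haveI : Module.Free (Localization.AtPrime q) (LocalizedModule q.primeCompl M) := inferInstance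
  obtain ⟨e⟩ := Module.Invertible.free_iff_linearEquiv.mp this
  have hgtop : Submodule.span (Localization.AtPrime q) {e.symm 1} = ⊤ := by
    rw [eq_top_iff]
    rintro z -
    rw [Submodule.mem_span_singleton]
    refine ⟨e z, ?_⟩
    rw [← map_smul, smul_eq_mul, mul_one, e.symm_apply_apply]
  have key : ∀ g : LocalizedModule q.primeCompl M,
      Submodule.span (Localization.AtPrime q) {g} = ⊤ → ∃ s : M, Gen q s := by
    intro g
    induction g using LocalizedModule.induction_on with
    | h m t =>
      intro hg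
      refine ⟨m, ?_⟩
      rw [Gen, eq_top_iff, ← hg, Submodule.span_singleton_le_iff_mem,
        Submodule.mem_span_singleton]
      refine ⟨Localization.mk 1 t, ?_⟩
      rw [LocalizedModule.mkLinearMap_apply, LocalizedModule.mk_smul_mk, one_smul, mul_one]
  exact key _ hgtop

theorem gen_add [Module.Finite A M] (q : Ideal A) [q.IsPrime] {s s' : M} {a : A} (h : Gen q s)
    (ha : a ∉ q) (hs' : s' ∈ q • (⊤ : Submodule A M)) : Gen q (a • s + s') := by
  set x := LocalizedModule.mkLinearMap q.primeCompl M s with hx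
  set y := LocalizedModule.mkLinearMap q.primeCompl M s' with hy
  have hy' : y ∈ IsLocalRing.maximalIdeal (Localization.AtPrime q) •
      (⊤ : Submodule (Localization.AtPrime q) (LocalizedModule q.primeCompl M)) := by
    rw [hy]
    refine Submodule.smul_induction_on hs' ?_ ?_
    · intro r hr n _
      rw [LinearMap.map_smul_of_tower, ← algebraMap_smul (Localization.AtPrime q) r]
      refine Submodule.smul_mem_smul ?_ Submodule.mem_top
      rw [← Localization.AtPrime.map_eq_maximalIdeal]
      exact Ideal.mem_map_of_mem _ hr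
    · intro u v hu hv
      rw [map_add]; exact Submodule.add_mem _ hu hv
  have hu : IsUnit (algebraMap A (Localization.AtPrime q) a) :=
    IsLocalization.map_units (M := q.primeCompl) _ ⟨a, ha⟩
  obtain ⟨u, hu'⟩ := hu
  have hmap : LocalizedModule.mkLinearMap q.primeCompl M (a • s + s') = (u : Localization.AtPrime q) • x + y := by
    rw [map_add, LinearMap.map_smul_of_tower, hu', algebraMap_smul]
  rw [Gen, hmap, eq_top_iff]
  refine Submodule.le_of_le_smul_of_le_jacobson_bot (I := IsLocalRing.maximalIdeal _)
    Module.Finite.fg_top (IsLocalRing.maximalIdeal_le_jacobson _) ?_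
  have hxe : x = (↑u⁻¹ : Localization.AtPrime q) • ((u : Localization.AtPrime q) • x + y) +
      (-(↑u⁻¹ : Localization.AtPrime q)) • y := by
    rw [smul_add, smul_smul, Units.inv_mul, one_smul, neg_smul, add_neg_cancel_right]
  have hxmem : x ∈ Submodule.span (Localization.AtPrime q) {(u : Localization.AtPrime q) • x + y} ⊔
      IsLocalRing.maximalIdeal (Localization.AtPrime q) •
        (⊤ : Submodule (Localization.AtPrime q) (LocalizedModule q.primeCompl M)) := by
    have := Submodule.add_mem_sup
      (Submodule.smul_mem _ (↑u⁻¹ : Localization.AtPrime q)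
        (Submodule.mem_span_singleton_self ((u : Localization.AtPrime q) • x + y)))
      (Submodule.smul_mem _ (-(↑u⁻¹ : Localization.AtPrime q)) hy')
    rwa [← hxe] at this
  rintro z -
  have hz : z ∈ Submodule.span (Localization.AtPrime q) {x} := h ▸ Submodule.mem_top
  obtain ⟨c, rfl⟩ := Submodule.mem_span_singleton.mp hz
  exact Submodule.smul_mem _ c hxmem

theorem exists_gen_antichain [Module.Invertible A M] (Q : Finset (PrimeSpectrum A))
    (hQ : ∀ q ∈ Q, ∀ q' ∈ Q, q'.asIdeal ≤ q.asIdeal → q' = q) :
    ∃ s : M, ∀ q ∈ Q, Gen q.asIdeal s := by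
  classical
  have h1 : ∀ q : PrimeSpectrum A, ∃ s : M, Gen q.asIdeal s := fun q => exists_gen q.asIdeal
  choose sg hsg using h1
  have h2 : ∀ q ∈ Q, ∃ a : A, a ∉ q.asIdeal ∧ ∀ q' ∈ Q, q' ≠ q → a ∈ q'.asIdeal := by
    intro q hq
    have h3 : ∀ q' ∈ Q.erase q, ∃ b : A, b ∈ q'.asIdeal ∧ b ∉ q.asIdeal := by
      intro q' hq'
      rw [Finset.mem_erase] at hq'
      by_contra hcon
      push Not at hcon
      exact hq'.1 (hQ q hq q' hq'.2 (fun b hb => hcon b hb))
    choose! b hb using h3
    refine ⟨∏ q' ∈ Q.erase q, b q', ?_, ?_⟩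
    · intro hmem
      obtain ⟨q', hq', hbq'⟩ := (Ideal.IsPrime.prod_mem_iff (hp := q.2)).mp hmem
      exact (hb q' hq').2 hbq'
    · intro q' hq' hne
      have hq'' : q' ∈ Q.erase q := Finset.mem_erase.mpr ⟨hne, hq'⟩
      exact Ideal.mem_of_dvd _ (Finset.dvd_prod_of_mem b hq'') (hb q' hq'').1
  choose! a ha using h2
  refine ⟨∑ q ∈ Q, a q • sg q, fun q hq => ?_⟩
  rw [← Finset.add_sum_erase Q _ hq]
  refine gen_add q.asIdeal (hsg q) (ha q hq).1 ?_
  refine Submodule.sum_mem _ fun q' hq' => ?_
  rw [Finset.mem_erase] at hq'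
  exact Submodule.smul_mem_smul ((ha q' hq'.2).2 q hq hq'.1.symm) Submodule.mem_top

theorem main (A : Type u) [CommRing A]
    (M : Type u) [AddCommGroup M] [Module A M] [Module.Invertible A M] (ι : Type) [Finite ι]
    (p : ι → PrimeSpectrum A) :
    ∃ s : M, ∀ i : ι, Submodule.span (Localization.AtPrime (p i).asIdeal)
      {LocalizedModule.mkLinearMap (p i).asIdeal.primeCompl M s} = ⊤ := by
  classical
  have hfin : (Set.range p).Finite := Set.finite_range p
  let P : Finset (PrimeSpectrum A) := hfin.toFinset
  let Q := P.filter (fun q => Maximal (· ∈ P) q)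
  obtain ⟨s, hs⟩ := exists_gen_antichain (M := M) Q (by
    intro q hq q' hq' hle
    rw [Finset.mem_filter] at hq hq'
    exact le_antisymm hle (hq'.2.2 hq.1 hle))
  refine ⟨s, fun i => ?_⟩
  have hi : p i ∈ P := hfin.mem_toFinset.mpr ⟨i, rfl⟩
  obtain ⟨q, hle, hq⟩ := P.exists_le_maximal hi
  have hqQ : q ∈ Q := Finset.mem_filter.mpr ⟨hq.1, hq⟩
  exact gen_of_le hle (hs q hqQ)

end

/-- Let A be a Noetherian ring, M an invertible A-module and p_1, …, p_k finitely many primes of A
(points of Spec A). Then there is a single element s ∈ M whose image generates M_{p_i} as an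
A_{p_i}-module for every i, i.e. s is a basis of the stalk of M at each of the given points. -/
theorem result (A : Type u) [CommRing A] [IsNoetherianRing A]
    (M : Type u) [AddCommGroup M] [Module A M] [Module.Invertible A M] (ι : Type) [Finite ι] (p : ι → PrimeSpectrum A) :
    ∃ s : M, ∀ i : ι, Submodule.span (Localization.AtPrime (p i).asIdeal)
      {LocalizedModule.mkLinearMap (p i).asIdeal.primeCompl M s} = ⊤ := by
  exact Groth.Agent.S8666.main A M ι p

end Groth.Agent.S8666
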