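import Groth.Statements.S8678
import Groth.Agent.Lib.Helper13.LamLine
import Mathlib.RingTheory.Ideal.Quotient.Operations

set_option autoImplicit false
universe u
open Finset
open LambdaRing

namespace Groth.Agent.S8678

/-- As the identity it proves in the pre-λ-ring K(Y') of the exceptional divisor: let K be a pre-λ-ring
(λ^0 = 1, λ^1 = id, additive formula) with λ^k(1) = 0 for all k ≥ 2, let d ≥ 2, and let F, L, N' ∈ K
satisfy λ^j(L) = 0 for j ≥ 2 (L is the class of an invertible module), λ^i(N') = 0 for i ≥ d − 1 (N'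
is the class of a bundle of rank d − 2) and F + L = N' + 2 (for the blowing up of a regular
immersion of codimension d: on the exceptional divisor the pulled-back conormal class is F + L, and
N = N' + 2). Then 1 − L divides λ_{−1}(F) = Σ_{i<d} (−1)^i λ^i(F). (The published proof uses only
additivity of λ_t and λ_t(1) = 1 + t, the hypotheses taken here.) -/
theorem result (K : Type u) [CommRing K] [LambdaRing.LambdaOps K]
    (h1 : ∀ k : ℕ, 2 ≤ k → LambdaRing.LambdaOps.lam k (1 : K) = 0) (d : ℕ) (hd : 2 ≤ d) (F L N' : K)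
    (hL : ∀ j : ℕ, 2 ≤ j → LambdaRing.LambdaOps.lam j L = 0) (hN' : ∀ i : ℕ, d - 1 ≤ i → LambdaRing.LambdaOps.lam i N' = 0)
    (hrel : F + L = N' + 2) :
    (1 - L) ∣ ∑ i ∈ range d, (-1 : K) ^ i * LambdaRing.LambdaOps.lam i F := by
  open Groth.Agent.Helper13.Lam PowerSeries in
  -- work modulo (1 - L)
  set I : Ideal K := Ideal.span {1 - L} with hI
  set π : K →+* K ⧸ I := Ideal.Quotient.mk I with hπ
  have hπL : π L = 1 := by
    have : π (1 - L) = 0 := Ideal.Quotient.eq_zero_iff_mem.2 (Ideal.subset_span rfl)
    rw [map_sub, map_one, sub_eq_zero] at this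
    exact this.symm
  -- the multiplicative relation between the λ-series
  have hrel' : lamSeries F * lamSeries L = lamSeries N' * ((1 + PowerSeries.X) * (1 + PowerSeries.X)) := by
    rw [← lamSeries_add, hrel, show (2 : K) = 1 + 1 by norm_num, lamSeries_add, lamSeries_add,
      lamSeries_one h1]
  have hmapL : PowerSeries.map π (lamSeries L) = 1 + PowerSeries.X := by
    rw [lamSeries_of_line L hL, map_add, map_one, map_mul, PowerSeries.map_C, PowerSeries.map_X, hπL, map_one,
      one_mul]
  have h2 := congrArg (PowerSeries.map π) hrel'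
  rw [map_mul, hmapL, map_mul, map_mul, map_add, map_one, PowerSeries.map_X, ← mul_assoc] at h2
  have hunit : IsUnit (1 + PowerSeries.X : PowerSeries (K ⧸ I)) := by
    rw [PowerSeries.isUnit_iff_constantCoeff]
    simp
  have h3 : PowerSeries.map π (lamSeries F) = PowerSeries.map π (lamSeries N') * (1 + PowerSeries.X) :=
    hunit.mul_left_injective h2
  -- the alternating sum vanishes in the quotient
  have h4 : π (∑ i ∈ range d, (-1 : K) ^ i * LambdaRing.LambdaOps.lam i F) = 0 := by
    obtain ⟨m, rfl⟩ : ∃ m, d = m + 1 := ⟨d - 1, by omega⟩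
    rw [map_sum]
    have : ∀ i ∈ range (m + 1), π ((-1 : K) ^ i * LambdaRing.LambdaOps.lam i F) =
        (-1 : K ⧸ I) ^ i * PowerSeries.coeff i (PowerSeries.map π (lamSeries N') * (1 + PowerSeries.X)) := by
      intro i _
      rw [← h3, PowerSeries.coeff_map, coeff_lamSeries, map_mul, map_pow, map_neg, map_one]
    rw [Finset.sum_congr rfl this, alt_sum_mul_one_add_X, PowerSeries.coeff_map, coeff_lamSeries,
      hN' m (by omega), map_zero, mul_zero]
  have h5 : (∑ i ∈ range d, (-1 : K) ^ i * LambdaRing.LambdaOps.lam i F) ∈ I :=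
    Ideal.Quotient.eq_zero_iff_mem.1 h4
  exact Ideal.mem_span_singleton.1 h5

end Groth.Agent.S8678
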