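import Groth.Statements.S8686

set_option autoImplicit false
universe u
open LambdaRing

namespace Groth.Agent.S8686

/-- Let K be a pre-λ-ring with λ^n(1) = 0 for all n ≥ 2, i.e. λ_t(1) = 1 + t. Then the Adams operations,
defined for k ≥ 1 through (d/dt λ_t(x)) · λ_t(x)⁻¹ = Σ_{k ≥ 1} (−1)^{k−1} ψ^k(x) t^{k−1}, satisfy
ψ^k(1) = 1 for every k ≥ 1. (The published statement is for a λ-ring in the strict sense; this
identity uses only λ_t(1) = 1 + t, the hypothesis taken here.) -/
theorem result (K : Type u) [CommRing K] [LambdaRing.LambdaOps K]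
    (h1 : ∀ n : ℕ, 2 ≤ n → LambdaRing.LambdaOps.lam n (1 : K) = 0) (k : ℕ) (hk : 1 ≤ k) :
    LambdaRing.adamsOp k (1 : K) = 1 := by
  obtain ⟨k, rfl⟩ : ∃ k', k = k' + 1 := ⟨k - 1, by omega⟩
  have hlam : LambdaRing.lamSeries (1 : K) = 1 + PowerSeries.X := by
    ext n
    rw [LambdaRing.lamSeries, PowerSeries.coeff_mk, map_add, PowerSeries.coeff_one,
      PowerSeries.coeff_X]
    rcases n with _ | _ | n
    · simp [LambdaRing.LambdaOps.lam_zero]
    · simp [LambdaRing.LambdaOps.lam_one]
    · rw [h1 (n + 2) (by omega)]; simp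
  have hmul : (1 + PowerSeries.X : PowerSeries K) * PowerSeries.mk (fun n => (-1 : K) ^ n) = 1 := by
    ext n
    rw [add_mul, one_mul, map_add, PowerSeries.coeff_mk, PowerSeries.coeff_one]
    rcases n with _ | n
    · simp
    · rw [PowerSeries.coeff_succ_X_mul, PowerSeries.coeff_mk, pow_succ]; simp
  have hinv : (1 + PowerSeries.X : PowerSeries K).invOfUnit 1 =
      PowerSeries.mk (fun n => (-1 : K) ^ n) := by
    have h2 : (1 + PowerSeries.X : PowerSeries K) * (1 + PowerSeries.X : PowerSeries K).invOfUnit 1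
        = 1 := PowerSeries.mul_invOfUnit _ _ (by simp)
    calc (1 + PowerSeries.X : PowerSeries K).invOfUnit 1
        = (1 + PowerSeries.X : PowerSeries K).invOfUnit 1 *
          ((1 + PowerSeries.X : PowerSeries K) * PowerSeries.mk (fun n => (-1 : K) ^ n)) := by
            rw [hmul, mul_one]
      _ = ((1 + PowerSeries.X : PowerSeries K) * (1 + PowerSeries.X : PowerSeries K).invOfUnit 1) *
          PowerSeries.mk (fun n => (-1 : K) ^ n) := by ring
      _ = _ := by rw [h2, one_mul]
  show (-1 : K) ^ k * PowerSeries.coeff k (LambdaRing.logDerivSeries (1 : K)) = 1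
  rw [LambdaRing.logDerivSeries, hlam, hinv, map_add, PowerSeries.derivative_X]
  have hd1 : PowerSeries.derivative K (1 : PowerSeries K) = 0 := by
    rw [← map_one (PowerSeries.C (R := K)), PowerSeries.derivative_C]
  rw [hd1, zero_add, one_mul, PowerSeries.coeff_mk, ← mul_pow]
  simp

end Groth.Agent.S8686
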