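import Groth.Statements.S8699
import Groth.Agent.Lib.Helper13.LamSpecial
import Mathlib.RingTheory.Flat.TorsionFree
import Mathlib.RingTheory.TensorProduct.Basic

set_option autoImplicit false
universe u
open LambdaRing

namespace Groth.Agent.S8699

open Groth.Agent.Helper13.Lam PowerSeries

attribute [local instance] BinomialRing.toIsAddTorsionFree

theorem choose_identity {K : Type u} [CommRing K] [BinomialRing K] (r : K) (m : ℕ) :
    Ring.choose r (m + 1) * ((m : K) + 1) + Ring.choose r m * (m : K) = r * Ring.choose r m := by
  have h1 : ∀ n : ℕ, Ring.choose r (n + 1) * ((n : K) + 1) = r * Ring.choose (r - 1) n := by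
    intro n
    have := Ring.choose_smul_choose r (k := 1) (n := n + 1) (by omega)
    rw [Nat.choose_one_right, Ring.choose_one_right, Nat.add_sub_cancel, Nat.cast_one, nsmul_eq_mul] at this
    rw [← this]
    push_cast
    ring
  rcases m with _ | m
  · rw [Ring.choose_one_right, Ring.choose_zero_right]
    simp
  · have hp := Ring.choose_succ_succ (r - 1) m
    rw [sub_add_cancel] at hp
    rw [h1 (m + 1), hp]
    have h2 := h1 m
    rw [hp] at h2
    push_cast
    push_cast at h2
    linear_combination h2

theorem adams_binomial {K : Type u} [CommRing K] [LambdaRing.LambdaOps K] [BinomialRing K]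
    (hKb : LambdaRing.IsBinomial K) (k : ℕ) (hk : 1 ≤ k) (x : K) : LambdaRing.adamsOp k x = x := by
  obtain ⟨k, rfl⟩ : ∃ j, k = j + 1 := ⟨k - 1, by omega⟩
  -- (d/dt λ_t(x)) (1 + t) = x λ_t(x)
  have h3 : PowerSeries.derivative K (LambdaRing.lamSeries x) * (1 + PowerSeries.X) =
      PowerSeries.C x * LambdaRing.lamSeries x := by
    ext m
    rw [mul_add, mul_one, map_add, PowerSeries.coeff_C_mul, coeff_lamSeries]
    rcases m with _ | m
    · rw [PowerSeries.coeff_zero_mul_X, add_zero, PowerSeries.coeff_derivative, coeff_lamSeries, hKb, hKb]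
      have := choose_identity x 0
      simpa using this
    · rw [PowerSeries.coeff_succ_mul_X, PowerSeries.coeff_derivative, PowerSeries.coeff_derivative, coeff_lamSeries,
        coeff_lamSeries, hKb, hKb]
      have := choose_identity x (m + 1)
      push_cast at this ⊢
      linear_combination this
  have h4 : LambdaRing.logDerivSeries x * (1 + PowerSeries.X) = PowerSeries.C x := by
    unfold LambdaRing.logDerivSeries
    calc PowerSeries.derivative K (LambdaRing.lamSeries x) * (LambdaRing.lamSeries x).invOfUnit 1 * (1 + PowerSeries.X)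
        = (PowerSeries.derivative K (LambdaRing.lamSeries x) * (1 + PowerSeries.X)) *
            (LambdaRing.lamSeries x).invOfUnit 1 := by ring
      _ = PowerSeries.C x * (LambdaRing.lamSeries x * (LambdaRing.lamSeries x).invOfUnit 1) := by rw [h3]; ring
      _ = PowerSeries.C x := by rw [lamSeries_mul_invOfUnit, mul_one]
  have h5 : ∀ j : ℕ, PowerSeries.coeff j (LambdaRing.logDerivSeries x) = (-1) ^ j * x := by
    intro j
    induction j with
    | zero =>
      have := congrArg (PowerSeries.coeff 0) h4
      rw [mul_add, mul_one, map_add, PowerSeries.coeff_zero_mul_X, add_zero, PowerSeries.coeff_zero_C] at this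
      rw [this, pow_zero, one_mul]
    | succ j ih =>
      have := congrArg (PowerSeries.coeff (j + 1)) h4
      rw [mul_add, mul_one, map_add, PowerSeries.coeff_succ_mul_X, ih, PowerSeries.coeff_C, if_neg (by omega)] at this
      rw [pow_succ]
      linear_combination this
  rw [adamsOp_succ, h5, ← mul_assoc, ← mul_pow, neg_one_mul, neg_neg, one_pow, one_mul]

/-- A binomial ring K (no additive torsion and all binomial coefficients C(x, n) defined) with its
binomial λ-structure λ^n(x) = C(x, n), i.e. λ_t(x) = (1 + t)^x, is a λ-ring in the strict sense: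
λ_t(1) = 1 + t, λ^n(xy) = P_n(λ^1 x, …; λ^1 y, …) and λ^j(λ^i x) = Q_{i,j}(λ^1 x, …) for the
universal polynomials. In particular the integers with λ^n(m) = C(m, n) form a λ-ring. -/
theorem result (K : Type u) [CommRing K] [LambdaRing.LambdaOps K] [BinomialRing K]
    (hKb : LambdaRing.IsBinomial K) : LambdaRing.IsSpecial K := by
  have hflat : Module.Flat ℤ K := inferInstance
  have hinj : Function.Injective
      ((Algebra.TensorProduct.includeRight : K →ₐ[ℤ] TensorProduct ℤ ℚ K) : K →+* TensorProduct ℤ ℚ K) := by
    have := Algebra.TensorProduct.includeRight_injective (R := ℤ) (A := ℚ) (B := K)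
      (by exact (algebraMap ℤ ℚ).injective_int)
    exact this
  refine isSpecial_of_adams
    ((Algebra.TensorProduct.includeRight : K →ₐ[ℤ] TensorProduct ℤ ℚ K) : K →+* TensorProduct ℤ ℚ K) hinj ?_ ?_ ?_
  · intro k hk
    exact adams_binomial hKb k hk 1
  · intro k hk x y
    rw [adams_binomial hKb k hk, adams_binomial hKb k hk, adams_binomial hKb k hk]
  · intro k k' hk hk' x
    rw [adams_binomial hKb k' hk', adams_binomial hKb k hk,
      adams_binomial hKb (k * k') (Nat.mul_pos hk hk')]

end Groth.Agent.S8699
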