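import Groth.Statements.S8702
import Groth.Agent.Lib.Helper13.LamODE

set_option autoImplicit false
universe u
open LambdaRing

namespace Groth.Agent.S8702

open Groth.Agent.Helper13.Lam PowerSeries

/-- The coefficients of the prescribed logarithmic derivative. -/
noncomputable def cc {K : Type u} [CommRing K] (ψ : ℕ → K →+ K) (x : K) : ℕ → K :=
  fun j => (-1) ^ j * ψ (j + 1) x

theorem cc_add {K : Type u} [CommRing K] (ψ : ℕ → K →+ K) (x y : K) : cc ψ (x + y) = cc ψ x + cc ψ y := by
  funext j
  simp only [cc, map_add, mul_add, Pi.add_apply]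

/-- Any pre-λ-structure with the prescribed Adams operations has the prescribed λ-operations. -/
theorem lam_eq_sol {K : Type u} [CommRing K] [Algebra ℚ K] [LambdaRing.LambdaOps K] (ψ : ℕ → K →+ K)
    (h : ∀ k : ℕ, 1 ≤ k → ∀ x : K, LambdaRing.adamsOp k x = ψ k x) (i : ℕ) (x : K) :
    LambdaRing.LambdaOps.lam i x = sol (cc ψ x) i := by
  have hL : LambdaRing.logDerivSeries x = PowerSeries.mk (cc ψ x) := by
    ext k
    rw [coeff_logDerivSeries, PowerSeries.coeff_mk, h (k + 1) (by omega)]
    rfl
  have h1 := derivative_lamSeries x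
  rw [hL] at h1
  have h2 := derivative_solSeries (cc ψ x)
  have h0 : PowerSeries.constantCoeff (LambdaRing.lamSeries x) = PowerSeries.constantCoeff (solSeries (cc ψ x)) := by
    rw [constantCoeff_lamSeries, constantCoeff_solSeries]
  have := ode_unique _ _ _ h0 h1 h2
  have h3 := congrArg (PowerSeries.coeff i) this
  rw [coeff_lamSeries, solSeries, PowerSeries.coeff_mk] at h3
  exact h3

/-- The pre-λ-structure attached to a family of additive operations. -/
noncomputable def ops {K : Type u} [CommRing K] [Algebra ℚ K] (ψ : ℕ → K →+ K) (hψ : ψ 1 = AddMonoidHom.id K) :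
    LambdaRing.LambdaOps K where
  lam i x := sol (cc ψ x) i
  lam_zero x := sol_zero _
  lam_one x := by
    rw [sol_succ]
    simp [cc, hψ, sol_zero]
  lam_add k x y := by
    have := congrArg (PowerSeries.coeff k) (solSeries_add (cc ψ x) (cc ψ y))
    rw [← cc_add, PowerSeries.coeff_mul, Finset.Nat.sum_antidiagonal_eq_sum_range_succ_mk] at this
    simp only [solSeries, PowerSeries.coeff_mk] at this
    exact this

theorem ops_adams {K : Type u} [CommRing K] [Algebra ℚ K] (ψ : ℕ → K →+ K) (hψ : ψ 1 = AddMonoidHom.id K)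
    (k : ℕ) (hk : 1 ≤ k) (x : K) : @LambdaRing.adamsOp K _ (ops ψ hψ) k x = ψ k x := by
  letI := ops ψ hψ
  obtain ⟨k, rfl⟩ : ∃ j, k = j + 1 := ⟨k - 1, by omega⟩
  have hs : LambdaRing.lamSeries x = solSeries (cc ψ x) := rfl
  have hL : LambdaRing.logDerivSeries x = PowerSeries.mk (cc ψ x) := by
    unfold LambdaRing.logDerivSeries
    rw [hs, derivative_solSeries, mul_comm, ← mul_assoc, ← hs, invOfUnit_mul_lamSeries, one_mul]
  rw [adamsOp_succ, hL, PowerSeries.coeff_mk]
  change (-1) ^ k * ((-1) ^ k * ψ (k + 1) x) = _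
  rw [← mul_assoc, ← mul_pow, neg_one_mul, neg_neg, one_pow, one_mul]

theorem lambdaOps_ext {K : Type u} [CommRing K] (L L' : LambdaRing.LambdaOps K)
    (h : ∀ i x, L.lam i x = L'.lam i x) : L = L' := by
  cases L with
  | mk lam a b c =>
    cases L' with
    | mk lam' a' b' c' =>
      have : lam = lam' := by
        funext i x
        exact h i x
      subst this
      rfl

/-- Let K be a commutative ring which is an algebra over the rationals, and let ψ^k : K → K, k ≥ 1, be
additive maps with ψ^1 the identity. Then there is one and only one pre-λ-structure on K whose Adams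
operations (defined through the logarithmic derivative of λ_t) are the ψ^k for every k ≥ 1, namely
λ_t(x) = exp(Σ_{k ≥ 1} (−1)^{k−1} ψ^k(x) t^k / k): in characteristic zero, pre-λ-structures and
families of additive operations ψ^k with ψ^1 = id determine each other. (The value of the family at
k = 0 is ignored.) -/
theorem result (K : Type u) [CommRing K] [Algebra ℚ K]
    (ψ : ℕ → K →+ K) (hψ : ψ 1 = AddMonoidHom.id K) :
    ∃! L : LambdaRing.LambdaOps K, ∀ k : ℕ, 1 ≤ k → ∀ x : K, @LambdaRing.adamsOp K _ L k x = ψ k x := by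
  refine ⟨ops ψ hψ, fun k hk x => ops_adams ψ hψ k hk x, ?_⟩
  intro L' hL'
  apply lambdaOps_ext
  intro i x
  exact @lam_eq_sol K _ _ L' ψ hL' i x

end Groth.Agent.S8702
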