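import Groth.Statements.S8703
import Groth.Agent.Lib.Helper13.LamBasic

set_option autoImplicit false
universe u
open LambdaRing

namespace Groth.Agent.S8703

/-- The Adams operations commute with λ-homomorphisms, and conversely, if K and K' are pre-λ-rings which
are algebras over the rationals, a ring homomorphism f : K → K' commuting with the ψ^k for all k ≥ 1
is a λ-homomorphism (commutes with all λ^i), the λ^i being expressible through the ψ^k in
characteristic zero. -/
theorem result (K K' : Type u) [CommRing K] [CommRing K']
    [LambdaRing.LambdaOps K] [LambdaRing.LambdaOps K'] [Algebra ℚ K] [Algebra ℚ K'] (f : K →+* K') :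
    LambdaRing.IsLambdaHom f ↔
      ∀ k : ℕ, 1 ≤ k → ∀ x : K, f (LambdaRing.adamsOp k x) = LambdaRing.adamsOp k (f x) := by
  open Groth.Agent.Helper13.Lam PowerSeries in
  have hmaplog : ∀ x : K, PowerSeries.map f (LambdaRing.lamSeries x) = LambdaRing.lamSeries (f x) →
      PowerSeries.map f (LambdaRing.logDerivSeries x) = LambdaRing.logDerivSeries (f x) := by
    intro x h
    unfold LambdaRing.logDerivSeries
    rw [map_mul, map_derivative, map_invOfUnit_one f _ (constantCoeff_lamSeries x), h]
  constructor
  · intro hf k hk x
    obtain ⟨k, rfl⟩ : ∃ j, k = j + 1 := ⟨k - 1, by omega⟩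
    have h : PowerSeries.map f (LambdaRing.lamSeries x) = LambdaRing.lamSeries (f x) := by
      ext n
      rw [PowerSeries.coeff_map, coeff_lamSeries, coeff_lamSeries, hf]
    rw [adamsOp_succ, adamsOp_succ, map_mul, map_pow, map_neg, map_one, ← hmaplog x h, PowerSeries.coeff_map]
  · intro h i x
    have hL : PowerSeries.map f (LambdaRing.logDerivSeries x) = LambdaRing.logDerivSeries (f x) := by
      ext k
      rw [PowerSeries.coeff_map, coeff_logDerivSeries, coeff_logDerivSeries, map_mul, map_pow, map_neg, map_one,
        h (k + 1) (by omega)]
    have hy : PowerSeries.derivative K' (PowerSeries.map f (LambdaRing.lamSeries x)) =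
        PowerSeries.map f (LambdaRing.lamSeries x) * LambdaRing.logDerivSeries (f x) := by
      rw [← map_derivative, derivative_lamSeries, map_mul, hL]
    have hz := derivative_lamSeries (f x)
    have h0 : PowerSeries.constantCoeff (PowerSeries.map f (LambdaRing.lamSeries x)) =
        PowerSeries.constantCoeff (LambdaRing.lamSeries (f x)) := by
      rw [constantCoeff_lamSeries, ← PowerSeries.coeff_zero_eq_constantCoeff_apply, PowerSeries.coeff_map,
        PowerSeries.coeff_zero_eq_constantCoeff_apply, constantCoeff_lamSeries, map_one]
    have := ode_unique _ _ _ h0 hy hz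
    have h2 := congrArg (PowerSeries.coeff i) this
    rw [PowerSeries.coeff_map, coeff_lamSeries, coeff_lamSeries] at h2
    exact h2

end Groth.Agent.S8703
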