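import Groth.Statements.S8704
import Groth.Agent.Lib.Helper13.LamGamma

set_option autoImplicit false
universe u v
open LambdaRing

namespace Groth.Agent.S8704

section Aux

open Groth.Agent.Helper13.Lam PowerSeries

variable {K : Type u} [CommRing K] [LambdaRing.LambdaOps K] {A : Type v} [CommRing A]
  [LambdaRing.LambdaOps A] [Algebra K A] (ε : A →ₐ[K] K) (S : Set A)

def gens (m : ℕ) : Set A :=
  {y : A | ∃ l : List (ℕ × A), (∀ p ∈ l, p.2 ∈ S) ∧ m ≤ (l.map Prod.fst).sum ∧
    y = (l.map fun p => LambdaRing.gamma p.1 (p.2 - algebraMap K A (ε p.2))).prod}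

def WW (m : ℕ) : Submodule K A := Submodule.span K (gens ε S m)

lemma WW_anti {m m' : ℕ} (h : m ≤ m') : WW ε S m' ≤ WW ε S m := by
  apply Submodule.span_mono
  rintro y ⟨l, hl, hm, rfl⟩
  exact ⟨l, hl, h.trans hm, rfl⟩

lemma one_mem_WW : (1 : A) ∈ WW ε S 0 :=
  Submodule.subset_span ⟨[], by simp, by simp, by simp⟩

lemma WW_mul {m m' : ℕ} {x y : A} (hx : x ∈ WW ε S m) (hy : y ∈ WW ε S m') :
    x * y ∈ WW ε S (m + m') := by
  have h : WW ε S m * WW ε S m' ≤ WW ε S (m + m') := by
    rw [WW, WW, Submodule.span_mul_span]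
    apply Submodule.span_mono
    rintro _ ⟨a, ⟨l, hl, hm, rfl⟩, b, ⟨l', hl', hm', rfl⟩, rfl⟩
    refine ⟨l ++ l', ?_, ?_, ?_⟩
    · intro p hp
      rcases List.mem_append.mp hp with h | h
      · exact hl p h
      · exact hl' p h
    · rw [List.map_append, List.sum_append]
      exact add_le_add hm hm'
    · simp only [List.map_append, List.prod_append]
  exact h (Submodule.mul_mem_mul hx hy)

lemma gamma_add_mem {u v : A} (hu : ∀ i, LambdaRing.gamma i u ∈ WW ε S i)
    (hv : ∀ i, LambdaRing.gamma i v ∈ WW ε S i) (i : ℕ) : LambdaRing.gamma i (u + v) ∈ WW ε S i := by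
  rw [← coeff_gammaSeries, gammaSeries_add, coeff_mul]
  apply Submodule.sum_mem
  intro p hp
  rw [coeff_gammaSeries, coeff_gammaSeries]
  have := WW_mul ε S (hu p.1) (hv p.2)
  rwa [Finset.mem_antidiagonal.mp hp] at this

lemma gamma_zero_mem (i : ℕ) : LambdaRing.gamma i (0 : A) ∈ WW ε S i := by
  rw [← coeff_gammaSeries, gammaSeries_zero, coeff_one]
  split_ifs with h
  · subst h
    exact one_mem_WW ε S
  · exact Submodule.zero_mem _

lemma gamma_neg_mem {u : A} (hu : ∀ i, LambdaRing.gamma i u ∈ WW ε S i) (i : ℕ) :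
    LambdaRing.gamma i (-u) ∈ WW ε S i := by
  induction i using Nat.strong_induction_on with
  | _ i ih =>
    rcases i with _ | i
    · have : LambdaRing.gamma 0 (-u) = 1 := by simp [LambdaRing.gamma]
      rw [this]
      exact one_mem_WW ε S
    · have h1 : gammaSeries u * gammaSeries (-u) = 1 := by
        rw [← gammaSeries_add, add_neg_cancel, gammaSeries_zero]
      have h2 := congrArg (coeff (i + 1)) h1
      rw [coeff_mul, Finset.Nat.sum_antidiagonal_succ, coeff_one, if_neg (Nat.succ_ne_zero i)] at h2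
      simp only [coeff_gammaSeries] at h2
      have h3 : LambdaRing.gamma 0 u = 1 := by simp [LambdaRing.gamma]
      rw [h3, one_mul] at h2
      have h4 : LambdaRing.gamma (i + 1) (-u) =
          -∑ p ∈ Finset.antidiagonal i, LambdaRing.gamma (p.1 + 1) u * LambdaRing.gamma p.2 (-u) :=
        eq_neg_of_add_eq_zero_left h2
      rw [h4]
      apply Submodule.neg_mem
      apply Submodule.sum_mem
      intro p hp
      have hp' := Finset.mem_antidiagonal.mp hp
      have := WW_mul ε S (hu (p.1 + 1)) (ih p.2 (by omega))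
      have e : p.1 + 1 + p.2 = i + 1 := by omega
      rwa [e] at this

lemma gamma_sub_mem (hS : AddSubgroup.closure S = ⊤) (x : A) :
    ∀ i, LambdaRing.gamma i (x - algebraMap K A (ε x)) ∈ WW ε S i := by
  have hx : x ∈ AddSubgroup.closure S := by rw [hS]; trivial
  induction hx using AddSubgroup.closure_induction with
  | mem s hs =>
    intro i
    apply Submodule.subset_span
    exact ⟨[(i, s)], by simpa using hs, by simp, by simp⟩
  | zero =>
    intro i
    simp only [map_zero, sub_zero]
    exact gamma_zero_mem ε S i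
  | add x y _ _ hx hy =>
    intro i
    have : x + y - algebraMap K A (ε (x + y)) =
        (x - algebraMap K A (ε x)) + (y - algebraMap K A (ε y)) := by
      rw [map_add, map_add]; ring
    rw [this]
    exact gamma_add_mem ε S hx hy i
  | neg x _ hx =>
    intro i
    have : -x - algebraMap K A (ε (-x)) = -(x - algebraMap K A (ε x)) := by
      rw [map_neg, map_neg]; ring
    rw [this]
    exact gamma_neg_mem ε S hx i

lemma gamma_mem (hS : AddSubgroup.closure S = ⊤) (x : A) (hx : ε x = 0) (i : ℕ) :
    LambdaRing.gamma i x ∈ WW ε S i := by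
  have := gamma_sub_mem ε S hS x i
  rwa [hx, map_zero, sub_zero] at this

lemma WW_zero_eq_top (hS : AddSubgroup.closure S = ⊤) : WW ε S 0 = ⊤ := by
  rw [eq_top_iff]
  intro a _
  have h1 : LambdaRing.gamma 1 (a - algebraMap K A (ε a)) = a - algebraMap K A (ε a) := by
    simp [LambdaRing.gamma, Finset.sum_range_succ, LambdaRing.LambdaOps.lam_one]
  have h2 : a - algebraMap K A (ε a) ∈ WW ε S 0 := by
    rw [← h1]
    exact WW_anti ε S (Nat.zero_le 1) (gamma_sub_mem ε S hS a 1)
  have h3 : algebraMap K A (ε a) ∈ WW ε S 0 := by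
    rw [Algebra.algebraMap_eq_smul_one]
    exact Submodule.smul_mem _ _ (one_mem_WW ε S)
  have := Submodule.add_mem _ h2 h3
  rwa [sub_add_cancel] at this

lemma prod_mem (hS : AddSubgroup.closure S = ⊤) (l : List (ℕ × A)) (hl : ∀ p ∈ l, ε p.2 = 0) :
    (l.map fun p => LambdaRing.gamma p.1 p.2).prod ∈ WW ε S (l.map Prod.fst).sum := by
  induction l with
  | nil => simpa using one_mem_WW ε S
  | cons p l ih =>
    simp only [List.map_cons, List.prod_cons, List.sum_cons]
    exact WW_mul ε S (gamma_mem ε S hS p.2 (hl p (by simp)) p.1)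
      (ih fun q hq => hl q (List.mem_cons_of_mem _ hq))

end Aux

/-- Let K and A be λ-rings in the strict sense, A an augmented K-λ-algebra with augmentation ε : A → K,
and Fil^n A its γ-filtration, the ideal generated by the products γ^{i_1}(x_1) ⋯ γ^{i_k}(x_k) with
i_1 + ⋯ + i_k ≥ n and all ε(x_r) = 0. If a subset S generates A as an abelian group, then Fil^n A,
as a K-submodule of A, is generated over K by the products γ^{i_1}(s_1 − ε(s_1)) ⋯ γ^{i_k}(s_k −
ε(s_k)) with s_r ∈ S and i_1 + ⋯ + i_k ≥ n. -/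
theorem result
    (K : Type u) [CommRing K] [LambdaRing.LambdaOps K] (hK : LambdaRing.IsSpecial K)
    (A : Type v) [CommRing A] [LambdaRing.LambdaOps A] [Algebra K A] (hA : LambdaRing.IsSpecial A)
    (ε : A →ₐ[K] K) (hε : LambdaRing.IsAugLambdaAlg K A ε)
    (S : Set A) (hS : AddSubgroup.closure S = ⊤) (n : ℕ) :
    (LambdaRing.gammaFil (ε : A →+* K) n).restrictScalars K =
      Submodule.span K {y : A | ∃ l : List (ℕ × A), (∀ p ∈ l, p.2 ∈ S) ∧ n ≤ (l.map Prod.fst).sum ∧
        y = (l.map fun p => LambdaRing.gamma p.1 (p.2 - algebraMap K A (ε p.2))).prod} := by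
  change _ = WW ε S n
  apply le_antisymm
  · intro y hy
    rw [Submodule.restrictScalars_mem, LambdaRing.gammaFil] at hy
    induction hy using Submodule.span_induction with
    | mem y hy =>
      obtain ⟨l, hl, hn, rfl⟩ := hy
      exact WW_anti ε S hn (prod_mem ε S hS l hl)
    | zero => exact Submodule.zero_mem _
    | add x y _ _ hx hy => exact Submodule.add_mem _ hx hy
    | smul a x _ hx =>
      have ha : a ∈ WW ε S 0 := by rw [WW_zero_eq_top ε S hS]; trivial
      have := WW_mul ε S ha hx
      rwa [zero_add] at this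
  · apply Submodule.span_le.mpr
    rintro y ⟨l, hl, hn, rfl⟩
    rw [SetLike.mem_coe, Submodule.restrictScalars_mem, LambdaRing.gammaFil]
    apply Ideal.subset_span
    refine ⟨l.map fun p => (p.1, p.2 - algebraMap K A (ε p.2)), ?_, ?_, ?_⟩
    · intro p hp
      obtain ⟨q, _, rfl⟩ := List.mem_map.mp hp
      simp
    · simpa [List.map_map, Function.comp_def] using hn
    · simp [List.map_map, Function.comp_def]

end Groth.Agent.S8704
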