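import Groth.Statements.S8705
import Mathlib.LinearAlgebra.Quotient.Basic
import Mathlib.Algebra.Module.Submodule.Range
import Mathlib.Tactic.Abel
import Mathlib.Algebra.Group.MinimalAxioms
import Mathlib.Tactic.Ring

set_option autoImplicit false
universe u
open SGA7

namespace Groth.Agent.S8705

section Aux

variable (P : Type u) [AddCommGroup P]

noncomputable def eps : (P →₀ ℤ) →ₗ[ℤ] P := Finsupp.linearCombination ℤ (fun p : P => p)

noncomputable def d0 : (P × P →₀ ℤ) →ₗ[ℤ] (P →₀ ℤ) := Finsupp.linearCombination ℤ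
  (fun pq : P × P => Finsupp.single (pq.1 + pq.2) 1 - Finsupp.single pq.1 1 - Finsupp.single pq.2 1)

noncomputable def d1 : (P × P × P →₀ ℤ) →ₗ[ℤ] (P × P →₀ ℤ) := Finsupp.linearCombination ℤ
  (fun t : P × P × P => Finsupp.single (t.1 + t.2.1, t.2.2) 1 - Finsupp.single (t.1, t.2.1 + t.2.2) 1
    + Finsupp.single (t.1, t.2.1) 1 - Finsupp.single (t.2.1, t.2.2) 1)

noncomputable def d1' : (P × P →₀ ℤ) →ₗ[ℤ] (P × P →₀ ℤ) := Finsupp.linearCombination ℤ
  (fun pq : P × P => Finsupp.single pq 1 - Finsupp.single (pq.2, pq.1) 1)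

lemma d0_single (p q : P) : d0 P (Finsupp.single (p, q) 1) =
    Finsupp.single (p + q) 1 - Finsupp.single p 1 - Finsupp.single q 1 := by
  simp [d0, Finsupp.linearCombination_single]

lemma d1_single (p q r : P) : d1 P (Finsupp.single (p, q, r) 1) =
    Finsupp.single (p + q, r) 1 - Finsupp.single (p, q + r) 1
      + Finsupp.single (p, q) 1 - Finsupp.single (q, r) 1 := by
  simp [d1, Finsupp.linearCombination_single]

lemma d1'_single (p q : P) : d1' P (Finsupp.single (p, q) 1) =
    Finsupp.single (p, q) 1 - Finsupp.single (q, p) 1 := by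
  simp [d1', Finsupp.linearCombination_single]

/-- the submodule of relations -/
noncomputable def NN : Submodule ℤ (P × P →₀ ℤ) := LinearMap.range (d1 P) ⊔ LinearMap.range (d1' P)

abbrev EE : Type u := (P × P →₀ ℤ) ⧸ NN P

noncomputable def cc (p q : P) : EE P := (NN P).mkQ (Finsupp.single (p, q) 1)

lemma cc_symm (p q : P) : cc P p q = cc P q p := by
  have h : Finsupp.single (p, q) (1 : ℤ) - Finsupp.single (q, p) 1 ∈ NN P := by
    apply Submodule.mem_sup_right
    exact ⟨Finsupp.single (p, q) 1, d1'_single P p q⟩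
  have := (Submodule.Quotient.mk_eq_zero (NN P)).mpr h
  rw [Submodule.Quotient.mk_sub, sub_eq_zero] at this
  exact this

lemma cc_cocycle (p q r : P) : cc P (p + q) r + cc P p q = cc P p (q + r) + cc P q r := by
  have h : Finsupp.single (p + q, r) (1 : ℤ) - Finsupp.single (p, q + r) 1
      + Finsupp.single (p, q) 1 - Finsupp.single (q, r) 1 ∈ NN P := by
    apply Submodule.mem_sup_left
    exact ⟨Finsupp.single (p, q, r) 1, d1_single P p q r⟩
  have := (Submodule.Quotient.mk_eq_zero (NN P)).mpr h
  rw [Submodule.Quotient.mk_sub, Submodule.Quotient.mk_add, Submodule.Quotient.mk_sub] at this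
  change cc P (p + q) r - cc P p (q + r) + cc P p q - cc P q r = 0 at this
  rw [sub_eq_zero] at this
  rw [← this]
  abel

lemma cc_zero_left (q : P) : cc P 0 q = cc P 0 0 := by
  have := cc_cocycle P 0 0 q
  simp only [add_zero, zero_add] at this
  exact (add_left_cancel this).symm

lemma cc_zero_right (q : P) : cc P q 0 = cc P 0 0 := by
  rw [cc_symm, cc_zero_left]

/-- the twisted extension -/
structure GG where
  a : EE P
  p : P

variable {P}

@[ext] lemma GG.ext' {x y : GG P} (h1 : x.a = y.a) (h2 : x.p = y.p) : x = y := by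
  cases x; cases y; simp_all

noncomputable instance : Add (GG P) := ⟨fun x y => ⟨x.a + y.a + cc P x.p y.p, x.p + y.p⟩⟩
noncomputable instance : Zero (GG P) := ⟨⟨-cc P 0 0, 0⟩⟩
noncomputable instance : Neg (GG P) := ⟨fun x => ⟨-x.a - cc P x.p (-x.p) - cc P 0 0, -x.p⟩⟩

@[simp] lemma GG.add_a (x y : GG P) : (x + y).a = x.a + y.a + cc P x.p y.p := rfl
@[simp] lemma GG.add_p (x y : GG P) : (x + y).p = x.p + y.p := rfl
@[simp] lemma GG.zero_a : (0 : GG P).a = -cc P 0 0 := rfl
@[simp] lemma GG.zero_p : (0 : GG P).p = 0 := rfl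
@[simp] lemma GG.neg_a (x : GG P) : (-x).a = -x.a - cc P x.p (-x.p) - cc P 0 0 := rfl
@[simp] lemma GG.neg_p (x : GG P) : (-x).p = -x.p := rfl

noncomputable instance : AddCommGroup (GG P) :=
  { AddGroup.ofLeftAxioms (G := GG P)
      (by
        intro x y z
        apply GG.ext'
        · simp only [GG.add_a, GG.add_p]
          have := cc_cocycle P x.p y.p z.p
          calc x.a + y.a + cc P x.p y.p + z.a + cc P (x.p + y.p) z.p
              = x.a + y.a + z.a + (cc P (x.p + y.p) z.p + cc P x.p y.p) := by abel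
            _ = x.a + y.a + z.a + (cc P x.p (y.p + z.p) + cc P y.p z.p) := by rw [this]
            _ = x.a + (y.a + z.a + cc P y.p z.p) + cc P x.p (y.p + z.p) := by abel
        · simp only [GG.add_p, add_assoc])
      (by
        intro x
        apply GG.ext'
        · simp only [GG.add_a, GG.zero_a, GG.zero_p, cc_zero_left]
          abel
        · simp)
      (by
        intro x
        apply GG.ext'
        · simp only [GG.add_a, GG.neg_a, GG.neg_p, GG.zero_a, cc_symm P (-x.p) x.p]
          abel
        · simp) with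
    add_comm := by
      intro x y
      apply GG.ext'
      · simp only [GG.add_a, cc_symm P x.p y.p]
        abel
      · simp only [GG.add_p, add_comm] }

variable (P)

noncomputable def ss (p : P) : GG P := ⟨0, p⟩

noncomputable def iota : EE P →+ GG P where
  toFun a := ⟨a - cc P 0 0, 0⟩
  map_zero' := by
    apply GG.ext'
    · simp
    · rfl
  map_add' a b := by
    apply GG.ext'
    · simp only [GG.add_a]
      abel
    · simp

lemma iota_injective : Function.Injective (iota P) := by
  intro a b h
  have := congrArg GG.a h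
  simpa [iota] using this

lemma ss_add (p q : P) : ss P p + ss P q = ss P (p + q) + iota P (cc P p q) := by
  apply GG.ext'
  · simp only [GG.add_a, ss, iota, AddMonoidHom.coe_mk, ZeroHom.coe_mk, cc_zero_right]
    abel
  · simp [ss, iota]

noncomputable def Phi : (P →₀ ℤ) →ₗ[ℤ] GG P := Finsupp.linearCombination ℤ (ss P)

lemma Phi_d0 : (Phi P).comp (d0 P) = -((iota P).toIntLinearMap.comp (NN P).mkQ) := by
  apply Finsupp.lhom_ext'
  intro pq
  apply LinearMap.ext_ring
  obtain ⟨p, q⟩ := pq
  simp only [LinearMap.comp_apply, Finsupp.lsingle_apply, d0_single, map_sub, LinearMap.neg_apply,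
    AddMonoidHom.coe_toIntLinearMap]
  simp only [Phi, Finsupp.linearCombination_single, one_smul]
  change ss P (p + q) - ss P p - ss P q = -iota P (cc P p q)
  rw [sub_sub, ss_add]
  abel

lemma ker_d0_le : LinearMap.ker (d0 P) ≤ NN P := by
  intro x hx
  have h1 : (Phi P).comp (d0 P) x = 0 := by
    rw [LinearMap.comp_apply, LinearMap.mem_ker.mp hx, map_zero]
  rw [Phi_d0, LinearMap.neg_apply, neg_eq_zero, LinearMap.comp_apply,
    AddMonoidHom.coe_toIntLinearMap] at h1
  have h2 : (NN P).mkQ x = 0 := iota_injective P (by rw [h1, map_zero])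
  exact (Submodule.Quotient.mk_eq_zero (NN P)).mp h2

lemma le_ker_d0 : NN P ≤ LinearMap.ker (d0 P) := by
  apply sup_le
  · rintro _ ⟨x, rfl⟩
    rw [LinearMap.mem_ker, ← LinearMap.comp_apply]
    have : (d0 P).comp (d1 P) = 0 := by
      apply Finsupp.lhom_ext'
      intro t
      apply LinearMap.ext_ring
      obtain ⟨p, q, r⟩ := t
      simp only [LinearMap.comp_apply, Finsupp.lsingle_apply, d1_single, map_sub, map_add,
        d0_single, LinearMap.zero_apply, add_assoc]
      abel
    rw [this, LinearMap.zero_apply]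
  · rintro _ ⟨x, rfl⟩
    rw [LinearMap.mem_ker, ← LinearMap.comp_apply]
    have : (d0 P).comp (d1' P) = 0 := by
      apply Finsupp.lhom_ext'
      intro t
      apply LinearMap.ext_ring
      obtain ⟨p, q⟩ := t
      simp only [LinearMap.comp_apply, Finsupp.lsingle_apply, d1'_single, map_sub,
        d0_single, LinearMap.zero_apply, add_comm q p]
      abel
    rw [this, LinearMap.zero_apply]

lemma eps_surjective : Function.Surjective (eps P) := by
  intro p
  exact ⟨Finsupp.single p 1, by simp [eps, Finsupp.linearCombination_single]⟩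

lemma range_d0_le : LinearMap.range (d0 P) ≤ LinearMap.ker (eps P) := by
  rintro _ ⟨x, rfl⟩
  rw [LinearMap.mem_ker, ← LinearMap.comp_apply]
  have : (eps P).comp (d0 P) = 0 := by
    apply Finsupp.lhom_ext'
    intro t
    apply LinearMap.ext_ring
    obtain ⟨p, q⟩ := t
    simp only [LinearMap.comp_apply, Finsupp.lsingle_apply, d0_single, map_sub,
      LinearMap.zero_apply]
    simp [eps, Finsupp.linearCombination_single]
  rw [this, LinearMap.zero_apply]

noncomputable def sQ : P →+ ((P →₀ ℤ) ⧸ LinearMap.range (d0 P)) where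
  toFun p := (LinearMap.range (d0 P)).mkQ (Finsupp.single p 1)
  map_zero' := by
    have h : Finsupp.single (0 : P) (1 : ℤ) ∈ LinearMap.range (d0 P) :=
      ⟨-Finsupp.single (0, 0) 1, by rw [map_neg, d0_single]; simp⟩
    exact (Submodule.Quotient.mk_eq_zero _).mpr h
  map_add' p q := by
    have h : Finsupp.single (p + q) (1 : ℤ) - Finsupp.single p 1 - Finsupp.single q 1
        ∈ LinearMap.range (d0 P) := ⟨Finsupp.single (p, q) 1, d0_single P p q⟩
    have := (Submodule.Quotient.mk_eq_zero _).mpr h
    rw [Submodule.Quotient.mk_sub, Submodule.Quotient.mk_sub, sub_sub, sub_eq_zero] at this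
    exact this

lemma sQ_eps : (sQ P).toIntLinearMap.comp (eps P) = (LinearMap.range (d0 P)).mkQ := by
  apply Finsupp.lhom_ext'
  intro p
  apply LinearMap.ext_ring
  simp only [LinearMap.comp_apply, Finsupp.lsingle_apply, AddMonoidHom.coe_toIntLinearMap]
  simp [eps, Finsupp.linearCombination_single, sQ]

lemma ker_eps_le : LinearMap.ker (eps P) ≤ LinearMap.range (d0 P) := by
  intro x hx
  have : (LinearMap.range (d0 P)).mkQ x = 0 := by
    rw [← sQ_eps, LinearMap.comp_apply, LinearMap.mem_ker.mp hx, map_zero]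
  exact (Submodule.Quotient.mk_eq_zero _).mp this

end Aux

/-- In the case of the punctual topos (ordinary abelian groups): let P be an abelian group and consider
the complex of free abelian groups Z[P × P × P] ⊕ Z[P × P] → Z[P × P] → Z[P], augmented to P by [p]
↦ p, with d₀[p, q] = [p + q] − [p] − [q], with d₁ on the first summand given by [p, q, r] ↦ [p + q,
r] − [p, q + r] + [p, q] − [q, r] and on the second summand by [p, q] ↦ [p, q] − [q, p]. Then the
augmentation is surjective with kernel the image of d₀ (so H₀ is P), and the kernel of d₀ is the sum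
of the images of the two components of d₁ (so H₁ vanishes). (The published statement is for abelian
sheaves on an arbitrary topos; this row is its case of a one-point space.) -/
theorem result (P : Type u) [AddCommGroup P] :
    letI ε : (P →₀ ℤ) →ₗ[ℤ] P := Finsupp.linearCombination ℤ (fun p : P => p)
    letI d₀ : (P × P →₀ ℤ) →ₗ[ℤ] (P →₀ ℤ) := Finsupp.linearCombination ℤ
      (fun pq : P × P => Finsupp.single (pq.1 + pq.2) 1 - Finsupp.single pq.1 1 - Finsupp.single pq.2 1)
    letI d₁ : (P × P × P →₀ ℤ) →ₗ[ℤ] (P × P →₀ ℤ) := Finsupp.linearCombination ℤ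
      (fun t : P × P × P => Finsupp.single (t.1 + t.2.1, t.2.2) 1 - Finsupp.single (t.1, t.2.1 + t.2.2) 1
        + Finsupp.single (t.1, t.2.1) 1 - Finsupp.single (t.2.1, t.2.2) 1)
    letI d₁' : (P × P →₀ ℤ) →ₗ[ℤ] (P × P →₀ ℤ) := Finsupp.linearCombination ℤ
      (fun pq : P × P => Finsupp.single pq 1 - Finsupp.single (pq.2, pq.1) 1)
    Function.Surjective ε ∧ LinearMap.ker ε = LinearMap.range d₀ ∧
      LinearMap.ker d₀ = LinearMap.range d₁ ⊔ LinearMap.range d₁' := by
  refine ⟨eps_surjective P, le_antisymm (ker_eps_le P) (range_d0_le P), ?_⟩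
  exact le_antisymm (ker_d0_le P) (le_ker_d0 P)

end Groth.Agent.S8705
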