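import Groth.Statements.S8710
import Groth.Agent.Lib.Helper18.Tor.Low

set_option autoImplicit false
universe u
open CategoryTheory CategoryTheory.Limits
open SGA7

namespace Groth.Agent.S8710

/-- Let f : B' → B be a surjective map of R-algebras with B' flat over R, g : C → B a map of R-algebras,
P = B' ×_B C their fibre product (the equalizer of f ∘ pr₁ and g ∘ pr₂ in B' × C), S an R-algebra
and n a natural number. If Tor_i^R(C, S) = 0 for 0 < i < n and Tor_i^R(B, S) = 0 for 0 < i ≤ n, then
Tor_i^R(P, S) = 0 for 0 < i < n. Here Tor_i^R(M, S) is the i-th left derived functor of M ⊗_R − on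
R-modules, evaluated at S. (The published statement asks the vanishing for B only in degrees 0 < i <
n; the published proof and the corollary following it use it in degrees 0 < i ≤ n, which this row
assumes.) -/
theorem result (R B' B C S : Type u) [CommRing R] [CommRing B'] [CommRing B]
    [CommRing C] [CommRing S] [Algebra R B'] [Algebra R B] [Algebra R C] [Algebra R S]
    (f : B' →ₐ[R] B) (hf : Function.Surjective f) (g : C →ₐ[R] B) [Module.Flat R B'] (n : ℕ)
    (hC : ∀ i : ℕ, 0 < i → i < n →
      IsZero (((Tor (ModuleCat.{u} R) i).obj (ModuleCat.of R C)).obj (ModuleCat.of R S)))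
    (hB : ∀ i : ℕ, 0 < i → i ≤ n →
      IsZero (((Tor (ModuleCat.{u} R) i).obj (ModuleCat.of R B)).obj (ModuleCat.of R S))) :
    letI P := AlgHom.equalizer (f.comp (AlgHom.fst R B' C)) (g.comp (AlgHom.snd R B' C))
    ∀ i : ℕ, 0 < i → i < n →
      IsZero (((Tor (ModuleCat.{u} R) i).obj (ModuleCat.of R ↥P)).obj (ModuleCat.of R S)) := by
  intro i hi0 hin
  let P := AlgHom.equalizer (f.comp (AlgHom.fst R B' C)) (g.comp (AlgHom.snd R B' C))
  let ι : ↥P →ₗ[R] (B' × C) := P.val.toLinearMap
  let d : (B' × C) →ₗ[R] B :=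
    f.toLinearMap ∘ₗ LinearMap.fst R B' C - g.toLinearMap ∘ₗ LinearMap.snd R B' C
  have hd : ∀ y : B' × C, d y = f y.1 - g y.2 := fun y => rfl
  have hexact : Function.Exact ι d := by
    intro y
    constructor
    · intro hy
      rw [hd] at hy
      have h1 : f y.1 = g y.2 := sub_eq_zero.mp hy
      exact ⟨⟨y, h1⟩, rfl⟩
    · rintro ⟨z, rfl⟩
      have h1 : f (z : B' × C).1 = g (z : B' × C).2 := z.2
      rw [hd]
      exact sub_eq_zero.mpr h1
  have hinj : Function.Injective ι := Subtype.val_injective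
  have hsurj : Function.Surjective d := by
    intro b
    obtain ⟨b', rfl⟩ := hf b
    refine ⟨(b', 0), ?_⟩
    rw [hd]
    simp
  let S1 : ShortComplex (ModuleCat.{u} R) :=
    ShortComplex.mk (ModuleCat.ofHom ι) (ModuleCat.ofHom d)
      (ModuleCat.hom_ext (LinearMap.ext fun z => (hexact (ι z)).mpr ⟨z, rfl⟩))
  have hS1 : S1.ShortExact := ModuleCat.shortComplex_shortExact S1 hexact hinj hsurj
  have hexact2 : Function.Exact (LinearMap.inl R B' C) (LinearMap.snd R B' C) := by
    intro y
    constructor
    · intro hy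
      exact ⟨y.1, Prod.ext rfl hy.symm⟩
    · rintro ⟨z, rfl⟩
      rfl
  let S2 : ShortComplex (ModuleCat.{u} R) :=
    ShortComplex.mk (ModuleCat.ofHom (LinearMap.inl R B' C))
      (ModuleCat.ofHom (LinearMap.snd R B' C))
      (ModuleCat.hom_ext (LinearMap.ext fun z => rfl))
  have hS2 : S2.ShortExact := ModuleCat.shortComplex_shortExact S2 hexact2
    LinearMap.inl_injective LinearMap.snd_surjective
  have hprod : IsZero (((Tor (ModuleCat.{u} R) i).obj (ModuleCat.of R (B' × C))).obj
      (ModuleCat.of R S)) := by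
    have hex := Groth.Agent.Helper18.TorLib.tor_exact₂ hS2 (ModuleCat.of R S) i
    refine hex.isZero_of_both_zeros (IsZero.eq_of_src ?_ _ _) (IsZero.eq_of_tgt ?_ _ _)
    · obtain ⟨k, rfl⟩ : ∃ k, i = k + 1 := ⟨i - 1, by omega⟩
      have : Module.Flat R (ModuleCat.of R B') := inferInstanceAs (Module.Flat R B')
      exact Groth.Agent.Helper18.TorLib.isZero_tor_succ_of_flat_left (ModuleCat.of R B')
        (ModuleCat.of R S) k
    · exact hC i hi0 hin
  have hex := Groth.Agent.Helper18.TorLib.tor_exact₁ hS1 (ModuleCat.of R S) i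
  exact hex.isZero_of_both_zeros (IsZero.eq_of_src (hB (i + 1) (by omega) (by omega)) _ _)
    (IsZero.eq_of_tgt hprod _ _)

end Groth.Agent.S8710
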