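import Groth.Statements.S8724
import Mathlib.Algebra.Ring.GeomSum
import Mathlib.Data.Nat.Choose.Sum
import Mathlib.Tactic.Ring
import Mathlib.Tactic.Linarith

set_option autoImplicit false
open LefPen

namespace Groth.Agent.S8724

open Finset in
theorem keyL {R : Type*} [CommRing R] (y z : R) (N k : ℕ) (hk : k ≤ N) :
    ∑ i ∈ range N, ∑ j ∈ range N, (if i + j + 1 = k then y ^ i * z ^ j else 0) =
      ∑ i ∈ range k, y ^ i * z ^ (k - 1 - i) := by
  have h1 : ∀ i ∈ range N, ∑ j ∈ range N, (if i + j + 1 = k then y ^ i * z ^ j else 0) =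
      if i < k then y ^ i * z ^ (k - 1 - i) else 0 := by
    intro i hi
    split_ifs with hik
    · rw [Finset.sum_eq_single (k - 1 - i)]
      · rw [if_pos (by omega)]
      · intro j _ hj
        rw [if_neg (by omega)]
      · intro h
        exact absurd (mem_range.2 (by omega)) h
    · apply Finset.sum_eq_zero
      intro j _
      rw [if_neg (by omega)]
  rw [Finset.sum_congr rfl h1, ← Finset.sum_filter]
  congr 1
  ext i
  simp only [mem_filter, mem_range]
  omega

open Finset in
theorem L {R : Type*} [CommRing R] (c : ℕ → R) (y z : R) (N n : ℕ) (hn : n ≤ N) :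
    (y - z) * ∑ i ∈ range N, ∑ j ∈ range N, (if i + j + 1 ≤ n then c (i + j + 1) * y ^ i * z ^ j else 0) =
      ∑ k ∈ range (n + 1), c k * (y ^ k - z ^ k) := by
  have h1 : ∀ i j : ℕ, (if i + j + 1 ≤ n then c (i + j + 1) * y ^ i * z ^ j else 0) =
      ∑ k ∈ range (n + 1), c k * (if i + j + 1 = k then y ^ i * z ^ j else 0) := by
    intro i j
    simp only [mul_ite, mul_zero]
    rw [Finset.sum_ite_eq]
    simp only [mem_range, Nat.lt_succ_iff, mul_assoc]
  simp_rw [h1]
  rw [Finset.sum_congr rfl (fun i _ => Finset.sum_comm), Finset.sum_comm]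
  simp_rw [← Finset.mul_sum]
  rw [Finset.mul_sum]
  apply Finset.sum_congr rfl
  intro k hk
  rw [keyL y z N k (by have := mem_range.1 hk; omega)]
  rw [mul_left_comm, mul_comm (y - z), geom_sum₂_mul]

open Finset in
theorem one_add_pow' {R : Type*} [CommRing R] (x : R) (n : ℕ) :
    (1 + x) ^ n = ∑ k ∈ range (n + 1), (n.choose k : R) * x ^ k := by
  rw [add_comm, add_pow]
  apply Finset.sum_congr rfl
  intro k _
  rw [one_pow, mul_one, mul_comm]

open Finset in
theorem main {R : Type*} [CommRing R] (y z : R) (a : ℕ) (ha : 1 ≤ a) :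
    ((1 + y) ^ (a - 1) - (1 + z) ^ (a - 1) =
      (y - z) * ∑ i ∈ Finset.range a, ∑ j ∈ Finset.range a,
        if i + j + 1 ≤ a - 1 then ((a - 1).choose (i + j + 1) : R) * y ^ i * z ^ j else 0) ∧
    ((1 + y) ^ a * z - (1 + z) ^ a * y =
      (y - z) * (-1 + ∑ i ∈ Finset.range (a + 1), ∑ j ∈ Finset.range (a + 1),
        if 1 ≤ i ∧ 1 ≤ j ∧ i + j ≤ a then (a.choose (i + j) : R) * y ^ i * z ^ j else 0)) := by
  constructor
  · rw [L (fun k => ((a - 1).choose k : R)) y z a (a - 1) (by omega), one_add_pow', one_add_pow',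
      ← Finset.sum_sub_distrib]
    apply Finset.sum_congr rfl
    intro k _
    ring
  · have hS : ∑ i ∈ Finset.range (a + 1), ∑ j ∈ Finset.range (a + 1),
        (if 1 ≤ i ∧ 1 ≤ j ∧ i + j ≤ a then (a.choose (i + j) : R) * y ^ i * z ^ j else 0) =
        y * z * ∑ i ∈ Finset.range a, ∑ j ∈ Finset.range a,
          (if i + j + 1 ≤ a - 1 then (a.choose (i + j + 1 + 1) : R) * y ^ i * z ^ j else 0) := by
      rw [Finset.sum_range_succ', Finset.mul_sum]
      have h0 : ∑ j ∈ Finset.range (a + 1),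
          (if 1 ≤ 0 ∧ 1 ≤ j ∧ 0 + j ≤ a then (a.choose (0 + j) : R) * y ^ 0 * z ^ j else 0) = 0 := by
        apply Finset.sum_eq_zero
        intro j _
        rw [if_neg (by omega)]
      rw [h0, add_zero]
      apply Finset.sum_congr rfl
      intro i _
      rw [Finset.sum_range_succ', Finset.mul_sum, if_neg (by omega), add_zero]
      apply Finset.sum_congr rfl
      intro j _
      by_cases h : i + j + 1 ≤ a - 1
      · rw [if_pos h, if_pos (by omega)]
        have : i + 1 + (j + 1) = i + j + 1 + 1 := by omega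
        rw [this]
        ring
      · rw [if_neg h, if_neg (by omega), mul_zero]
    rw [hS, mul_add, mul_left_comm (y - z) (y * z),
      L (fun k => (a.choose (k + 1) : R)) y z a (a - 1) (by omega), one_add_pow', one_add_pow',
      Finset.sum_mul, Finset.sum_mul, ← Finset.sum_sub_distrib, Finset.sum_range_succ', Finset.mul_sum]
    have ha1 : a - 1 + 1 = a := by omega
    rw [ha1, Nat.choose_zero_right, Nat.cast_one, pow_zero, pow_zero]
    have : ∀ k ∈ Finset.range a, ((a.choose (k + 1) : R) * y ^ (k + 1) * z - (a.choose (k + 1) : R) * z ^ (k + 1) * y) =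
        y * z * ((a.choose (k + 1) : R) * (y ^ k - z ^ k)) := by
      intro k _
      ring
    rw [Finset.sum_congr rfl this]
    ring

/-- The algebraic identity established in its proof: let a >= 1 and work in Z[y, z]. Then (1+y)^(a-1) -
(1+z)^(a-1) = (y - z) * (sum over i, j >= 0 with i + j + 1 <= a - 1 of C(a-1, i+j+1) y^i z^j), and
(1+y)^a z - (1+z)^a y = (y - z) * (-1 + sum over i, j >= 1 with i + j <= a of C(a, i+j) y^i z^j).
Consequently the rational function -((1+y)^(a-1) - (1+z)^(a-1)) / ((1+y)^a z - (1+z)^a y), the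
generating series of the primitive middle Hodge numbers of smooth hypersurfaces of degree a, equals
(sum_{i,j >= 0} C(a-1, i+j+1) y^i z^j) / (1 - sum_{i,j >= 1} C(a, i+j) y^i z^j). -/
theorem result (a : ℕ) (ha : 1 ≤ a) :
    let y : MvPolynomial (Fin 2) ℤ := MvPolynomial.X 0
    let z : MvPolynomial (Fin 2) ℤ := MvPolynomial.X 1
    ((1 + y) ^ (a - 1) - (1 + z) ^ (a - 1) =
      (y - z) * ∑ i ∈ Finset.range a, ∑ j ∈ Finset.range a,
        if i + j + 1 ≤ a - 1 then ((a - 1).choose (i + j + 1) : MvPolynomial (Fin 2) ℤ) * y ^ i * z ^ j else 0) ∧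
    ((1 + y) ^ a * z - (1 + z) ^ a * y =
      (y - z) * (-1 + ∑ i ∈ Finset.range (a + 1), ∑ j ∈ Finset.range (a + 1),
        if 1 ≤ i ∧ 1 ≤ j ∧ i + j ≤ a then (a.choose (i + j) : MvPolynomial (Fin 2) ℤ) * y ^ i * z ^ j else 0)) := by
  intro y z
  exact main y z a ha

end Groth.Agent.S8724
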