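import Groth.Statements.S8736
-- import your own Groth.Agent.* helpers here
import Groth.Agent.Lib.Helper25.HodgeSer

set_option autoImplicit false
open LefPen

namespace Groth.Agent.S8736

/-- For the generating series of a multidegree: let a_1, ..., a_d (d >= 1) be degrees, H_i and H = sum
h^{p,q} y^p z^q the series built from them as follows — H_i is determined by (1 - sum_{u, v >= 1, u
+ v <= a_i} C(a_i, u+v) y^u z^v) H_i = sum_{u, v >= 0, u + v + 1 <= a_i - 1} C(a_i - 1, u+v+1) y^u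
z^v and H = sum over nonempty P ⊆ {1..d} of ((1+y)(1+z))^(|P|-1) prod_{i in P} H_i — let i₀ be an
index with a_{i₀} = max_i a_i, and let 0 <= l < n be integers with l ≡ n mod 2. Then the Hodge level
of degree n is at most l, i.e. h^{p,q} = 0 for all p <= q with p + q = n and q - p > l, if and only
if 2 · sum_{i ≠ i₀} (a_i - 1) + (a_{i₀} - 2)(n - l) <= 2 (l + 1). -/
theorem result (d : ℕ) (hd : 1 ≤ d) (a : Fin d → ℕ) (ha : ∀ i, 1 ≤ a i)
    (i₀ : Fin d) (hi₀ : ∀ i, a i ≤ a i₀)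
    (Hs : Fin d → MvPowerSeries (Fin 2) ℤ) (n l : ℕ) (hl : l < n) (hpar : l % 2 = n % 2) :
    let y : MvPowerSeries (Fin 2) ℤ := MvPowerSeries.X 0
    let z : MvPowerSeries (Fin 2) ℤ := MvPowerSeries.X 1
    let Pser : ℕ → MvPowerSeries (Fin 2) ℤ := fun b => ∑ u ∈ Finset.range (b + 1), ∑ v ∈ Finset.range (b + 1),
      if 1 ≤ u ∧ 1 ≤ v ∧ u + v ≤ b then (b.choose (u + v) : MvPowerSeries (Fin 2) ℤ) * y ^ u * z ^ v else 0
    let Nser : ℕ → MvPowerSeries (Fin 2) ℤ := fun b => ∑ u ∈ Finset.range b, ∑ v ∈ Finset.range b,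
      if u + v + 1 ≤ b - 1 then ((b - 1).choose (u + v + 1) : MvPowerSeries (Fin 2) ℤ) * y ^ u * z ^ v else 0
    (∀ i, (1 - Pser (a i)) * Hs i = Nser (a i)) →
    let H : MvPowerSeries (Fin 2) ℤ := ∑ P ∈ (Finset.univ : Finset (Fin d)).powerset with P.Nonempty,
      ((1 + y) * (1 + z)) ^ (P.card - 1) * ∏ i ∈ P, Hs i
    (∀ p q : ℕ, p + q = n → p ≤ q → l < q - p →
        MvPowerSeries.coeff (Finsupp.single 0 p + Finsupp.single 1 q) H = 0) ↔
      2 * (∑ i ∈ Finset.univ.erase i₀, ((a i : ℤ) - 1)) + ((a i₀ : ℤ) - 2) * ((n : ℤ) - l) ≤ 2 * ((l : ℤ) + 1) := by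
  intro y z Pser Nser hH H
  have key : ∀ p q : ℕ, p ≤ q →
      (MvPowerSeries.coeff (Finsupp.single 0 p + Finsupp.single 1 q) H ≠ 0 ↔
        p + q + d < p * Finset.univ.sup a + ∑ i, a i) :=
    fun p q hpq => Groth.Agent.Helper25.HodgeSer.main d a ha Hs p q hpq hH
  have hsup : Finset.univ.sup a = a i₀ :=
    le_antisymm (Finset.sup_le fun i _ => hi₀ i) (Finset.le_sup (Finset.mem_univ i₀))
  rw [hsup] at key
  -- sums
  have hs1 : ∑ i, a i = a i₀ + ∑ i ∈ Finset.univ.erase i₀, a i :=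
    (Finset.add_sum_erase Finset.univ a (Finset.mem_univ i₀)).symm
  obtain ⟨S', hS'⟩ : ∃ S' : ℕ, S' = ∑ i ∈ Finset.univ.erase i₀, (a i - 1) := ⟨_, rfl⟩
  have hs2 : ∑ i ∈ Finset.univ.erase i₀, a i = S' + (d - 1) := by
    rw [hS']
    have : (d - 1) = ∑ i ∈ Finset.univ.erase i₀, 1 := by
      simp [Finset.card_erase_of_mem (Finset.mem_univ i₀)]
    rw [this, ← Finset.sum_add_distrib]
    exact Finset.sum_congr rfl fun i _ => by have := ha i; omega
  have hs3 : (∑ i ∈ Finset.univ.erase i₀, ((a i : ℤ) - 1)) = (S' : ℤ) := by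
    rw [hS', Nat.cast_sum]
    exact Finset.sum_congr rfl fun i _ => by have := ha i; omega
  rw [hs3]
  obtain ⟨t, ht⟩ : ∃ t, n = l + 2 * t := ⟨(n - l) / 2, by omega⟩
  have ht1 : 1 ≤ t := by omega
  obtain ⟨A, hA⟩ : ∃ A, A = a i₀ := ⟨_, rfl⟩
  rw [← hA] at key hs1 ⊢
  constructor
  · intro h
    have h0 := h (t - 1) (n - (t - 1)) (by omega) (by omega) (by omega)
    have h1 := (not_iff_not.2 (key (t - 1) (n - (t - 1)) (by omega))).1 (by simpa using h0)
    have h2 : (t - 1) * A + A = t * A := by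
      obtain ⟨t', rfl⟩ : ∃ t', t = t' + 1 := ⟨t - 1, by omega⟩
      simp; ring
    have h3 : (A : ℤ) * ((n : ℤ) - l) = 2 * ((t * A : ℕ) : ℤ) := by
      rw [ht]; push_cast; ring
    have h4 : ((A : ℤ) - 2) * ((n : ℤ) - l) = 2 * ((t * A : ℕ) : ℤ) - 4 * t := by
      rw [sub_mul, h3, ht]; push_cast; ring
    rw [h4]
    generalize (t - 1) * A = u at *
    generalize t * A = w at *
    omega
  · intro h p q hpq hle hlt
    by_contra hne
    have h1 := (key p q hle).1 hne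
    have h2 : (p + 1) * A ≤ t * A := Nat.mul_le_mul_right _ (by omega)
    have h2' : (p + 1) * A = p * A + A := by ring
    have h3 : (A : ℤ) * ((n : ℤ) - l) = 2 * ((t * A : ℕ) : ℤ) := by
      rw [ht]; push_cast; ring
    have h4 : ((A : ℤ) - 2) * ((n : ℤ) - l) = 2 * ((t * A : ℕ) : ℤ) - 4 * t := by
      rw [sub_mul, h3, ht]; push_cast; ring
    rw [h4] at h
    generalize p * A = u at *
    generalize t * A = w at *
    omega

end Groth.Agent.S8736
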