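import Groth.Statements.S8803
import Groth.Agent.Lib.Helper5.ARSys2
import Groth.Agent.Lib.Helper8.LCArt

set_option autoImplicit false
universe u
open CategoryTheory
open LocCoh

namespace Groth.Agent.S8803


theorem result (A : Type u) [CommRing A] [IsNoetherianRing A] [IsLocalRing A] (Msys : ℕᵒᵖ ⥤ ModuleCat.{u} A) (hfin : ∀ n : ℕᵒᵖ, Module.Finite A (Msys.obj n)) (i : ℕ) : ARSys.IsML (Msys ⋙ localCohomology (IsLocalRing.maximalIdeal A) i) := by
  intro n
  haveI : Module.Finite A (Msys.obj (Opposite.op n)) := hfin (Opposite.op n)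
  have hArt : IsArtinian A ((localCohomology (IsLocalRing.maximalIdeal A) i).obj (Msys.obj (Opposite.op n))) :=
    Groth.Agent.Helper8.LC.isArtinian_H_maximalIdeal i (Msys.obj (Opposite.op n))
  haveI : WellFoundedLT (CategoryTheory.Subobject ((Msys ⋙ localCohomology (IsLocalRing.maximalIdeal A) i).obj (Opposite.op n))) :=
    (ModuleCat.subobjectModule
      ((localCohomology (IsLocalRing.maximalIdeal A) i).obj (Msys.obj (Opposite.op n)))).toOrderEmbedding.wellFoundedLT
  have hanti : Antitone (fun s : ℕ =>
      CategoryTheory.Limits.imageSubobject (ARSys.shiftMap (Msys ⋙ localCohomology (IsLocalRing.maximalIdeal A) i) s n)) := by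
    intro s s' hss'
    exact Groth.Agent.Helper5.ARS.imageSubobject_tr_anti
      (Msys ⋙ localCohomology (IsLocalRing.maximalIdeal A) i) (Nat.le_add_right n s)
      (Nat.add_le_add_left hss' n)
  obtain ⟨r, hr⟩ := WellFoundedLT.antitone_chain_condition hanti
  exact ⟨r, fun s hs => (hr s hs).symm⟩

end Groth.Agent.S8803
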