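import Groth.Statements.S8804
import Groth.Agent.Lib.Helper5.RigPrime
import Groth.Agent.S3866

set_option autoImplicit false
universe u
open AdicRing

namespace Groth.Agent.S8804

/-- Let A be a Noetherian ring which is complete for the adic topology of an ideal I, and let q be a
prime ideal of A. The following are equivalent: (1) I ⊄ q and q is maximal among the primes not
containing I; (5) dim(A/q) = 1 and I ⊄ q; (8) A/q is a one-dimensional complete local ring whose
maximal ideal is the radical of the image of I (stated as: the Krull dimension of A/q is 1, every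
maximal ideal of A/q equals the radical of I(A/q), and A/q is adically complete for that radical).
(The other equivalent forms, for other ideals of definition or for the induced topology, are not
stated.) -/
theorem result (A : Type u) [CommRing A] [IsNoetherianRing A] (I : Ideal A) [IsAdicComplete I A] (q : PrimeSpectrum A) : List.TFAE [¬ I ≤ q.asIdeal ∧ ∀ q' : PrimeSpectrum A, q ≤ q' → ¬ I ≤ q'.asIdeal → q' = q, ringKrullDim (A ⧸ q.asIdeal) = 1 ∧ ¬ I ≤ q.asIdeal, ringKrullDim (A ⧸ q.asIdeal) = 1 ∧ (∀ m : Ideal (A ⧸ q.asIdeal), m.IsMaximal → m = (I.map (Ideal.Quotient.mk q.asIdeal)).radical) ∧ IsAdicComplete (I.map (Ideal.Quotient.mk q.asIdeal)).radical (A ⧸ q.asIdeal)] := by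
  haveI := q.isPrime
  have h0 : IsAdicComplete I (A ⧸ q.asIdeal) := Groth.Agent.S3866.result A I (A ⧸ q.asIdeal)
  have hJeq : I.map (Ideal.Quotient.mk q.asIdeal) = I.map (algebraMap A (A ⧸ q.asIdeal)) := rfl
  haveI : IsHausdorff (I.map (Ideal.Quotient.mk q.asIdeal)) (A ⧸ q.asIdeal) := by
    rw [hJeq]; exact IsHausdorff.map_algebraMap_iff.mpr h0.toIsHausdorff
  haveI : IsPrecomplete (I.map (Ideal.Quotient.mk q.asIdeal)) (A ⧸ q.asIdeal) := by
    rw [hJeq]; exact IsPrecomplete.map_algebraMap_iff.mpr h0.toIsPrecomplete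
  haveI : IsAdicComplete (I.map (Ideal.Quotient.mk q.asIdeal)) (A ⧸ q.asIdeal) := {}
  have hsurj : Function.Surjective (Ideal.Quotient.mk q.asIdeal) := Ideal.Quotient.mk_surjective
  have hJ0 : I.map (Ideal.Quotient.mk q.asIdeal) ≠ ⊥ ↔ ¬ I ≤ q.asIdeal := by
    rw [Ne, Ideal.map_eq_bot_iff_le_ker, Ideal.mk_ker]
  have key := Groth.Agent.Helper5.RigPrime.tfae_domain (A ⧸ q.asIdeal)
    (I.map (Ideal.Quotient.mk q.asIdeal))
  have h12 := key.out 0 1
  have h13 := key.out 0 2
  have hA : (¬ I ≤ q.asIdeal ∧ ∀ q' : PrimeSpectrum A, q ≤ q' → ¬ I ≤ q'.asIdeal → q' = q) ↔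
      (I.map (Ideal.Quotient.mk q.asIdeal) ≠ ⊥ ∧ ∀ p : Ideal (A ⧸ q.asIdeal), p.IsPrime →
        p ≠ ⊥ → I.map (Ideal.Quotient.mk q.asIdeal) ≤ p) := by
    constructor
    · rintro ⟨hI, hmax⟩
      refine ⟨hJ0.mpr hI, fun p hp hp0 => ?_⟩
      rw [Ideal.map_le_iff_le_comap]
      by_contra hIp
      have hq' : q ≤ ⟨p.comap (Ideal.Quotient.mk q.asIdeal), hp.comap _⟩ := by
        intro x hx
        show Ideal.Quotient.mk q.asIdeal x ∈ p
        rw [Ideal.Quotient.eq_zero_iff_mem.mpr hx]; exact p.zero_mem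
      have := hmax ⟨p.comap (Ideal.Quotient.mk q.asIdeal), hp.comap _⟩ hq' hIp
      have h2 : p.comap (Ideal.Quotient.mk q.asIdeal) = q.asIdeal := congrArg PrimeSpectrum.asIdeal this
      apply hp0
      rw [← Ideal.map_comap_of_surjective _ hsurj p, h2, Ideal.map_quotient_self]
    · rintro ⟨hJ, hp⟩
      refine ⟨hJ0.mp hJ, fun q' hqq' hIq' => ?_⟩
      have hker : RingHom.ker (Ideal.Quotient.mk q.asIdeal) ≤ q'.asIdeal := by
        rw [Ideal.mk_ker]; exact hqq'
      have hprime : (q'.asIdeal.map (Ideal.Quotient.mk q.asIdeal)).IsPrime :=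
        Ideal.map_isPrime_of_surjective hsurj hker
      by_cases hbot : q'.asIdeal.map (Ideal.Quotient.mk q.asIdeal) = ⊥
      · rw [Ideal.map_eq_bot_iff_le_ker, Ideal.mk_ker] at hbot
        exact le_antisymm hbot hqq'
      · exfalso
        apply hIq'
        have := hp _ hprime hbot
        rw [Ideal.map_le_iff_le_comap, Ideal.comap_map_of_surjective _ hsurj,
          ← RingHom.ker_eq_comap_bot, sup_eq_left.mpr hker] at this
        exact this
  tfae_have 1 ↔ 2 := by
    rw [hA, h12, hJ0]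
  tfae_have 1 ↔ 3 := by
    rw [hA, h13]
  tfae_finish

end Groth.Agent.S8804
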