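import Groth.Statements.S8812
import Mathlib
import Groth.Agent.Lib.Helper14.DeltaZ
-- import your own Groth.Agent.* helpers here

set_option autoImplicit false
universe u
open CategoryTheory AlgebraicGeometry
open Algz

namespace Groth.Agent.S8812

theorem enat_aux (C B β M : ℕ∞) (hβ : 1 ≤ β) (h1 : 1 ≤ M) (h2 : C - B ≤ M) :
    1 + (C - (B + β)) ≤ M := by
  induction M using ENat.recTopCoe with
  | top => exact le_top
  | coe m =>
    induction B using ENat.recTopCoe with
    | top => simpa using h1
    | coe b =>
      induction β using ENat.recTopCoe with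
      | top => simpa using h1
      | coe β =>
        induction C using ENat.recTopCoe with
        | top =>
          exfalso
          rw [ENat.top_sub_natCast] at h2
          exact (ENat.natCast_ne_top m) (top_le_iff.mp h2)
        | coe c =>
          have hβ' : 1 ≤ β := by exact_mod_cast hβ
          have h1' : 1 ≤ m := by exact_mod_cast h1
          have h2' : c - b ≤ m := by exact_mod_cast h2
          have : 1 + (c - (b + β)) ≤ m := by omega
          exact_mod_cast this

open Groth.Agent.Helper14.DeltaZ in
/-- Case II: append `(y', y')` to a system whose last codimension is positive. -/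
theorem case_append {Y : Type u} [TopologicalSpace Y] [T0Space Y] (Z : Set Y) (y y' : Y)
    (h : y ⤳ y') (hne : y ≠ y') (k : ℕ) (S : Algz.DSystem Z y k) (hc : S.c (Fin.last k) ≠ 0) :
    Algz.deltaZ Z y' ≤ S.delta := by
  classical
  let v'' : Fin (k + 2) → Y := Fin.snoc (α := fun _ => Y) S.v y'
  let w'' : Fin (k + 2) → Y := Fin.snoc (α := fun _ => Y) S.w y'
  have hvc : ∀ j : Fin (k + 1), v'' j.castSucc = S.v j :=
    fun j => Fin.snoc_castSucc (α := fun _ => Y) _ _ j
  have hvl : v'' (Fin.last (k + 1)) = y' := Fin.snoc_last (α := fun _ => Y) _ _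
  have hwc : ∀ j : Fin (k + 1), w'' j.castSucc = S.w j :=
    fun j => Fin.snoc_castSucc (α := fun _ => Y) _ _ j
  have hwl : w'' (Fin.last (k + 1)) = y' := Fin.snoc_last (α := fun _ => Y) _ _
  let S'' : Algz.DSystem Z y' (k + 1) :=
    { v := v''
      w := w''
      spec := by
        intro i
        refine Fin.lastCases ?_ (fun j => ?_) i
        · rw [hwl, hvl]
        · rw [hwc, hvc]; exact S.spec j
      spec_succ := by
        intro j
        rw [hwc]
        refine Fin.lastCases ?_ (fun j₀ => ?_) j
        · rw [Fin.succ_last, hvl, S.last_eq]; exact h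
        · rw [Fin.succ_castSucc, hvc]; exact S.spec_succ j₀
      start_mem := by
        have : v'' 0 = S.v 0 := hvc 0
        rw [this]; exact S.start_mem
      last_eq := hwl }
  refine le_trans (deltaZ_le S'') ?_
  rw [delta_eq S'', delta_eq S]
  set M := Finset.univ.sup (fun i => csum S i - bsum S i) with hM
  -- values of the new system
  have hc'' : ∀ j : Fin (k + 1), S''.c j.castSucc = S.c j := by
    intro j
    exact codimPt_congr (hwc j) (hvc j) _ _
  have hcl'' : S''.c (Fin.last (k + 1)) = 0 := by
    show Algz.codimPt (w'' (Fin.last (k + 1))) (v'' (Fin.last (k + 1))) _ = 0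
    rw [codimPt_congr hwl hvl _ (specializes_refl _)]
    exact codimPt_self _ _
  have hb'' : ∀ j : Fin k, S''.b j.castSucc = S.b j := by
    intro j
    exact codimPt_congr (hwc _) (by rw [Fin.succ_castSucc]; exact hvc j.succ) _ _
  have hbl'' : 1 ≤ S''.b (Fin.last k) := by
    show 1 ≤ Algz.codimPt (w'' (Fin.last k).castSucc) (v'' (Fin.last k).succ) _
    rw [codimPt_congr (w' := y) (v' := y') (by rw [hwc, S.last_eq])
      (by rw [Fin.succ_last, hvl]) _ h]
    exact one_le_codimPt h hne
  have hM1 : 1 ≤ M := by
    have h1 : csum S (Fin.last k) - bsum S (Fin.last k) ≤ M :=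
      Finset.le_sup (f := fun i => csum S i - bsum S i) (Finset.mem_univ _)
    have h2 : csum S (Fin.last k) = S.c (Fin.last k) := by
      rw [csum_eq]
      have : ∀ j : Fin k, (if (Fin.last k).val ≤ j.val then S.c j.castSucc else 0) = 0 := by
        intro j
        have : ¬ (Fin.last k).val ≤ j.val := by simp [Fin.val_last]
        simp only [this, if_false]
      simp only [this, Finset.sum_const_zero, zero_add]
    have h3 : bsum S (Fin.last k) = 0 := by
      rw [bsum_eq]
      apply Finset.sum_eq_zero
      intro j _
      have : ¬ (Fin.last k).val ≤ j.val := by simp [Fin.val_last]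
      simp only [this, if_false]
    rw [h2, h3, tsub_zero] at h1
    exact le_trans (Order.one_le_iff_ne_zero.mpr hc) h1
  have hterm : ∀ i : Fin (k + 2), 1 + (csum S'' i - bsum S'' i) ≤ M := by
    intro i
    refine Fin.lastCases ?_ (fun i₀ => ?_) i
    · have : csum S'' (Fin.last (k + 1)) = 0 := by
        rw [csum_eq, hcl'', add_zero]
        apply Finset.sum_eq_zero
        intro j _
        have : ¬ (Fin.last (k + 1)).val ≤ j.val := by
          rw [Fin.val_last]; have := j.isLt; omega
        simp only [this, if_false]
      rw [this, zero_tsub, add_zero]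
      exact hM1
    · have e1 : csum S'' i₀.castSucc = csum S i₀ := by
        rw [csum_eq S'', hcl'', add_zero]
        unfold csum
        rw [Finset.sum_filter]
        apply Finset.sum_congr rfl
        intro j _
        rw [hc'' j]
        have : (i₀.castSucc.val ≤ j.val) ↔ i₀ ≤ j := by rw [Fin.le_def]; rfl
        simp only [this]
      have e2 : bsum S'' i₀.castSucc = bsum S i₀ + S''.b (Fin.last k) := by
        rw [bsum_eq S'', bsum_eq S, Fin.sum_univ_castSucc]
        congr 1
        · apply Finset.sum_congr rfl
          intro j _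
          rw [hb'' j]
          simp
        · have : (i₀.castSucc).val ≤ (Fin.last k).val := by
            simp only [Fin.val_castSucc, Fin.val_last]
            omega
          simp only [this, if_true]
      rw [e1, e2]
      refine enat_aux _ _ _ M hbl'' hM1 ?_
      exact Finset.le_sup (f := fun i => csum S i - bsum S i) (Finset.mem_univ _)
  have hsup : Finset.univ.sup (fun i => csum S'' i - bsum S'' i) ≤ M - 1 := by
    apply Finset.sup_le
    intro i _
    exact ENat.le_sub_of_add_le_left ENat.one_ne_top (hterm i)
  calc ((k + 1 : ℕ) : ℕ∞) + Finset.univ.sup (fun i => csum S'' i - bsum S'' i)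
      ≤ ((k + 1 : ℕ) : ℕ∞) + (M - 1) := by gcongr
    _ = (k : ℕ∞) + (1 + (M - 1)) := by push_cast; ring
    _ = (k : ℕ∞) + M := by rw [add_tsub_cancel_of_le hM1]
open Groth.Agent.Helper14.DeltaZ in
/-- Case I: replace the last pair `(y, y)` by `(y', y')`. -/
theorem case_replace {Y : Type u} [TopologicalSpace Y] [T0Space Y] (Z : Set Y) (hZ : IsClosed Z)
    (y y' : Y) (h : y ⤳ y') (k : ℕ) (S : Algz.DSystem Z y k) (hc : S.c (Fin.last k) = 0) :
    Algz.deltaZ Z y' ≤ S.delta := by
  classical
  have hvy : S.v (Fin.last k) = y := by
    have := eq_of_codimPt_eq_zero (S.spec (Fin.last k)) hc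
    rw [← this, S.last_eq]
  let v' : Fin (k + 1) → Y := Function.update S.v (Fin.last k) y'
  let w' : Fin (k + 1) → Y := Function.update S.w (Fin.last k) y'
  have hvl : v' (Fin.last k) = y' := Function.update_self _ _ _
  have hwl : w' (Fin.last k) = y' := Function.update_self _ _ _
  have hvc : ∀ j : Fin (k + 1), j ≠ Fin.last k → v' j = S.v j :=
    fun j hj => Function.update_of_ne hj _ _
  have hwc : ∀ j : Fin (k + 1), j ≠ Fin.last k → w' j = S.w j :=
    fun j hj => Function.update_of_ne hj _ _
  have hcs : ∀ j : Fin k, j.castSucc ≠ Fin.last k := fun j => (Fin.castSucc_lt_last j).ne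
  let S' : Algz.DSystem Z y' k :=
    { v := v'
      w := w'
      spec := by
        intro i
        by_cases hi : i = Fin.last k
        · rw [hi, hwl, hvl]
        · rw [hwc i hi, hvc i hi]; exact S.spec i
      spec_succ := by
        intro j
        rw [hwc _ (hcs j)]
        by_cases hj : j.succ = Fin.last k
        · rw [hj, hvl]
          have := S.spec_succ j
          rw [hj, hvy] at this
          exact this.trans h
        · rw [hvc _ hj]; exact S.spec_succ j
      start_mem := by
        by_cases h0 : (0 : Fin (k + 1)) = Fin.last k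
        · show v' 0 ∈ Z
          rw [h0, hvl]
          have : y ∈ Z := by
            rw [← hvy, ← h0]; exact S.start_mem
          exact h.mem_closed hZ this
        · show v' 0 ∈ Z
          rw [hvc 0 h0]; exact S.start_mem
      last_eq := hwl }
  refine le_trans (deltaZ_le S') ?_
  rw [delta_eq S', delta_eq S]
  gcongr with i _
  · -- csum
    rw [csum_eq S', csum_eq S]
    have e1 : S'.c (Fin.last k) = S.c (Fin.last k) := by
      rw [hc]
      show Algz.codimPt (w' (Fin.last k)) (v' (Fin.last k)) _ = 0
      rw [codimPt_congr hwl hvl _ (specializes_refl _)]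
      exact codimPt_self _ _
    rw [e1]
    gcongr with j _
    split_ifs
    · exact le_of_eq (codimPt_congr (hwc _ (hcs j)) (hvc _ (hcs j)) _ _)
    · exact le_rfl
  · -- bsum
    rw [bsum_eq S', bsum_eq S]
    gcongr with j _
    split_ifs
    · by_cases hj : j.succ = Fin.last k
      · show Algz.codimPt (S.w j.castSucc) (S.v j.succ) _ ≤
          Algz.codimPt (w' j.castSucc) (v' j.succ) _
        have hsp : S.w j.castSucc ⤳ y := by
          have := S.spec_succ j
          rw [hj, hvy] at this
          exact this
        rw [codimPt_congr (w' := S.w j.castSucc) (v' := y) rfl (by rw [hj, hvy]) _ hsp,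
          codimPt_congr (w' := S.w j.castSucc) (v' := y') (hwc _ (hcs j)) (by rw [hj, hvl]) _
            (hsp.trans h)]
        exact codimPt_mono hsp h
      · exact le_of_eq (codimPt_congr (hwc _ (hcs j)) (hvc _ hj) _ _).symm
    · exact le_rfl

/-- Let Y be a Noetherian scheme and Z ⊆ Y a closed subset. If y specializes to y' then δ_Z(y') ≤
δ_Z(y); equivalently each set {y | δ_Z(y) ≤ k} is stable under specialization. -/
theorem result (Y : Scheme.{u}) [IsNoetherian Y] (Z : Set Y) (hZ : IsClosed Z) (y y' : Y) (h : y ⤳ y') : Algz.deltaZ Z y' ≤ Algz.deltaZ Z y := by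
  apply le_iInf
  intro k
  apply le_iInf
  intro S
  by_cases hne : y = y'
  · subst hne
    exact Groth.Agent.Helper14.DeltaZ.deltaZ_le S
  by_cases hc : S.c (Fin.last k) = 0
  · exact case_replace Z hZ y y' h k S hc
  · exact case_append Z y y' h hne k S hc

end Groth.Agent.S8812
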