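import Groth.Statements.S8813
import Mathlib
import Groth.Agent.Lib.Helper14.DeltaZ
import Groth.Agent.Lib.Helper14.DeltaZStalk
-- import your own Groth.Agent.* helpers here

set_option autoImplicit false
universe u
open CategoryTheory AlgebraicGeometry
open Algz

namespace Groth.Agent.S8813

open Groth.Agent.Helper14.DeltaZ in
/-- the one-step system `{z} ⊆ closure {y}`. -/
theorem deltaZ_le_codimPt {Y : Type u} [TopologicalSpace Y] (Z : Set Y) (y z : Y) (h : y ⤳ z)
    (hz : z ∈ Z) : Algz.deltaZ Z y ≤ Algz.codimPt y z h := by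
  let S : Algz.DSystem Z y 0 :=
    { v := fun _ => z
      w := fun _ => y
      spec := fun _ => h
      spec_succ := fun i => i.elim0
      start_mem := hz
      last_eq := rfl }
  refine le_trans (deltaZ_le S) ?_
  have := delta_le S (Algz.codimPt y z h) ?_
  · simpa using this
  intro i
  rw [csum_eq, bsum_eq]
  simp only [Finset.univ_eq_empty, Finset.sum_empty, zero_add]
  exact le_rfl

/-- Let Y be a Noetherian scheme, Z ⊆ Y a closed subset, y a point of Y and z a point of Z lying in the
closure of y. Then δ_Z(y) is at most the dimension of the local ring at z of the closure of y with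
its reduced structure, that is, the Krull dimension of O_{Y,z}/𝔭 where 𝔭 is the prime ideal of the
local ring O_{Y,z} given by the point of Spec O_{Y,z} that maps to y. -/
theorem result (Y : Scheme.{u}) [IsNoetherian Y] (Z : Set Y) (hZ : IsClosed Z) (y z : Y) (h : y ⤳ z) (hz : z ∈ Z) (P : PrimeSpectrum (Y.presheaf.stalk z)) (hP : (Y.fromSpecStalk z).base P = y) : ((Algz.deltaZ Z y : ℕ∞) : WithBot ℕ∞) ≤ ringKrullDim (↥(Y.presheaf.stalk z) ⧸ P.asIdeal) := by
  refine le_trans ?_ (Groth.Agent.Helper14.DeltaZ.codimPt_le_ringKrullDim_stalk Y y z h P hP)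
  exact_mod_cast deltaZ_le_codimPt Z y z h hz

end Groth.Agent.S8813
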