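import Groth.Statements.S8814
import Mathlib
import Groth.Agent.Lib.Helper14.CodimPt
-- import your own Groth.Agent.* helpers here

set_option autoImplicit false
universe u
open CategoryTheory AlgebraicGeometry
open Algz

namespace Groth.Agent.S8814

open Groth.Agent.Helper14 in
/-- the value of a system bounds the drop of a dimension function from `y` to `v 0`. -/
theorem delta_ge {Y : Type u} [TopologicalSpace Y] [T0Space Y] (δ : Y → ℤ)
    (hδ : ∀ x y : Y, x ⤳ y → x ≠ y →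
      δ y < δ x ∧ ((∀ z : Y, x ⤳ z → z ⤳ y → z = x ∨ z = y) → δ x = δ y + 1))
    (Z : Set Y) (y : Y) (k : ℕ) (S : Algz.DSystem Z y k) :
    (((δ y - δ (S.v 0)).toNat : ℕ) : ℕ∞) ≤ S.delta := by
  unfold Algz.DSystem.delta
  refine le_trans ?_ le_add_self
  refine le_trans ?_ (Finset.le_sup (f := fun i : Fin (k + 1) =>
    (∑ j ∈ Finset.univ.filter (fun j : Fin (k + 1) => i ≤ j), S.c j) -
      ∑ j ∈ Finset.univ.filter (fun j : Fin k => i.val ≤ j.val), S.b j) (Finset.mem_univ 0))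
  have hf1 : Finset.univ.filter (fun j : Fin (k + 1) => (0 : Fin (k + 1)) ≤ j) = Finset.univ := by
    ext j; simp
  have hf2 : Finset.univ.filter (fun j : Fin k => (0 : Fin (k + 1)).val ≤ j.val) = Finset.univ := by
    ext j; simp
  simp only [hf1, hf2]
  have hc : ∀ j, S.c j = (((δ (S.w j) - δ (S.v j)).toNat : ℕ) : ℕ∞) :=
    fun j => CodimPt.codimPt_eq δ hδ _ _ (S.spec j)
  have hb : ∀ j, S.b j = (((δ (S.w j.castSucc) - δ (S.v j.succ)).toNat : ℕ) : ℕ∞) :=
    fun j => CodimPt.codimPt_eq δ hδ _ _ (S.spec_succ j)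
  simp only [hc, hb]
  rw [← Nat.cast_sum, ← Nat.cast_sum, ← ENat.coe_sub]
  have hcz : ∀ j, (((δ (S.w j) - δ (S.v j)).toNat : ℕ) : ℤ) = δ (S.w j) - δ (S.v j) := by
    intro j
    have := CodimPt.delta_le_of_specializes δ hδ _ _ (S.spec j)
    omega
  have hbz : ∀ j : Fin k, (((δ (S.w j.castSucc) - δ (S.v j.succ)).toNat : ℕ) : ℤ) =
      δ (S.w j.castSucc) - δ (S.v j.succ) := by
    intro j
    have := CodimPt.delta_le_of_specializes δ hδ _ _ (S.spec_succ j)
    omega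
  have h1 : ((∑ j : Fin (k + 1), (δ (S.w j) - δ (S.v j)).toNat : ℕ) : ℤ) =
      ∑ j : Fin (k + 1), (δ (S.w j) - δ (S.v j)) := by
    push_cast
    exact Finset.sum_congr rfl (fun j _ => hcz j)
  have h2 : ((∑ j : Fin k, (δ (S.w j.castSucc) - δ (S.v j.succ)).toNat : ℕ) : ℤ) =
      ∑ j : Fin k, (δ (S.w j.castSucc) - δ (S.v j.succ)) := by
    push_cast
    exact Finset.sum_congr rfl (fun j _ => hbz j)
  have h3 : ∑ j : Fin (k + 1), (δ (S.w j) - δ (S.v j)) -
      ∑ j : Fin k, (δ (S.w j.castSucc) - δ (S.v j.succ)) = δ y - δ (S.v 0) := by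
    rw [Finset.sum_sub_distrib, Finset.sum_sub_distrib, Fin.sum_univ_castSucc (fun j => δ (S.w j)),
      Fin.sum_univ_succ (fun j => δ (S.v j)), S.last_eq]
    ring
  have : (δ y - δ (S.v 0)).toNat ≤ (∑ j : Fin (k + 1), (δ (S.w j) - δ (S.v j)).toNat) -
      ∑ j : Fin k, (δ (S.w j.castSucc) - δ (S.v j.succ)).toNat := by
    omega
  exact_mod_cast this

/-- Let Y be a Noetherian scheme, Z ⊆ Y a closed subset and δ a dimension function on Y. If δ_Z(y) is a
natural number n, then δ(y) ≤ n + δ(z) for some z ∈ Z; in other words δ(y) ≤ δ_Z(y) + δ_max with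
δ_max the maximum of δ on Z. -/
theorem result (Y : Scheme.{u}) [IsNoetherian Y] (Z : Set Y) (hZ : IsClosed Z) (δ : Y → ℤ) (hδ : Cyc.IsDimFun Y δ) (y : Y) (n : ℕ) (hn : Algz.deltaZ Z y = n) : ∃ z ∈ Z, δ y ≤ n + δ z := by
  by_contra hcon
  push Not at hcon
  have hall : ∀ (k : ℕ) (S : Algz.DSystem Z y k), ((n + 1 : ℕ) : ℕ∞) ≤ S.delta := by
    intro k S
    refine le_trans ?_ (delta_ge δ hδ Z y k S)
    have := hcon (S.v 0) S.start_mem
    have : n + 1 ≤ (δ y - δ (S.v 0)).toNat := by omega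
    exact_mod_cast this
  have : ((n + 1 : ℕ) : ℕ∞) ≤ Algz.deltaZ Z y := le_iInf (fun k => le_iInf (fun S => hall k S))
  rw [hn] at this
  have : n + 1 ≤ n := by exact_mod_cast this
  omega

end Groth.Agent.S8814
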