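import Groth.Statements.S8815
import Mathlib
import Groth.Agent.Lib.Helper14.DeltaZLocal
import Groth.Agent.S8813
import Groth.Agent.S8814
-- import your own Groth.Agent.* helpers here

set_option autoImplicit false
universe u
open CategoryTheory AlgebraicGeometry
open Algz

namespace Groth.Agent.S8815

/-- Let A be a catenary Noetherian local ring, Y = Spec A and Z the closed point. Then δ_Z(y) equals the
dimension of the closure of y, i.e. dim(A/p_y), for every point y. -/
theorem result (A : Type u) [CommRing A] [IsNoetherianRing A] [IsLocalRing A] (hA : CAlg.IsCatenary A) (y : Spec (CommRingCat.of A)) : ((Algz.deltaZ ({IsLocalRing.closedPoint A} : Set (Spec (CommRingCat.of A))) y : ℕ∞) : WithBot ℕ∞) = ringKrullDim (A ⧸ y.asIdeal) := by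
  open Groth.Agent.Helper14.DeltaZ in
  have hrw := ringKrullDim_quotient_eq_coheight (R := A) y
  rw [hrw]
  congr 1
  have hfin := coheight_lt_top (A := A) y
  obtain ⟨n, hn⟩ := ENat.ne_top_iff_exists.mp hfin.ne
  apply le_antisymm
  · have hsp : y ⤳ (IsLocalRing.closedPoint A : Spec (CommRingCat.of A)) :=
      IsLocalRing.specializes_closedPoint (R := A) y
    refine le_trans (Groth.Agent.S8813.deltaZ_le_codimPt _ y (IsLocalRing.closedPoint A) hsp rfl) ?_
    exact codimPt_le_coheight (fun Q : PrimeSpectrum A => (Q : Spec (CommRingCat.of A)))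
      (fun a b => (PrimeSpectrum.le_iff_specializes a b).symm) _ (fun y' _ => ⟨y', rfl⟩) y hsp y rfl
  · apply le_iInf
    intro k
    apply le_iInf
    intro S
    have h1 := @Groth.Agent.S8814.delta_ge (Spec (CommRingCat.of A)) inferInstance inferInstance
      (fun p => (((Order.coheight (α := PrimeSpectrum A) p).toNat : ℕ) : ℤ))
      (coheight_isDimFun hA) _ y k S
    refine le_trans (le_of_eq ?_) h1
    have hv0 : S.v 0 = IsLocalRing.closedPoint A := S.start_mem
    have hm : Order.coheight (α := PrimeSpectrum A) (IsLocalRing.closedPoint A) = 0 := by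
      rw [Order.coheight_eq_zero]
      intro b _
      exact IsLocalRing.le_maximalIdeal b.isPrime.ne_top
    simp only [hv0, hm, ENat.toNat_zero, Nat.cast_zero, sub_zero, Int.toNat_natCast]
    rw [← hn, ENat.toNat_natCast]

end Groth.Agent.S8815
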