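import Groth.Statements.S8816
import Mathlib
import Groth.Agent.Lib.Helper14.DeltaZ
-- import your own Groth.Agent.* helpers here

set_option autoImplicit false
universe u
open CategoryTheory AlgebraicGeometry
open Algz

namespace Groth.Agent.S8816

/-- Let Y be a Noetherian scheme and Z ⊆ Y closed. Given points y_0, …, y_k and y'_0, …, y'_{k-1} of Y
with y_0 ∈ Z such that each y'_i specializes to y_{i+1} with y'_i ≠ y_{i+1}, and each y'_i ⤳ y_i is
an immediate specialization (y'_i ≠ y_i and no point strictly between), one has δ_Z(y_k) ≤ k. (The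
published statement also allows y'_i = y_{i+1}. In that generality the bound needs catenarity: for a
Noetherian local domain of dimension 3 having a saturated chain of primes (0) ⊂ 𝔭 ⊂ 𝔪 of length 2,
with Z the closed point and the pattern y_0 = 𝔪, y'_0 = y_1 = 𝔭, y'_1 = y_2 = (0), one has k = 2 but
δ_Z((0)) = 3. The published proof handles nontrivial specializations y'_i ⤳ y_{i+1}, for which the
closures of the y_i and y'_i form a system of value k, and reduces to that case by shortening the
chain, which does not preserve immediacy; this row states the case the proof establishes.) -/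
theorem result (Y : Scheme.{u}) [IsNoetherian Y] (Z : Set Y) (hZ : IsClosed Z) (k : ℕ) (y : Fin (k + 1) → Y) (y' : Fin k → Y) (h0 : y 0 ∈ Z) (hdown : ∀ i : Fin k, y' i ⤳ y i.castSucc ∧ y' i ≠ y i.castSucc ∧ ∀ z : Y, y' i ⤳ z → z ⤳ y i.castSucc → z = y' i ∨ z = y i.castSucc) (hup : ∀ i : Fin k, y' i ⤳ y i.succ ∧ y' i ≠ y i.succ) : Algz.deltaZ Z (y (Fin.last k)) ≤ k := by
  classical
  let w : Fin (k + 1) → Y := Fin.snoc (α := fun _ => Y) y' (y (Fin.last k))
  have hwc : ∀ j : Fin k, w j.castSucc = y' j := fun j => Fin.snoc_castSucc (α := fun _ => Y) _ _ j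
  have hwl : w (Fin.last k) = y (Fin.last k) := Fin.snoc_last (α := fun _ => Y) _ _
  let S : Algz.DSystem Z (y (Fin.last k)) k :=
    { v := y
      w := w
      spec := by
        intro i
        refine Fin.lastCases ?_ (fun j => ?_) i
        · rw [hwl]
        · rw [hwc]; exact (hdown j).1
      spec_succ := by
        intro j
        rw [hwc]; exact (hup j).1
      start_mem := h0
      last_eq := hwl }
  refine le_trans (Groth.Agent.Helper14.DeltaZ.deltaZ_le S) ?_
  have := Groth.Agent.Helper14.DeltaZ.delta_le S 0 ?_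
  · simpa using this
  intro i
  rw [Groth.Agent.Helper14.DeltaZ.csum_eq, Groth.Agent.Helper14.DeltaZ.bsum_eq, add_zero]
  have hcl : S.c (Fin.last k) = 0 := by
    show Algz.codimPt (w (Fin.last k)) (y (Fin.last k)) _ = 0
    rw [Groth.Agent.Helper14.DeltaZ.codimPt_congr hwl rfl _ (specializes_refl _)]
    exact Groth.Agent.Helper14.DeltaZ.codimPt_self _ _
  rw [hcl, add_zero]
  apply Finset.sum_le_sum
  intro j _
  split_ifs with hij
  · have h1 : S.c j.castSucc ≤ 1 := by
      show Algz.codimPt (w j.castSucc) (y j.castSucc) _ ≤ 1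
      rw [Groth.Agent.Helper14.DeltaZ.codimPt_congr (hwc j) rfl _ (hdown j).1]
      exact Groth.Agent.Helper14.DeltaZ.codimPt_le_one_of_immediate _ (hdown j).2.2
    have h2 : 1 ≤ S.b j := by
      show 1 ≤ Algz.codimPt (w j.castSucc) (y j.succ) _
      rw [Groth.Agent.Helper14.DeltaZ.codimPt_congr (hwc j) rfl _ (hup j).1]
      exact Groth.Agent.Helper14.DeltaZ.one_le_codimPt _ (hup j).2
    exact h1.trans h2
  · exact le_rfl

end Groth.Agent.S8816
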