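import Groth.Statements.S8822
import Groth.Agent.Lib.Helper1.AdicNoeth

set_option autoImplicit false
set_option linter.style.haveILetI false
universe u v
open AdicRing

namespace Groth.Agent.S8822

/-- Let A be a Noetherian ring and I an ideal. Let B be an A-algebra which is complete for the IB-adic
topology and such that B/IB is of finite type over A, and let J be an ideal of B. Then B/J is
complete for the I(B/J)-adic topology (so B/J is again an object of the same category, the finite
type condition on (B/J)/I(B/J) being immediate). -/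
theorem result (A : Type u) [CommRing A] [IsNoetherianRing A] (I : Ideal A) (B : Type v) [CommRing B] [Algebra A B] [IsAdicComplete (I.map (algebraMap A B)) B] (hB : Algebra.FiniteType A (B ⧸ I.map (algebraMap A B))) (J : Ideal B) : IsAdicComplete (I.map (algebraMap A (B ⧸ J))) (B ⧸ J) := by
  haveI : IsNoetherianRing (B ⧸ I.map (algebraMap A B)) :=
    Algebra.FiniteType.isNoetherianRing A _
  haveI hBn : IsNoetherianRing B :=
    Groth.Agent.Helper1.isNoetherianRing_of_isAdicComplete_of_fg (I.map (algebraMap A B))
      (Ideal.FG.map (IsNoetherian.noetherian I) _)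
  set K : Ideal B := I.map (algebraMap A B) with hK
  have hKK : I.map (algebraMap A (B ⧸ J)) = K.map (algebraMap B (B ⧸ J)) := by
    rw [hK, Ideal.map_map, ← IsScalarTower.algebraMap_eq]
  rw [hKK]
  have hjac : K ≤ Ideal.jacobson ⊥ := IsAdicComplete.le_jacobson_bot K
  haveI h1 : IsHausdorff K (B ⧸ J) := IsHausdorff.of_le_jacobson K (B ⧸ J) hjac
  haveI h2 : IsPrecomplete K (B ⧸ J) := by
    rw [← AdicCompletion.of_surjective_iff]
    intro y
    obtain ⟨z, rfl⟩ := AdicCompletion.map_surjective K (f := (Submodule.mkQ J))
      (Submodule.mkQ_surjective J) y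
    obtain ⟨b, rfl⟩ := AdicCompletion.of_surjective K B z
    exact ⟨Submodule.mkQ J b, (AdicCompletion.map_of K _ b).symm⟩
  haveI h1' : IsHausdorff (K.map (algebraMap B (B ⧸ J))) (B ⧸ J) :=
    IsHausdorff.map_algebraMap_iff.mpr h1
  haveI h2' : IsPrecomplete (K.map (algebraMap B (B ⧸ J))) (B ⧸ J) :=
    IsPrecomplete.map_algebraMap_iff.mpr h2
  exact {}

end Groth.Agent.S8822
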