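import Groth.Statements.S8834
import Groth.Agent.Lib.Helper5.TopFinType

set_option autoImplicit false
universe u
open AdicRing

namespace Groth.Agent.S8834

/-- Let A be a Noetherian ring complete for the adic topology of an ideal I and B a Noetherian ring
complete for the adic topology of an ideal J, with an algebra map A → B sending I into the radical
of J (a continuous homomorphism of adic Noetherian topological rings; the radicals of I and J are
the ideals of topologically nilpotent elements). Assume B/√J is of finite type over A, equivalently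
over A/√I. Then B is topologically of finite type over A: there are b_1, …, b_s ∈ B such that the
A-algebra map A[x_1, …, x_s] → B with x_i ↦ b_i has dense image for the J-adic topology, that is,
for every y ∈ B and every n there is a polynomial whose value at b differs from y by an element of
J^n. -/
theorem result (A : Type u) [CommRing A] [IsNoetherianRing A] (I : Ideal A) [IsAdicComplete I A] (B : Type u) [CommRing B] [Algebra A B] [IsNoetherianRing B] (J : Ideal B) [IsAdicComplete J B] (hIJ : I.map (algebraMap A B) ≤ J.radical) (hft : Algebra.FiniteType A (B ⧸ J.radical)) : ∃ s : ℕ, ∃ b : Fin s → B, ∀ (y : B) (n : ℕ), ∃ p : MvPolynomial (Fin s) A, y - MvPolynomial.aeval b p ∈ J ^ n := by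
  classical
  obtain ⟨t, ht⟩ := hft.out
  obtain ⟨G, hG⟩ : ∃ G : Finset B, Ideal.span (G : Set B) = J.radical :=
    (IsNoetherian.noetherian J.radical)
  have hsurj : Function.Surjective (Ideal.Quotient.mk J.radical) := Ideal.Quotient.mk_surjective
  obtain ⟨F, hF⟩ : ∃ F : Finset B, F = t.image (Function.surjInv hsurj) ∪ G := ⟨_, rfl⟩
  have hGS : (G : Set B) ⊆ Algebra.adjoin A (F : Set B) := fun x hx =>
    Algebra.subset_adjoin (by
      rw [hF, Finset.coe_union]; exact Or.inr hx)
  have h1 : ∀ y : B, ∃ s ∈ Algebra.adjoin A (F : Set B), y - s ∈ J.radical := by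
    intro y
    have hmem : Ideal.Quotient.mk J.radical y ∈
        (Algebra.adjoin A (F : Set B)).map (Ideal.Quotient.mkₐ A J.radical) := by
      have : (⊤ : Subalgebra A (B ⧸ J.radical)) ≤
          (Algebra.adjoin A (F : Set B)).map (Ideal.Quotient.mkₐ A J.radical) := by
        rw [← ht]
        apply Algebra.adjoin_le
        intro x hx
        refine ⟨Function.surjInv hsurj x, Algebra.subset_adjoin ?_, Function.surjInv_eq hsurj x⟩
        rw [hF, Finset.coe_union]
        exact Or.inl (Finset.mem_coe.mpr (Finset.mem_image_of_mem _ hx))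
      exact this Algebra.mem_top
    obtain ⟨s, hs, hsy⟩ := hmem
    refine ⟨s, hs, ?_⟩
    rw [← Ideal.Quotient.eq]; exact hsy.symm
  obtain ⟨k, hk⟩ := Ideal.exists_radical_pow_le_of_fg J (IsNoetherian.noetherian _)
  refine ⟨F.card, fun i => ((F.equivFin.symm i : F) : B), ?_⟩
  intro y n
  obtain ⟨s, hs, hys⟩ := Groth.Agent.Helper5.TopFinType.dense_of_mod
    (Algebra.adjoin A (F : Set B)) J.radical G hGS hG.symm h1 (k * n) y
  have hrange : Set.range (fun i => ((F.equivFin.symm i : F) : B)) = F := by
    ext x
    constructor
    · rintro ⟨i, rfl⟩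
      exact (F.equivFin.symm i).2
    · intro hx
      exact ⟨F.equivFin ⟨x, hx⟩, by simp⟩
  have hS : Algebra.adjoin A (F : Set B) =
      (MvPolynomial.aeval (R := A) (fun i => ((F.equivFin.symm i : F) : B))).range := by
    rw [← Algebra.adjoin_range_eq_range_aeval, hrange]
  rw [hS] at hs
  obtain ⟨p, rfl⟩ := hs
  refine ⟨p, ?_⟩
  have : J.radical ^ (k * n) ≤ J ^ n := by rw [pow_mul]; exact Ideal.pow_right_mono hk n
  exact this hys

end Groth.Agent.S8834
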