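import Groth.Statements.S8847
import Mathlib
import Groth.Agent.Lib.Helper6.EffCartFibB

set_option autoImplicit false
universe u
open CategoryTheory CategoryTheory.Limits AlgebraicGeometry TopologicalSpace
open SDiv

namespace Groth.Agent.S8847

/-- Let φ : X ⟶ S be flat and locally of finite presentation and let 𝓘 be a quasi-coherent ideal sheaf
on X whose closed subscheme Z is flat and locally of finite presentation over S. If for every point
s of S the inverse image ideal of 𝓘 on the scheme-theoretic fibre X_s is the ideal sheaf of an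
effective Cartier divisor of X_s, then 𝓘 is the ideal sheaf of an effective Cartier divisor of X;
together with the flatness of Z over S this says Z is a relative effective Cartier divisor. -/
theorem result {X S : Scheme.{u}} (φ : X ⟶ S) [Flat φ] [LocallyOfFinitePresentation φ]
    (𝓘 : X.IdealSheafData) [Flat (𝓘.subschemeι ≫ φ)] [LocallyOfFinitePresentation (𝓘.subschemeι ≫ φ)]
    (hfib : ∀ s : ↥S, BlowUp.IsEffCartierIdeal (𝓘.comap (φ.fiberι s))) :
    BlowUp.IsEffCartierIdeal 𝓘 := by
  intro x
  by_cases hxs : x ∈ 𝓘.support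
  · have hxr : x ∈ Set.range 𝓘.subschemeι := by
      rw [𝓘.range_subschemeι]
      exact hxs
    obtain ⟨t, rfl⟩ := hxr
    obtain ⟨ts, h1, -⟩ := Scheme.Pullback.exists_preimage_pullback
      (f := 𝓘.subschemeι) (g := φ.fiberι (φ (𝓘.subschemeι t))) t (φ.asFiber (𝓘.subschemeι t))
      (φ.fiberι_asFiber (𝓘.subschemeι t)).symm
    have := Groth.Agent.Helper6.EffCartFib.aux8847 φ 𝓘 (φ (𝓘.subschemeι t)) ts (hfib _)
    exact h1 ▸ this
  · exact Groth.Agent.Helper6.EffCartFib.exists_of_notMem_support 𝓘 x hxs

end Groth.Agent.S8847
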