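import Groth.Statements.S8849
import Groth.Agent.Lib.Helper13.FlatNZD

set_option autoImplicit false
universe u
open CategoryTheory CategoryTheory.Limits AlgebraicGeometry TopologicalSpace
open SDiv

namespace Groth.Agent.S8849

open Groth.Agent.Helper13.FlatNZD

/-- flatness of `appLE` between affine opens from flatness of stalk maps at the points of the source -/
lemma flat_appLE_of_stalk {X S : Scheme.{u}} (f : X ⟶ S) (V : S.Opens) (hV : IsAffineOpen V)
    (U : X.Opens) (hU : IsAffineOpen U) (e : U ≤ f ⁻¹ᵁ V)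
    (h : ∀ x ∈ U, (f.stalkMap x).hom.Flat) : (f.appLE V U e).hom.Flat := by
  have : IsAffine (U : Scheme) := hU
  have : IsAffine (V : Scheme) := hV
  have hg : Flat (f.resLE V U e) := by
    apply Flat.of_stalkMap
    intro y
    exact (RingHom.Flat.respectsIso.arrow_mk_iso_iff (Scheme.Hom.resLEStalkMap f e y)).2 (h y.1 y.2)
  have h1 : (f.resLE V U e).appTop.hom.Flat := (HasRingHomProperty.iff_of_isAffine (P := @Flat)).1 hg
  exact (RingHom.Flat.respectsIso.arrow_mk_iso_iff (arrowResLEAppIso f V U e)).1 h1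


/-- around every point and inside every open neighbourhood there is a chart of an effective Cartier
ideal -/
lemma exists_chart_le {X : Scheme.{u}} {𝓘 : X.IdealSheafData} (hC : BlowUp.IsEffCartierIdeal 𝓘)
    (x : X) (W : X.Opens) (hxW : x ∈ W) :
    ∃ U : X.affineOpens, x ∈ U.1 ∧ U.1 ≤ W ∧
      ∃ t ∈ nonZeroDivisors Γ(X, U.1), 𝓘.ideal U = Ideal.span {t} := by
  obtain ⟨U₀, hxU₀, t₀, ht₀, hI₀⟩ := hC x
  obtain ⟨c, hcW, hxc⟩ := U₀.2.exists_basicOpen_le ⟨x, hxW⟩ hxU₀
  refine ⟨X.affineBasicOpen c, hxc, hcW, X.presheaf.map (homOfLE (X.basicOpen_le c)).op t₀, ?_, ?_⟩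
  · have hloc : IsLocalization.Away c Γ(X, X.basicOpen c) := U₀.2.isLocalization_basicOpen c
    have h1 : (algebraMap Γ(X, U₀.1) Γ(X, X.basicOpen c)) t₀ ∈
        nonZeroDivisors Γ(X, X.basicOpen c) :=
      IsLocalization.map_nonZeroDivisors_le (Submonoid.powers c) _
        (Submonoid.mem_map_of_mem _ ht₀)
    exact h1
  · rw [← 𝓘.map_ideal_basicOpen U₀ c, hI₀, Ideal.map_span, Set.image_singleton]
    rfl

/-- Let f : X ⟶ S be a morphism of schemes and 𝓘 the ideal sheaf of an effective Cartier divisor D ⊆ X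
with D flat over S (a relative effective Cartier divisor). If f is flat at every point of X not in
D, then f is flat. -/
theorem result {X S : Scheme.{u}} (f : X ⟶ S) (𝓘 : X.IdealSheafData)
    (hD : BlowUp.IsEffCartierIdeal 𝓘 ∧ Flat (𝓘.subschemeι ≫ f))
    (hflat : ∀ x : ↥X, x ∉ 𝓘.support → (f.stalkMap x).hom.Flat) : Flat f := by
  obtain ⟨hC, hDflat⟩ := hD
  rw [HasRingHomProperty.iff_exists_appLE (P := @Flat)
    (RingHom.Flat.stableUnderComposition.stableUnderCompositionWithLocalizationAway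
      RingHom.Flat.holdsForLocalizationAway).left]
  intro x
  obtain ⟨_, ⟨V, hV, rfl⟩, hxV, -⟩ :=
      S.isBasis_affineOpens.exists_subset_of_mem_open (Set.mem_univ (f x)) isOpen_univ
  obtain ⟨U, hxU, hUV, t, ht, hIt⟩ := exists_chart_le hC x (f ⁻¹ᵁ V) hxV
  refine ⟨⟨V, hV⟩, U, hxU, hUV, ?_⟩
  have hDt : ∀ y ∈ X.basicOpen t, y ∉ 𝓘.support := by
    intro y hy hys
    have hyU : y ∈ U.1 := X.basicOpen_le t hy
    rw [Scheme.IdealSheafData.mem_support_iff_of_mem (U := U) hyU, hIt, Scheme.zeroLocus_span,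
      Scheme.zeroLocus_singleton] at hys
    exact hys hy
  have hDtV : X.basicOpen t ≤ f ⁻¹ᵁ V := (X.basicOpen_le t).trans hUV
  have hψ : (f.appLE V (X.basicOpen t) hDtV).hom.Flat :=
    flat_appLE_of_stalk f V hV _ (U.2.basicOpen t) hDtV (fun y hy => hflat y (hDt y hy))
  -- the quotient
  have hq : ((Ideal.Quotient.mk (𝓘.ideal U)).comp (f.appLE V U.1 hUV).hom).Flat := by
    have h1 := HasRingHomProperty.appLE (P := @Flat) (𝓘.subschemeι ≫ f) hDflat ⟨V, hV⟩
      ⟨𝓘.subschemeι ⁻¹ᵁ U.1, U.2.preimage 𝓘.subschemeι⟩ (by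
        intro z hz
        exact hUV hz)
    have h2 : (𝓘.subschemeι ≫ f).appLE V (𝓘.subschemeι ⁻¹ᵁ U.1) (by
        intro z hz
        exact hUV hz) = f.appLE V U.1 hUV ≫ 𝓘.subschemeι.app U.1 := by
      rw [Scheme.Hom.app_eq_appLE, Scheme.Hom.appLE_comp_appLE]
    rw [h2, 𝓘.subschemeι_app U] at h1
    simp only [CommRingCat.hom_comp, CommRingCat.hom_ofHom] at h1
    rw [RingHom.comp_assoc] at h1
    exact (RingHom.Flat.comp_iff_of_bijective_left
      (ConcreteCategory.bijective_of_isIso (𝓘.subschemeObjIso U).inv)).1 h1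
  -- algebra structures
  algebraize [(f.appLE V U.1 hUV).hom]
  let _ : Algebra Γ(S, V) Γ(X, X.basicOpen t) := (f.appLE V (X.basicOpen t) hDtV).hom.toAlgebra
  have hloc : IsLocalization.Away t Γ(X, X.basicOpen t) := U.2.isLocalization_basicOpen t
  have : IsScalarTower Γ(S, V) Γ(X, U.1) Γ(X, X.basicOpen t) :=
    IsScalarTower.of_algebraMap_eq' (by
      simp only [RingHom.algebraMap_toAlgebra]
      rw [← CommRingCat.hom_comp, Scheme.Hom.appLE_map])
  have : Module.Flat Γ(S, V) Γ(X, X.basicOpen t) := hψ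
  have hquot : Module.Flat Γ(S, V) (Γ(X, U.1) ⧸ Ideal.span {t}) := by
    rw [← hIt]
    exact RingHom.flat_algebraMap_iff.1 hq
  exact flat_of_nzd t ht Γ(X, X.basicOpen t)

end Groth.Agent.S8849
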