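import Groth.Statements.S8850
import Mathlib
import Groth.Agent.Lib.Helper28.AdmCalc
open TopologicalSpace

set_option autoImplicit false
universe u
open CategoryTheory CategoryTheory.Limits AlgebraicGeometry TopologicalSpace
open SDiv

namespace Groth.Agent.S8850

/-- Let S be a scheme, X a Noetherian S-scheme, Y a proper S-scheme, U ⊆ X an open subscheme and f : U ⟶
Y a morphism compatible with the structure morphisms to S. Then there are a proper morphism p : X' ⟶
X restricting to an isomorphism over U and an S-morphism f' : X' ⟶ Y whose restriction to p⁻¹(U) is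
f composed with p. The published statement takes U dense, so that f is an S-rational map; this row
allows any open U, which its proof does not need. -/
theorem result {X Y S : Scheme.{u}} [IsNoetherian X] (a : X ⟶ S) (b : Y ⟶ S)
    [IsProper b] (U : X.Opens) (f : (U : Scheme.{u}) ⟶ Y) (hf : f ≫ b = U.ι ≫ a) :
    ∃ (X' : Scheme.{u}) (p : X' ⟶ X) (f' : X' ⟶ Y), IsProper p ∧ IsIso (p ∣_ U) ∧ f' ≫ b = p ≫ a ∧
      (p ⁻¹ᵁ U).ι ≫ f' = (p ∣_ U) ≫ f := by
  classical
  haveI hN : NoetherianSpace ↥(U : Scheme.{u}) := NoetherianSpace.set (U : Set X)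
  let j : (U : Scheme.{u}) ⟶ pullback a b := pullback.lift U.ι f hf.symm
  haveI : QuasiCompact j := quasiCompact_of_noetherianSpace_source j
  obtain ⟨q, hq⟩ : ∃ q : j.image ⟶ X, q = j.imageι ≫ pullback.fst a b := ⟨_, rfl⟩
  obtain ⟨f', hf'⟩ : ∃ f' : j.image ⟶ Y, f' = j.imageι ≫ pullback.snd a b := ⟨_, rfl⟩
  have hjq : j.toImage ≫ q = U.ι := by
    simp only [hq, Scheme.Hom.toImage_imageι_assoc, j, pullback.lift_fst]
  have hjf : j.toImage ≫ f' = f := by
    simp only [hf', Scheme.Hom.toImage_imageι_assoc, j, pullback.lift_snd]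
  haveI : IsProper q := by rw [hq]; infer_instance
  have hcond : f' ≫ b = q ≫ a := by
    simp only [hf', hq, Category.assoc, pullback.condition]
  -- the open T = U
  set T : (U : Scheme.{u}).Opens := j.toImage ⁻¹ᵁ (q ⁻¹ᵁ U) with hT
  have hTtop : T = ⊤ := by
    rw [hT, ← Scheme.Hom.comp_preimage, hjq]
    ext x
    simp only [Scheme.Hom.coe_preimage, Scheme.Opens.ι_apply, Set.mem_preimage, SetLike.mem_coe,
      Opens.coe_top, Set.mem_univ, iff_true]
    exact x.2
  have hTiso : IsIso T.ι := by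
    have h : ∀ T' : (U : Scheme.{u}).Opens, T' = ⊤ → IsIso T'.ι := by
      rintro _ rfl
      exact (Scheme.topIso (U : Scheme.{u})).isIso_hom
    exact h T hTtop
  let r : (T : Scheme.{u}) ⟶ (q ⁻¹ᵁ U : j.image.Opens) := j.toImage ∣_ (q ⁻¹ᵁ U)
  have hr : r ≫ (q ⁻¹ᵁ U).ι = T.ι ≫ j.toImage := morphismRestrict_ι _ _
  haveI : IsSchemeTheoreticallyDominant j.toImage :=
    ⟨Groth.Agent.Helper28.AdmCalc.ker_toImage_eq_bot j⟩
  haveI : IsSchemeTheoreticallyDominant r :=
    IsSchemeTheoreticallyDominant.of_isPullback (isPullback_morphismRestrict j.toImage (q ⁻¹ᵁ U)).flip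
  have hrker : r.ker = ⊥ := IsSchemeTheoreticallyDominant.ker_eq_bot r
  obtain ⟨ρ, hρdef⟩ : ∃ ρ : (q ⁻¹ᵁ U : j.image.Opens).toScheme ⟶ U, ρ = q ∣_ U := ⟨_, rfl⟩
  have hρ : ρ ≫ U.ι = (q ⁻¹ᵁ U).ι ≫ q := by rw [hρdef]; exact morphismRestrict_ι _ _
  have hrρ : r ≫ ρ = T.ι := by
    rw [← cancel_mono U.ι, Category.assoc, hρ, reassoc_of% hr, hjq]
  haveI : IsSeparated ρ := by rw [hρdef]; infer_instance
  have hinv : ρ ≫ inv T.ι ≫ r = 𝟙 _ := by
    apply Groth.Agent.Helper28.AdmCalc.ext_of_dominant_of_separated r hrker _ _ ρ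
    · rw [Category.assoc, Category.assoc, hrρ, IsIso.inv_hom_id, Category.comp_id, Category.id_comp]
    · rw [reassoc_of% hrρ, IsIso.hom_inv_id_assoc, Category.comp_id]
  have hinv' : (inv T.ι ≫ r) ≫ ρ = 𝟙 _ := by
    rw [Category.assoc, hrρ, IsIso.inv_hom_id]
  refine ⟨j.image, q, f', inferInstance, hρdef ▸ ⟨inv T.ι ≫ r, hinv, hinv'⟩, hcond, ?_⟩
  rw [← hρdef]
  apply Groth.Agent.Helper28.AdmCalc.ext_of_dominant_of_separated r hrker _ _ b
  · show ((q ⁻¹ᵁ U).ι ≫ f') ≫ b = (ρ ≫ f) ≫ b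
    rw [Category.assoc, Category.assoc, hcond, hf, ← reassoc_of% hρ]
  · show r ≫ (q ⁻¹ᵁ U).ι ≫ f' = r ≫ ρ ≫ f
    rw [reassoc_of% hr, hjf, reassoc_of% hrρ]

end Groth.Agent.S8850
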