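import Groth.Statements.S8851
import Mathlib.RingTheory.LocalProperties.Reduced
import Mathlib.AlgebraicGeometry.Properties

set_option autoImplicit false
universe u
open CategoryTheory CategoryTheory.Limits AlgebraicGeometry TopologicalSpace
open SDiv

namespace Groth.Agent.S8851

lemma isEffCartierIdeal_top (X : Scheme.{u}) : BlowUp.IsEffCartierIdeal (⊤ : X.IdealSheafData) := by
  intro x
  obtain ⟨_, ⟨U, hU, rfl⟩, hxU, -⟩ :=
    X.isBasis_affineOpens.exists_subset_of_mem_open (Set.mem_univ x) isOpen_univ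
  refine ⟨⟨U, hU⟩, hxU, 1, one_mem _, ?_⟩
  rw [Scheme.IdealSheafData.ideal_top, Ideal.span_singleton_one]
  rfl

lemma isEffCartierIdeal_comap_of_disjoint {X Y : Scheme.{u}} (g : Y ⟶ X) (𝓘 : X.IdealSheafData)
    (h : ∀ y : Y, g y ∉ 𝓘.support) : BlowUp.IsEffCartierIdeal (𝓘.comap g) := by
  have : 𝓘.comap g = ⊤ := by
    rw [← Scheme.IdealSheafData.support_eq_bot_iff]
    ext y
    simp only [Scheme.IdealSheafData.support_comap, Closeds.coe_preimage, Set.mem_preimage,
      SetLike.mem_coe, Closeds.coe_bot, Set.mem_empty_iff_false, iff_false]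
    exact h y
  rw [this]
  exact isEffCartierIdeal_top Y


/-- over the complement of the centre, a blow-up is an isomorphism -/
lemma isIso_morphismRestrict_compl {X X' : Scheme.{u}} (𝓘 : X.IdealSheafData) (b : X' ⟶ X)
    (hb : BlowUp.IsBlowUp b 𝓘) : IsIso (b ∣_ 𝓘.support.compl) := by
  set W : X.Opens := 𝓘.support.compl with hW
  have hj : BlowUp.IsEffCartierIdeal (𝓘.comap W.ι) :=
    isEffCartierIdeal_comap_of_disjoint _ _ (fun y => y.2)
  obtain ⟨h, hh, -⟩ := hb.2 W W.ι hj
  have hrange : Set.range h ⊆ Set.range (b ⁻¹ᵁ W).ι := by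
    rintro _ ⟨w, rfl⟩
    rw [Scheme.Opens.range_ι]
    change b (h w) ∈ W
    rw [← Scheme.Hom.comp_apply, hh]
    exact w.2
  let h' : (W : Scheme) ⟶ (b ⁻¹ᵁ W : Scheme) := IsOpenImmersion.lift (b ⁻¹ᵁ W).ι h hrange
  have hh' : h' ≫ (b ⁻¹ᵁ W).ι = h := IsOpenImmersion.lift_fac _ _ _
  refine ⟨h', ?_, ?_⟩
  · rw [← cancel_mono (b ⁻¹ᵁ W).ι, Category.assoc, hh', Category.id_comp]
    have hE : BlowUp.IsEffCartierIdeal (𝓘.comap ((b ⁻¹ᵁ W).ι ≫ b)) :=
      isEffCartierIdeal_comap_of_disjoint _ _ (fun y => y.2)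
    obtain ⟨k, hk, huniq⟩ := hb.2 _ ((b ⁻¹ᵁ W).ι ≫ b) hE
    have e1 : (b ∣_ W) ≫ h = k := huniq _ (by
      change ((b ∣_ W) ≫ h) ≫ b = (b ⁻¹ᵁ W).ι ≫ b
      rw [Category.assoc, hh, morphismRestrict_ι])
    have e2 : (b ⁻¹ᵁ W).ι = k := huniq _ rfl
    rw [e1, e2]
  · rw [← cancel_mono W.ι, Category.assoc, morphismRestrict_ι, ← Category.assoc, hh', hh,
      Category.id_comp]

/-- Let X be a reduced scheme, 𝓘 a quasi-coherent ideal sheaf on X and b : X' ⟶ X a blowing up of X in
𝓘. Then X' is reduced. -/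
theorem result {X X' : Scheme.{u}} [IsReduced X] (𝓘 : X.IdealSheafData) (b : X' ⟶ X)
    (hb : BlowUp.IsBlowUp b 𝓘) : IsReduced X' := by
  set W : X.Opens := 𝓘.support.compl with hW
  have hiso : IsIso (b ∣_ W) := isIso_morphismRestrict_compl 𝓘 b hb
  have hW'red : IsReduced (b ⁻¹ᵁ W : Scheme) := isReduced_of_isOpenImmersion ((b ∣_ W) ≫ W.ι)
  have hstalk : ∀ x' : X', _root_.IsReduced (X'.presheaf.stalk x') := by
    intro x'
    obtain ⟨U', hx'U', g, hg, hIg⟩ := hb.1 x'
    have hDg : X'.basicOpen g ≤ b ⁻¹ᵁ W := by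
      intro z hz
      have hzU' : z ∈ U'.1 := X'.basicOpen_le g hz
      change b z ∈ W
      intro hbz
      have h1 : z ∈ (𝓘.comap b).support := by
        rw [Scheme.IdealSheafData.support_comap]
        exact hbz
      rw [Scheme.IdealSheafData.mem_support_iff_of_mem (U := U') hzU', hIg, Scheme.zeroLocus_span,
        Scheme.zeroLocus_singleton] at h1
      exact h1 hz
    have hDred : _root_.IsReduced Γ(X', X'.basicOpen g) := by
      have : IsReduced (X'.basicOpen g : Scheme) := isReduced_of_isOpenImmersion (X'.homOfLE hDg)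
      exact isReduced_of_injective (Scheme.Opens.topIso (X'.basicOpen g)).inv.hom
        (ConcreteCategory.bijective_of_isIso (Scheme.Opens.topIso (X'.basicOpen g)).inv).1
    have hloc : IsLocalization.Away g Γ(X', X'.basicOpen g) := U'.2.isLocalization_basicOpen g
    have hinj : Function.Injective (algebraMap Γ(X', U'.1) Γ(X', X'.basicOpen g)) :=
      IsLocalization.injective _ (Submonoid.powers_le.2 hg)
    have hred : _root_.IsReduced Γ(X', U'.1) := isReduced_of_injective _ hinj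
    let _ := TopCat.Presheaf.algebra_section_stalk X'.presheaf ⟨x', hx'U'⟩
    have hloc2 : IsLocalization.AtPrime (X'.presheaf.stalk x') (U'.2.primeIdealOf ⟨x', hx'U'⟩).asIdeal :=
      U'.2.isLocalization_stalk ⟨x', hx'U'⟩
    exact isReduced_localizationPreserves (U'.2.primeIdealOf ⟨x', hx'U'⟩).asIdeal.primeCompl
      (X'.presheaf.stalk x') hred
  exact isReduced_of_isReduced_stalk X'

end Groth.Agent.S8851
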