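import Groth.Statements.S8854
import Mathlib.RingTheory.Filtration
import Mathlib.RingTheory.Ideal.Height

set_option autoImplicit false
universe u
open SDiv

namespace Groth.Agent.S8854

/-- Let R be a Noetherian unique factorisation domain and I ⊆ R an ideal such that every associated
prime of R/I is minimal over I (R/I has no embedded primes) and every prime minimal over I has
height 1. Then I is principal: it is generated by one element. -/
theorem result (R : Type u) [CommRing R] [IsDomain R] [IsNoetherianRing R]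
    [UniqueFactorizationMonoid R] (I : Ideal R)
    (h1 : ∀ p : Ideal R, p ∈ associatedPrimes R (R ⧸ I) → p ∈ I.minimalPrimes)
    (h2 : ∀ p : Ideal R, p ∈ I.minimalPrimes → p.height = 1) :
    ∃ f : R, I = Ideal.span {f} := by
  classical
  by_cases hI0 : I = ⊥
  · exact ⟨0, by simp [hI0]⟩
  obtain ⟨J, ⟨d, hd⟩, hmax⟩ := set_has_maximal_iff_noetherian.mpr
    (inferInstance : IsNoetherian R R) {J : Ideal R | ∃ d, I = Ideal.span {d} * J}
    ⟨I, 1, by simp [Ideal.span_singleton_one]⟩
  have hd0 : d ≠ 0 := by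
    rintro rfl
    apply hI0
    rw [hd]
    simp
  suffices hJ : J = ⊤ by
    exact ⟨d, by rw [hd, hJ, Ideal.mul_top]⟩
  by_contra hJ
  have : Nontrivial (R ⧸ J) := Ideal.Quotient.nontrivial_iff.mpr hJ
  obtain ⟨p, hp⟩ := associatedPrimes.nonempty R (R ⧸ J)
  have hdJ : J ≤ Submodule.comap (LinearMap.mulLeft R d) I := by
    intro j hj
    rw [Submodule.mem_comap, hd]
    exact Ideal.mul_mem_mul (Ideal.mem_span_singleton_self d) hj
  have hcomap : Submodule.comap (LinearMap.mulLeft R d) I = J := by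
    apply le_antisymm _ hdJ
    intro x hx
    rw [Submodule.mem_comap, hd, LinearMap.mulLeft_apply, Ideal.mem_span_singleton_mul] at hx
    obtain ⟨z, hz, hzx⟩ := hx
    have : z = x := mul_left_cancel₀ hd0 hzx
    exact this ▸ hz
  let φ : (R ⧸ J) →ₗ[R] (R ⧸ I) := Submodule.mapQ J I (LinearMap.mulLeft R d) hdJ
  have hφ : Function.Injective φ := by
    rw [← LinearMap.ker_eq_bot, Submodule.ker_mapQ, hcomap, Submodule.mkQ_map_self]
  have hpI : p ∈ associatedPrimes R (R ⧸ I) := associatedPrimes.subset_of_injective hφ hp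
  have hph : p.height = 1 := h2 p (h1 p hpI)
  have : p.IsPrime := hp.isPrime
  have hpne : p ≠ ⊥ := Ideal.ne_bot_of_height_eq_one hph
  obtain ⟨π, hπp, hπ⟩ := Ideal.IsPrime.exists_mem_prime_of_ne_bot ‹p.IsPrime› hpne
  have hpeq : p = Ideal.span {π} := Ideal.eq_span_singleton_of_height_eq_one hph hπp hπ
  have hJp : J ≤ p := by
    obtain ⟨x, hx⟩ := (isAssociatedPrime_iff.mp hp).2
    obtain ⟨y, rfl⟩ := Ideal.Quotient.mk_surjective x
    intro j hj
    rw [hx, Submodule.mem_colon_singleton, Submodule.mem_bot]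
    change j • (Ideal.Quotient.mk J y) = 0
    rw [Algebra.smul_def, Ideal.Quotient.algebraMap_eq, ← map_mul, Ideal.Quotient.eq_zero_iff_mem]
    exact Ideal.mul_mem_right y J hj
  let J' : Ideal R := Submodule.comap (LinearMap.mulLeft R π) J
  have hJ' : Ideal.span {π} * J' = J := by
    ext z
    rw [Ideal.mem_span_singleton_mul]
    constructor
    · rintro ⟨w, hw, rfl⟩
      exact hw
    · intro hz
      have hz' : z ∈ Ideal.span {π} := hpeq ▸ hJp hz
      obtain ⟨w, rfl⟩ := Ideal.mem_span_singleton.mp hz'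
      exact ⟨w, hz, rfl⟩
  have hJ'S : J' ∈ {J : Ideal R | ∃ d, I = Ideal.span {d} * J} :=
    ⟨d * π, by rw [hd, ← hJ', ← _root_.mul_assoc, Ideal.span_singleton_mul_span_singleton]⟩
  have hJJ' : J ≤ J' := fun j hj => Ideal.mul_mem_left J π hj
  have hJeq : J' = J := (eq_of_le_of_not_lt hJJ' (hmax J' hJ'S)).symm
  rw [hJeq] at hJ'
  have hpow : ∀ n : ℕ, J ≤ Ideal.span {π} ^ n := by
    intro n
    induction n with
    | zero => simp
    | succ n ih =>
      rw [pow_succ']
      calc J = Ideal.span {π} * J := hJ'.symm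
        _ ≤ Ideal.span {π} * Ideal.span {π} ^ n := Ideal.mul_mono_right ih
  have hne : Ideal.span {π} ≠ ⊤ := hpeq ▸ (‹p.IsPrime›).ne_top
  have hJbot : J = ⊥ := by
    rw [eq_bot_iff, ← Ideal.iInf_pow_eq_bot_of_isDomain _ hne]
    exact le_iInf hpow
  apply hI0
  rw [hd, hJbot, Ideal.mul_bot]

end Groth.Agent.S8854
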