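import Groth.Statements.S8857
import Mathlib
import Groth.Agent.Lib.Helper28.IdealExt
import Groth.Agent.Lib.Helper28.BlowUpExist
open Groth.Agent.Helper28.IdealExt Groth.Agent.Helper28.BlowUpExist

set_option autoImplicit false
universe u
open CategoryTheory CategoryTheory.Limits AlgebraicGeometry TopologicalSpace
open SDiv

namespace Groth.Agent.S8857

/-- Let X be a quasi-compact and quasi-separated scheme, U, V ⊆ X quasi-compact open subschemes and 𝓘 a
quasi-coherent ideal sheaf on V which is of finite type with support disjoint from U ∩ V (a blowing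
up of V in 𝓘 is a (U ∩ V)-admissible blow-up). Then there is a quasi-coherent ideal sheaf 𝓙 on X, of
finite type with support disjoint from U, whose restriction to V is 𝓘; and every blowing up of X in
𝓙 restricts over V to a blowing up of V in 𝓘 (the U-admissible blow-up of X extends the given one of
V). -/
theorem result (X : Scheme.{u}) [CompactSpace ↥X] [QuasiSeparatedSpace ↥X]
    (U V : X.Opens) (hU : IsCompact (U : Set ↥X)) (hV : IsCompact (V : Set ↥X))
    (𝓘 : (V : Scheme.{u}).IdealSheafData) (h𝓘 : BlowUp.IsAdmissibleFor (V.ι ⁻¹ᵁ U) 𝓘) :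
    ∃ 𝓙 : X.IdealSheafData, BlowUp.IsAdmissibleFor U 𝓙 ∧ 𝓙.comap V.ι = 𝓘 ∧
      ∀ (X' : Scheme.{u}) (c : X' ⟶ X), BlowUp.IsBlowUp c 𝓙 → BlowUp.IsBlowUp (c ∣_ V) 𝓘 := by
  classical
  obtain ⟨hft, hdisj⟩ := h𝓘
  haveI : CompactSpace V.toScheme := isCompact_iff_compactSpace.mp hV
  haveI : QuasiCompact V.ι := inferInstance
  set K := 𝓘.map V.ι with hKdef
  have hKV : K.comap V.ι = 𝓘 := comap_map_eq V.ι 𝓘
  -- the support of K misses U
  have hKU : Disjoint (K.support : Set X) (U : Set X) := by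
    rw [hKdef, Scheme.IdealSheafData.support_map]
    rw [Set.disjoint_left]
    intro x hx hxU
    have hx' : x ∈ closure (V.ι '' (𝓘.support : Set V.toScheme)) := hx
    have hcl : closure (V.ι '' (𝓘.support : Set V.toScheme)) ⊆ (U : Set X)ᶜ := by
      apply closure_minimal _ U.2.isClosed_compl
      rintro _ ⟨y, hy, rfl⟩ hyU
      exact Set.disjoint_left.mp hdisj hy hyU
    exact hcl hx' hxU
  have hKtop : ∀ A : X.affineOpens, A.1 ≤ U → K.ideal A = ⊤ := fun A hA =>
    ideal_eq_top_of_disjoint K A (hKU.mono_right hA)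
  have hKft : ∀ A : X.affineOpens, A.1 ≤ U ⊔ V → (K.ideal A).FG := by
    intro A hA
    apply fg_of_local
    intro y hy
    rcases hA hy with hyU | hyV
    · obtain ⟨_, ⟨B, hB, rfl⟩, hyB, hBU⟩ :=
        X.isBasis_affineOpens.exists_subset_of_mem_open hyU U.2
      refine ⟨⟨B, hB⟩, hyB, ?_⟩
      rw [hKtop ⟨B, hB⟩ hBU]
      exact ⟨{1}, by simp⟩
    · obtain ⟨_, ⟨B, hB, rfl⟩, hyB, hBV⟩ :=
        X.isBasis_affineOpens.exists_subset_of_mem_open hyV V.2
      refine ⟨⟨B, hB⟩, hyB, ?_⟩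
      apply fg_ideal_of_comap V.ι K ⟨B, hB⟩ (by rw [Scheme.Opens.opensRange_ι]; exact hBV)
      rw [hKV]
      exact hft _
  have hUVc : IsCompact ((U ⊔ V : X.Opens) : Set X) := by
    rw [TopologicalSpace.Opens.coe_sup]; exact hU.union hV
  obtain ⟨𝓙, h1, h2, h3⟩ := exists_ft_extension K (U ⊔ V) hUVc hKft
  have h𝓙V : 𝓙.comap V.ι = 𝓘 := by
    rw [comap_ι_eq_of_forall V 𝓙 K (fun A hA => h3 A (hA.trans le_sup_right)), hKV]
  refine ⟨𝓙, ⟨h1, ?_⟩, h𝓙V, ?_⟩
  · rw [Set.disjoint_left]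
    intro x hx hxU
    obtain ⟨_, ⟨B, hB, rfl⟩, hxB, hBU⟩ :=
      X.isBasis_affineOpens.exists_subset_of_mem_open hxU U.2
    have h4 : 𝓙.ideal ⟨B, hB⟩ = ⊤ := by
      rw [h3 ⟨B, hB⟩ (le_trans hBU le_sup_left), hKtop ⟨B, hB⟩ hBU]
    have h5 := (Scheme.IdealSheafData.mem_support_iff_of_mem (I := 𝓙) (U := ⟨B, hB⟩) hxB).mp hx
    rw [h4, Scheme.mem_zeroLocus_iff] at h5
    have h6 := h5 1 (by simp)
    apply h6
    rw [Scheme.basicOpen_of_isUnit _ isUnit_one]
    exact hxB
  · intro X' c hc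
    have sq := isPullback_morphismRestrict c V
    have := isBlowUp_of_isPullback_of_flat sq 𝓙 hc
    rwa [h𝓙V] at this


end Groth.Agent.S8857
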