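import Groth.Statements.S8858
import Mathlib
import Groth.Agent.Lib.Helper28.BlowUpExist
import Groth.Agent.Lib.Helper28.FiniteTypeIdeal
import Groth.Agent.S1683
open AlgebraicGeometry CategoryTheory Groth.Agent.Helper28.BlowUpExist Groth.Agent.Helper28.FiniteTypeIdeal

set_option autoImplicit false
universe u
open CategoryTheory CategoryTheory.Limits AlgebraicGeometry TopologicalSpace
open SDiv

namespace Groth.Agent.S8858

/-- Let X be a quasi-compact and quasi-separated scheme, U ⊆ X a quasi-compact open subscheme, and b_i :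
X_i ⟶ X, i < n, blowing ups of X in quasi-coherent ideal sheaves 𝓘_i of finite type with support
disjoint from U (U-admissible blow-ups). Then there is a U-admissible blow-up c : X' ⟶ X such that
(a) c factors as X' ⟶ X_i ⟶ X for every i, and (b) each factor X' ⟶ X_i is a blowing up of X_i in a
quasi-coherent ideal sheaf of finite type whose support is disjoint from the inverse image of U. -/
theorem result (X : Scheme.{u}) [CompactSpace ↥X] [QuasiSeparatedSpace ↥X]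
    (U : X.Opens) (hU : IsCompact (U : Set ↥X)) {n : ℕ} (Xi : Fin n → Scheme.{u}) (b : ∀ i, Xi i ⟶ X)
    (𝓘 : Fin n → X.IdealSheafData) (hb : ∀ i, BlowUp.IsBlowUp (b i) (𝓘 i)) (ha : ∀ i, BlowUp.IsAdmissibleFor U (𝓘 i)) :
    ∃ (𝓙 : X.IdealSheafData) (X' : Scheme.{u}) (c : X' ⟶ X), BlowUp.IsBlowUp c 𝓙 ∧ BlowUp.IsAdmissibleFor U 𝓙 ∧
      ∀ i, ∃ (g : X' ⟶ Xi i) (𝓚 : (Xi i).IdealSheafData), g ≫ b i = c ∧ BlowUp.IsBlowUp g 𝓚 ∧
        BlowUp.IsAdmissibleFor ((b i) ⁻¹ᵁ U) 𝓚 := by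
  classical
  set 𝓙 : X.IdealSheafData := ∏ i, 𝓘 i with h𝓙
  obtain ⟨X', c, hc⟩ := exists_isBlowUp X 𝓙
  refine ⟨𝓙, X', c, hc, ⟨isFiniteTypeIdeal_prod _ 𝓘 (fun i _ => (ha i).1),
    support_prod_disjoint _ 𝓘 _ (fun i _ => (ha i).2)⟩, ?_⟩
  intro i
  set 𝓙' : X.IdealSheafData := ∏ k ∈ Finset.univ.erase i, 𝓘 k with h𝓙'
  have hmul : 𝓘 i * 𝓙' = 𝓙 := Finset.mul_prod_erase Finset.univ 𝓘 (Finset.mem_univ i)
  obtain ⟨X'', g₀, hg₀⟩ := exists_isBlowUp (Xi i) (𝓙'.comap (b i))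
  have h1 : BlowUp.IsBlowUp (g₀ ≫ b i) 𝓙 := by
    rw [← hmul]
    exact Groth.Agent.S1683.result (𝓘 i) 𝓙' (b i) (hb i) g₀ hg₀
  obtain ⟨φ, hφ⟩ := Groth.Agent.Helper28.StrictTr.exists_iso_of_isBlowUp 𝓙 c (g₀ ≫ b i) hc h1
  refine ⟨φ.hom ≫ g₀, 𝓙'.comap (b i), by rw [Category.assoc, hφ],
    isBlowUp_iso_comp φ g₀ _ hg₀, ?_, ?_⟩
  · exact isFiniteTypeIdeal_comap (b i) 𝓙' (isFiniteTypeIdeal_prod _ 𝓘 (fun k _ => (ha k).1))
  · have hd : Disjoint (𝓙'.support : Set X) (U : Set X) :=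
      support_prod_disjoint _ 𝓘 _ (fun k _ => (ha k).2)
    rw [Set.disjoint_left] at hd ⊢
    intro y hy hyU
    rw [Scheme.IdealSheafData.support_comap] at hy
    exact hd hy hyU

end Groth.Agent.S8858
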