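import Groth.Statements.S8861
import Groth.Agent.Lib.Helper13.WeakAss
import Groth.Agent.Lib.Helper13.EffCartier

set_option autoImplicit false
universe u
open CategoryTheory CategoryTheory.Limits AlgebraicGeometry TopologicalSpace
open SDiv

namespace Groth.Agent.S8861

open Groth.Agent.Helper13.WeakAss Groth.Agent.Helper13.EffCartier Groth.Agent.Helper13.IdealComap

/-- Let f : X ⟶ Y be a morphism of schemes and 𝓘 the ideal sheaf of an effective Cartier divisor D ⊆ Y.
If f x ∉ D for every weakly associated point x of X (weakly associated point of the structure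
sheaf), then the inverse image ideal sheaf of 𝓘 on X is the ideal of an effective Cartier divisor,
i.e. the pullback of D by f is defined. -/
theorem result {X Y : Scheme.{u}} (f : X ⟶ Y) (𝓘 : Y.IdealSheafData)
    (hD : BlowUp.IsEffCartierIdeal 𝓘)
    (h : ∀ x : ↥X, Curv2.IsWeakAssPoint (Coh.structureModule X) x → f x ∉ 𝓘.support) :
    BlowUp.IsEffCartierIdeal (𝓘.comap f) := by
  intro x
  obtain ⟨V, hyV, t, ht, hIt⟩ := hD (f x)
  obtain ⟨_, ⟨W, hW, rfl⟩, hxW, hWV⟩ :=
    X.isBasis_affineOpens.exists_subset_of_mem_open (show x ∈ (f ⁻¹ᵁ V.1 : Set X) from hyV)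
      (f ⁻¹ᵁ V.1).2
  have e : W ≤ f ⁻¹ᵁ V.1 := hWV
  refine ⟨⟨W, hW⟩, hxW, (f.appLE V.1 W e).hom t, ?_, ?_⟩
  · rw [mem_nonZeroDivisors_iff_right]
    intro a hag
    by_contra ha
    obtain ⟨x₁, hx₁, hne⟩ := exists_germ_ne_zero a ha
    obtain ⟨x', hx'W, -, hwa, hx'g⟩ := exists_weakAss_specializes hW ((f.appLE V.1 W e).hom t) a x₁ hx₁ hne
      (by rw [mul_comm]; exact hag)
    apply hx'g
    have hx'V : f x' ∈ V.1 := e hx'W
    have hns := h x' hwa
    rw [Scheme.IdealSheafData.mem_support_iff_of_mem (U := V) hx'V, hIt, Scheme.zeroLocus_span,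
      Scheme.zeroLocus_singleton] at hns
    have hfx' : f x' ∈ Y.basicOpen t := by
      by_contra hcon
      exact hns hcon
    have : x' ∈ f ⁻¹ᵁ Y.basicOpen t := hfx'
    rw [Scheme.basicOpen_appLE]
    exact ⟨hx'W, this⟩
  · rw [ideal_comap f 𝓘 V ⟨W, hW⟩ e, hIt, Ideal.map_span, Set.image_singleton]

end Groth.Agent.S8861
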