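import Groth.Statements.S8862
import Groth.Agent.Lib.Helper13.IdealComap

set_option autoImplicit false
universe u
open CategoryTheory CategoryTheory.Limits AlgebraicGeometry TopologicalSpace
open SDiv

namespace Groth.Agent.S8862

open Groth.Agent.Helper13.IdealComap

/-- in a reduced ring, an element outside all minimal primes is a nonzerodivisor -/
lemma mem_nonZeroDivisors_of_notMem_minimalPrimes {B : Type*} [CommRing B] [IsReduced B] (s : B)
    (hs : ∀ p ∈ minimalPrimes B, s ∉ p) : s ∈ nonZeroDivisors B := by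
  rw [mem_nonZeroDivisors_iff_right]
  intro b hb
  have h1 : b ∈ sInf (minimalPrimes B) := by
    rw [Ideal.mem_sInf]
    intro p hp
    have hpp : p.IsPrime := hp.1.1
    have : b * s ∈ p := by rw [hb]; exact p.zero_mem
    exact (hpp.mem_or_mem this).resolve_right (hs p hp)
  have h2 : sInf (minimalPrimes B) = ⊥ := by
    change sInf (⊥ : Ideal B).minimalPrimes = ⊥
    rw [Ideal.sInf_minimalPrimes]
    exact nilradical_eq_zero B
  rw [h2] at h1
  simpa using h1

/-- points of an affine open corresponding to minimal primes have no proper generalizations -/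
lemma eq_of_specializes_minimalPrime {X : Scheme.{u}} {U : X.Opens} (hU : IsAffineOpen U)
    (p : Ideal Γ(X, U)) (hp : p ∈ minimalPrimes Γ(X, U)) (hpp : p.IsPrime) (y : X)
    (hy : y ⤳ hU.fromSpec ⟨p, hpp⟩) : y = hU.fromSpec ⟨p, hpp⟩ := by
  have hξU : hU.fromSpec ⟨p, hpp⟩ ∈ U := by
    rw [← SetLike.mem_coe, ← hU.range_fromSpec]
    exact ⟨_, rfl⟩
  have hyU : y ∈ U := hy.mem_open U.2 hξU
  rw [← SetLike.mem_coe, ← hU.range_fromSpec] at hyU
  obtain ⟨q, rfl⟩ := hyU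
  have h1 : q ⤳ (⟨p, hpp⟩ : PrimeSpectrum Γ(X, U)) :=
    (hU.fromSpec.isOpenEmbedding.isInducing.specializes_iff).1 hy
  have h1' : @LE.le (PrimeSpectrum Γ(X, U)) _ q ⟨p, hpp⟩ :=
    (@PrimeSpectrum.le_iff_specializes Γ(X, U) _ q ⟨p, hpp⟩).2 h1
  have h2 : @Eq (PrimeSpectrum Γ(X, U)) q ⟨p, hpp⟩ := by
    apply le_antisymm h1'
    exact hp.2 ⟨PrimeSpectrum.isPrime q, bot_le⟩ h1'
  rw [h2]

/-- Let f : X ⟶ Y be a morphism of schemes with X reduced and 𝓘 the ideal sheaf of an effective Cartier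
divisor D ⊆ Y. If f ξ ∉ D for every generic point ξ of an irreducible component of X (every point of
X with no proper generization), then the inverse image ideal sheaf of 𝓘 on X is the ideal of an
effective Cartier divisor. -/
theorem result {X Y : Scheme.{u}} [IsReduced X] (f : X ⟶ Y) (𝓘 : Y.IdealSheafData)
    (hD : BlowUp.IsEffCartierIdeal 𝓘)
    (h : ∀ ξ : ↥X, (∀ y : ↥X, y ⤳ ξ → y = ξ) → f ξ ∉ 𝓘.support) :
    BlowUp.IsEffCartierIdeal (𝓘.comap f) := by
  intro x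
  obtain ⟨V, hxV, t, ht, hIt⟩ := hD (f x)
  obtain ⟨_, ⟨U, hU', rfl⟩, hxU, hUV'⟩ :=
    X.isBasis_affineOpens.exists_subset_of_mem_open (show x ∈ (f ⁻¹ᵁ V.1 : Set X) from hxV)
      (f ⁻¹ᵁ V.1).2
  have hU : IsAffineOpen U := hU'
  have hUV : U ≤ f ⁻¹ᵁ V.1 := hUV'
  refine ⟨⟨U, hU⟩, hxU, (f.appLE V.1 U hUV).hom t, ?_, ?_⟩
  · apply mem_nonZeroDivisors_of_notMem_minimalPrimes
    intro p hp hmem
    have hpp : p.IsPrime := hp.1.1
    have hξU : hU.fromSpec ⟨p, hpp⟩ ∈ U := by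
      rw [← SetLike.mem_coe, ← hU.range_fromSpec]
      exact ⟨_, rfl⟩
    have h3 := h (hU.fromSpec ⟨p, hpp⟩) (eq_of_specializes_minimalPrime hU p hp hpp)
    have hfξV : f (hU.fromSpec ⟨p, hpp⟩) ∈ V.1 := hUV hξU
    rw [Scheme.IdealSheafData.mem_support_iff_of_mem (U := V) hfξV, hIt, Scheme.zeroLocus_span,
      Scheme.zeroLocus_singleton] at h3
    simp only [Set.mem_compl_iff, SetLike.mem_coe, not_not] at h3
    have h4 : hU.fromSpec ⟨p, hpp⟩ ∈ X.basicOpen ((f.appLE V.1 U hUV) t) := by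
      have := Scheme.basicOpen_appLE f U V.1 hUV t
      rw [this]
      exact ⟨hξU, h3⟩
    have h5 : (⟨p, hpp⟩ : PrimeSpectrum Γ(X, U)) ∈
        hU.fromSpec ⁻¹ᵁ X.basicOpen ((f.appLE V.1 U hUV) t) := h4
    rw [hU.fromSpec_preimage_basicOpen] at h5
    exact h5 hmem
  · rw [ideal_comap f 𝓘 V ⟨U, hU⟩ hUV, hIt, Ideal.map_span, Set.image_singleton]

end Groth.Agent.S8862
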