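import Groth.Statements.S8869
import Groth.Agent.Lib.Helper13.WeakAss
import Mathlib.AlgebraicGeometry.Properties

set_option autoImplicit false
universe u
open CategoryTheory CategoryTheory.Limits AlgebraicGeometry TopologicalSpace
open SDiv

namespace Groth.Agent.S8869

open Groth.Agent.Helper13.WeakAss

lemma weakAss_iff_forall_prime_of_reduced {R : Type*} [CommRing R] [IsLocalRing R] [IsReduced R] :
    (∃ m : R, Ideal.radical (LinearMap.ker (LinearMap.toSpanSingleton R R m)) = IsLocalRing.maximalIdeal R)
      ↔ ∀ P : Ideal R, P.IsPrime → P = IsLocalRing.maximalIdeal R := by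
  constructor
  · rintro ⟨m, hm⟩
    have hm' : Ideal.radical (annIdeal m) = IsLocalRing.maximalIdeal R := hm
    have hm0 : ¬ IsNilpotent m := by
      intro hnil
      have : m = 0 := hnil.eq_zero
      subst this
      have h1 : annIdeal (0 : R) = ⊤ := by
        rw [Ideal.eq_top_iff_one, mem_annIdeal, mul_zero]
      rw [h1, Ideal.radical_top] at hm'
      exact (IsLocalRing.maximalIdeal.isMaximal R).ne_top hm'.symm
    rw [nilpotent_iff_mem_prime] at hm0
    push Not at hm0
    obtain ⟨P₀, hP₀, hmP₀⟩ := hm0
    have h2 : annIdeal m ≤ P₀ := by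
      intro r hr
      rw [mem_annIdeal] at hr
      have : r * m ∈ P₀ := hr ▸ P₀.zero_mem
      exact (hP₀.mem_or_mem this).resolve_right hmP₀
    have h3 : IsLocalRing.maximalIdeal R ≤ P₀ := hm' ▸ hP₀.radical_le_iff.2 h2
    have h4 : P₀ = IsLocalRing.maximalIdeal R :=
      ((IsLocalRing.maximalIdeal.isMaximal R).eq_of_le hP₀.ne_top h3).symm
    have hunit : IsUnit m := by
      by_contra hnu
      exact hmP₀ (h4 ▸ (IsLocalRing.mem_maximalIdeal m).2 hnu)
    have h5 : annIdeal m = ⊥ := by
      rw [eq_bot_iff]
      intro r hr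
      rw [mem_annIdeal] at hr
      exact (hunit.mul_left_eq_zero).1 hr
    have h6 : IsLocalRing.maximalIdeal R = ⊥ := by
      rw [← hm', h5]
      exact nilradical_eq_zero R
    intro P hP
    rw [h6, eq_bot_iff, ← h6]
    exact IsLocalRing.le_maximalIdeal hP.ne_top
  · intro h
    refine ⟨1, ?_⟩
    have h1 : annIdeal (1 : R) = ⊥ := by
      rw [eq_bot_iff]
      intro r hr
      rw [mem_annIdeal, mul_one] at hr
      exact hr
    change Ideal.radical (annIdeal (1 : R)) = _
    rw [h1, Ideal.radical_eq_sInf]
    apply le_antisymm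
    · exact sInf_le ⟨bot_le, (IsLocalRing.maximalIdeal.isMaximal R).isPrime⟩
    · apply le_sInf
      rintro J ⟨-, hJ⟩
      rw [h J hJ]

/-- Assume X is a reduced scheme and x is a point of X. Then x is weakly associated to the structure
sheaf O_X exactly when every generization of x equals x itself; equivalently, x is a generic point
of some irreducible component of X. -/
theorem result (X : Scheme.{u}) [IsReduced X] (x : ↥X) :
    Curv2.IsWeakAssPoint (Coh.structureModule X) x ↔ ∀ y : ↥X, y ⤳ x → y = x := by
  rw [isWeakAssPoint_unit_iff, generic_iff_forall_prime]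
  exact weakAss_iff_forall_prime_of_reduced

end Groth.Agent.S8869
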