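import Groth.Statements.S8874
import Groth.Agent.Lib.Helper13.FittSheaf
import Groth.Agent.Lib.Helper13.StalkBasis5

set_option autoImplicit false
universe u
open CategoryTheory CategoryTheory.Limits AlgebraicGeometry TopologicalSpace
open SDiv

namespace Groth.Agent.S8874

open Groth.Agent.Helper13.LocFree Groth.Agent.Helper13.FittSheaf Groth.Agent.Lib.Helper10.Fitting
open Groth.Agent.Helper13.StalkBasis Groth.Agent.Helper13.FinType

/-- Let S be a scheme, F a quasi-coherent O_S-module of finite type, s a point of S and r a natural
number. Then F can be generated by r sections over some open neighbourhood of s if and only if the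
r-th Fitting ideal of F is the unit ideal at s, i.e. s does not lie in the closed subset cut out by
Fit_r(F). -/
theorem result (S : Scheme.{u}) (F : S.Modules) (hF : Coh.IsQCoh F) (hft : CohB1.IsFT F)
    (s : ↥S) (r : ℕ) :
    (∃ U : S.Opens, s ∈ U ∧ ∃ π : FlatMod.freeMod (↑U) r ⟶ F.restrict U.ι, Epi π) ↔
      s ∉ (Fitt.sheafIdeal F r).support := by
  haveI : F.IsQuasicoherent := hF
  haveI : SheafOfModules.IsFiniteType (R := S.ringCatSheaf) F := hft
  haveI := finite_stalk_of_isFiniteType F s
  rw [notMem_support_iff F s r]
  constructor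
  · rintro ⟨U, hsU, π, hπ⟩
    obtain ⟨g, hg⟩ := exists_span_of_epi F π s hsU
    exact fitt_eq_top_of_span g hg r le_rfl
  · intro h
    obtain ⟨g, hg⟩ := exists_span_of_fitt_eq_top r h
    obtain ⟨V, hsV, t, ht⟩ := exists_common_germ F s g
    have hspan : Submodule.span (S.presheaf.stalk s)
        (Set.range fun i => F.presheaf.germ V s hsV (t i)) = ⊤ := by
      have : (fun i => F.presheaf.germ V s hsV (t i)) = g := funext ht
      rw [this]
      exact hg
    obtain ⟨U, hUV, hsU, hgen⟩ := exists_genOn_nhd F t s hsV hspan
    exact ⟨U, hsU, exists_epi_of_genOn F _ hgen⟩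

end Groth.Agent.S8874
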