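import Groth.Statements.S8875
import Groth.Agent.Lib.Helper13.FittSheaf
import Groth.Agent.Lib.Helper13.StalkBasis5

set_option autoImplicit false
universe u
open CategoryTheory CategoryTheory.Limits AlgebraicGeometry TopologicalSpace
open SDiv

namespace Groth.Agent.S8875

open Groth.Agent.Helper13.LocFree Groth.Agent.Helper13.FittSheaf Groth.Agent.Lib.Helper10.Fitting
open Groth.Agent.Helper13.StalkBasis Groth.Agent.Helper13.FinType

/-- (1) ⇔ (3): let S be a scheme, F a quasi-coherent O_S-module of finite type and r ≥ 0. Then F is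
finite locally free of rank r if and only if Fit_k(F) = 0 for every k < r and Fit_k(F) = O_S for
every k ≥ r. -/
theorem result (S : Scheme.{u}) (F : S.Modules) (hF : Coh.IsQCoh F) (hft : CohB1.IsFT F)
    (r : ℕ) :
    FlatMod.IsFinLocFreeOfRank r F ↔
      (∀ k : ℕ, k < r → Fitt.sheafIdeal F k = ⊥) ∧ (∀ k : ℕ, r ≤ k → Fitt.sheafIdeal F k = ⊤) := by
  haveI : F.IsQuasicoherent := hF
  haveI : SheafOfModules.IsFiniteType (R := S.ringCatSheaf) F := hft
  rw [isFinLocFreeOfRank_iff_of_isQuasicoherent]
  constructor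
  · intro h
    choose U hU hxU hb using h
    have hcov : ⨆ x : S, ((⟨U x, hU x⟩ : S.affineOpens) : S.Opens) = ⊤ := by
      rw [eq_top_iff]
      intro x _
      exact Opens.mem_iSup.2 ⟨x, hxU x⟩
    constructor
    · intro k hk
      refine Scheme.IdealSheafData.ext_of_iSup_eq_top (fun x : S => (⟨U x, hU x⟩ : S.affineOpens))
        hcov (fun x => ?_)
      obtain ⟨b⟩ := hb x
      rw [sheafIdeal_ideal]
      exact (fitt_of_basis b k).1 hk
    · intro k hk
      refine Scheme.IdealSheafData.ext_of_iSup_eq_top (fun x : S => (⟨U x, hU x⟩ : S.affineOpens))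
        hcov (fun x => ?_)
      obtain ⟨b⟩ := hb x
      rw [sheafIdeal_ideal]
      exact (fitt_of_basis b k).2 hk
  · rintro ⟨hbot, htop⟩ x
    haveI := finite_stalk_of_isFiniteType F x
    have hx : x ∉ (Fitt.sheafIdeal F r).support := by
      rw [htop r le_rfl]
      exact fun h => h
    rw [notMem_support_iff F x r] at hx
    obtain ⟨g, hg⟩ := exists_span_of_fitt_eq_top r hx
    obtain ⟨V, hxV, t, ht⟩ := exists_common_germ F x g
    have hspan : Submodule.span (S.presheaf.stalk x)
        (Set.range fun i => F.presheaf.germ V x hxV (t i)) = ⊤ := by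
      have : (fun i => F.presheaf.germ V x hxV (t i)) = g := funext ht
      rw [this]
      exact hg
    obtain ⟨U, hUV, hxU, hgen⟩ := exists_genOn_nhd F t x hxV hspan
    obtain ⟨_, ⟨W, hW, rfl⟩, hxW, hWU⟩ :=
      S.isBasis_affineOpens.exists_subset_of_mem_open hxU U.2
    have hgenW := GenOn.mono hgen hWU
    have hspanW := span_eq_top_of_genOn F hW _ hgenW
    have hli : LinearIndependent Γ(S, W) (resFam F (resFam F t hUV) hWU) := by
      apply linearIndependent_of_fitt_eq_bot _ hspanW
      intro k hk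
      rw [← sheafIdeal_ideal F k ⟨W, hW⟩, hbot k hk]
      rfl
    exact ⟨W, hW, hxW, ⟨Module.Basis.mk hli hspanW.ge⟩⟩

end Groth.Agent.S8875
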