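import Groth.Statements.S8876
import Groth.Agent.Lib.Helper13.FittSheaf

set_option autoImplicit false
universe u
open CategoryTheory CategoryTheory.Limits AlgebraicGeometry TopologicalSpace
open SDiv

namespace Groth.Agent.S8876

open Groth.Agent.Helper13.LocFree Groth.Agent.Helper13.FittSheaf Groth.Agent.Lib.Helper10.Fitting

/-- Let S be a scheme and F a quasi-coherent O_S-module of finite type. Then the closed subset of S cut
out by Fit_0(F) equals the support of F (the scheme-theoretic support and the Fit_0 subscheme have
the same underlying set). -/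
theorem result (S : Scheme.{u}) (F : S.Modules) (hF : Coh.IsQCoh F) (hft : CohB1.IsFT F) :
    ((Fitt.sheafIdeal F 0).support : Set ↥S) = CohB1.support F := by
  haveI : F.IsQuasicoherent := hF
  haveI : SheafOfModules.IsFiniteType (R := S.ringCatSheaf) F := hft
  ext x
  change x ∈ (Fitt.sheafIdeal F 0).support ↔ ¬ Subsingleton (F.presheaf.stalk x)
  rw [← not_iff_not, not_not, notMem_support_iff F x 0]
  constructor
  · intro h
    have h1 : (1 : S.presheaf.stalk x) ∈ Module.annihilator (S.presheaf.stalk x) (F.presheaf.stalk x) :=
      fitt_zero_le_annihilator (by rw [h]; trivial)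
    rw [Module.mem_annihilator] at h1
    refine ⟨fun a b => ?_⟩
    rw [← one_smul (S.presheaf.stalk x) a, ← one_smul (S.presheaf.stalk x) b, h1 a, h1 b]
  · intro h
    refine fitt_eq_top_of_span (n := 0) (fun i => i.elim0) ?_ 0 le_rfl
    rw [eq_top_iff]
    intro m _
    rw [Subsingleton.elim m 0]
    exact Submodule.zero_mem _

end Groth.Agent.S8876
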