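import Groth.Statements.S8877
import Groth.Agent.Lib.Helper13.FittSheaf

set_option autoImplicit false
universe u
open CategoryTheory CategoryTheory.Limits AlgebraicGeometry TopologicalSpace
open SDiv

namespace Groth.Agent.S8877

open Groth.Agent.Helper13.LocFree Groth.Agent.Helper13.FittSheaf Groth.Agent.Lib.Helper10.Fitting

/-- Let S be a scheme and F a quasi-coherent O_S-module of finite type, and let Z_r ⊆ S be the closed
subset cut out by the r-th Fitting ideal of F. Then the intersection of all the Z_r is empty. -/
theorem result (S : Scheme.{u}) (F : S.Modules) (hF : Coh.IsQCoh F) (hft : CohB1.IsFT F)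
    (s : ↥S) : ∃ r : ℕ, s ∉ (Fitt.sheafIdeal F r).support := by
  haveI : F.IsQuasicoherent := hF
  haveI : SheafOfModules.IsFiniteType (R := S.ringCatSheaf) F := hft
  haveI := finite_stalk_of_isFiniteType F s
  obtain ⟨n, x, hx⟩ := Module.Finite.exists_fin (R := S.presheaf.stalk s) (M := F.presheaf.stalk s)
  exact ⟨n, (notMem_support_iff F s n).2 (fitt_eq_top_of_span x hx n le_rfl)⟩

end Groth.Agent.S8877
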