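import Groth.Statements.S8878
import Mathlib
import Groth.Agent.Lib.Helper28.NormCover


set_option autoImplicit false
universe u
open CategoryTheory CategoryTheory.Limits AlgebraicGeometry TopologicalSpace
open SDiv

namespace Groth.Agent.S8878

/-- If π : X ⟶ Y is finite locally free and of rank d ≥ 1 at every point of Y, then π carries a norm of
degree d. The published statement also says the norm is canonical and compatible with every base
change; this row asserts only that a norm of degree d exists. -/
theorem result {X Y : Scheme.{u}} (π : X ⟶ Y) (d : ℕ) (hd : 1 ≤ d) (hπ : Mor2.IsFinLocFreeOfDeg d π) :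
    Nrm.HasNorm π d := by
  obtain ⟨⟨h1, h2, h3⟩, h4⟩ := hπ
  haveI := h1
  haveI := h2
  haveI := h3
  exact Groth.Agent.Helper28.NormCover.hasNorm π d hd h4

end Groth.Agent.S8878
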