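import Groth.Statements.S8880
import Groth.Agent.Lib.Helper13.SemiLocal2

set_option autoImplicit false
universe u
open CategoryTheory CategoryTheory.Limits AlgebraicGeometry TopologicalSpace
open SDiv

namespace Groth.Agent.S8880

theorem surj {X Y : Scheme.{u}} (π : X ⟶ Y) [IsFinite π] (d : ℕ) (N : Nrm.NormOfDegree π d) :
    Function.Surjective π := by
  intro y
  by_contra hy
  have hcl : IsClosed (Set.range π) := π.isClosedMap.isClosed_range
  let U : Y.Opens := ⟨(Set.range π)ᶜ, hcl.isOpen_compl⟩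
  have hyU : y ∈ U := fun ⟨x, hx⟩ => hy ⟨x, hx⟩
  have hpre : π ⁻¹ᵁ U = ⊥ := by
    ext x
    simp only [Opens.coe_bot, Set.mem_empty_iff_false, iff_false]
    intro hx
    exact hx ⟨x, rfl⟩
  have hsub : Subsingleton Γ(X, π ⁻¹ᵁ U) := by
    rw [hpre]
    infer_instance
  have h1 : N.norm U (π.app U 0) = 0 := by
    rw [N.norm_app, zero_pow (Nat.one_le_iff_ne_zero.1 N.one_le)]
  have h2 : π.app U 0 = 1 := Subsingleton.elim _ _
  rw [h2, map_one] at h1
  have h3 := congrArg (Y.presheaf.germ U y hyU) h1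
  rw [map_one, map_zero] at h3
  exact one_ne_zero h3

/-- Let π : X ⟶ Y be a finite morphism of schemes such that a norm of degree d exists for π, and assume
X is quasi-affine. Then Y is quasi-affine. -/
theorem result {X Y : Scheme.{u}} (π : X ⟶ Y) [IsFinite π] (d : ℕ) (hN : Nrm.HasNorm π d)
    (hX : X.IsQuasiAffine) : Y.IsQuasiAffine := by
  obtain ⟨N⟩ := hN
  have hsurj := surj π d N
  haveI : CompactSpace Y := by
    constructor
    rw [← Set.range_eq_univ.2 hsurj]
    exact isCompact_range π.continuous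
  refine Scheme.IsQuasiAffine.of_forall_exists_mem_basicOpen Y (fun y => ?_)
  obtain ⟨_, ⟨V, hV, rfl⟩, hyV, -⟩ :=
    Y.isBasis_affineOpens.exists_subset_of_mem_open (Set.mem_univ y) isOpen_univ
  have hV' : IsAffineOpen V := hV
  classical
  have hfin : (π ⁻¹' {y}).Finite := Scheme.Hom.finite_preimage_singleton π y
  obtain ⟨f, hf1, hf2, -⟩ := Groth.Agent.Helper13.SemiLocal.exists_affine_basicOpen_finite
    (π ⁻¹ᵁ V) hfin.toFinset (fun x hx => by
      have : π x = y := by simpa using hx
      change π x ∈ V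
      rw [this]; exact hyV)
  let f' : Γ(X, π ⁻¹ᵁ ⊤) := f
  let r : Γ(Y, ⊤) := N.norm ⊤ f'
  have hA : Y.basicOpen r ≤ V := by
    intro y' hy'
    obtain ⟨x', rfl⟩ := hsurj y'
    have hx' : x' ∈ X.basicOpen f := by
      by_contra hcon
      rw [Scheme.mem_basicOpen_top] at hcon
      have hm := N.norm_mem ⊤ f' x' trivial hcon
      rw [Scheme.mem_basicOpen_top] at hy'
      exact hm hy'
    exact hf2 hx'
  have hB : y ∈ Y.basicOpen r := by
    have hcl : IsClosed (π '' ((X.basicOpen f : Set X)ᶜ)) :=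
      π.isClosedMap _ (X.basicOpen f).2.isClosed_compl
    let U₁ : Y.Opens := ⟨(π '' ((X.basicOpen f : Set X)ᶜ))ᶜ, hcl.isOpen_compl⟩
    have hyU₁ : y ∈ U₁ := by
      rintro ⟨x, hx, hxy⟩
      exact hx (hf1 x (by simpa using hxy))
    have hle : π ⁻¹ᵁ U₁ ≤ X.basicOpen f := by
      intro x hx
      by_contra hcon
      exact hx ⟨x, hcon, rfl⟩
    let i : U₁ ⟶ (⊤ : Y.Opens) := homOfLE le_top
    have hunit : IsUnit (X.presheaf.map ((Opens.map π.base).map i).op f') := by
      apply RingedSpace.isUnit_of_isUnit_germ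
      intro x hx
      have h1 := hle hx
      rw [Scheme.mem_basicOpen_top] at h1
      have := TopCat.Presheaf.germ_res_apply X.presheaf ((Opens.map π.base).map i) x hx f'
      erw [this]
      exact h1
    have h2 : IsUnit (N.norm U₁ (X.presheaf.map ((Opens.map π.base).map i).op f')) :=
      hunit.map (N.norm U₁)
    rw [← N.norm_res i f'] at h2
    have h3 : y ∈ Y.basicOpen (Y.presheaf.map i.op r) := by
      rw [Scheme.mem_basicOpen _ _ y hyU₁]
      exact h2.map _
    rw [Scheme.basicOpen_res] at h3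
    exact h3.2
  refine ⟨r, ?_, hB⟩
  have h4 := hV'.basicOpen (Y.presheaf.map (homOfLE (le_top : V ≤ ⊤)).op r)
  rw [Scheme.basicOpen_res, inf_eq_right.2 hA] at h4
  exact h4

end Groth.Agent.S8880
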