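import Groth.Statements.S8886
import Mathlib.AlgebraicGeometry.Morphisms.UniversallyOpen
import Mathlib.RingTheory.LocalProperties.Reduced

set_option autoImplicit false
universe u
open CategoryTheory CategoryTheory.Limits AlgebraicGeometry TopologicalSpace
open SDiv

namespace Groth.Agent.S8886

theorem irr {X Y : Scheme.{u}} (f : X ⟶ Y) [Flat f] [IsIntegral Y]
    (h : IsIntegral (f.fiber (genericPoint ↥Y))) : IrreducibleSpace X := by
  rw [irreducibleSpace_def]
  have hZ : IsIrreducible (Set.range (f.fiberι (genericPoint Y))) := by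
    rw [← Set.image_univ]
    exact (IrreducibleSpace.isIrreducible_univ _).image _
      (f.fiberι (genericPoint Y)).continuous.continuousOn
  have hdense : closure (Set.range (f.fiberι (genericPoint Y))) = Set.univ := by
    rw [Set.eq_univ_iff_forall]
    intro x
    obtain ⟨x', hx', hfx'⟩ := Flat.generalizingMap f (genericPoint_specializes (f x))
    have : x' ∈ Set.range (f.fiberι (genericPoint Y)) := by
      rw [Scheme.Hom.range_fiberι]; exact hfx'
    exact closure_mono (Set.singleton_subset_iff.2 this) hx'.mem_closure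
  have := hZ.closure
  rw [hdense] at this
  exact this


open TensorProduct in
/-- algebra: injectivity of `inl` into a pushout along an injective map from a flat map -/
lemma inl_injective_of_isPushout {A B K C : CommRingCat.{u}} (φ : A ⟶ B) (ψ : A ⟶ K) (i : B ⟶ C) (j : K ⟶ C)
    (hP : IsPushout φ ψ i j) (hφ : φ.hom.Flat) (hψ : Function.Injective ψ.hom) :
    Function.Injective i.hom := by
  algebraize [φ.hom, ψ.hom]
  have h1 := CommRingCat.isPushout_tensorProduct A B K
  have e1 : CommRingCat.ofHom (algebraMap A B) = φ := rfl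
  have e2 : CommRingCat.ofHom (algebraMap A K) = ψ := rfl
  rw [e1, e2] at h1
  have h2 : i = CommRingCat.ofHom (S := B ⊗[A] K) Algebra.TensorProduct.includeLeftRingHom ≫
      (h1.isoIsPushout _ _ hP).hom := (h1.inl_isoIsPushout_hom _ _ hP).symm
  rw [h2]
  have h3 : Function.Injective (Algebra.TensorProduct.includeLeftRingHom : B →+* B ⊗[A] K) :=
    Algebra.TensorProduct.includeLeft_injective (S := A) (R := A) (A := B) (B := K) hψ
  have h4 : Function.Injective (h1.isoIsPushout _ _ hP).hom.hom :=
    (ConcreteCategory.bijective_of_isIso (h1.isoIsPushout _ _ hP).hom).1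
  exact h4.comp h3


theorem red_sections {X Y : Scheme.{u}} (f : X ⟶ Y) [Flat f] [IsIntegral Y]
    (h : IsIntegral (f.fiber (genericPoint ↥Y))) (V : Y.Opens) (hV : IsAffineOpen V)
    (hVne : (V : Set Y).Nonempty)
    (U : X.Opens) (hU : IsAffineOpen U) (hUV : U ≤ f ⁻¹ᵁ V) : _root_.IsReduced Γ(X, U) := by
  set η := genericPoint Y with hη
  have hηV : η ∈ V := by
    have := ((genericPoint_spec Y).mem_open_set_iff V.2).2
    apply this
    simpa using hVne
  let g := Y.fromSpecResidueField η
  have hUST : (⊤ : (Spec (Y.residueField η)).Opens) ≤ g ⁻¹ᵁ V := by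
    intro s _
    change g s ∈ V
    rw [Scheme.fromSpecResidueField_apply]
    exact hηV
  have H : IsPullback (f.fiberι η) (f.fiberToSpecResidueField η) f g := IsPullback.of_hasPullback _ _
  have hiso := isIso_pushoutSection_of_isAffineOpen H hUST hUV rfl hV (isAffineOpen_top _) hU
  have hpo := (isIso_pushoutSection_iff H hUST hUV rfl).1 hiso
  -- injectivity of ψ
  have hψ : Function.Injective (g.appLE V ⊤ hUST).hom := by
    rw [injective_iff_map_eq_zero]
    intro a ha
    have h1 := Scheme.basicOpen_appLE g ⊤ V hUST a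
    have ha' : (g.appLE V ⊤ hUST) a = 0 := ha
    rw [ha', Scheme.basicOpen_zero, top_inf_eq] at h1
    have h2 : η ∉ Y.basicOpen a := by
      intro hmem
      have hne : Nonempty (Spec (Y.residueField η)) := inferInstance
      obtain ⟨s⟩ := hne
      have : s ∈ g ⁻¹ᵁ Y.basicOpen a := by
        change g s ∈ Y.basicOpen a
        rw [Scheme.fromSpecResidueField_apply]
        exact hmem
      rw [← h1] at this
      exact this
    have h3 : Y.basicOpen a = ⊥ := by
      by_contra hne
      apply h2
      apply ((genericPoint_spec Y).mem_open_set_iff (Y.basicOpen a).2).2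
      rw [Set.univ_inter]
      exact (Opens.ne_bot_iff_nonempty _).1 hne
    exact (basicOpen_eq_bot_iff a).1 h3
  have hflat : (f.appLE V U hUV).hom.Flat :=
    HasRingHomProperty.appLE (P := @Flat) f inferInstance ⟨V, hV⟩ ⟨U, hU⟩ hUV
  have hinj := inl_injective_of_isPushout _ _ _ _ hpo hflat hψ
  exact isReduced_of_injective _ hinj

/-- Let f : X ⟶ Y be a flat morphism of schemes with Y integral. If the scheme-theoretic fibre of f over
the generic point of Y is integral, then X is integral. -/
theorem result {X Y : Scheme.{u}} (f : X ⟶ Y) [Flat f] [IsIntegral Y]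
    (h : IsIntegral (f.fiber (genericPoint ↥Y))) : IsIntegral X := by
  have hirr : IrreducibleSpace X := irr f h
  have hstalk : ∀ x : X, _root_.IsReduced (X.presheaf.stalk x) := by
    intro x
    obtain ⟨_, ⟨V, hV, rfl⟩, hxV, -⟩ :=
      Y.isBasis_affineOpens.exists_subset_of_mem_open (Set.mem_univ (f x)) isOpen_univ
    obtain ⟨_, ⟨U, hU, rfl⟩, hxU, hUV⟩ :=
      X.isBasis_affineOpens.exists_subset_of_mem_open (show x ∈ (f ⁻¹ᵁ V : Set X) from hxV)
        (f ⁻¹ᵁ V).2
    have hred : _root_.IsReduced Γ(X, U) := red_sections f h V hV ⟨f x, hxV⟩ U hU hUV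
    let _ := TopCat.Presheaf.algebra_section_stalk X.presheaf ⟨x, hxU⟩
    have hloc : IsLocalization.AtPrime (X.presheaf.stalk x) (hU.primeIdealOf ⟨x, hxU⟩).asIdeal :=
      hU.isLocalization_stalk ⟨x, hxU⟩
    exact isReduced_localizationPreserves (hU.primeIdealOf ⟨x, hxU⟩).asIdeal.primeCompl
      (X.presheaf.stalk x) hred
  have hred : IsReduced X := isReduced_of_isReduced_stalk X
  exact isIntegral_of_irreducibleSpace_of_isReduced X

end Groth.Agent.S8886
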