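import Groth.Statements.S8887
import Groth.Agent.Lib.Helper13.StalkBasis2
import Groth.Agent.Lib.Helper13.LocFree2
import Groth.Agent.Lib.Helper13.IntInv

set_option autoImplicit false
universe u
open CategoryTheory CategoryTheory.Limits AlgebraicGeometry TopologicalSpace
open SDiv

namespace Groth.Agent.S8887

open Groth.Agent.Helper13.QCoh Groth.Agent.Helper13.FinType Groth.Agent.Helper13.LocFree
open Groth.Agent.Helper13.StalkBasis

/-- Let X be an integral scheme and F a quasi-coherent O_X-module of finite type, of rank r (r being the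
finite dimension of the generic stalk of F as a vector space over the function field of X). Then one
can find an open subset U of X, not empty, on which the restriction of F is isomorphic to the free
module of rank r. -/
theorem result (X : Scheme.{u}) [IsIntegral X] (F : X.Modules) (hF : Coh.IsQCoh F)
    (hft : CohB1.IsFT F) :
    ∃ U : X.Opens, (U : Set ↥X).Nonempty ∧
      Nonempty (F.restrict U.ι ≅ FlatMod.freeMod (↑U)
        (Module.finrank ↑(X.presheaf.stalk (genericPoint ↥X)) ↑(F.presheaf.stalk (genericPoint ↥X)))) := by
  haveI : F.IsQuasicoherent := hF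
  haveI : SheafOfModules.IsFiniteType (R := X.ringCatSheaf) F := hft
  letI : Field (X.presheaf.stalk (genericPoint X)) := inferInstanceAs (Field X.functionField)
  haveI : Module.Finite (X.presheaf.stalk (genericPoint X)) (F.presheaf.stalk (genericPoint X)) :=
    finite_stalk_of_isFiniteType F (genericPoint X)
  haveI : Module.Free (X.presheaf.stalk (genericPoint X)) (F.presheaf.stalk (genericPoint X)) :=
    Module.Free.of_divisionRing _ _
  let b := Module.finBasis (X.presheaf.stalk (genericPoint X)) (F.presheaf.stalk (genericPoint X))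
  obtain ⟨V, hηV, t, ht⟩ := exists_common_germ F (genericPoint X) b
  have hspan : Submodule.span (X.presheaf.stalk (genericPoint X))
      (Set.range fun i => F.presheaf.germ V (genericPoint X) hηV (t i)) = ⊤ := by
    have : (fun i => F.presheaf.germ V (genericPoint X) hηV (t i)) = b := funext ht
    rw [this]
    exact b.span_eq
  obtain ⟨U, hUV, hηU, hgen⟩ := exists_genOn_nhd F t (genericPoint X) hηV hspan
  refine ⟨U, ⟨genericPoint X, hηU⟩, ?_⟩
  apply nonempty_restrict_iso_freeMod F (resFam F t hUV)
  intro y hy
  have hker : ∀ c : Fin _ → X.presheaf.stalk y, comb F (resFam F t hUV) y hy c = 0 → c = 0 := by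
    intro c hc
    obtain ⟨W, hyW, γ, hγ⟩ := exists_common_germ_ring y c
    let W' : X.Opens := W ⊓ U
    have hyW' : y ∈ W' := ⟨hyW, hy⟩
    let σ : Γ(F, W') := ∑ i, X.presheaf.map (homOfLE (inf_le_left : W' ≤ W)).op (γ i) •
      resFam F t ((inf_le_right : W' ≤ U).trans hUV) i
    have hgerm : F.presheaf.germ W' y hyW' σ = F.presheaf.germ W' y hyW' 0 := by
      rw [map_zero, ← hc, map_sum]
      unfold comb
      refine Finset.sum_congr rfl (fun i _ => ?_)
      rw [germ_smul, TopCat.Presheaf.germ_res_apply, TopCat.Presheaf.germ_res_apply, hγ,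
        TopCat.Presheaf.germ_res_apply]
    obtain ⟨W'', hyW'', i₁, i₂, heq⟩ := TopCat.Presheaf.germ_eq F.presheaf y hyW' hyW' _ _ hgerm
    have hηW'' : genericPoint X ∈ W'' := Groth.Agent.Helper13.IntInv.genericPoint_mem W'' y hyW''
    have h0 : F.presheaf.germ W'' (genericPoint X) hηW'' (F.presheaf.map i₁.op σ) = 0 := by
      rw [heq, map_zero, map_zero]
    rw [TopCat.Presheaf.germ_res_apply, map_sum] at h0
    have h1 : ∑ i, X.presheaf.germ W (genericPoint X) ((inf_le_left : W' ≤ W) (i₁.le hηW'')) (γ i) • b i = 0 := by
      rw [← h0]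
      refine Finset.sum_congr rfl (fun i _ => ?_)
      rw [germ_smul, TopCat.Presheaf.germ_res_apply, TopCat.Presheaf.germ_res_apply, ht]
    have h2 := Fintype.linearIndependent_iff.1 b.linearIndependent _ h1
    funext i
    rw [← hγ i]
    have h3 : X.presheaf.map (homOfLE (i₁.le.trans inf_le_left : W'' ≤ W)).op (γ i) = 0 := by
      apply germ_injective_of_isIntegral X (genericPoint X) hηW''
      rw [TopCat.Presheaf.germ_res_apply, map_zero]
      exact h2 i
    rw [← TopCat.Presheaf.germ_res_apply X.presheaf (homOfLE (i₁.le.trans inf_le_left : W'' ≤ W))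
      y hyW'' (γ i), h3, map_zero]
    rfl
  constructor
  · intro c d hcd
    have : comb F (resFam F t hUV) y hy (c - d) = 0 := by
      have h := comb_add F (resFam F t hUV) y hy (c - d) d
      rw [sub_add_cancel, hcd] at h
      exact (add_eq_right.1 h.symm)
    exact sub_eq_zero.1 (hker _ this)
  · intro m
    have hm : m ∈ Submodule.span (X.presheaf.stalk y)
        (Set.range fun i => F.presheaf.germ U y hy (resFam F t hUV i)) := by
      rw [hgen y hy]; trivial
    obtain ⟨c, hc⟩ := (Submodule.mem_span_range_iff_exists_fun _).1 hm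
    exact ⟨c, hc⟩

end Groth.Agent.S8887
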