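import Groth.Statements.S8889
import Groth.Agent.Lib.Helper13.QCohWeakAss

set_option autoImplicit false
universe u
open CategoryTheory CategoryTheory.Limits AlgebraicGeometry TopologicalSpace
open SDiv

namespace Groth.Agent.S8889

open Groth.Agent.Helper13.QCoh

/-- Let X be a scheme and φ : F ⟶ G a morphism of quasi-coherent O_X-modules. Assume that for every
point x of X either the stalk map F_x → G_x is injective or x is not a weakly associated point of F.
Then φ is injective. -/
theorem result (X : Scheme.{u}) {F G : X.Modules} (φ : F ⟶ G) (hF : Coh.IsQCoh F)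
    (hG : Coh.IsQCoh G)
    (h : ∀ x : ↥X, Function.Injective ((TopCat.Presheaf.stalkFunctor AddCommGrpCat.{u} x).map (Scheme.Modules.Hom.mapPresheaf φ)) ∨ ¬ Curv2.IsWeakAssPoint F x) :
    Mono φ := by
  have : F.IsQuasicoherent := hF
  have : G.IsQuasicoherent := hG
  rw [mono_iff_stalk_injective]
  intro x
  change Function.Injective (stalkMap φ x).hom
  rw [injective_iff_map_eq_zero]
  intro m hm
  by_contra hm0
  obtain ⟨_, ⟨U, hU, rfl⟩, hxU, -⟩ :=
    X.isBasis_affineOpens.exists_subset_of_mem_open (Set.mem_univ x) isOpen_univ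
  have hU' : IsAffineOpen U := hU
  obtain ⟨g, hxg, t, hgt⟩ := exists_germ_smul_eq F hU' x hxU m
  have hunit : ∀ (g : Γ(X, U)) (hxg : x ∈ X.basicOpen g) (n : F.presheaf.stalk x),
      X.presheaf.germ U x hxU g • n = 0 → n = 0 := by
    intro g hxg n hn
    have hu : IsUnit (X.presheaf.germ U x hxU g) := (X.mem_basicOpen g x hxU).1 hxg
    obtain ⟨u, hu⟩ := hu
    have : (u⁻¹ : (X.presheaf.stalk x)ˣ) • (X.presheaf.germ U x hxU g • n) = 0 := by
      rw [hn, smul_zero]
    rwa [← hu, Units.smul_def, smul_smul, Units.inv_mul, one_smul] at this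
  have hgerm_t : F.presheaf.germ U x hxU t ≠ 0 := by
    intro h0
    rw [h0] at hgt
    exact hm0 (hunit g hxg m hgt)
  -- φ(t) has zero germ at x
  have h1 : G.presheaf.germ U x hxU (φ.app U t) = 0 := by
    rw [← stalkMap_germ, ← hgt, stalkMap_smul]
    have : (stalkMap φ x) m = 0 := hm
    rw [this, smul_zero]
  obtain ⟨g', hxg', hg't⟩ := exists_smul_eq_zero_of_germ_eq_zero G hU' x hxU _ h1
  -- t' = g' • t is killed by φ and has nonzero germ at x
  have ht' : g' • t ≠ 0 := by
    intro h0
    have := congrArg (F.presheaf.germ U x hxU) h0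
    rw [germ_smul, map_zero] at this
    exact hgerm_t (hunit g' hxg' _ this)
  have hφt' : φ.app U (g' • t) = 0 := by
    rw [Scheme.Modules.Hom.app_smul]; exact hg't
  obtain ⟨y, hy, hyne, hrad⟩ := exists_weakAss_of_section_ne_zero F hU' (g' • t) ht'
  rcases h y with hinj | hnw
  · apply hyne
    have hinj' : Function.Injective (stalkMap φ y).hom := hinj
    apply hinj'
    rw [map_zero]
    have := stalkMap_germ φ y U hy (g' • t)
    rw [hφt', map_zero] at this
    exact this
  · exact hnw ⟨_, hrad⟩

end Groth.Agent.S8889
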