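import Groth.Statements.S8894
import Mathlib
import Groth.Agent.Lib.Helper2.RegNbhd5
import Groth.Agent.Lib.Helper28.RegBC10
import Groth.Agent.Lib.Helper26.BCQR3
import Groth.Agent.S5803
-- import your own Groth.Agent.* helpers here

set_option autoImplicit false
universe u
open CategoryTheory CategoryTheory.Limits AlgebraicGeometry TopologicalSpace
open SDiv

namespace Groth.Agent.S8894

section

open RingTheory.Sequence Groth.Agent.Helper28 Groth.Agent.Helper28.RegBC IsLocalRing
  Groth.Agent.Helper16.FibStalk Groth.Agent.Helper2.RegNbhd TensorProduct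

variable {Z X S : Scheme.{u}}

/-- stalk level: a relative quasi-regular immersion is fibrewise regular. -/
theorem exists_fibre_seq_quasi (f : X ⟶ S) [LocallyOfFiniteType f] (i : Z ⟶ X)
    (hflat : Flat (i ≫ f)) (z : Z) (hq : RegImm.IsRegularImmersionAt .quasi i z) :
    ∃ rs : List (X.presheaf.stalk (i z) ⧸ fibIdeal f (i z)),
      IsWeaklyRegular (X.presheaf.stalk (i z) ⧸ fibIdeal f (i z)) rs ∧
      Ideal.ofList rs =
        (RingHom.ker (i.stalkMap z).hom).map (Ideal.Quotient.mk (fibIdeal f (i z))) := by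
  haveI := isNoetherianRing_fibre f (i z)
  obtain ⟨rsL, hrsL, hker⟩ := exists_kind_stalk i RegImm.Kind.quasi z hq
  have hqL : CAlgX.IsQuasiRegular rsL.get := hrsL
  have hsurj : Function.Surjective (i.stalkMap z).hom := by
    obtain ⟨U, hzU, hcl, -⟩ := hq
    haveI := hcl
    have hV : IsAffineOpen (i ⁻¹ᵁ U.1) := RegImmStalk.isAffineOpen_preimage i U.1 U.2
    have hs : Function.Surjective (i.app U.1).hom := RegImmStalk.app_surjective i U.1 U.2
    intro b
    have hzV : z ∈ i ⁻¹ᵁ U.1 := hzU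
    letI := Z.presheaf.algebra_section_stalk (U := i ⁻¹ᵁ U.1) ⟨z, hzV⟩
    haveI hloc := hV.isLocalization_stalk ⟨z, hzV⟩
    obtain ⟨a, s, rfl⟩ := IsLocalization.exists_mk'_eq
      (hV.primeIdealOf ⟨z, hzV⟩).asIdeal.primeCompl b
    obtain ⟨a', rfl⟩ := hs a
    obtain ⟨s', hs'⟩ := hs s.1
    have h1 : (i.stalkMap z).hom ((X.presheaf.germ U.1 (i z) hzU).hom s') =
        algebraMap Γ(Z, i ⁻¹ᵁ U.1) (Z.presheaf.stalk z) s.1 := by
      rw [← hs']
      exact Scheme.Hom.germ_stalkMap_apply i U.1 z hzU s'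
    have hu : IsUnit ((X.presheaf.germ U.1 (i z) hzU).hom s') := by
      have h2 : IsUnit ((i.stalkMap z).hom ((X.presheaf.germ U.1 (i z) hzU).hom s')) := by
        rw [h1]
        exact IsLocalization.map_units _ s
      exact (isUnit_map_iff (i.stalkMap z).hom _).mp h2
    refine ⟨(X.presheaf.germ U.1 (i z) hzU).hom a' * ↑hu.unit⁻¹, ?_⟩
    rw [map_mul, IsLocalization.eq_mk'_iff_mul_eq, mul_assoc, ← h1, ← map_mul,
      IsUnit.val_inv_mul, map_one, mul_one]
    exact Scheme.Hom.germ_stalkMap_apply i U.1 z hzU a'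
  have hfl0 : ((i ≫ f).stalkMap z).hom.Flat := ((Flat.iff_flat_stalkMap (i ≫ f)).1 hflat) z
  rw [Scheme.Hom.stalkMap_comp] at hfl0
  letI : Algebra (S.presheaf.stalk (f (i z))) (X.presheaf.stalk (i z)) :=
    (f.stalkMap (i z)).hom.toAlgebra
  have hspan : Ideal.ofList rsL = Ideal.span (Set.range rsL.get) := by
    unfold Ideal.ofList; rw [Set.range_list_get]
  haveI hflq : Module.Flat (S.presheaf.stalk (f (i z)))
      (X.presheaf.stalk (i z) ⧸ Ideal.span (Set.range rsL.get)) := by
    rw [← hspan]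
    exact flat_quot_of_surjective (i.stalkMap z).hom hsurj _ hker hfl0
  have hq' := Groth.Agent.Helper26.BCQR.main (A := S.presheaf.stalk (f (i z)))
    (B := X.presheaf.stalk (i z)) rsL.get
    (S.presheaf.stalk (f (i z)) ⧸ maximalIdeal (S.presheaf.stalk (f (i z)))) hflq hqL
  let e := Algebra.TensorProduct.quotIdealMapEquivQuotTensor (X.presheaf.stalk (i z))
    (maximalIdeal (S.presheaf.stalk (f (i z))))
  have hq'' := qr_of_ringEquiv e.symm.toRingEquiv _ hq'
  have hfun : (fun j => e.symm.toRingEquiv (Groth.Agent.Helper26.BCQR.f' rsL.get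
      (S.presheaf.stalk (f (i z)) ⧸ maximalIdeal (S.presheaf.stalk (f (i z)))) j)) =
      fun j => Ideal.Quotient.mk (fibIdeal f (i z)) (rsL.get j) := by
    funext j
    have h1 : e (Ideal.Quotient.mk _ (rsL.get j)) = Groth.Agent.Helper26.BCQR.f' rsL.get
      (S.presheaf.stalk (f (i z)) ⧸ maximalIdeal (S.presheaf.stalk (f (i z)))) j := rfl
    rw [← h1]
    exact e.symm_apply_apply _
  rw [hfun] at hq''
  haveI : IsLocalRing (X.presheaf.stalk (i z) ⧸ fibIdeal f (i z)) :=
    IsLocalRing.of_surjective' (Ideal.Quotient.mk _) Ideal.Quotient.mk_surjective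
  have hjac : ∀ j, Ideal.Quotient.mk (fibIdeal f (i z)) (rsL.get j) ∈
      Ring.jacobson (X.presheaf.stalk (i z) ⧸ fibIdeal f (i z)) := by
    intro j
    rw [IsLocalRing.ringJacobson_eq_maximalIdeal, mem_maximalIdeal, mem_nonunits_iff]
    intro hu
    have h1 : IsUnit (rsL.get j) := (isUnit_map_iff (Ideal.Quotient.mk (fibIdeal f (i z))) _).mp hu
    have h2 : rsL.get j ∈ RingHom.ker (i.stalkMap z).hom := by
      rw [hker]
      exact Ideal.subset_span (List.get_mem rsL j)
    have h3 := h1.map (i.stalkMap z).hom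
    rw [RingHom.mem_ker.mp h2] at h3
    exact not_isUnit_zero h3
  have h3 := Groth.Agent.S5803.result (X.presheaf.stalk (i z) ⧸ fibIdeal f (i z)) rsL.length _
    hjac hq''
  have h4 : List.ofFn (fun j => Ideal.Quotient.mk (fibIdeal f (i z)) (rsL.get j)) =
      rsL.map (Ideal.Quotient.mk (fibIdeal f (i z))) := by
    have : (fun j => Ideal.Quotient.mk (fibIdeal f (i z)) (rsL.get j)) =
        (Ideal.Quotient.mk (fibIdeal f (i z))) ∘ rsL.get := rfl
    rw [this, ← List.map_ofFn, List.ofFn_get]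
  rw [h4] at h3
  refine ⟨_, h3, ?_⟩
  rw [← Ideal.map_ofList, hker]

theorem ofList_fg {A : Type*} [CommRing A] (rs : List A) : (Ideal.ofList rs).FG :=
  Submodule.fg_span (List.finite_toSet rs)

/-- transversally regular presentation at each point of a relative quasi-regular immersion. -/
theorem key (f : X ⟶ S) [Flat f] [LocallyOfFinitePresentation f]
    (i : Z ⟶ X) (hi : RegImm.IsRelRegularImmersion RegImm.Kind.quasi f i) (z : Z) :
    ∃ (U : X.Opens) (hU : IsAffineOpen U) (V : S.Opens) (hV : IsAffineOpen V)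
      (hUV : U ≤ f ⁻¹ᵁ V), i z ∈ U ∧ IsClosedImmersion (i ∣_ U) ∧ ∃ as : List Γ(X, U),
        (letI := (f.appLE V U hUV).hom.toAlgebra
         RegImm.IsTransRegularSeq Γ(S, V) Γ(X, U) as) ∧
        RingHom.ker (i.app U).hom = Ideal.ofList as := by
  obtain ⟨⟨himm, hreg⟩, hflat⟩ := hi
  haveI := hflat
  obtain ⟨rs, hrs, hgen⟩ := exists_fibre_seq_quasi f i hflat z (hreg z)
  obtain ⟨U₀, hzU₀, hcl₀, rs₀, -, hker₀⟩ := hreg z
  haveI := hcl₀
  have hfg : (RingHom.ker (i.app U₀.1).hom).FG := hker₀ ▸ ofList_fg rs₀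
  obtain ⟨U, hU, V, hV, hUV, hzU, -, hcl, as, has, hker⟩ :=
    exists_trans_presentation f i z U₀.1 U₀.2 hzU₀ hfg rs hrs hgen
  exact ⟨U, hU, V, hV, hUV, hzU, hcl, as, has, hker⟩

theorem main {Z X S : Scheme.{u}} (f : X ⟶ S) [Flat f] [LocallyOfFinitePresentation f]
    (i : Z ⟶ X) (hi : RegImm.IsRelRegularImmersion RegImm.Kind.quasi f i) :
    RegImm.IsRegularImmersion RegImm.Kind.regular i ∧
      ∀ (S' : Scheme.{u}) (g : S' ⟶ S), RegImm.IsRegularImmersion RegImm.Kind.regular
        (pullback.snd i (pullback.fst f g)) := by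
  have himm : IsImmersion i := hi.1.1
  refine ⟨⟨himm, fun z => ?_⟩, fun S' g => ⟨?_, fun z' => ?_⟩⟩
  · obtain ⟨U, hU, V, hV, hUV, hzU, hcl, as, has, hker⟩ := key f i hi z
    haveI := hcl
    exact regAt_of_trans_baseChange f i (𝟙 S) (𝟙 X) f (IsPullback.id_horiz f) (𝟙 Z) i
      (IsPullback.id_horiz i) U hU V hV hUV as has hker z hzU
  · exact MorphismProperty.of_isPullback (IsPullback.of_hasPullback i (pullback.fst f g)) himm
  · obtain ⟨U, hU, V, hV, hUV, hzU, hcl, as, has, hker⟩ :=
      key f i hi (pullback.fst i (pullback.fst f g) z')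
    haveI := hcl
    have hcond : i (pullback.fst i (pullback.fst f g) z') =
        pullback.fst f g (pullback.snd i (pullback.fst f g) z') := by
      have := congrArg (fun t : pullback i (pullback.fst f g) ⟶ X => t z')
        (pullback.condition (f := i) (g := pullback.fst f g))
      simpa using this
    exact regAt_of_trans_baseChange f i g (pullback.fst f g) (pullback.snd f g)
      (IsPullback.of_hasPullback f g) (pullback.fst i (pullback.fst f g))
      (pullback.snd i (pullback.fst f g)) (IsPullback.of_hasPullback i (pullback.fst f g))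
      U hU V hV hUV as has hker z' (hcond ▸ hzU)

end

/-- Let f : X ⟶ S be flat and locally of finite presentation and i : Z ⟶ X a relative quasi-regular
immersion (quasi-regular immersion with Z flat over S). Then i is a regular immersion, and for every
g : S' ⟶ S the base change of i to X ×_S S' is a regular immersion. -/
theorem result {Z X S : Scheme.{u}} (f : X ⟶ S) [Flat f] [LocallyOfFinitePresentation f]
    (i : Z ⟶ X) (hi : RegImm.IsRelRegularImmersion RegImm.Kind.quasi f i) :
    RegImm.IsRegularImmersion RegImm.Kind.regular i ∧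
      ∀ (S' : Scheme.{u}) (g : S' ⟶ S), RegImm.IsRegularImmersion RegImm.Kind.regular (pullback.snd i (pullback.fst f g)) := by
  exact Groth.Agent.S8894.main f i hi

end Groth.Agent.S8894
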