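import Groth.Statements.S8897
import Mathlib
import Groth.Agent.Lib.Helper2.RetPair4
import Groth.Agent.S9849
-- import your own Groth.Agent.* helpers here

set_option autoImplicit false
universe u
open CategoryTheory CategoryTheory.Limits AlgebraicGeometry TopologicalSpace
open SDiv

namespace Groth.Agent.S8897

section

open CategoryTheory CategoryTheory.Limits AlgebraicGeometry TopologicalSpace
open Groth.Agent.Helper2.RetPair Groth.Agent.Helper2.KindDesc Groth.Agent.Helper2.KindDescOpen
  Groth.Agent.S9849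

theorem main' {Y X S : Scheme.{u}} (p : X ⟶ S) [Smooth p] (i : Y ⟶ X)
    [IsImmersion i] [IsImmersion (i ≫ p)] (k : RegImm.Kind) (hk : k ≠ RegImm.Kind.regular)
    (hi : RegImm.IsRegularImmersion k i) : RegImm.IsRegularImmersion k (i ≫ p) := by
  refine ⟨inferInstance, fun x => ?_⟩
  obtain ⟨V₂, V'₂, hV₂, hV'₂, hx₂, hx'₂, hcl₂, hcl'₂, himp⟩ := pair_at_down k hk i p x
  haveI := hcl₂
  haveI := hcl'₂
  exact regAt_of_lock k hk (i ≫ p) V₂ hV₂ (himp (lock_ker k hk i hi V'₂ hV'₂)) x hx₂

theorem main {Y X S : Scheme.{u}} (p : X ⟶ S) [Smooth p] (i : Y ⟶ X) (j : Y ⟶ S)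
    [IsImmersion i] [IsImmersion j] (h : i ≫ p = j) (k : RegImm.Kind) (hk : k ≠ RegImm.Kind.regular)
    (hi : RegImm.IsRegularImmersion k i) : RegImm.IsRegularImmersion k j := by
  subst h
  exact main' p i k hk hi

end

/-- Let p : X ⟶ S be smooth and let i : Y ⟶ X and j : Y ⟶ S be immersions with i ≫ p = j. If i is a
Koszul-regular (resp. H_1-regular, resp. quasi-regular) immersion, then so is j. -/
theorem result {Y X S : Scheme.{u}} (p : X ⟶ S) [Smooth p] (i : Y ⟶ X) (j : Y ⟶ S)
    [IsImmersion i] [IsImmersion j] (h : i ≫ p = j) (k : RegImm.Kind) (hk : k ≠ RegImm.Kind.regular)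
    (hi : RegImm.IsRegularImmersion k i) : RegImm.IsRegularImmersion k j := by
  exact Groth.Agent.S8897.main p i j h k hk hi

end Groth.Agent.S8897
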