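import Groth.Statements.S8898
import Groth.Agent.Lib.Helper13.EffCartier

set_option autoImplicit false
universe u
open CategoryTheory CategoryTheory.Limits AlgebraicGeometry TopologicalSpace
open SDiv

namespace Groth.Agent.S8898

open Groth.Agent.Helper13.EffCartier Groth.Agent.Helper13.IdealComap

/-- on a chart of the exceptional ideal, the pullback of a regular section is a nonzerodivisor -/
lemma appLE_mem_nonZeroDivisors_of_regSub {X X' : Scheme.{u}} (𝓘 : X.IdealSheafData) (b : X' ⟶ X)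
    (hb : BlowUp.IsBlowUp b 𝓘) (U : X.Opens) (s : Γ(X, U)) (hs : s ∈ Mero.regSub X U)
    (U' : X'.affineOpens) (e : U'.1 ≤ b ⁻¹ᵁ U) (g : Γ(X', U'.1)) (hg : g ∈ nonZeroDivisors Γ(X', U'.1))
    (hIg : (𝓘.comap b).ideal U' = Ideal.span {g}) :
    (b.appLE U U'.1 e).hom s ∈ nonZeroDivisors Γ(X', U'.1) := by
  rw [mem_nonZeroDivisors_iff_right]
  intro y hy
  have hloc : IsLocalization.Away g Γ(X', X'.basicOpen g) := U'.2.isLocalization_basicOpen g
  have hinj : Function.Injective (algebraMap Γ(X', U'.1) Γ(X', X'.basicOpen g)) :=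
    IsLocalization.injective _ (Submonoid.powers_le.2 hg)
  apply hinj
  rw [map_zero]
  apply TopCat.Presheaf.section_ext X'.sheaf (X'.basicOpen g)
  intro z hz
  have hzU' : z ∈ U'.1 := X'.basicOpen_le g hz
  have h1 : X'.presheaf.germ (X'.basicOpen g) z hz (algebraMap Γ(X', U'.1) Γ(X', X'.basicOpen g) y) =
      X'.presheaf.germ U'.1 z hzU' y := TopCat.Presheaf.germ_res_apply _ _ _ _ _
  change X'.presheaf.germ (X'.basicOpen g) z hz (algebraMap Γ(X', U'.1) Γ(X', X'.basicOpen g) y) =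
    X'.presheaf.germ (X'.basicOpen g) z hz 0
  rw [map_zero, h1]
  have h2 : X'.presheaf.germ U'.1 z hzU' y *
      X'.presheaf.germ U'.1 z hzU' ((b.appLE U U'.1 e).hom s) = 0 := by
    rw [← map_mul, hy, map_zero]
  have hbz : b z ∈ U := e hzU'
  have h3 : X'.presheaf.germ U'.1 z hzU' ((b.appLE U U'.1 e).hom s) =
      b.stalkMap z (X.presheaf.germ U (b z) hbz s) := by
    have h4 := Scheme.Hom.germ_stalkMap_apply b U z hbz s
    rw [h4]
    simp only [Scheme.Hom.appLE, CommRingCat.hom_comp, RingHom.comp_apply]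
    exact TopCat.Presheaf.germ_res_apply _ _ _ _ _
  have hbij := stalkMap_bijective_of_isBlowUp 𝓘 b hb z (by
    have := notMem_support_of_mem_basicOpen (𝓘.comap b) U' g hIg z hz
    rw [Scheme.IdealSheafData.support_comap] at this
    exact this)
  have hnzd : (b.stalkMap z).hom (X.presheaf.germ U (b z) hbz s) ∈
      nonZeroDivisors (X'.presheaf.stalk z) :=
    map_mem_nonZeroDivisors_of_flat _ (RingHom.Flat.of_bijective hbij) _ (hs ⟨b z, hbz⟩)
  rw [h3] at h2
  exact (mem_nonZeroDivisors_iff_right.1 hnzd) _ h2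


theorem regSub_app {X X' : Scheme.{u}} (𝓘 : X.IdealSheafData) (b : X' ⟶ X)
    (hb : BlowUp.IsBlowUp b 𝓘) (U : X.Opens) (s : Γ(X, U)) (hs : s ∈ Mero.regSub X U) :
    b.app U s ∈ Mero.regSub X' (b ⁻¹ᵁ U) := by
  rintro ⟨x', hx'⟩
  change X'.presheaf.germ (b ⁻¹ᵁ U) x' hx' (b.app U s) ∈ nonZeroDivisors _
  rw [mem_nonZeroDivisors_iff_right]
  intro y hy
  obtain ⟨O, hO, hxO, y', rfl⟩ := X'.presheaf.exists_le_germ_eq y (V := b ⁻¹ᵁ U) hx'
  have h1 : X'.presheaf.germ O x' hxO (y' * X'.presheaf.map (homOfLE hO).op (b.app U s)) =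
      X'.presheaf.germ O x' hxO 0 := by
    rw [map_mul, TopCat.Presheaf.germ_res_apply, map_zero]
    exact hy
  obtain ⟨O₂, hxO₂, i₁, i₂, heq⟩ := X'.presheaf.germ_eq x' hxO hxO _ _ h1
  obtain ⟨U', hxU', hU'O₂, g, hg, hIg⟩ := exists_chart_le hb.1 x' O₂ hxO₂
  have e : U'.1 ≤ b ⁻¹ᵁ U := hU'O₂.trans (i₁.le.trans hO)
  have hnzd := appLE_mem_nonZeroDivisors_of_regSub 𝓘 b hb U s hs U' e g hg hIg
  have h2 : X'.presheaf.map (homOfLE (hU'O₂.trans i₁.le)).op y' * (b.appLE U U'.1 e).hom s = 0 := by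
    have h3 := congrArg (X'.presheaf.map (homOfLE hU'O₂).op) heq
    rw [map_zero, map_zero, map_mul, map_mul] at h3
    simp only [← CommRingCat.comp_apply, ← Functor.map_comp] at h3
    have ha : X'.presheaf.map (i₁.op ≫ (homOfLE hU'O₂).op) =
        X'.presheaf.map (homOfLE (hU'O₂.trans i₁.le)).op := by
      congr 1
    have hb' : ((b.app U ≫ X'.presheaf.map (homOfLE hO).op) ≫ X'.presheaf.map i₁.op) ≫
        X'.presheaf.map (homOfLE hU'O₂).op = b.appLE U U'.1 e := by
      simp only [Scheme.Hom.appLE, Category.assoc, ← Functor.map_comp]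
      congr 1
    rw [ha, hb'] at h3
    exact h3
  have h3 := (mem_nonZeroDivisors_iff_right.1 hnzd) _ h2
  rw [← TopCat.Presheaf.germ_res_apply X'.presheaf (homOfLE (hU'O₂.trans i₁.le)) x' hxU' y', h3,
    map_zero]

/-- Let X be a scheme, 𝓘 a quasi-coherent ideal sheaf and b : X' ⟶ X a blowing up of X in 𝓘. Then the
pullback b⁻¹D is defined for every effective Cartier divisor D ⊆ X (the inverse image ideal of the
ideal of D is again the ideal of an effective Cartier divisor), and pullbacks of meromorphic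
functions are defined for b (b carries regular sections of O_X, i.e. sections whose germs are
nonzerodivisors, to regular sections of O_{X'}). -/
theorem result {X X' : Scheme.{u}} (𝓘 : X.IdealSheafData) (b : X' ⟶ X) (hb : BlowUp.IsBlowUp b 𝓘) :
    (∀ 𝓓 : X.IdealSheafData, BlowUp.IsEffCartierIdeal 𝓓 → BlowUp.IsEffCartierIdeal (𝓓.comap b)) ∧
      ∀ (U : X.Opens) (s : Γ(X, U)), s ∈ Mero.regSub X U → b.app U s ∈ Mero.regSub X' (b ⁻¹ᵁ U) := by
  exact ⟨fun 𝓓 h𝓓 => isEffCartierIdeal_comap_of_isBlowUp 𝓘 b hb 𝓓 h𝓓,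
    fun U s hs => regSub_app 𝓘 b hb U s hs⟩

end Groth.Agent.S8898
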