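import Groth.Statements.S8899
import Groth.Agent.Lib.Helper13.PullbackStalk

set_option autoImplicit false
universe u
open CategoryTheory CategoryTheory.Limits AlgebraicGeometry TopologicalSpace
open SDiv

namespace Groth.Agent.S8899

open TensorProduct

theorem ring_lemma {A B : Type u} [CommRing A] [CommRing B] [Algebra A B] [IsLocalRing A]
    [IsLocalRing B] [IsLocalHom (algebraMap A B)] [Module.Flat A B]
    {M : Type u} [AddCommGroup M] [Module A M] (m : M)
    (hm : Ideal.radical (LinearMap.ker (LinearMap.toSpanSingleton A M m)) = IsLocalRing.maximalIdeal A)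
    (hB : ∀ q : Ideal B, q.IsPrime → (IsLocalRing.maximalIdeal A).map (algebraMap A B) ≤ q →
      q = IsLocalRing.maximalIdeal B) :
    Ideal.radical (LinearMap.ker (LinearMap.toSpanSingleton B (B ⊗[A] M) ((1 : B) ⊗ₜ[A] m))) =
      IsLocalRing.maximalIdeal B := by
  haveI : Module.FaithfullyFlat A B := Module.FaithfullyFlat.of_flat_of_isLocalHom
  set J : Ideal B := LinearMap.ker (LinearMap.toSpanSingleton B (B ⊗[A] M) ((1 : B) ⊗ₜ[A] m)) with hJ
  have hne : J ≠ ⊤ := by
    intro h
    have h1 : (1 : B) ∈ J := by rw [h]; trivial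
    have h2 : (1 : B) ⊗ₜ[A] m = 0 := by
      have := LinearMap.mem_ker.1 h1
      simpa using this
    have h3 : m = 0 := by
      apply Module.FaithfullyFlat.tensorProduct_mk_injective (A := A) (B := B) M
      simpa using h2
    have h4 : LinearMap.ker (LinearMap.toSpanSingleton A M m) = ⊤ := by
      rw [h3]
      ext a
      simp
    rw [h4, Ideal.radical_top] at hm
    exact (IsLocalRing.maximalIdeal.isMaximal A).ne_top hm.symm
  apply le_antisymm
  · have h1 : J ≤ IsLocalRing.maximalIdeal B := IsLocalRing.le_maximalIdeal hne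
    calc Ideal.radical J ≤ (IsLocalRing.maximalIdeal B).radical := Ideal.radical_mono h1
      _ = IsLocalRing.maximalIdeal B := Ideal.IsPrime.radical inferInstance
  · rw [Ideal.radical_eq_sInf]
    refine le_sInf ?_
    rintro q ⟨hJq, hq⟩
    have h1 : (IsLocalRing.maximalIdeal A).map (algebraMap A B) ≤ q := by
      rw [Ideal.map_le_iff_le_comap, ← hm]
      haveI := hq
      rw [Ideal.IsPrime.radical_le_iff (Ideal.comap_isPrime _ _)]
      intro a ha
      apply hJq
      rw [hJ, LinearMap.mem_ker]
      have ha' : a • m = 0 := by simpa using LinearMap.mem_ker.1 ha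
      simp only [LinearMap.toSpanSingleton_apply]
      rw [TensorProduct.smul_tmul', smul_eq_mul, mul_one, Algebra.algebraMap_eq_smul_one,
        TensorProduct.smul_tmul, ha', TensorProduct.tmul_zero]
    rw [hB q hq h1]

/-- Let f : X ⟶ S be a morphism of schemes, G a quasi-coherent O_S-module and x a point of X over s = f
x such that f is flat at x, no point of f⁻¹(s) other than x specialises to x (x is the generic point
of some irreducible component of the fibre X_s), and s is weakly associated to G. Then x is weakly
associated to f^*G. -/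
theorem result {X S : Scheme.{u}} (f : X ⟶ S) (G : S.Modules) (hG : Coh.IsQCoh G)
    (x : ↥X) (hfl : (f.stalkMap x).hom.Flat) (hgen : ∀ y : ↥X, f y = f x → y ⤳ x → y = x)
    (hs : Curv2.IsWeakAssPoint G (f x)) : Curv2.IsWeakAssPoint ((Scheme.Modules.pullback f).obj G) x := by
  haveI : G.IsQuasicoherent := hG
  letI := (f.stalkMap x).hom.toAlgebra
  haveI : Module.Flat (S.presheaf.stalk (f x)) (X.presheaf.stalk x) := hfl
  haveI : IsLocalHom (algebraMap (S.presheaf.stalk (f x)) (X.presheaf.stalk x)) :=
    inferInstanceAs (IsLocalHom (f.stalkMap x).hom)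
  obtain ⟨e⟩ := Groth.Agent.Helper13.Pullback.exists_stalk_pullback_equiv f G x
  obtain ⟨m, hm⟩ := hs
  have hB : ∀ q : Ideal (X.presheaf.stalk x), q.IsPrime →
      (IsLocalRing.maximalIdeal (S.presheaf.stalk (f x))).map
        (algebraMap (S.presheaf.stalk (f x)) (X.presheaf.stalk x)) ≤ q →
      q = IsLocalRing.maximalIdeal (X.presheaf.stalk x) := by
    intro q hq hle
    let Q : Spec (X.presheaf.stalk x) := ⟨q, hq⟩
    let y : X := X.fromSpecStalk x Q
    have hyx : y ⤳ x := by
      have : y ∈ Set.range (X.fromSpecStalk x) := ⟨Q, rfl⟩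
      rw [Scheme.range_fromSpecStalk] at this
      exact this
    have hfy : f y = f x := by
      change (X.fromSpecStalk x ≫ f) Q = f x
      rw [← Scheme.SpecMap_stalkMap_fromSpecStalk, Scheme.Hom.comp_apply]
      have : (Spec.map (f.stalkMap x)) Q = IsLocalRing.closedPoint (S.presheaf.stalk (f x)) := by
        apply PrimeSpectrum.ext
        change q.comap (f.stalkMap x).hom = IsLocalRing.maximalIdeal _
        symm
        apply (IsLocalRing.maximalIdeal.isMaximal _).eq_of_le (Ideal.comap_isPrime _ _).ne_top
        rw [← Ideal.map_le_iff_le_comap]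
        exact hle
      rw [this]
      exact Scheme.fromSpecStalk_closedPoint
    have h1 := hgen y hfy hyx
    have h2 : Q = IsLocalRing.closedPoint (X.presheaf.stalk x) := by
      apply (X.fromSpecStalk x).isEmbedding.injective
      rw [Scheme.fromSpecStalk_closedPoint]
      exact h1
    exact congrArg PrimeSpectrum.asIdeal h2
  have key := ring_lemma (A := S.presheaf.stalk (f x)) (B := X.presheaf.stalk x) m hm hB
  refine ⟨e.symm ((1 : X.presheaf.stalk x) ⊗ₜ[S.presheaf.stalk (f x)] m), ?_⟩
  rw [← key]
  congr 1
  ext b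
  simp only [LinearMap.mem_ker, LinearMap.toSpanSingleton_apply]
  rw [← map_smul, LinearEquiv.map_eq_zero_iff]

end Groth.Agent.S8899
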