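import Groth.Statements.S8901
import Groth.Agent.Lib.Helper13.WeakAss
import Groth.Agent.Lib.Helper13.MeroLib

set_option autoImplicit false
universe u
open CategoryTheory CategoryTheory.Limits AlgebraicGeometry TopologicalSpace
open SDiv

namespace Groth.Agent.S8901

open Groth.Agent.Helper13.WeakAss Groth.Agent.Helper13.MeroLib

/-- Let f : X ⟶ Y be a morphism of schemes under which each weakly associated point of X (of O_X) goes
to a point of Y with no proper generization (the generic point of some irreducible component of Y).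
Then pullbacks of meromorphic functions are defined for f: for every open U ⊆ Y and every regular
section s of O_Y over U, the pulled-back section of O_X over f⁻¹U is regular. -/
theorem result {X Y : Scheme.{u}} (f : X ⟶ Y)
    (h : ∀ x : ↥X, Curv2.IsWeakAssPoint (Coh.structureModule X) x → ∀ y : ↥Y, y ⤳ f x → y = f x)
    (U : Y.Opens) (s : Γ(Y, U)) (hs : s ∈ Mero.regSub Y U) : f.app U s ∈ Mero.regSub X (f ⁻¹ᵁ U) := by
  intro x
  obtain ⟨_, ⟨W, hW, rfl⟩, hxW, hWU⟩ :=
    X.isBasis_affineOpens.exists_subset_of_mem_open x.2 (f ⁻¹ᵁ U).2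
  have hWU' : W ≤ f ⁻¹ᵁ U := hWU
  set g : Γ(X, W) := X.presheaf.map (homOfLE hWU').op (f.app U s) with hg
  have hgnz : g ∈ nonZeroDivisors Γ(X, W) := by
    rw [mem_nonZeroDivisors_iff_right]
    intro a hag
    by_contra ha
    obtain ⟨x₁, hx₁, hne⟩ := exists_germ_ne_zero a ha
    obtain ⟨x', hx'W, -, hwa, hx'g⟩ := exists_weakAss_specializes hW g a x₁ hx₁ hne
      (by rw [mul_comm]; exact hag)
    apply hx'g
    rw [X.mem_basicOpen g x' hx'W]
    have hx'U : f x' ∈ U := hWU' hx'W
    have hgen := (generic_iff_forall_prime (f x')).1 (h x' hwa)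
    have hu : IsUnit (Y.presheaf.germ U (f x') hx'U s) :=
      isUnit_of_mem_nonZeroDivisors_of_forall_prime hgen _ (hs ⟨f x', hx'U⟩)
    have e1 : X.presheaf.germ W x' hx'W g = f.stalkMap x' (Y.presheaf.germ U (f x') hx'U s) := by
      rw [hg, TopCat.Presheaf.germ_res_apply X.presheaf (homOfLE hWU') x' hx'W]
      exact (Scheme.Hom.germ_stalkMap_apply f U x' hx'U s).symm
    rw [e1]
    exact hu.map _
  change X.presheaf.germ (f ⁻¹ᵁ U) x.1 x.2 (f.app U s) ∈ _
  have e2 : X.presheaf.germ (f ⁻¹ᵁ U) x.1 x.2 (f.app U s) = X.presheaf.germ W x.1 hxW g :=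
    (TopCat.Presheaf.germ_res_apply X.presheaf (homOfLE hWU') x.1 hxW _).symm
  rw [e2]
  exact germ_mem_nonZeroDivisors hW g hgnz x.1 hxW

end Groth.Agent.S8901
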