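import Groth.Statements.S8908
import Groth.Agent.Lib.Helper13.MinKer2
import Groth.Agent.Lib.Helper13.QCohKer
import Groth.Agent.Lib.Helper28.CohSub

set_option autoImplicit false
universe u
open CategoryTheory CategoryTheory.Limits AlgebraicGeometry TopologicalSpace
open SDiv

namespace Groth.Agent.S8908

/-- Let X be a locally Noetherian scheme and F a coherent O_X-module. The coherent subsheaves K ⊆ F
whose support is nowhere dense in Supp(F) have a largest element K. Setting F' = F/K: (1) Supp(F') =
Supp(F); (2) F' has no embedded associated points; (3) there is a dense open U ⊆ X with U ∩ Supp(F)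
dense in Supp(F) over which the quotient map F → F' restricts to an isomorphism. -/
theorem result (X : Scheme.{u}) [IsLocallyNoetherian X] (F : X.Modules)
    (hF : Coh.IsCoh F) :
    ∃ K : Subobject F, Coh.IsCoh (K : X.Modules) ∧
      (∀ U : X.Opens, (U : Set ↥X) ∩ CohB1.support F ⊆ CohB1.support (K : X.Modules) → (U : Set ↥X) ∩ CohB1.support F = ∅) ∧
      (∀ K' : Subobject F, Coh.IsCoh (K' : X.Modules) →
        (∀ U : X.Opens, (U : Set ↥X) ∩ CohB1.support F ⊆ CohB1.support (K' : X.Modules) → (U : Set ↥X) ∩ CohB1.support F = ∅) →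
        K' ≤ K) ∧
      CohB1.support (cokernel K.arrow) = CohB1.support F ∧
      (∀ x : ↥X, Curv2.IsAssPoint (cokernel K.arrow) x → ∀ y : ↥X, Curv2.IsAssPoint (cokernel K.arrow) y → y ⤳ x → y = x) ∧
      ∃ U : X.Opens, Dense (U : Set ↥X) ∧ CohB1.support F ⊆ closure ((U : Set ↥X) ∩ CohB1.support F) ∧
        IsIso ((Scheme.Modules.restrictFunctor U.ι).map (cokernel.π K.arrow)) := by
  classical
  haveI : F.IsQuasicoherent := hF.1
  haveI : SheafOfModules.IsFiniteType (R := X.ringCatSheaf) F := hF.2
  haveI hq : (Groth.Agent.Helper13.MinKer.minSheaf F).IsQuasicoherent :=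
    Groth.Agent.Helper13.MinKer.isQuasicoherent_minSheaf F hF
  have harrow : (Subobject.mk (Groth.Agent.Helper13.MinKer.minι F)).arrow =
      (Subobject.underlyingIso (Groth.Agent.Helper13.MinKer.minι F)).hom ≫
        Groth.Agent.Helper13.MinKer.minι F :=
    (Subobject.underlyingIso_hom_comp_eq_mk _).symm
  haveI hKq : ((Subobject.mk (Groth.Agent.Helper13.MinKer.minι F) : Subobject F) :
      X.Modules).IsQuasicoherent :=
    Groth.Agent.Helper13.QCohLocal.isQuasicoherent_of_iso
      (Subobject.underlyingIso (Groth.Agent.Helper13.MinKer.minι F)).symm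
  have hKft : SheafOfModules.IsFiniteType (R := X.ringCatSheaf)
      ((Subobject.mk (Groth.Agent.Helper13.MinKer.minι F) : Subobject F) : X.Modules) :=
    Groth.Agent.Helper28.CohSub.isFiniteType_of_mono
      (Subobject.mk (Groth.Agent.Helper13.MinKer.minι F)).arrow
  have hmem : ∀ (V : X.Opens)
      (s : Γ(((Subobject.mk (Groth.Agent.Helper13.MinKer.minι F) : Subobject F) : X.Modules), V))
      (x : X), Groth.Agent.Helper13.MinKer.IsMinPt F x → ∀ hx : x ∈ V,
      F.presheaf.germ V x hx
        ((Subobject.mk (Groth.Agent.Helper13.MinKer.minι F)).arrow.app V s) = 0 := by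
    intro V s x hxm hx
    rw [harrow, Groth.Agent.Helper13.LocFree.app_comp_apply]
    exact Groth.Agent.Helper13.MinKer.minι_app_germ F V _ x hxm hx
  have hexi : ∀ (V : X.Opens) (t : Γ(F, V)),
      (∀ x, Groth.Agent.Helper13.MinKer.IsMinPt F x → ∀ hx : x ∈ V,
        F.presheaf.germ V x hx t = 0) →
      ∃ s : Γ(((Subobject.mk (Groth.Agent.Helper13.MinKer.minι F) : Subobject F) : X.Modules), V),
        (Subobject.mk (Groth.Agent.Helper13.MinKer.minι F)).arrow.app V s = t := by
    intro V t ht
    obtain ⟨s, hs⟩ := Groth.Agent.Helper13.MinKer.exists_minι_app_eq F V t ht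
    refine ⟨(Subobject.underlyingIso (Groth.Agent.Helper13.MinKer.minι F)).inv.app V s, ?_⟩
    rw [harrow, ← Groth.Agent.Helper13.LocFree.app_comp_apply, Iso.inv_hom_id_assoc]
    exact hs
  have hex : (ShortComplex.mk (Subobject.mk (Groth.Agent.Helper13.MinKer.minι F)).arrow
      (cokernel.π (Subobject.mk (Groth.Agent.Helper13.MinKer.minι F)).arrow)
      (cokernel.condition _)).Exact :=
    ShortComplex.exact_cokernel _
  haveI hQq : (cokernel (Subobject.mk (Groth.Agent.Helper13.MinKer.minι F)).arrow).IsQuasicoherent :=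
    Groth.Agent.Helper13.QCohLocal.isQuasicoherent_cokernel _
  refine ⟨Subobject.mk (Groth.Agent.Helper13.MinKer.minι F), ⟨hKq, hKft⟩, ?_, ?_, ?_, ?_, ?_⟩
  · intro U hU
    exact Groth.Agent.Helper13.MinKer.inter_support_eq_empty F hF _ hmem U hU
  · intro K' hK' hnd
    haveI : (K' : X.Modules).IsQuasicoherent := hK'.1
    have h1 : ∀ (V : X.Opens) (m : Γ((K' : X.Modules), V)),
        K'.arrow.app V m ∈ (Groth.Agent.Helper13.MinKer.minSub F).obj (Opposite.op V) := by
      intro V m
      rw [Groth.Agent.Helper13.MinKer.mem_minSub]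
      intro x hxm hx
      exact Groth.Agent.Helper13.MinKer.germ_eq_zero_of_nowhereDense F hF K'.arrow hnd V m x hxm hx
    exact Subobject.le_mk_of_comm
      (Groth.Agent.Helper13.FinType.subsheafLift F _
        (Groth.Agent.Helper13.MinKer.isLocalSub_minSub F) K'.arrow h1)
      (Groth.Agent.Helper13.FinType.subsheafLift_ι F _ _ K'.arrow h1)
  · exact Groth.Agent.Helper13.MinKer.support_eq F hF _ hmem hexi _ _ hex
  · intro x hx y hy hyx
    have hxm := Groth.Agent.Helper13.MinKer.isMinPt_of_isWeakAssPoint_quot F hF _ hmem hexi _ _ hex x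
      ((Groth.Agent.Helper13.QCoh.isAssPoint_iff_isWeakAssPoint _ x).1 hx)
    have hym := Groth.Agent.Helper13.MinKer.isMinPt_of_isWeakAssPoint_quot F hF _ hmem hexi _ _ hex y
      ((Groth.Agent.Helper13.QCoh.isAssPoint_iff_isWeakAssPoint _ y).1 hy)
    exact hxm.2 y hym.1 hyx
  · exact Groth.Agent.Helper13.MinKer.exists_dense_open F hF _ hmem _ _ hex hKft

end Groth.Agent.S8908
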