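import Groth.Statements.S8921
import Mathlib
import Groth.Agent.Lib.Helper14.SplitReg10
import Groth.Agent.Lib.Helper14.SplitReg11
import Groth.Agent.Lib.Helper2.KRCompSch
-- import your own Groth.Agent.* helpers here

set_option autoImplicit false
universe u
open CategoryTheory CategoryTheory.Limits AlgebraicGeometry TopologicalSpace
open SDiv

namespace Groth.Agent.S8921

/-- Let i : Z ⟶ Y and j : Y ⟶ X be immersions of schemes with X locally Noetherian, z a point of Z with
images y = i z and x, and a : i^*C_{Y/X} ⟶ C_{Z/X}, b : C_{Z/X} ⟶ C_{Z/Y} the canonical maps of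
conormal sheaves. The following are equivalent: (1) i is regular near z and j is regular near y; (2)
i and j ∘ i are regular near z; (3) j ∘ i is regular near z and the sequence 0 → i^*C_{Y/X} →
C_{Z/X} → C_{Z/Y} → 0 is split short exact over some open neighbourhood of z. Both immersions are
quasi-compact automatically, X being locally Noetherian; the quasi-compactness binders only make the
conormal sheaves available. -/
theorem result {Z Y X : Scheme.{u}} (i : Z ⟶ Y) (j : Y ⟶ X) [IsImmersion i] [IsImmersion j]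
    [QuasiCompact i] [QuasiCompact j]
    (a : (Scheme.Modules.pullback i).obj (Omega.conormal j) ⟶ Omega.conormal (i ≫ j))
    (ha : OmegaSh.IsConormalMap (i ≫ j) j (𝟙 X) i a)
    (b : (Scheme.Modules.pullback (𝟙 Z)).obj (Omega.conormal (i ≫ j)) ⟶ Omega.conormal i)
    (hb : OmegaSh.IsConormalMap i (i ≫ j) j (𝟙 Z) b)
    [IsLocallyNoetherian X] (z : ↥Z) :
    ((RegImm.IsRegularImmersionAt RegImm.Kind.regular i z ∧ RegImm.IsRegularImmersionAt RegImm.Kind.regular j (i z)) ↔
      (RegImm.IsRegularImmersionAt RegImm.Kind.regular i z ∧ RegImm.IsRegularImmersionAt RegImm.Kind.regular (i ≫ j) z)) ∧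
    ((RegImm.IsRegularImmersionAt RegImm.Kind.regular i z ∧ RegImm.IsRegularImmersionAt RegImm.Kind.regular (i ≫ j) z) ↔
      (RegImm.IsRegularImmersionAt RegImm.Kind.regular (i ≫ j) z ∧
        ∃ U : Z.Opens, z ∈ U ∧
          ∀ w : (Scheme.Modules.restrictFunctor U.ι).map a ≫ (Scheme.Modules.restrictFunctor U.ι).map ((Scheme.Modules.pullbackId Z).inv.app (Omega.conormal (i ≫ j)) ≫ b) = 0,
            Nonempty (ShortComplex.mk ((Scheme.Modules.restrictFunctor U.ι).map a) ((Scheme.Modules.restrictFunctor U.ι).map ((Scheme.Modules.pullbackId Z).inv.app (Omega.conormal (i ≫ j)) ≫ b)) w).Splitting)) := by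
  haveI : IsLocallyNoetherian Y := LocallyOfFiniteType.isLocallyNoetherian j
  have hAB : RegImm.IsRegularImmersionAt RegImm.Kind.regular i z →
      RegImm.IsRegularImmersionAt RegImm.Kind.regular j (i z) →
      RegImm.IsRegularImmersionAt RegImm.Kind.regular (i ≫ j) z := by
    intro hi hj
    obtain ⟨⟨U, hU⟩, hzU, hclU, rs, hrs, hkerU⟩ :=
      Groth.Agent.Helper14.SplitReg.koszulAt_of_regularAt j (i z) hj
    obtain ⟨⟨V, hV⟩, hzV, hclV, ts, hts, hkerV⟩ :=
      Groth.Agent.Helper14.SplitReg.koszulAt_of_regularAt i z hi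
    obtain ⟨W, hzW, hclW, qs, -, hqs, hkerW⟩ := Groth.Agent.Helper2.KRCompSch.comp_at j i z
      U hU hzU hclU rs hrs hkerU V hV hzV hclV ts hts hkerV
    have hk : RegImm.IsRegularImmersionAt RegImm.Kind.koszul (i ≫ j) z :=
      ⟨W, hzW, hclW, qs, hqs, hkerW⟩
    exact Groth.Agent.Helper14.SplitReg.regularAt_of_quasiAt (i ≫ j) z
      (Groth.Agent.Helper14.SplitReg.quasiAt_of_h1At _ _
        (Groth.Agent.Helper14.SplitReg.h1At_of_koszulAt _ _ hk))
  have hBC := fun hi : RegImm.IsRegularImmersionAt RegImm.Kind.regular i z =>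
    Groth.Agent.Helper14.SplitReg.exists_splitting_of_h1At j i a ha b hb z
      (Groth.Agent.Helper14.SplitReg.h1At_of_regularAt i z hi)
  have hCA : RegImm.IsRegularImmersionAt RegImm.Kind.regular (i ≫ j) z →
      (∃ U : Z.Opens, z ∈ U ∧
          ∀ w : (Scheme.Modules.restrictFunctor U.ι).map a ≫ (Scheme.Modules.restrictFunctor U.ι).map ((Scheme.Modules.pullbackId Z).inv.app (Omega.conormal (i ≫ j)) ≫ b) = 0,
            Nonempty (ShortComplex.mk ((Scheme.Modules.restrictFunctor U.ι).map a) ((Scheme.Modules.restrictFunctor U.ι).map ((Scheme.Modules.pullbackId Z).inv.app (Omega.conormal (i ≫ j)) ≫ b)) w).Splitting) →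
      RegImm.IsRegularImmersionAt RegImm.Kind.regular i z ∧
        RegImm.IsRegularImmersionAt RegImm.Kind.regular j (i z) := by
    rintro hij ⟨U, hzU, hU⟩
    have w0 : a ≫ ((Scheme.Modules.pullbackId Z).inv.app (Omega.conormal (i ≫ j)) ≫ b) = 0 :=
      Groth.Agent.Helper18.NrmSeq.phi1_phi2 j i a ha b hb
    have w : (Scheme.Modules.restrictFunctor U.ι).map a ≫ (Scheme.Modules.restrictFunctor U.ι).map ((Scheme.Modules.pullbackId Z).inv.app (Omega.conormal (i ≫ j)) ≫ b) = 0 := by
      rw [← Functor.map_comp, w0, Functor.map_zero]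
    obtain ⟨sp⟩ := hU w
    exact Groth.Agent.Helper14.SplitReg.both_regularAt_of_retraction j i a ha z hij U hzU sp.r sp.f_r
  exact ⟨⟨fun h => ⟨h.1, hAB h.1 h.2⟩, fun h => hCA h.2 (hBC h.1)⟩,
    ⟨fun h => ⟨h.2, hBC h.1⟩, fun h => ⟨(hCA h.1 h.2).1, h.1⟩⟩⟩

end Groth.Agent.S8921
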