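import Groth.Statements.S8926

set_option autoImplicit false
universe u
open InjHull

namespace Groth.Agent.S8926

/-- Suppose R → S is an epimorphism of rings and E is an S-module whose underlying R-module (via
restriction of scalars) is injective; then E is injective as an S-module as well. -/
theorem result (R S : Type u) [CommRing R] [CommRing S] [Algebra R S] [Algebra.IsEpi R S] (E : Type u) [AddCommGroup E] [Module S E] [Module R E] [IsScalarTower R S E] [Module.Injective R E] : Module.Injective S E := by
  apply Module.Baer.injective
  intro I g
  obtain ⟨h, hh⟩ := Module.Injective.extension_property R E I S
    (I.subtype.restrictScalars R) Subtype.val_injective (g.restrictScalars R)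
  have key : ∀ s t : S, h (s * t) = s • h t := by
    intro s t
    let φ : TensorProduct R S S →ₗ[R] E := TensorProduct.lift
      (LinearMap.mk₂ R (fun a b => a • h (b * t))
        (fun a a' b => by simp only [add_smul])
        (fun r a b => by simp only [smul_assoc])
        (fun a b b' => by simp only [add_mul, map_add, smul_add])
        (fun r a b => by
          simp only [smul_mul_assoc, map_smul]
          rw [smul_comm]))
    have e : TensorProduct.tmul R s (1 : S) = TensorProduct.tmul R (1 : S) s := Algebra.tmul_comm R s 1
    have := congrArg φ e
    simp only [φ, TensorProduct.lift.tmul, LinearMap.mk₂_apply, one_mul, one_smul] at this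
    exact this.symm
  refine ⟨{ toFun := h, map_add' := h.map_add, map_smul' := fun s t => by
              simpa using key s t }, ?_⟩
  intro x mem
  have := LinearMap.congr_fun hh ⟨x, mem⟩
  simpa using this

end Groth.Agent.S8926
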