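import Groth.Statements.S8930
-- import your own Groth.Agent.* helpers here
import Groth.Agent.Lib.Helper25.OpenImmFactor

set_option autoImplicit false
universe u
open AlgebraicGeometry
open Disc

namespace Groth.Agent.S8930

/-- Given two factorizations A → B' → B and A → B'' → B of a ring map with A → B' and A → B'' finite and
Spec(B) → Spec(B'), Spec(B) → Spec(B'') open immersions, there is an A-subalgebra C of B which is
finite over A, contains the images of B' and B'', and is such that Spec(B) → Spec(C) is an open
immersion. (Such an A → B is quasi-finite; that hypothesis of the published statement is implied by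
the factorizations and is not repeated.) -/
theorem result (A B B' B'' : Type u) [CommRing A] [CommRing B] [CommRing B'] [CommRing B''] [Algebra A B] [Algebra A B'] [Algebra A B''] [Algebra B' B] [Algebra B'' B] [IsScalarTower A B' B] [IsScalarTower A B'' B] [Module.Finite A B'] [Module.Finite A B''] (h' : IsOpenImmersion (Spec.map (CommRingCat.ofHom (algebraMap B' B)))) (h'' : IsOpenImmersion (Spec.map (CommRingCat.ofHom (algebraMap B'' B)))) : ∃ C : Subalgebra A B, Module.Finite A C ∧ Set.range (algebraMap B' B) ⊆ (C : Set B) ∧ Set.range (algebraMap B'' B) ⊆ (C : Set B) ∧ IsOpenImmersion (Spec.map (CommRingCat.ofHom C.val.toRingHom)) := by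
  classical
  let C : Subalgebra A B :=
    (IsScalarTower.toAlgHom A B' B).range ⊔ (IsScalarTower.toAlgHom A B'' B).range
  have h1 : (IsScalarTower.toAlgHom A B' B).range ≤ C := le_sup_left
  have h2 : (IsScalarTower.toAlgHom A B'' B).range ≤ C := le_sup_right
  refine ⟨C, ?_, ?_, ?_, ?_⟩
  · haveI : Module.Finite A (IsScalarTower.toAlgHom A B' B).range :=
      Module.Finite.of_surjective (IsScalarTower.toAlgHom A B' B).rangeRestrict.toLinearMap
        (AlgHom.rangeRestrict_surjective _)
    haveI : Module.Finite A (IsScalarTower.toAlgHom A B'' B).range :=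
      Module.Finite.of_surjective (IsScalarTower.toAlgHom A B'' B).rangeRestrict.toLinearMap
        (AlgHom.rangeRestrict_surjective _)
    exact Subalgebra.finite_sup _ _
  · rintro _ ⟨b, rfl⟩
    exact h1 ⟨b, rfl⟩
  · rintro _ ⟨b, rfl⟩
    exact h2 ⟨b, rfl⟩
  · let ψ : B' →ₐ[A] C :=
      (IsScalarTower.toAlgHom A B' B).codRestrict C (fun b => h1 ⟨b, rfl⟩)
    letI : Algebra B' C := ψ.toRingHom.toAlgebra
    haveI : IsScalarTower B' C B := IsScalarTower.of_algebraMap_eq (fun x => rfl)
    have hinj : Function.Injective (algebraMap C B) := Subtype.val_injective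
    exact Groth.Agent.Helper25.OpenImmFactor.main B' B h' C hinj

end Groth.Agent.S8930
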