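import Groth.Statements.S8932
import Groth.Agent.Lib.Helper8.CoR3
import Groth.Agent.Lib.Helper8.RMod9
import Groth.Agent.Lib.Helper8.FBC10
import Groth.Agent.Lib.Helper12.GorField
import Groth.Agent.Lib.Helper11.LDer5

set_option autoImplicit false
universe u
open CategoryTheory
open scoped TensorProduct
attribute [local instance] HasDerivedCategory.standard
open Dual

namespace Groth.Agent.S8932

/-- For a field extension K/k, a finite type k-algebra A and a dualizing complex ω for A, the derived
base change of ω along A → K ⊗_k A is a dualizing complex for K ⊗_k A (the derived base change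
functor being assumed to exist). -/
theorem result (k K : Type u) [Field k] [Field K] [Algebra k K] (A : Type u) [CommRing A] [Algebra k A] [Algebra.FiniteType k A] [DRing.HasLBaseChange (Algebra.TensorProduct.includeRight : A →ₐ[k] K ⊗[k] A).toRingHom] (ω : Dual.D A) (hω : Dual.IsDualizing A ω) : Dual.IsDualizing (K ⊗[k] A) ((DRing.LBaseChange (Algebra.TensorProduct.includeRight : A →ₐ[k] K ⊗[k] A).toRingHom).obj ω) := by
  haveI hA : IsNoetherianRing A := Algebra.FiniteType.isNoetherianRing k A
  haveI hB : IsNoetherianRing (K ⊗[k] A) := Algebra.FiniteType.isNoetherianRing K (K ⊗[k] A)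
  let ec : (A ⊗[k] K) ≃+* (K ⊗[k] A) := (Algebra.TensorProduct.comm k A K).toRingEquiv
  haveI hB' : IsNoetherianRing (A ⊗[k] K) := isNoetherianRing_of_ringEquiv (K ⊗[k] A) ec.symm
  -- finite Krull dimension
  have hdimB : ringKrullDim (K ⊗[k] A) < ⊤ := by
    haveI : Injective (ModuleCat.of K K) :=
      (Module.injective_iff_injective_object K K).mp (Module.injective_of_isSemisimpleRing K K)
    have hK : Dual.IsDualizing K (Dual.inD K K) :=
      Groth.Agent.Helper8.DualMod.isDualizing_inD_self_of_hasInjectiveDimensionLT K 1 inferInstance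
    obtain ⟨ωB, hωB⟩ := Groth.Agent.Helper8.RMod.exists_isDualizing_of_finiteType _ hK (K ⊗[k] A)
    exact Groth.Agent.Helper8.LOC.ringKrullDim_lt_top_of_isDualizing ωB hωB
  have hdim : ringKrullDim (A ⊗[k] K) < ⊤ := by
    rw [ringKrullDim_eq_of_ringEquiv ec]
    exact hdimB
  haveI := Groth.Agent.Helper8.FBC.preservesFiniteLimits_Efun_of_flat (A := A) (A ⊗[k] K)
  have hfib : ∀ (r : Ideal (A ⊗[k] K)) [r.IsPrime],
      LocCoh.IsGorensteinLocalRing (Groth.Agent.Lead.Fib.FL (r.under A) r) := by
    intro r _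
    haveI : r.LiesOver (r.under A) := ⟨rfl⟩
    exact (Groth.Agent.Helper12.GorFib.isGorensteinRing_fiber_iff (r.under A)).mp
      (Groth.Agent.Helper12.GorField.isGorensteinRing_fiber_tensor k A K (Or.inl inferInstance)
        (r.under A)) r
  have d1 := Groth.Agent.Helper8.CoR.isDualizing_Ld_of_gorenstein_fibres hdim hfib ω hω
  -- transport along the commutativity isomorphism
  letI : Algebra (A ⊗[k] K) (K ⊗[k] A) := ec.toRingHom.toAlgebra
  have hb : Function.Bijective (algebraMap (A ⊗[k] K) (K ⊗[k] A)) := ec.bijective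
  haveI : Module.Flat (A ⊗[k] K) (K ⊗[k] A) :=
    (RingHom.flat_algebraMap_iff).mp (RingHom.Flat.of_bijective hb)
  haveI := Groth.Agent.Helper8.FBC.preservesFiniteLimits_Efun_of_flat (A := A ⊗[k] K) (K ⊗[k] A)
  have d2 := Groth.Agent.Helper8.FBC.isDualizing_Ld_of_bijective (K ⊗[k] A) hb _ d1
  have hcomp : (Algebra.TensorProduct.includeRight : A →ₐ[k] K ⊗[k] A).toRingHom =
      (algebraMap (A ⊗[k] K) (K ⊗[k] A)).comp (algebraMap A (A ⊗[k] K)) := by
    ext a
    rfl
  have hflat : ((Algebra.TensorProduct.includeRight : A →ₐ[k] K ⊗[k] A).toRingHom).Flat := by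
    rw [hcomp]
    exact RingHom.Flat.comp ((RingHom.flat_algebraMap_iff).mpr inferInstance)
      (RingHom.Flat.of_bijective hb)
  haveI : CategoryTheory.Limits.PreservesFiniteLimits (Groth.Agent.Helper8.LOC.Efun
      (Algebra.TensorProduct.includeRight : A →ₐ[k] K ⊗[k] A).toRingHom) :=
    ModuleCat.preservesFiniteLimits_extendScalars_of_flat hflat
  obtain ⟨i1⟩ := Groth.Agent.Helper8.FBC.nonempty_LdComp_iso (algebraMap A (A ⊗[k] K))
    (algebraMap (A ⊗[k] K) (K ⊗[k] A))
    (Algebra.TensorProduct.includeRight : A →ₐ[k] K ⊗[k] A).toRingHom hcomp ω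
  obtain ⟨e⟩ := Groth.Agent.Helper11.LDer.nonempty_totalLeftDerived_iso_of_exact
    (Groth.Agent.Helper8.LOC.Efun (Algebra.TensorProduct.includeRight : A →ₐ[k] K ⊗[k] A).toRingHom)
  exact Groth.Agent.Helper8.FLD.isDualizing_of_iso (i1 ≪≫ (e.app ω).symm) d2

end Groth.Agent.S8932
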