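import Groth.Statements.S8935
import Mathlib
import Groth.Agent.S2217
import Groth.Agent.S0343
import Groth.Agent.S12082
import Groth.Agent.Lib.Helper12.GorField
import Groth.Agent.Lib.Helper12.GorFib
import Groth.Agent.Lib.Helper2.CMGlue
import Groth.Agent.Lib.Helper7.CplLocal2
-- import your own Groth.Agent.* helpers here

set_option autoImplicit false
universe u
open Disc

namespace Groth.Agent.S8935

section
open IsLocalRing Disc Groth.Agent.Helper2.FrobB Groth.Agent.Helper12.GorFlatLoc Groth.Agent.Helper12.GorField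
open scoped Pointwise

/-- quotient of a Gorenstein local ring by a regular sequence in the maximal ideal is Gorenstein -/
theorem gor_quot_of_weaklyRegular : ∀ (n : ℕ) (L : Type u) [CommRing L]
    (_ : LocCoh.IsGorensteinLocalRing L) (xs : List L), xs.length = n →
    (∀ x ∈ xs, x ∈ maximalIdeal L) → RingTheory.Sequence.IsWeaklyRegular L xs →
    LocCoh.IsGorensteinLocalRing (L ⧸ Ideal.ofList xs)
  | 0, L, _, hL, xs, hlen, _, _ => by
    have : xs = [] := List.length_eq_zero_iff.mp hlen
    subst this
    have h0 : Ideal.ofList ([] : List L) = ⊥ := Ideal.ofList_nil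
    exact (gor_iff_of_ringEquiv ((Ideal.quotEquivOfEq h0).trans (RingEquiv.quotientBot L))).mpr hL
  | n + 1, L, _, hL, xs, hlen, hmem, hreg => by
    obtain ⟨x, xs', rfl⟩ := List.exists_cons_of_length_eq_add_one hlen
    haveI := hL
    haveI : IsNoetherianRing L := inferInstance
    haveI : IsLocalRing L := inferInstance
    rw [RingTheory.Sequence.isWeaklyRegular_cons_iff] at hreg
    obtain ⟨hx, hxs⟩ := hreg
    have hxm : x ∈ maximalIdeal L := hmem x List.mem_cons_self
    have hG1 : LocCoh.IsGorensteinLocalRing (L ⧸ Ideal.span {x}) :=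
      (Groth.Agent.S0343.result L x hxm hx).mp hL
    haveI := hG1
    haveI : IsLocalRing (L ⧸ Ideal.span {x}) := inferInstance
    let xs₁ : List (L ⧸ Ideal.span {x}) := xs'.map (algebraMap L (L ⧸ Ideal.span {x}))
    have hmem₁ : ∀ y ∈ xs₁, y ∈ maximalIdeal (L ⧸ Ideal.span {x}) := by
      intro y hy
      obtain ⟨z, hz, rfl⟩ := List.mem_map.mp hy
      have hzm : z ∈ maximalIdeal L := hmem z (List.mem_cons_of_mem _ hz)
      haveI : IsLocalHom (algebraMap L (L ⧸ Ideal.span {x})) :=
        IsLocalHom.of_surjective _ Ideal.Quotient.mk_surjective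
      intro hu
      exact hzm (isUnit_of_map_unit (algebraMap L (L ⧸ Ideal.span {x})) z hu)
    have hreg₁ : RingTheory.Sequence.IsWeaklyRegular (L ⧸ Ideal.span {x}) xs₁ := by
      rw [RingTheory.Sequence.isWeaklyRegular_map_algebraMap_iff]
      have heq : (x • ⊤ : Submodule L L) = Ideal.span {x} := by
        ext y
        rw [Submodule.mem_smul_pointwise_iff_exists, Ideal.mem_span_singleton']
        constructor
        · rintro ⟨z, -, rfl⟩
          exact ⟨z, by rw [smul_eq_mul, mul_comm]⟩
        · rintro ⟨z, rfl⟩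
          exact ⟨z, Submodule.mem_top, by rw [smul_eq_mul, mul_comm]⟩
      exact (LinearEquiv.isWeaklyRegular_congr (Submodule.quotEquivOfEq _ _ heq) xs').mp hxs
    have IH := gor_quot_of_weaklyRegular n (L ⧸ Ideal.span {x}) hG1 xs₁
      (by simpa [xs₁] using hlen) hmem₁ hreg₁
    have hmap : Ideal.ofList xs₁ = (Ideal.ofList xs').map (Ideal.Quotient.mk (Ideal.span {x})) := by
      rw [Ideal.map_ofList]; rfl
    rw [hmap] at IH
    have hcons : Ideal.ofList (x :: xs') = Ideal.span {x} ⊔ Ideal.ofList xs' := Ideal.ofList_cons x xs'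
    exact (gor_iff_of_ringEquiv ((DoubleQuot.quotQuotEquivQuotSup (Ideal.span {x})
      (Ideal.ofList xs')).trans (Ideal.quotEquivOfEq hcons.symm))).mp IH

theorem main (k : Type u) [Field k] (n : ℕ) (f : Fin n → MvPolynomial (Fin n) k)
    (h0 : ringKrullDim (MvPolynomial (Fin n) k ⧸ Ideal.span (Set.range f)) = 0) :
    Nonempty (Disc.Omega k (MvPolynomial (Fin n) k ⧸ Ideal.span (Set.range f))
      ≃ₗ[MvPolynomial (Fin n) k ⧸ Ideal.span (Set.range f)]
      (MvPolynomial (Fin n) k ⧸ Ideal.span (Set.range f))) := by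
  classical
  set I := Ideal.span (Set.range f) with hI
  haveI : Nontrivial (MvPolynomial (Fin n) k ⧸ I) := by
    by_contra hnt
    rw [not_nontrivial_iff_subsingleton] at hnt
    rw [ringKrullDim_eq_bot_of_subsingleton] at h0
    exact absurd h0 (by simp)
  haveI hK : Ring.KrullDimLE 0 (MvPolynomial (Fin n) k ⧸ I) :=
    ringKrullDimZero_iff_ringKrullDim_eq_zero.mpr h0
  haveI : Module.Finite k (MvPolynomial (Fin n) k ⧸ I) :=
    (Module.finite_iff_krullDimLE_zero k (MvPolynomial (Fin n) k ⧸ I)).mpr hK
  haveI : IsArtinianRing (MvPolynomial (Fin n) k ⧸ I) :=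
    isArtinianRing k (MvPolynomial (Fin n) k ⧸ I)
  have hdimP : ringKrullDim (MvPolynomial (Fin n) k) = ((n : ℕ) : WithBot ℕ∞) := by
    rw [MvPolynomial.ringKrullDim_of_isNoetherianRing, ringKrullDim_eq_zero_of_field, zero_add,
      Nat.card_fin]
  have hgor : ∀ (𝔫 : Ideal (MvPolynomial (Fin n) k ⧸ I)) [𝔫.IsPrime],
      LocCoh.IsGorensteinLocalRing (Localization.AtPrime 𝔫) := by
    intro 𝔫 _
    rw [gor_iff_of_ringEquiv (locQuotEquiv I 𝔫)]
    haveI h𝔫max : 𝔫.IsMaximal := Ideal.isMaximal_of_isPrime 𝔫
    haveI hmmax : (𝔫.comap (Ideal.Quotient.mk I)).IsMaximal :=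
      Ideal.comap_isMaximal_of_surjective _ Ideal.Quotient.mk_surjective
    have hGL : LocCoh.IsGorensteinLocalRing
        (Localization.AtPrime (𝔫.comap (Ideal.Quotient.mk I))) :=
      (Groth.Agent.Helper12.GorFib.isGorensteinRing_of_isRegularRing
        (MvPolynomial (Fin n) k)).isGorensteinLocalRing_localization _
    haveI hCML : LocCoh.IsCohenMacaulayLocalRing
        (Localization.AtPrime (𝔫.comap (Ideal.Quotient.mk I))) :=
      (Groth.Agent.Helper7.CplFlat.isCohenMacaulayRing_of_isRegularRing
        (MvPolynomial (Fin n) k)).isCohenMacaulayLocalRing_localization _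
    set m := 𝔫.comap (Ideal.Quotient.mk I) with hm
    have hIm : I ≤ m := by
      intro x hx
      rw [hm, Ideal.mem_comap, Ideal.Quotient.eq_zero_iff_mem.mpr hx]
      exact 𝔫.zero_mem
    let xs : List (Localization.AtPrime m) :=
      (List.ofFn f).map (algebraMap (MvPolynomial (Fin n) k) (Localization.AtPrime m))
    have hofList : I = Ideal.ofList (List.ofFn f) := by
      rw [hI]; congr 1; ext x; simp [List.mem_ofFn]
    have hmapI : I.map (algebraMap (MvPolynomial (Fin n) k) (Localization.AtPrime m)) =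
        Ideal.ofList xs := by
      show Ideal.map _ (Ideal.span (Set.range f)) = Ideal.span {r | r ∈ xs}
      rw [Ideal.map_span]
      congr 1
      ext x
      simp [xs, List.mem_ofFn]
    have hmem : ∀ x ∈ xs, x ∈ maximalIdeal (Localization.AtPrime m) := by
      intro x hx
      obtain ⟨y, hy, rfl⟩ := List.mem_map.mp hx
      rw [IsLocalization.AtPrime.to_map_mem_maximal_iff (Localization.AtPrime m) m]
      apply hIm
      rw [List.mem_ofFn] at hy
      obtain ⟨i, rfl⟩ := hy
      exact Ideal.subset_span ⟨i, rfl⟩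
    have hlen : xs.length = n := by simp [xs]
    have hdimL : ringKrullDim (Localization.AtPrime m) = ((n : ℕ) : WithBot ℕ∞) := by
      rw [IsLocalization.AtPrime.ringKrullDim_eq_height m (Localization.AtPrime m)]
      have hc : ringKrullDim (MvPolynomial (Fin n) k ⧸ m) = ((0 : ℕ) : WithBot ℕ∞) := by
        rw [ringKrullDim_eq_zero_of_isField ((Ideal.Quotient.maximal_ideal_iff_isField_quotient m).mp
          hmmax)]
        rfl
      have h1 := Groth.Agent.Lib.Helper2.CMGlue.affine_height k (MvPolynomial (Fin n) k) m n 0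
        hdimP hc
      rw [Nat.cast_zero, add_zero] at h1
      rw [h1]
      rfl
    have hdimQ : ringKrullDim (Localization.AtPrime m ⧸ Ideal.ofList xs) = 0 := by
      have hA : IsArtinianRing (Localization.AtPrime 𝔫) := inferInstance
      have h00 : @ringKrullDim (Localization.AtPrime 𝔫) CommRing.toCommSemiring = 0 :=
        ringKrullDimZero_iff_ringKrullDim_eq_zero.mp
          (isArtinianRing_iff_isNoetherianRing_krullDimLE_zero.mp hA).2
      rw [← hmapI, ← ringKrullDim_eq_of_ringEquiv (locQuotEquiv I 𝔫)]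
      exact h00
    have hreg := Groth.Agent.S12082.reg_of_dim xs hmem (by rw [hdimQ, hdimL, hlen, zero_add])
    rw [hmapI]
    exact gor_quot_of_weaklyRegular n _ hGL xs hlen hmem hreg.toIsWeaklyRegular
  obtain ⟨lam, hlam⟩ := cyclic_of_gor (k := k) (F := MvPolynomial (Fin n) k ⧸ I) hgor
  let T : (MvPolynomial (Fin n) k ⧸ I) →ₗ[MvPolynomial (Fin n) k ⧸ I]
      Omega k (MvPolynomial (Fin n) k ⧸ I) := LinearMap.toSpanSingleton _ _ lam
  have hT : ∀ b, T b = b • lam := fun b => LinearMap.toSpanSingleton_apply _ _ _ _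
  have hsurj : Function.Surjective T := fun φ => by
    obtain ⟨b, hb⟩ := hlam φ
    exact ⟨b, by rw [hT, hb]⟩
  have hinj : Function.Injective T := by
    rw [← LinearMap.ker_eq_bot, LinearMap.ker_eq_bot']
    intro b hb
    apply Groth.Agent.S2217.faithful (A := k) b
    intro φ
    obtain ⟨c, rfl⟩ := hlam φ
    have h1 : b • c • lam = c • T b := by
      rw [hT]
      apply Omega.ext
      refine LinearMap.ext fun x => ?_
      simp only [Omega.smul_toLinearMap_apply]
      congr 1
      ring
    rw [h1, hb, smul_zero]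
  exact ⟨(LinearEquiv.ofBijective T ⟨hinj, hsurj⟩).symm⟩

end

/-- Let k be a field and B = k[x_1, …, x_n]/(f_1, …, f_n), a global complete intersection with as many
equations as variables, of Krull dimension 0. Then ω_{B/k} = Hom_k(B, k), with B acting through the
argument, is an invertible B-module; since B is Artinian this means it is free of rank one, which is
the form stated. -/
theorem result (k : Type u) [Field k] (n : ℕ) (f : Fin n → MvPolynomial (Fin n) k) (h0 : ringKrullDim (MvPolynomial (Fin n) k ⧸ Ideal.span (Set.range f)) = 0) : Nonempty (Disc.Omega k (MvPolynomial (Fin n) k ⧸ Ideal.span (Set.range f)) ≃ₗ[MvPolynomial (Fin n) k ⧸ Ideal.span (Set.range f)] (MvPolynomial (Fin n) k ⧸ Ideal.span (Set.range f))) := by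
  exact Groth.Agent.S8935.main k n f h0

end Groth.Agent.S8935
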