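import Groth.Statements.S8944
import Groth.Agent.S1790
import Groth.Agent.S8953
import Groth.Agent.Lib.Helper8.RelDz9
import Groth.Agent.Lib.Helper16.Sch.FibMap2

set_option autoImplicit false
universe u
open AlgebraicGeometry
open scoped TensorProduct
open Disc

namespace Groth.Agent.S8944
attribute [local instance] HasDerivedCategory.standard
open CategoryTheory AlgebraicGeometry in

/-- Let A → B be a flat homomorphism of Noetherian rings, and suppose it factors through a ring B′ as A
→ B′ → B, where B′ is finite over A and the induced map of spectra Spec(B) → Spec(B′) is an open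
immersion, so that the relative dualizing module is ω_{B/A} = Hom_A(B′, A) ⊗_{B′} B (B′ acting on
Hom_A(B′, A) through the argument). Then ω_{B/A} is a flat A-module. -/
theorem result (A B B' : Type u) [CommRing A] [CommRing B] [CommRing B'] [IsNoetherianRing A] [IsNoetherianRing B] [Algebra A B] [Module.Flat A B] [Algebra A B'] [Algebra B' B] [IsScalarTower A B' B] [Module.Finite A B'] (hopen : IsOpenImmersion (Spec.map (CommRingCat.ofHom (algebraMap B' B)))) : Module.Flat A (B ⊗[B'] Disc.Omega A B') := by
  classical
  haveI hoi : IsOpenImmersion (Spec.map (CommRingCat.ofHom (algebraMap B' B))) := hopen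
  have hft : (algebraMap B' B).FiniteType := by
    have h1 : LocallyOfFiniteType (Spec.map (CommRingCat.ofHom (algebraMap B' B))) := inferInstance
    rw [HasRingHomProperty.Spec_iff (P := @LocallyOfFiniteType)] at h1
    exact h1
  haveI : Algebra.FiniteType B' B := RingHom.finiteType_algebraMap.mp hft
  haveI : Algebra.FiniteType A B' := inferInstance
  haveI : Algebra.FiniteType A B := Algebra.FiniteType.trans (R := A) (S := B') (A := B)
    inferInstance inferInstance
  obtain ⟨n, ψ, hψ⟩ := Algebra.FiniteType.iff_quotient_mvPolynomial''.mp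
    (inferInstance : Algebra.FiniteType A B)
  haveI hLB : DRing.HasLBaseChange (algebraMap A (MvPolynomial (Fin n) A)) :=
    Groth.Agent.Helper3.KP.hasLeftDerivedFunctor _
  obtain ⟨Rψ, ⟨adj⟩⟩ := Groth.Agent.Helper11.Shr.exists_rightAdj ψ.toRingHom
  obtain ⟨e⟩ := Groth.Agent.S8953.result A B B' hopen n ψ hψ Rψ adj
  haveI hfin : IsFinite (Spec.map (CommRingCat.ofHom (algebraMap A B'))) := by
    rw [IsFinite.SpecMap_iff]
    exact RingHom.finite_algebraMap.mpr inferInstance
  haveI hqf : LocallyQuasiFinite (Spec.map (CommRingCat.ofHom (algebraMap A B))) := by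
    have h1 : Spec.map (CommRingCat.ofHom (algebraMap A B)) =
        Spec.map (CommRingCat.ofHom (algebraMap B' B)) ≫
          Spec.map (CommRingCat.ofHom (algebraMap A B')) := by
      rw [← Spec.map_comp, ← CommRingCat.ofHom_comp, ← IsScalarTower.algebraMap_eq]
    rw [h1]
    infer_instance
  haveI hlft : LocallyOfFiniteType (Spec.map (CommRingCat.ofHom (algebraMap A B))) :=
    Groth.Agent.Helper8.RelDz.lft_SpecMap A B
  have hd : ∀ q : PrimeSpectrum B, FlatMor.fibreDimAt
      (Spec.map (CommRingCat.ofHom (algebraMap A B))) q ≤ ((0 : ℕ) : WithBot ℕ∞) := by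
    intro q
    exact (Groth.Agent.Helper16.FibMap.locallyQuasiFinite_iff_fibreDimAt _).mp hqf q
  have hamp := (Groth.Agent.S1790.result A B n ψ hψ Rψ adj 0).2 hd
  have hamp' : DRing.HasTorAmplitudeIn A 0 0 ((DRing.restrictD (algebraMap A B)).obj
      (Dual2.shriekVia n Rψ (Dual.inD A A))) := by simpa using hamp
  obtain ⟨hflat, -⟩ := Groth.Agent.Helper8.RelDz.flat_HD_of_hasTorAmplitudeIn A 0 _ hamp'
  have hiso := Groth.Agent.Helper11.DC.homologyRestrictIso
    (algebraMap A B) (Dual2.shriekVia n Rψ (Dual.inD A A)) 0
  haveI hfl : Module.Flat A ((ModuleCat.restrictScalars.{u} (algebraMap A B)).obj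
      ((DerivedCategory.homologyFunctor (ModuleCat.{u} B) 0).obj
        (Dual2.shriekVia n Rψ (Dual.inD A A)))) :=
    Module.Flat.of_linearEquiv (hiso).symm.toLinearEquiv
  let L : ((ModuleCat.restrictScalars.{u} (algebraMap A B)).obj
      ((DerivedCategory.homologyFunctor (ModuleCat.{u} B) 0).obj
        (Dual2.shriekVia n Rψ (Dual.inD A A)))) ≃ₗ[A] (TensorProduct B' B (Disc.Omega A B')) :=
    { toFun := fun y => e y
      map_add' := fun x y => e.map_add x y
      map_smul' := fun a y => by
        have h1 := e.map_smul (algebraMap A B a) y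
        refine h1.trans ?_
        exact algebraMap_smul B a (e y)
      invFun := fun z => e.symm z
      left_inv := fun y => e.symm_apply_apply y
      right_inv := fun z => e.apply_symm_apply z }
  exact Module.Flat.of_linearEquiv L.symm

end Groth.Agent.S8944
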