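import Groth.Statements.S8947
import Groth.Agent.Lib.Helper8.CMExt6

set_option autoImplicit false
universe u
open CategoryTheory AlgebraicGeometry
attribute [local instance] HasDerivedCategory.standard
open Dual2

namespace Groth.Agent.S8947
attribute [local instance] HasDerivedCategory.standard
attribute [local instance] Algebra.TensorProduct.rightAlgebra
open TensorProduct in

/-- Let R → A be a finite type map of Noetherian rings with relative dualizing complex ω_{A/R} =
φ^!(R[0]) (computed through a presentation ψ : R[x_1, …, x_n] → A as RHom_P(A, R ⊗^L_R P)[n], the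
derived base change being assumed to exist and RHom_P(A, −) being a right adjoint of restriction of
scalars). Let p be a prime of R such that R_p is Cohen–Macaulay, and r a natural number bounding the
transcendence degree of κ(q) over κ(R ∩ q) for every minimal prime q of A. Then, S denoting the
image of R ∖ p in A, the localization S⁻¹H^i(ω_{A/R}) is nonzero only if −r ≤ i, and
S⁻¹H^{−r}(ω_{A/R}) satisfies Serre's condition (S_2) as an S⁻¹A-module. -/
theorem result (R A : Type u) [CommRing R] [CommRing A] [IsNoetherianRing R] [IsNoetherianRing A] [Algebra R A] (n : ℕ) (ψ : MvPolynomial (Fin n) R →ₐ[R] A) (hψ : Function.Surjective ψ) [DRing.HasLBaseChange (algebraMap R (MvPolynomial (Fin n) R))] (Rψ : Dual.D (MvPolynomial (Fin n) R) ⥤ Dual.D A) (adj : DRing.restrictD ψ.toRingHom ⊣ Rψ) (p : Ideal R) [p.IsPrime] [LocCoh.IsCohenMacaulayLocalRing (Localization.AtPrime p)] (r : ℕ) (hr : ∀ q : PrimeSpectrum A, q.asIdeal ∈ minimalPrimes A → Dual3.resTrdeg (Spec.map (CommRingCat.ofHom (algebraMap R A))) q ≤ (r : Cardinal.{u})) : (∀ i : ℤ, Nontrivial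 (LocalizedModule (Algebra.algebraMapSubmonoid A p.primeCompl) (Dual.HD A (Dual2.shriekVia n Rψ (Dual.inD R R)) i)) → -(r : ℤ) ≤ i) ∧ LocCoh.HasSk 2 (Localization (Algebra.algebraMapSubmonoid A p.primeCompl)) (LocalizedModule (Algebra.algebraMapSubmonoid A p.primeCompl) (Dual.HD A (Dual2.shriekVia n Rψ (Dual.inD R R)) (-(r : ℤ)))) := by
  classical
  haveI : IsNoetherianRing (Localization.AtPrime p) :=
    IsLocalization.isNoetherianRing p.primeCompl _ inferInstance
  haveI : Module.Flat R (Localization.AtPrime p) := IsLocalization.flat _ p.primeCompl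
  haveI hCM' : LocCoh.IsCohenMacaulayRing (Localization.AtPrime p) :=
    { isCohenMacaulayLocalRing_localization := fun P _ =>
        Groth.Agent.Helper28.ClosedSpec.isCM_localization_atPrime _ P }
  haveI : DRing.HasLBaseChange (algebraMap (Localization.AtPrime p)
      (MvPolynomial (Fin n) (Localization.AtPrime p))) :=
    Groth.Agent.Helper3.KP.hasLeftDerivedFunctor _
  have hψ' : Function.Surjective
      (Groth.Agent.Helper11.Shr.psiBC (R' := Localization.AtPrime p) ψ) :=
    Groth.Agent.Helper11.Shr.psiBC_surjective ψ hψ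
  haveI : IsNoetherianRing (TensorProduct R (Localization.AtPrime p) A) :=
    isNoetherianRing_of_surjective _ _
      (Groth.Agent.Helper11.Shr.psiBC (R' := Localization.AtPrime p) ψ).toRingHom hψ'
  obtain ⟨Rψ', ⟨adj'⟩⟩ := Groth.Agent.Helper11.Shr.exists_rightAdj
    (Groth.Agent.Helper11.Shr.psiBC (R' := Localization.AtPrime p) ψ).toRingHom
  have hht := (Groth.Agent.Helper8.CMExt.height_ker_ge R A n ψ hψ r hr).trans
    (Groth.Agent.Helper8.CMExt.height_ker_psiBC R A p.primeCompl (Localization.AtPrime p) n ψ)
  obtain ⟨hvan, hS2⟩ := Groth.Agent.Helper8.CMExt.cm_base (Localization.AtPrime p)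
    (TensorProduct R (Localization.AtPrime p) A) n
    (Groth.Agent.Helper11.Shr.psiBC (R' := Localization.AtPrime p) ψ) hψ' Rψ' adj' r hht
  have hbc := fun i => Groth.Agent.Helper8.CMExt.nonempty_HD_baseChange R (Localization.AtPrime p)
    A n ψ hψ Rψ adj Rψ' adj' i
  haveI hloc : IsLocalization (Algebra.algebraMapSubmonoid A p.primeCompl)
      (TensorProduct R (Localization.AtPrime p) A) := IsLocalization.tensorRight _ p.primeCompl
  refine ⟨fun i hi => ?_, ?_⟩
  · by_contra hlt
    push_neg at hlt
    haveI := hvan i hlt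
    obtain ⟨e⟩ := hbc i
    have hnt := Groth.Agent.Helper8.CMExt.nontrivial_tensor_of_localized
      (Algebra.algebraMapSubmonoid A p.primeCompl) (TensorProduct R (Localization.AtPrime p) A) _ hi
    haveI := e.toEquiv.nontrivial
    exact not_subsingleton _ ‹Subsingleton (Dual.HD (TensorProduct R (Localization.AtPrime p) A)
      (Dual2.shriekVia n Rψ' (Dual.inD (Localization.AtPrime p) (Localization.AtPrime p))) i)›
  · obtain ⟨e⟩ := hbc (-(r : ℤ))
    haveI := Groth.Agent.Helper8.CMExt.finite_HD_shriekVia R A n ψ hψ Rψ adj (-(r : ℤ))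
    have h1 := (Groth.Agent.Lead.Fib.hasSk_congr 2 e).mp hS2
    exact Groth.Agent.Helper8.CMExt.hasSk_localization_of_tensor _
      (TensorProduct R (Localization.AtPrime p) A) _ 2 h1

end Groth.Agent.S8947
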