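import Groth.Statements.S8950
import Mathlib
import Groth.Agent.Lib.Helper2.CIAsc5
-- import your own Groth.Agent.* helpers here

set_option autoImplicit false
universe u
open scoped TensorProduct
open CInt

namespace Groth.Agent.S8950

section

open TensorProduct IsLocalRing Groth.Agent.Helper2.CIAsc

/-- a finitely generated field extension is the residue field of a polynomial ring at a prime. -/
theorem exists_residueField_equiv (k K : Type u) [Field k] [Field K] [Algebra k K]
    (s : Finset K) (hs : IntermediateField.adjoin k (s : Set K) = ⊤) :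
    ∃ (𝔭 : Ideal (MvPolynomial {x // x ∈ s} k)) (_ : 𝔭.IsPrime),
      Nonempty (𝔭.ResidueField ≃ₐ[k] K) := by
  let φ : MvPolynomial {x // x ∈ s} k →ₐ[k] K := MvPolynomial.aeval (fun i => (i.1 : K))
  let 𝔭 : Ideal (MvPolynomial {x // x ∈ s} k) := RingHom.ker φ
  haveI : 𝔭.IsPrime := RingHom.ker_isPrime φ
  have hunit : 𝔭.primeCompl ≤ (IsUnit.submonoid K).comap φ := by
    intro x hx
    rw [Submonoid.mem_comap, IsUnit.mem_submonoid_iff, isUnit_iff_ne_zero]
    exact hx
  let ψ : 𝔭.ResidueField →ₐ[k] K := Ideal.ResidueField.liftₐ 𝔭 φ le_rfl hunit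
  have hinj : Function.Injective ψ := ψ.toRingHom.injective
  have hsurj : Function.Surjective ψ := by
    rw [← AlgHom.fieldRange_eq_top, eq_top_iff, ← hs, IntermediateField.adjoin_le_iff]
    intro x hx
    have hx' : x ∈ s := Finset.mem_coe.mp hx
    refine AlgHom.mem_fieldRange.mpr ⟨algebraMap (MvPolynomial {x // x ∈ s} k) 𝔭.ResidueField
      (MvPolynomial.X (⟨x, hx'⟩ : {x // x ∈ s})), ?_⟩
    rw [Ideal.ResidueField.liftₐ_algebraMap]
    simp [φ]
  exact ⟨𝔭, inferInstance, ⟨AlgEquiv.ofBijective ψ ⟨hinj, hsurj⟩⟩⟩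

/-- `K ⊗_k L` is locally a complete intersection for `K/k` finitely generated, `L/k` any field. -/
theorem isLCIRing_tensor_field (k K : Type u) [Field k] [Field K] [Algebra k K]
    (hK : ∃ s : Finset K, IntermediateField.adjoin k (s : Set K) = ⊤)
    (L : Type u) [Field L] [Algebra k L] : IsLCIRing (K ⊗[k] L) := by
  obtain ⟨s, hs⟩ := hK
  obtain ⟨𝔭, _, ⟨e⟩⟩ := exists_residueField_equiv k K s hs
  haveI : IsRegularRing (MvPolynomial {x // x ∈ s} L) := inferInstance
  haveI : IsRegularRing (MvPolynomial {x // x ∈ s} k) := inferInstance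
  let eT : (MvPolynomial {x // x ∈ s} k ⊗[k] L) ≃+* MvPolynomial {x // x ∈ s} L :=
    (Algebra.TensorProduct.comm k (MvPolynomial {x // x ∈ s} k) L).toRingEquiv.trans
      (MvPolynomial.algebraTensorAlgEquiv (σ := {x // x ∈ s}) k L).toRingEquiv
  haveI : IsRegularRing (MvPolynomial {x // x ∈ s} k ⊗[k] L) :=
    IsRegularRing.of_ringEquiv eT.symm
  have hfib := isLCIRing_fiber_of_regular (P := MvPolynomial {x // x ∈ s} k)
    (T := MvPolynomial {x // x ∈ s} k ⊗[k] L) 𝔭
  let e1 : 𝔭.Fiber (MvPolynomial {x // x ∈ s} k ⊗[k] L) ≃+* 𝔭.ResidueField ⊗[k] L :=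
    (Algebra.TensorProduct.cancelBaseChange k (MvPolynomial {x // x ∈ s} k)
      (MvPolynomial {x // x ∈ s} k) 𝔭.ResidueField L).toRingEquiv
  let e2 : 𝔭.ResidueField ⊗[k] L ≃+* K ⊗[k] L :=
    (Algebra.TensorProduct.congr e (AlgEquiv.refl : L ≃ₐ[k] L)).toRingEquiv
  exact isLCIRing_of_ringEquiv _ _ (e1.trans e2) hfib

theorem main (k K R : Type u) [Field k] [Field K] [Algebra k K] (hK : ∃ s : Finset K, IntermediateField.adjoin k (s : Set K) = ⊤) [CommRing R] [Algebra k R] [IsNoetherianRing R] (hR : ∀ (p : Ideal R) [p.IsPrime], Pi1.IsCompleteIntersection (Localization.AtPrime p)) : IsNoetherianRing (K ⊗[k] R) ∧ ∀ (P : Ideal (K ⊗[k] R)) [P.IsPrime], Pi1.IsCompleteIntersection (Localization.AtPrime P) := by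
  haveI : Algebra.EssFiniteType k K := IntermediateField.fg_top_iff.mp hK
  have h1 : Algebra.EssFiniteType R (R ⊗[k] K) := inferInstance
  haveI h2 : IsNoetherianRing (R ⊗[k] K) := Algebra.EssFiniteType.isNoetherianRing R _
  let ec : (R ⊗[k] K) ≃+* (K ⊗[k] R) := (Algebra.TensorProduct.comm k R K).toRingEquiv
  refine ⟨isNoetherianRing_of_ringEquiv _ ec, ?_⟩
  have hlci : IsLCIRing (R ⊗[k] K) := by
    apply isLCIRing_of_flat_of_lci_fibres (R := R) (S := R ⊗[k] K) hR
    intro p _
    let e1 : p.Fiber (R ⊗[k] K) ≃+* p.ResidueField ⊗[k] K :=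
      (Algebra.TensorProduct.cancelBaseChange k R R p.ResidueField K).toRingEquiv
    let e2 : p.ResidueField ⊗[k] K ≃+* K ⊗[k] p.ResidueField :=
      (Algebra.TensorProduct.comm k p.ResidueField K).toRingEquiv
    exact isLCIRing_of_ringEquiv _ _ (e1.trans e2).symm
      (isLCIRing_tensor_field k K hK p.ResidueField)
  exact isLCIRing_of_ringEquiv _ _ ec hlci

end

/-- Base change of the local complete intersection property along finitely generated field extensions.
Suppose R is a Noetherian k-algebra, k a field, with every local ring of R a complete intersection,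
and suppose K is finitely generated as a field over k; then the tensor product K ⊗_k R is again a
Noetherian ring, and every localization of it at a prime is a complete intersection. -/
theorem result (k K R : Type u) [Field k] [Field K] [Algebra k K] (hK : ∃ s : Finset K, IntermediateField.adjoin k (s : Set K) = ⊤) [CommRing R] [Algebra k R] [IsNoetherianRing R] (hR : ∀ (p : Ideal R) [p.IsPrime], Pi1.IsCompleteIntersection (Localization.AtPrime p)) : IsNoetherianRing (K ⊗[k] R) ∧ ∀ (P : Ideal (K ⊗[k] R)) [P.IsPrime], Pi1.IsCompleteIntersection (Localization.AtPrime P) := by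
  exact Groth.Agent.S8950.main k K R hK hR

end Groth.Agent.S8950
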