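import Groth.Statements.S8954
import Mathlib
import Groth.Agent.Lib.Helper2.FinSynt1
import Groth.Agent.Lib.Helper15.UbfAlg
import Groth.Agent.S9147
import Groth.Agent.Lib.Helper2.SyntSch1
-- import your own Groth.Agent.* helpers here

set_option autoImplicit false
universe u
open Synt

namespace Groth.Agent.S8954

section
open TensorProduct

/-- local generation bound on the conormal module -/
theorem cot_finrank_le {P : Type u} [CommRing P] (I : Ideal P) (𝔪 : Ideal (P ⧸ I))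
    [h𝔪 : 𝔪.IsMaximal] (l₀ : List P) (hl₀ : ∀ a ∈ l₀, a ∈ I) (g : P)
    (hg : Ideal.Quotient.mk I g ∉ 𝔪) (hmul : ∀ a ∈ I, g * a ∈ Ideal.ofList l₀) :
    Module.finrank ((P ⧸ I) ⧸ 𝔪) (((P ⧸ I) ⧸ 𝔪) ⊗[P ⧸ I] I.Cotangent) ≤ l₀.length := by
  letI := Ideal.Quotient.field 𝔪
  let b : Fin l₀.length → ((P ⧸ I) ⧸ 𝔪) ⊗[P ⧸ I] I.Cotangent := fun i =>
    (1 : (P ⧸ I) ⧸ 𝔪) ⊗ₜ[P ⧸ I] I.toCotangent ⟨l₀.get i, hl₀ _ (List.get_mem _ _)⟩
  have hsm : ∀ (c : P) (x : P) (hx : x ∈ I),
      (1 : (P ⧸ I) ⧸ 𝔪) ⊗ₜ[P ⧸ I] I.toCotangent ⟨c * x, I.mul_mem_left c hx⟩ =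
      (algebraMap (P ⧸ I) ((P ⧸ I) ⧸ 𝔪) (Ideal.Quotient.mk I c)) •
        ((1 : (P ⧸ I) ⧸ 𝔪) ⊗ₜ[P ⧸ I] I.toCotangent ⟨x, hx⟩) := by
    intro c x hx
    have h1 : I.toCotangent ⟨c * x, I.mul_mem_left c hx⟩ =
        (Ideal.Quotient.mk I c) • I.toCotangent ⟨x, hx⟩ := by
      rw [← Ideal.Quotient.algebraMap_eq, algebraMap_smul, ← map_smul]
      rfl
    rw [h1, TensorProduct.tmul_smul, algebraMap_smul]
  have key : ∀ x (hx : x ∈ Ideal.ofList l₀), ∃ hxI : x ∈ I,
      (1 : (P ⧸ I) ⧸ 𝔪) ⊗ₜ[P ⧸ I] I.toCotangent ⟨x, hxI⟩ ∈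
        Submodule.span ((P ⧸ I) ⧸ 𝔪) (Set.range b) := by
    intro x hx
    rw [Ideal.ofList] at hx
    induction hx using Submodule.span_induction with
    | mem x hx =>
      obtain ⟨i, rfl⟩ := List.mem_iff_get.mp hx
      exact ⟨hl₀ _ (List.get_mem _ _), Submodule.subset_span ⟨i, rfl⟩⟩
    | zero =>
      refine ⟨I.zero_mem, ?_⟩
      have : I.toCotangent ⟨0, I.zero_mem⟩ = 0 := map_zero _
      rw [this, TensorProduct.tmul_zero]
      exact Submodule.zero_mem _
    | add x y _ _ hx hy =>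
      obtain ⟨hxI, hx'⟩ := hx
      obtain ⟨hyI, hy'⟩ := hy
      refine ⟨I.add_mem hxI hyI, ?_⟩
      have : I.toCotangent ⟨x + y, I.add_mem hxI hyI⟩ =
          I.toCotangent ⟨x, hxI⟩ + I.toCotangent ⟨y, hyI⟩ :=
        map_add I.toCotangent ⟨x, hxI⟩ ⟨y, hyI⟩
      rw [this, TensorProduct.tmul_add]
      exact Submodule.add_mem _ hx' hy'
    | smul c x _ hx =>
      obtain ⟨hxI, hx'⟩ := hx
      refine ⟨I.mul_mem_left c hxI, ?_⟩
      show (1 : (P ⧸ I) ⧸ 𝔪) ⊗ₜ[P ⧸ I] I.toCotangent ⟨c * x, I.mul_mem_left c hxI⟩ ∈ _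
      rw [hsm c x hxI]
      exact Submodule.smul_mem _ _ hx'
  have hall : ∀ a (ha : a ∈ I), (1 : (P ⧸ I) ⧸ 𝔪) ⊗ₜ[P ⧸ I] I.toCotangent ⟨a, ha⟩ ∈
      Submodule.span ((P ⧸ I) ⧸ 𝔪) (Set.range b) := by
    intro a ha
    obtain ⟨hgaI, hmem⟩ := key (g * a) (hmul a ha)
    rw [hsm g a ha] at hmem
    have hne : algebraMap (P ⧸ I) ((P ⧸ I) ⧸ 𝔪) (Ideal.Quotient.mk I g) ≠ 0 := by
      rw [Ideal.Quotient.algebraMap_eq, Ne, Ideal.Quotient.eq_zero_iff_mem]
      exact hg
    have := Submodule.smul_mem _ (algebraMap (P ⧸ I) ((P ⧸ I) ⧸ 𝔪) (Ideal.Quotient.mk I g))⁻¹ hmem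
    rwa [smul_smul, inv_mul_cancel₀ hne, one_smul] at this
  have htop : Submodule.span ((P ⧸ I) ⧸ 𝔪) (Set.range b) = ⊤ := by
    rw [eq_top_iff]
    rintro v -
    induction v using TensorProduct.induction_on with
    | zero => exact Submodule.zero_mem _
    | tmul k c =>
      obtain ⟨⟨a, ha⟩, rfl⟩ := I.toCotangent_surjective c
      have : k ⊗ₜ[P ⧸ I] I.toCotangent ⟨a, ha⟩ =
          k • ((1 : (P ⧸ I) ⧸ 𝔪) ⊗ₜ[P ⧸ I] I.toCotangent ⟨a, ha⟩) := by
        rw [TensorProduct.smul_tmul', smul_eq_mul, mul_one]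
      rw [this]
      exact Submodule.smul_mem _ _ (hall a ha)
    | add x y hx hy => exact Submodule.add_mem _ hx hy
  have h1 := finrank_range_le_card (R := (P ⧸ I) ⧸ 𝔪) b
  rw [Set.finrank, htop, finrank_top, Fintype.card_fin] at h1
  exact h1

end

section Gens
open TensorProduct Groth.Agent.Helper2.FinSynt Groth.Agent.Helper15.UbfAlg

variable {A B : Type u} [CommRing A] [IsLocalRing A] [CommRing B] [Algebra A B] [Module.Finite A B]

/-- a finite algebra over a local ring is semilocal -/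
theorem finite_maximalSpectrum (T : Type u) [CommRing T] [Algebra A T] [Module.Finite A T] :
    Finite (MaximalSpectrum T) := by
  have h1 : ((IsLocalRing.maximalIdeal A).primesOver T).Finite :=
    Algebra.QuasiFinite.finite_primesOver _
  have : Finite ((IsLocalRing.maximalIdeal A).primesOver T) := h1
  refine Finite.of_injective (fun n : MaximalSpectrum T ↦
    (⟨n.asIdeal, n.isMaximal.isPrime, ⟨?_⟩⟩ : (IsLocalRing.maximalIdeal A).primesOver T)) ?_
  · have := Ideal.isMaximal_comap_of_isIntegral_of_isMaximal (R := A) n.asIdeal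
      (hI := n.isMaximal)
    exact (IsLocalRing.eq_maximalIdeal this).symm
  · intro n n' h
    exact MaximalSpectrum.ext (congr_arg Subtype.val h)

theorem exists_gens (hs : Synt.IsSyntomic A B) (n : ℕ) (φ : MvPolynomial (Fin n) A →ₐ[A] B)
    (hφ : Function.Surjective φ) (hfg : (RingHom.ker φ.toRingHom).FG) :
    ∃ (f : Fin n → MvPolynomial (Fin n) A) (h : MvPolynomial (Fin n) A),
      Ideal.span (Set.range f) ≤ RingHom.ker φ.toRingHom ∧ h - 1 ∈ RingHom.ker φ.toRingHom ∧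
      ∀ a ∈ RingHom.ker φ.toRingHom, h * a ∈ Ideal.span (Set.range f) := by
  classical
  obtain ⟨I, hI⟩ : ∃ I : Ideal (MvPolynomial (Fin n) A), I = RingHom.ker φ.toRingHom := ⟨_, rfl⟩
  rw [← hI] at hfg ⊢
  let eT : (MvPolynomial (Fin n) A ⧸ RingHom.ker φ.toRingHom) ≃ₐ[A] B :=
    Ideal.quotientKerAlgEquivOfSurjective hφ
  have heT : ∀ x, eT (Ideal.Quotient.mk _ x) = φ x := fun x => rfl
  haveI : Module.Finite A (MvPolynomial (Fin n) A ⧸ RingHom.ker φ.toRingHom) :=
    Module.Finite.equiv eT.symm.toLinearEquiv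
  haveI hfinI : Module.Finite A (MvPolynomial (Fin n) A ⧸ I) := by rw [hI]; infer_instance
  haveI := finite_maximalSpectrum (A := A) (MvPolynomial (Fin n) A ⧸ I)
  haveI : Module.Finite (MvPolynomial (Fin n) A) I := Module.Finite.iff_fg.mpr hfg
  haveI : Module.Finite (MvPolynomial (Fin n) A) I.Cotangent :=
    Module.Finite.of_surjective I.toCotangent I.toCotangent_surjective
  haveI : Module.Finite (MvPolynomial (Fin n) A ⧸ I) I.Cotangent :=
    Module.Finite.of_restrictScalars_finite (MvPolynomial (Fin n) A) _ _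
  have bound : ∀ 𝔪 : MaximalSpectrum (MvPolynomial (Fin n) A ⧸ I),
      @Module.finrank ((MvPolynomial (Fin n) A ⧸ I) ⧸ 𝔪.1)
        (((MvPolynomial (Fin n) A ⧸ I) ⧸ 𝔪.1) ⊗[MvPolynomial (Fin n) A ⧸ I] I.Cotangent) _ _ _ ≤ n := by
    intro 𝔪
    subst hI
    haveI := 𝔪.isMaximal
    haveI : (Ideal.comap (eT.symm.toAlgHom.toRingHom) 𝔪.asIdeal).IsPrime := Ideal.comap_isPrime _ _
    obtain ⟨l₀, g₂, hl₀, hlen, hg₂, hnak⟩ := exists_gen hs n φ hφ hfg
      (Ideal.comap (eT.symm.toAlgHom.toRingHom) 𝔪.asIdeal)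
    have hg : Ideal.Quotient.mk (RingHom.ker φ.toRingHom) g₂ ∉ 𝔪.asIdeal := by
      intro hmem
      apply hg₂
      rw [Ideal.mem_comap, Ideal.mem_comap]
      have : (eT.symm.toAlgHom.toRingHom) (φ.toRingHom g₂) = Ideal.Quotient.mk _ g₂ := by
        apply eT.injective
        show eT (eT.symm (φ g₂)) = _
        rw [eT.apply_symm_apply, heT]
      rw [this]
      exact hmem
    exact (cot_finrank_le _ 𝔪.asIdeal l₀ hl₀ g₂ hg hnak).trans hlen
  obtain ⟨b, hb⟩ := exists_span_eq_top_of_finrank_le (A := MvPolynomial (Fin n) A ⧸ I)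
    (M := I.Cotangent) n bound
  choose f' hf' using fun i => I.toCotangent_surjective (b i)
  -- every element of `I` is in `(f) + I²`
  have hsq : ∀ a ∈ I, ∃ j ∈ Ideal.span (Set.range fun i => (f' i : MvPolynomial (Fin n) A)),
      a - j ∈ I ^ 2 := by
    intro a ha
    have hmem : I.toCotangent ⟨a, ha⟩ ∈ Submodule.span (MvPolynomial (Fin n) A ⧸ I) (Set.range b) := by
      rw [hb]; trivial
    obtain ⟨c, hc⟩ := (Submodule.mem_span_range_iff_exists_fun _).mp hmem
    choose c' hc' using fun i => Ideal.Quotient.mk_surjective (c i)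
    refine ⟨∑ i, c' i * (f' i : MvPolynomial (Fin n) A), ?_, ?_⟩
    · refine Ideal.sum_mem _ (fun i _ => Ideal.mul_mem_left _ _ (Ideal.subset_span ⟨i, rfl⟩))
    · have h1 : I.toCotangent (⟨a, ha⟩ - ∑ i, c' i • f' i) = 0 := by
        rw [map_sub, map_sum, ← hc, sub_eq_zero]
        refine Finset.sum_congr rfl (fun i _ => ?_)
        rw [map_smul, hf' i, ← hc' i, ← Ideal.Quotient.algebraMap_eq, algebraMap_smul]
      rw [Ideal.toCotangent_eq_zero] at h1
      convert h1 using 1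
      simp
  let J : Ideal (MvPolynomial (Fin n) A) :=
    Ideal.span (Set.range fun i => (f' i : MvPolynomial (Fin n) A))
  have hJI : J ≤ I := by
    rw [Ideal.span_le]
    rintro _ ⟨i, rfl⟩
    exact (f' i).2
  let N : Submodule (MvPolynomial (Fin n) A) (MvPolynomial (Fin n) A ⧸ J) :=
    Submodule.map (Submodule.mkQ J) I
  have hN : N.FG := Submodule.FG.map _ hfg
  have hin : N ≤ I • N := by
    rintro _ ⟨a, ha, rfl⟩
    obtain ⟨j, hj, hs2⟩ := hsq a ha
    have h1 : Submodule.mkQ J a = Submodule.mkQ J (a - j) := by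
      have h0 : Submodule.mkQ J j = 0 := (Submodule.Quotient.mk_eq_zero J).mpr hj
      rw [map_sub, h0, sub_zero]
    rw [h1]
    have h2 : a - j ∈ I • (I : Submodule (MvPolynomial (Fin n) A) (MvPolynomial (Fin n) A)) := by
      rw [pow_two] at hs2
      exact hs2
    have h3 := Submodule.mem_map_of_mem (f := Submodule.mkQ J) h2
    rwa [Submodule.map_smul''] at h3
  obtain ⟨r, hr, hr0⟩ := Submodule.exists_sub_one_mem_and_smul_eq_zero_of_fg_of_le_smul I N hN hin
  refine ⟨fun i => (f' i : MvPolynomial (Fin n) A), r, hJI, hr, ?_⟩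
  intro a ha
  have h1 := hr0 _ (Submodule.mem_map_of_mem (f := Submodule.mkQ J) ha)
  rw [← map_smul, Submodule.mkQ_apply, Submodule.Quotient.mk_eq_zero] at h1
  exact h1

end Gens

section Main
open Groth.Agent.Helper2.AwayIso Groth.Agent.Helper2.SyntRel

theorem krull_zero (k F : Type u) [Field k] [CommRing F] [Algebra k F] [Module.Finite k F]
    [Nontrivial F] : ringKrullDim F = 0 := by
  haveI : IsArtinianRing F := IsArtinianRing.of_finite k F
  exact ringKrullDimZero_iff_ringKrullDim_eq_zero.mp inferInstance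

variable (A B : Type u) [CommRing A] [IsLocalRing A] [CommRing B] [Algebra A B] [Module.Finite A B]

theorem forward (hs : Synt.IsSyntomic A B) :
    ∃ (n : ℕ) (F : Fin n → MvPolynomial (Fin n) A), Nonempty (B ≃ₐ[A] Synt.RelGCIRing A n n F) := by
  obtain ⟨n, φ, hφ, hfg⟩ := hs.2.1.out
  obtain ⟨f, h, hle, hh, hK⟩ := exists_gens hs n φ hφ hfg
  have hφh : φ h = 1 := by
    have h1 : φ (h - 1) = 0 := hh
    rw [map_sub, map_one, sub_eq_zero] at h1
    exact h1
  have hunits : ∀ x ∈ Submonoid.powers (φ h), IsUnit x := by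
    rintro _ ⟨k, rfl⟩
    simp only [hφh, one_pow, isUnit_one]
  let iso1 : B ≃ₐ[A] Localization.Away (φ h) :=
    (IsLocalization.atUnits B (Submonoid.powers (φ h)) (S := Localization.Away (φ h))
      hunits).restrictScalars A
  obtain ⟨iso2⟩ := nonempty_away_equiv_of_le φ hφ (Ideal.span (Set.range f)) hle h hK
  exact ⟨n + 1, F' A n n f h, ⟨iso1.trans (iso2.trans (awayEquiv A n n f h))⟩⟩

omit [IsLocalRing A] in
theorem backward (n : ℕ) (F : Fin n → MvPolynomial (Fin n) A)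
    (e : B ≃ₐ[A] Synt.RelGCIRing A n n F) : Synt.IsSyntomic A B := by
  haveI : Module.Finite A (Synt.RelGCIRing A n n F) := Module.Finite.equiv e.toLinearEquiv
  have hrel : Synt.IsRelGCI A n n F := by
    intro p hnt
    refine ⟨le_rfl, ?_⟩
    haveI : Module.Finite p.asIdeal.ResidueField (p.asIdeal.Fiber (Synt.RelGCIRing A n n F)) :=
      Module.Finite.base_change A p.asIdeal.ResidueField _
    rw [Nat.sub_self]
    exact krull_zero p.asIdeal.ResidueField (p.asIdeal.Fiber (Synt.RelGCIRing A n n F))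
  have hs := Groth.Agent.S9147.result A n n F hrel
  exact Groth.Agent.Helper2.SyntSch.isSyntomic_of_ringEquiv (RingEquiv.refl A)
    e.symm.toRingEquiv (fun r => by
      show e.symm (algebraMap A _ r) = algebraMap A B r
      exact e.symm.commutes r) hs

theorem main : Synt.IsSyntomic A B ↔ ∃ (n : ℕ) (F : Fin n → MvPolynomial (Fin n) A),
    Nonempty (B ≃ₐ[A] Synt.RelGCIRing A n n F) :=
  ⟨forward A B, fun ⟨n, F, ⟨e⟩⟩ => backward A B n F e⟩

end Main

/-- The equivalence of being finite syntomic with having a square presentation, stated over a local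
base. For a local ring A and a finite A-algebra B, the map A → B is syntomic if and only if B ≅
A[x_1, …, x_n]/(f_1, …, f_n) as A-algebras for some n and f_1, …, f_n ∈ A[x_1, …, x_n]. (The
published statement is for a finite morphism of schemes and asserts such a presentation over some
affine open neighbourhood of each point of the base; over a local base that neighbourhood is the
whole spectrum.) -/
theorem result (A B : Type u) [CommRing A] [IsLocalRing A] [CommRing B] [Algebra A B] [Module.Finite A B] : Synt.IsSyntomic A B ↔ ∃ (n : ℕ) (F : Fin n → MvPolynomial (Fin n) A), Nonempty (B ≃ₐ[A] Synt.RelGCIRing A n n F) := by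
  exact Groth.Agent.S8954.main A B

end Groth.Agent.S8954
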