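import Groth.Statements.S8960
import Mathlib

set_option autoImplicit false
universe u
open QFDual

namespace Groth.Agent.S8960

open TensorProduct in

/-- Suppose the Dedekind different of A → B is defined: A is Noetherian, B is a finite A-algebra,
nonzerodivisors of A are nonzerodivisors on B, and with K = Q(A) the total ring of fractions and L =
B ⊗_A K the map K → L is étale (here with L finite free over K). If A → B is flat, then
Trace_{L/K}(b) lies in A for every b ∈ B; equivalently 1 ∈ 𝓛_{B/A}, the Dedekind complementary
module. -/
theorem result (A K B L : Type u) [CommRing A] [CommRing K] [CommRing B] [CommRing L] [Algebra A K] [Algebra A B] [Algebra B L] [Algebra K L] [Algebra A L] [IsScalarTower A K L] [IsScalarTower A B L] (h : QFDual.IsDedekindDefined A K B L) [Module.Flat A B] : (1 : L) ∈ QFDual.complementary A K B L := by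
  classical
  intro b
  have hfr : IsLocalization (nonZeroDivisors A) K := h.isFractionRing
  have hlocL := h.isLocalization
  have hnoeth := h.isNoetherianRing
  have hfinAB := h.finite
  have hfree := h.free
  have hfinKL := h.finiteKL
  have hfp : Module.FinitePresentation A B := Module.finitePresentation_of_finite A B
  have hproj : Module.Projective A B := Module.Flat.projective_of_finitePresentation
  obtain ⟨n, f, g, -, -, hfg⟩ := Module.Finite.exists_comp_eq_id_of_projective A B
  let ι : B →ₗ[A] L := (IsScalarTower.toAlgHom A B L).toLinearMap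
  have hι : ∀ x, ι x = algebraMap B L x := fun x => rfl
  have hloc : IsLocalizedModule (nonZeroDivisors A) ι :=
    isLocalizedModule_iff_isLocalization.mpr hlocL
  have hbc : IsBaseChange K ι := IsLocalizedModule.isBaseChange (nonZeroDivisors A) K ι
  let φ : Fin n → (B →ₗ[A] K) := fun i =>
    (Algebra.linearMap A K) ∘ₗ (LinearMap.proj i) ∘ₗ g
  let Φ : Fin n → (L →ₗ[K] K) := fun i => hbc.lift (φ i)
  let β : Fin n → L := fun i => ι (f (Pi.single i 1))
  have hΦ : ∀ i x, Φ i (ι x) = algebraMap A K (g x i) := fun i x => hbc.lift_eq (φ i) x
  have hy : ∀ y : B, y = ∑ i, g y i • f (Pi.single i 1) := by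
    intro y
    have h1 := LinearMap.congr_fun hfg y
    simp only [LinearMap.comp_apply, LinearMap.id_apply] at h1
    conv_lhs => rw [← h1]
    have h2 : g y = ∑ i, g y i • (Pi.single i (1 : A) : Fin n → A) := by
      ext j
      simp [Finset.sum_apply, Pi.single_apply]
    conv_lhs => rw [h2]
    rw [map_sum]
    refine Finset.sum_congr rfl fun i _ => ?_
    rw [map_smul]
  have hid : ∀ x : L, x = ∑ i, Φ i x • β i := by
    intro x
    have hh : (LinearMap.id : L →ₗ[K] L) = ∑ i, (Φ i).smulRight (β i) := by
      apply hbc.algHom_ext
      intro y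
      rw [LinearMap.id_apply, LinearMap.sum_apply]
      simp only [LinearMap.smulRight_apply]
      conv_lhs => rw [hy y]
      rw [map_sum]
      refine Finset.sum_congr rfl fun i _ => ?_
      rw [map_smul, hΦ, algebraMap_smul]
    have := LinearMap.congr_fun hh x
    rw [LinearMap.id_apply, LinearMap.sum_apply] at this
    simpa only [LinearMap.smulRight_apply] using this
  have hm : Algebra.lmul K L (algebraMap B L b) =
      ∑ i, dualTensorHom K L L (Φ i ⊗ₜ[K] (algebraMap B L b * β i)) := by
    refine LinearMap.ext fun x => ?_
    rw [LinearMap.sum_apply]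
    simp only [dualTensorHom_apply]
    show algebraMap B L b * x = _
    conv_lhs => rw [hid x]
    rw [Finset.mul_sum]
    refine Finset.sum_congr rfl fun i _ => ?_
    rw [mul_smul_comm]
  rw [one_mul, Algebra.trace_apply, hm, map_sum]
  simp only [LinearMap.trace_eq_contract_apply, contractLeft_apply]
  refine ⟨∑ i, g (b * f (Pi.single i 1)) i, ?_⟩
  rw [map_sum]
  refine Finset.sum_congr rfl fun i _ => ?_
  have h3 : algebraMap B L b * β i = ι (b * f (Pi.single i 1)) := by
    rw [hι, map_mul]
    rfl
  rw [h3, hΦ]

end Groth.Agent.S8960
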