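import Groth.Statements.S8961
import Mathlib
import Groth.Agent.Lib.Helper22.TraceInt

set_option autoImplicit false
universe u
open QFDual

namespace Groth.Agent.S8961

/-- Suppose the Dedekind different of A → B is defined: A is Noetherian, B is a finite A-algebra,
nonzerodivisors of A are nonzerodivisors on B, and with K = Q(A) and L = B ⊗_A K the map K → L is
étale (here with L finite free over K). If A is a normal ring, i.e. every localization A_p at a
prime is an integrally closed domain, then Trace_{L/K}(b) lies in A for every b ∈ B; equivalently 1
∈ 𝓛_{B/A}. -/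
theorem result (A K B L : Type u) [CommRing A] [CommRing K] [CommRing B] [CommRing L] [Algebra A K] [Algebra A B] [Algebra B L] [Algebra K L] [Algebra A L] [IsScalarTower A K L] [IsScalarTower A B L] (h : QFDual.IsDedekindDefined A K B L) (hA : EGA4.IsNormalRing A) : (1 : L) ∈ QFDual.complementary A K B L := by
  classical
  intro b
  have hfr : IsFractionRing A K := h.isFractionRing
  have hfinAB := h.finite
  have hfree := h.free
  have hfinKL := h.finiteKL
  change Algebra.trace K L (1 * algebraMap B L b) ∈ (algebraMap A K).range
  rw [one_mul]
  have hxint : IsIntegral A (algebraMap B L b) := by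
    have hb : IsIntegral A b := IsIntegral.of_finite A b
    exact hb.map (IsScalarTower.toAlgHom A B L)
  generalize algebraMap B L b = x at hxint
  let e := Module.Free.chooseBasis K L
  let R₀ : Submodule A K := LinearMap.range (Algebra.linearMap A K)
  let I : Ideal A := R₀.colon {Algebra.trace K L x}
  have hI : ∀ a, a ∈ I ↔ algebraMap A K a * Algebra.trace K L x ∈ (algebraMap A K).range := by
    intro a
    rw [Submodule.mem_colon_singleton, Algebra.smul_def]
    rfl
  have htop : I = ⊤ := by
    by_contra hne
    obtain ⟨p, hp, hle⟩ := Ideal.exists_le_maximal I hne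
    haveI := hp.isPrime
    obtain ⟨hdom, hic⟩ := hA p
    obtain ⟨w, hwp, hw⟩ := Groth.Agent.Helper22.TraceInt.exists_smul_mem_range p
      (Algebra.trace K L x) (fun ψ hψ => by
        have h1 : IsIntegral A (ψ (Algebra.trace K L x)) :=
          Groth.Agent.Helper22.TraceInt.isIntegral_map_trace ψ (fun a => by
            rw [hψ a, ← IsScalarTower.algebraMap_apply]) e x hxint
        exact h1.tower_top)
    exact hwp (hle ((hI w).2 hw))
  have h1 : (1 : A) ∈ I := by
    rw [htop]
    trivial
  have h2 := (hI 1).1 h1
  rwa [map_one, one_mul] at h2

end Groth.Agent.S8961
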