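import Groth.Statements.S8962
import Mathlib
import Groth.Agent.S2195

set_option autoImplicit false
universe u
open QFDual

namespace Groth.Agent.S8962

/-- If the Dedekind different of A → B is defined (A Noetherian, B a finite A-algebra, nonzerodivisors
of A nonzerodivisors on B, K = Q(A) → L = B ⊗_A K étale, here with L finite free over K), then x ↦
(b ↦ Trace_{L/K}(x b)) is a B-linear isomorphism from the Dedekind complementary module 𝓛_{B/A} onto
ω_{B/A} = Hom_A(B, A), the latter with B acting through the argument. Stated as the existence of a
B-linear equivalence e with algebraMap (e(x)(b)) = Trace_{L/K}(x b) in K for all x and b, which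
determines e since A → K is injective. -/
theorem result (A K B L : Type u) [CommRing A] [CommRing K] [CommRing B] [CommRing L] [Algebra A K] [Algebra A B] [Algebra B L] [Algebra K L] [Algebra A L] [IsScalarTower A K L] [IsScalarTower A B L] (h : QFDual.IsDedekindDefined A K B L) : ∃ e : QFDual.complementary A K B L ≃ₗ[B] Disc.Omega A B, ∀ (x : QFDual.complementary A K B L) (b : B), algebraMap A K ((e x).toLinearMap b) = Algebra.trace K L ((x : L) * algebraMap B L b) := by
  classical
  have hfr : IsLocalization (nonZeroDivisors A) K := h.isFractionRing
  have hfr' : IsFractionRing A K := h.isFractionRing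
  have hlocL := h.isLocalization
  have hfree := h.free
  have hfinKL := h.finiteKL
  have hj : Function.Injective (algebraMap A K) := IsFractionRing.injective A K
  let ι : B →ₗ[A] L := (IsScalarTower.toAlgHom A B L).toLinearMap
  have hι : ∀ x, ι x = algebraMap B L x := fun x => rfl
  have hloc : IsLocalizedModule (nonZeroDivisors A) ι :=
    isLocalizedModule_iff_isLocalization.mpr hlocL
  have hbc : IsBaseChange K ι := IsLocalizedModule.isBaseChange (nonZeroDivisors A) K ι
  -- the trace form is perfect
  let bL : Module.Basis (Fin (Fintype.card (Module.Free.ChooseBasisIndex K L))) K L :=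
    (Module.Free.chooseBasis K L).reindex (Fintype.equivFin _)
  have hM : LinearMap.toMatrix bL bL.dualBasis (Algebra.traceForm K L) =
      Algebra.traceMatrix K bL := by
    ext i j
    rw [LinearMap.toMatrix_apply, Module.Basis.dualBasis_repr, Algebra.traceMatrix_apply,
      Algebra.traceForm_apply, Algebra.traceForm_apply, mul_comm]
  have hunit : IsUnit (Algebra.discr K bL) := (Groth.Agent.S2195.result bL).mp h.etale
  rw [Algebra.discr_def, ← hM] at hunit
  have hbij : Function.Bijective (Algebra.traceForm K L) :=
    (LinearEquiv.ofIsUnitDet hunit).bijective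
  -- the functional attached to an element of the complementary module
  have key : ∀ x : QFDual.complementary A K B L, ∃ φ : B →ₗ[A] A,
      ∀ b, algebraMap A K (φ b) = Algebra.trace K L ((x : L) * algebraMap B L b) := by
    intro x
    have hx : ∀ b : B, ∃ a : A, algebraMap A K a =
        Algebra.trace K L ((x : L) * algebraMap B L b) := fun b => x.2 b
    choose c hc using hx
    refine ⟨{ toFun := c, map_add' := ?_, map_smul' := ?_ }, hc⟩
    · intro b b'
      apply hj
      rw [map_add, hc, hc, hc, map_add, mul_add, map_add]
    · intro a b
      apply hj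
      show algebraMap A K (c (a • b)) = algebraMap A K (a * c b)
      rw [hc, (algebraMap A K).map_mul, hc]
      have h1 : algebraMap B L (a • b) = a • algebraMap B L b :=
        map_smul (IsScalarTower.toAlgHom A B L) a b
      rw [h1, mul_smul_comm, ← algebraMap_smul K a, map_smul, smul_eq_mul]
  choose φ hφ using key
  let e₀ : QFDual.complementary A K B L →ₗ[B] Disc.Omega A B :=
    { toFun := fun x => ⟨φ x⟩
      map_add' := by
        intro x y
        apply Disc.Omega.ext
        refine LinearMap.ext fun b => hj ?_
        show algebraMap A K (φ (x + y) b) = algebraMap A K ((φ x + φ y) b)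
        rw [LinearMap.add_apply, map_add, hφ, hφ, hφ, Submodule.coe_add, add_mul, map_add]
      map_smul' := by
        intro c x
        apply Disc.Omega.ext
        refine LinearMap.ext fun b => hj ?_
        show algebraMap A K (φ (c • x) b) = algebraMap A K ((φ x) (c * b))
        rw [hφ, hφ, Submodule.coe_smul, Algebra.smul_def, (algebraMap B L).map_mul]
        congr 1
        ring }
  have he₀ : ∀ x b, algebraMap A K ((e₀ x).toLinearMap b) =
      Algebra.trace K L ((x : L) * algebraMap B L b) := fun x b => hφ x b
  have hinj : Function.Injective e₀ := by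
    rw [injective_iff_map_eq_zero]
    intro x hx
    have h0 : ∀ b : B, Algebra.trace K L ((x : L) * algebraMap B L b) = 0 := by
      intro b
      rw [← he₀, hx]
      simp
    have h1 : Algebra.traceForm K L (x : L) = 0 := by
      apply hbc.algHom_ext
      intro b
      rw [Algebra.traceForm_apply, hι, h0]
      simp
    have h2 : (x : L) = 0 := hbij.1 (by rw [h1, map_zero])
    exact Subtype.ext h2
  have hsurj : Function.Surjective e₀ := by
    intro ω
    let Φ : L →ₗ[K] K := hbc.lift ((Algebra.linearMap A K) ∘ₗ ω.toLinearMap)
    have hΦ : ∀ b, Φ (ι b) = algebraMap A K (ω.toLinearMap b) :=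
      fun b => hbc.lift_eq _ b
    obtain ⟨x, hx⟩ := hbij.2 Φ
    have hxb : ∀ b : B, Algebra.trace K L (x * algebraMap B L b) =
        algebraMap A K (ω.toLinearMap b) := by
      intro b
      rw [← hΦ, ← hx, Algebra.traceForm_apply, hι]
    have hmem : x ∈ QFDual.complementary A K B L := fun b => ⟨_, (hxb b).symm⟩
    refine ⟨⟨x, hmem⟩, ?_⟩
    apply Disc.Omega.ext
    refine LinearMap.ext fun b => hj ?_
    rw [he₀, hxb]
  exact ⟨LinearEquiv.ofBijective e₀ ⟨hinj, hsurj⟩, fun x b => he₀ x b⟩

end Groth.Agent.S8962
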