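import Groth.Statements.S8963
import Groth.Agent.Lib.Helper8.QFOm3

set_option autoImplicit false
universe u
open TensorProduct
open QFDual

namespace Groth.Agent.S8963
attribute [local instance] Algebra.TensorProduct.rightAlgebra in
open CategoryTheory AlgebraicGeometry TensorProduct in

/-- Invertibility of the relative dualizing module is a fibrewise condition. Let A → B be a flat
homomorphism of Noetherian rings with a factorization A → B' → B, A → B' finite and Spec B → Spec B'
an open immersion, so that A → B is quasi-finite and ω_{B/A} = B ⊗_{B'} Hom_A(B', A). The B-module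
ω_{B/A} is invertible exactly when, for every prime p of A and every presentation of the fibre rings
B'_p = B' ⊗_A κ(p), B_p = B ⊗_A κ(p) as cocartesian squares over the residue field κ(p) (compatibly
with B' → B), the module ω_{B_p/κ(p)} = B_p ⊗_{B'_p} Hom_{κ(p)}(B'_p, κ(p)) is an invertible
B_p-module. -/
theorem result (A B' B : Type u) [CommRing A] [CommRing B'] [CommRing B] [IsNoetherianRing A] [IsNoetherianRing B] [Algebra A B'] [Algebra B' B] [Algebra A B] [IsScalarTower A B' B] [Module.Flat A B] (hf : QFDual.IsQFFactor A B' B) : Module.Invertible B (QFDual.omega A B' B) ↔ ∀ (p : Ideal A) [p.IsPrime] (B'₁ B₁ : Type u) [CommRing B'₁] [CommRing B₁] [Algebra B' B'₁] [Algebra p.ResidueField B'₁] [Algebra A B'₁] [IsScalarTower A p.ResidueField B'₁] [IsScalarTower A B' B'₁] [Algebra B B₁] [Algebra p.ResidueField B₁] [Algebra A B₁] [IsScalarTower A p.ResidueField B₁] [IsScalarTower A B B₁] [Algebra B'₁ B₁] [Algebra B' B₁] [IsScalarTower B' B'₁ B₁] [IsScalarTower B' B B₁] [IsScalarTower p.ResidueField B'₁ B₁], Algebra.IsPushout A p.ResidueField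 B' B'₁ → Algebra.IsPushout A p.ResidueField B B₁ → Module.Invertible B₁ (QFDual.omega p.ResidueField B'₁ B₁) := by
  classical
  haveI hfinB' : Module.Finite A B' := hf.finite
  have hopen := hf.isOpenImmersion
  change Module.Invertible B (B ⊗[B'] Disc.Omega A B') ↔ _
  rw [Groth.Agent.Helper8.QFOm.invertible_omega_iff_gorenstein_fibres A B' B hopen]
  constructor
  · intro hG p hp B'₁ B₁
    intros
    rename_i h' hB
    exact (Groth.Agent.Helper8.QFOm.invertible_omega_fibre_iff A B' B hopen p B'₁ B₁ h' hB).mpr
      (hG ⟨p, hp⟩)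
  · intro h p
    haveI := p.isPrime
    letI alg1 : Algebra (p.asIdeal.ResidueField ⊗[A] B') (p.asIdeal.ResidueField ⊗[A] B) :=
      (Algebra.TensorProduct.map (AlgHom.id p.asIdeal.ResidueField p.asIdeal.ResidueField)
        (IsScalarTower.toAlgHom A B' B)).toRingHom.toAlgebra
    letI alg2 : Algebra B' (p.asIdeal.ResidueField ⊗[A] B) :=
      ((algebraMap B (p.asIdeal.ResidueField ⊗[A] B)).comp (algebraMap B' B)).toAlgebra
    haveI t1 : IsScalarTower B' (p.asIdeal.ResidueField ⊗[A] B') (p.asIdeal.ResidueField ⊗[A] B) :=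
      IsScalarTower.of_algebraMap_eq fun x => by
        change (1 : p.asIdeal.ResidueField) ⊗ₜ[A] (algebraMap B' B x) =
          Algebra.TensorProduct.map (AlgHom.id p.asIdeal.ResidueField p.asIdeal.ResidueField)
            (IsScalarTower.toAlgHom A B' B) ((1 : p.asIdeal.ResidueField) ⊗ₜ[A] x)
        rw [Algebra.TensorProduct.map_tmul]
        rfl
    haveI t2 : IsScalarTower B' B (p.asIdeal.ResidueField ⊗[A] B) :=
      IsScalarTower.of_algebraMap_eq fun x => rfl
    haveI t3 : IsScalarTower p.asIdeal.ResidueField (p.asIdeal.ResidueField ⊗[A] B')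
        (p.asIdeal.ResidueField ⊗[A] B) :=
      IsScalarTower.of_algebraMap_eq fun c => by
        change c ⊗ₜ[A] (1 : B) =
          Algebra.TensorProduct.map (AlgHom.id p.asIdeal.ResidueField p.asIdeal.ResidueField)
            (IsScalarTower.toAlgHom A B' B) (c ⊗ₜ[A] (1 : B'))
        rw [Algebra.TensorProduct.map_tmul, map_one]
        rfl
    have h1 := h p.asIdeal (p.asIdeal.ResidueField ⊗[A] B') (p.asIdeal.ResidueField ⊗[A] B)
      TensorProduct.isPushout TensorProduct.isPushout
    exact (Groth.Agent.Helper8.QFOm.invertible_omega_fibre_iff A B' B hopen p.asIdeal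
      (p.asIdeal.ResidueField ⊗[A] B') (p.asIdeal.ResidueField ⊗[A] B)
      TensorProduct.isPushout TensorProduct.isPushout).mp h1

end Groth.Agent.S8963
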