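import Groth.Statements.S8964
import Groth.Agent.S1790
import Groth.Agent.S8953
import Groth.Agent.S1786
import Groth.Agent.Lib.Helper8.RelDz9
import Groth.Agent.Lib.Helper8.GF7
import Groth.Agent.Lib.Helper8.QFOm1
import Groth.Agent.Lib.Helper16.Sch.FibMap2

set_option autoImplicit false
universe u
open TensorProduct
open QFDual

namespace Groth.Agent.S8964
attribute [local instance] HasDerivedCategory.standard
open CategoryTheory AlgebraicGeometry in

/-- A quasi-finite syntomic map has an invertible relative dualizing module. Let A be a Noetherian ring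
and A → B a syntomic ring map (flat, of finite presentation, with fibres local complete
intersections), and suppose it factors through an intermediate ring B', with A → B' a finite map and
the induced morphism Spec B → Spec B' an open immersion, so that A → B is quasi-finite and ω_{B/A} =
B ⊗_{B'} Hom_A(B', A). Then ω_{B/A} is an invertible B-module. (The published statement is for a
locally quasi-finite syntomic morphism of locally Noetherian schemes and the sheaf ω_{Y/X}; this row
is its form over a pair of affine opens.) -/
theorem result (A B' B : Type u) [CommRing A] [CommRing B'] [CommRing B] [IsNoetherianRing A] [Algebra A B'] [Algebra B' B] [Algebra A B] [IsScalarTower A B' B] (hf : QFDual.IsQFFactor A B' B) (hs : Synt.IsSyntomic A B) : Module.Invertible B (QFDual.omega A B' B) := by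
  classical
  obtain ⟨hflat, hfp, hfib⟩ := hs
  haveI := hflat
  haveI := hfp
  haveI hfinB' : Module.Finite A B' := hf.finite
  have hopen := hf.isOpenImmersion
  haveI : Algebra.FiniteType A B := inferInstance
  haveI : IsNoetherianRing B := Algebra.FiniteType.isNoetherianRing A B
  obtain ⟨n, ψ, hψ⟩ := Algebra.FiniteType.iff_quotient_mvPolynomial''.mp
    (inferInstance : Algebra.FiniteType A B)
  haveI hLB : DRing.HasLBaseChange (algebraMap A (MvPolynomial (Fin n) A)) :=
    Groth.Agent.Helper3.KP.hasLeftDerivedFunctor _
  obtain ⟨Rψ, ⟨adj⟩⟩ := Groth.Agent.Helper11.Shr.exists_rightAdj ψ.toRingHom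
  obtain ⟨e⟩ := Groth.Agent.S8953.result A B B' hopen n ψ hψ Rψ adj
  haveI hoi : IsOpenImmersion (Spec.map (CommRingCat.ofHom (algebraMap B' B))) := hopen
  haveI hfin : IsFinite (Spec.map (CommRingCat.ofHom (algebraMap A B'))) := by
    rw [IsFinite.SpecMap_iff]
    exact RingHom.finite_algebraMap.mpr inferInstance
  haveI hqf : LocallyQuasiFinite (Spec.map (CommRingCat.ofHom (algebraMap A B))) := by
    have h1 : Spec.map (CommRingCat.ofHom (algebraMap A B)) =
        Spec.map (CommRingCat.ofHom (algebraMap B' B)) ≫
          Spec.map (CommRingCat.ofHom (algebraMap A B')) := by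
      rw [← Spec.map_comp, ← CommRingCat.ofHom_comp, ← IsScalarTower.algebraMap_eq]
    rw [h1]
    infer_instance
  haveI hlft : LocallyOfFiniteType (Spec.map (CommRingCat.ofHom (algebraMap A B))) :=
    Groth.Agent.Helper8.RelDz.lft_SpecMap A B
  have hd : ∀ q : PrimeSpectrum B, FlatMor.fibreDimAt
      (Spec.map (CommRingCat.ofHom (algebraMap A B))) q ≤ ((0 : ℕ) : WithBot ℕ∞) := by
    intro q
    exact (Groth.Agent.Helper16.FibMap.locallyQuasiFinite_iff_fibreDimAt _).mp hqf q
  have hamp := (Groth.Agent.S1790.result A B n ψ hψ Rψ adj 0).2 hd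
  have hamp' : DRing.HasTorAmplitudeIn A 0 0 ((DRing.restrictD (algebraMap A B)).obj
      (Dual2.shriekVia n Rψ (Dual.inD A A))) := by simpa using hamp
  obtain ⟨-, hz⟩ := Groth.Agent.Helper8.RelDz.flat_HD_of_hasTorAmplitudeIn A 0 _ hamp'
  have hiso := fun i : ℤ => Groth.Agent.Helper11.DC.homologyRestrictIso
    (algebraMap A B) (Dual2.shriekVia n Rψ (Dual.inD A A)) i
  have hvan : ∀ i : ℤ, i ≠ 0 → Subsingleton (Dual.HD B
      (Dual2.shriekVia n Rψ (Dual.inD A A)) i) := by
    intro i hi
    have h1 := (hz i hi).of_iso (hiso i).symm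
    have h2 : Subsingleton ((ModuleCat.restrictScalars.{u} (algebraMap A B)).obj
        ((DerivedCategory.homologyFunctor (ModuleCat.{u} B) i).obj
          (Dual2.shriekVia n Rψ (Dual.inD A A)))) := ModuleCat.subsingleton_of_isZero h1
    exact h2
  haveI hL : ∀ f : B, DRing.HasLBaseChange (algebraMap B (Localization.Away f)) :=
    fun f => Groth.Agent.Helper3.KP.hasLeftDerivedFunctor _
  have key := Groth.Agent.S1786.result A B n ψ hψ Rψ adj
  have hG : ∀ p : PrimeSpectrum A,
      LocCoh.IsGorensteinRing (TensorProduct A B p.asIdeal.ResidueField) := by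
    intro p
    have h1 := Groth.Agent.Helper8.QFOm.isGorensteinRing_of_isLCIOver p.asIdeal.ResidueField _
      (hfib p)
    exact Groth.Agent.Helper12.GorField.isGorensteinRing_of_ringEquiv
      (Algebra.TensorProduct.comm A p.asIdeal.ResidueField B).toRingEquiv h1
  haveI hinv : Module.Invertible B (Dual.HD B (Dual2.shriekVia n Rψ (Dual.inD A A)) 0) :=
    (Groth.Agent.Helper8.GF.invertible_iff_locally_shift _ 0 hvan).mpr (key.mp hG)
  exact Module.Invertible.congr e

end Groth.Agent.S8964
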