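import Groth.Statements.S8965
import Mathlib
import Groth.Agent.S8960
import Groth.Agent.S8962

set_option autoImplicit false
universe u
open QFDual

namespace Groth.Agent.S8965

/-- Suppose the Dedekind different of A → B is defined (A Noetherian, B a finite A-algebra,
nonzerodivisors of A nonzerodivisors on B, K = Q(A) → L = B ⊗_A K étale, here with L finite free
over K) and that B is free as an A-module. Then the Dedekind different 𝔇_{B/A} ⊆ L is the image
under B → L of the ideal of b ∈ B with b · Hom_A(B, A) ⊆ B · Trace_{B/A}, where B acts on Hom_A(B,
A) through the argument. (The published statement assumes only A → B flat, with the trace element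
τ_{B/A} of the relative dualizing module ω_{B/A}; for B finite free these are Trace_{B/A} and
Hom_A(B, A), the case taken here.) -/
theorem result (A K B L : Type u) [CommRing A] [CommRing K] [CommRing B] [CommRing L] [Algebra A K] [Algebra A B] [Algebra B L] [Algebra K L] [Algebra A L] [IsScalarTower A K L] [IsScalarTower A B L] (h : QFDual.IsDedekindDefined A K B L) [Module.Finite A B] [Module.Free A B] : QFDual.dedekindDifferent A K B L = Submodule.map (Algebra.linearMap B L) (QFDual.different B (Disc.Omega.trace A B)) := by
  classical
  have hflat : Module.Flat A B := inferInstance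
  have h1 : (1 : L) ∈ QFDual.complementary A K B L := Groth.Agent.S8960.result A K B L h
  obtain ⟨e, he⟩ := Groth.Agent.S8962.result A K B L h
  have hfr : IsLocalization (nonZeroDivisors A) K := h.isFractionRing
  have hfr' : IsFractionRing A K := h.isFractionRing
  have hlocL := h.isLocalization
  have hj : Function.Injective (algebraMap A K) := IsFractionRing.injective A K
  have hτ : e ⟨1, h1⟩ = Disc.Omega.trace A B := by
    apply Disc.Omega.ext
    refine LinearMap.ext fun b => hj ?_
    rw [he]
    show Algebra.trace K L ((1 : L) * algebraMap B L b) = algebraMap A K (Algebra.trace A B b)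
    rw [one_mul]
    exact Algebra.trace_localization A (nonZeroDivisors A) b
  ext x
  rw [Submodule.mem_map]
  constructor
  · intro hx
    have hx' : ∀ y ∈ QFDual.complementary A K B L, x * y ∈ (algebraMap B L).range := hx
    obtain ⟨b, hb⟩ := hx' 1 h1
    rw [mul_one] at hb
    refine ⟨b, ?_, hb⟩
    rw [QFDual.mem_different_iff]
    intro m
    obtain ⟨c, hc⟩ := hx' (e.symm m : L) (e.symm m).2
    refine ⟨c, ?_⟩
    have h2 : c • (⟨1, h1⟩ : QFDual.complementary A K B L) = b • e.symm m := by
      apply Subtype.ext
      rw [Submodule.coe_smul, Submodule.coe_smul, Algebra.smul_def, Algebra.smul_def, mul_one,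
        hc, hb]
    have h3 := congrArg e h2
    rw [map_smul, map_smul, hτ, LinearEquiv.apply_symm_apply] at h3
    exact h3
  · rintro ⟨b, hb, rfl⟩
    have hgoal : ∀ y ∈ QFDual.complementary A K B L,
        Algebra.linearMap B L b * y ∈ (algebraMap B L).range := by
      intro y hy
      rw [QFDual.mem_different_iff] at hb
      obtain ⟨c, hc⟩ := hb (e ⟨y, hy⟩)
      refine ⟨c, ?_⟩
      have h2 : c • (⟨1, h1⟩ : QFDual.complementary A K B L) = b • ⟨y, hy⟩ := by
        apply e.injective
        rw [map_smul, map_smul, hτ, hc]
      have h3 := congrArg Subtype.val h2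
      rw [Submodule.coe_smul, Submodule.coe_smul, Algebra.smul_def, Algebra.smul_def,
        mul_one] at h3
      exact h3
    exact hgoal

end Groth.Agent.S8965
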