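import Groth.Statements.S8977
import Groth.Agent.S14770
import Groth.Agent.Lib.Helper19.HCov
import Groth.Agent.Lib.Helper11.HTopV3
import Groth.Agent.Lib.Helper4.SigmaProper

set_option autoImplicit false
universe u
open HTop

namespace Groth.Agent.S8977

open CategoryTheory CategoryTheory.Limits AlgebraicGeometry in
/-- For a Noetherian scheme X and a finite family of finite type morphisms X_i → X, the induced morphism
from the coproduct of the X_i to X is universally submersive if and only if the family is an h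
covering. -/
theorem result {X : Scheme.{u}} [IsNoetherian X] (E : PreZeroHypercover.{u} X) [Finite E.I₀] [∀ i, LocallyOfFiniteType (E.f i)] [∀ i, QuasiCompact (E.f i)] : SGA1.UnivSubmersive (Sigma.desc E.f) ↔ HTop.IsHCover E := by
  classical
  haveI : ∀ i, CompactSpace (E.X i) := fun i => QuasiCompact.compactSpace_of_compactSpace (E.f i)
  haveI : CompactSpace (∐ E.X : Scheme.{u}) :=
    Groth.Agent.Helper4.SigmaProper.compactSpace_sigma E.X
  haveI : QuasiCompact (Sigma.desc E.f) := inferInstance
  have hlfp : ∀ i, LocallyOfFinitePresentation (E.f i) := fun i =>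
    LocallyOfFinitePresentation.iff_locallyOfFiniteType.mpr inferInstance
  have h0 := Groth.Agent.S14770.result (Sigma.desc E.f)
  have h1 : HTop.IsHCover E ↔ HTop.IsVCover E := ⟨fun h => h.2, fun h => ⟨hlfp, h⟩⟩
  have h2 : HTop.IsVCover E ↔
      HTop.IsVCover (PreZeroHypercover.singleton.{0} (Sigma.desc E.f)) :=
    Groth.Agent.Helper19.HCov.isVCover_iff_singleton_sigmaDesc E
  have h3 : HTop.IsVCover (PreZeroHypercover.singleton.{0} (Sigma.desc E.f)) ↔
      HTop.HasValLift (PreZeroHypercover.singleton.{0} (Sigma.desc E.f)) :=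
    Groth.Agent.Helper11.HTopV.isVCover_singleton_iff (Sigma.desc E.f)
  have h4 := Groth.Agent.Helper11.HTopV.hasValLift_singleton_iff.{0} (Sigma.desc E.f)
  rw [h0, h1, h2, h3, h4]
  constructor
  · intro hf Z g z' z hzz
    obtain ⟨x, x', hxx, hx, hx'⟩ := hf (pullback.snd g (Sigma.desc E.f)) g
      (pullback.fst g (Sigma.desc E.f)) (IsPullback.of_hasPullback g (Sigma.desc E.f)) hzz
    exact ⟨x', x, hxx, hx', hx⟩
  · intro H X' Y' i₁ i₂ f' hpb y y' hyy
    obtain ⟨w', w, hw, hw', hwz⟩ := H Y' i₂ y' y hyy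
    refine ⟨hpb.isoPullback.inv w, hpb.isoPullback.inv w',
      hw.map (hpb.isoPullback.inv).continuous, ?_, ?_⟩
    · rw [← Scheme.Hom.comp_apply, hpb.isoPullback_inv_fst, hwz]
    · rw [← Scheme.Hom.comp_apply, hpb.isoPullback_inv_fst, hw']

end Groth.Agent.S8977
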