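import Groth.Statements.S8992

set_option autoImplicit false
universe u
open HTop

namespace Groth.Agent.S8992

/-- An algebra over the prime field with p elements is absolutely weakly normal if and only if its p-th
power map is bijective (the algebra is perfect). -/
theorem result (p : ℕ) [Fact p.Prime] (A : Type u) [CommRing A] [Algebra (ZMod p) A] : HTop.IsAWNRing A ↔ PerfectRing A p := by
  have hp0 : (p : A) = 0 := by
    have h := map_natCast (algebraMap (ZMod p) A) p
    rw [ZMod.natCast_self, map_zero] at h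
    exact h.symm
  have hp : p.Prime := Fact.out
  constructor
  · rintro ⟨_, h2⟩
    refine ⟨⟨?_, ?_⟩⟩
    · intro a b hab
      have hab' : a ^ p = b ^ p := hab
      obtain ⟨c, _, hc⟩ := h2 p hp (a ^ p) 0 (by rw [hp0, zero_pow hp.ne_zero, zero_mul])
      rw [hc a ⟨rfl, by rw [hp0, zero_mul]⟩, hc b ⟨hab', by rw [hp0, zero_mul]⟩]
    · intro x
      obtain ⟨c, hc, _⟩ := h2 p hp x 0 (by rw [hp0, zero_pow hp.ne_zero, zero_mul])
      exact ⟨c, hc.1.symm⟩
  · rintro ⟨hinj, hsurj⟩
    have hinj' : ∀ a b : A, a ^ p = b ^ p → a = b := fun a b h => hinj h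
    refine ⟨?_, ?_⟩
    · intro x y hxy
      obtain ⟨m, n, hmn⟩ : ∃ m n : ℕ, p = 2 * m + 3 * n := by
        rcases Nat.even_or_odd' p with ⟨k, hk | hk⟩
        · exact ⟨k, 0, by omega⟩
        · have : 1 ≤ k := by
            rcases Nat.eq_zero_or_pos k with h0 | h0
            · subst h0; exact absurd (by simpa using hk) hp.one_lt.ne'
            · exact h0
          exact ⟨k - 1, 1, by omega⟩
      obtain ⟨a, ha⟩ := hsurj (x ^ m * y ^ n)
      have ha : a ^ p = x ^ m * y ^ n := ha
      have h1 : a ^ 2 = x := by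
        apply hinj'
        calc (a ^ 2) ^ p = (a ^ p) ^ 2 := by rw [← pow_mul, ← pow_mul, mul_comm]
          _ = x ^ (2 * m) * (y ^ 2) ^ n := by rw [ha]; ring
          _ = x ^ p := by rw [← hxy, hmn]; ring
      have h2 : a ^ 3 = y := by
        apply hinj'
        calc (a ^ 3) ^ p = (a ^ p) ^ 3 := by rw [← pow_mul, ← pow_mul, mul_comm]
          _ = (x ^ 3) ^ m * y ^ (3 * n) := by rw [ha]; ring
          _ = y ^ p := by rw [hxy, hmn]; ring
      refine ⟨a, ⟨h1.symm, h2.symm⟩, ?_⟩
      rintro b ⟨hb1, hb2⟩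
      apply hinj'
      rw [ha, hb1, hb2, hmn]; ring
    · intro l hl x y hxy
      by_cases hlp : l = p
      · subst hlp
        rw [hp0, zero_pow hp.ne_zero, zero_mul] at hxy
        have hy : y = 0 := hinj' y 0 (by rw [← hxy, zero_pow hp.ne_zero])
        obtain ⟨a, ha⟩ := hsurj x
        have ha : a ^ l = x := ha
        refine ⟨a, ⟨ha.symm, by rw [hy, hp0, zero_mul]⟩, ?_⟩
        rintro b ⟨hb, _⟩
        exact hinj' b a (by rw [ha, ← hb])
      · have hcop : Nat.Coprime l p := (Nat.coprime_primes hl hp).mpr hlp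
        obtain ⟨c, hc⟩ : ∃ c : A, c * (l : A) = 1 := by
          have h := Nat.Coprime.isCoprime hcop
          obtain ⟨u, v, huv⟩ := h
          refine ⟨(u : A), ?_⟩
          have := congrArg (Int.cast : ℤ → A) huv
          push_cast at this
          rw [hp0, mul_zero, add_zero] at this
          exact this
        refine ⟨c * y, ⟨?_, ?_⟩, ?_⟩
        · rw [mul_pow, ← hxy, ← mul_assoc, ← mul_pow, hc, one_pow, one_mul]
        · rw [← mul_assoc, mul_comm (l : A), hc, one_mul]
        · rintro b ⟨_, hb⟩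
          rw [hb, ← mul_assoc, hc, one_mul]

end Groth.Agent.S8992
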