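import Groth.Statements.S8993
import Groth.Agent.Lib.Helper21.PerfUH

set_option autoImplicit false
universe u
open HTop

namespace Groth.Agent.S8993

/-- For a ring A of prime characteristic p, the map from A to the direct limit of A along Frobenius (the
perfect closure) is an absolute weak normalization of A. (The published statement also identifies,
over a base of characteristic p, the h sheafification of the structure sheaf on quasi-compact
quasi-separated objects with this colimit; that part is not stated here.) -/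
theorem result (p : ℕ) [Fact p.Prime] (A : Type u) [CommRing A] [CharP A p] : HTop.IsRingAWN (PerfectClosure.of A p) := by
  have hp : p.Prime := Fact.out
  have hkerφ : ∀ a, PerfectClosure.of A p a = 0 → IsNilpotent a := by
    intro a ha
    obtain ⟨m, hm⟩ := mem_pNilradical.mp
      (IsPRadical.ker_le (PerfectClosure.of A p) p (RingHom.mem_ker.mpr ha))
    exact ⟨p ^ m, hm⟩
  have hpowφ : ∀ b : PerfectClosure A p, ∃ n : ℕ, b ^ p ^ n ∈ (PerfectClosure.of A p).range := by
    intro b
    obtain ⟨n, y, hy⟩ := IsPRadical.pow_mem (PerfectClosure.of A p) p b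
    exact ⟨n, y, hy⟩
  refine ⟨(Groth.Agent.Helper11.UH.isUnivHomeo_spec_iff' _).mpr
    (Groth.Agent.Helper21.PUH.uhom_of_pow_mem p _ hkerφ hpowφ), ?_⟩
  intro C _ ψ hψ
  have hU : Groth.Agent.Helper11.UH.UHom ψ :=
    (Groth.Agent.Helper11.UH.isUnivHomeo_spec_iff' _).mp hψ
  haveI : Nontrivial A := CharP.nontrivial_of_char_ne_one (R := A) hp.ne_one
  haveI : Nontrivial C := by
    obtain ⟨P, hP⟩ := Ideal.exists_maximal A
    obtain ⟨Q, -⟩ := hU.2.1 ⟨P, hP.isPrime⟩
    by_contra hC
    rw [not_nontrivial_iff_subsingleton] at hC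
    exact Q.2.ne_top (Subsingleton.elim _ _)
  have h0C : ((p : ℕ) : C) = 0 := by
    have := congrArg ψ (CharP.cast_eq_zero A p)
    rwa [map_natCast, map_zero] at this
  haveI : CharP C p := (CharP.charP_iff_prime_eq_zero hp).mpr h0C
  haveI : IsPRadical ψ p :=
    { pow_mem' := fun c => by
        obtain ⟨n, y, hy⟩ := Groth.Agent.Helper21.PUH.exists_pow_mem_range' p ψ hU c
        exact ⟨n, y, hy⟩
      ker_le' := fun a ha => by
        rw [pNilradical_prime hp, mem_nilradical, nilpotent_iff_mem_prime]
        intro P hP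
        obtain ⟨Q, hQ⟩ := hU.2.1 ⟨P, hP⟩
        have : a ∈ (PrimeSpectrum.comap ψ Q).asIdeal := by
          show ψ a ∈ Q.asIdeal
          rw [RingHom.mem_ker.mp ha]; exact zero_mem _
        rw [hQ] at this
        exact this }
  refine ⟨PerfectRing.lift ψ (PerfectClosure.of A p) p,
    PerfectRing.lift_comp ψ (PerfectClosure.of A p) p, ?_⟩
  intro χ hχ
  rw [← hχ]
  exact (PerfectRing.comp_lift ψ χ p).symm

end Groth.Agent.S8993
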