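import Groth.Statements.S9000
-- import your own Groth.Agent.* helpers here
import Mathlib
import Groth.Agent.S1246
import Groth.Agent.Lib.Helper1.HFlat4
import Groth.Agent.Lib.Helper1.HenselLocal
import Groth.Agent.Lib.Helper26.HensIndEt2
import Groth.Agent.Lib.Helper27.Pu14

set_option autoImplicit false
universe u
open FlatMor

namespace Groth.Agent.S9000

open IsLocalRing TensorProduct Groth.Agent.Helper27.Pu Groth.Agent.Helper26.HensIndEt in
attribute [local instance] Algebra.TensorProduct.rightAlgebra in
theorem main_aux {A B : Type u} [CommRing A] [CommRing B] [Algebra A B] [Algebra.FiniteType A B]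
    (N : Type u) [AddCommGroup N] [Module B N] [Module.Finite B N] (p : Ideal A) [p.IsPrime]
    (h : FlatCA.HasImpurity A B N p (fun A' _ _ t => ∃ _ : t.IsPrime, FlatCA.IsEtaleNhd A A' p t)) :
    FlatCA.HasImpurity A B N p (fun A' _ _ t => ∃ (_ : IsLocalRing A')
      (_ : Algebra (Localization.AtPrime p) A') (_ : IsScalarTower A (Localization.AtPrime p) A')
      (_ : IsLocalHom (algebraMap (Localization.AtPrime p) A')),
      Hensel.IsHenselization (Localization.AtPrime p) A' ∧ t = maximalIdeal A') := by
  classical
  obtain ⟨A', B', N', iA', iB', algAA', algBB', algA'B', algAB', tABB', tAA'B', acgN', modB'N',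
    modBN', tBB'N', modA'N', tA'B'N', f, t', t, ht', ht, P, hP, himp, ⟨ht2, hEt, hto, hbij⟩⟩ := h
  haveI := hEt
  haveI htp : t.LiesOver p := hto
  -- the henselization
  letI algAAh : Algebra A (C (Localization.AtPrime p)) :=
    ((algebraMap (Localization.AtPrime p) (C (Localization.AtPrime p))).comp
      (algebraMap A (Localization.AtPrime p))).toAlgebra
  haveI tARAh : IsScalarTower A (Localization.AtPrime p) (C (Localization.AtPrime p)) :=
    IsScalarTower.of_algebraMap_eq (fun _ => rfl)
  haveI hhens : Hensel.IsHenselization (Localization.AtPrime p) (C (Localization.AtPrime p)) :=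
    ⟨inferInstance, fun T _ _ f hf => universal_C (Localization.AtPrime p) T f hf⟩
  haveI hff : Module.FaithfullyFlat (Localization.AtPrime p) (C (Localization.AtPrime p)) :=
    Groth.Agent.Helper1.HFlat.faithfullyFlat_of_isHenselization _ _
  haveI hflatA : Module.Flat A (C (Localization.AtPrime p)) :=
    Module.Flat.trans A (Localization.AtPrime p) _
  -- the map to the residue field
  let β : p.ResidueField ≃ₐ[A] t.ResidueField :=
    AlgEquiv.ofBijective (Ideal.ResidueField.mapₐ p t (Algebra.ofId A A') hto.over) hbij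
  let ρ : p.ResidueField →+* ResidueField (C (Localization.AtPrime p)) :=
    IsLocalRing.ResidueField.map (algebraMap (Localization.AtPrime p) (C (Localization.AtPrime p)))
  let ρA : p.ResidueField →ₐ[A] ResidueField (C (Localization.AtPrime p)) :=
    { ρ with
      commutes' := fun a => by
        show ρ (algebraMap A p.ResidueField a) = _
        rw [IsScalarTower.algebraMap_apply A (Localization.AtPrime p) p.ResidueField]
        show ρ (residue _ (algebraMap A _ a)) = _
        rw [IsLocalRing.ResidueField.map_residue]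
        rfl }
  let ψ : A' →ₐ[A] ResidueField (C (Localization.AtPrime p)) :=
    (ρA.comp β.symm.toAlgHom).comp (IsScalarTower.toAlgHom A A' t.ResidueField)
  obtain ⟨φ, hφ, -⟩ := Groth.Agent.Helper1.existsUnique_algHom_of_etale (R := A)
    (S := C (Localization.AtPrime p)) ψ
  have hcomap : (maximalIdeal (C (Localization.AtPrime p))).comap φ.toRingHom = t := by
    ext a
    rw [Ideal.mem_comap]
    show φ a ∈ maximalIdeal _ ↔ _
    rw [← IsLocalRing.residue_eq_zero_iff, hφ]
    show ρ (β.symm (algebraMap A' t.ResidueField a)) = 0 ↔ _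
    rw [map_eq_zero_iff ρ ρ.injective, map_eq_zero_iff β.symm β.symm.injective,
      Ideal.algebraMap_residueField_eq_zero]
  -- level 2
  let σ : (C (Localization.AtPrime p)) ⊗[A] A' →ₐ[C (Localization.AtPrime p)]
      C (Localization.AtPrime p) :=
    Algebra.TensorProduct.lift (AlgHom.id _ _) φ (fun _ _ => Commute.all _ _)
  have hσr : ∀ a' : A', σ (1 ⊗ₜ a') = φ a' := by
    intro a'
    simp [σ]
  haveI fe2 : Algebra.FormallyEtale (C (Localization.AtPrime p))
      ((C (Localization.AtPrime p)) ⊗[A] A') := inferInstance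
  haveI fp2 : Algebra.FinitePresentation (C (Localization.AtPrime p))
      ((C (Localization.AtPrime p)) ⊗[A] A') := inferInstance
  obtain ⟨e, he, hσe, hsurj, huniq⟩ := retract_data (C (Localization.AtPrime p))
    ((C (Localization.AtPrime p)) ⊗[A] A') σ
  haveI hT : ((maximalIdeal (C (Localization.AtPrime p))).comap σ.toRingHom).IsPrime :=
    Ideal.comap_isPrime _ _
  haveI hTo1 : ((maximalIdeal (C (Localization.AtPrime p))).comap σ.toRingHom).LiesOver
      (maximalIdeal (C (Localization.AtPrime p))) := ⟨by
    ext x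
    rw [Ideal.under_def, Ideal.mem_comap, Ideal.mem_comap]
    show _ ↔ σ (algebraMap _ _ x) ∈ _
    rw [σ.commutes]
    rfl⟩
  haveI hTo2 : ((maximalIdeal (C (Localization.AtPrime p))).comap σ.toRingHom).LiesOver t := ⟨by
    rw [← hcomap]
    ext a
    rw [Ideal.under_def, Ideal.mem_comap, Ideal.mem_comap, Ideal.mem_comap]
    show φ a ∈ _ ↔ σ (algebraMap A' _ a) ∈ _
    rw [Algebra.TensorProduct.right_algebraMap_apply, hσr]⟩
  have heT : e ∉ (maximalIdeal (C (Localization.AtPrime p))).comap σ.toRingHom := by
    intro h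
    rw [Ideal.mem_comap] at h
    have h1 : σ e ∈ maximalIdeal (C (Localization.AtPrime p)) := h
    rw [hσe] at h1
    exact (Ideal.ne_top_iff_one _).mp (IsLocalRing.maximalIdeal.isMaximal _).ne_top h1
  haveI hflat : Module.Flat A' ((C (Localization.AtPrime p)) ⊗[A] A') :=
    Groth.Agent.S1246.flat_right
  obtain ⟨T', hT'le, hT'p, hT'o⟩ :=
    Ideal.exists_ideal_le_liesOver_of_le (p := t') (q := t)
      ((maximalIdeal (C (Localization.AtPrime p))).comap σ.toRingHom) himp.2.2.1
  haveI := hT'p
  haveI := hT'o
  haveI hfin : Module.Finite (C (Localization.AtPrime p)) (Localization.Away e) :=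
    Module.Finite.of_surjective (Algebra.linearMap _ _) hsurj
  -- level 0
  let fE : N →ₗ[B] ((C (Localization.AtPrime p)) ⊗[A] B) ⊗[B] N :=
    TensorProduct.mk B ((C (Localization.AtPrime p)) ⊗[A] B) N 1
  have hfE : IsBaseChange ((C (Localization.AtPrime p)) ⊗[A] B) fE :=
    TensorProduct.isBaseChange B N ((C (Localization.AtPrime p)) ⊗[A] B)
  haveI hpushE : Algebra.IsPushout A B (C (Localization.AtPrime p))
      ((C (Localization.AtPrime p)) ⊗[A] B) := TensorProduct.isPushout'
  have hf₂ : IsBaseChange (((C (Localization.AtPrime p)) ⊗[A] B) ⊗[C (Localization.AtPrime p)]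
        ((C (Localization.AtPrime p)) ⊗[A] A'))
      (TensorProduct.mk ((C (Localization.AtPrime p)) ⊗[A] B)
        (((C (Localization.AtPrime p)) ⊗[A] B) ⊗[C (Localization.AtPrime p)]
          ((C (Localization.AtPrime p)) ⊗[A] A'))
        (((C (Localization.AtPrime p)) ⊗[A] B) ⊗[B] N) 1) :=
    TensorProduct.isBaseChange ((C (Localization.AtPrime p)) ⊗[A] B)
      (((C (Localization.AtPrime p)) ⊗[A] B) ⊗[B] N)
      (((C (Localization.AtPrime p)) ⊗[A] B) ⊗[C (Localization.AtPrime p)]
        ((C (Localization.AtPrime p)) ⊗[A] A'))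
  have key := Groth.Agent.Helper10.ImpBC.construct N p (C (Localization.AtPrime p))
    ((C (Localization.AtPrime p)) ⊗[A] B) (((C (Localization.AtPrime p)) ⊗[A] B) ⊗[B] N) fE hfE
    (maximalIdeal (C (Localization.AtPrime p)))
    A' B' N' f t' t P himp
    ((C (Localization.AtPrime p)) ⊗[A] A')
    (((C (Localization.AtPrime p)) ⊗[A] B) ⊗[C (Localization.AtPrime p)]
      ((C (Localization.AtPrime p)) ⊗[A] A'))
    ((((C (Localization.AtPrime p)) ⊗[A] B) ⊗[C (Localization.AtPrime p)]
      ((C (Localization.AtPrime p)) ⊗[A] A')) ⊗[(C (Localization.AtPrime p)) ⊗[A] B]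
      (((C (Localization.AtPrime p)) ⊗[A] B) ⊗[B] N))
  obtain ⟨P₂, hP₂, himp₂⟩ := key _ hf₂ T'
    ((maximalIdeal (C (Localization.AtPrime p))).comap σ.toRingHom) hT'le
  obtain ⟨t₀', ht₀', P₀', hP₀', himp₀⟩ := Groth.Agent.Helper27.Pu.down
    (((C (Localization.AtPrime p)) ⊗[A] B) ⊗[B] N) (maximalIdeal (C (Localization.AtPrime p)))
    ((C (Localization.AtPrime p)) ⊗[A] A')
    (((C (Localization.AtPrime p)) ⊗[A] B) ⊗[C (Localization.AtPrime p)]
      ((C (Localization.AtPrime p)) ⊗[A] A'))
    ((((C (Localization.AtPrime p)) ⊗[A] B) ⊗[C (Localization.AtPrime p)]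
      ((C (Localization.AtPrime p)) ⊗[A] A')) ⊗[(C (Localization.AtPrime p)) ⊗[A] B]
      (((C (Localization.AtPrime p)) ⊗[A] B) ⊗[B] N)) _ T'
    ((maximalIdeal (C (Localization.AtPrime p))).comap σ.toRingHom) P₂ himp₂
    e he heT huniq
  obtain ⟨-, -, hle₀, -, hover₀, hass₀, hcl₀⟩ := himp₀
  have hmp : (maximalIdeal (C (Localization.AtPrime p))).LiesOver p := ⟨by
    ext a
    rw [Ideal.under_def, Ideal.mem_comap]
    show _ ↔ algebraMap (Localization.AtPrime p) (C (Localization.AtPrime p))
      (algebraMap A (Localization.AtPrime p) a) ∈ _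
    rw [IsLocalRing.mem_maximalIdeal, map_mem_nonunits_iff, ← IsLocalRing.mem_maximalIdeal,
      IsLocalization.AtPrime.to_map_mem_maximal_iff (Localization.AtPrime p) p]⟩
  exact ⟨C (Localization.AtPrime p), (C (Localization.AtPrime p)) ⊗[A] B,
    ((C (Localization.AtPrime p)) ⊗[A] B) ⊗[B] N, inferInstance, inferInstance, inferInstance,
    inferInstance, inferInstance, inferInstance, inferInstance, inferInstance, inferInstance,
    inferInstance, inferInstance, inferInstance, inferInstance, inferInstance, fE,
    t₀', maximalIdeal (C (Localization.AtPrime p)), ht₀', inferInstance, P₀', hP₀',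
    ⟨hpushE, hfE, hle₀, hmp, hover₀, hass₀, hcl₀⟩,
    ⟨inferInstance, inferInstance, tARAh, inferInstance, hhens, rfl⟩⟩


open IsLocalRing in
/-- For Spec B → Spec A of finite type, a finite B-module N and a prime p of A, an impurity of N above p
over an elementary etale neighbourhood of (A, p) yields an impurity of N above p over the
henselization of the local ring of A at p, based at its closed point. (The other implications of the
published equivalence are separate results: from the henselization to an elementary etale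
neighbourhood, and between elementary etale neighbourhoods and base rings quasi-finite at the
point.) -/
theorem result {A B : Type u} [CommRing A] [CommRing B] [Algebra A B] [Algebra.FiniteType A B] (N : Type u) [AddCommGroup N] [Module B N] [Module.Finite B N] (p : Ideal A) [p.IsPrime] (h : FlatCA.HasImpurity A B N p (fun A' _ _ t => ∃ _ : t.IsPrime, FlatCA.IsEtaleNhd A A' p t)) : FlatCA.HasImpurity A B N p (fun A' _ _ t => ∃ (_ : IsLocalRing A') (_ : Algebra (Localization.AtPrime p) A') (_ : IsScalarTower A (Localization.AtPrime p) A') (_ : IsLocalHom (algebraMap (Localization.AtPrime p) A')), Hensel.IsHenselization (Localization.AtPrime p) A' ∧ t = maximalIdeal A') := by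
  exact main_aux N p h

end Groth.Agent.S9000
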