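import Groth.Statements.S9005
import Groth.Agent.Lib.Helper10.ProjLocal

set_option autoImplicit false
universe u
set_option linter.style.haveILetI false
set_option linter.unusedSectionVars false
open FlatMor

namespace Groth.Agent.S9005

open TensorProduct Groth.Agent.Helper10.ProjLocal

section helpers

/-- the ideal of elements acting as zero on `κ(t) ⊗ N'` -/
theorem lTensor_zero_of_mem_map {A' B' N' : Type u} [CommRing A'] [CommRing B'] [Algebra A' B']
    [AddCommGroup N'] [Module B' N'] [Module A' N'] [IsScalarTower A' B' N']
    (t : Ideal A') [t.IsPrime] (y : B') (hy : y ∈ t.map (algebraMap A' B')) :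
    LinearMap.lTensor t.ResidueField ((LinearMap.lsmul B' N' y).restrictScalars A') = 0 := by
  let I₀ : Ideal B' :=
    { carrier := {y | LinearMap.lTensor t.ResidueField ((LinearMap.lsmul B' N' y).restrictScalars A') = 0}
      add_mem' := by
        intro a b ha hb
        simp only [Set.mem_ofPred_eq] at ha hb ⊢
        have : (LinearMap.lsmul B' N' (a + b)).restrictScalars A' =
            (LinearMap.lsmul B' N' a).restrictScalars A' + (LinearMap.lsmul B' N' b).restrictScalars A' := by
          ext n; simp
        rw [this, LinearMap.lTensor_add, ha, hb, add_zero]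
      zero_mem' := by
        simp only [Set.mem_ofPred_eq]
        have : (LinearMap.lsmul B' N' (0 : B')).restrictScalars A' = 0 := by
          ext n; simp
        rw [this, LinearMap.lTensor_zero]
      smul_mem' := by
        intro c a ha
        simp only [Set.mem_ofPred_eq] at ha ⊢
        have : (LinearMap.lsmul B' N' (c • a)).restrictScalars A' =
            (LinearMap.lsmul B' N' c).restrictScalars A' ∘ₗ (LinearMap.lsmul B' N' a).restrictScalars A' := by
          ext n; simp [mul_smul, smul_comm c a n]
        rw [this, LinearMap.lTensor_comp, ha, LinearMap.comp_zero] }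
  have hle : t.map (algebraMap A' B') ≤ I₀ := by
    rw [Ideal.map_le_iff_le_comap]
    intro a ha
    show LinearMap.lTensor t.ResidueField ((LinearMap.lsmul B' N' (algebraMap A' B' a)).restrictScalars A') = 0
    ext c n
    simp only [TensorProduct.AlgebraTensorModule.curry_apply, TensorProduct.curry_apply,
      LinearMap.coe_restrictScalars, LinearMap.lTensor_tmul, LinearMap.lsmul_apply, LinearMap.zero_apply,
      algebraMap_smul]
    rw [← TensorProduct.smul_tmul, Algebra.smul_def,
      (Ideal.algebraMap_residueField_eq_zero).mpr ha, zero_mul, TensorProduct.zero_tmul]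
  exact hle hy

attribute [local instance] Algebra.TensorProduct.rightAlgebra in
theorem main {A B : Type u} [CommRing A] [CommRing B] [Algebra A B] (N : Type u) [AddCommGroup N]
    [Module B N] [Module A N] [IsScalarTower A B N] [Module.Projective A N] :
    FlatCA.IsUnivPure A B N := by
  intro p _ A' B' N' _ _ _ _ _ _ _ _ _ _ _ _ _ _ f t' t _ _ P _ himp
  obtain ⟨hpush, hf, hle, htp, hPt', hass, hcl⟩ := himp
  -- (a) projective
  haveI : Algebra.IsPushout A A' B B' := hpush.symm
  haveI hproj : Module.Projective A' N' := by
    let e1 : B' ⊗[B] N ≃ₗ[A'] N' := hf.equiv.restrictScalars A'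
    let e2 : B' ⊗[B] N ≃ₗ[A'] A' ⊗[A] N := Algebra.IsPushout.cancelBaseChange A A' B B' N
    exact Module.Projective.of_equiv (e2.symm.trans e1)
  -- (b) an element of `A' ∖ t` in `P + tB'`
  obtain ⟨s, hs, x, hx, y, hy, hxy⟩ : ∃ s : A', s ∉ t ∧ ∃ x ∈ P, ∃ y ∈ t.map (algebraMap A' B'),
      x + y = algebraMap A' B' s := by
    by_contra hcon
    push Not at hcon
    have hdis : Disjoint ((P ⊔ t.map (algebraMap A' B') : Ideal B') : Set B')
        (Algebra.algebraMapSubmonoid B' t.primeCompl : Set B') := by
      rw [Set.disjoint_left]
      rintro b hb ⟨s, hs, rfl⟩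
      obtain ⟨x, hx, y, hy, hxy⟩ := Submodule.mem_sup.mp hb
      exact hcon s hs x hx y hy hxy
    obtain ⟨P', hP', hle', hdis'⟩ := Ideal.exists_le_prime_disjoint _ _ hdis
    haveI := hP'
    apply hcl P' (le_sup_left.trans hle')
    refine ⟨?_⟩
    apply le_antisymm
    · intro a ha
      exact hle' (Ideal.mem_sup_right (Ideal.mem_map_of_mem _ ha))
    · intro a ha
      by_contra hat
      exact Set.disjoint_left.mp hdis' ha ⟨a, hat, rfl⟩
  -- (c) the associated prime
  obtain ⟨hprime, m, hm⟩ := hass
  have hxk : ∃ k : ℕ, ((Algebra.TensorProduct.includeRight (R := A') (A := t'.ResidueField) (B := B')) x) ^ k • m = 0 := by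
    have hmem : (Algebra.TensorProduct.includeRight (R := A') (A := t'.ResidueField) (B := B')) x ∈
        FlatCA.fiberIdeal t' P := Ideal.mem_map_of_mem _ hx
    rw [hm] at hmem
    obtain ⟨k, hk⟩ := hmem
    exact ⟨k, by simpa [Submodule.mem_colon_singleton] using hk⟩
  have hm0 : m ≠ 0 := by
    rintro rfl
    apply hprime.ne_top
    rw [hm, Ideal.radical_eq_top, Ideal.eq_top_iff_one, Submodule.mem_colon_singleton]
    simp
  -- (d) `x` acts injectively on the fibre module
  have hinjκ : Function.Injective
      (LinearMap.lTensor t.ResidueField ((LinearMap.lsmul B' N' x).restrictScalars A')) := by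
    have hx_eq : x = algebraMap A' B' s - y := by rw [← hxy]; ring
    have h0 := lTensor_zero_of_mem_map (N' := N') t y hy
    have h1 : (LinearMap.lsmul B' N' x).restrictScalars A' =
        s • LinearMap.id - (LinearMap.lsmul B' N' y).restrictScalars A' := by
      ext n
      simp [hx_eq]
    have h2 : ∀ w, LinearMap.lTensor t.ResidueField ((LinearMap.lsmul B' N' x).restrictScalars A') w =
        s • w := by
      intro w
      rw [h1, LinearMap.lTensor_sub, LinearMap.sub_apply, h0, LinearMap.zero_apply, sub_zero,
        LinearMap.lTensor_smul, LinearMap.lTensor_id]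
      rfl
    intro z z' hzz'
    have hu : IsUnit (algebraMap A' t.ResidueField s) := by
      rw [isUnit_iff_ne_zero, ne_eq, Ideal.algebraMap_residueField_eq_zero]; exact hs
    have hsm : ∀ w : t.ResidueField ⊗[A'] N', s • w = (algebraMap A' t.ResidueField s) • w := by
      intro w
      rw [algebraMap_smul]
    rw [h2, h2, hsm, hsm] at hzz'
    exact hu.smul_left_cancel.mp hzz'
  have hinj' : Function.Injective
      (LinearMap.lTensor t'.ResidueField ((LinearMap.lsmul B' N' x).restrictScalars A')) := by
    apply lTensor_injective_of_projective t _ hinjκ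
    intro a ha q hq
    rw [Algebra.smul_def] at hq
    rcases mul_eq_zero.mp hq with h | h
    · exfalso
      rw [Ideal.algebraMap_residueField_eq_zero] at h
      exact ha (hle h)
    · exact h
  have hact : ∀ z : (t'.Fiber B') ⊗[B'] N', x • z = 0 → z = 0 := by
    intro z hz
    have h2 : psi t' B' N' (x • z) = 0 := by rw [hz, map_zero]
    rw [psi_smul] at h2
    have h3 : psi t' B' N' z = 0 := (injective_iff_map_eq_zero _).mp hinj' _ h2
    exact (injective_iff_map_eq_zero _).mp (psi_injective t' B' N') _ h3
  have hincl : ∀ w : (t'.Fiber B') ⊗[B'] N',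
      ((Algebra.TensorProduct.includeRight (R := A') (A := t'.ResidueField) (B := B')) x) • w = x • w := by
    intro w
    rw [← algebraMap_smul (t'.Fiber B') x w]
    rfl
  obtain ⟨k, hk⟩ := hxk
  apply hm0
  clear hm
  induction k with
  | zero => simpa using hk
  | succ k ih =>
    apply ih
    apply hact
    rw [pow_succ', mul_smul] at hk
    rw [← hincl]
    exact hk

end helpers

/-- For an affine finite type morphism Spec B → Spec A: a finite B-module which is projective as an
A-module is universally pure over Spec A. (The published statement allows any base scheme S and asks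
the direct image to be locally projective; over an affine base a projective module gives such a
direct image, so this row is that case.) -/
theorem result {A B : Type u} [CommRing A] [CommRing B] [Algebra A B] [Algebra.FiniteType A B] (N : Type u) [AddCommGroup N] [Module B N] [Module A N] [IsScalarTower A B N] [Module.Finite B N] [Module.Projective A N] : FlatCA.IsUnivPure A B N := by
  exact main (A := A) (B := B) N

end Groth.Agent.S9005
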