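import Groth.Statements.S9008
import Mathlib
-- import your own Groth.Agent.* helpers here

set_option autoImplicit false
universe u
open FlatMor

namespace Groth.Agent.S9008

section

theorem main {A B : Type u} [CommRing A] [CommRing B] [Algebra A B] [Algebra.FiniteType A B] (N : Type u) [AddCommGroup N] [Module B N] [Module.Finite B N] (p : Ideal A) [p.IsPrime] : FlatCA.IsUnivPureAlong A B N p ↔ ∀ (A' B' N' : Type u) [CommRing A'] [CommRing B'] [Algebra A A'] [Algebra B B'] [Algebra A' B'] [Algebra A B'] [IsScalarTower A B B'] [IsScalarTower A A' B'] [Algebra.IsPushout A B A' B'] [AddCommGroup N'] [Module B' N'] [Module B N'] [IsScalarTower B B' N'] (g : N →ₗ[B] N'), IsBaseChange B' g → ∀ (p' : Ideal A') [p'.IsPrime], p'.LiesOver p → FlatCA.IsPureAlong A' B' N' p' := by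
  constructor
  · intro hU A' B' N' _ _ _ _ _ _ _ _ hPO _ _ _ _ g hg p' _ hp'
    intro A'' B'' N'' _ _ _ _ _ _ _ _ _ _ _ _ _ _ f t' t _ _ P _ hEt hImp
    obtain ⟨hPO2, hBC2, hle, hto, hPo, hass, hno⟩ := hImp
    letI algAA'' : Algebra A A'' := ((algebraMap A' A'').comp (algebraMap A A')).toAlgebra
    letI algBB'' : Algebra B B'' := ((algebraMap B' B'').comp (algebraMap B B')).toAlgebra
    letI algAB'' : Algebra A B'' := ((algebraMap B' B'').comp (algebraMap A B')).toAlgebra
    letI modBN'' : Module B N'' := Module.compHom N'' (algebraMap B B')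
    haveI t1 : IsScalarTower A A' A'' := IsScalarTower.of_algebraMap_eq (fun _ => rfl)
    haveI t2 : IsScalarTower B B' B'' := IsScalarTower.of_algebraMap_eq (fun _ => rfl)
    haveI t3 : IsScalarTower A B' B'' := IsScalarTower.of_algebraMap_eq (fun _ => rfl)
    haveI t4 : IsScalarTower A B B'' := IsScalarTower.of_algebraMap_eq (fun x => by
      show algebraMap B' B'' (algebraMap A B' x) = algebraMap B' B'' (algebraMap B B' (algebraMap A B x))
      rw [← IsScalarTower.algebraMap_apply A B B'])
    haveI t5 : IsScalarTower A A'' B'' := IsScalarTower.of_algebraMap_eq (fun x => by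
      show algebraMap B' B'' (algebraMap A B' x) = algebraMap A'' B'' (algebraMap A' A'' (algebraMap A A' x))
      rw [← IsScalarTower.algebraMap_apply A' A'' B'', IsScalarTower.algebraMap_apply A' B' B'',
        ← IsScalarTower.algebraMap_apply A A' B'])
    haveI t6 : IsScalarTower B B' N'' := ⟨fun b b' n => by
      rw [Algebra.smul_def, mul_smul]
      rfl⟩
    haveI t7 : IsScalarTower B B'' N'' := ⟨fun b b'' n => by
      rw [Algebra.smul_def, mul_smul]
      show algebraMap B' B'' (algebraMap B B' b) • (b'' • n) = algebraMap B B' b • (b'' • n)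
      rw [algebraMap_smul]⟩
    have hBC : IsBaseChange B'' ((f.restrictScalars B).comp g) := IsBaseChange.comp hg hBC2
    have hPO' : Algebra.IsPushout A B A'' B'' := by
      have h1 : Algebra.IsPushout A A' B B' := hPO.symm
      have h2 : Algebra.IsPushout A' A'' B' B'' := hPO2.symm
      exact ((Algebra.IsPushout.comp_iff A A' B (S' := B') (T := A'') (T' := B'')).mpr h2).symm
    have hto' : t.LiesOver p := Ideal.LiesOver.trans t p' p
    exact hU A'' B'' N'' ((f.restrictScalars B).comp g) t' t P
      ⟨hPO', hBC, hle, hto', hPo, hass, hno⟩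
  · intro h A' B' N' _ _ _ _ _ _ _ _ _ _ _ _ _ _ f t' t _ _ P _ hImp
    obtain ⟨hPO, hBC, hle, hto, hPo, hass, hno⟩ := hImp
    have hpure := h A' B' N' f hBC t hto
    refine hpure A' B' N' LinearMap.id t' t P ?_ ?_
    · refine ⟨inferInstance, ⟨⟨rfl⟩, ?_⟩⟩
      exact RingHom.SurjectiveOnStalks.residueFieldMap_bijective
        (f := (Algebra.ofId A' A').toRingHom)
        (RingHom.surjectiveOnStalks_of_surjective (fun x => ⟨x, rfl⟩)) t t _
    · refine ⟨inferInstance, IsBaseChange.ofEquiv (LinearEquiv.refl B' N'),
        hle, ⟨rfl⟩, hPo, hass, hno⟩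

end

/-- For Spec B → Spec A affine of finite type: a finite B-module is universally pure along the fibre
over a prime p of A exactly when every base change of it along a ring map A → A' is pure along the
fibre over every prime of A' above p. -/
theorem result {A B : Type u} [CommRing A] [CommRing B] [Algebra A B] [Algebra.FiniteType A B] (N : Type u) [AddCommGroup N] [Module B N] [Module.Finite B N] (p : Ideal A) [p.IsPrime] : FlatCA.IsUnivPureAlong A B N p ↔ ∀ (A' B' N' : Type u) [CommRing A'] [CommRing B'] [Algebra A A'] [Algebra B B'] [Algebra A' B'] [Algebra A B'] [IsScalarTower A B B'] [IsScalarTower A A' B'] [Algebra.IsPushout A B A' B'] [AddCommGroup N'] [Module B' N'] [Module B N'] [IsScalarTower B B' N'] (g : N →ₗ[B] N'), IsBaseChange B' g → ∀ (p' : Ideal A') [p'.IsPrime], p'.LiesOver p → FlatCA.IsPureAlong A' B' N' p' := by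
  exact Groth.Agent.S9008.main N p

end Groth.Agent.S9008
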