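import Groth.Statements.S9011
import Groth.Agent.Lib.Helper10.ProjLocal

set_option autoImplicit false
universe u
set_option linter.style.haveILetI false
set_option linter.unusedSectionVars false
open FlatMor

namespace Groth.Agent.S9011

open TensorProduct Groth.Agent.Helper10.ProjLocal IsLocalRing

section helpers

variable {R S : Type u} [CommRing R] [IsLocalRing R] [CommRing S] [Algebra R S] (N : Type u)
  [AddCommGroup N] [Module S N] [Module R N] [IsScalarTower R S N] [Module.Projective R N]

theorem part1 (s : S) (hs : s ∈ FlatCA.nzdFiber R S N) :
    FlatCA.UnivInj R ((LinearMap.lsmul S N s).restrictScalars R) := by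
  intro Q _ _
  apply lTensor_injective_of_projective (maximalIdeal R)
  · rw [injective_iff_map_eq_zero]
    intro z hz
    have h1 : psi (maximalIdeal R) S N (s • theta (maximalIdeal R) S N z) = 0 := by
      rw [psi_smul, psi_theta, hz]
    have h2 : s • theta (maximalIdeal R) S N z = 0 := by
      apply psi_injective (maximalIdeal R) S N
      rw [h1, map_zero]
    have h3 : theta (maximalIdeal R) S N z = 0 :=
      (mem_nonZeroSMulDivisors_iff.mp hs) (theta (maximalIdeal R) S N z) h2
    rw [← psi_theta (maximalIdeal R) S N z, h3, map_zero]
  · intro a ha q hq
    have hu : IsUnit a := by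
      by_contra h
      exact ha ((IsLocalRing.mem_maximalIdeal a).mpr h)
    obtain ⟨u, rfl⟩ := hu
    rw [← one_smul R q, ← u.inv_mul, mul_smul, hq, smul_zero]

theorem part2 : FlatCA.UnivInj R
    ((LocalizedModule.mkLinearMap (FlatCA.nzdFiber R S N) N).restrictScalars R) := by
  intro Q _ _
  rw [injective_iff_map_eq_zero]
  intro x hx
  set T := FlatCA.nzdFiber R S N with T_def
  set g := LocalizedModule.mkLinearMap T N with g_def
  have hloc : IsLocalizedModule T (AlgebraTensorModule.rTensor R Q g) := inferInstance
  have h1 : (AlgebraTensorModule.rTensor R Q g) (TensorProduct.comm R Q N x) = 0 := by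
    have : ∀ y : Q ⊗[R] N, (AlgebraTensorModule.rTensor R Q g) (TensorProduct.comm R Q N y) =
        TensorProduct.comm R Q _ (LinearMap.lTensor Q (g.restrictScalars R) y) := by
      intro y
      induction y using TensorProduct.induction_on with
      | zero => simp
      | tmul q n => simp
      | add a b ha hb => simp only [map_add, ha, hb]
    rw [this, hx, map_zero]
  obtain ⟨c, hc⟩ := (IsLocalizedModule.eq_zero_iff T (AlgebraTensorModule.rTensor R Q g)).mp h1
  have h2 : LinearMap.lTensor Q ((LinearMap.lsmul S N c.1).restrictScalars R) x = 0 := by
    have : ∀ y : Q ⊗[R] N, TensorProduct.comm R Q N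
        (LinearMap.lTensor Q ((LinearMap.lsmul S N c.1).restrictScalars R) y) =
        c • (TensorProduct.comm R Q N y) := by
      intro y
      induction y using TensorProduct.induction_on with
      | zero => simp
      | tmul q n =>
        simp only [LinearMap.lTensor_tmul, TensorProduct.comm_tmul, LinearMap.restrictScalars_apply,
          LinearMap.lsmul_apply]
        rfl
      | add a b ha hb => simp only [map_add, smul_add, ha, hb]
    apply (TensorProduct.comm R Q N).injective
    rw [this, hc, map_zero]
  exact (injective_iff_map_eq_zero _).mp (part1 N c.1 c.2 Q) x h2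

end helpers

open IsLocalRing in
/-- For a local ring R with maximal ideal m, an R-algebra S with S/mS Noetherian and an S-module N with
N/mN finite over S/mS which is projective as an R-module, every element of S that is a
nonzerodivisor on N/mN acts R-universally injectively on N, and the map from N to its localization
at all such elements is R-universally injective. -/
theorem result {R S : Type u} [CommRing R] [IsLocalRing R] [CommRing S] [Algebra R S] (N : Type u) [AddCommGroup N] [Module S N] [Module R N] [IsScalarTower R S N] [IsNoetherianRing ((maximalIdeal R).Fiber S)] [Module.Finite ((maximalIdeal R).Fiber S) (FlatCA.fiberMod (maximalIdeal R) S N)] [Module.Projective R N] : (∀ s ∈ FlatCA.nzdFiber R S N, FlatCA.UnivInj R ((LinearMap.lsmul S N s).restrictScalars R)) ∧ FlatCA.UnivInj R ((LocalizedModule.mkLinearMap (FlatCA.nzdFiber R S N) N).restrictScalars R) := by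
  exact ⟨fun s hs => part1 N s hs, part2 N⟩

end Groth.Agent.S9011
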