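import Groth.Statements.S9017
import Mathlib
import Groth.Agent.Lib.Helper14.FlatDescD
-- import your own Groth.Agent.* helpers here

set_option autoImplicit false
universe u
open FlatMor

namespace Groth.Agent.S9017

open CategoryTheory CategoryTheory.Limits AlgebraicGeometry Opposite in
/-- For f : X → S, a homomorphism u : F → G of quasi-coherent O_X-modules, a scheme T over S and an fpqc
covering family of S-morphisms T_i → T, the base change u_T on X_T = X ×_S T is injective (a
monomorphism in the abelian category of O-modules) if and only if u_{T_i} is injective for every i.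
(Injectivity of u_T is not preserved by arbitrary base change, so this variant is a sheaf condition
on coverings rather than a subfunctor of the final functor.) -/
theorem result {X S : Scheme.{u}} (f : X ⟶ S) {F G : X.Modules} [Coh.IsQCoh F] [Coh.IsQCoh G] (u : F ⟶ G)
    (T : Over S) {ι : Type u} (Ti : ι → Over S) (g : ∀ i, Ti i ⟶ T)
    (hcov : Presieve.ofArrows (fun i => (Ti i).left) (fun i => (g i).left) ∈ Scheme.fpqcPrecoverage T.left) :
    Mono ((Scheme.Modules.pullback (pullback.fst f T.hom)).map u) ↔
      ∀ i, Mono ((Scheme.Modules.pullback (pullback.fst f (Ti i).hom)).map u) := by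
  haveI : SheafOfModules.IsQuasicoherent (R := X.ringCatSheaf) F := ‹Coh.IsQCoh F›
  haveI : SheafOfModules.IsQuasicoherent (R := X.ringCatSheaf) G := ‹Coh.IsQCoh G›
  obtain ⟨hsurj, hflat⟩ := (Scheme.ofArrows_mem_precoverage_iff (P := @Flat)).1 hcov.2
  haveI : ∀ i, Flat (g i).left := hflat
  haveI : ((Scheme.Modules.pullback (pullback.fst f T.hom)).obj F).IsQuasicoherent :=
    Groth.Agent.Helper13.Pullback.isQuasicoherent_pullback _ _
  haveI : ((Scheme.Modules.pullback (pullback.fst f T.hom)).obj G).IsQuasicoherent :=
    Groth.Agent.Helper13.Pullback.isQuasicoherent_pullback _ _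
  have key : ∀ i, Mono ((Scheme.Modules.pullback (pullback.fst f (Ti i).hom)).map u) ↔
      Mono ((Scheme.Modules.pullback (Groth.Agent.Helper14.FlatDesc.bc f (g i))).map
        ((Scheme.Modules.pullback (pullback.fst f T.hom)).map u)) := fun i =>
    (Groth.Agent.Helper14.LimMod.mono_map_iff_of_natIso
      (Groth.Agent.Helper14.FlatDesc.pullbackBcIso f (g i)) u).symm
  constructor
  · intro h i
    rw [key i]
    exact Groth.Agent.Helper14.LimMod.mono_pullback_map_of_hasFlatAtlas _
      (Groth.Agent.Helper14.LimMod.hasFlatAtlas_of_flat _) _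
  · intro h
    exact Groth.Agent.Helper14.FlatDesc.mono_of_flat_cover _
      (fun i => Groth.Agent.Helper14.FlatDesc.bc f (g i))
      (Groth.Agent.Helper14.FlatDesc.bc_jointly_surjective f Ti g hsurj)
      (fun i => (key i).1 (h i))

end Groth.Agent.S9017
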