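import Groth.Statements.S9027
import Mathlib
import Groth.Agent.Lib.Helper14.TrdegD
-- import your own Groth.Agent.* helpers here

set_option autoImplicit false
universe u
open FlatMor

namespace Groth.Agent.S9027

open CategoryTheory CategoryTheory.Limits AlgebraicGeometry in
/-- the residue field of `x` has transcendence degree `< n` over that of its image. -/
def TrdegLT {P Y : Scheme.{u}} (q : P ⟶ Y) (x : P) (n : ℕ) : Prop :=
  letI := (q.residueFieldMap x).hom.toAlgebra
  Algebra.trdeg (Y.residueField (q x)) (P.residueField x) < (n : Cardinal.{u})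

open CategoryTheory CategoryTheory.Limits AlgebraicGeometry Groth.Agent.Helper14.Trdeg Groth.Agent.Helper14.FlatDesc in
theorem aux {X X' S : Scheme.{u}} (f : X ⟶ S) (F : X.Modules) [F.IsQuasicoherent]
    (h : X' ⟶ X) [Etale h] (n : ℕ) (T : Over S)
    (hT : FlatFun.DimFibresLT n (PicF.XTproj f T)
        {x | ¬ FlatMod.IsFlatOverAt (PicF.XTproj f T) (FGA.ET f F T) x}) :
    FlatFun.DimFibresLT n (PicF.XTproj (h ≫ f) T)
        {x | ¬ FlatMod.IsFlatOverAt (PicF.XTproj (h ≫ f) T) (FGA.ET (h ≫ f) ((Scheme.Modules.pullback h).obj F) T) x} := by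
  let hh : pullback (h ≫ f) T.hom ⟶ pullback f T.hom :=
    pullback.map (h ≫ f) T.hom f T.hom h (𝟙 T.left) (𝟙 S) (by simp) (by simp)
  have hh1 : hh ≫ pullback.fst f T.hom = pullback.fst (h ≫ f) T.hom ≫ h :=
    pullback.lift_fst _ _ _
  have hh2 : hh ≫ pullback.snd f T.hom = pullback.snd (h ≫ f) T.hom :=
    (pullback.lift_snd _ _ _).trans (Category.comp_id _)
  have sqR : IsPullback (pullback.snd f T.hom) (pullback.fst f T.hom) T.hom f :=
    (IsPullback.of_hasPullback f T.hom).flip
  have sqO : IsPullback (hh ≫ pullback.snd f T.hom) (pullback.fst (h ≫ f) T.hom) T.hom (h ≫ f) := by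
    rw [hh2]
    exact (IsPullback.of_hasPullback (h ≫ f) T.hom).flip
  have sqTop : IsPullback hh (pullback.fst (h ≫ f) T.hom) (pullback.fst f T.hom) h :=
    IsPullback.of_right sqO hh1 sqR
  haveI : Etale hh := MorphismProperty.of_isPullback (P := @Etale) sqTop.flip inferInstance
  -- the comparison isomorphism of modules
  let e : (Scheme.Modules.pullback hh).obj (FGA.ET f F T) ≅
      FGA.ET (h ≫ f) ((Scheme.Modules.pullback h).obj F) T :=
    (Scheme.Modules.pullbackComp hh (pullback.fst f T.hom)).app F ≪≫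
      (Scheme.Modules.pullbackCongr hh1).app F ≪≫
      ((Scheme.Modules.pullbackComp (pullback.fst (h ≫ f) T.hom) h).app F).symm
  intro x' hx'
  have hp : hh x' ∈ {x | ¬ FlatMod.IsFlatOverAt (PicF.XTproj f T) (FGA.ET f F T) x} := by
    intro hfl
    apply hx'
    have h1 := isFlatOverAt_pullback_of_flat hh (PicF.XTproj f T) (FGA.ET f F T) x' hfl
    have h2 := isFlatOverAt_of_iso _ e x' h1
    have key : ∀ (q₁ q₂ : pullback (h ≫ f) T.hom ⟶ T.left) (_ : q₁ = q₂),
        FlatMod.IsFlatOverAt q₁ (FGA.ET (h ≫ f) ((Scheme.Modules.pullback h).obj F) T) x' →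
        FlatMod.IsFlatOverAt q₂ (FGA.ET (h ≫ f) ((Scheme.Modules.pullback h).obj F) T) x' := by
      rintro _ _ rfl hq
      exact hq
    exact key _ _ hh2 h2
  have h3 := hT _ hp
  have halg : letI := (hh.residueFieldMap x').hom.toAlgebra
      Algebra.IsAlgebraic ((pullback f T.hom).residueField (hh x'))
        ((pullback (h ≫ f) T.hom).residueField x') := by
    letI := (hh.residueFieldMap x').hom.toAlgebra
    haveI : Algebra.IsSeparable ((pullback f T.hom).residueField (hh.base x'))
        ((pullback (h ≫ f) T.hom).residueField x') := inferInstance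
    exact Algebra.IsSeparable.isAlgebraic _ _
  have h4 := trdeg_lt_comp_of_isAlgebraic hh (PicF.XTproj f T) x' n halg h3
  have key2 : ∀ (q₁ q₂ : pullback (h ≫ f) T.hom ⟶ T.left) (_ : q₁ = q₂),
      TrdegLT q₁ x' n → TrdegLT q₂ x' n := by
    rintro _ _ rfl hq
    exact hq
  exact key2 _ _ hh2 h4

open CategoryTheory CategoryTheory.Limits AlgebraicGeometry Opposite in
/-- For f : X → S locally of finite type, F a quasi-coherent O_X-module of finite type, an etale
morphism h : X' → X and n ≥ 0, the functor F_n of F over S is a subfunctor of the functor F_n of the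
pullback h^*F on X' over S: for every scheme T over S, if the base change F_T on X ×_S T is flat
over T in dimensions ≥ n (transcendence-degree form) then so is the base change of h^*F on X' ×_S T. -/
theorem result {X X' S : Scheme.{u}} (f : X ⟶ S) [LocallyOfFiniteType f] (F : X.Modules) [Coh.IsQCoh F] (hF : CohB1.IsFT F)
    (h : X' ⟶ X) [Etale h] (n : ℕ) (T : Over S)
    (hT : FlatFun.DimFibresLT n (PicF.XTproj f T)
        {x | ¬ FlatMod.IsFlatOverAt (PicF.XTproj f T) (FGA.ET f F T) x}) :
    FlatFun.DimFibresLT n (PicF.XTproj (h ≫ f) T)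
        {x | ¬ FlatMod.IsFlatOverAt (PicF.XTproj (h ≫ f) T) (FGA.ET (h ≫ f) ((Scheme.Modules.pullback h).obj F) T) x} := by
  haveI : SheafOfModules.IsQuasicoherent (R := X.ringCatSheaf) F := ‹Coh.IsQCoh F›
  exact aux f F h n T hT

end Groth.Agent.S9027
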