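import Groth.Statements.S9063
import Groth.Agent.Lib.Helper29.TorsD
import Groth.Agent.Lib.Helper29.TorsE

set_option autoImplicit false
universe u
open CategoryTheory CategoryTheory.Limits Opposite
attribute [local instance] HasDerivedCategory.standard
open SiteCmp

namespace Groth.Agent.S9063

set_option synthInstance.maxSize 1024

/-- Let C be a site and A ⊂ Ab(C) the Serre subcategory of torsion abelian sheaves. Then the functor
from D(A) to D_A(C) gives an equivalence: the canonical functor D(A) → D(Ab(C)) induced by the exact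
inclusion is fully faithful, and a complex lies in its essential image exactly when every cohomology
sheaf of it is torsion. That torsion abelian sheaves form a Serre subcategory is carried as an
instance hypothesis. -/
theorem result
    {C : Type u} [SmallCategory C] (J : GrothendieckTopology C)
    [(SiteCmp.torsionSh J).IsSerreClass] :
    (WSerre.toDerived (SiteCmp.torsionSh J)).Full ∧ (WSerre.toDerived (SiteCmp.torsionSh J)).Faithful ∧
      ∀ K : DerivedCategory (Sheaf J AddCommGrpCat.{u}),
        WSerre.cohIn (SiteCmp.torsionSh J) K ↔ (WSerre.toDerived (SiteCmp.torsionSh J)).essImage K := by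
  have hK : ∀ I : CochainComplex (Sheaf J AddCommGrpCat.{u}) ℤ, (∀ n, Injective (I.X n)) →
      (∀ n, SiteCmp.torsionSh J (I.homology n)) →
      QuasiIso (Groth.Agent.Helper29.DAdjA.counitCx (Groth.Agent.Helper29.TorsB.adj J)
        (ComplexShape.up ℤ) I) :=
    fun I hI hH => Groth.Agent.Helper29.TorsD.quasiIso_counitCx J I hI hH
  have hP : ∀ (M : CochainComplex (SiteCmp.torsionSh J).FullSubcategory ℤ) (n : ℤ),
      SiteCmp.torsionSh J ((((SiteCmp.torsionSh J).ι.mapHomologicalComplex
        (ComplexShape.up ℤ)).obj M).homology n) := by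
    intro M n
    have h1 : SiteCmp.torsionSh J ((((SiteCmp.torsionSh J).ι.mapHomologicalComplex
        (ComplexShape.up ℤ)).obj M).X n) := (M.X n).property
    have h2 := (SiteCmp.torsionSh J).prop_of_mono
      ((((SiteCmp.torsionSh J).ι.mapHomologicalComplex (ComplexShape.up ℤ)).obj M).iCycles n) h1
    exact (SiteCmp.torsionSh J).prop_of_epi
      ((((SiteCmp.torsionSh J).ι.mapHomologicalComplex (ComplexShape.up ℤ)).obj M).homologyπ n) h2
  have hrefl : ∀ {M N : CochainComplex (SiteCmp.torsionSh J).FullSubcategory ℤ} (a : M ⟶ N),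
      QuasiIso (((SiteCmp.torsionSh J).ι.mapHomologicalComplex (ComplexShape.up ℤ)).map a) →
        QuasiIso a :=
    fun a ha => (HomologicalComplex.quasiIso_map_iff_of_preservesHomology a (SiteCmp.torsionSh J).ι).1 ha
  refine ⟨?_, ?_, fun K => ?_⟩
  · exact Groth.Agent.Helper29.TorsE.full (Groth.Agent.Helper29.TorsB.adj J)
      (SiteCmp.torsionSh J) hK hP hrefl
  · exact Groth.Agent.Helper29.TorsE.faithful (Groth.Agent.Helper29.TorsB.adj J)
      (SiteCmp.torsionSh J) hK hP hrefl
  · exact Groth.Agent.Helper29.TorsE.essImage_iff (Groth.Agent.Helper29.TorsB.adj J)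
      (SiteCmp.torsionSh J) hK hP K


end Groth.Agent.S9063
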