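import Groth.Statements.S9069
import Groth.Agent.Lib.Helper24.WayOut5

set_option autoImplicit false
universe u
open CategoryTheory CategoryTheory.Limits Opposite
attribute [local instance] HasDerivedCategory.standard
open SiteCmp

namespace Groth.Agent.S9069


open Groth.Agent.Helper24.WayOut DerivedCategory

/-- Let f be a flat morphism from the ringed site (C, O_C) to the ringed site (D, O_D) and A ⊂ Mod(O_C),
A' ⊂ Mod(O_D) weak Serre subcategories such that f^* induces an equivalence of categories A' → A and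
F' → Rf_*f^*F' is an isomorphism for every F' ∈ A'. Then f^* : D^+_{A'}(O_D) → D^+_A(O_C) is an
equivalence with quasi-inverse Rf_*: on bounded below objects with cohomology sheaves in A' (resp.
A) the functor f^* (resp. Rf_*) lands in bounded below objects with cohomology sheaves in A (resp.
A'), and the unit (resp. counit) of the adjunction is an isomorphism there. The adjunction f^* ⊣
Rf_* on unbounded derived categories is a hypothesis; f^* is exact, so it is its own derived
functor. Stated for ringed sites; the published statement is for ringed topoi. -/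
theorem result
    {C : Type u} [SmallCategory C] {J : GrothendieckTopology C} {O_C : Sheaf J CommRingCat.{u}}
    {D : Type u} [SmallCategory D] {K : GrothendieckTopology D} {O_D : Sheaf K CommRingCat.{u}}
    (f : ModSite.RMor O_C O_D) [PreservesFiniteLimits f.pull] [SiteCmp.HasRpushD f]
    (adj : SiteCmp.pullD f ⊣ SiteCmp.RpushD f)
    (A : ObjectProperty (ModSite.Mod O_C)) [WSerre.IsWeakSerre A]
    (A' : ObjectProperty (ModSite.Mod O_D)) [WSerre.IsWeakSerre A']
    (h2a : ∀ F' : ModSite.Mod O_D, A' F' → A (f.pull.obj F'))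
    (h2b : ∀ F' G' : ModSite.Mod O_D, A' F' → A' G' →
      Function.Bijective (fun φ : F' ⟶ G' => f.pull.map φ))
    (h2c : ∀ F : ModSite.Mod O_C, A F → ∃ F' : ModSite.Mod O_D, A' F' ∧ Nonempty (f.pull.obj F' ≅ F))
    (h3 : ∀ F' : ModSite.Mod O_D, A' F' → IsIso (adj.unit.app (SiteCmp.inD O_D F'))) :
    (∀ Y : DerivedCategory (ModSite.Mod O_D), WSerre.cohInPlus A' Y →
      WSerre.cohInPlus A ((SiteCmp.pullD f).obj Y) ∧ IsIso (adj.unit.app Y)) ∧
    (∀ X : DerivedCategory (ModSite.Mod O_C), WSerre.cohInPlus A X →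
      WSerre.cohInPlus A' ((SiteCmp.RpushD f).obj X) ∧ IsIso (adj.counit.app X)) := by
  have hL1 := leftTExact_mapDerivedCategory f.pull
  have hL2 := rightTExact_mapDerivedCategory f.pull
  -- `L (M[0]) ≅ (f^* M)[0]`
  have eS : ∀ M : ModSite.Mod O_D, (SiteCmp.pullD f).obj (SiteCmp.inD O_D M) ≅
      SiteCmp.inD O_C (f.pull.obj M) := fun M => (f.pull.mapDerivedCategorySingleFunctor 0).app M
  constructor
  · rintro Y ⟨hY1, n₀, hn₀⟩
    refine ⟨⟨?_, n₀, hL1 Y n₀ hn₀⟩, ?_⟩
    · refine cohInImage_of_isGE (SiteCmp.pullD f) A hL1 Y n₀ hn₀ (fun q q' => ?_)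
      exact A.prop_of_iso ((homologyFunctor _ q').mapIso (eS _).symm)
        (prop_homology_single A _ (h2a _ (hY1 q)) q')
    · exact isIso_unit_app adj hL1 hL2 Y n₀ hn₀ (fun q => h3 _ (hY1 q))
  · rintro X ⟨hX1, n₀, hn₀⟩
    -- for `M ∈ A`: `M[0] ≅ L (F'[0])` with `F' ∈ A'`
    have key : ∀ M : ModSite.Mod O_C, A M → ∃ F' : ModSite.Mod O_D, A' F' ∧
        Nonempty ((SiteCmp.pullD f).obj (SiteCmp.inD O_D F') ≅ SiteCmp.inD O_C M) := by
      intro M hM
      obtain ⟨F', hF', ⟨e⟩⟩ := h2c M hM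
      exact ⟨F', hF', ⟨eS F' ≪≫ (singleFunctor _ 0).mapIso e⟩⟩
    have h1 := cohIn_rightAdjoint_of_isGE adj A' hL2 X n₀ hn₀ (fun q q' => by
      obtain ⟨F', hF', ⟨e⟩⟩ := key _ (hX1 q)
      have := h3 F' hF'
      have e' : SiteCmp.inD O_D F' ≅ (SiteCmp.RpushD f).obj
          (SiteCmp.inD O_C ((homologyFunctor _ q).obj X)) :=
        asIso (adj.unit.app (SiteCmp.inD O_D F')) ≪≫ (SiteCmp.RpushD f).mapIso e
      exact A'.prop_of_iso ((homologyFunctor _ q').mapIso e')
        (prop_homology_single A' _ hF' q'))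
    refine ⟨⟨h1.1, n₀, h1.2⟩, ?_⟩
    refine isIso_counit_app adj hL1 hL2 X n₀ hn₀ (fun q => ?_)
    obtain ⟨F', hF', ⟨e⟩⟩ := key _ (hX1 q)
    exact isIso_app_of_iso adj.counit e
      (isIso_counit_app_obj_of_isIso_unit adj _ (h3 F' hF'))

end Groth.Agent.S9069
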