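import Groth.Statements.S9070
import Groth.Agent.Lib.Helper24.SiteEquiv2
import Groth.Agent.Lib.Helper24.RlimTruncMod
import Groth.Agent.Lib.Helper24.RlimConst4
import Groth.Agent.Lib.Helper24.DProd3
import Groth.Agent.Lib.Helper24.ModGroth

set_option autoImplicit false
universe u
open CategoryTheory CategoryTheory.Limits Opposite
attribute [local instance] HasDerivedCategory.standard
open SiteCmp

namespace Groth.Agent.S9070


open Groth.Agent.Helper24.SiteEquiv Groth.Agent.Helper24.RlimTrunc Groth.Agent.Helper24.RlimConst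
  Groth.Agent.Helper24.ModGroth Groth.Agent.Helper24.DProd DerivedCategory

/-- convergence of the truncation tower under the finite cohomological dimension hypotheses -/
lemma isRlimVia_of_cohIn {C : Type u} [SmallCategory C] {J : GrothendieckTopology C}
    (O : Sheaf J CommRingCat.{u}) (A : ObjectProperty (ModSite.Mod O)) (B : Set C)
    (hB : ∀ U : C, ∃ (ι : Type u) (Y : ι → C) (g : ∀ i, Y i ⟶ U), Sieve.ofArrows Y g ∈ J U ∧ ∀ i, Y i ∈ B)
    (hA : ∀ V ∈ B, ∃ d : ℕ, ∀ T ∈ J V, ∃ (ι : Type u) (Y : ι → C) (g : ∀ i, Y i ⟶ V),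
      (∀ i, T.arrows (g i)) ∧ Sieve.ofArrows Y g ∈ J V ∧
      ∀ (i : ι) (F : ModSite.Mod O), A F → ∀ k : ℕ, d < k → Subsingleton (ModSite.HU O F k (Y i)))
    (X : DerivedCategory (ModSite.Mod O)) (hX : WSerre.cohIn A X) [HasProduct (CohCx.truncTower X)] :
    CohCx.IsRlimVia (CohCx.truncTower X) (CohCx.truncTowerMap X) X (CohCx.toTruncTower X) := by
  refine isRlimVia_truncTower_mod O X (fun U => ?_)
  obtain ⟨ι, Y, g, hcov, hY⟩ := hB U
  refine ⟨ι, Y, g, hcov, fun i => ?_⟩
  obtain ⟨d, hd⟩ := hA (Y i) (hY i)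
  refine ⟨fun _ => d, fun T hT => ?_⟩
  obtain ⟨ι', Y', g', hg', hcov', hv⟩ := hd T hT
  exact ⟨ι', Y', g', hg', hcov', fun i' m k hk => hv i' _ (hX _) k (by
    have hk' : ((d : ℕ) : ℤ) < (k : ℤ) := hk
    exact_mod_cast hk')⟩

lemma hasProduct_truncTower {C : Type u} [SmallCategory C] {J : GrothendieckTopology C}
    (O : Sheaf J CommRingCat.{u}) (X : DerivedCategory (ModSite.Mod O)) :
    HasProduct (CohCx.truncTower X) :=
  hasProduct_of_isGE _ (fun n => -(n : ℤ)) (fun n => inferInstance)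

/-- Let f be a flat morphism from the ringed site (C, O_C) to the ringed site (D, O_D) and A ⊂ Mod(O_C),
A' ⊂ Mod(O_D) weak Serre subcategories such that (2) f^* restricts to an equivalence from A' onto A,
(3) the unit F' → Rf_*f^*F' is invertible for each F' ∈ A', and (4), (5) each of C, O_C, A and D,
O_D, A' admits a set of objects covering everything, every member V having an integer d_V and a
cofinal system of coverings {V_i → V} with H^p(V_i, F) = 0 for F in the subcategory and p > d_V.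
Then f^* : D_{A'}(O_D) → D_A(O_C) is an equivalence with quasi-inverse Rf_*: on objects with
cohomology sheaves in A' (resp. A) the functor f^* (resp. Rf_*) lands in objects with cohomology
sheaves in A (resp. A') and the unit (resp. counit) is an isomorphism there. The adjunction f^* ⊣
Rf_* on unbounded derived categories is a hypothesis; f^* is exact, so it is its own derived
functor. Stated for ringed sites; the published statement is for ringed topoi. -/
theorem result
    {C : Type u} [SmallCategory C] {J : GrothendieckTopology C} {O_C : Sheaf J CommRingCat.{u}}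
    {D : Type u} [SmallCategory D] {K : GrothendieckTopology D} {O_D : Sheaf K CommRingCat.{u}}
    (f : ModSite.RMor O_C O_D) [PreservesFiniteLimits f.pull] [SiteCmp.HasRpushD f]
    (adj : SiteCmp.pullD f ⊣ SiteCmp.RpushD f)
    (A : ObjectProperty (ModSite.Mod O_C)) [WSerre.IsWeakSerre A]
    (A' : ObjectProperty (ModSite.Mod O_D)) [WSerre.IsWeakSerre A']
    (h2a : ∀ F' : ModSite.Mod O_D, A' F' → A (f.pull.obj F'))
    (h2b : ∀ F' G' : ModSite.Mod O_D, A' F' → A' G' →
      Function.Bijective (fun φ : F' ⟶ G' => f.pull.map φ))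
    (h2c : ∀ F : ModSite.Mod O_C, A F → ∃ F' : ModSite.Mod O_D, A' F' ∧ Nonempty (f.pull.obj F' ≅ F))
    (h3 : ∀ F' : ModSite.Mod O_D, A' F' → IsIso (adj.unit.app (SiteCmp.inD O_D F')))
    (B : Set C) (B' : Set D)
    (hB : ∀ U : C, ∃ (ι : Type u) (Y : ι → C) (g : ∀ i, Y i ⟶ U), Sieve.ofArrows Y g ∈ J U ∧ ∀ i, Y i ∈ B)
    (hA : ∀ V ∈ B, ∃ d : ℕ, ∀ T ∈ J V, ∃ (ι : Type u) (Y : ι → C) (g : ∀ i, Y i ⟶ V),
      (∀ i, T.arrows (g i)) ∧ Sieve.ofArrows Y g ∈ J V ∧
      ∀ (i : ι) (F : ModSite.Mod O_C), A F → ∀ k : ℕ, d < k → Subsingleton (ModSite.HU O_C F k (Y i)))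
    (hB' : ∀ U : D, ∃ (ι : Type u) (Y : ι → D) (g : ∀ i, Y i ⟶ U), Sieve.ofArrows Y g ∈ K U ∧ ∀ i, Y i ∈ B')
    (hA' : ∀ V ∈ B', ∃ d : ℕ, ∀ T ∈ K V, ∃ (ι : Type u) (Y : ι → D) (g : ∀ i, Y i ⟶ V),
      (∀ i, T.arrows (g i)) ∧ Sieve.ofArrows Y g ∈ K V ∧
      ∀ (i : ι) (F : ModSite.Mod O_D), A' F → ∀ k : ℕ, d < k → Subsingleton (ModSite.HU O_D F k (Y i))) :
    (∀ Y : DerivedCategory (ModSite.Mod O_D), WSerre.cohIn A' Y →
      WSerre.cohIn A ((SiteCmp.pullD f).obj Y) ∧ IsIso (adj.unit.app Y)) ∧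
    (∀ X : DerivedCategory (ModSite.Mod O_C), WSerre.cohIn A X →
      WSerre.cohIn A' ((SiteCmp.RpushD f).obj X) ∧ IsIso (adj.counit.app X)) := by
  have HA : ∀ X : DerivedCategory (ModSite.Mod O_C), WSerre.cohIn A X →
      ∀ [HasProduct (CohCx.truncTower X)],
      CohCx.IsRlimVia (CohCx.truncTower X) (CohCx.truncTowerMap X) X (CohCx.toTruncTower X) :=
    fun X hX _ => isRlimVia_of_cohIn O_C A B hB hA X hX
  have HA' : ∀ (K' : ℕ → DerivedCategory (ModSite.Mod O_D)) (t : ∀ n, K' (n + 1) ⟶ K' n)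
      [HasProduct K'], (∀ n, WSerre.cohInPlus A' (K' n)) →
      (∀ j : ℤ, ∃ n₀ : ℕ, ∀ n, n₀ ≤ n → IsIso ((homologyFunctor _ j).map (t n))) →
      ∀ (L : DerivedCategory (ModSite.Mod O_D)) (a : ∀ n, L ⟶ K' n), CohCx.IsRlimVia K' t L a →
      ∀ j : ℤ, ∃ n₀ : ℕ, ∀ n, n₀ ≤ n → IsIso ((homologyFunctor _ j).map (a n)) := by
    intro K' t _ hK hconst L a hL j
    obtain ⟨n₁, hn₁⟩ := hconst j
    exact ⟨n₁, fun n hn => isIso_homology_rlim O_D A' B' hB' hA' K' t hK hconst L a hL j n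
      (fun k hk => hn₁ k (le_trans hn hk))⟩
  have hpA : ∀ X : DerivedCategory (ModSite.Mod O_C), HasProduct (CohCx.truncTower X) :=
    fun X => hasProduct_truncTower O_C X
  have hR : Groth.Agent.Helper24.WayOut.LeftTExact (SiteCmp.RpushD f) := by
    haveI : (SiteCmp.RpushD f).PreservesZeroMorphisms := by
      haveI : (SiteCmp.RpushD f).Additive := adj.right_adjoint_additive
      infer_instance
    exact Groth.Agent.Helper24.WayOut.leftTExact_of_adjunction adj
      (Groth.Agent.Helper24.WayOut.rightTExact_mapDerivedCategory f.pull)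
  have hpB : ∀ X : DerivedCategory (ModSite.Mod O_C),
      HasProduct (fun n => (SiteCmp.RpushD f).obj (CohCx.truncTower X n)) :=
    fun X => hasProduct_of_isGE _ (fun n => -(n : ℤ)) (fun n => hR _ _ inferInstance)
  exact ⟨fun Y hY => part1 f.pull adj A A' h2c h3 HA HA' hpA hpB h2a h2b Y hY,
    fun X hX => part2 f.pull adj A A' h2c h3 HA HA' hpA hpB X hX⟩

end Groth.Agent.S9070
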