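import Groth.Statements.S9071
import Groth.Agent.S9080
import Groth.Agent.Lib.Helper24.EpsMod
import Groth.Agent.Lib.Helper24.WSerreImage
import Groth.Agent.Lib.Helper24.UnitInD

set_option autoImplicit false
universe u
open CategoryTheory CategoryTheory.Limits Opposite
attribute [local instance] HasDerivedCategory.standard
open SiteCmp

namespace Groth.Agent.S9071


open Groth.Agent.Helper24.EpsMod Groth.Agent.Helper24.WSerreImage Groth.Agent.Helper24.UnitInD
  Groth.Agent.Helper24.RlimTrunc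

/-- Let τ' be a coarser topology than τ on a category C, O a τ-sheaf of rings and ε the comparison
morphism from (C_τ, O) to (C_τ', O). Let B be a set of objects and A a full subcategory of
presheaves of O-modules such that (1) every object of A is a τ-sheaf, (2) A forms a weak Serre
subcategory inside Mod(O_τ), (3) each object of C admits a τ'-covering by members of B, and (4)
H^p_τ(U, F) = 0 for U ∈ B, F ∈ A, p > 0. Then the essential image of A under ε_* forms a weak Serre
subcategory inside Mod(O_τ') and ε^*, Rε_* are quasi-inverse equivalences between D_A(O_τ') and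
D_A(O_τ): on objects with cohomology sheaves in the respective subcategory, ε^* and Rε_* preserve
that condition and the unit and counit are isomorphisms. In the order of topologies used here the
finer topology τ is the larger one, J, and τ' is J' ≤ J; A is given as a property of τ-sheaves of
modules (condition (1) built in); flatness of ε, existence of the unbounded Rε_* and an adjunction
ε^* ⊣ Rε_* are hypotheses. -/
theorem result
    {C : Type u} [SmallCategory C] {J J' : GrothendieckTopology C} (h : J' ≤ J) (O : Sheaf J CommRingCat.{u})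
    [PreservesFiniteLimits (SiteCmp.eps h O).pull] [SiteCmp.HasRpushD (SiteCmp.eps h O)]
    (adj : SiteCmp.pullD (SiteCmp.eps h O) ⊣ SiteCmp.RpushD (SiteCmp.eps h O))
    (A : ObjectProperty (ModSite.Mod O)) [WSerre.IsWeakSerre A] (B : Set C)
    (h3 : ∀ U : C, ∃ (ι : Type u) (Y : ι → C) (g : ∀ i, Y i ⟶ U), Sieve.ofArrows Y g ∈ J' U ∧ ∀ i, Y i ∈ B)
    (h4 : ∀ U ∈ B, ∀ F : ModSite.Mod O, A F → ∀ p : ℕ, 0 < p → Subsingleton (ModSite.HU O F p U)) :
    WSerre.IsWeakSerre (A.map (SiteCmp.eps h O).push) ∧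
    (∀ Y : DerivedCategory (ModSite.Mod (SiteCmp.epsRing h O)), WSerre.cohIn (A.map (SiteCmp.eps h O).push) Y →
      WSerre.cohIn A ((SiteCmp.pullD (SiteCmp.eps h O)).obj Y) ∧ IsIso (adj.unit.app Y)) ∧
    (∀ X : DerivedCategory (ModSite.Mod O), WSerre.cohIn A X →
      WSerre.cohIn (A.map (SiteCmp.eps h O).push) ((SiteCmp.RpushD (SiteCmp.eps h O)).obj X) ∧
      IsIso (adj.counit.app X)) := by
  have hE : ∀ {X Y : ModSite.Mod O} (p : X ⟶ Y), Epi p → A (kernel p) → A X → A Y →
      Epi ((SiteCmp.eps h O).push.map p) := by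
    intro X Y p hp hK _ _
    exact epi_push_map h O p B h3
      (fun W hW => subsingleton_ext_ZM O W _ 1 (h4 W hW _ hK 1 one_pos))
  have hW : WSerre.IsWeakSerre (A.map (SiteCmp.eps h O).push) :=
    isWeakSerre_map (SiteCmp.eps h O).adj A hE
  refine ⟨hW, ?_⟩
  haveI := hW
  have h2a : ∀ F' : ModSite.Mod (SiteCmp.epsRing h O), (A.map (SiteCmp.eps h O).push) F' →
      A ((SiteCmp.eps h O).pull.obj F') := fun F' hF' => prop_F_obj (SiteCmp.eps h O).adj A hF'
  have hu : ∀ F' : ModSite.Mod (SiteCmp.epsRing h O), (A.map (SiteCmp.eps h O).push) F' →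
      IsIso ((SiteCmp.eps h O).adj.unit.app F') :=
    fun F' hF' => isIso_unit_of_map (SiteCmp.eps h O).adj A hF'
  have h2b : ∀ F' G' : ModSite.Mod (SiteCmp.epsRing h O), (A.map (SiteCmp.eps h O).push) F' →
      (A.map (SiteCmp.eps h O).push) G' →
      Function.Bijective (fun φ : F' ⟶ G' => (SiteCmp.eps h O).pull.map φ) := by
    intro F' G' _ hG'
    haveI := hu G' hG'
    exact bijective_pull_map (SiteCmp.eps h O) F' G'
  have h2c : ∀ F : ModSite.Mod O, A F → ∃ F' : ModSite.Mod (SiteCmp.epsRing h O),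
      (A.map (SiteCmp.eps h O).push) F' ∧ Nonempty ((SiteCmp.eps h O).pull.obj F' ≅ F) :=
    fun F hF => ⟨(SiteCmp.eps h O).push.obj F, A.prop_map_obj _ hF,
      ⟨asIso ((SiteCmp.eps h O).adj.counit.app F)⟩⟩
  have h3' : ∀ F' : ModSite.Mod (SiteCmp.epsRing h O), (A.map (SiteCmp.eps h O).push) F' →
      IsIso (adj.unit.app (SiteCmp.inD (SiteCmp.epsRing h O) F')) := by
    intro F' hF'
    haveI := hu F' hF'
    exact isIso_unit_inD (SiteCmp.eps h O) adj F' B h3
      (fun W hW k hk => h4 W hW _ (h2a F' hF') k hk)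
  have hB : ∀ U : C, ∃ (ι : Type u) (Y : ι → C) (g : ∀ i, Y i ⟶ U),
      Sieve.ofArrows Y g ∈ J U ∧ ∀ i, Y i ∈ B := by
    intro U
    obtain ⟨ι, Y, g, hc, hY⟩ := h3 U
    exact ⟨ι, Y, g, h _ hc, hY⟩
  have hA : ∀ V ∈ B, ∃ d : ℕ, ∀ T ∈ J V, ∃ (ι : Type u) (Y : ι → C) (g : ∀ i, Y i ⟶ V),
      (∀ i, T.arrows (g i)) ∧ Sieve.ofArrows Y g ∈ J V ∧
      ∀ (i : ι) (F : ModSite.Mod O), A F → ∀ k : ℕ, d < k →
        Subsingleton (ModSite.HU O F k (Y i)) := by
    intro V _
    refine ⟨0, fun T hT => ?_⟩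
    obtain ⟨ι, Y, g, hg, hc, hY⟩ := exists_cover_in B hB V T hT
    exact ⟨ι, Y, g, hg, hc, fun i F hF k hk => h4 _ (hY i) F hF k hk⟩
  have hA' : ∀ V ∈ B, ∃ d : ℕ, ∀ T ∈ J' V, ∃ (ι : Type u) (Y : ι → C) (g : ∀ i, Y i ⟶ V),
      (∀ i, T.arrows (g i)) ∧ Sieve.ofArrows Y g ∈ J' V ∧
      ∀ (i : ι) (F : ModSite.Mod O), A F → ∀ k : ℕ, d < k →
        Subsingleton (ModSite.HU O F k ((SiteCmp.eps h O).fn.obj (Y i))) := by
    intro V _
    refine ⟨0, fun T hT => ?_⟩
    obtain ⟨ι, Y, g, hg, hc, hY⟩ := exists_cover_in B h3 V T hT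
    exact ⟨ι, Y, g, hg, hc, fun i F hF k hk => h4 _ (hY i) F hF k hk⟩
  exact Groth.Agent.S9080.result (SiteCmp.eps h O) adj A (A.map (SiteCmp.eps h O).push)
    h2a h2b h2c h3' B B hB hA h3 hA'

end Groth.Agent.S9071
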