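import Groth.Statements.S9102
import Groth.Agent.Lib.Helper10.QcObj
import Groth.Agent.S6842

set_option autoImplicit false
set_option linter.unusedSectionVars false
set_option linter.unusedVariables false
universe u
open CategoryTheory Opposite
open ModSite

namespace Groth.Agent.S9102

section Aux

open CategoryTheory.Limits
open Groth.Agent.S6842 Groth.Agent.Helper10

variable {C : Type u} [SmallCategory C] {J : GrothendieckTopology C} (O : Sheaf J CommRingCat.{u})
  (W : C)

theorem fin_sum (hW : CohCx.IsQcObject ((presheafToSheaf J (Type u)).obj (yoneda.obj W)))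
    {ι : Type u} (F : ι → ModSite.Mod O) [HasCoproduct F] (s : ModSite.sect (∐ F) W) :
    ∃ T : Finset ι, s = ∑ i ∈ T,
      ((Sigma.ι F i).val.app (op W)).hom (((π O F i).val.app (op W)).hom s) := by
  classical
  obtain ⟨S, hS, hloc⟩ := loc_fin O F W s
  obtain ⟨fin, hfin⟩ := QcObj.exists_finite_separating J hW S hS
  choose T t ht using fun i : QcObj.Idx S => hloc i.2.1 i.2.2
  let Ttot : Finset ι := fin.biUnion T
  refine ⟨Ttot, ?_⟩
  refine hfin (ModSite.toAb (∐ F)) _ _ (fun x hx => ?_)
  let tt : ∀ i, ModSite.sect (F i) W := fun i => ((π O F i).val.app (op W)).hom s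
  show ρ O (∐ F) x.2.1 s =
    ρ O (∐ F) x.2.1 (∑ i ∈ Ttot, ((Sigma.ι F i).val.app (op W)).hom (tt i))
  have h1 : ∀ i, ρ O (∐ F) x.2.1 (((Sigma.ι F i).val.app (op W)).hom (tt i)) =
      ((Sigma.ι F i).val.app (op x.1)).hom (if i ∈ T x then t x i else 0) := by
    intro i
    rw [← nat_res, ← nat_res, ht x, π_sum]
  rw [map_sum]
  simp_rw [h1]
  rw [ht x]
  have hsub : T x ⊆ Ttot := Finset.subset_biUnion_of_mem T hx
  rw [← Finset.sum_subset hsub]
  · refine Finset.sum_congr rfl (fun i hi => ?_)
    rw [if_pos hi]
  · intro i _ hi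
    rw [if_neg hi, map_zero]

end Aux

open CategoryTheory.Limits in
/-- Part (2): on a small ringed site (C, O) with O commutative: let W be an object of C which is
quasi-compact, in the sense that the sheaf of sets h_W^# associated to W is a quasi-compact object
of the topos. Then the functor F ↦ F(W) from O-modules to abelian groups commutes with arbitrary
direct sums (coproducts indexed by a small type). -/
theorem result {C : Type u} [SmallCategory C] {J : GrothendieckTopology C}
    (O : Sheaf J CommRingCat.{u}) (W : C)
    (hW : CohCx.IsQcObject ((presheafToSheaf J (Type u)).obj (yoneda.obj W))) (ι : Type u) :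
    PreservesColimitsOfShape (Discrete ι)
      (SheafOfModules.toSheaf (ModSite.ringSh O) ⋙ (sheafSections J AddCommGrpCat.{u}).obj (op W)) := by
  classical
  refine ⟨fun {K} => ?_⟩
  let F : ι → ModSite.Mod O := fun i => K.obj ⟨i⟩
  have e : K ≅ Discrete.functor F := Discrete.natIsoFunctor
  suffices h : PreservesColimit (Discrete.functor F)
      (SheafOfModules.toSheaf (ModSite.ringSh O) ⋙
        (sheafSections J AddCommGrpCat.{u}).obj (op W)) from
    preservesColimit_of_iso_diagram _ e.symm
  have : HasCoproduct F := inferInstance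
  refine preservesColimit_of_preserves_colimit_cocone (colimit.isColimit _) ?_
  let G := SheafOfModules.toSheaf (ModSite.ringSh O) ⋙
    (sheafSections J AddCommGrpCat.{u}).obj (op W)
  let cc := G.mapCocone (colimit.cocone (Discrete.functor F))
  have hiso : IsIso ((colimit.isColimit (Discrete.functor F ⋙ G)).desc cc) := by
    rw [ConcreteCategory.isIso_iff_bijective]
    constructor
    · rw [injective_iff_map_eq_zero]
      intro x hx
      obtain ⟨T, t, rfl⟩ := Groth.Agent.Helper10.LocFin.cocone_finite_sum
        (colimit.cocone (Discrete.functor F ⋙ G)) (colimit.isColimit _) x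
      rw [map_sum] at hx
      let t' : ∀ i, ModSite.sect (F i) W := fun i => t i
      have hx' : ∑ i ∈ T, ((Sigma.ι F i).val.app (op W)).hom (t' i) = 0 :=
        Eq.trans (Finset.sum_congr rfl (fun i _ =>
          (ConcreteCategory.congr_hom (colimit.ι_desc cc ⟨i⟩) (t i)).symm)) hx
      refine Finset.sum_eq_zero (fun i hi => ?_)
      have h2 := congrArg ((Groth.Agent.S6842.π O F i).val.app (op W)).hom hx'
      rw [Groth.Agent.S6842.π_sum, if_pos hi, map_zero] at h2
      have h3 : t i = 0 := h2
      rw [h3]
      exact map_zero _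
    · intro s
      obtain ⟨T, hT⟩ := fin_sum O W hW F s
      refine ⟨∑ i ∈ T, (colimit.ι (Discrete.functor F ⋙ G) ⟨i⟩).hom
        (((Groth.Agent.S6842.π O F i).val.app (op W)).hom s), ?_⟩
      rw [map_sum]
      refine Eq.trans ?_ hT.symm
      refine Finset.sum_congr rfl (fun i _ => ?_)
      exact ConcreteCategory.congr_hom (colimit.ι_desc cc ⟨i⟩) _
  exact IsColimit.ofPointIso (colimit.isColimit (Discrete.functor F ⋙ G))

end Groth.Agent.S9102
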