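import Groth.Statements.S9103
import Groth.Agent.S9102
import Groth.Agent.Lib.Helper17.MT19

set_option autoImplicit false
set_option linter.unusedSectionVars false
set_option linter.unusedVariables false
universe u
open CategoryTheory Opposite
open ModSite

namespace Groth.Agent.S9103

section Aux

open CategoryTheory.Limits
open Groth.Agent.Helper17.MT

variable {C : Type u} [SmallCategory C] {J : GrothendieckTopology C} (O : Sheaf J CommRingCat.{u})
  (U : C)

/-- the sections functor -/
noncomputable abbrev Γ : ModSite.Mod O ⥤ AddCommGrpCat.{u} :=
  SheafOfModules.toSheaf (ModSite.ringSh O) ⋙ (sheafSections J AddCommGrpCat.{u}).obj (op U)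

/-- evaluation at the universal section -/
noncomputable def evHom (M : ModSite.Mod O) :
    (ModSite.freeOn O U ⟶ M) →+ ((Γ O U).obj M) where
  toFun f := (f.val.app (op U)).hom (freeOnGen O U)
  map_zero' := rfl
  map_add' f g := by
    rw [SheafOfModules.add_val, PresheafOfModules.add_app]
    rfl

lemma evHom_bijective (M : ModSite.Mod O) : Function.Bijective (evHom O U M) := by
  have h : ⇑(evHom O U M) = ⇑(freeOnHomEquiv O U M) := by
    funext f
    exact (freeOnHomEquiv_apply O U f).symm
  rw [h]
  exact (freeOnHomEquiv O U M).bijective

/-- the natural transformation -/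
noncomputable def τ : preadditiveCoyoneda.obj (op (ModSite.freeOn O U)) ⟶ Γ O U where
  app M := AddCommGrpCat.ofHom (evHom O U M)
  naturality M M' g := by
    ext f
    rfl

instance (M : ModSite.Mod O) : IsIso ((τ O U).app M) := by
  rw [ConcreteCategory.isIso_iff_bijective]
  exact evHom_bijective O U M

instance : IsIso (τ O U) := NatIso.isIso_of_isIso_app _

end Aux

open CategoryTheory.Limits in
/-- On a small ringed site (C, O) with O commutative: let U be an object of C which is quasi-compact, in
the sense that the sheaf of sets h_U^# associated to U is a quasi-compact object of the topos. Then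
the additive functor Hom_O(j_{U!}O_U, -) from O-modules to abelian groups commutes with arbitrary
direct sums (coproducts indexed by a small type). -/
theorem result {C : Type u} [SmallCategory C] {J : GrothendieckTopology C}
    (O : Sheaf J CommRingCat.{u}) (U : C)
    (hU : CohCx.IsQcObject ((presheafToSheaf J (Type u)).obj (yoneda.obj U))) (ι : Type u) :
    PreservesColimitsOfShape (Discrete ι) (preadditiveCoyoneda.obj (op (ModSite.freeOn O U))) := by
  have h := Groth.Agent.S9102.result O U hU ι
  exact preservesColimitsOfShape_of_natIso (asIso (τ O U)).symm

end Groth.Agent.S9103
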