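import Groth.Statements.S9130
import Groth.Agent.Lib.Helper14.DimIneq
-- import your own Groth.Agent.* helpers here

set_option autoImplicit false
universe u
open CAlg

namespace Groth.Agent.S9130

/-- Let A ⊆ B be domains with B of finite type over A and A Noetherian, and assume every element of B is
algebraic over A. For a height-one prime p of A, only finitely many primes of B lie over p and each
of them has height one. (The published statement assumes that Frac(B) is finite over Frac(A); this
row assumes B algebraic over A, which is equivalent for a finite type extension of domains.) -/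
theorem result (A B : Type u) [CommRing A] [IsDomain A]
    [IsNoetherianRing A] [CommRing B] [IsDomain B] [Algebra A B] [FaithfulSMul A B]
    [Algebra.FiniteType A B] [Algebra.IsAlgebraic A B] (p : Ideal A) [p.IsPrime]
    (hp : p.height = 1) :
    (p.primesOver B).Finite ∧ ∀ q ∈ p.primesOver B, q.height = 1 := by
  classical
  haveI : IsNoetherianRing B := Algebra.FiniteType.isNoetherianRing A B
  have hinj : Function.Injective (algebraMap A B) := FaithfulSMul.algebraMap_injective A B
  have hpbot : p ≠ ⊥ := by
    intro h
    rw [h, Ideal.height_bot] at hp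
    exact zero_ne_one hp
  have hmapbot : p.map (algebraMap A B) ≠ ⊥ := by
    intro h
    apply hpbot
    rw [eq_bot_iff]
    intro a ha
    have h1 : algebraMap A B a ∈ p.map (algebraMap A B) := Ideal.mem_map_of_mem _ ha
    rw [h, Ideal.mem_bot] at h1
    rw [Ideal.mem_bot]
    exact hinj (by rw [h1, map_zero])
  have hmapht : 1 ≤ (p.map (algebraMap A B)).height := by
    rw [Order.one_le_iff_ne_zero, Ne, Ideal.height_eq_zero_iff_eq_bot]
    exact hmapbot
  have hht : ∀ q ∈ p.primesOver B, q.height = 1 := by
    rintro q ⟨hq, hlo⟩
    haveI := hq
    haveI := hlo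
    have hle : p.map (algebraMap A B) ≤ q := by
      rw [Ideal.map_le_iff_le_comap, ← Ideal.under_def, ← hlo.over]
    refine le_antisymm ?_ (hmapht.trans (Ideal.height_mono hle))
    have key := Groth.Agent.Helper14.DimIneq.dimension_inequality A B p q
    have h0 : Algebra.trdeg A B = 0 := _root_.trdeg_eq_zero
    rw [h0, hp, add_zero] at key
    have h2 : (q.height : Cardinal.{u}) ≤ ((1 : ℕ∞) : Cardinal.{u}) :=
      le_self_add.trans key
    exact_mod_cast h2
  refine ⟨?_, hht⟩
  refine Set.Finite.subset ((p.map (algebraMap A B)).finite_minimalPrimes_of_isNoetherianRing B) ?_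
  intro q hq
  have hq1 := hht q hq
  obtain ⟨hqp, hlo⟩ := hq
  haveI := hqp
  have hle : p.map (algebraMap A B) ≤ q := by
    rw [Ideal.map_le_iff_le_comap, ← Ideal.under_def, ← hlo.over]
  exact Ideal.mem_minimalPrimes_of_height_le hle (by rw [hq1]; exact hmapht)

end Groth.Agent.S9130
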