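import Groth.Statements.S9132
import Mathlib
-- import your own Groth.Agent.* helpers here

set_option autoImplicit false
universe u
open CAlg

namespace Groth.Agent.S9132

/-- A Noetherian local domain R that is not a field is dominated by a Noetherian local ring R' of
dimension one lying between R and its fraction field, with R' essentially of finite type over R. -/
theorem result (R : Type u) [CommRing R] [IsDomain R]
    [IsNoetherianRing R] [IsLocalRing R] (hR : ¬ IsField R) :
    ∃ R' : Subalgebra R (FractionRing R), ∃ _ : IsLocalRing R',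
      IsNoetherianRing R' ∧ ringKrullDim R' = 1 ∧ IsLocalHom (algebraMap R R') ∧
        Algebra.EssFiniteType R R' := by
  classical
  let K := FractionRing R
  obtain ⟨V, hV, hloc⟩ := IsLocalRing.exists_factor_valuationRing (algebraMap R K)
  have hinjK : Function.Injective (algebraMap R K) := IsFractionRing.injective R K
  -- generators of the maximal ideal
  obtain ⟨s, hs⟩ := (isNoetherianRing_iff_ideal_fg R).mp inferInstance (IsLocalRing.maximalIdeal R)
  have hm0 : IsLocalRing.maximalIdeal R ≠ ⊥ := IsLocalRing.isField_iff_maximalIdeal_eq.not.mp hR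
  have hsne : ∃ y ∈ s, y ≠ 0 := by
    by_contra hcon
    push Not at hcon
    apply hm0
    rw [← hs, Ideal.span_eq_bot]
    exact fun y hy => hcon y hy
  have hsne' : s.Nonempty := by obtain ⟨y, hy, -⟩ := hsne; exact ⟨y, hy⟩
  obtain ⟨a, has, hamax⟩ :=
    Finset.exists_max_image s (fun y => V.valuation (algebraMap R K y)) hsne'
  have ha0 : a ≠ 0 := by
    obtain ⟨y, hy, hy0⟩ := hsne
    intro h
    have h1 := hamax y hy
    simp only [h, map_zero] at h1
    have h2 : V.valuation (algebraMap R K y) = 0 := le_antisymm h1 zero_le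
    rw [map_eq_zero] at h2
    exact hy0 (hinjK (by rw [h2, map_zero]))
  have ham : a ∈ IsLocalRing.maximalIdeal R := by
    rw [← hs]; exact Ideal.subset_span has
  set a' : K := algebraMap R K a with ha'
  have ha'0 : a' ≠ 0 := fun h => ha0 (hinjK (by rw [← ha', h, map_zero]))
  let gens : Set K := (fun y => algebraMap R K y / a') '' (s : Set R)
  let S : Subalgebra R K := Algebra.adjoin R gens
  have hgensV : ∀ z ∈ gens, z ∈ V := by
    rintro _ ⟨y, hy, rfl⟩
    rw [← ValuationSubring.valuation_le_one_iff, map_div₀]
    have hva : V.valuation a' ≠ 0 := by rwa [Ne, map_eq_zero]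
    exact div_le_one_of_le₀ (hamax y hy) zero_le
  have hSV : ∀ z ∈ S, z ∈ V := by
    intro z hz
    induction hz using Algebra.adjoin_induction with
    | mem x hx => exact hgensV x hx
    | algebraMap r => exact hV r
    | add x y _ _ hx hy => exact V.add_mem _ _ hx hy
    | mul x y _ _ hx hy => exact V.mul_mem _ _ hx hy
  haveI hftS : Algebra.FiniteType R S := by
    rw [← Subalgebra.fg_iff_finiteType, Subalgebra.fg_def]
    exact ⟨gens, (Finset.finite_toSet s).image _, rfl⟩
  haveI : IsNoetherianRing S := Algebra.FiniteType.isNoetherianRing R S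
  let aS : S := algebraMap R S a
  have haS : (aS : K) = a' := rfl
  let I : Ideal S := Ideal.span {aS}
  have hmI : (IsLocalRing.maximalIdeal R).map (algebraMap R S) ≤ I := by
    rw [← hs, Ideal.map_span, Ideal.span_le]
    rintro _ ⟨y, hy, rfl⟩
    have hmem : algebraMap R K y / a' ∈ S := Algebra.subset_adjoin ⟨y, hy, rfl⟩
    have : algebraMap R S y = ⟨algebraMap R K y / a', hmem⟩ * aS := by
      apply Subtype.ext
      change algebraMap R K y = algebraMap R K y / a' * a'
      rw [div_mul_cancel₀ _ ha'0]
    rw [this]
    exact Ideal.mul_mem_left _ _ (Ideal.subset_span rfl)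
  have hItop : I ≠ ⊤ := by
    intro h
    have h1 : (1 : S) ∈ I := by rw [h]; trivial
    obtain ⟨t, ht⟩ := Ideal.mem_span_singleton'.mp h1
    have h2 : (t : K) * a' = 1 := congrArg Subtype.val ht
    have h3 : IsUnit ((algebraMap R K).codRestrict V.toSubring hV a) := by
      refine IsUnit.of_mul_eq_one ⟨(t : K), hSV _ t.2⟩ ?_
      apply Subtype.ext
      change a' * (t : K) = 1
      rw [mul_comm]; exact h2
    have h4 : IsUnit a := hloc.map_nonunit a h3
    exact (IsLocalRing.mem_maximalIdeal a).mp ham h4
  obtain ⟨q, hq⟩ := Ideal.nonempty_minimalPrimes hItop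
  haveI hqp : q.IsPrime := hq.isPrime
  have hIq : I ≤ q := hq.1.2
  have hq1 : q.height = 1 := by
    refine le_antisymm (Ideal.height_le_one_of_isPrincipal_of_mem_minimalPrimes I q hq) ?_
    rw [Order.one_le_iff_ne_zero, Ne, Ideal.height_eq_zero_iff_eq_bot]
    intro hbot
    have h1 : aS ∈ q := hIq (Ideal.subset_span rfl)
    rw [hbot, Ideal.mem_bot] at h1
    exact ha'0 (by rw [← haS, h1]; rfl)
  let T := Localization.AtPrime q
  have hdim : ringKrullDim T = 1 := by
    rw [IsLocalization.AtPrime.ringKrullDim_eq_height q T, hq1]; rfl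
  have hunit : ∀ y : q.primeCompl, IsUnit (S.val (y : S)) := by
    intro y
    refine IsUnit.mk0 _ ?_
    intro h0
    have : (y : S) = 0 := Subtype.ext h0
    exact y.2 (by rw [this]; exact zero_mem _)
  let ψ : T →ₐ[R] K := IsLocalization.liftAlgHom (M := q.primeCompl) (f := S.val) hunit
  have hψinj : Function.Injective ψ := by
    have hle : q.primeCompl ≤ nonZeroDivisors S := by
      intro y hy
      refine mem_nonZeroDivisors_of_ne_zero ?_
      intro h0
      exact hy (by rw [h0]; exact zero_mem _)
    have hinjT : Function.Injective (algebraMap S T) := IsLocalization.injective T hle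
    change Function.Injective (IsLocalization.lift (M := q.primeCompl) (g := S.val.toRingHom) hunit)
    rw [IsLocalization.lift_injective_iff]
    intro x y
    constructor
    · intro h; rw [hinjT h]
    · intro h; rw [Subtype.val_injective h]
  let R' : Subalgebra R K := ψ.range
  let e : T ≃ₐ[R] R' := AlgEquiv.ofInjective ψ hψinj
  haveI hloc' : IsLocalRing R' := e.toRingEquiv.isLocalRing
  refine ⟨R', hloc', isNoetherianRing_of_ringEquiv T e.toRingEquiv, ?_, ?_, ?_⟩
  · rw [← hdim]; exact ringKrullDim_eq_of_ringEquiv e.symm.toRingEquiv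
  · constructor
    intro r hr
    have h1 : IsUnit (e.symm (algebraMap R R' r)) := hr.map e.symm
    rw [AlgEquiv.commutes, IsScalarTower.algebraMap_apply R S T,
      IsLocalization.AtPrime.isUnit_to_map_iff T q] at h1
    by_contra hnu
    have h2 : r ∈ IsLocalRing.maximalIdeal R := (IsLocalRing.mem_maximalIdeal r).mpr hnu
    exact h1 (hIq (hmI (Ideal.mem_map_of_mem _ h2)))
  · haveI : Algebra.EssFiniteType R T := inferInstance
    exact (Algebra.EssFiniteType.iff_of_algEquiv (S := T) (T := R') (by exact e)).mp inferInstance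

end Groth.Agent.S9132
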