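import Groth.Statements.S9133
import Mathlib
import Groth.Agent.S9134
-- import your own Groth.Agent.* helpers here

set_option autoImplicit false
universe u
open CAlg

namespace Groth.Agent.S9133

section
open Pointwise

theorem main (R S K L : Type u)
    [CommRing R] [IsDomain R] [IsNoetherianRing R] [IsLocalRing R] (hdim : ringKrullDim R = 1)
    [CommRing S] [IsDomain S] [Algebra R S] [Field K] [Field L] [Algebra R K] [IsFractionRing R K]
    [Algebra S L] [IsFractionRing S L] [Algebra K L] [Algebra R L] [IsScalarTower R K L]
    [IsScalarTower R S L] [FiniteDimensional K L] :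
    (∀ n ∈ (IsLocalRing.maximalIdeal R).primesOver S, n.IsMaximal) ∧
      ((IsLocalRing.maximalIdeal R).primesOver S).Finite ∧
      ∀ n ∈ (IsLocalRing.maximalIdeal R).primesOver S, Module.Finite R (S ⧸ n) := by
  classical
  -- nonzero element of the maximal ideal
  have hmne : IsLocalRing.maximalIdeal R ≠ ⊥ := by
    intro hbot
    have hfield : IsField R := IsLocalRing.isField_iff_maximalIdeal_eq.mpr hbot
    have := ringKrullDim_eq_zero_of_isField hfield
    rw [hdim] at this
    exact absurd this (by decide)
  obtain ⟨x, hxm, hx0⟩ := Submodule.exists_mem_ne_zero_of_ne_bot hmne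
  set a : S := algebraMap R S x with ha
  set I : Ideal S := Ideal.span {a} with hI
  -- S as a submodule of L
  let ι : S →ₗ[R] L := (IsScalarTower.toAlgHom R S L).toLinearMap
  have hιinj : Function.Injective ι := IsFractionRing.injective S L
  let M : Submodule R L := LinearMap.range ι
  have hlen := Groth.Agent.S9134.main_V (K := K) hdim M x hx0
  let e : S ≃ₗ[R] ↥M := LinearEquiv.ofInjective ι hιinj
  have he : ∀ s, (e s : L) = algebraMap S L s := fun s => rfl
  -- surjection Q M (x • M) → S ⧸ I
  let φ : ↥M →ₗ[R] (S ⧸ I) := (I.mkQ.restrictScalars R).comp e.symm.toLinearMap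
  have hφ : (x • M).comap M.subtype ≤ LinearMap.ker φ := by
    rintro m ⟨m', hm', hmm'⟩
    rw [LinearMap.mem_ker]
    have h1 : m = x • (⟨m', hm'⟩ : ↥M) := Subtype.ext hmm'.symm
    change Ideal.Quotient.mk I (e.symm m) = 0
    rw [h1, map_smul, Ideal.Quotient.eq_zero_iff_mem, Algebra.smul_def]
    exact Ideal.mul_mem_right _ _ (Ideal.mem_span_singleton_self a)
  let φb : Groth.Agent.S9134.Q M (x • M) →ₗ[R] (S ⧸ I) := Submodule.liftQ _ φ hφ
  have hφbsurj : Function.Surjective φb := by
    intro t
    obtain ⟨s, rfl⟩ := Ideal.Quotient.mk_surjective t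
    refine ⟨Submodule.Quotient.mk (e s), ?_⟩
    change Ideal.Quotient.mk I (e.symm (e s)) = _
    rw [e.symm_apply_apply]
  have hfl : IsFiniteLength R (S ⧸ I) :=
    IsFiniteLength.of_surjective (Module.length_ne_top_iff.mp hlen) hφbsurj
  rw [isFiniteLength_iff_isNoetherian_isArtinian] at hfl
  obtain ⟨hNoe, hArt⟩ := hfl
  haveI : IsArtinianRing (S ⧸ I) := isArtinian_of_tower R hArt
  -- primes over m contain I
  have hIle : ∀ n ∈ (IsLocalRing.maximalIdeal R).primesOver S, I ≤ n := by
    rintro n ⟨_, hn⟩
    rw [hI, Ideal.span_singleton_le_iff_mem]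
    have : x ∈ n.under R := by rw [← hn.over]; exact hxm
    exact this
  have hsurj : Function.Surjective (Ideal.Quotient.mk I) := Ideal.Quotient.mk_surjective
  have hcomap : ∀ n ∈ (IsLocalRing.maximalIdeal R).primesOver S,
      (n.map (Ideal.Quotient.mk I)).comap (Ideal.Quotient.mk I) = n := by
    intro n hn
    rw [Ideal.comap_map_of_surjective _ hsurj, ← RingHom.ker_eq_comap_bot, Ideal.mk_ker]
    exact sup_eq_left.mpr (hIle n hn)
  have hprime : ∀ n ∈ (IsLocalRing.maximalIdeal R).primesOver S,
      (n.map (Ideal.Quotient.mk I)).IsPrime := by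
    intro n hn
    haveI := hn.1
    exact Ideal.map_isPrime_of_surjective hsurj (by rw [Ideal.mk_ker]; exact hIle n hn)
  refine ⟨?_, ?_, ?_⟩
  · intro n hn
    haveI := hprime n hn
    haveI : (n.map (Ideal.Quotient.mk I)).IsMaximal := IsArtinianRing.isMaximal_of_isPrime _
    rw [← hcomap n hn]
    exact Ideal.comap_isMaximal_of_surjective _ hsurj
  · haveI : Finite (PrimeSpectrum (S ⧸ I)) := inferInstance
    let g : (IsLocalRing.maximalIdeal R).primesOver S → PrimeSpectrum (S ⧸ I) :=
      fun n => ⟨n.1.map (Ideal.Quotient.mk I), hprime n.1 n.2⟩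
    have hg : Function.Injective g := by
      intro n n' h
      have h' : n.1.map (Ideal.Quotient.mk I) = n'.1.map (Ideal.Quotient.mk I) :=
        congrArg PrimeSpectrum.asIdeal h
      apply Subtype.ext
      rw [← hcomap n.1 n.2, ← hcomap n'.1 n'.2, h']
    exact Set.finite_coe_iff.mp (Finite.of_injective g hg)
  · intro n hn
    haveI : Module.Finite R (S ⧸ I) := inferInstance
    let f : (S ⧸ I) →ₗ[R] (S ⧸ n) := (Submodule.factor (hIle n hn)).restrictScalars R
    exact Module.Finite.of_surjective f (Submodule.factor_surjective (hIle n hn))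

end

/-- Let R → S be a homomorphism of domains compatible with field maps K → L of their fraction fields (so
R → S is injective), where R is Noetherian local of dimension one and L is finite over K. Then each
prime n of S whose contraction to R is the maximal ideal of R is a maximal ideal of S, only finitely
many such n exist, and each quotient S/n is a finite R-module (its residue field is a finite
extension of that of R). -/
theorem result (R S K L : Type u)
    [CommRing R] [IsDomain R] [IsNoetherianRing R] [IsLocalRing R] (hdim : ringKrullDim R = 1)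
    [CommRing S] [IsDomain S] [Algebra R S] [Field K] [Field L] [Algebra R K] [IsFractionRing R K]
    [Algebra S L] [IsFractionRing S L] [Algebra K L] [Algebra R L] [IsScalarTower R K L]
    [IsScalarTower R S L] [FiniteDimensional K L] :
    (∀ n ∈ (IsLocalRing.maximalIdeal R).primesOver S, n.IsMaximal) ∧
      ((IsLocalRing.maximalIdeal R).primesOver S).Finite ∧
      ∀ n ∈ (IsLocalRing.maximalIdeal R).primesOver S, Module.Finite R (S ⧸ n) := by
  exact Groth.Agent.S9133.main R S K L hdim

end Groth.Agent.S9133
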