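import Groth.Statements.S9135
import Mathlib
-- import your own Groth.Agent.* helpers here

set_option autoImplicit false
universe u
open CAlg

namespace Groth.Agent.S9135

section
open TensorProduct Polynomial

variable {R S : Type u} [CommRing R] [CommRing S] [Algebra R S]

lemma isIntegral_of_quotient_nil {A B : Type*} [CommRing A] [CommRing B] [Algebra A B]
    (I : Ideal B) (hI : ∀ b ∈ I, IsNilpotent b) (x : B)
    (hx : IsIntegral A (Ideal.Quotient.mk I x)) : IsIntegral A x := by
  obtain ⟨F, hF, h0⟩ := hx
  have : Polynomial.eval₂ (algebraMap A B) x F ∈ I := by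
    rw [← Ideal.Quotient.eq_zero_iff_mem, Polynomial.hom_eval₂]
    exact h0
  obtain ⟨n, hn⟩ := hI _ this
  exact ⟨F ^ n, hF.pow n, by rw [Polynomial.eval₂_pow, hn]⟩

lemma finite_fiber (p : Ideal R) [p.IsPrime] [Algebra.FiniteType R S]
    (hfin : (p.primesOver S).Finite) : Module.Finite p.ResidueField (p.Fiber S) := by
  rw [Module.finite_iff_isArtinianRing, isArtinianRing_iff_isNoetherianRing_krullDimLE_zero]
  have : IsJacobsonRing (p.Fiber S) := isJacobsonRing_of_finiteType (A := p.ResidueField)
  have hfin' : (PrimeSpectrum.comap (algebraMap R S) ⁻¹' {⟨p, inferInstance⟩}).Finite := by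
    have : (PrimeSpectrum.comap (algebraMap R S) ⁻¹' {⟨p, inferInstance⟩}) ⊆
        PrimeSpectrum.asIdeal ⁻¹' (p.primesOver S) := by
      intro q hq
      refine ⟨q.2, ⟨?_⟩⟩
      have := congrArg PrimeSpectrum.asIdeal hq
      exact this.symm
    exact (hfin.preimage (fun _ _ _ _ h => PrimeSpectrum.ext h)).subset this
  have : Finite (PrimeSpectrum (p.Fiber S)) :=
    (PrimeSpectrum.preimageEquivFiber R S ⟨p, ‹_›⟩).finite_iff.mp hfin'
  exact ⟨Algebra.FiniteType.isNoetherianRing p.ResidueField _,
    (PrimeSpectrum.discreteTopology_iff_finite_and_krullDimLE_zero.mp inferInstance).right⟩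


attribute [local instance] Algebra.TensorProduct.rightAlgebra in
theorem exists_isIntegral_smul (p : Ideal R) (hp : p ∈ minimalPrimes R) [Algebra.FiniteType R S]
    (hfin : (p.primesOver S).Finite) (x : S) : ∃ u ∉ p, IsIntegral R (u • x) := by
  haveI : p.IsPrime := hp.1.1
  haveI := finite_fiber p hfin
  -- abbreviations
  let Rp := Localization.AtPrime p
  let Sp := Localization (Algebra.algebraMapSubmonoid S p.primeCompl)
  let m := IsLocalRing.maximalIdeal Rp
  let mS := m.map (algebraMap Rp Sp)
  have hint1 : Algebra.IsIntegral Rp (p.Fiber S) := by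
    haveI : Algebra.IsIntegral Rp p.ResidueField :=
      Algebra.IsIntegral.of_surjective (f := IsScalarTower.toAlgHom Rp Rp p.ResidueField)
        Ideal.Quotient.mk_surjective
    exact Algebra.IsIntegral.trans (R := Rp) (A := p.ResidueField) (B := p.Fiber S)
  let e : p.Fiber S ≃ₐ[S] Sp ⧸ mS := Ideal.Fiber.algEquivQuotient p
  let x' : Sp := algebraMap S Sp x
  have hcomp : (e : p.Fiber S →+* Sp ⧸ mS).comp (algebraMap Rp (p.Fiber S)) =
      algebraMap Rp (Sp ⧸ mS) := by
    apply IsLocalization.ringHom_ext p.primeCompl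
    ext r
    simp only [RingHom.coe_comp, Function.comp_apply]
    rw [← IsScalarTower.algebraMap_apply R Rp (p.Fiber S),
      ← IsScalarTower.algebraMap_apply R Rp (Sp ⧸ mS)]
    rw [IsScalarTower.algebraMap_apply R S (p.Fiber S),
      IsScalarTower.algebraMap_apply R S (Sp ⧸ mS)]
    exact e.commutes _
  have h4 : IsIntegral Rp (Ideal.Quotient.mk mS x') := by
    have h := hint1.isIntegral (algebraMap S (p.Fiber S) x)
    have := IsIntegral.map_of_comp_eq (RingHom.id Rp) (e : p.Fiber S →+* Sp ⧸ mS)
      (by rw [hcomp]; rfl) h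
    rwa [show (e : p.Fiber S →+* _) (algebraMap S (p.Fiber S) x) = Ideal.Quotient.mk mS x' from
      e.commutes x] at this
  have hnil : ∀ b ∈ mS, IsNilpotent b := by
    have hm : m = (⊥ : Ideal Rp).radical := by
      have := IsLocalization.AtPrime.radical_map_of_mem_minimalPrimes (A := Rp) p ⊥ hp
      rw [Ideal.map_bot] at this
      rw [this, Localization.AtPrime.map_eq_maximalIdeal]
    have hle : mS ≤ nilradical Sp := by
      rw [Ideal.map_le_iff_le_comap]
      intro a ha
      rw [hm] at ha
      have : IsNilpotent a := by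
        obtain ⟨n, hn⟩ := ha
        exact ⟨n, by simpa using hn⟩
      exact (this.map (algebraMap Rp Sp))
    intro b hb
    exact mem_nilradical.mp (hle hb)
  have h5 : IsIntegral Rp x' := isIntegral_of_quotient_nil mS hnil x' h4
  obtain ⟨mm, hmm⟩ := IsIntegral.exists_multiple_integral_of_isLocalization p.primeCompl x' h5
  have h6 : IsIntegral R (algebraMap S Sp (mm.1 • x)) := by
    have : algebraMap S Sp (mm.1 • x) = mm • x' := by
      rw [Algebra.smul_def, map_mul, ← IsScalarTower.algebraMap_apply, Submonoid.smul_def,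
        Algebra.smul_def]
    rw [this]
    exact hmm
  obtain ⟨m', hm', h7⟩ := IsLocalization.exists_isIntegral_smul_of_isIntegral_map p.primeCompl h6
  refine ⟨m' * mm.1, p.primeCompl.mul_mem hm' mm.2, ?_⟩
  rwa [mul_smul]

lemma intLoc (M : Submonoid R) {Rₘ Sₘ : Type*} [CommRing Rₘ] [CommRing Sₘ] [Algebra R Rₘ]
    [IsLocalization M Rₘ] [Algebra S Sₘ] [IsLocalization (Algebra.algebraMapSubmonoid S M) Sₘ]
    (G : Set S) (hG : Algebra.adjoin R G = ⊤)
    (h : ∀ x ∈ G, (IsLocalization.map Sₘ (algebraMap R S)
      (show _ ≤ (Algebra.algebraMapSubmonoid S M).comap _ from M.le_comap_map) :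
        Rₘ →+* _).IsIntegralElem (algebraMap S Sₘ x)) :
    (IsLocalization.map Sₘ (algebraMap R S)
      (show _ ≤ (Algebra.algebraMapSubmonoid S M).comap _ from M.le_comap_map) :
        Rₘ →+* _).IsIntegral := by
  set f' : Rₘ →+* Sₘ := IsLocalization.map Sₘ (algebraMap R S)
      (show _ ≤ (Algebra.algebraMapSubmonoid S M).comap _ from M.le_comap_map) with hf'
  have hS : ∀ s : S, f'.IsIntegralElem (algebraMap S Sₘ s) := by
    intro s
    have hs : s ∈ Algebra.adjoin R G := hG ▸ Algebra.mem_top
    induction hs using Algebra.adjoin_induction with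
    | mem x hx => exact h x hx
    | algebraMap r =>
      have : algebraMap S Sₘ (algebraMap R S r) = f' (algebraMap R Rₘ r) := by
        rw [hf', IsLocalization.map_eq]
      rw [this]
      exact f'.isIntegralElem_map
    | add x y _ _ hx hy => rw [map_add]; exact RingHom.IsIntegralElem.add f' hx hy
    | mul x y _ _ hx hy => rw [map_mul]; exact RingHom.IsIntegralElem.mul f' hx hy
  intro x
  obtain ⟨⟨s, ⟨u, hu⟩⟩, hx⟩ := IsLocalization.surj (Algebra.algebraMapSubmonoid S M) x
  obtain ⟨v, hv⟩ := hu
  obtain ⟨v', hv'⟩ := isUnit_iff_exists_inv'.1 (IsLocalization.map_units Rₘ ⟨v, hv.1⟩)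
  have h1 : f' v' * algebraMap S Sₘ u = 1 := by
    have e1 : algebraMap S Sₘ ((algebraMap R S) v) = f' (algebraMap R Rₘ v) := by
      rw [hf', IsLocalization.map_eq]
    rw [← hv.2, e1, ← map_mul]
    exact (congrArg f' hv').trans (map_one f')
  have : x = algebraMap S Sₘ s * f' v' := by
    calc x = x * (f' v' * algebraMap S Sₘ u) := by rw [h1, mul_one]
      _ = (x * algebraMap S Sₘ u) * f' v' := by ring
      _ = _ := by rw [hx]
  rw [this]
  exact RingHom.IsIntegralElem.mul f' (hS s) f'.isIntegralElem_map

theorem main (R S : Type u) [CommRing R] [CommRing S]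
    [Algebra R S] [Algebra.FiniteType R S] (p : Ideal R) (hp : p ∈ minimalPrimes R)
    (hfin : (p.primesOver S).Finite) :
    ∃ g : R, g ∉ p ∧ (Localization.awayMap (algebraMap R S) g).Finite := by
  classical
  haveI : p.IsPrime := hp.1.1
  obtain ⟨G, hG⟩ := (Algebra.FiniteType.out : (⊤ : Subalgebra R S).FG)
  choose! u hu hint using fun x => exists_isIntegral_smul p hp hfin x
  let g := ∏ x ∈ G, u x
  have hg : g ∉ p := by
    intro hmem
    obtain ⟨x, _, hx⟩ := (Ideal.IsPrime.prod_mem_iff (hp := ‹p.IsPrime›)).mp hmem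
    exact hu x hx
  refine ⟨g, hg, RingHom.finite_iff_isIntegral_and_finiteType.mpr ⟨?_, ?_⟩⟩
  · apply intLoc (.powers g) (G : Set S) hG
    intro x hx
    have h1 : IsIntegral R (g • x) := by
      obtain ⟨c, hc⟩ : u x ∣ g := Finset.dvd_prod_of_mem u hx
      rw [hc, mul_comm, mul_smul]
      exact (hint x).smul c
    obtain ⟨P, hP, hP0⟩ := h1
    have h2 := is_integral_localization_at_leadingCoeff (M := .powers g)
      (Rₘ := Localization.Away g) (Sₘ := Localization.Away (algebraMap R S g)) P hP0
      (by rw [hP.leadingCoeff]; exact one_mem _)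
    set f' : Localization.Away g →+* Localization.Away (algebraMap R S g) :=
      IsLocalization.map (Localization.Away (algebraMap R S g)) (algebraMap R S)
        (show _ ≤ (Algebra.algebraMapSubmonoid S (.powers g)).comap _ from
          (Submonoid.powers g).le_comap_map) with hf'
    have h3 : algebraMap S (Localization.Away (algebraMap R S g)) x =
        f' (IsLocalization.Away.invSelf g) *
          algebraMap S (Localization.Away (algebraMap R S g)) (g • x) := by
      rw [Algebra.smul_def, map_mul]
      have : algebraMap S (Localization.Away (algebraMap R S g)) (algebraMap R S g) =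
          f' (algebraMap R (Localization.Away g) g) := by
        rw [hf', IsLocalization.map_eq]
      rw [this, ← mul_assoc, ← map_mul, mul_comm (IsLocalization.Away.invSelf g),
        IsLocalization.Away.mul_invSelf, map_one, one_mul]
    rw [h3]
    exact RingHom.IsIntegralElem.mul f' f'.isIntegralElem_map h2
  · exact RingHom.finiteType_localizationPreserves.away (algebraMap R S) g _ _
      (RingHom.finiteType_algebraMap.mpr inferInstance)

end

/-- Let R → S be of finite type and p a minimal prime of R over which only finitely many primes of S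
lie. Then for some g ∈ R outside p the localized map R_g → S_g is finite. -/
theorem result (R S : Type u) [CommRing R] [CommRing S]
    [Algebra R S] [Algebra.FiniteType R S] (p : Ideal R) (hp : p ∈ minimalPrimes R)
    (hfin : (p.primesOver S).Finite) :
    ∃ g : R, g ∉ p ∧ (Localization.awayMap (algebraMap R S) g).Finite := by
  exact Groth.Agent.S9135.main R S p hp hfin

end Groth.Agent.S9135
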