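import Groth.Statements.S9138
import Groth.Agent.Lib.Helper6.AdicFin

set_option autoImplicit false
universe u
open CAlg

namespace Groth.Agent.S9138

/-- Let R → S be a local ring homomorphism between local rings with finitely generated maximal ideals m
and n, such that S/mS is a finite-dimensional κ(m)-vector space. Then (1) the canonical ring map
from the mS-adic completion of S to the n-adic completion of S is bijective, and (2) the induced
ring map from the m-adic completion of R to the n-adic completion of S is finite. (The hypotheses h
and h' record the inclusion mS ⊆ n, which holds for any local homomorphism; they are the arguments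
the completion maps take.) -/
theorem result (R S : Type u) [CommRing R] [CommRing S]
    [IsLocalRing R] [IsLocalRing S] [Algebra R S] [IsLocalHom (algebraMap R S)]
    (hm : (IsLocalRing.maximalIdeal R).FG) (hn : (IsLocalRing.maximalIdeal S).FG)
    (hfib : Module.Finite (IsLocalRing.maximalIdeal R).ResidueField ((IsLocalRing.maximalIdeal R).Fiber S))
    (h : (IsLocalRing.maximalIdeal R).map (algebraMap R S) ≤ IsLocalRing.maximalIdeal S)
    (h' : ((IsLocalRing.maximalIdeal R).map (algebraMap R S)).map (RingHom.id S) ≤ IsLocalRing.maximalIdeal S) :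
    Function.Bijective (FSch.complMap ((IsLocalRing.maximalIdeal R).map (algebraMap R S))
        (IsLocalRing.maximalIdeal S) (RingHom.id S) h') ∧
      (FSch.complMap (IsLocalRing.maximalIdeal R) (IsLocalRing.maximalIdeal S) (algebraMap R S) h).Finite := by
  obtain ⟨t, ht⟩ := Groth.Agent.Helper6.AdicFin.exists_pow_le h hfib
  have hbij := Groth.Agent.Helper6.AdicFin.complMap_id_bijective
    ((IsLocalRing.maximalIdeal R).map (algebraMap R S)) (IsLocalRing.maximalIdeal S) t ht h'
  refine ⟨hbij, ?_⟩
  have hfin := Groth.Agent.Helper6.AdicFin.complMap_map_finite (S := S)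
    (IsLocalRing.maximalIdeal R) hm (Groth.Agent.Helper6.AdicFin.finite_quotient_of_fiber hfib)
  have hcomp : FSch.complMap (IsLocalRing.maximalIdeal R) (IsLocalRing.maximalIdeal S)
      (algebraMap R S) h =
      (FSch.complMap ((IsLocalRing.maximalIdeal R).map (algebraMap R S))
        (IsLocalRing.maximalIdeal S) (RingHom.id S) h').comp
      (FSch.complMap (IsLocalRing.maximalIdeal R)
        ((IsLocalRing.maximalIdeal R).map (algebraMap R S)) (algebraMap R S) le_rfl) := by
    apply RingHom.ext
    intro x
    rw [RingHom.comp_apply]
    apply AdicCompletion.ext_evalₐ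
    intro k
    rw [Groth.Agent.Lib.Helper6.ComplMapLib.evalₐ_complMap,
      Groth.Agent.Lib.Helper6.ComplMapLib.evalₐ_complMap,
      Groth.Agent.Lib.Helper6.ComplMapLib.evalₐ_complMap]
    obtain ⟨y, hy⟩ := Ideal.Quotient.mk_surjective
      (AdicCompletion.evalₐ (IsLocalRing.maximalIdeal R) k x)
    rw [← hy, Ideal.quotientMap_mk, Ideal.quotientMap_mk, Ideal.quotientMap_mk]
    rfl
  rw [hcomp]
  exact RingHom.Finite.comp (RingHom.Finite.of_surjective _ hbij.surjective) hfin

end Groth.Agent.S9138
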