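import Groth.Statements.S9139
import Mathlib
-- import your own Groth.Agent.* helpers here

set_option autoImplicit false
universe u
open CAlg

namespace Groth.Agent.S9139

theorem eq_top_of_sup_smul_nilpotent {R M : Type u} [CommRing R] [AddCommGroup M] [Module R M]
    (N : Submodule R M) (J : Ideal R) (hJ : IsNilpotent J) (h : N ⊔ J • (⊤ : Submodule R M) = ⊤) : N = ⊤ := by
  obtain ⟨k, hk⟩ := hJ
  have key : ∀ i : ℕ, N ⊔ J ^ i • (⊤ : Submodule R M) = ⊤ := by
    intro i
    induction i with
    | zero => simp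
    | succ i ih =>
      have h1 : J ^ i • (⊤ : Submodule R M) ≤ N ⊔ J ^ (i + 1) • (⊤ : Submodule R M) := by
        calc J ^ i • (⊤ : Submodule R M) = J ^ i • (N ⊔ J • (⊤ : Submodule R M)) := by rw [h]
          _ = J ^ i • N ⊔ J ^ i • (J • (⊤ : Submodule R M)) := Submodule.smul_sup _ _ _
          _ ≤ N ⊔ J ^ (i + 1) • (⊤ : Submodule R M) := by
            refine sup_le_sup Submodule.smul_le_right ?_
            rw [← mul_smul, ← pow_succ]
      rw [eq_top_iff]
      calc (⊤ : Submodule R M) = N ⊔ J ^ i • (⊤ : Submodule R M) := ih.symm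
        _ ≤ N ⊔ J ^ (i + 1) • (⊤ : Submodule R M) := sup_le le_sup_left h1
  have := key k
  rwa [hk, Ideal.zero_eq_bot, Submodule.bot_smul, sup_bot_eq] at this

/-- Let I be a locally nilpotent ideal of a ring R (every element of I is nilpotent) and S → S' a map of
R-algebras with S' of finite type over R. If S → S'/IS' is surjective then so is S → S'. -/
theorem result (R S S' : Type u) [CommRing R] [CommRing S]
    [CommRing S'] [Algebra R S] [Algebra R S'] [Algebra.FiniteType R S'] (I : Ideal R)
    (hI : ∀ x ∈ I, IsNilpotent x) (f : S →ₐ[R] S')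
    (hf : Function.Surjective ((Ideal.Quotient.mk (I.map (algebraMap R S'))).comp f.toRingHom)) :
    Function.Surjective f := by
  classical
  obtain ⟨G, hG⟩ := (inferInstance : Algebra.FiniteType R S').out
  -- for each x, a finite subset of I
  have hx : ∀ x : S', ∃ (s : S) (F : Finset R), (F : Set R) ⊆ I ∧
      x - f s ∈ (Ideal.span (F : Set R)).map (algebraMap R S') := by
    intro x
    obtain ⟨s, hs⟩ := hf (Ideal.Quotient.mk _ x)
    have h1 : x - f s ∈ I.map (algebraMap R S') := by
      rw [← Ideal.Quotient.eq]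
      exact hs.symm
    rw [Ideal.map, Ideal.span] at h1
    obtain ⟨T, hT, hTx⟩ := Submodule.mem_span_finite_of_mem_span h1
    obtain ⟨F, hF, rfl⟩ := Finset.subset_set_image_iff.1 hT
    refine ⟨s, F, hF, ?_⟩
    rw [Ideal.map_span]
    rw [Finset.coe_image] at hTx
    exact hTx
  choose sx Fx hFxI hFx using hx
  let F₀ : Finset R := G.biUnion Fx
  let I₀ : Ideal R := Ideal.span (F₀ : Set R)
  have hI₀I : I₀ ≤ I := by
    rw [Ideal.span_le]
    intro a ha
    rw [Finset.mem_coe, Finset.mem_biUnion] at ha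
    obtain ⟨x, _, hax⟩ := ha
    exact hFxI x hax
  have hI₀nil : IsNilpotent I₀ := by
    rw [Ideal.FG.isNilpotent_iff_le_nilradical ⟨F₀, rfl⟩]
    intro a ha
    exact hI a (hI₀I ha)
  let K : Ideal S' := I₀.map (algebraMap R S')
  let π : S' →ₐ[R] S' ⧸ K := Ideal.Quotient.mkₐ R K
  let U : Subalgebra R S' := (f.range.map π).comap π
  have hU : U = ⊤ := by
    rw [eq_top_iff, ← hG]
    apply Algebra.adjoin_le
    intro x hxG
    show π x ∈ f.range.map π
    refine ⟨f (sx x), ⟨sx x, rfl⟩, ?_⟩
    show Ideal.Quotient.mk K (f (sx x)) = Ideal.Quotient.mk K x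
    rw [eq_comm, Ideal.Quotient.eq]
    have hle : (Ideal.span (Fx x : Set R)).map (algebraMap R S') ≤ K := by
      apply Ideal.map_mono
      apply Ideal.span_mono
      intro a ha
      exact Finset.mem_coe.2 (Finset.mem_biUnion.2 ⟨x, hxG, ha⟩)
    exact hle (hFx x)
  have hsup : Subalgebra.toSubmodule f.range ⊔ I₀ • (⊤ : Submodule R S') = ⊤ := by
    rw [eq_top_iff]
    intro x _
    have hxU : x ∈ U := by rw [hU]; trivial
    obtain ⟨y, ⟨s, rfl⟩, hy⟩ := hxU
    have h2 : x - f s ∈ K := by
      rw [← Ideal.Quotient.eq]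
      exact hy.symm
    rw [Ideal.smul_top_eq_map]
    have : x = f s + (x - f s) := by ring
    rw [this]
    exact Submodule.add_mem_sup ⟨s, rfl⟩ h2
  have htop := eq_top_of_sup_smul_nilpotent _ I₀ hI₀nil hsup
  intro x
  have : x ∈ Subalgebra.toSubmodule f.range := by rw [htop]; trivial
  exact this

end Groth.Agent.S9139
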