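import Groth.Statements.S9140
import Mathlib
import Groth.Agent.Lib.Helper14.NilNak
-- import your own Groth.Agent.* helpers here

set_option autoImplicit false
universe u
open CAlg

namespace Groth.Agent.S9140

/-- Let I be a locally nilpotent ideal of a ring R and S → S' a map of R-algebras with S of finite type
over R and S' of finite presentation and flat over R. If the induced map S/IS → S'/IS' is bijective
(stated as: S → S'/IS' is surjective with kernel IS), then S → S' is bijective. -/
theorem result (R S S' : Type u)
    [CommRing R] [CommRing S] [CommRing S'] [Algebra R S] [Algebra R S'] [Algebra.FiniteType R S]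
    [Algebra.FinitePresentation R S'] [Module.Flat R S'] (I : Ideal R) (hI : ∀ x ∈ I, IsNilpotent x)
    (f : S →ₐ[R] S')
    (hsurj : Function.Surjective ((Ideal.Quotient.mk (I.map (algebraMap R S'))).comp f.toRingHom))
    (hker : ∀ s : S, f s ∈ I.map (algebraMap R S') → s ∈ I.map (algebraMap R S)) :
    Function.Bijective f := by
  have hs : Function.Surjective f := by
    apply Groth.Agent.Helper14.NilNak.surjective_of_surjective_mod I hI f
    intro y
    obtain ⟨s, hs⟩ := hsurj (Ideal.Quotient.mk _ y)
    refine ⟨s, ?_⟩
    rw [← Ideal.Quotient.eq]
    exact hs.symm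
  refine ⟨?_, hs⟩
  apply Groth.Agent.Helper14.NilNak.injective_of_flat I hI f hs
  intro s h0
  apply hker
  rw [h0]
  exact zero_mem _

end Groth.Agent.S9140
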