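import Groth.Statements.S9148
import Mathlib
import Groth.Agent.Lib.Helper2.RelGCIBC2
import Groth.Agent.Lib.Helper2.RelGCI9
-- import your own Groth.Agent.* helpers here

set_option autoImplicit false
universe u
open Synt

namespace Groth.Agent.S9148

section
open MvPolynomial AlgebraicGeometry CategoryTheory Groth.Agent.Helper2.RelGCIBC
  Groth.Agent.Helper2.RelGCI Groth.Agent.Helper16.RingFibDim

/-- a finitely generated subalgebra containing the coefficients -/
theorem exists_fg_subalgebra (R : Type u) [CommRing R] (n c : ℕ)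
    (F : Fin c → MvPolynomial (Fin n) R) :
    ∃ (R₀ : Subalgebra ℤ R) (F₀ : Fin c → MvPolynomial (Fin n) R₀), R₀.FG ∧
      F = Fbc R₀ R n c F₀ := by
  classical
  let R₀ : Subalgebra ℤ R :=
    Algebra.adjoin ℤ ((Finset.univ.biUnion fun i => (F i).coeffs : Finset R) : Set R)
  have hcoef : ∀ i, ∃ P' : MvPolynomial (Fin n) R₀, map (algebraMap R₀ R) P' = F i := by
    intro i
    apply exists_map_eq
    intro a ha
    apply Algebra.subset_adjoin
    rw [Finset.mem_coe, Finset.mem_biUnion]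
    exact ⟨i, Finset.mem_univ i, ha⟩
  choose F₀ hF₀ using hcoef
  exact ⟨R₀, F₀, Subalgebra.fg_adjoin_finset _, funext fun i => (hF₀ i).symm⟩

theorem main (R : Type u) [CommRing R] (n c : ℕ)
    (F : Fin c → MvPolynomial (Fin n) R) (h : Synt.IsRelGCI R n c F) :
    ∃ (R₀ : Subalgebra ℤ R) (F₀ : Fin c → MvPolynomial (Fin n) R₀), Algebra.FiniteType ℤ R₀ ∧
      (∀ i, MvPolynomial.map (algebraMap R₀ R) (F₀ i) = F i) ∧ Synt.IsRelGCI R₀ n c F₀ := by
  obtain ⟨R₀, F₀, hfg, rfl⟩ := exists_fg_subalgebra R n c F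
  -- the ideal to descend
  obtain ⟨J₀, hJtop, hJ₀⟩ : ∃ J₀ : Ideal (Synt.RelGCIRing R₀ n c F₀),
      J₀.map (theta R₀ R n c F₀).toRingHom = ⊤ ∧
      ((Nontrivial (Synt.RelGCIRing R n c (Fbc R₀ R n c F₀)) → c ≤ n ∧
        ∀ q : PrimeSpectrum (Synt.RelGCIRing R₀ n c F₀), ¬ J₀ ≤ q.asIdeal →
          FlatMor.fibreDimAt (specMap R₀ (Synt.RelGCIRing R₀ n c F₀)) q ≤
            ((n - c : ℕ) : WithBot ℕ∞)) ∧
      (¬ Nontrivial (Synt.RelGCIRing R n c (Fbc R₀ R n c F₀)) → J₀ = ⊥)) := by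
    by_cases hnt : Nontrivial (Synt.RelGCIRing R n c (Fbc R₀ R n c F₀))
    · obtain ⟨J₀, hJ₀⟩ := exists_ideal_bad R₀ n c F₀
      refine ⟨J₀, ?_, fun _ => ⟨?_, fun q hq => (hJ₀ q).mp hq⟩, fun h' => absurd hnt h'⟩
      · by_contra hne
        obtain ⟨q, hq, hle⟩ := Ideal.exists_le_maximal _ hne
        haveI := hq.isPrime
        have h1 := fibreDimAt_bc R₀ R n c F₀ ⟨q, hq.isPrime⟩
        have h2 := fibreDimAt_relGCI R n c (Fbc R₀ R n c F₀) h ⟨q, hq.isPrime⟩
        have h3 : ¬ J₀ ≤ ((Spec.map (CommRingCat.ofHom (theta R₀ R n c F₀).toRingHom))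
            (⟨q, hq.isPrime⟩ : PrimeSpectrum _)).asIdeal := by
          rw [hJ₀, ← h1]
          exact h2.le
        apply h3
        exact Ideal.map_le_iff_le_comap.mp hle
      · obtain ⟨Q, hQ⟩ := Ideal.exists_maximal (Synt.RelGCIRing R n c (Fbc R₀ R n c F₀))
        haveI hQp : Q.IsPrime := hQ.isPrime
        let p : Ideal R := Q.under R
        haveI hp : p.IsPrime := Ideal.comap_isPrime _ _
        haveI hlies : Q.LiesOver p := ⟨rfl⟩
        let Q' : PrimeSpectrum (p.Fiber (Synt.RelGCIRing R n c (Fbc R₀ R n c F₀))) :=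
          PrimeSpectrum.primesOverOrderIsoFiber R (Synt.RelGCIRing R n c (Fbc R₀ R n c F₀)) p
            ⟨Q, ⟨hQp, hlies⟩⟩
        have hnt' : Nontrivial (p.Fiber (Synt.RelGCIRing R n c (Fbc R₀ R n c F₀))) :=
          ⟨⟨0, 1, fun h01 => Q'.isPrime.ne_top
            ((Ideal.eq_top_iff_one _).mpr (h01 ▸ Q'.asIdeal.zero_mem))⟩⟩
        exact (h ⟨p, hp⟩ hnt').1
    · refine ⟨⊥, ?_, fun h' => absurd h' hnt, fun _ => rfl⟩
      haveI : Subsingleton (Synt.RelGCIRing R n c (Fbc R₀ R n c F₀)) :=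
        not_nontrivial_iff_subsingleton.mp hnt
      exact Subsingleton.elim _ _
  obtain ⟨R₁, hle, hfg₁, hJ₁⟩ := exists_subalgebra_map_eq_top n c R₀ hfg F₀ J₀ hJtop
  letI alg01 : Algebra R₀ R₁ := (Subalgebra.inclusion hle).toRingHom.toAlgebra
  refine ⟨R₁, Fbc R₀ R₁ n c F₀, (Subalgebra.fg_iff_finiteType R₁).mp hfg₁, fun i => ?_, ?_⟩
  · exact map_map_inclusion n hle (F₀ i)
  · by_cases hnt : Nontrivial (Synt.RelGCIRing R n c (Fbc R₀ R n c F₀))
    · obtain ⟨hcn, hW⟩ := hJ₀.1 hnt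
      apply isRelGCI_of_fibreDimAt_le R₁ n c _ hcn
      intro q₁
      rw [fibreDimAt_bc R₀ R₁ n c F₀ q₁]
      apply hW
      intro hle'
      apply q₁.isPrime.ne_top
      rw [eq_top_iff, ← hJ₁]
      exact Ideal.map_le_iff_le_comap.mpr hle'
    · have hbot := hJ₀.2 hnt
      rw [hbot, Ideal.map_bot] at hJ₁
      haveI : Subsingleton (Synt.RelGCIRing R₁ n c (Fbc R₀ R₁ n c F₀)) := by
        refine ⟨fun a b => ?_⟩
        have h1 : (1 : Synt.RelGCIRing R₁ n c (Fbc R₀ R₁ n c F₀)) ∈ (⊥ : Ideal _) :=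
          hJ₁ ▸ Submodule.mem_top
        have h10 : (1 : Synt.RelGCIRing R₁ n c (Fbc R₀ R₁ n c F₀)) = 0 := h1
        rw [← mul_one a, ← mul_one b, h10, mul_zero, mul_zero]
      intro p hntp
      exfalso
      haveI := hntp
      have hzero : ∀ z : p.asIdeal.Fiber (Synt.RelGCIRing R₁ n c (Fbc R₀ R₁ n c F₀)), z = 0 := by
        intro z
        induction z using TensorProduct.induction_on with
        | zero => rfl
        | tmul x s => rw [Subsingleton.elim s 0, TensorProduct.tmul_zero]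
        | add z₁ z₂ h₁ h₂ => rw [h₁, h₂, add_zero]
      obtain ⟨a, b, hab⟩ := hntp
      exact hab ((hzero a).trans (hzero b).symm)

end

/-- A relative global complete intersection over a ring R descends to a relative global complete
intersection over a finite type ℤ-subalgebra of R containing the coefficients. -/
theorem result (R : Type u) [CommRing R] (n c : ℕ)
    (F : Fin c → MvPolynomial (Fin n) R) (h : Synt.IsRelGCI R n c F) :
    ∃ (R₀ : Subalgebra ℤ R) (F₀ : Fin c → MvPolynomial (Fin n) R₀), Algebra.FiniteType ℤ R₀ ∧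
      (∀ i, MvPolynomial.map (algebraMap R₀ R) (F₀ i) = F i) ∧ Synt.IsRelGCI R₀ n c F₀ := by
  exact Groth.Agent.S9148.main R n c F h

end Groth.Agent.S9148
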