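import Groth.Statements.S9150
import Mathlib
import Groth.Agent.Lib.Helper2.SyntRel4
-- import your own Groth.Agent.* helpers here

set_option autoImplicit false
universe u
open Synt

namespace Groth.Agent.S9150

section
open MvPolynomial Groth.Agent.Helper2.RelGCI Groth.Agent.Helper2.SyntRel Groth.Agent.Helper2.AwayIso

theorem local_step (R : Type u) [CommRing R] (I : Ideal R) (Sb : Type u) [CommRing Sb]
    [Algebra R Sb] [Algebra (R ⧸ I) Sb] [IsScalarTower R (R ⧸ I) Sb]
    (h : Synt.IsSyntomic (R ⧸ I) Sb) (𝔮 : Ideal Sb) [𝔮.IsPrime] :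
    ∃ g : Sb, g ∉ 𝔮 ∧ ∃ (n c : ℕ) (F : Fin c → MvPolynomial (Fin n) R), Synt.IsRelGCI R n c F ∧
      Nonempty (Localization.Away g ≃ₐ[R]
        (Synt.RelGCIRing R n c F ⧸ I.map (algebraMap R (Synt.RelGCIRing R n c F)))) := by
  obtain ⟨t, ht, n, c, Fb, hrel, ⟨ε⟩⟩ := exists_away_relGCI h 𝔮
  choose F hF using fun i => MvPolynomial.map_surjective (Ideal.Quotient.mk I)
    Ideal.Quotient.mk_surjective (Fb i)
  have hFb : Fb = Fbar R n c F I := by
    funext i
    exact (hF i).symm
  subst hFb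
  obtain ⟨hh, hh1, hrel', ⟨iso⟩⟩ := exists_away_of_mod R n c F I hrel
  refine ⟨t, ht, n + 1, c + 1, F' R n c F hh, hrel', ?_⟩
  -- assemble the isomorphisms
  let e1 : Localization.Away t ≃ₐ[R] Synt.RelGCIRing (R ⧸ I) n c (Fbar R n c F I) :=
    ε.restrictScalars R
  let e2 := (redEquiv R n c F I).symm
  let e3 := locEquiv I (Ideal.Quotient.mk (Ideal.span (Set.range F)) hh) hh1
  let e4 : (Localization.Away (Ideal.Quotient.mk (Ideal.span (Set.range F)) hh) ⧸
      I.map (algebraMap R (Localization.Away (Ideal.Quotient.mk (Ideal.span (Set.range F)) hh))))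
      ≃ₐ[R] (Synt.RelGCIRing R (n + 1) (c + 1) (F' R n c F hh) ⧸
        I.map (algebraMap R (Synt.RelGCIRing R (n + 1) (c + 1) (F' R n c F hh)))) :=
    Ideal.quotientEquivAlg _ _ iso (by
      rw [Ideal.map_map]
      congr 1
      exact iso.toAlgHom.comp_algebraMap.symm)
  exact ⟨((e1.trans e2).trans e3).trans e4⟩

theorem main (R : Type u) [CommRing R] (I : Ideal R) (Sb : Type u) [CommRing Sb]
    [Algebra R Sb] [Algebra (R ⧸ I) Sb] [IsScalarTower R (R ⧸ I) Sb] (h : Synt.IsSyntomic (R ⧸ I) Sb) :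
    ∃ s : Finset Sb, Ideal.span (s : Set Sb) = ⊤ ∧ ∀ g ∈ s,
      ∃ (n c : ℕ) (F : Fin c → MvPolynomial (Fin n) R), Synt.IsRelGCI R n c F ∧
        Nonempty (Localization.Away g ≃ₐ[R]
          (Synt.RelGCIRing R n c F ⧸ I.map (algebraMap R (Synt.RelGCIRing R n c F)))) := by
  classical
  let good : Set Sb := {g | ∃ (n c : ℕ) (F : Fin c → MvPolynomial (Fin n) R), Synt.IsRelGCI R n c F ∧
        Nonempty (Localization.Away g ≃ₐ[R]
          (Synt.RelGCIRing R n c F ⧸ I.map (algebraMap R (Synt.RelGCIRing R n c F))))}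
  have htop : Ideal.span good = ⊤ := by
    by_contra hne
    obtain ⟨M, hM, hle⟩ := Ideal.exists_le_maximal _ hne
    haveI := hM.isPrime
    obtain ⟨g, hg, hgood⟩ := local_step R I Sb h M
    exact hg (hle (Ideal.subset_span hgood))
  obtain ⟨s, hs, hspan⟩ := (Ideal.span_eq_top_iff_finite good).mp htop
  exact ⟨s, hspan, fun g hg => hs hg⟩

end

/-- Let I be an ideal of a ring R and S̄ an R-algebra killed by I which is syntomic over R/I. Then S̄ is
covered by finitely many basic opens S̄_g each isomorphic, as an R-algebra, to S/IS for some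
relative global complete intersection S over R. -/
theorem result (R : Type u) [CommRing R] (I : Ideal R) (Sb : Type u) [CommRing Sb]
    [Algebra R Sb] [Algebra (R ⧸ I) Sb] [IsScalarTower R (R ⧸ I) Sb] (h : Synt.IsSyntomic (R ⧸ I) Sb) :
    ∃ s : Finset Sb, Ideal.span (s : Set Sb) = ⊤ ∧ ∀ g ∈ s,
      ∃ (n c : ℕ) (F : Fin c → MvPolynomial (Fin n) R), Synt.IsRelGCI R n c F ∧
        Nonempty (Localization.Away g ≃ₐ[R]
          (Synt.RelGCIRing R n c F ⧸ I.map (algebraMap R (Synt.RelGCIRing R n c F)))) := by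
  exact Groth.Agent.S9150.main R I Sb h

end Groth.Agent.S9150
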