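import Groth.Statements.S9151
import Mathlib
import Groth.Agent.S9287
import Groth.Agent.S9253
import Groth.Agent.Lib.Helper6.KRCotB
-- import your own Groth.Agent.* helpers here

set_option autoImplicit false
universe u
open Synt

namespace Groth.Agent.S9151

section
open Groth.Agent.Helper6.KRCot

/-- transfer of finite projectivity to the standard localized module -/
theorem transfer {A : Type u} [CommRing A] (g : A) (M : Type u) [AddCommGroup M] [Module A M]
    (T' : Type u) [CommRing T'] [Algebra A T'] [IsLocalization.Away g T']
    (N : Type u) [AddCommGroup N] [Module A N] [Module T' N] [IsScalarTower A T' N]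
    (f : M →ₗ[A] N) [IsLocalizedModule (Submonoid.powers g) f]
    [Module.Projective T' N] :
    Module.Projective (Localization.Away g) (LocalizedModule (Submonoid.powers g) M) := by
  let e : Localization.Away g ≃ₐ[A] T' :=
    IsLocalization.algEquiv (Submonoid.powers g) _ _
  letI : Module (Localization.Away g) N := Module.compHom N (e : Localization.Away g →+* T')
  have hsm : ∀ (x : Localization.Away g) (y : N), x • y = e x • y := fun _ _ => rfl
  haveI : IsScalarTower A (Localization.Away g) N := by
    refine IsScalarTower.of_algebraMap_smul (fun a y => ?_)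
    rw [hsm, e.commutes, algebraMap_smul]
  let ℓ : LocalizedModule (Submonoid.powers g) M ≃ₗ[A] N :=
    IsLocalizedModule.iso (Submonoid.powers g) f
  let ℓ' : LocalizedModule (Submonoid.powers g) M ≃ₗ[Localization.Away g] N :=
    ℓ.extendScalarsOfIsLocalization (Submonoid.powers g) (Localization.Away g)
  letI : RingHomInvPair (e.symm : T' →+* Localization.Away g) (e : Localization.Away g →+* T') :=
    RingHomInvPair.of_ringEquiv e.symm.toRingEquiv
  letI : RingHomInvPair (e : Localization.Away g →+* T') (e.symm : T' →+* Localization.Away g) :=
    RingHomInvPair.of_ringEquiv e.toRingEquiv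
  let e₂ : N ≃ₛₗ[(e.symm : T' →+* Localization.Away g)] N :=
    { toFun := id
      map_add' := fun _ _ => rfl
      map_smul' := by
        intro t y
        show t • y = e (e.symm t) • y
        rw [e.apply_symm_apply]
      invFun := id
      left_inv := fun _ => rfl
      right_inv := fun _ => rfl }
  haveI : Module.Projective (Localization.Away g) N := Module.Projective.of_equiv e₂
  exact Module.Projective.of_equiv' ℓ'.symm

theorem main (R : Type u) [CommRing R] (n : ℕ)
    (I : Ideal (MvPolynomial (Fin n) R)) (hI : I.FG) (g : MvPolynomial (Fin n) R ⧸ I)
    (hg : Synt.IsSyntomic R (Localization.Away g)) :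
    Module.Finite (Localization.Away g) (LocalizedModule (Submonoid.powers g) I.Cotangent) ∧
      Module.Projective (Localization.Away g) (LocalizedModule (Submonoid.powers g) I.Cotangent) := by
  obtain ⟨G, rfl⟩ := Ideal.Quotient.mk_surjective g
  have hlci : LCI.IsLCI R (Localization.Away (Ideal.Quotient.mk I G)) :=
    ((Groth.Agent.S9287.result R _).mp hg).2
  have hKR := Groth.Agent.S9253.kr_away_of_isLCI R (MvPolynomial (Fin n) R ⧸ I) n
    (Ideal.Quotient.mkₐ R I) (Ideal.Quotient.mkₐ_surjective R I) G hlci
  have hker : RingHom.ker (Ideal.Quotient.mkₐ R I).toRingHom = I := Ideal.mk_ker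
  rw [hker] at hKR
  obtain ⟨hfin, hproj⟩ := cotangent_finite_projective_of_kr _ hKR
  constructor
  · haveI : Module.Finite (MvPolynomial (Fin n) R) I := Module.Finite.iff_fg.mpr hI
    haveI : Module.Finite (MvPolynomial (Fin n) R) I.Cotangent :=
      Module.Finite.of_surjective I.toCotangent I.toCotangent_surjective
    haveI : Module.Finite (MvPolynomial (Fin n) R ⧸ I) I.Cotangent :=
      Module.Finite.of_restrictScalars_finite (MvPolynomial (Fin n) R) _ _
    infer_instance
  · letI := cotModule I (Localization.Away G)
    haveI : IsScalarTower (MvPolynomial (Fin n) R ⧸ I)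
        (Localization.Away G ⧸ I.map (algebraMap _ (Localization.Away G)))
        (I.map (algebraMap (MvPolynomial (Fin n) R) (Localization.Away G))).Cotangent :=
      IsScalarTower.of_algebraMap_smul (fun _ _ => rfl)
    haveI := away_quotient I G (Localization.Away G)
    haveI := cot_isLocalizedModule I G (Localization.Away G)
    haveI := hproj
    exact transfer (Ideal.Quotient.mk I G) I.Cotangent
      (Localization.Away G ⧸ I.map (algebraMap _ (Localization.Away G)))
      (I.map (algebraMap (MvPolynomial (Fin n) R) (Localization.Away G))).Cotangent
      (cotMap I (Localization.Away G))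

end

/-- Let S = R[x_1, …, x_n]/I with I finitely generated and let g ∈ S be such that S_g is syntomic over
R. Then the localization (I/I²)_g of the conormal module is a finite projective S_g-module. -/
theorem result (R : Type u) [CommRing R] (n : ℕ)
    (I : Ideal (MvPolynomial (Fin n) R)) (hI : I.FG) (g : MvPolynomial (Fin n) R ⧸ I)
    (hg : Synt.IsSyntomic R (Localization.Away g)) :
    Module.Finite (Localization.Away g) (LocalizedModule (Submonoid.powers g) I.Cotangent) ∧
      Module.Projective (Localization.Away g) (LocalizedModule (Submonoid.powers g) I.Cotangent) := by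
  exact Groth.Agent.S9151.main R n I hI g hg

end Groth.Agent.S9151
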