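import Groth.Statements.S9152
import Groth.Agent.Lib.Lead.CodepthReg2

set_option autoImplicit false
universe u
open CAlg

namespace Groth.Agent.S9152

/-- The Cohen–Macaulay locus of a finite type algebra over a field is open. -/
theorem result (k S : Type u) [Field k] [CommRing S] [Algebra k S]
    [Algebra.FiniteType k S] :
    IsOpen {q : PrimeSpectrum S | LocCoh.IsCohenMacaulayLocalRing (Localization.AtPrime q.asIdeal)} := by
  obtain ⟨n, f, hf⟩ := Algebra.FiniteType.iff_quotient_mvPolynomial''.1
    (inferInstance : Algebra.FiniteType k S)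
  letI : Algebra (MvPolynomial (Fin n) k) S := f.toRingHom.toAlgebra
  have hs : Function.Surjective (algebraMap (MvPolynomial (Fin n) k) S) := hf
  haveI : IsNoetherianRing S :=
    isNoetherianRing_of_surjective (MvPolynomial (Fin n) k) S (algebraMap _ S) hs
  have hopen := Groth.Agent.Lead.CodepthReg.isOpen_codepth_le_of_surjective
    (MvPolynomial (Fin n) k) S hs S 0
  have heq : {q : PrimeSpectrum S |
      LocCoh.IsCohenMacaulayLocalRing (Localization.AtPrime q.asIdeal)} =
      {p : PrimeSpectrum S |
        Module.supportDim (Localization.AtPrime p.asIdeal)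
            (LocalizedModule p.asIdeal.primeCompl S) ≤
          ((LocCoh.depth (Localization.AtPrime p.asIdeal)
            (LocalizedModule p.asIdeal.primeCompl S) : ℕ∞) : WithBot ℕ∞) + ((0 : ℕ) : WithBot ℕ∞)} := by
    ext q
    exact Groth.Agent.Lead.CodepthReg.isCohenMacaulayLocalRing_localization_iff q
  rw [heq]
  exact hopen

end Groth.Agent.S9152
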