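import Groth.Statements.S9154
import Mathlib
import Groth.Agent.Lib.Helper2.CMGlue
import Groth.Agent.Lib.Helper9.Depth4
import Groth.Agent.Lib.Helper20.Link9
import Groth.Agent.Lib.Lead.RLR7
import Groth.Agent.Lib.Lead.Conn3
-- import your own Groth.Agent.* helpers here

set_option autoImplicit false
universe u
open CAlg

namespace Groth.Agent.S9154

section

open IsLocalRing Groth.Agent.Lib.Helper2.CMGlue

/-- regular sequence from a height bound in a CM local ring -/
theorem reg_of_height {L : Type u} [CommRing L] [hL : LocCoh.IsCohenMacaulayLocalRing L]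
    (xs : List L) (hmem : ∀ x ∈ xs, x ∈ maximalIdeal L)
    (hht : (xs.length : ℕ∞) ≤ (Ideal.ofList xs).height) :
    RingTheory.Sequence.IsWeaklyRegular L xs ∧
      ringKrullDim (L ⧸ Ideal.ofList xs) + (xs.length : WithBot ℕ∞) = ringKrullDim L := by
  set I := Ideal.ofList xs with hI
  have hIm : I ≤ maximalIdeal L := Groth.Agent.Helper9.Depth.ofList_le_maximalIdeal xs hmem
  have hIne : I ≠ ⊤ := fun h => (maximalIdeal.isMaximal L).ne_top (top_le_iff.mp (h ▸ hIm))
  haveI : Nontrivial (L ⧸ I) := Ideal.Quotient.nontrivial_iff.mpr hIne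
  have hM : LocCoh.IsCohenMacaulayModule L L := hL.supportDim_eq_depth
  obtain ⟨h, hh⟩ := Groth.Agent.Helper9.Depth.exists_supportDim_eq_nat (A := L) L
  rw [Module.supportDim_self_eq_ringKrullDim] at hh
  obtain ⟨a, ha⟩ := Groth.Agent.Helper9.Depth.exists_supportDim_eq_nat (A := L) (L ⧸ I)
  rw [Module.supportDim_quotient_eq_ringKrullDim] at ha
  have hq : ∀ q ∈ I.minimalPrimes, xs.length ≤ h ∧
      ringKrullDim (L ⧸ q) ≤ ((h - xs.length : ℕ) : WithBot ℕ∞) := by
    intro q hq
    haveI : q.IsPrime := hq.1.1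
    obtain ⟨c, hc⟩ := Groth.Agent.Helper9.Depth.exists_supportDim_eq_nat (A := L) (L ⧸ q)
    rw [Module.supportDim_quotient_eq_ringKrullDim] at hc
    have h1 := Groth.Agent.Lead.RLR.height_add_ringKrullDim_quotient_le q
    rw [hc, hh] at h1
    have h2 : (xs.length : ℕ∞) ≤ q.height := hht.trans (Ideal.height_mono hq.1.2)
    have h3 : ((xs.length : ℕ∞) : WithBot ℕ∞) + (c : WithBot ℕ∞) ≤ (h : WithBot ℕ∞) :=
      le_trans (add_le_add (WithBot.coe_le_coe.mpr h2) le_rfl) h1
    have h4 : xs.length + c ≤ h := by exact_mod_cast h3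
    refine ⟨by omega, ?_⟩
    rw [hc]
    exact_mod_cast (by omega : c ≤ h - xs.length)
  obtain ⟨q0, hq0⟩ := Ideal.nonempty_minimalPrimes hIne
  have hlen : xs.length ≤ h := (hq q0 hq0).1
  have hub : ringKrullDim (L ⧸ I) ≤ ((h - xs.length : ℕ) : WithBot ℕ∞) :=
    ringKrullDim_quotient_le_of_minimalPrimes I _ (fun q hq' => (hq q hq').2)
  let e : (L ⧸ (I • (⊤ : Submodule L L))) ≃ₗ[L] (L ⧸ I) :=
    Submodule.quotEquivOfEq _ _ (by rw [Ideal.smul_eq_mul, Ideal.mul_top])
  have hlb := Groth.Agent.Helper9.Depth.supportDim_le_quotient_add_length xs L hmem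
  rw [Module.supportDim_self_eq_ringKrullDim, Module.supportDim_eq_of_equiv e,
    Module.supportDim_quotient_eq_ringKrullDim, hh, ha] at hlb
  rw [ha] at hub
  have hub' : a ≤ h - xs.length := by exact_mod_cast hub
  have hlb' : h ≤ a + xs.length := by exact_mod_cast hlb
  have hdim : a + xs.length = h := by omega
  obtain ⟨hc1, -⟩ := Groth.Agent.Helper9.Depth.cm_list xs L hM hmem
  refine ⟨hc1 (by
    rw [Module.supportDim_self_eq_ringKrullDim, Module.supportDim_eq_of_equiv e,
      Module.supportDim_quotient_eq_ringKrullDim, hh, ha]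
    exact_mod_cast hdim), ?_⟩
  rw [hh, ha]
  exact_mod_cast hdim

variable (k S : Type u) [Field k] [CommRing S] [Algebra k S] [Algebra.FiniteType k S]

include k in
/-- `ht q + dim S/q = d` in an equidimensional affine algebra -/
theorem eqdim_height (d : ℕ) (heq : ∀ p ∈ minimalPrimes S, ringKrullDim (S ⧸ p) = d)
    (q : Ideal S) [hq : q.IsPrime] (c : ℕ) (hc : ringKrullDim (S ⧸ q) = (c : WithBot ℕ∞)) :
    q.height + (c : ℕ∞) = (d : ℕ∞) := by
  apply le_antisymm
  · apply height_add_le q d c _ hc
    exact Groth.Agent.Lead.Conn.ringKrullDim_le_of_forall_minimalPrimes _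
      (fun p hp => (heq p hp).le)
  · obtain ⟨p, hp, hpq⟩ := Ideal.exists_minimalPrimes_le (I := ⊥) (J := q) bot_le
    haveI hpp : p.IsPrime := hp.1.1
    haveI hq' : (q.map (Ideal.Quotient.mk p)).IsPrime :=
      Ideal.map_isPrime_of_surjective Ideal.Quotient.mk_surjective (by rw [Ideal.mk_ker]; exact hpq)
    have h1 := affine_height k (S ⧸ p) (q.map (Ideal.Quotient.mk p)) d c (heq p hp)
      (by rw [ringKrullDim_eq_of_ringEquiv (DoubleQuot.quotQuotEquivQuotOfLE hpq)]; exact hc)
    have h2 := height_le_height_comap (Ideal.Quotient.mk p) Ideal.Quotient.mk_surjective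
      (q.map (Ideal.Quotient.mk p))
    rw [Ideal.comap_map_of_surjective _ Ideal.Quotient.mk_surjective,
      ← RingHom.ker_eq_comap_bot, Ideal.mk_ker, sup_eq_left.mpr hpq] at h2
    rw [← h1]
    exact add_le_add h2 le_rfl

theorem sub_le_of_le_add (x : WithBot ℕ∞) (d i : ℕ) (h : (d : WithBot ℕ∞) ≤ x + (i : WithBot ℕ∞)) :
    ((d - i : ℕ) : WithBot ℕ∞) ≤ x := by
  induction x using WithBot.recBotCoe with
  | bot =>
    rw [WithBot.bot_add] at h
    exact absurd h (by simp)
  | coe x =>
    induction x using ENat.recTopCoe with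
    | top => exact_mod_cast le_top
    | coe n =>
      have : d ≤ n + i := by exact_mod_cast h
      have h2 : ((d - i : ℕ) : ℕ∞) ≤ (n : ℕ∞) := by exact_mod_cast (by omega : d - i ≤ n)
      exact WithBot.coe_le_coe.mpr h2

include k in
theorem main [hCM : LocCoh.IsCohenMacaulayRing S] (d : ℕ)
    (heq : ∀ p ∈ minimalPrimes S, ringKrullDim (S ⧸ p) = d) (f : List S) (hi : f.length ≤ d)
    (hne : Ideal.ofList f ≠ ⊤)
    (hle : ringKrullDim (S ⧸ Ideal.ofList f) ≤ ((d - f.length : ℕ) : WithBot ℕ∞)) :
    ringKrullDim (S ⧸ Ideal.ofList f) = ((d - f.length : ℕ) : WithBot ℕ∞) ∧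
      ∀ (q : Ideal S) [q.IsPrime], Ideal.ofList f ≤ q →
        RingTheory.Sequence.IsRegular (Localization.AtPrime q)
          (f.map (algebraMap S (Localization.AtPrime q))) := by
  haveI : IsNoetherianRing S := Algebra.FiniteType.isNoetherianRing k S
  -- height of the ideal
  have hht : (f.length : ℕ∞) ≤ (Ideal.ofList f).height := by
    rw [Ideal.height_eq_inf_minimalPrimes]
    refine le_iInf₂ fun P hP => ?_
    haveI : P.IsPrime := hP.1.1
    haveI : Nontrivial S := ⟨⟨0, 1, fun h => hP.1.1.ne_top
      ((Ideal.eq_top_iff_one P).mpr (h ▸ P.zero_mem))⟩⟩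
    obtain ⟨c, hc⟩ := exists_dim_nat k S P
    have h1 := eqdim_height k S d heq P c hc
    have h2 : ringKrullDim (S ⧸ P) ≤ ringKrullDim (S ⧸ Ideal.ofList f) :=
      ringKrullDim_le_of_surjective (Ideal.Quotient.factor hP.1.2)
        (Ideal.Quotient.factor_surjective _)
    rw [hc] at h2
    have h3 : c ≤ d - f.length := by exact_mod_cast h2.trans hle
    have hfin : P.height ≠ ⊤ := by
      intro htop
      rw [htop, top_add] at h1
      exact ENat.top_ne_natCast d h1
    obtain ⟨e', he'⟩ := ENat.ne_top_iff_exists.mp hfin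
    rw [← he'] at h1 ⊢
    have h4 : e' + c = d := by exact_mod_cast h1
    exact_mod_cast (by omega : f.length ≤ e')
  -- local statement
  have hloc : ∀ (q : Ideal S) [q.IsPrime], Ideal.ofList f ≤ q →
      RingTheory.Sequence.IsRegular (Localization.AtPrime q)
          (f.map (algebraMap S (Localization.AtPrime q))) ∧
        ringKrullDim (Localization.AtPrime q ⧸
          (Ideal.ofList f).map (algebraMap S (Localization.AtPrime q))) +
            (f.length : WithBot ℕ∞) = ringKrullDim (Localization.AtPrime q) := by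
    intro q hq hfq
    haveI hL : LocCoh.IsCohenMacaulayLocalRing (Localization.AtPrime q) :=
      hCM.isCohenMacaulayLocalRing_localization q
    have hmem : ∀ x ∈ f.map (algebraMap S (Localization.AtPrime q)),
        x ∈ maximalIdeal (Localization.AtPrime q) := by
      intro x hx
      rw [List.mem_map] at hx
      obtain ⟨y, hy, rfl⟩ := hx
      rw [IsLocalization.AtPrime.to_map_mem_maximal_iff (Localization.AtPrime q) q]
      exact hfq (Ideal.subset_span hy)
    have hmap : (Ideal.ofList f).map (algebraMap S (Localization.AtPrime q)) =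
        Ideal.ofList (f.map (algebraMap S (Localization.AtPrime q))) := Ideal.map_ofList _ _
    have hht' : ((f.map (algebraMap S (Localization.AtPrime q))).length : ℕ∞) ≤
        (Ideal.ofList (f.map (algebraMap S (Localization.AtPrime q)))).height := by
      rw [List.length_map, ← hmap]
      have h1 := IsLocalization.height_under q.primeCompl (A := Localization.AtPrime q)
        ((Ideal.ofList f).map (algebraMap S (Localization.AtPrime q)))
      rw [← h1]
      exact hht.trans (Ideal.height_mono Ideal.le_comap_map)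
    obtain ⟨hreg, hdim⟩ := reg_of_height _ hmem hht'
    refine ⟨⟨hreg, ?_⟩, ?_⟩
    · rw [Ideal.smul_eq_mul, Ideal.mul_top]
      intro htop
      have hIm := Groth.Agent.Helper9.Depth.ofList_le_maximalIdeal _ hmem
      rw [← htop] at hIm
      exact (maximalIdeal.isMaximal _).ne_top (top_le_iff.mp hIm)
    · rw [hmap]
      rw [List.length_map] at hdim
      exact hdim
  refine ⟨le_antisymm hle ?_, fun q _ hfq => (hloc q hfq).1⟩
  obtain ⟨m, hm, hfm⟩ := Ideal.exists_le_maximal _ hne
  haveI := hm
  haveI : Nontrivial S := ⟨⟨0, 1, fun h => hm.ne_top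
      ((Ideal.eq_top_iff_one m).mpr (h ▸ m.zero_mem))⟩⟩
  have hc : ringKrullDim (S ⧸ m) = ((0 : ℕ) : WithBot ℕ∞) := by
    rw [Nat.cast_zero]
    exact ringKrullDim_eq_zero_of_isField
      ((Ideal.Quotient.maximal_ideal_iff_isField_quotient _).mp hm)
  have h1 := eqdim_height k S d heq m 0 hc
  have h2 := (hloc m hfm).2
  rw [IsLocalization.AtPrime.ringKrullDim_eq_height m (Localization.AtPrime m),
    ← Groth.Agent.Helper20.Link.height_map_mk_eq_ringKrullDim (Ideal.ofList f) m hfm] at h2
  haveI : (m.map (Ideal.Quotient.mk (Ideal.ofList f))).IsPrime :=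
    Ideal.map_isPrime_of_surjective Ideal.Quotient.mk_surjective (by rw [Ideal.mk_ker]; exact hfm)
  have h3 : ((m.map (Ideal.Quotient.mk (Ideal.ofList f))).height : WithBot ℕ∞) ≤
      ringKrullDim (S ⧸ Ideal.ofList f) :=
    Ideal.height_le_ringKrullDim_of_ne_top Ideal.IsPrime.ne_top'
  apply sub_le_of_le_add
  have h4 : m.height = (d : ℕ∞) := by simpa using h1
  rw [h4] at h2
  calc (d : WithBot ℕ∞) = ((d : ℕ∞) : WithBot ℕ∞) := rfl
    _ = _ := h2.symm
    _ ≤ _ := add_le_add h3 le_rfl

end

/-- Let S be a Cohen–Macaulay finite type algebra over a field k, equidimensional of dimension d, and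
f_1, …, f_i elements (i ≤ d) generating a proper ideal whose zero locus has dimension at most d − i.
Then that dimension equals d − i and the f_j form a regular sequence in S_q for every prime q
containing them. (The published statement also allows the f_j to generate the unit ideal, where the
zero locus is empty and the equality fails, e.g. f_1 = 1 in k[x]; this row assumes the ideal is
proper.) -/
theorem result (k S : Type u) [Field k] [CommRing S] [Algebra k S]
    [Algebra.FiniteType k S] [LocCoh.IsCohenMacaulayRing S] (d : ℕ)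
    (heq : ∀ p ∈ minimalPrimes S, ringKrullDim (S ⧸ p) = d) (f : List S) (hi : f.length ≤ d)
    (hne : Ideal.ofList f ≠ ⊤)
    (hle : ringKrullDim (S ⧸ Ideal.ofList f) ≤ ((d - f.length : ℕ) : WithBot ℕ∞)) :
    ringKrullDim (S ⧸ Ideal.ofList f) = ((d - f.length : ℕ) : WithBot ℕ∞) ∧
      ∀ (q : Ideal S) [q.IsPrime], Ideal.ofList f ≤ q →
        RingTheory.Sequence.IsRegular (Localization.AtPrime q)
          (f.map (algebraMap S (Localization.AtPrime q))) := by
  exact Groth.Agent.S9154.main k S d heq f hi hne hle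

end Groth.Agent.S9154
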