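import Groth.Statements.S9156
import Mathlib
import Groth.Agent.Lib.Helper2.CMGlue
import Groth.Agent.Lib.Helper28.GorUnmixed
-- import your own Groth.Agent.* helpers here

set_option autoImplicit false
universe u
open CAlg

namespace Groth.Agent.S9156

section

open IsLocalRing Groth.Agent.Lib.Helper2.CMGlue PrimeSpectrum

variable (k S : Type u) [Field k] [CommRing S] [Algebra k S] [Algebra.FiniteType k S]

/-- the union of the components of dimension `d` -/
def Z (d : ℕ) : Set (PrimeSpectrum S) :=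
  ⋃ p ∈ {p : Ideal S | p ∈ minimalPrimes S ∧ ringKrullDim (S ⧸ p) = (d : WithBot ℕ∞)},
    zeroLocus (p : Set S)

theorem mem_Z {d : ℕ} {x : PrimeSpectrum S} :
    x ∈ Z S d ↔ ∃ p ∈ minimalPrimes S, ringKrullDim (S ⧸ p) = (d : WithBot ℕ∞) ∧
      p ≤ x.asIdeal := by
  unfold Z
  simp only [Set.mem_iUnion, Set.mem_ofPred_eq, mem_zeroLocus, SetLike.coe_subset_coe, exists_prop,
    and_assoc]

include k in
theorem isClosed_Z (d : ℕ) : IsClosed (Z S d) := by
  haveI : IsNoetherianRing S := Algebra.FiniteType.isNoetherianRing k S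
  unfold Z
  apply Set.Finite.isClosed_biUnion
  · exact (minimalPrimes.finite_of_isNoetherianRing S).subset (fun p hp => hp.1)
  · intro p _
    exact isClosed_zeroLocus _

include k in
/-- a bound on the dimension -/
theorem exists_bound : ∃ N : ℕ, ∀ p : Ideal S, p.IsPrime → ∀ c : ℕ,
    ringKrullDim (S ⧸ p) = (c : WithBot ℕ∞) → c ≤ N := by
  obtain ⟨n, f, hf⟩ := Algebra.FiniteType.iff_quotient_mvPolynomial''.mp
    (inferInstance : Algebra.FiniteType k S)
  refine ⟨n, fun p hp c hc => ?_⟩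
  have h1 : ringKrullDim (S ⧸ p) ≤ ringKrullDim (MvPolynomial (Fin n) k) :=
    ringKrullDim_le_of_surjective ((Ideal.Quotient.mk p).comp f.toRingHom)
      (Ideal.Quotient.mk_surjective.comp hf)
  rw [hc, MvPolynomial.ringKrullDim_of_isNoetherianRing, ringKrullDim_eq_zero_of_field, zero_add,
    Nat.card_fin] at h1
  exact_mod_cast h1

include k in
theorem cover : ∃ N : ℕ, ∀ x : PrimeSpectrum S, ∃ d, d ≤ N ∧ x ∈ Z S d := by
  obtain ⟨N, hN⟩ := exists_bound k S
  refine ⟨N, fun x => ?_⟩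
  obtain ⟨p, hp, hpx⟩ := Ideal.exists_minimalPrimes_le (I := ⊥) (J := x.asIdeal) bot_le
  haveI : p.IsPrime := hp.1.1
  haveI : Nontrivial S := ⟨⟨0, 1, fun h => x.2.ne_top
    ((Ideal.eq_top_iff_one _).mpr (h ▸ x.asIdeal.zero_mem))⟩⟩
  obtain ⟨c, hc⟩ := exists_dim_nat k S p
  exact ⟨c, hN p hp.1.1 c hc, (mem_Z S).mpr ⟨p, hp, hc, hpx⟩⟩

include k in
/-- in a CM affine algebra the height of a maximal ideal is the dimension of any component
through it -/
theorem height_eq_of_le [hCM : LocCoh.IsCohenMacaulayRing S] (m : Ideal S) [hm : m.IsMaximal]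
    (p : Ideal S) (hp : p ∈ minimalPrimes S) (hpm : p ≤ m) (d : ℕ)
    (hd : ringKrullDim (S ⧸ p) = (d : WithBot ℕ∞)) : m.height = (d : ℕ∞) := by
  haveI : IsNoetherianRing S := Algebra.FiniteType.isNoetherianRing k S
  haveI : p.IsPrime := hp.1.1
  have h1 := Groth.Agent.Helper28.GorUnmixed.height_map_mk_eq_of_minimal S
    (fun q _ => hCM.isCohenMacaulayLocalRing_localization q) m p hp hpm
  haveI : (m.map (Ideal.Quotient.mk p)).IsPrime :=
    Ideal.map_isPrime_of_surjective Ideal.Quotient.mk_surjective (by rw [Ideal.mk_ker]; exact hpm)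
  have hc : ringKrullDim ((S ⧸ p) ⧸ m.map (Ideal.Quotient.mk p)) = ((0 : ℕ) : WithBot ℕ∞) := by
    rw [ringKrullDim_eq_of_ringEquiv (DoubleQuot.quotQuotEquivQuotOfLE hpm), Nat.cast_zero]
    exact ringKrullDim_eq_zero_of_isField
      ((Ideal.Quotient.maximal_ideal_iff_isField_quotient _).mp hm)
  have h2 := affine_height k (S ⧸ p) (m.map (Ideal.Quotient.mk p)) d 0 hd hc
  rw [← h1]
  simpa using h2

include k in
theorem disjoint_Z [hCM : LocCoh.IsCohenMacaulayRing S] {d d' : ℕ} (hne : d ≠ d') :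
    Disjoint (Z S d) (Z S d') := by
  rw [Set.disjoint_left]
  intro x hx hx'
  obtain ⟨p, hp, hd, hpx⟩ := (mem_Z S).mp hx
  obtain ⟨p', hp', hd', hpx'⟩ := (mem_Z S).mp hx'
  obtain ⟨m, hm, hxm⟩ := Ideal.exists_le_maximal x.asIdeal x.2.ne_top
  haveI := hm
  have h1 := height_eq_of_le k S m p hp (hpx.trans hxm) d hd
  have h2 := height_eq_of_le k S m p' hp' (hpx'.trans hxm) d' hd'
  rw [h1] at h2
  exact hne (by exact_mod_cast h2)

include k in
theorem isClopen_Z [hCM : LocCoh.IsCohenMacaulayRing S] (N : ℕ)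
    (hN : ∀ x : PrimeSpectrum S, ∃ d, d ≤ N ∧ x ∈ Z S d) (d : ℕ) : IsClopen (Z S d) := by
  classical
  refine ⟨isClosed_Z k S d, ?_⟩
  have hcompl : (Z S d)ᶜ = ⋃ d' ∈ ((Finset.range (N + 1)).erase d : Finset ℕ), Z S d' := by
    ext x
    simp only [Set.mem_compl_iff, Set.mem_iUnion, Finset.mem_erase, Finset.mem_range, exists_prop]
    constructor
    · intro hx
      obtain ⟨d', hd', hxd'⟩ := hN x
      refine ⟨d', ⟨?_, by omega⟩, hxd'⟩
      rintro rfl
      exact hx hxd'
    · rintro ⟨d', ⟨hne, -⟩, hxd'⟩ hxd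
      exact Set.disjoint_left.mp (disjoint_Z k S hne) hxd' hxd
  rw [← isClosed_compl_iff, hcompl]
  exact Set.Finite.isClosed_biUnion (Finset.finite_toSet _) (fun d' _ => isClosed_Z k S d')

theorem eq_zero_of_basicOpen_eq_bot {e : S} (he : IsIdempotentElem e)
    (h : (basicOpen e : Set (PrimeSpectrum S)) = ∅) : e = 0 := by
  apply basicOpen_injOn_isIdempotentElem he IsIdempotentElem.zero
  apply SetLike.ext'
  rw [h, basicOpen_zero]
  rfl

include k in
theorem main [hCM : LocCoh.IsCohenMacaulayRing S] :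
    ∃ (N : ℕ) (T : Fin (N + 1) → Type u) (_ : ∀ d, CommRing (T d)) (_ : ∀ d, Algebra k (T d)),
      Nonempty (S ≃ₐ[k] ((d : Fin (N + 1)) → T d)) ∧
        ∀ (d : Fin (N + 1)) (m : Ideal (T d)), m.IsMaximal → m.height = (d : ℕ) := by
  classical
  haveI : IsNoetherianRing S := Algebra.FiniteType.isNoetherianRing k S
  obtain ⟨N, hN⟩ := cover k S
  have hclopen := isClopen_Z k S N hN
  choose e he using fun d : Fin (N + 1) =>
    exists_idempotent_basicOpen_eq_of_isClopen (hclopen (d : ℕ))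
  -- the complementary idempotents
  have hf : ∀ d, IsIdempotentElem (1 - e d) := fun d => (he d).1.one_sub
  have hmem : ∀ (d : Fin (N + 1)) (x : PrimeSpectrum S), x ∈ Z S d ↔ e d ∉ x.asIdeal := by
    intro d x
    rw [(he d).2]
    rfl
  have horth : ∀ i j : Fin (N + 1), i ≠ j → (1 - (1 - e i)) * (1 - (1 - e j)) = 0 := by
    intro i j hij
    rw [sub_sub_cancel, sub_sub_cancel]
    apply eq_zero_of_basicOpen_eq_bot S ((he i).1.mul (he j).1)
    rw [Set.eq_empty_iff_forall_notMem]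
    intro x hx
    rw [basicOpen_mul] at hx
    have hxi : x ∈ Z S i := by rw [(he i).2]; exact hx.1
    have hxj : x ∈ Z S j := by rw [(he j).2]; exact hx.2
    exact Set.disjoint_left.mp (disjoint_Z k S (fun h => hij (Fin.ext h))) hxi hxj
  have hprod : ∏ d, (1 - e d) = 0 := by
    apply eq_zero_of_basicOpen_eq_bot S
    · show (∏ d, (1 - e d)) * (∏ d, (1 - e d)) = ∏ d, (1 - e d)
      rw [← Finset.prod_mul_distrib]
      exact Finset.prod_congr rfl (fun d _ => (hf d).eq)
    · rw [Set.eq_empty_iff_forall_notMem]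
      intro x hx
      obtain ⟨d, hd, hxd⟩ := hN x
      have hxd' : e (⟨d, by omega⟩ : Fin (N + 1)) ∉ x.asIdeal :=
        (hmem ⟨d, by omega⟩ x).mp hxd
      have h1 : ∏ d, (1 - e d) ∉ x.asIdeal := hx
      apply h1
      apply Ideal.mem_of_dvd _ (Finset.dvd_prod_of_mem _ (Finset.mem_univ (⟨d, by omega⟩ : Fin (N + 1))))
      -- `1 - e d ∈ x` since `e d * (1 - e d) = 0` and `e d ∉ x`
      have h2 : e (⟨d, by omega⟩ : Fin (N + 1)) * (1 - e ⟨d, by omega⟩) ∈ x.asIdeal := by
        rw [mul_sub, mul_one, (he _).1.eq, sub_self]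
        exact x.asIdeal.zero_mem
      exact (x.2.mem_or_mem h2).resolve_left hxd'
  have hbij := RingHom.pi_bijective_of_isIdempotentElem (fun d => 1 - e d) hf horth hprod
  refine ⟨N, fun d => S ⧸ Ideal.span {1 - e d}, fun d => inferInstance, fun d => inferInstance,
    ⟨AlgEquiv.ofBijective (AlgHom.pi (fun d => Ideal.Quotient.mkₐ k (Ideal.span {1 - e d})))
      hbij⟩, ?_⟩
  intro d M hM
  haveI := hM
  set X := Ideal.span {1 - e d} with hX
  set m := M.comap (Ideal.Quotient.mk X) with hmdef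
  haveI hmmax : m.IsMaximal := Ideal.comap_isMaximal_of_surjective _ Ideal.Quotient.mk_surjective
  have hXm : X ≤ m := by
    intro y hy
    rw [hmdef, Ideal.mem_comap, Ideal.Quotient.eq_zero_iff_mem.mpr hy]
    exact M.zero_mem
  have hmapm : m.map (Ideal.Quotient.mk X) = M :=
    Ideal.map_comap_of_surjective _ Ideal.Quotient.mk_surjective M
  haveI : (m.map (Ideal.Quotient.mk X)).IsPrime := by rw [hmapm]; exact hM.isPrime
  haveI : Nontrivial S := ⟨⟨0, 1, fun h => hmmax.ne_top
    ((Ideal.eq_top_iff_one _).mpr (h ▸ m.zero_mem))⟩⟩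
  have hXmin : ∀ Q ∈ X.minimalPrimes, ringKrullDim (S ⧸ Q) = ((d : ℕ) : WithBot ℕ∞) := by
    intro Q hQ
    haveI hQp : Q.IsPrime := hQ.1.1
    have hfQ : 1 - e d ∈ Q := hQ.1.2 (Ideal.subset_span rfl)
    have heQ : e d ∉ Q := by
      intro heQ
      apply hQp.ne_top
      rw [Ideal.eq_top_iff_one]
      have : (1 : S) = (1 - e d) + e d := by ring
      rw [this]
      exact Q.add_mem hfQ heQ
    obtain ⟨p, hp, hpd, hpQ⟩ := (mem_Z S).mp ((hmem d ⟨Q, hQp⟩).mpr heQ)
    haveI hpp : p.IsPrime := hp.1.1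
    have hep : e d ∉ p := fun h => heQ (hpQ h)
    have hfp : 1 - e d ∈ p := by
      have h2 : e d * (1 - e d) ∈ p := by
        rw [mul_sub, mul_one, (he d).1.eq, sub_self]
        exact p.zero_mem
      exact (hpp.mem_or_mem h2).resolve_left hep
    have hXp : X ≤ p := (Ideal.span_singleton_le_iff_mem _).mpr hfp
    have hQp' : Q ≤ p := hQ.2 ⟨hpp, hXp⟩ hpQ
    rw [le_antisymm hQp' hpQ]
    exact hpd
  have hc : ringKrullDim (S ⧸ m) = ((0 : ℕ) : WithBot ℕ∞) := by
    rw [Nat.cast_zero]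
    exact ringKrullDim_eq_zero_of_isField
      ((Ideal.Quotient.maximal_ideal_iff_isField_quotient _).mp hmmax)
  have h := local_height k S X m hXm d 0 hXmin hc
  rw [hmapm] at h
  simpa using h

end

/-- A Cohen–Macaulay finite type algebra S over a field k decomposes as a finite product of k-algebras
S_0 × ⋯ × S_N in which every maximal ideal of the factor S_d has height d (so Spec S is a finite
disjoint union of equidimensional open and closed pieces). -/
theorem result (k S : Type u) [Field k] [CommRing S]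
    [Algebra k S] [Algebra.FiniteType k S] [LocCoh.IsCohenMacaulayRing S] :
    ∃ (N : ℕ) (T : Fin (N + 1) → Type u) (_ : ∀ d, CommRing (T d)) (_ : ∀ d, Algebra k (T d)),
      Nonempty (S ≃ₐ[k] ((d : Fin (N + 1)) → T d)) ∧
        ∀ (d : Fin (N + 1)) (m : Ideal (T d)), m.IsMaximal → m.height = (d : ℕ) := by
  exact Groth.Agent.S9156.main k S

end Groth.Agent.S9156
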