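import Groth.Statements.S9157
import Mathlib
-- import your own Groth.Agent.* helpers here

set_option autoImplicit false
universe u
open CAlg

namespace Groth.Agent.S9157

theorem exists_mk_eq {R : Type u} [CommRing R] {S : Submonoid R} {M : Type u} [AddCommGroup M] [Module R M]
    (ξ : LocalizedModule S M) : ∃ (m : M) (s : S), ξ = LocalizedModule.mk m s := by
  induction ξ using LocalizedModule.induction_on with
  | h m s => exact ⟨m, s, rfl⟩

theorem mk_eq_zero_iff' {R : Type u} [CommRing R] {S : Submonoid R} {M : Type u} [AddCommGroup M] [Module R M]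
    (m : M) (s : S) : LocalizedModule.mk m s = 0 ↔ ∃ t : S, t • m = 0 := by
  rw [← LocalizedModule.zero_mk (1 : S), LocalizedModule.mk_eq]
  constructor
  · rintro ⟨u, hu⟩
    refine ⟨u, ?_⟩
    simpa using hu
  · rintro ⟨t, ht⟩
    exact ⟨t, by simp [ht]⟩

/-- If the localization S⁻¹M of an R-module M is finitely presented over S⁻¹R, then some finitely
presented R-module M' maps to M inducing an isomorphism S⁻¹M' → S⁻¹M. -/
theorem result (R : Type u) [CommRing R] (S : Submonoid R)
    (M : Type u) [AddCommGroup M] [Module R M]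
    [Module.FinitePresentation (Localization S) (LocalizedModule S M)] :
    ∃ (M' : Type u) (_ : AddCommGroup M') (_ : Module R M') (φ : M' →ₗ[R] M),
      Module.FinitePresentation R M' ∧ Function.Bijective (LocalizedModule.map S φ) := by
  classical
  obtain ⟨n, gens, hgens⟩ := Module.Finite.exists_fin (R := Localization S) (M := LocalizedModule S M)
  choose x sx hx using fun i => exists_mk_eq (gens i)
  let α : (Fin n → R) →ₗ[R] M := Fintype.linearCombination R x
  have hα : ∀ i, α (Pi.single i 1) = x i := by
    intro i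
    simp [α, Fintype.linearCombination_apply_single]
  have hsurj : Function.Surjective (LocalizedModule.map S α) := by
    rw [← LinearMap.range_eq_top, eq_top_iff, ← hgens, Submodule.span_le]
    rintro _ ⟨i, rfl⟩
    refine ⟨LocalizedModule.mk (Pi.single i 1) (sx i), ?_⟩
    rw [LocalizedModule.map_mk, hα, hx]
  have hker : (LinearMap.ker (LocalizedModule.map S α)).FG := Module.FinitePresentation.fg_ker _ hsurj
  obtain ⟨G, hG⟩ := hker
  have hz : ∀ κ : G, ∃ z : Fin n → R, α z = 0 ∧
      ∃ c : Localization S, (κ : LocalizedModule S (Fin n → R)) = c • LocalizedModule.mk z 1 := by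
    rintro ⟨κ, hκ⟩
    have hκker : LocalizedModule.map S α κ = 0 := by
      have : κ ∈ LinearMap.ker (LocalizedModule.map S α) := by
        rw [← hG]; exact Submodule.subset_span hκ
      exact this
    obtain ⟨y, s, rfl⟩ := exists_mk_eq κ
    rw [LocalizedModule.map_mk, mk_eq_zero_iff'] at hκker
    obtain ⟨t, ht⟩ := hκker
    refine ⟨(t : R) • y, by rw [map_smul]; exact ht, Localization.mk 1 (t * s), ?_⟩
    rw [LocalizedModule.mk_smul_mk, one_smul, ← Submonoid.smul_def, mul_one, LocalizedModule.mk_cancel_common_left]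
  choose z hzα c hc using hz
  let K : Submodule R (Fin n → R) := Submodule.span R (Set.range z)
  have hKα : K ≤ LinearMap.ker α := by
    rw [Submodule.span_le]
    rintro _ ⟨κ, rfl⟩
    exact hzα κ
  let φ : ((Fin n → R) ⧸ K) →ₗ[R] M := K.liftQ α hKα
  have hfp : Module.FinitePresentation R ((Fin n → R) ⧸ K) :=
    Module.finitePresentation_of_surjective K.mkQ (Submodule.mkQ_surjective K)
      (by rw [Submodule.ker_mkQ]; exact Submodule.fg_span (Set.finite_range z))
  refine ⟨(Fin n → R) ⧸ K, inferInstance, inferInstance, φ, hfp, ?_, ?_⟩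
  · -- injective
    rw [injective_iff_map_eq_zero]
    intro ξ hξ
    obtain ⟨q, s, rfl⟩ := exists_mk_eq ξ
    obtain ⟨w, rfl⟩ := K.mkQ_surjective q
    rw [LocalizedModule.map_mk, mk_eq_zero_iff'] at hξ
    obtain ⟨t, ht⟩ := hξ
    have hφ : φ (K.mkQ w) = α w := by simp [φ]
    rw [hφ, Submonoid.smul_def, ← map_smul] at ht
    -- η := mk (t • w) 1 is in the kernel of map α
    have hη : LocalizedModule.mk ((t : R) • w) (1 : S) ∈ LinearMap.ker (LocalizedModule.map S α) := by
      rw [LinearMap.mem_ker, LocalizedModule.map_mk, ht, LocalizedModule.zero_mk]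
    -- the kernel is contained in the kernel of map mkQ
    have hle : LinearMap.ker (LocalizedModule.map S α) ≤ LinearMap.ker (LocalizedModule.map S K.mkQ) := by
      rw [← hG, Submodule.span_le]
      intro κ hκ
      have h1 := hc ⟨κ, hκ⟩
      simp only at h1
      rw [SetLike.mem_coe, LinearMap.mem_ker, h1, map_smul, LocalizedModule.map_mk]
      have : K.mkQ (z ⟨κ, hκ⟩) = 0 := by
        rw [Submodule.mkQ_apply, Submodule.Quotient.mk_eq_zero]
        exact Submodule.subset_span ⟨_, rfl⟩
      rw [this, LocalizedModule.zero_mk, smul_zero]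
    have h2 := hle hη
    rw [LinearMap.mem_ker, LocalizedModule.map_mk, mk_eq_zero_iff'] at h2
    obtain ⟨t', ht'⟩ := h2
    rw [mk_eq_zero_iff']
    refine ⟨t' * t, ?_⟩
    rw [mul_smul, Submonoid.smul_def t, ← map_smul]
    exact ht'
  · -- surjective
    intro y
    obtain ⟨η, rfl⟩ := hsurj y
    obtain ⟨w, s, rfl⟩ := exists_mk_eq η
    refine ⟨LocalizedModule.mk (K.mkQ w) s, ?_⟩
    rw [LocalizedModule.map_mk, LocalizedModule.map_mk]
    simp [φ]

end Groth.Agent.S9157
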