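import Groth.Statements.S9158
import Mathlib
import Groth.Agent.Lib.Helper14.GFR4
-- import your own Groth.Agent.* helpers here

set_option autoImplicit false
universe u
open CAlg

namespace Groth.Agent.S9158

/-- Generic freeness over a reduced ring: let R → S be of finite type with R reduced and M a finite
S-module. There is a dense open subset U of Spec R such that each point of U lies in a basic open
D(f) ⊆ U with M_f and S_f free over R_f, S_f of finite presentation over R_f, and M_f of finite
presentation over S_f. -/
theorem result (R S : Type u) [CommRing R] [IsReduced R] [CommRing S]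
    [Algebra R S] [Algebra.FiniteType R S] (M : Type u) [AddCommGroup M] [Module S M] [Module R M]
    [IsScalarTower R S M] [Module.Finite S M] :
    ∃ U : Set (PrimeSpectrum R), IsOpen U ∧ Dense U ∧ ∀ u ∈ U, ∃ f : R, f ∉ u.asIdeal ∧
      (PrimeSpectrum.basicOpen f : Set (PrimeSpectrum R)) ⊆ U ∧
      Module.Free (Localization.Away f) (LocalizedModule (Submonoid.powers f) M) ∧
      Module.Free (Localization.Away f) (LocalizedModule (Submonoid.powers f) S) ∧
      (Localization.awayMap (algebraMap R S) f).FinitePresentation ∧
      Module.FinitePresentation (Localization.Away (algebraMap R S f))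
        (LocalizedModule (Submonoid.powers (algebraMap R S f)) M) := by
  classical
  let Good : R → Prop := fun f =>
    Module.Free (Localization.Away f) (LocalizedModule (Submonoid.powers f) M) ∧
    Module.Free (Localization.Away f) (LocalizedModule (Submonoid.powers f) S) ∧
    (Localization.awayMap (algebraMap R S) f).FinitePresentation ∧
    Module.FinitePresentation (Localization.Away (algebraMap R S f))
      (LocalizedModule (Submonoid.powers (algebraMap R S f)) M)
  refine ⟨⋃ f ∈ {f | Good f}, (PrimeSpectrum.basicOpen f : Set (PrimeSpectrum R)),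
    isOpen_biUnion (fun f _ => (PrimeSpectrum.basicOpen f).isOpen), ?_, ?_⟩
  · rw [dense_iff_inter_open]
    intro V hV hVne
    obtain ⟨x, hx⟩ := hVne
    obtain ⟨_, ⟨g, rfl⟩, hxg, hgV⟩ :=
      PrimeSpectrum.isTopologicalBasis_basic_opens.exists_subset_of_mem_open hx hV
    have hg : ¬ IsNilpotent g := by
      intro hn
      have h0 : PrimeSpectrum.basicOpen g = ⊥ := (PrimeSpectrum.basicOpen_eq_bot_iff g).mpr hn
      have hx' : x ∈ PrimeSpectrum.basicOpen g := hxg
      rw [h0] at hx'
      exact hx'
    obtain ⟨s, hgs, hs, h1, h2, h3, h4⟩ := Groth.Agent.Helper14.GFR.exists_good R S M g hg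
    have hne : PrimeSpectrum.basicOpen s ≠ ⊥ := fun h0 =>
      hs ((PrimeSpectrum.basicOpen_eq_bot_iff s).mp h0)
    obtain ⟨y, hy⟩ : ∃ y, y ∈ PrimeSpectrum.basicOpen s := by
      by_contra hcon
      push Not at hcon
      exact hne (TopologicalSpace.Opens.ext (Set.eq_empty_of_forall_notMem hcon))
    have hyg : y ∈ PrimeSpectrum.basicOpen g := by
      rw [PrimeSpectrum.mem_basicOpen] at hy ⊢
      intro hgy
      exact hy (Ideal.mem_of_dvd _ hgs hgy)
    exact ⟨y, hgV hyg, Set.mem_biUnion (show s ∈ {f | Good f} from ⟨h1, h2, h3, h4⟩) hy⟩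
  · intro u hu
    obtain ⟨f, hf, huf⟩ := Set.mem_iUnion₂.mp hu
    exact ⟨f, huf, Set.subset_biUnion_of_mem (u := fun f => (PrimeSpectrum.basicOpen f : Set (PrimeSpectrum R))) hf, hf⟩

end Groth.Agent.S9158
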