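import Groth.Statements.S9159
import Mathlib
import Groth.Agent.Lib.Helper14.LocalDimSpec
import Groth.Agent.Lib.Helper14.LocalDimAlg
import Groth.Agent.Lib.Lead.Flat1
import Groth.Agent.Lib.Lead.Miracle
import Groth.Agent.Lib.Lead.Depth12
-- import your own Groth.Agent.* helpers here

set_option autoImplicit false
universe u
open CAlg

namespace Groth.Agent.S9159

open IsLocalRing Groth.Agent.Helper14 Groth.Agent.Lead.Depth

theorem aux_mv (k : Type u) [Field k] (d : ℕ)
    (p : Ideal (MvPolynomial (Fin d) k)) [p.IsPrime] :
    (p.height : Cardinal.{u}) + Algebra.trdeg k (MvPolynomial (Fin d) k ⧸ p) =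
      (d : Cardinal.{u}) := by
  haveI : (⊥ : Ideal (MvPolynomial (Fin d) k)).IsPrime := Ideal.isPrime_bot
  have h := LocalDimAlg.height_map_add_trdeg k (MvPolynomial (Fin d) k) ⊥ p bot_le
  have e : (p.map (Ideal.Quotient.mk (⊥ : Ideal (MvPolynomial (Fin d) k)))).height =
      p.height := by
    have := RingEquiv.height_map (RingEquiv.quotientBot (MvPolynomial (Fin d) k)).symm p
    rw [← this]
    rfl
  have t : Algebra.trdeg k (MvPolynomial (Fin d) k ⧸ (⊥ : Ideal (MvPolynomial (Fin d) k))) =
      (d : Cardinal.{u}) := by
    rw [(AlgEquiv.quotientBot k (MvPolynomial (Fin d) k)).trdeg_eq,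
      MvPolynomial.trdeg_of_isDomain]
    simp
  rw [e, t] at h
  exact h

theorem aux_hmin {P S : Type u} [CommRing P] [CommRing S] [Algebra P S]
    [Algebra.QuasiFinite P S] (q : Ideal S) [q.IsPrime] (p : Ideal P) [p.IsPrime]
    [q.LiesOver p] [Algebra (Localization.AtPrime p) (Localization.AtPrime q)]
    [Localization.AtPrime.IsLiesOverAlgebra p q]
    [IsLocalHom (algebraMap (Localization.AtPrime p) (Localization.AtPrime q))] :
    maximalIdeal (Localization.AtPrime q) ∈
      (Ideal.map (algebraMap (Localization.AtPrime p) (Localization.AtPrime q))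
        (maximalIdeal (Localization.AtPrime p))).minimalPrimes := by
  haveI : Algebra.QuasiFinite P (Localization.AtPrime q) := inferInstance
  haveI : Algebra.QuasiFinite (Localization.AtPrime p) (Localization.AtPrime q) :=
    Algebra.QuasiFinite.of_restrictScalars P _ _
  refine ⟨⟨inferInstance, ?_⟩, ?_⟩
  · rw [Ideal.map_le_iff_le_comap, IsLocalRing.maximalIdeal_comap]
  · rintro Q' ⟨hQ', hle⟩ hQm
    haveI := hQ'
    have h1 : Q'.under (Localization.AtPrime p) = maximalIdeal (Localization.AtPrime p) := by
      symm
      apply (maximalIdeal.isMaximal (Localization.AtPrime p)).eq_of_le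
      · exact Ideal.comap_ne_top _ hQ'.ne_top
      · exact Ideal.map_le_iff_le_comap.mp hle
    have h2 : (maximalIdeal (Localization.AtPrime q)).under (Localization.AtPrime p) =
        maximalIdeal (Localization.AtPrime p) := IsLocalRing.maximalIdeal_comap _
    have := Algebra.QuasiFinite.eq_of_le_of_under_eq Q' (maximalIdeal (Localization.AtPrime q))
      hQm (h1.trans h2.symm)
    exact this.ge

theorem aux_trdeg (k P S : Type u) [Field k] [CommRing P] [CommRing S] [Algebra k P] [Algebra k S]
    [Algebra P S] [IsScalarTower k P S]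
    [Algebra.QuasiFinite P S] (q : Ideal S) [q.IsPrime] (p : Ideal P) [p.IsPrime]
    [q.LiesOver p] :
    Algebra.trdeg k (S ⧸ q) = Algebra.trdeg k (P ⧸ p) := by
  rw [← LocalDimSpec.trdeg_residueField, ← LocalDimSpec.trdeg_residueField]
  letI : Algebra (Localization.AtPrime p) (Localization.AtPrime q) :=
    Localization.AtPrime.algebraOfLiesOver p q
  haveI : Module.Finite p.ResidueField q.ResidueField := inferInstance
  haveI : Algebra.IsAlgebraic p.ResidueField q.ResidueField := Algebra.IsAlgebraic.of_finite _ _
  haveI : IsScalarTower k p.ResidueField q.ResidueField := by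
    infer_instance
  have t := _root_.trdeg_add_eq k p.ResidueField (A := q.ResidueField)
  have z : Algebra.trdeg p.ResidueField q.ResidueField = 0 := _root_.trdeg_eq_zero
  rw [z, add_zero] at t
  exact t.symm

/-- Fix a field k, a k-algebra S of finite type, and a quasi-finite map of k-algebras k[y_1, …, y_d] →
S. A prime q of S has S_q flat over k[y_1, …, y_d] exactly when S_q is Cohen–Macaulay and Spec S has
local dimension d at q. -/
theorem result (k S : Type u) [Field k] [CommRing S]
    [Algebra k S] [Algebra.FiniteType k S] (d : ℕ) [Algebra (MvPolynomial (Fin d) k) S]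
    [IsScalarTower k (MvPolynomial (Fin d) k) S] [Algebra.QuasiFinite (MvPolynomial (Fin d) k) S]
    (q : Ideal S) [q.IsPrime] :
    Module.Flat (MvPolynomial (Fin d) k) (Localization.AtPrime q) ↔
      (LocCoh.IsCohenMacaulayLocalRing (Localization.AtPrime q) ∧
        FlatMor.localDim (PrimeSpectrum S) ⟨q, inferInstance⟩ = (d : WithBot ℕ∞)) := by
  classical
  haveI : IsNoetherianRing S := Algebra.FiniteType.isNoetherianRing k S
  let p : Ideal (MvPolynomial (Fin d) k) := q.under (MvPolynomial (Fin d) k)
  haveI hpp : p.IsPrime := inferInstance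
  haveI : q.LiesOver p := ⟨rfl⟩
  letI : Algebra (Localization.AtPrime p) (Localization.AtPrime q) :=
    Localization.AtPrime.algebraOfLiesOver p q
  haveI : IsLocalHom (algebraMap (Localization.AtPrime p) (Localization.AtPrime q)) :=
    Localization.isLocalHom_localRingHom _ _ _ _
  have hmin := aux_hmin q p
  have hmv := aux_mv k d p
  have htr := aux_trdeg k (MvPolynomial (Fin d) k) S q p
  -- extract naturals
  have hpfin : p.height ≠ ⊤ := Ideal.height_ne_top hpp.ne_top
  obtain ⟨a, ha⟩ := ENat.ne_top_iff_exists.mp hpfin
  have hb : Algebra.trdeg k (MvPolynomial (Fin d) k ⧸ p) < Cardinal.aleph0 := by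
    refine lt_of_le_of_lt ?_ (Cardinal.nat_lt_aleph0 d)
    rw [← hmv]
    exact le_add_self
  obtain ⟨b, hb⟩ := Cardinal.lt_aleph0.mp hb
  have hab : a + b = d := by
    rw [hb, ← ha] at hmv
    have : ((a + b : ℕ) : Cardinal.{u}) = (d : Cardinal.{u}) := by
      rw [← hmv]; simp
    exact_mod_cast this
  have hloc := LocalDimSpec.localDim_eq k S q b (htr.trans hb)
  have hdimA : ringKrullDim (Localization.AtPrime p) = ((a : ℕ∞) : WithBot ℕ∞) := by
    rw [IsLocalization.AtPrime.ringKrullDim_eq_height p (Localization.AtPrime p), ← ha]
  have hdimB : ringKrullDim (Localization.AtPrime q) = ((q.height : ℕ∞) : WithBot ℕ∞) :=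
    IsLocalization.AtPrime.ringKrullDim_eq_height q (Localization.AtPrime q)
  constructor
  · intro hflat
    haveI : Module.Flat (Localization.AtPrime p) (Localization.AtPrime q) :=
      (Module.flat_iff_of_isLocalization (Localization.AtPrime p) p.primeCompl (Localization.AtPrime q)).mpr hflat
    have hCM : LocCoh.IsCohenMacaulayLocalRing (Localization.AtPrime q) :=
      (isCohenMacaulayLocalRing_of_flat_of_minimal hmin).mp
        isCohenMacaulayLocalRing_of_isRegularLocalRing
    have hdim : ringKrullDim (Localization.AtPrime q) = ringKrullDim (Localization.AtPrime p) :=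
      ringKrullDim_eq_of_flat_of_minimal hmin
    refine ⟨hCM, ?_⟩
    rw [hloc]
    rw [hdimA, hdimB] at hdim
    rw [hdim, ← hab]
    push_cast
    rfl
  · rintro ⟨hCM, hd⟩
    rw [hloc] at hd
    have hqfin : q.height ≠ ⊤ := Ideal.height_ne_top (Ideal.IsPrime.ne_top inferInstance)
    obtain ⟨c, hc⟩ := ENat.ne_top_iff_exists.mp hqfin
    have hca : c = a := by
      rw [← hc, ← hab] at hd
      have : ((c + b : ℕ) : WithBot ℕ∞) = ((a + b : ℕ) : WithBot ℕ∞) := by
        push_cast
        exact hd
      have h2 : c + b = a + b := by exact_mod_cast this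
      omega
    have hdim : ringKrullDim (Localization.AtPrime q) = ringKrullDim (Localization.AtPrime p) := by
      rw [hdimA, hdimB, ← hc, hca]
    have h0dim : ringKrullDim (Localization.AtPrime q ⧸
        (maximalIdeal (Localization.AtPrime p)).map
          (algebraMap (Localization.AtPrime p) (Localization.AtPrime q))) = 0 := by
      haveI : Nontrivial (Localization.AtPrime q ⧸
          (maximalIdeal (Localization.AtPrime p)).map
            (algebraMap (Localization.AtPrime p) (Localization.AtPrime q))) :=
        Ideal.Quotient.nontrivial_iff.mpr (fun h => by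
          have := hmin.1.2
          rw [h] at this
          exact (maximalIdeal.isMaximal _).ne_top (top_le_iff.mp this))
      rw [← ringKrullDimZero_iff_ringKrullDim_eq_zero,
        Ideal.krullDimLE_zero_quotient_iff_forall_minimalPrimes_isMaximal]
      intro J hJ
      haveI := hJ.1.1
      have hJm : J ≤ maximalIdeal (Localization.AtPrime q) := IsLocalRing.le_maximalIdeal hJ.1.1.ne_top
      have : maximalIdeal (Localization.AtPrime q) ≤ J := hmin.2 hJ.1 hJm
      rw [le_antisymm hJm this]
      exact maximalIdeal.isMaximal _
    have hflat : Module.Flat (Localization.AtPrime p) (Localization.AtPrime q) := by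
      have hCM' : LocCoh.IsCohenMacaulayModule (Localization.AtPrime q) (Localization.AtPrime q) :=
        hCM.supportDim_eq_depth
      refine Groth.Agent.Lead.Miracle.flat_of_isCohenMacaulayModule (Localization.AtPrime p)
        (Localization.AtPrime q) (Localization.AtPrime q) hCM' ?_
      rw [Module.supportDim_self_eq_ringKrullDim, hdim]
      have h0 : ((maximalIdeal (Localization.AtPrime p)).map
          (algebraMap (Localization.AtPrime p) (Localization.AtPrime q))) •
            (⊤ : Submodule (Localization.AtPrime q) (Localization.AtPrime q)) =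
          (maximalIdeal (Localization.AtPrime p)).map
            (algebraMap (Localization.AtPrime p) (Localization.AtPrime q)) := by
        rw [Ideal.smul_eq_mul, Ideal.mul_top]
      rw [Module.supportDim_eq_of_equiv (Submodule.quotEquivOfEq _ _ h0),
        Module.supportDim_quotient_eq_ringKrullDim, h0dim, add_zero]
    exact (Module.flat_iff_of_isLocalization (Localization.AtPrime p) p.primeCompl (Localization.AtPrime q)).mp hflat

end Groth.Agent.S9159
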