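import Groth.Statements.S9161
import Mathlib.Tactic.Abel
-- import your own Groth.Agent.* helpers here

set_option autoImplicit false
universe u
open CAlg

namespace Groth.Agent.S9161

/-- If two two-term complexes of R-modules A₁ → A₀ and B₁ → B₀ are homotopy equivalent (maps of
complexes both ways whose composites are homotopic to the identity maps), then A₁ ⊕ B₀ and B₁ ⊕ A₀
are isomorphic R-modules. -/
theorem result (R : Type u) [CommRing R]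
    (A₁ A₀ B₁ B₀ : Type u) [AddCommGroup A₁] [Module R A₁] [AddCommGroup A₀] [Module R A₀]
    [AddCommGroup B₁] [Module R B₁] [AddCommGroup B₀] [Module R B₀]
    (dA : A₁ →ₗ[R] A₀) (dB : B₁ →ₗ[R] B₀) (φ₁ : A₁ →ₗ[R] B₁) (φ₀ : A₀ →ₗ[R] B₀)
    (ψ₁ : B₁ →ₗ[R] A₁) (ψ₀ : B₀ →ₗ[R] A₀) (hφ : dB ∘ₗ φ₁ = φ₀ ∘ₗ dA) (hψ : dA ∘ₗ ψ₁ = ψ₀ ∘ₗ dB)
    (h : A₀ →ₗ[R] A₁) (hh₁ : LinearMap.id - ψ₁ ∘ₗ φ₁ = h ∘ₗ dA) (hh₀ : LinearMap.id - ψ₀ ∘ₗ φ₀ = dA ∘ₗ h)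
    (h' : B₀ →ₗ[R] B₁) (hh'₁ : LinearMap.id - φ₁ ∘ₗ ψ₁ = h' ∘ₗ dB)
    (hh'₀ : LinearMap.id - φ₀ ∘ₗ ψ₀ = dB ∘ₗ h') :
    Nonempty ((A₁ × B₀) ≃ₗ[R] (B₁ × A₀)) := by
  have e1 : ∀ a, dB (φ₁ a) = φ₀ (dA a) := fun a => LinearMap.congr_fun hφ a
  have e2 : ∀ b, dA (ψ₁ b) = ψ₀ (dB b) := fun b => LinearMap.congr_fun hψ b
  have e3 : ∀ a, h (dA a) = a - ψ₁ (φ₁ a) := fun a => (LinearMap.congr_fun hh₁ a).symm
  have e4 : ∀ a, dA (h a) = a - ψ₀ (φ₀ a) := fun a => (LinearMap.congr_fun hh₀ a).symm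
  have e5 : ∀ b, h' (dB b) = b - φ₁ (ψ₁ b) := fun b => (LinearMap.congr_fun hh'₁ b).symm
  have e6 : ∀ b, dB (h' b) = b - φ₀ (ψ₀ b) := fun b => (LinearMap.congr_fun hh'₀ b).symm
  let Θ : (A₁ × B₀) →ₗ[R] (B₁ × A₀) := (φ₁.prod dA).coprod (h'.prod (-ψ₀))
  let Ξ : (B₁ × A₀) →ₗ[R] (A₁ × B₀) := (ψ₁.coprod h).prod (dB.coprod (-φ₀))
  have hΘ : ∀ a b, Θ (a, b) = (φ₁ a + h' b, dA a - ψ₀ b) := by
    intro a b
    simp [Θ, sub_eq_add_neg]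
  have hΞ : ∀ x y, Ξ (x, y) = (ψ₁ x + h y, dB x - φ₀ y) := by
    intro x y
    simp [Ξ, sub_eq_add_neg]
  have h1 : ∀ a b, Ξ (Θ (a, b)) = (a + (ψ₁ (h' b) - h (ψ₀ b)), b) := by
    intro a b
    rw [hΘ, hΞ]
    simp only [map_add, map_sub, e1, e3, e6]
    refine Prod.ext ?_ ?_
    · dsimp only
      abel
    · dsimp only
      abel
  have h2 : ∀ b₁ a₀, Θ (Ξ (b₁, a₀)) = (b₁ + (φ₁ (h a₀) - h' (φ₀ a₀)), a₀) := by
    intro b₁ a₀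
    rw [hΞ, hΘ]
    simp only [map_add, map_sub, e2, e4, e5]
    refine Prod.ext ?_ ?_
    · dsimp only
      abel
    · dsimp only
      abel
  refine ⟨LinearEquiv.ofBijective Θ ⟨?_, ?_⟩⟩
  · rw [injective_iff_map_eq_zero]
    rintro ⟨a, b⟩ hab
    have h3 := h1 a b
    rw [hab, map_zero] at h3
    have hb : b = 0 := (congrArg Prod.snd h3).symm
    have ha := (congrArg Prod.fst h3).symm
    simp only [hb, map_zero, sub_zero, add_zero] at ha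
    change a = 0 at ha
    rw [ha, hb]
    rfl
  · rintro ⟨b₁, a₀⟩
    refine ⟨Ξ (b₁ - (φ₁ (h a₀) - h' (φ₀ a₀)), a₀), ?_⟩
    rw [h2]
    refine Prod.ext ?_ ?_
    · dsimp only
      abel
    · dsimp only

end Groth.Agent.S9161
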