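import Groth.Statements.S9162
import Mathlib
-- import your own Groth.Agent.* helpers here

set_option autoImplicit false
universe u
open CAlg

namespace Groth.Agent.S9162

section
open Algebra Algebra.Extension TensorProduct KaehlerDifferential

lemma lin_schanuel {S A₁ B₁ A₂ B₂ : Type*} [CommRing S]
    [AddCommGroup A₁] [Module S A₁] [AddCommGroup B₁] [Module S B₁]
    [AddCommGroup A₂] [Module S A₂] [AddCommGroup B₂] [Module S B₂]
    (d₁ : A₁ →ₗ[S] B₁) (d₂ : A₂ →ₗ[S] B₂) (FA : A₁ →ₗ[S] A₂) (FB : B₁ →ₗ[S] B₂)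
    (GA : A₂ →ₗ[S] A₁) (GB : B₂ →ₗ[S] B₁) (h₁ : B₁ →ₗ[S] A₁) (h₂ : B₂ →ₗ[S] A₂)
    (c1 : ∀ a, d₂ (FA a) = FB (d₁ a)) (c2 : ∀ a, d₁ (GA a) = GB (d₂ a))
    (e1 : ∀ a, GA (FA a) - a = h₁ (d₁ a)) (e2 : ∀ b, GB (FB b) - b = d₁ (h₁ b))
    (e3 : ∀ a, FA (GA a) - a = h₂ (d₂ a)) (e4 : ∀ b, FB (GB b) - b = d₂ (h₂ b)) :
    Nonempty ((A₁ × B₂) ≃ₗ[S] (A₂ × B₁)) := by
  let Φ : (A₁ × B₂) →ₗ[S] (A₂ × B₁) :=
    LinearMap.prod (LinearMap.coprod FA h₂) (LinearMap.coprod d₁ GB)
  let Ψ : (A₂ × B₁) →ₗ[S] (A₁ × B₂) :=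
    LinearMap.prod (LinearMap.coprod GA (-h₁)) (LinearMap.coprod (-d₂) FB)
  have hΦ : ∀ a b, Φ (a, b) = (FA a + h₂ b, d₁ a + GB b) := fun a b => by
    simp [Φ, LinearMap.coprod_apply]
  have hΨ : ∀ a b, Ψ (a, b) = (GA a - h₁ b, -d₂ a + FB b) := fun a b => by
    simp [Ψ, LinearMap.coprod_apply, sub_eq_add_neg]
  have hΨΦ : ∀ a b, Ψ (Φ (a, b)) = (a + (GA (h₂ b) - h₁ (GB b)), b) := fun a b => by
    rw [hΦ, hΨ]
    ext
    · simp only [map_add]
      have := e1 a
      rw [sub_eq_iff_eq_add] at this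
      rw [this]; abel
    · simp only [map_add]
      have h4 := e4 b
      rw [sub_eq_iff_eq_add] at h4
      rw [h4, c1]; abel
  have hΦΨ : ∀ a b, Φ (Ψ (a, b)) = (a + (h₂ (FB b) - FA (h₁ b)), b) := fun a b => by
    rw [hΨ, hΦ]
    ext
    · simp only [map_add, map_sub, map_neg]
      have := e3 a
      rw [sub_eq_iff_eq_add] at this
      rw [this]; abel
    · simp only [map_add, map_sub, map_neg]
      have h2 := e2 b
      rw [sub_eq_iff_eq_add] at h2
      rw [h2, c2]; abel
  refine ⟨LinearEquiv.ofBijective Φ ⟨?_, ?_⟩⟩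
  · rw [injective_iff_map_eq_zero]
    rintro ⟨a, b⟩ h0
    have := congrArg Ψ h0
    rw [hΨΦ, map_zero, Prod.mk_eq_zero] at this
    obtain ⟨ha, hb⟩ := this
    rw [hb] at ha
    simp only [map_zero, sub_self, add_zero] at ha
    rw [ha, hb]; rfl
  · rintro ⟨a, b⟩
    refine ⟨Ψ (a - (h₂ (FB b) - FA (h₁ b)), b), ?_⟩
    rw [hΦΨ]
    ext <;> simp

variable {R S : Type u} [CommRing R] [CommRing S] [Algebra R S]

lemma schanuel (P₁ P₂ : Extension.{u} R S) (f : P₁.Hom P₂) (g : P₂.Hom P₁) :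
    Nonempty ((P₁.Cotangent × P₂.CotangentSpace) ≃ₗ[S] (P₂.Cotangent × P₁.CotangentSpace)) := by
  refine lin_schanuel P₁.cotangentComplex P₂.cotangentComplex (Cotangent.map f)
    (CotangentSpace.map f) (Cotangent.map g) (CotangentSpace.map g)
    ((g.comp f).sub (.id P₁)) ((f.comp g).sub (.id P₂)) ?_ ?_ ?_ ?_ ?_ ?_
  · intro a; exact (CotangentSpace.map_cotangentComplex f a).symm
  · intro a; exact (CotangentSpace.map_cotangentComplex g a).symm
  · intro a
    have := LinearMap.congr_fun (Cotangent.map_sub_map (g.comp f) (.id P₁)) a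
    simpa [Cotangent.map_comp, Cotangent.map_id] using this
  · intro b
    have := LinearMap.congr_fun (CotangentSpace.map_sub_map (g.comp f) (.id P₁)) b
    simpa [CotangentSpace.map_comp, CotangentSpace.map_id] using this
  · intro a
    have := LinearMap.congr_fun (Cotangent.map_sub_map (f.comp g) (.id P₂)) a
    simpa [Cotangent.map_comp, Cotangent.map_id] using this
  · intro b
    have := LinearMap.congr_fun (CotangentSpace.map_sub_map (f.comp g) (.id P₂)) b
    simpa [CotangentSpace.map_comp, CotangentSpace.map_id] using this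

/-- a hom out of a polynomial extension -/
noncomputable def homOfMv {σ : Type} (α : MvPolynomial σ R →ₐ[R] S) (hα : Function.Surjective α)
    (P₂ : Extension.{u} R S) : (Extension.ofSurjective α hα).Hom P₂ where
  toRingHom := (MvPolynomial.aeval (fun i => P₂.σ (α (MvPolynomial.X i)))).toRingHom
  toRingHom_algebraMap x := by
    exact (MvPolynomial.aeval fun i => P₂.σ (α (MvPolynomial.X i))).commutes x
  algebraMap_toRingHom x := by
    change (algebraMap P₂.Ring S) ((MvPolynomial.aeval fun i => P₂.σ (α (MvPolynomial.X i))) x) =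
      α x
    have : (IsScalarTower.toAlgHom R P₂.Ring S).comp
        (MvPolynomial.aeval fun i => P₂.σ (α (MvPolynomial.X i))) = α := by
      apply MvPolynomial.algHom_ext
      intro i
      simp
    exact DFunLike.congr_fun this x

noncomputable def basisOfMv {σ : Type} (α : MvPolynomial σ R →ₐ[R] S)
    (hα : Function.Surjective α) :
    Module.Basis σ S (Extension.ofSurjective α hα).CotangentSpace :=
  letI : Algebra (MvPolynomial σ R) S := α.toAlgebra
  ((mvPolynomialBasis R σ).baseChange S :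
    Module.Basis σ S (S ⊗[MvPolynomial σ R] Ω[MvPolynomial σ R⁄R]))

theorem main (R S : Type u) [CommRing R] [CommRing S]
    [Algebra R S] (n m : ℕ) (α : MvPolynomial (Fin n) R →ₐ[R] S) (hα : Function.Surjective α)
    (β : MvPolynomial (Fin m) R →ₐ[R] S) (hβ : Function.Surjective β) :
    Nonempty (((Algebra.Extension.ofSurjective α hα).Cotangent × (Fin m → S)) ≃ₗ[S]
      ((Algebra.Extension.ofSurjective β hβ).Cotangent × (Fin n → S))) := by
  let P₁ := Algebra.Extension.ofSurjective α hα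
  let P₂ := Algebra.Extension.ofSurjective β hβ
  obtain ⟨e⟩ := schanuel (Algebra.Extension.ofSurjective α hα) (Algebra.Extension.ofSurjective β hβ)
    (homOfMv α hα (Algebra.Extension.ofSurjective β hβ))
    (homOfMv β hβ (Algebra.Extension.ofSurjective α hα))
  let b₁ : Module.Basis (Fin n) S P₁.CotangentSpace := basisOfMv α hα
  let b₂ : Module.Basis (Fin m) S P₂.CotangentSpace := basisOfMv β hβ
  exact ⟨(LinearEquiv.prodCongr (LinearEquiv.refl S _) b₂.equivFun.symm) ≪≫ₗ e ≪≫ₗ
    (LinearEquiv.prodCongr (LinearEquiv.refl S _) b₁.equivFun)⟩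

end

/-- Let S be an R-algebra and α : R[x_1, …, x_n] → S, β : R[y_1, …, y_m] → S surjective R-algebra maps
(presentations by polynomial rings in finitely many variables; the kernels I and J need not be
finitely generated). Then I/I² ⊕ S^m and J/J² ⊕ S^n are isomorphic S-modules. -/
theorem result (R S : Type u) [CommRing R] [CommRing S]
    [Algebra R S] (n m : ℕ) (α : MvPolynomial (Fin n) R →ₐ[R] S) (hα : Function.Surjective α)
    (β : MvPolynomial (Fin m) R →ₐ[R] S) (hβ : Function.Surjective β) :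
    Nonempty (((Algebra.Extension.ofSurjective α hα).Cotangent × (Fin m → S)) ≃ₗ[S]
      ((Algebra.Extension.ofSurjective β hβ).Cotangent × (Fin n → S))) := by
  exact Groth.Agent.S9162.main R S n m α hα β hβ

end Groth.Agent.S9162
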