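import Groth.Statements.S9163
import Mathlib.Algebra.Polynomial.Lifts
import Mathlib.RingTheory.Adjoin.FG
-- import your own Groth.Agent.* helpers here

set_option autoImplicit false
universe u
open CAlg

namespace Groth.Agent.S9163

/-- If S is integral over R, then any finitely many elements of R and of S lie in a pair R₀ ⊆ R, S₀ ⊆ S
with R₀ a finite type ℤ-subalgebra, S₀ an R₀-subalgebra of S, and S₀ finite as an R₀-module; so R →
S is the directed colimit of finite maps between finite type ℤ-algebras. -/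
theorem result (R S : Type u) [CommRing R] [CommRing S] [Algebra R S]
    [Algebra.IsIntegral R S] (E : Finset R) (F : Finset S) :
    ∃ (R₀ : Subalgebra ℤ R) (S₀ : Subalgebra R₀ S), Algebra.FiniteType ℤ R₀ ∧ (E : Set R) ⊆ R₀ ∧
      (F : Set S) ⊆ S₀ ∧ Module.Finite R₀ S₀ := by
  classical
  have hint : ∀ s : S, ∃ p : Polynomial R, p.Monic ∧ Polynomial.eval₂ (algebraMap R S) s p = 0 :=
    fun s => Algebra.IsIntegral.isIntegral (R := R) s
  choose p hpm hp0 using hint
  let G : Finset R := E ∪ F.biUnion (fun s => (p s).coeffs)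
  let R₀ : Subalgebra ℤ R := Algebra.adjoin ℤ (G : Set R)
  have hGR₀ : ∀ x ∈ G, x ∈ R₀ := fun x hx => Algebra.subset_adjoin (Finset.mem_coe.mpr hx)
  have hER₀ : (E : Set R) ⊆ R₀ := fun x hx => hGR₀ x (Finset.mem_union_left _ hx)
  have hcoeff : ∀ s ∈ F, ∀ n : ℕ, (p s).coeff n ∈ R₀ := by
    intro s hs n
    by_cases h0 : (p s).coeff n = 0
    · rw [h0]; exact zero_mem _
    · apply hGR₀
      refine Finset.mem_union_right _ (Finset.mem_biUnion.mpr ⟨s, hs, ?_⟩)
      exact Polynomial.coeff_mem_coeffs h0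
  have hintR₀ : ∀ s ∈ F, IsIntegral R₀ s := by
    intro s hs
    have hl : p s ∈ Polynomial.lifts (algebraMap R₀ R) := by
      rw [Polynomial.lifts_iff_coeff_lifts]
      intro n
      exact ⟨⟨(p s).coeff n, hcoeff s hs n⟩, rfl⟩
    obtain ⟨q, hq, -, hqm⟩ := Polynomial.lifts_and_natDegree_eq_and_monic hl (hpm s)
    refine ⟨q, hqm, ?_⟩
    have h1 : Polynomial.eval₂ (algebraMap R₀ S) s q =
        Polynomial.eval₂ (algebraMap R S) s (q.map (algebraMap R₀ R)) := by
      rw [Polynomial.eval₂_map]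
      rfl
    rw [h1, hq, hp0]
  refine ⟨R₀, Algebra.adjoin R₀ (F : Set S), ?_, hER₀, Algebra.subset_adjoin, ?_⟩
  · exact ⟨(Subalgebra.fg_top R₀).mpr ⟨G, rfl⟩⟩
  · exact Algebra.finite_adjoin_of_finite_of_isIntegral F.finite_toSet
      (fun s hs => hintR₀ s (Finset.mem_coe.mp hs))

end Groth.Agent.S9163
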