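import Groth.Statements.S9164
import Mathlib
-- import your own Groth.Agent.* helpers here

set_option autoImplicit false
universe u
open CAlg

namespace Groth.Agent.S9164

section

variable {R : Type u} [CommRing R] [IsDomain R] [IsNoetherianRing R] [IsLocalRing R]

/-- quotient of a 1-dimensional Noetherian domain by a nonzero element is Artinian -/
theorem artinian_quot (hdim : ringKrullDim R = 1) (r : R) (hr : r ≠ 0) :
    IsArtinianRing (R ⧸ Ideal.span {r}) := by
  haveI : Ring.KrullDimLE 1 R := by
    rw [Ring.krullDimLE_iff, hdim]; rfl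
  rw [isArtinianRing_iff_krullDimLE_zero, Ring.krullDimLE_zero_iff]
  intro P hP
  have hsurj : Function.Surjective (Ideal.Quotient.mk (Ideal.span {r})) := Ideal.Quotient.mk_surjective
  have hcm : (P.comap (Ideal.Quotient.mk (Ideal.span {r}))).IsMaximal := by
    haveI : (P.comap (Ideal.Quotient.mk (Ideal.span {r}))).IsPrime := Ideal.comap_isPrime _ _
    refine Ideal.IsPrime.isMaximal_of_ne_bot ‹_› ?_
    intro hbot
    have : r ∈ P.comap (Ideal.Quotient.mk (Ideal.span {r})) := by
      rw [Ideal.mem_comap]
      have : Ideal.Quotient.mk (Ideal.span {r}) r = 0 :=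
        Ideal.Quotient.eq_zero_iff_mem.mpr (Ideal.mem_span_singleton_self r)
      rw [this]; exact P.zero_mem
    rw [hbot] at this
    exact hr this
  have h1 := Ideal.map_eq_top_or_isMaximal_of_surjective _ hsurj hcm
  rw [Ideal.map_comap_of_surjective _ hsurj] at h1
  exact h1.resolve_left hP.ne_top

/-- f.g. torsion modules have finite length -/
theorem finlen_of_fg_torsion (hdim : ringKrullDim R = 1) (N : Type u) [AddCommGroup N] [Module R N]
    [Module.Finite R N] (htors : ∀ x : N, ∃ r : R, r ≠ 0 ∧ r • x = 0) :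
    IsFiniteLength R N := by
  classical
  obtain ⟨s, hs⟩ := (inferInstance : Module.Finite R N).fg_top
  choose c hc0 hc using htors
  set r : R := ∏ x ∈ s, c x with hr
  have hr0 : r ≠ 0 := Finset.prod_ne_zero_iff.mpr fun x _ => hc0 x
  have hkill : ∀ y : N, r • y = 0 := by
    intro y
    have hy : y ∈ Submodule.span R (s : Set N) := hs ▸ Submodule.mem_top
    refine Submodule.span_induction (p := fun y _ => r • y = 0) ?_ ?_ ?_ ?_ hy
    · intro x hx
      obtain ⟨d, hd⟩ := Finset.dvd_prod_of_mem c hx
      rw [hr, hd, mul_comm, mul_smul, hc, smul_zero]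
    · simp
    · intro a b _ _ ha hb; rw [smul_add, ha, hb, add_zero]
    · intro a x _ hx; rw [smul_comm, hx, smul_zero]
  have hT : Module.IsTorsionBy R N r := fun x => hkill x
  letI : Module (R ⧸ Ideal.span {r}) N := hT.module
  haveI : IsScalarTower R (R ⧸ Ideal.span {r}) N := inferInstance
  haveI := artinian_quot hdim r hr0
  haveI : Module.Finite (R ⧸ Ideal.span {r}) N := Module.Finite.of_restrictScalars_finite R _ _
  haveI : IsArtinian (R ⧸ Ideal.span {r}) N := inferInstance
  haveI : IsArtinian R N :=
    isArtinian_of_surjective_algebraMap (R := R ⧸ Ideal.span {r}) (S := R) (M := N)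
      Ideal.Quotient.mk_surjective
  rw [isFiniteLength_iff_isNoetherian_isArtinian]
  exact ⟨inferInstance, inferInstance⟩

/-- finite length modules are torsion -/
theorem torsion_of_finlen (hdim : ringKrullDim R = 1) (N : Type u) [AddCommGroup N] [Module R N]
    (h : IsFiniteLength R N) (x : N) : ∃ r : R, r ≠ 0 ∧ r • x = 0 := by
  by_contra hcon
  push Not at hcon
  rw [isFiniteLength_iff_isNoetherian_isArtinian] at h
  obtain ⟨_, hA⟩ := h
  have hinj : Function.Injective (LinearMap.toSpanSingleton R N x) := by
    rw [← LinearMap.ker_eq_bot, LinearMap.ker_eq_bot']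
    intro r hr
    by_contra h0
    exact hcon r h0 hr
  haveI : IsArtinian R R := isArtinian_of_injective _ hinj
  haveI : IsArtinianRing R := ‹IsArtinian R R›
  have : Ring.KrullDimLE 0 R := inferInstance
  rw [Ring.krullDimLE_iff, hdim] at this
  exact absurd this (by decide)

variable {K V : Type u} [Field K] [Algebra R K] [IsFractionRing R K] [AddCommGroup V]
  [Module K V] [Module R V] [IsScalarTower R K V]

omit [IsNoetherianRing R] [IsLocalRing R] in
/-- if M spans V over K then every vector has a nonzero multiple in M -/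
theorem exists_smul_mem (M : Submodule R V) (hM : Submodule.span K (M : Set V) = ⊤) (v : V) :
    ∃ r : R, r ≠ 0 ∧ r • v ∈ M := by
  have hv : v ∈ Submodule.span K (M : Set V) := hM ▸ Submodule.mem_top
  refine Submodule.span_induction (p := fun v _ => ∃ r : R, r ≠ 0 ∧ r • v ∈ M) ?_ ?_ ?_ ?_ hv
  · intro x hx; exact ⟨1, one_ne_zero, by simpa using hx⟩
  · exact ⟨1, one_ne_zero, by simp⟩
  · rintro a b _ _ ⟨r, hr, hra⟩ ⟨t, ht, htb⟩
    refine ⟨r * t, mul_ne_zero hr ht, ?_⟩
    rw [smul_add]
    refine M.add_mem ?_ ?_
    · rw [mul_comm, mul_smul]; exact M.smul_mem _ hra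
    · rw [mul_smul]; exact M.smul_mem _ htb
  · rintro k x _ ⟨r, hr, hrx⟩
    obtain ⟨a, b, hb, rfl⟩ := IsFractionRing.div_surjective (A := R) k
    have hb0 : b ≠ 0 := nonZeroDivisors.ne_zero hb
    have hbK : algebraMap R K b ≠ 0 :=
      (map_ne_zero_iff _ (IsFractionRing.injective R K)).mpr hb0
    refine ⟨b * r, mul_ne_zero hb0 hr, ?_⟩
    have : (b * r) • ((algebraMap R K a / algebraMap R K b) • x) = a • (r • x) := by
      rw [← algebraMap_smul K (b * r), ← algebraMap_smul K a, ← algebraMap_smul K r, smul_smul,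
        smul_smul, map_mul]
      congr 1
      field_simp
    rw [this]; exact M.smul_mem _ hrx

omit [IsNoetherianRing R] [IsLocalRing R] in
theorem span_top_of (M : Submodule R V) (h : ∀ v : V, ∃ r : R, r ≠ 0 ∧ r • v ∈ M) :
    Submodule.span K (M : Set V) = ⊤ := by
  rw [eq_top_iff]
  intro v _
  obtain ⟨r, hr, hrv⟩ := h v
  have : v = (algebraMap R K r)⁻¹ • (r • v) := by
    rw [← algebraMap_smul K r, smul_smul, inv_mul_cancel₀, one_smul]
    exact (map_ne_zero_iff _ (IsFractionRing.injective R K)).mpr hr
  rw [this]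
  exact Submodule.smul_mem _ _ (Submodule.subset_span hrv)

omit [IsDomain R] [IsNoetherianRing R] [IsLocalRing R] in
theorem quot_torsion (P Q : Submodule R V) (h : ∀ v ∈ Q, ∃ r : R, r ≠ 0 ∧ r • v ∈ P)
    (x : Q ⧸ Submodule.comap Q.subtype P) : ∃ r : R, r ≠ 0 ∧ r • x = 0 := by
  obtain ⟨⟨v, hv⟩, rfl⟩ := Submodule.Quotient.mk_surjective _ x
  obtain ⟨r, hr, hrv⟩ := h v hv
  refine ⟨r, hr, ?_⟩
  rw [← Submodule.Quotient.mk_smul, Submodule.Quotient.mk_eq_zero]
  exact hrv

omit [IsDomain R] [IsNoetherianRing R] [IsLocalRing R] in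
theorem quot_torsion_conv (P Q : Submodule R V)
    (h : ∀ x : Q ⧸ Submodule.comap Q.subtype P, ∃ r : R, r ≠ 0 ∧ r • x = 0) :
    ∀ v ∈ Q, ∃ r : R, r ≠ 0 ∧ r • v ∈ P := by
  intro v hv
  obtain ⟨r, hr, hrx⟩ := h (Submodule.Quotient.mk ⟨v, hv⟩)
  refine ⟨r, hr, ?_⟩
  rw [← Submodule.Quotient.mk_smul, Submodule.Quotient.mk_eq_zero] at hrx
  exact hrx

theorem main (R K V : Type u) [CommRing R] [IsDomain R]
    [IsNoetherianRing R] [IsLocalRing R] (hdim : ringKrullDim R = 1) [Field K] [Algebra R K]
    [IsFractionRing R K] [AddCommGroup V] [Module K V] [Module R V] [IsScalarTower R K V]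
    [FiniteDimensional K V] (M : Submodule R V) [Submodule.IsLattice K M] :
    (∀ M' : Submodule R V, M ≤ M' →
        (Submodule.IsLattice K M' ↔ Module.length R (M' ⧸ Submodule.comap M'.subtype M) ≠ ⊤) ∧
          (Submodule.IsLattice K M' ↔ M'.FG)) ∧
      (∀ M' : Submodule R V, M' ≤ M →
        (Submodule.IsLattice K M' ↔ Module.length R (M ⧸ Submodule.comap M.subtype M') ≠ ⊤)) ∧
      ∀ M' : Submodule R V, Submodule.IsLattice K M' → Submodule.IsLattice K (M ⊓ M') := by
  have hMspan : Submodule.span K (M : Set V) = ⊤ := Submodule.IsLattice.span_eq_top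
  have hMfg : M.FG := Submodule.IsLattice.fg
  haveI : IsNoetherian R M := isNoetherian_of_fg_of_noetherian M hMfg
  refine ⟨fun M' hle => ?_, fun M' hle => ?_, fun M' hM' => ?_⟩
  · have hfgiff : Submodule.IsLattice K M' ↔ M'.FG :=
      ⟨fun h => h.fg, fun h => Submodule.IsLattice.of_le_of_isLattice_of_fg K hle h⟩
    refine ⟨?_, hfgiff⟩
    rw [hfgiff, Module.length_ne_top_iff]
    constructor
    · intro hfg
      haveI : Module.Finite R M' := Module.Finite.iff_fg.mpr hfg
      exact finlen_of_fg_torsion hdim _
        (quot_torsion M M' (fun v _ => exists_smul_mem (K := K) M hMspan v))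
    · intro hfl
      rw [isFiniteLength_iff_isNoetherian_isArtinian] at hfl
      obtain ⟨hN, _⟩ := hfl
      have h1 : ((⊤ : Submodule R M').map (Submodule.comap M'.subtype M).mkQ).FG := by
        rw [Submodule.map_top, Submodule.range_mkQ]
        exact hN.noetherian ⊤
      have h2 : ((⊤ : Submodule R M') ⊓ LinearMap.ker (Submodule.comap M'.subtype M).mkQ).FG := by
        rw [top_inf_eq, Submodule.ker_mkQ]
        apply Submodule.fg_of_fg_map_injective M'.subtype M'.injective_subtype
        rw [Submodule.map_comap_subtype, inf_eq_right.mpr hle]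
        exact hMfg
      have h3 := Submodule.fg_of_fg_map_of_fg_inf_ker _ h1 h2
      exact Module.Finite.iff_fg.mp ⟨h3⟩
  · rw [Module.length_ne_top_iff]
    constructor
    · intro h
      exact finlen_of_fg_torsion hdim _
        (quot_torsion M' M (fun v _ => exists_smul_mem (K := K) M' h.span_eq_top v))
    · intro hfl
      have htors := torsion_of_finlen hdim _ hfl
      have h1 := quot_torsion_conv M' M htors
      refine ⟨?_, ?_⟩
      · haveI : IsNoetherian R M' := isNoetherian_of_le hle
        exact Module.Finite.iff_fg.mp inferInstance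
      · refine span_top_of (K := K) M' fun v => ?_
        obtain ⟨r, hr, hrv⟩ := exists_smul_mem (K := K) M hMspan v
        obtain ⟨t, ht, htv⟩ := h1 (r • v) hrv
        exact ⟨t * r, mul_ne_zero ht hr, by rwa [mul_smul]⟩
  · refine ⟨?_, ?_⟩
    · haveI : IsNoetherian R ↥(M ⊓ M') := isNoetherian_of_le inf_le_left
      exact Module.Finite.iff_fg.mp inferInstance
    · refine span_top_of (K := K) (M ⊓ M') fun v => ?_
      obtain ⟨r, hr, hrv⟩ := exists_smul_mem (K := K) M hMspan v
      obtain ⟨t, ht, htv⟩ := exists_smul_mem (K := K) M' hM'.span_eq_top v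
      refine ⟨r * t, mul_ne_zero hr ht, ?_, ?_⟩
      · rw [mul_comm, mul_smul]; exact M.smul_mem _ hrv
      · rw [mul_smul]; exact M'.smul_mem _ htv

end

/-- Let R be a one-dimensional Noetherian local domain with fraction field K and V a finite-dimensional
K-vector space; a lattice is a finitely generated R-submodule of V spanning V over K. (1) For a
lattice M and an R-submodule M' ⊇ M: M' is a lattice iff M'/M has finite length over R iff M' is
finitely generated. (2) For a lattice M and M' ⊆ M: M' is a lattice iff M/M' has finite length. (3)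
The intersection of two lattices is a lattice. (The published statement also asserts that the sum M
+ M' of two lattices is a lattice and two identities between lengths of quotients of nested
lattices; this row states (1), (2) and the intersection half of (3).) -/
theorem result (R K V : Type u) [CommRing R] [IsDomain R]
    [IsNoetherianRing R] [IsLocalRing R] (hdim : ringKrullDim R = 1) [Field K] [Algebra R K]
    [IsFractionRing R K] [AddCommGroup V] [Module K V] [Module R V] [IsScalarTower R K V]
    [FiniteDimensional K V] (M : Submodule R V) [Submodule.IsLattice K M] :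
    (∀ M' : Submodule R V, M ≤ M' →
        (Submodule.IsLattice K M' ↔ Module.length R (M' ⧸ Submodule.comap M'.subtype M) ≠ ⊤) ∧
          (Submodule.IsLattice K M' ↔ M'.FG)) ∧
      (∀ M' : Submodule R V, M' ≤ M →
        (Submodule.IsLattice K M' ↔ Module.length R (M ⧸ Submodule.comap M.subtype M') ≠ ⊤)) ∧
      ∀ M' : Submodule R V, Submodule.IsLattice K M' → Submodule.IsLattice K (M ⊓ M') := by
  exact Groth.Agent.S9164.main R K V hdim M

end Groth.Agent.S9164
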