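import Groth.Statements.S9166
import Mathlib
-- import your own Groth.Agent.* helpers here

set_option autoImplicit false
universe u
open CAlg

namespace Groth.Agent.S9166

section

theorem flat_ker {R M M'' : Type*} [CommRing R] [AddCommGroup M] [Module R M]
    [AddCommGroup M''] [Module R M''] [Module.Flat R M'']
    (φ : M →ₗ[R] M'') (hφ : Function.Surjective φ) (I : Ideal R) (x : M) (hx : φ x = 0)
    (hxI : x ∈ I • (⊤ : Submodule R M)) :
    x ∈ I • (LinearMap.ker φ) := by
  classical
  have htop : (⊤ : Submodule R M) = Submodule.span R (Set.range (id : M → M)) := by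
    rw [Set.range_id, Submodule.span_univ]
  rw [htop, Submodule.mem_ideal_smul_span_iff_exists_sum] at hxI
  obtain ⟨a, ha, hsum⟩ := hxI
  rw [Finsupp.sum, ← Finset.sum_coe_sort] at hsum
  -- relation in M''
  have hrel : ∑ i : a.support, a i • φ (i : M) = 0 := by
    rw [← hx, ← hsum, map_sum]
    refine Finset.sum_congr rfl fun i _ => ?_
    rw [map_smul]
    rfl
  obtain ⟨k, b, y, hy, hb⟩ := Module.Flat.isTrivialRelation_of_sum_smul_eq_zero hrel
  simp only at hy hb
  choose y' hy' using fun j => hφ (y j)
  have hn : ∀ i : a.support, (i : M) - ∑ j, b i j • y' j ∈ LinearMap.ker φ := by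
    intro i
    rw [LinearMap.mem_ker, map_sub, map_sum, hy i, sub_eq_zero]
    refine Finset.sum_congr rfl fun j _ => ?_
    rw [map_smul, hy']
  have hx2 : x = ∑ i : a.support, a i • ((i : M) - ∑ j, b i j • y' j) := by
    have h1 : ∑ i : a.support, a i • ∑ j, b i j • y' j = 0 := by
      simp_rw [Finset.smul_sum, smul_smul]
      rw [Finset.sum_comm]
      refine Finset.sum_eq_zero fun j _ => ?_
      rw [← Finset.sum_smul, hb j, zero_smul]
    simp_rw [smul_sub]
    rw [Finset.sum_sub_distrib, h1, sub_zero, ← hsum]
    rfl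
  rw [hx2]
  exact Submodule.sum_mem _ fun i _ => Submodule.smul_mem_smul (ha i) (hn i)

theorem ker_fg (R S S' : Type u) [CommRing R] [CommRing S]
    [CommRing S'] [Algebra R S] [Algebra R S'] [Algebra.FiniteType R S] [Algebra.FinitePresentation R S']
    (f : S →ₐ[R] S') (hf : Function.Surjective f) : (RingHom.ker f.toRingHom).FG := by
  obtain ⟨n, g, hg⟩ := Algebra.FiniteType.iff_quotient_mvPolynomial''.mp (inferInstance : Algebra.FiniteType R S)
  convert! (Algebra.FinitePresentation.ker_fg_of_mvPolynomial (f.comp g) (hf.comp hg)).map g.toRingHom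
  simp_rw [RingHom.ker_eq_comap_bot, AlgHom.toRingHom_eq_coe, AlgHom.comp_toRingHom]
  rw [← Ideal.comap_comap, Ideal.map_comap_of_surjective (g : MvPolynomial (Fin n) R →+* S) hg]

theorem core (R S S' : Type u) [CommRing R] [CommRing S] [CommRing S'] [Algebra R S] [Algebra R S']
    [Module S S'] [IsScalarTower R S S'] (f : S →ₐ[R] S') (hf : Function.Surjective f)
    (hsm : ∀ (s : S) (x : S'), s • x = f s * x)
    (I : Ideal R) (q : Ideal S) [q.IsPrime]
    (hker : ∀ j : S, f j = 0 →
      algebraMap S (Localization.AtPrime q) j ∈ I.map (algebraMap R (Localization.AtPrime q)))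
    [Module.Flat R (LocalizedModule q.primeCompl S')] :
    (RingHom.ker f.toRingHom).map (algebraMap S (Localization.AtPrime q)) ≤
      I.map (algebraMap R (Localization.AtPrime q)) *
        (RingHom.ker f.toRingHom).map (algebraMap S (Localization.AtPrime q)) := by
  let fS : S →ₗ[S] S' :=
    { toFun := f, map_add' := map_add f, map_smul' := fun s x => by rw [hsm]; simp }
  let φ₀ : LocalizedModule q.primeCompl S →ₗ[S] LocalizedModule q.primeCompl S' :=
    IsLocalizedModule.map q.primeCompl (LocalizedModule.mkLinearMap _ S)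
      (LocalizedModule.mkLinearMap _ S') fS
  have hφ₀ : ∀ (s : S) (u : q.primeCompl), φ₀ (LocalizedModule.mk s u) = LocalizedModule.mk (f s) u :=
    fun s u => IsLocalizedModule.map_LocalizedModules _ fS s u
  let φ : Localization.AtPrime q →ₗ[R] LocalizedModule q.primeCompl S' :=
    { toFun := φ₀
      map_add' := map_add φ₀
      map_smul' := fun r x => by
        induction x using LocalizedModule.induction_on with
        | h s u =>
          rw [LocalizedModule.smul'_mk, hφ₀, hφ₀, RingHom.id_apply, LocalizedModule.smul'_mk,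
            map_smul] }
  have hφ : ∀ (s : S) (u : q.primeCompl), φ (LocalizedModule.mk s u) = LocalizedModule.mk (f s) u :=
    hφ₀
  have hsurj : Function.Surjective φ := by
    intro y
    induction y using LocalizedModule.induction_on with
    | h s' u =>
      obtain ⟨s, rfl⟩ := hf s'
      exact ⟨LocalizedModule.mk s u, hφ s u⟩
  have hkerφ : ∀ n : Localization.AtPrime q, φ n = 0 →
      n ∈ (RingHom.ker f.toRingHom).map (algebraMap S (Localization.AtPrime q)) := by
    intro n hn
    induction n using LocalizedModule.induction_on with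
    | h s u =>
      rw [hφ, ← LocalizedModule.zero_mk 1, LocalizedModule.mk_eq] at hn
      obtain ⟨c, hc⟩ := hn
      have h1 : (LocalizedModule.mk s u : Localization.AtPrime q) =
          IsLocalization.mk' (Localization.AtPrime q) s u := Localization.mk_eq_mk'_apply s u
      rw [h1, IsLocalization.mk'_mem_map_algebraMap_iff]
      refine ⟨c, c.2, ?_⟩
      rw [RingHom.mem_ker]
      simp only [smul_zero, one_smul, Submonoid.smul_def, hsm] at hc
      simpa using hc
  apply Ideal.map_le_iff_le_comap.mpr
  intro j hj
  rw [Ideal.mem_comap]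
  have hj0 : f j = 0 := hj
  have h1 : algebraMap S (Localization.AtPrime q) j ∈ I • (⊤ : Submodule R (Localization.AtPrime q)) := by
    rw [Ideal.smul_top_eq_map]
    exact hker j hj0
  have h2 : φ (algebraMap S (Localization.AtPrime q) j) = 0 := by
    rw [← Localization.mk_one_eq_algebraMap]
    refine (hφ j 1).trans ?_
    rw [hj0, LocalizedModule.zero_mk]
  have h3 := flat_ker φ hsurj I _ h2 h1
  refine Submodule.smul_induction_on h3 ?_ ?_
  · intro r hr n hn
    rw [Algebra.smul_def]
    exact Ideal.mul_mem_mul (Ideal.mem_map_of_mem _ hr) (hkerφ n hn)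
  · intro x y hx hy
    exact add_mem hx hy

theorem exists_kill {S : Type*} [CommRing S] (q : Ideal S) [q.IsPrime] (J : Ideal S) (hJ : J.FG)
    (h : ∀ j ∈ J, ∃ c : S, c ∉ q ∧ c * j = 0) : ∃ g : S, g ∉ q ∧ ∀ j ∈ J, g * j = 0 := by
  classical
  obtain ⟨T, rfl⟩ := hJ
  have key : ∃ g : S, g ∉ q ∧ ∀ t ∈ T, g * t = 0 := by
    have : ∀ T' : Finset S, (∀ t ∈ T', ∃ c : S, c ∉ q ∧ c * t = 0) →
        ∃ g : S, g ∉ q ∧ ∀ t ∈ T', g * t = 0 := by
      intro T'
      induction T' using Finset.induction_on with
      | empty => intro _; exact ⟨1, fun h1 => (Ideal.IsPrime.ne_top ‹_›) ((Ideal.eq_top_iff_one _).mpr h1), by simp⟩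
      | insert a T' ha ih =>
        intro hT
        obtain ⟨g, hg, hgT⟩ := ih (fun t ht => hT t (Finset.mem_insert_of_mem ht))
        obtain ⟨c, hc, hca⟩ := hT a (Finset.mem_insert_self _ _)
        refine ⟨g * c, fun hgc => ?_, fun t ht => ?_⟩
        · rcases (Ideal.IsPrime.mem_or_mem ‹_› hgc) with h1 | h1
          · exact hg h1
          · exact hc h1
        · rcases Finset.mem_insert.mp ht with rfl | ht
          · rw [mul_assoc, hca, mul_zero]
          · rw [mul_comm g c, mul_assoc, hgT t ht, mul_zero]
    exact this T fun t ht => h t (Ideal.subset_span ht)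
  obtain ⟨g, hg, hgT⟩ := key
  refine ⟨g, hg, fun j hj => ?_⟩
  refine Submodule.span_induction (p := fun j _ => g * j = 0) ?_ ?_ ?_ ?_ hj
  · intro t ht; exact hgT t ht
  · simp
  · intro x y _ _ hx hy; rw [mul_add, hx, hy, add_zero]
  · intro a x _ hx; rw [smul_eq_mul, mul_left_comm, hx, mul_zero]

theorem main (R S S' : Type u) [CommRing R] [CommRing S]
    [CommRing S'] [Algebra R S] [Algebra R S'] [Algebra.FiniteType R S] [Algebra.FinitePresentation R S']
    (I : Ideal R) (f : S →ₐ[R] S') (hf : Function.Surjective f) (q : Ideal S) [q.IsPrime]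
    (hq : I.map (algebraMap R S) ≤ q)
    (hker : ∀ j : S, f j = 0 →
      algebraMap S (Localization.AtPrime q) j ∈ I.map (algebraMap R (Localization.AtPrime q)))
    (hflat : letI : Module S S' := f.toRingHom.toModule
      Module.Flat R (LocalizedModule q.primeCompl S')) :
    ∃ g : S, g ∉ q ∧ Function.Bijective (Localization.awayMap f.toRingHom g) := by
  letI : Module S S' := f.toRingHom.toModule
  haveI : IsScalarTower R S S' := by
    refine ⟨fun r s x => ?_⟩
    change f (r • s) * x = r • (f s * x)
    rw [map_smul, smul_mul_assoc]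
  haveI : Module.Flat R (LocalizedModule q.primeCompl S') := hflat
  have hcore := core R S S' f hf (fun _ _ => rfl) I q hker
  set J := RingHom.ker f.toRingHom with hJdef
  have hJfg : J.FG := ker_fg R S S' f hf
  set Jq := J.map (algebraMap S (Localization.AtPrime q)) with hJq
  have hJqfg : Jq.FG := hJfg.map _
  have hIq : I.map (algebraMap R (Localization.AtPrime q)) ≤
      IsLocalRing.maximalIdeal (Localization.AtPrime q) := by
    rw [IsScalarTower.algebraMap_eq R S (Localization.AtPrime q), ← Ideal.map_map,
      ← Localization.AtPrime.map_eq_maximalIdeal]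
    exact Ideal.map_mono hq
  have hbot : Jq = ⊥ := by
    refine Submodule.eq_bot_of_le_smul_of_le_jacobson_bot
      (I.map (algebraMap R (Localization.AtPrime q))) Jq hJqfg ?_ ?_
    · rw [smul_eq_mul]; exact hcore
    · rw [IsLocalRing.jacobson_eq_maximalIdeal _ bot_ne_top]; exact hIq
  have hkill : ∀ j ∈ J, ∃ c : S, c ∉ q ∧ c * j = 0 := by
    intro j hj
    have h0 : algebraMap S (Localization.AtPrime q) j = 0 := by
      have : algebraMap S (Localization.AtPrime q) j ∈ Jq := Ideal.mem_map_of_mem _ hj
      rw [hbot] at this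
      exact this
    rw [IsLocalization.map_eq_zero_iff q.primeCompl] at h0
    obtain ⟨c, hc⟩ := h0
    exact ⟨c, c.2, hc⟩
  obtain ⟨g, hg, hgJ⟩ := exists_kill q J hJfg hkill
  refine ⟨g, hg, ?_, ?_⟩
  · rw [Localization.awayMap_injective_iff]
    intro a ha
    exact ⟨1, by rw [pow_one]; exact hgJ a ha⟩
  · rw [Localization.awayMap_surjective_iff]
    intro a
    obtain ⟨b, rfl⟩ := hf a
    exact ⟨b, 0, by simp⟩

end

/-- Let I be an ideal of a ring R, S → S' a surjective homomorphism of R-algebras with S of finite type
and S' of finite presentation over R, and q a prime of S containing IS. Assume S'_q is flat over R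
and that S_q/IS_q → S'_q/IS'_q is an isomorphism, which for a surjection says: every element of the
kernel of S → S' maps into I·S_q. Then for some g ∉ q the localized map S_g → S'_g is bijective. -/
theorem result (R S S' : Type u) [CommRing R] [CommRing S]
    [CommRing S'] [Algebra R S] [Algebra R S'] [Algebra.FiniteType R S] [Algebra.FinitePresentation R S']
    (I : Ideal R) (f : S →ₐ[R] S') (hf : Function.Surjective f) (q : Ideal S) [q.IsPrime]
    (hq : I.map (algebraMap R S) ≤ q)
    (hker : ∀ j : S, f j = 0 →
      algebraMap S (Localization.AtPrime q) j ∈ I.map (algebraMap R (Localization.AtPrime q)))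
    (hflat : letI : Module S S' := f.toRingHom.toModule
      Module.Flat R (LocalizedModule q.primeCompl S')) :
    ∃ g : S, g ∉ q ∧ Function.Bijective (Localization.awayMap f.toRingHom g) := by
  exact Groth.Agent.S9166.main R S S' I f hf q hq hker hflat

end Groth.Agent.S9166
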