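import Groth.Statements.S9168
import Mathlib
-- import your own Groth.Agent.* helpers here

set_option autoImplicit false
universe u
open CAlg

namespace Groth.Agent.S9168

section

/-- the "localization inside T" of a subring B at the elements of B which are units of T. -/
def locSub {T : Type*} [CommRing T] (B : Subring T) : Subring T where
  carrier := {x | ∃ t ∈ B, IsUnit t ∧ t * x ∈ B}
  mul_mem' := by
    rintro x y ⟨t, ht, htu, htx⟩ ⟨u, hu, huu, huy⟩
    refine ⟨t * u, B.mul_mem ht hu, htu.mul huu, ?_⟩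
    have : t * u * (x * y) = (t * x) * (u * y) := by ring
    rw [this]
    exact B.mul_mem htx huy
  one_mem' := ⟨1, B.one_mem, isUnit_one, by simpa using B.one_mem⟩
  add_mem' := by
    rintro x y ⟨t, ht, htu, htx⟩ ⟨u, hu, huu, huy⟩
    refine ⟨t * u, B.mul_mem ht hu, htu.mul huu, ?_⟩
    have : t * u * (x + y) = u * (t * x) + t * (u * y) := by ring
    rw [this]
    exact B.add_mem (B.mul_mem hu htx) (B.mul_mem ht huy)
  zero_mem' := ⟨1, B.one_mem, isUnit_one, by simpa using B.zero_mem⟩
  neg_mem' := by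
    rintro x ⟨t, ht, htu, htx⟩
    refine ⟨t, ht, htu, ?_⟩
    rw [mul_neg]
    exact B.neg_mem htx

theorem le_locSub {T : Type*} [CommRing T] (B : Subring T) : B ≤ locSub B := by
  intro x hx
  exact ⟨1, B.one_mem, isUnit_one, by simpa using hx⟩

theorem isUnit_locSub {T : Type*} [CommRing T] (B : Subring T) (x : locSub B)
    (hx : IsUnit (x : T)) : IsUnit x := by
  obtain ⟨x, t, ht, htu, htx⟩ := x
  have hau : IsUnit (t * x) := htu.mul hx
  obtain ⟨y, hy⟩ := hx.exists_right_inv
  have hy' : y ∈ locSub B := by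
    refine ⟨t * x, htx, hau, ?_⟩
    rw [mul_assoc, hy, mul_one]
    exact ht
  exact IsUnit.of_mul_eq_one (⟨y, hy'⟩ : locSub B) (Subtype.ext hy)

instance isLocalHom_locSub {T : Type*} [CommRing T] (B : Subring T) :
    IsLocalHom (locSub B).subtype :=
  ⟨fun x hx => isUnit_locSub B x hx⟩

theorem isLocalRing_locSub {T : Type*} [CommRing T] [IsLocalRing T] (B : Subring T) :
    IsLocalRing (locSub B) :=
  (locSub B).subtype.domain_isLocalRing

theorem ess_of {A T : Type*} [CommRing A] [CommRing T] (φ : A →+* T) (F : Finset T)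
    (B : Subring T) (hB : B = Subring.closure (Set.range φ ∪ (F : Set T)))
    (ψ : A →+* locSub B)
    (hψ : ∀ a, (ψ a : T) = φ a) : ψ.EssFiniteType := by
  classical
  letI : Algebra A (locSub B) := ψ.toAlgebra
  change Algebra.EssFiniteType A (locSub B)
  have hF : ∀ f ∈ F, f ∈ locSub B := fun f hf =>
    le_locSub B (hB ▸ Subring.subset_closure (Or.inr hf))
  let σ : Finset (locSub B) := F.attach.image fun f => ⟨f.1, hF f.1 f.2⟩
  rw [Algebra.essFiniteType_iff]
  refine ⟨σ, ?_⟩
  have hle : B ≤ (Algebra.adjoin A (σ : Set (locSub B))).toSubring.map (locSub B).subtype := by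
    refine hB.le.trans ?_
    rw [Subring.closure_le]
    rintro x (⟨a, rfl⟩ | hx)
    · refine ⟨ψ a, ?_, hψ a⟩
      exact Subalgebra.algebraMap_mem _ a
    · refine ⟨⟨x, hF x hx⟩, ?_, rfl⟩
      apply Algebra.subset_adjoin
      rw [Finset.mem_coe, Finset.mem_image]
      exact ⟨⟨x, hx⟩, Finset.mem_attach _ _, rfl⟩
  have hmem : ∀ (x : locSub B), (x : T) ∈ B → x ∈ Algebra.adjoin A (σ : Set (locSub B)) := by
    intro x hx
    obtain ⟨y, hy, hyx⟩ := hle hx
    have : y = x := Subtype.ext hyx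
    rw [← this]
    exact hy
  rintro ⟨s, t, ht, htu, hts⟩
  refine ⟨⟨t, le_locSub B ht⟩, hmem _ ht, isUnit_locSub B _ htu, hmem _ ?_⟩
  change s * t ∈ B
  rw [mul_comm]
  exact hts

theorem main (R S : Type u) [CommRing R] [CommRing S] [IsLocalRing R]
    [IsLocalRing S] [Algebra R S] [IsLocalHom (algebraMap R S)] (E : Finset R) (F : Finset S) :
    ∃ (R₀ : Subring R) (S₀ : Subring S) (h : ∀ x ∈ R₀, algebraMap R S x ∈ S₀),
      (E : Set R) ⊆ R₀ ∧ (F : Set S) ⊆ S₀ ∧ ∃ (_ : IsLocalRing R₀) (_ : IsLocalRing S₀),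
        IsLocalHom R₀.subtype ∧ IsLocalHom S₀.subtype ∧
          IsLocalHom ((algebraMap R S).restrict R₀ S₀ h) ∧
          (algebraMap ℤ R₀).EssFiniteType ∧ ((algebraMap R S).restrict R₀ S₀ h).EssFiniteType := by
  let φ₁ : ℤ →+* R := algebraMap ℤ R
  let B₁ : Subring R := Subring.closure (Set.range φ₁ ∪ (E : Set R))
  let R₀ : Subring R := locSub B₁
  let φ₂ : R₀ →+* S := (algebraMap R S).comp R₀.subtype
  let B₂ : Subring S := Subring.closure (Set.range φ₂ ∪ (F : Set S))
  let S₀ : Subring S := locSub B₂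
  have h : ∀ x ∈ R₀, algebraMap R S x ∈ S₀ := fun x hx =>
    le_locSub B₂ (Subring.subset_closure (Or.inl ⟨⟨x, hx⟩, rfl⟩))
  refine ⟨R₀, S₀, h, ?_, ?_, isLocalRing_locSub B₁, isLocalRing_locSub B₂, isLocalHom_locSub B₁,
    isLocalHom_locSub B₂, ?_, ?_, ?_⟩
  · intro x hx
    exact le_locSub B₁ (Subring.subset_closure (Or.inr hx))
  · intro x hx
    exact le_locSub B₂ (Subring.subset_closure (Or.inr hx))
  · refine ⟨fun a ha => ?_⟩
    have h1 : IsUnit (algebraMap R S (a : R)) := by
      have := ha.map S₀.subtype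
      exact this
    have h2 : IsUnit (a : R) := isUnit_of_map_unit (algebraMap R S) _ h1
    exact isUnit_locSub B₁ a h2
  · exact ess_of φ₁ E B₁ rfl (algebraMap ℤ R₀) (fun a => by simp [φ₁])
  · exact ess_of φ₂ F B₂ rfl ((algebraMap R S).restrict R₀ S₀ h) (fun a => rfl)

end

/-- For a local homomorphism of local rings R → S and finite subsets E ⊆ R, F ⊆ S there are local
subrings R₀ ⊆ R and S₀ ⊆ S containing E and F, with R → S mapping R₀ into S₀, such that the
inclusions and the induced map R₀ → S₀ are local homomorphisms, R₀ is essentially of finite type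
over ℤ and S₀ is essentially of finite type over R₀. (So R → S is the directed colimit of such R₀ →
S₀.) -/
theorem result (R S : Type u) [CommRing R] [CommRing S] [IsLocalRing R]
    [IsLocalRing S] [Algebra R S] [IsLocalHom (algebraMap R S)] (E : Finset R) (F : Finset S) :
    ∃ (R₀ : Subring R) (S₀ : Subring S) (h : ∀ x ∈ R₀, algebraMap R S x ∈ S₀),
      (E : Set R) ⊆ R₀ ∧ (F : Set S) ⊆ S₀ ∧ ∃ (_ : IsLocalRing R₀) (_ : IsLocalRing S₀),
        IsLocalHom R₀.subtype ∧ IsLocalHom S₀.subtype ∧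
          IsLocalHom ((algebraMap R S).restrict R₀ S₀ h) ∧
          (algebraMap ℤ R₀).EssFiniteType ∧ ((algebraMap R S).restrict R₀ S₀ h).EssFiniteType := by
  exact Groth.Agent.S9168.main R S E F

end Groth.Agent.S9168
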