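import Groth.Statements.S9170
import Mathlib
import Groth.Agent.Lib.Helper2.RelGCI5
-- import your own Groth.Agent.* helpers here

set_option autoImplicit false
universe u
open Synt

namespace Groth.Agent.S9170

section
open Groth.Agent.Helper2.RelGCI Groth.Agent.Helper2.FCR

theorem main (R : Type u) [CommRing R] (n c : ℕ)
    (F : Fin c → MvPolynomial (Fin n) R) (h : Synt.IsRelGCI R n c F)
    (q' : Ideal (MvPolynomial (Fin n) R)) [q'.IsPrime] (hq' : Ideal.span (Set.range F) ≤ q') :
    RingTheory.Sequence.IsRegular (Localization.AtPrime q')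
        ((List.ofFn F).map (algebraMap (MvPolynomial (Fin n) R) (Localization.AtPrime q'))) ∧
      (∀ i ≤ c, Module.Flat R (Localization.AtPrime q' ⧸ Ideal.ofList
        (((List.ofFn F).take i).map (algebraMap (MvPolynomial (Fin n) R) (Localization.AtPrime q'))))) ∧
      LinearIndependent (Synt.RelGCIRing R n c F)
        (fun i : Fin c => (Ideal.span (Set.range F)).toCotangent ⟨F i, Ideal.subset_span (Set.mem_range_self i)⟩) ∧
      Submodule.span (Synt.RelGCIRing R n c F) (Set.range
        (fun i : Fin c => (Ideal.span (Set.range F)).toCotangent ⟨F i, Ideal.subset_span (Set.mem_range_self i)⟩)) = ⊤ := by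
  obtain ⟨-, hH⟩ := hFib_of_relGCI R n c F h q' hq'
  haveI : Module.Flat R (LocalizedModule q'.primeCompl (MvPolynomial (Fin n) R)) :=
    Groth.Agent.Helper21.FL.flat_of_isLocalizedModule q'.primeCompl
      (LocalizedModule.mkLinearMap q'.primeCompl (MvPolynomial (Fin n) R))
  have hmem : ∀ a ∈ List.ofFn F, a ∈ q' := fun a ha => by
    obtain ⟨j, rfl⟩ := List.mem_ofFn.mp ha
    exact hq' (Ideal.subset_span ⟨j, rfl⟩)
  refine ⟨?_, ?_, conormal_basis F (kr_of_relGCI R n c F h)⟩
  · obtain ⟨g, hg, hwr⟩ := exists_wr (R := R) c (MvPolynomial (Fin n) R) q' (List.ofFn F)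
      (List.length_ofFn) hmem hH
    exact regular_localization q' g hg _ hmem hwr
  · intro i _
    have hmem' : ∀ a ∈ (List.ofFn F).take i, a ∈ q' := fun a ha => hmem a (List.mem_of_mem_take ha)
    apply flat_quot_localization (R := R) q' _ hmem'
    exact flatQuot_of_hFib (R := R) _ (MvPolynomial (Fin n) R) q' _ rfl hmem'
      (hFib_take q' _ hH i)

end

/-- For a relative global complete intersection S = R[x_1, …, x_n]/(f_1, …, f_c) over a ring R and a
prime q' of the polynomial ring containing the ideal (f_1, …, f_c): (1) f_1, …, f_c is a regular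
sequence in the localization R[x]_{q'} (a local ring); (2) every quotient R[x]_{q'}/(f_1, …, f_i) is
flat over R; (3) the conormal module (f)/(f)² is free over S with basis the classes of the f_i
(stated as: these classes are linearly independent over S and span). -/
theorem result (R : Type u) [CommRing R] (n c : ℕ)
    (F : Fin c → MvPolynomial (Fin n) R) (h : Synt.IsRelGCI R n c F)
    (q' : Ideal (MvPolynomial (Fin n) R)) [q'.IsPrime] (hq' : Ideal.span (Set.range F) ≤ q') :
    RingTheory.Sequence.IsRegular (Localization.AtPrime q')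
        ((List.ofFn F).map (algebraMap (MvPolynomial (Fin n) R) (Localization.AtPrime q'))) ∧
      (∀ i ≤ c, Module.Flat R (Localization.AtPrime q' ⧸ Ideal.ofList
        (((List.ofFn F).take i).map (algebraMap (MvPolynomial (Fin n) R) (Localization.AtPrime q'))))) ∧
      LinearIndependent (Synt.RelGCIRing R n c F)
        (fun i : Fin c => (Ideal.span (Set.range F)).toCotangent ⟨F i, Ideal.subset_span (Set.mem_range_self i)⟩) ∧
      Submodule.span (Synt.RelGCIRing R n c F) (Set.range
        (fun i : Fin c => (Ideal.span (Set.range F)).toCotangent ⟨F i, Ideal.subset_span (Set.mem_range_self i)⟩)) = ⊤ := by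
  exact Groth.Agent.S9170.main R n c F h q' hq'

end Groth.Agent.S9170
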