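import Groth.Statements.S9175
import Mathlib
import Groth.Agent.Lib.Helper14.Chevalley
-- import your own Groth.Agent.* helpers here

set_option autoImplicit false
universe u
open CAlg

namespace Groth.Agent.S9175

open TensorProduct TopologicalSpace Groth.Agent.Helper14.Chevalley in
/-- the local Noether normalization step: a quasi-finite map from a polynomial ring near `q'`. -/
theorem core' (R B' : Type u) [CommRing R] [CommRing B'] [Algebra R B'] [Algebra.FiniteType R B']
    (p : Ideal R) [p.IsPrime] (q' : Ideal B') [q'.IsPrime]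
    (hq' : q'.comap (algebraMap R B') = p) (n : ℕ) (hdim : ringKrullDim (p.Fiber B') ≤ n) :
    ∃ g' : B', g' ∉ q' ∧ ∃ Φ : MvPolynomial (Fin n) R →ₐ[R] B',
      ((algebraMap B' (Localization.Away g')).comp Φ.toRingHom).FiniteType ∧
      ((algebraMap B' (Localization.Away g')).comp Φ.toRingHom).QuasiFinite := by
  haveI : Nontrivial (p.Fiber B') := by
    have Q := PrimeSpectrum.preimageOrderIsoFiber R B' ⟨p, inferInstance⟩
      ⟨⟨q', inferInstance⟩, PrimeSpectrum.ext hq'⟩
    exact PrimeSpectrum.nonempty_iff_nontrivial.mp ⟨Q⟩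
  obtain ⟨Φ, hΦ⟩ := exists_lift_noether R B' p n hdim
  let A := MvPolynomial (Fin n) R
  letI : Algebra A B' := Φ.toRingHom.toAlgebra
  haveI : IsScalarTower R A B' := IsScalarTower.of_algebraMap_eq (fun r => (Φ.commutes r).symm)
  haveI : Algebra.FiniteType A B' := Algebra.FiniteType.of_restrictScalars_finiteType R A B'
  let P : Ideal A := q'.comap (algebraMap A B')
  haveI : P.IsPrime := Ideal.comap_isPrime _ _
  haveI : q'.LiesOver P := ⟨rfl⟩
  have hpP : p = P.comap (algebraMap R A) := by
    rw [← hq', Ideal.comap_comap, ← IsScalarTower.algebraMap_eq]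
  have hto : IsScalarTower.toAlgHom R A B' = Φ := AlgHom.ext fun _ => rfl
  haveI := quasiFiniteAt_of_bc_finite p P hpP (by rw [hto]; exact hΦ) q'
  obtain ⟨g', hg', hqf⟩ := exists_away_quasiFinite (A := A) q'
  refine ⟨g', hg', Φ, ?_, ?_⟩
  · have h1 : (algebraMap A (Localization.Away g')).FiniteType := by
      rw [RingHom.finiteType_algebraMap]
      exact Algebra.FiniteType.trans (inferInstance : Algebra.FiniteType A B')
        (IsLocalization.finiteType_of_monoid_fg (Submonoid.powers g') _)
    have h2 : algebraMap A (Localization.Away g') =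
        (algebraMap B' (Localization.Away g')).comp Φ.toRingHom :=
      IsScalarTower.algebraMap_eq A B' (Localization.Away g')
    rw [← h2]; exact h1
  · have h1 : (algebraMap A (Localization.Away g')).QuasiFinite := by
      rw [RingHom.quasiFinite_algebraMap]
      exact hqf
    have h2 : algebraMap A (Localization.Away g') =
        (algebraMap B' (Localization.Away g')).comp Φ.toRingHom :=
      IsScalarTower.algebraMap_eq A B' (Localization.Away g')
    rw [← h2]; exact h1

/-- Let R → S be of finite type, q a prime of S over p, and Q the prime of the fibre ring κ(p) ⊗ S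
pulling back to q. If Spec(κ(p) ⊗ S) has local dimension n at Q (the relative dimension of S over R
at q is n), then some S_g with g ∉ q admits an R-algebra map from the polynomial ring R[t_1, …, t_n]
which is of finite type and quasi-finite. -/
theorem result (R S : Type u) [CommRing R] [CommRing S]
    [Algebra R S] [Algebra.FiniteType R S] (p : Ideal R) [p.IsPrime] (q : Ideal S) [q.IsPrime] [q.LiesOver p]
    (Q : PrimeSpectrum (p.Fiber S))
    (hQ : Q.asIdeal.comap (Algebra.TensorProduct.includeRight.toRingHom) = q) (n : ℕ)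
    (hdim : FlatMor.localDim (PrimeSpectrum (p.Fiber S)) Q = (n : WithBot ℕ∞)) :
    ∃ g : S, g ∉ q ∧ ∃ φ : MvPolynomial (Fin n) R →ₐ[R] Localization.Away g,
      φ.toRingHom.FiniteType ∧ φ.toRingHom.QuasiFinite := by
  open TensorProduct TopologicalSpace Groth.Agent.Helper14.Chevalley in
  have h : FlatMor.localDim (PrimeSpectrum (p.Fiber S)) Q ≤ n := le_of_eq hdim
  obtain ⟨y, hyQ, hy⟩ := exists_basicOpen_dim_le _ Q n h
  obtain ⟨r, hr, h₀, hrh⟩ := Ideal.Fiber.exists_smul_eq_one_tmul p y
  have hunit : IsUnit (algebraMap R (p.Fiber S) r) := by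
    rw [IsScalarTower.algebraMap_apply R p.ResidueField (p.Fiber S)]
    refine (IsUnit.mk0 _ ?_).map _
    intro h0
    exact hr (Ideal.algebraMap_residueField_eq_zero.mp h0)
  have hbo : PrimeSpectrum.basicOpen ((1 : p.ResidueField) ⊗ₜ[R] h₀) =
      PrimeSpectrum.basicOpen y := by
    rw [← hrh, Algebra.smul_def]
    ext Q'
    simp only [PrimeSpectrum.mem_basicOpen, SetLike.mem_coe]
    rw [Ideal.unit_mul_mem_iff_mem _ hunit]
  rw [← hbo] at hy
  have hh₀Q : ((1 : p.ResidueField) ⊗ₜ[R] h₀) ∉ Q.asIdeal := by
    have : Q ∈ PrimeSpectrum.basicOpen ((1 : p.ResidueField) ⊗ₜ[R] h₀) := by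
      rw [hbo]; exact hyQ
    exact this
  let B' := Localization.Away h₀
  haveI : Algebra.FiniteType R B' :=
    Algebra.FiniteType.trans (inferInstance : Algebra.FiniteType R S)
      (IsLocalization.finiteType_of_monoid_fg (Submonoid.powers h₀) _)
  have hdim' : ringKrullDim (p.Fiber B') ≤ n := by
    rw [← dim_basicOpen_fiber R S B' h₀ p]
    exact hy
  have hh₀q : h₀ ∉ q := by
    rw [← hQ]; exact hh₀Q
  have hqp : q.comap (algebraMap R S) = p := (Ideal.LiesOver.over (p := p) (P := q)).symm
  have hdisj : Disjoint (Submonoid.powers h₀ : Set S) (q : Set S) := by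
    rwa [Ideal.disjoint_powers_iff_notMem_of_isPrime]
  let q' : Ideal B' := q.map (algebraMap S B')
  haveI : q'.IsPrime := IsLocalization.isPrime_of_isPrime_disjoint (.powers h₀) _ _ ‹_› hdisj
  have hq'q : q'.comap (algebraMap S B') = q :=
    IsLocalization.comap_map_of_isPrime_disjoint (.powers h₀) _ ‹_› hdisj
  have hq' : q'.comap (algebraMap R B') = p := by
    rw [IsScalarTower.algebraMap_eq R S B', ← Ideal.comap_comap, hq'q, hqp]
  obtain ⟨g', hg', Φ, hft, hqf⟩ := core' R B' p q' hq' n hdim'
  let b : S := (IsLocalization.Away.sec h₀ g').1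
  have hassoc := IsLocalization.Away.associated_sec_fst h₀ g'
  haveI : IsLocalization.Away (h₀ * b) (Localization.Away g') :=
    .mul_of_associated _ _ g' hassoc
  have hb : b ∉ q := by
    intro hmem
    apply hg'
    rw [Ideal.mem_iff_of_associated hassoc.symm]
    exact Ideal.mem_map_of_mem (algebraMap S B') hmem
  have hmul : h₀ * b ∉ q := Ideal.IsPrime.mul_notMem ‹_› hh₀q hb
  let e : Localization.Away g' ≃ₐ[S] Localization.Away (h₀ * b) :=
    IsLocalization.algEquiv (Submonoid.powers (h₀ * b)) _ _
  let φ : MvPolynomial (Fin n) R →ₐ[R] Localization.Away (h₀ * b) :=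
    (e.toAlgHom.restrictScalars R).comp
      ((IsScalarTower.toAlgHom R B' (Localization.Away g')).comp Φ)
  have hφ : φ.toRingHom = (e : Localization.Away g' →+* Localization.Away (h₀ * b)).comp
      ((algebraMap B' (Localization.Away g')).comp Φ.toRingHom) := rfl
  refine ⟨h₀ * b, hmul, φ, ?_, ?_⟩
  · rw [hφ]
    exact RingHom.FiniteType.comp (RingHom.FiniteType.of_surjective _ e.surjective) hft
  · rw [hφ]
    exact RingHom.QuasiFinite.comp
      (RingHom.QuasiFinite.of_finite (RingHom.Finite.of_surjective _ e.surjective)) hqf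

end Groth.Agent.S9175
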