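import Groth.Statements.S9177
import Mathlib
import Groth.Agent.Lib.Helper29.ColimHom

set_option autoImplicit false
universe u
open CAlg

namespace Groth.Agent.S9177

open TensorProduct in
/-- Let R = colim R_i be a directed colimit of A-algebras (compatible transition maps), B and C
A-algebras. (1) If B is of finite type over A, two A-algebra maps B → C whose base changes to R
coincide already have equal base changes to some R_i. (2) If C is of finite type over A and u : B →
C has surjective base change to R, then its base change to some R_i is surjective. (The A-algebra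
structure on R is through any stage R_l; it does not depend on l.) -/
theorem result {ι : Type u} [Preorder ι]
    [Nonempty ι] [IsDirectedOrder ι] (G : ι → Type u) [∀ i, CommRing (G i)]
    (f : ∀ i j, i ≤ j → G i →+* G j) [DirectedSystem G (fun i j h => f i j h)]
    (A : Type u) [CommRing A] [∀ i, Algebra A (G i)]
    (hf : ∀ i j (h : i ≤ j), (f i j h).comp (algebraMap A (G i)) = algebraMap A (G j)) (l : ι)
    (B C : Type u) [CommRing B] [CommRing C] [Algebra A B] [Algebra A C] :
    letI : Algebra A (Ring.DirectLimit G (fun i j h => f i j h)) :=
      ((Ring.DirectLimit.of G (fun i j h => f i j h) l).comp (algebraMap A (G l))).toAlgebra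
    (Algebra.FiniteType A B → ∀ u u' : B →ₐ[A] C,
        Algebra.TensorProduct.map (AlgHom.id A (Ring.DirectLimit G (fun i j h => f i j h))) u =
            Algebra.TensorProduct.map (AlgHom.id A (Ring.DirectLimit G (fun i j h => f i j h))) u' →
          ∃ i : ι, Algebra.TensorProduct.map (AlgHom.id A (G i)) u =
            Algebra.TensorProduct.map (AlgHom.id A (G i)) u') ∧
      (Algebra.FiniteType A C → ∀ u : B →ₐ[A] C,
        Function.Surjective
            (Algebra.TensorProduct.map (AlgHom.id A (Ring.DirectLimit G (fun i j h => f i j h))) u) →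
          ∃ i : ι, Function.Surjective (Algebra.TensorProduct.map (AlgHom.id A (G i)) u)) := by
  let algDL : Algebra A (Ring.DirectLimit G (fun i j h => f i j h)) :=
    ((Ring.DirectLimit.of G (fun i j h => f i j h) l).comp (algebraMap A (G l))).toAlgebra
  -- the transition maps and cocone maps as `A`-algebra homomorphisms
  let fA : ∀ i j, i ≤ j → (G i →ₐ[A] G j) := fun i j h =>
    { f i j h with commutes' := fun a => congrArg (fun φ => φ a) (hf i j h) }
  have hcomm : ∀ i (a : A), Ring.DirectLimit.of G (fun i j h => f i j h) i (algebraMap A (G i) a) =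
      algebraMap A (Ring.DirectLimit G (fun i j h => f i j h)) a := by
    intro i a
    obtain ⟨k, hik, hlk⟩ := exists_ge_ge i l
    have h1 : f i k hik (algebraMap A (G i) a) = algebraMap A (G k) a :=
      congrArg (fun φ => φ a) (hf i k hik)
    have h2 : f l k hlk (algebraMap A (G l) a) = algebraMap A (G k) a :=
      congrArg (fun φ => φ a) (hf l k hlk)
    calc Ring.DirectLimit.of G (fun i j h => f i j h) i (algebraMap A (G i) a)
        = Ring.DirectLimit.of G (fun i j h => f i j h) k (f i k hik (algebraMap A (G i) a)) :=
          (Ring.DirectLimit.of_f (G := G) (f := fun i j h => f i j h) hik _).symm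
      _ = Ring.DirectLimit.of G (fun i j h => f i j h) k (f l k hlk (algebraMap A (G l) a)) := by
          rw [h1, h2]
      _ = Ring.DirectLimit.of G (fun i j h => f i j h) l (algebraMap A (G l) a) :=
          Ring.DirectLimit.of_f (G := G) (f := fun i j h => f i j h) hlk _
      _ = algebraMap A (Ring.DirectLimit G (fun i j h => f i j h)) a := rfl
  let gA : ∀ i, G i →ₐ[A] Ring.DirectLimit G (fun i j h => f i j h) := fun i =>
    { Ring.DirectLimit.of G (fun i j h => f i j h) i with commutes' := hcomm i }
  have hg : ∀ i j (h : i ≤ j), (gA j).comp (fA i j h) = gA i := by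
    intro i j h
    ext x
    exact Ring.DirectLimit.of_f (G := G) (f := fun i j h => f i j h) h x
  have hsurj : ∀ a : Ring.DirectLimit G (fun i j h => f i j h), ∃ i, ∃ x : G i, gA i x = a :=
    fun a => Ring.DirectLimit.exists_of a
  have hker : ∀ i (x : G i), gA i x = 0 → ∃ j, ∃ h : i ≤ j, fA i j h x = 0 :=
    fun i x hx => Ring.DirectLimit.of.zero_exact hx
  refine ⟨fun hB u u' h => ?_, fun hC u h => ?_⟩
  · exact Groth.Agent.Helper29.ColimHom.eq_descends fA hg hsurj hker B C u u' h
  · exact Groth.Agent.Helper29.ColimHom.surj_descends fA hg hsurj hker B C u h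


end Groth.Agent.S9177
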