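import Groth.Statements.S9178
-- import your own Groth.Agent.* helpers here

set_option autoImplicit false
universe u
open CAlg

namespace Groth.Agent.S9178

/-- For ring maps A → B → C with A → C surjective, writing I = ker(A → C) and J = ker(B → C), the
sequence I/I² → J/J² → C ⊗_B Ω_{B/A} → 0 is exact. Stated: the image of I/I² in J/J² is exactly the
kernel of J/J² → C ⊗_B Ω_{B/A} (surjectivity of the latter map is the standard conormal sequence for
the surjection B → C). -/
theorem result (A B C : Type u) [CommRing A] [CommRing B]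
    [CommRing C] [Algebra A B] [Algebra B C] [Algebra A C] [IsScalarTower A B C]
    (hAC : Function.Surjective (algebraMap A C))
    (h : RingHom.ker (algebraMap A C) ≤ (RingHom.ker (algebraMap B C)).comap (Algebra.ofId A B)) :
    Function.Exact
      (Ideal.mapCotangent (RingHom.ker (algebraMap A C)) (RingHom.ker (algebraMap B C)) (Algebra.ofId A B) h)
      (KaehlerDifferential.kerCotangentToTensor A B C) := by
  classical
  set I := RingHom.ker (algebraMap A C) with hI
  set J := RingHom.ker (algebraMap B C) with hJ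
  -- every b differs from some a by an element of J
  have hBC : ∀ b : B, ∃ a : A, b - algebraMap A B a ∈ J := by
    intro b
    obtain ⟨a, ha⟩ := hAC (algebraMap B C b)
    refine ⟨a, ?_⟩
    rw [hJ, RingHom.mem_ker, map_sub, ← IsScalarTower.algebraMap_apply, ha, sub_self]
  -- the range as a B-submodule
  let Q : Submodule B J.Cotangent :=
    { carrier := Set.range (Ideal.mapCotangent I J (Algebra.ofId A B) h)
      add_mem' := by
        rintro _ _ ⟨x, rfl⟩ ⟨y, rfl⟩
        exact ⟨x + y, map_add _ _ _⟩
      zero_mem' := ⟨0, map_zero _⟩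
      smul_mem' := by
        rintro b _ ⟨x, rfl⟩
        obtain ⟨a, ha⟩ := hBC b
        refine ⟨a • x, ?_⟩
        rw [map_smul]
        have : b = algebraMap A B a + (b - algebraMap A B a) := by ring
        conv_rhs => rw [this, add_smul, Ideal.Cotangent.smul_eq_zero_of_mem ha, add_zero,
          algebraMap_smul] }
  have hQ : ∀ y : J.Cotangent, y ∈ Q ↔ y ∈ Set.range (Ideal.mapCotangent I J (Algebra.ofId A B) h) :=
    fun y => Iff.rfl
  let π : J.Cotangent →ₗ[B] (J.Cotangent ⧸ Q) := Q.mkQ
  -- candidate values of the derivation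
  have hindep : ∀ (b : B) (a a' : A) (ha : b - algebraMap A B a ∈ J) (ha' : b - algebraMap A B a' ∈ J),
      π (J.toCotangent ⟨b - algebraMap A B a, ha⟩) = π (J.toCotangent ⟨b - algebraMap A B a', ha'⟩) := by
    intro b a a' ha ha'
    rw [← sub_eq_zero, ← map_sub, ← map_sub]
    show Q.mkQ _ = 0
    rw [Submodule.mkQ_apply, Submodule.Quotient.mk_eq_zero, hQ]
    have hmem : a' - a ∈ I := by
      have h1 : algebraMap A B (a' - a) ∈ J := by
        have : algebraMap A B (a' - a) = (b - algebraMap A B a) - (b - algebraMap A B a') := by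
          rw [map_sub]; ring
        rw [this]; exact J.sub_mem ha ha'
      rw [hJ, RingHom.mem_ker, ← IsScalarTower.algebraMap_apply] at h1
      exact h1
    refine ⟨I.toCotangent ⟨a' - a, hmem⟩, ?_⟩
    rw [Ideal.mapCotangent_toCotangent]
    congr 1
    ext
    simp only [AddSubgroupClass.coe_sub]
    show algebraMap A B (a' - a) = _
    rw [map_sub]; ring
  have hBC' := hBC
  choose ch hch using hBC'
  let δ0 : B → (J.Cotangent ⧸ Q) := fun b => π (J.toCotangent ⟨b - algebraMap A B (ch b), hch b⟩)
  have hδ : ∀ (b : B) (a : A) (ha : b - algebraMap A B a ∈ J),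
      δ0 b = π (J.toCotangent ⟨b - algebraMap A B a, ha⟩) := fun b a ha => hindep b _ _ _ _
  have hδ_add : ∀ b b' : B, δ0 (b + b') = δ0 b + δ0 b' := by
    intro b b'
    have hmem : b + b' - algebraMap A B (ch b + ch b') ∈ J := by
      have : b + b' - algebraMap A B (ch b + ch b') = (b - algebraMap A B (ch b)) + (b' - algebraMap A B (ch b')) := by
        rw [map_add]; ring
      rw [this]; exact J.add_mem (hch b) (hch b')
    rw [hδ (b + b') (ch b + ch b') hmem]
    show _ = π _ + π _
    rw [← map_add, ← map_add]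
    congr 2
    ext
    simp only [Submodule.coe_add]
    rw [map_add]; ring
  have hδ_smul : ∀ (r : A) (b : B), δ0 (r • b) = r • δ0 b := by
    intro r b
    have hmem : r • b - algebraMap A B (r * ch b) ∈ J := by
      have : r • b - algebraMap A B (r * ch b) = algebraMap A B r * (b - algebraMap A B (ch b)) := by
        rw [map_mul, Algebra.smul_def]; ring
      rw [this]; exact J.mul_mem_left _ (hch b)
    rw [hδ (r • b) (r * ch b) hmem]
    show _ = r • π _
    rw [← algebraMap_smul B r (π _), ← map_smul, ← map_smul]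
    congr 2
    ext
    simp only [SetLike.val_smul, smul_eq_mul]
    rw [map_mul, Algebra.smul_def]; ring
  let δl : B →ₗ[A] (J.Cotangent ⧸ Q) :=
    { toFun := δ0, map_add' := hδ_add, map_smul' := fun r b => hδ_smul r b }
  have hδ_mul : ∀ b b' : B, δl (b * b') = b • δl b' + b' • δl b := by
    intro b b'
    show δ0 (b * b') = b • δ0 b' + b' • δ0 b
    have hmem : b * b' - algebraMap A B (ch b * ch b') ∈ J := by
      have : b * b' - algebraMap A B (ch b * ch b') =
          b * (b' - algebraMap A B (ch b')) + algebraMap A B (ch b') * (b - algebraMap A B (ch b)) := by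
        rw [map_mul]; ring
      rw [this]; exact J.add_mem (J.mul_mem_left _ (hch b')) (J.mul_mem_left _ (hch b))
    rw [hδ (b * b') (ch b * ch b') hmem]
    show _ = b • π (J.toCotangent ⟨b' - algebraMap A B (ch b'), hch b'⟩) +
      b' • π (J.toCotangent ⟨b - algebraMap A B (ch b), hch b⟩)
    have h2 : (b' - algebraMap A B (ch b')) • J.toCotangent ⟨b - algebraMap A B (ch b), hch b⟩ = 0 :=
      Ideal.Cotangent.smul_eq_zero_of_mem (hch b') _
    have h3 : (⟨b * b' - algebraMap A B (ch b * ch b'), hmem⟩ : J) =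
        (b • (⟨b' - algebraMap A B (ch b'), hch b'⟩ : J) + b' • (⟨b - algebraMap A B (ch b), hch b⟩ : J)) -
        ((b' - algebraMap A B (ch b')) • (⟨b - algebraMap A B (ch b), hch b⟩ : J)) := by
      ext
      simp only [AddSubgroupClass.coe_sub, Submodule.coe_add, SetLike.val_smul, smul_eq_mul]
      rw [map_mul]; ring
    rw [h3, map_sub J.toCotangent, map_smul J.toCotangent (b' - algebraMap A B (ch b')), h2, sub_zero]
    simp only [map_add, map_smul]
  let δ : Derivation A B (J.Cotangent ⧸ Q) := Derivation.mk' δl hδ_mul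
  let L : Ω[B⁄A] →ₗ[B] (J.Cotangent ⧸ Q) := δ.liftKaehlerDifferential
  have hL : ∀ b : B, L (KaehlerDifferential.D A B b) = δ0 b := fun b =>
    δ.liftKaehlerDifferential_comp_D b
  -- J kills the quotient
  have hkill : ∀ (b : B), b ∈ J → ∀ n : (J.Cotangent ⧸ Q), b • n = 0 := by
    intro b hb n
    obtain ⟨y, rfl⟩ := Q.mkQ_surjective n
    rw [← map_smul, Ideal.Cotangent.smul_eq_zero_of_mem hb, map_zero]
  -- the map C → Hom(Ω, N)
  let κ : B →ₗ[B] C := Algebra.linearMap B C
  have hκ : Function.Surjective κ := by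
    intro c
    obtain ⟨a, rfl⟩ := hAC c
    exact ⟨algebraMap A B a, (IsScalarTower.algebraMap_apply A B C a).symm⟩
  let e : (B ⧸ LinearMap.ker κ) ≃ₗ[B] C := κ.quotKerEquivOfSurjective hκ
  let g : B →ₗ[B] (Ω[B⁄A] →ₗ[B] (J.Cotangent ⧸ Q)) := LinearMap.toSpanSingleton B _ L
  have hgker : LinearMap.ker κ ≤ LinearMap.ker g := by
    intro b hb
    have hbJ : b ∈ J := by
      rw [hJ, RingHom.mem_ker]
      exact hb
    rw [LinearMap.mem_ker]
    ext ω
    show (b • L) (KaehlerDifferential.D A B ω) = 0
    rw [LinearMap.smul_apply]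
    exact hkill b hbJ _
  let f : C →ₗ[B] (Ω[B⁄A] →ₗ[B] (J.Cotangent ⧸ Q)) :=
    (Submodule.liftQ (LinearMap.ker κ) g hgker) ∘ₗ e.symm.toLinearMap
  have hf1 : f 1 = L := by
    have h1 : e.symm 1 = Submodule.Quotient.mk 1 := by
      rw [LinearEquiv.symm_apply_eq]
      show (1 : C) = κ 1
      exact (map_one (algebraMap B C)).symm
    show (Submodule.liftQ (LinearMap.ker κ) g hgker) (e.symm 1) = L
    rw [h1, Submodule.liftQ_apply]
    show (1 : B) • L = L
    rw [one_smul]
  let T : TensorProduct B C Ω[B⁄A] →ₗ[B] (J.Cotangent ⧸ Q) := TensorProduct.lift f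
  have hT : ∀ x : J, T (KaehlerDifferential.kerCotangentToTensor A B C (J.toCotangent x)) = π (J.toCotangent x) := by
    intro x
    rw [KaehlerDifferential.kerCotangentToTensor_toCotangent]
    show TensorProduct.lift f _ = _
    rw [TensorProduct.lift.tmul, hf1, hL]
    have hx0 : (x : B) - algebraMap A B 0 ∈ J := by rw [map_zero, sub_zero]; exact x.2
    rw [hδ x.1 0 hx0]
    congr 2
    ext
    simp
  intro y
  obtain ⟨x, rfl⟩ := Ideal.toCotangent_surjective _ y
  constructor
  · intro hy
    have := hT x
    rw [hy, map_zero] at this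
    have h4 : J.toCotangent x ∈ Q := by
      rw [← Submodule.Quotient.mk_eq_zero]
      exact this.symm
    exact (hQ _).1 h4
  · rintro ⟨z, hz⟩
    obtain ⟨i, rfl⟩ := Ideal.toCotangent_surjective _ z
    rw [← hz, Ideal.mapCotangent_toCotangent, KaehlerDifferential.kerCotangentToTensor_toCotangent]
    show (1 : C) ⊗ₜ[B] (KaehlerDifferential.D A B (algebraMap A B i)) = 0
    rw [Derivation.map_algebraMap, TensorProduct.tmul_zero]

end Groth.Agent.S9178
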