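import Groth.Statements.S9180
import Mathlib
import Groth.Agent.Lib.Helper14.FibLocDim
import Groth.Agent.Lib.Helper14.FieldBCDim
-- import your own Groth.Agent.* helpers here

set_option autoImplicit false
universe u
open CAlg

namespace Groth.Agent.S9180

open TensorProduct in
/-- Let S be of finite type over a field k, K an extension field of k, S_K = S ⊗_k K, q a prime of S
whose residue field has transcendence degree r over k, and q_K a prime of S_K lying over q whose
residue field has transcendence degree r_K over K. Then the local ring at q_K of the fibre of S →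
S_K over q has dimension dim (S_K)_{q_K} − dim S_q = r − r_K (stated additively), and there is a
prime of S_K over q for which this dimension is zero. -/
theorem result (k S K : Type u) [Field k] [CommRing S] [Algebra k S]
    [Algebra.FiniteType k S] [Field K] [Algebra k K] (q : Ideal S) [q.IsPrime] (r : ℕ)
    (hr : Algebra.trdeg k q.ResidueField = r) (qK : Ideal (S ⊗[k] K)) [qK.IsPrime] [qK.LiesOver q]
    (rK : ℕ)
    (hrK : letI : Algebra K (S ⊗[k] K) := Algebra.TensorProduct.rightAlgebra
      Algebra.trdeg K qK.ResidueField = rK) :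
    ringKrullDim (EGA4.FibLocRing S (S ⊗[k] K) qK) + ringKrullDim (Localization.AtPrime q) =
        ringKrullDim (Localization.AtPrime qK) ∧
      ringKrullDim (EGA4.FibLocRing S (S ⊗[k] K) qK) + (rK : WithBot ℕ∞) = (r : WithBot ℕ∞) ∧
      ∃ (q' : Ideal (S ⊗[k] K)) (_ : q'.IsPrime), q'.LiesOver q ∧
        ringKrullDim (EGA4.FibLocRing S (S ⊗[k] K) q') = 0 := by
  classical
  letI algK : Algebra K (S ⊗[k] K) := Algebra.TensorProduct.rightAlgebra
  haveI : Algebra.FiniteType K (S ⊗[k] K) := Groth.Agent.Helper14.FieldBC.finiteType_right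
  haveI : IsNoetherianRing S := Algebra.FiniteType.isNoetherianRing k S
  haveI : IsNoetherianRing (S ⊗[k] K) := Algebra.FiniteType.isNoetherianRing K _
  have hq : q = qK.under S := Ideal.LiesOver.over
  -- part 1
  have p1 : ringKrullDim (EGA4.FibLocRing S (S ⊗[k] K) qK) + ringKrullDim (Localization.AtPrime q) =
      ringKrullDim (Localization.AtPrime qK) := by
    subst hq
    exact Groth.Agent.Helper14.FibLocDim.ringKrullDim_fibLocRing_add (A := S) (B := S ⊗[k] K) qK
  -- part 2
  have hr' : Algebra.trdeg k (S ⧸ q) = r := by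
    rw [← Groth.Agent.Helper14.LocalDimSpec.trdeg_residueField k S q]; exact hr
  have hrK' : Algebra.trdeg K ((S ⊗[k] K) ⧸ qK) = rK := by
    rw [← Groth.Agent.Helper14.LocalDimSpec.trdeg_residueField K (S ⊗[k] K) qK]; exact hrK
  have hform := Groth.Agent.Helper14.FieldBC.height_add_trdeg_eq q qK r rK hr' hrK'
  have hdq : ringKrullDim (Localization.AtPrime q) = ((q.height : ℕ∞) : WithBot ℕ∞) :=
    IsLocalization.AtPrime.ringKrullDim_eq_height q (Localization.AtPrime q)
  have hdqK : ringKrullDim (Localization.AtPrime qK) = ((qK.height : ℕ∞) : WithBot ℕ∞) :=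
    IsLocalization.AtPrime.ringKrullDim_eq_height qK (Localization.AtPrime qK)
  obtain ⟨a, ha⟩ : ∃ a : ℕ, q.height = (a : ℕ∞) := ENat.ne_top_iff_exists.mp (Ideal.height_ne_top (Ideal.IsPrime.ne_top inferInstance)) |>.imp (fun _ h => h.symm)
  obtain ⟨b, hb⟩ : ∃ b : ℕ, qK.height = (b : ℕ∞) := ENat.ne_top_iff_exists.mp (Ideal.height_ne_top (Ideal.IsPrime.ne_top inferInstance)) |>.imp (fun _ h => h.symm)
  rw [ha, hb] at hform
  rw [hdq, hdqK, ha, hb] at p1
  have p2 := Groth.Agent.Helper14.FibLocDim.arith _ a b r rK p1 hform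
  refine ⟨by rw [hdq, hdqK, ha, hb]; exact p1, p2, ?_⟩
  -- part 3
  have hle : q.map (algebraMap S (S ⊗[k] K)) ≤ qK := by
    rw [Ideal.map_le_iff_le_comap, hq]
  obtain ⟨q', hq'min, hq'le⟩ := Ideal.exists_minimalPrimes_le hle
  haveI hq'p : q'.IsPrime := hq'min.1.1
  have hover : q'.LiesOver q := by
    constructor
    apply le_antisymm
    · exact Ideal.map_le_iff_le_comap.mp hq'min.1.2
    · rw [hq]
      exact Ideal.comap_mono hq'le
  refine ⟨q', hq'p, hover, ?_⟩
  have h0 := Groth.Agent.Helper14.FibLocDim.ringKrullDim_quotient_localization_eq_zero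
    (q.map (algebraMap S (S ⊗[k] K))) q' hq'min
  have hI : (q.map (algebraMap S (S ⊗[k] K))).map (algebraMap (S ⊗[k] K) (Localization.AtPrime q')) =
      (q'.comap (algebraMap S (S ⊗[k] K))).map (algebraMap S (Localization.AtPrime q')) := by
    rw [Ideal.map_map, ← IsScalarTower.algebraMap_eq]
    congr 1
    exact hover.over
  rw [← h0]
  exact (ringKrullDim_eq_of_ringEquiv (Ideal.quotEquivOfEq hI)).symm

end Groth.Agent.S9180
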