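import Groth.Statements.S9184
import Groth.Agent.Lib.Helper7.FibExact

set_option autoImplicit false
universe u
open CAlg

namespace Groth.Agent.S9184

/-- Let R be Noetherian, R → S flat of finite type whose fibre rings are Cohen–Macaulay and
equidimensional of dimension d, and let 0 → S^{n_e} → ⋯ → S^{n_1} → S^{n_0} be a complex of finite
free S-modules, the map S^{n_{i+1}} → S^{n_i} being given by the matrix φ_i. Then the set of primes
q of S such that the complex is exact (exact at each S^{n_i} with 0 < i < e and injective at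
S^{n_e}) after base change to the fibre local ring S_q/pS_q, p = q ∩ R, is open in Spec S. (The
published statement asks only that the fibres be Cohen–Macaulay of dimension d; this row assumes
them equidimensional of dimension d, the hypothesis the printed argument uses.) -/
theorem result (R S : Type u) [CommRing R] [IsNoetherianRing R] [CommRing S]
    [Algebra R S] [Algebra.FiniteType R S] [Module.Flat R S] (d : ℕ)
    (hCM : ∀ p : PrimeSpectrum R, LocCoh.IsCohenMacaulayRing (p.asIdeal.Fiber S))
    (heq : ∀ p : PrimeSpectrum R, ∀ P ∈ minimalPrimes (p.asIdeal.Fiber S),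
      ringKrullDim (p.asIdeal.Fiber S ⧸ P) = (d : WithBot ℕ∞))
    (e : ℕ) (n : ℕ → ℕ) (φ : (i : ℕ) → Matrix (Fin (n i)) (Fin (n (i + 1))) S)
    (hφ : ∀ i, i + 2 ≤ e → φ i * φ (i + 1) = 0) :
    IsOpen {q : PrimeSpectrum S |
      (∀ i, i + 2 ≤ e →
        LinearMap.ker (Matrix.mulVecLin ((φ i).map (algebraMap S (EGA4.FibLocRing R S q.asIdeal)))) =
          LinearMap.range (Matrix.mulVecLin ((φ (i + 1)).map (algebraMap S (EGA4.FibLocRing R S q.asIdeal))))) ∧
      (1 ≤ e → Function.Injective
        (Matrix.mulVecLin ((φ (e - 1)).map (algebraMap S (EGA4.FibLocRing R S q.asIdeal)))))} := by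
  classical
  have hJ : ∀ i, i + 2 ≤ e → LinearMap.range (Matrix.mulVecLin (φ (i + 1))) ≤
      LinearMap.ker (Matrix.mulVecLin (φ i)) := by
    rintro i hi _ ⟨v, rfl⟩
    rw [LinearMap.mem_ker, ← LinearMap.comp_apply, ← Matrix.mulVecLin_mul, hφ i hi]
    simp
  let V : ℕ → Set (PrimeSpectrum S) := fun i =>
    if h : i + 2 ≤ e then
      Groth.Agent.Helper7.FibExact.U R S (φ i) (LinearMap.range (Matrix.mulVecLin (φ (i + 1)))) (hJ i h)
    else Groth.Agent.Helper7.FibExact.U R S (φ i) ⊥ bot_le
  have hV : ∀ i, IsOpen (V i) := by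
    intro i
    by_cases h : i + 2 ≤ e
    · simp only [V, dif_pos h]
      exact Groth.Agent.Helper7.FibExact.isOpen_U R S _ _ _
    · simp only [V, dif_neg h]
      exact Groth.Agent.Helper7.FibExact.isOpen_U R S _ _ _
  have hset : {q : PrimeSpectrum S |
      (∀ i, i + 2 ≤ e →
        LinearMap.ker (Matrix.mulVecLin ((φ i).map (algebraMap S (EGA4.FibLocRing R S q.asIdeal)))) =
          LinearMap.range (Matrix.mulVecLin ((φ (i + 1)).map (algebraMap S (EGA4.FibLocRing R S q.asIdeal))))) ∧
      (1 ≤ e → Function.Injective
        (Matrix.mulVecLin ((φ (e - 1)).map (algebraMap S (EGA4.FibLocRing R S q.asIdeal)))))} =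
      ⋂ i ∈ Finset.range e, V i := by
    ext q
    simp only [Set.mem_ofPred_eq, Set.mem_iInter, Finset.mem_range]
    constructor
    · rintro ⟨h1, h2⟩ i hi
      by_cases h : i + 2 ≤ e
      · simp only [V, dif_pos h]
        rw [Groth.Agent.Helper7.FibExact.mem_U_iff, Groth.Agent.Helper7.FibExact.span_image_range]
        exact h1 i h
      · simp only [V, dif_neg h]
        rw [Groth.Agent.Helper7.FibExact.mem_U_iff, Groth.Agent.Helper7.FibExact.span_image_bot]
        obtain rfl : i = e - 1 := by omega
        exact LinearMap.ker_eq_bot.mpr (h2 (by omega))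
    · intro hq
      refine ⟨fun i hi => ?_, fun he => ?_⟩
      · have := hq i (by omega)
        simp only [V, dif_pos hi] at this
        rw [Groth.Agent.Helper7.FibExact.mem_U_iff,
          Groth.Agent.Helper7.FibExact.span_image_range] at this
        exact this
      · have := hq (e - 1) (by omega)
        have hne : ¬ (e - 1 + 2 ≤ e) := by omega
        simp only [V, dif_neg hne] at this
        rw [Groth.Agent.Helper7.FibExact.mem_U_iff,
          Groth.Agent.Helper7.FibExact.span_image_bot] at this
        exact LinearMap.ker_eq_bot.mp this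
  rw [hset]
  exact isOpen_biInter_finset fun i _ => hV i

end Groth.Agent.S9184
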