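import Groth.Statements.S9185
import Mathlib
-- import your own Groth.Agent.* helpers here

set_option autoImplicit false
universe u
open Diff16

namespace Groth.Agent.S9185

section
open Diff16 TensorProduct

variable {A B : Type u} [CommRing A] [CommRing B] [Algebra A B]
variable {M N N' : Type u} [AddCommGroup M] [Module A M] [Module B M] [IsScalarTower A B M]
  [AddCommGroup N] [Module A N] [Module B N] [IsScalarTower A B N]
  [AddCommGroup N'] [Module A N'] [Module B N'] [IsScalarTower A B N']

lemma commutator_apply (D : M →ₗ[A] N) (b : B) (m : M) :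
    commutator A B M N D b m = D (b • m) - b • D m := rfl

lemma commutator_comp (α : N →ₗ[B] N') (D : M →ₗ[A] N) (b : B) :
    commutator A B M N' (α.restrictScalars A ∘ₗ D) b =
      α.restrictScalars A ∘ₗ commutator A B M N D b := by
  ext m
  simp [commutator_apply]

lemma comp_isDiffOpLE (α : N →ₗ[B] N') : ∀ (k : ℕ) (D : M →ₗ[A] N),
    IsDiffOpLE A B M N k D → IsDiffOpLE A B M N' k (α.restrictScalars A ∘ₗ D)
  | 0, D, h => fun b m => by
      have := h b m
      simp [this]
  | k+1, D, h => fun b => by
      rw [commutator_comp]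
      exact comp_isDiffOpLE α k _ (h b)

lemma of_comp_injective (α : N →ₗ[B] N') (hα : Function.Injective α) : ∀ (k : ℕ) (D : M →ₗ[A] N),
    IsDiffOpLE A B M N' k (α.restrictScalars A ∘ₗ D) → IsDiffOpLE A B M N k D
  | 0, D, h => fun b m => hα (by
      have := h b m
      simpa using this)
  | k+1, D, h => fun b => of_comp_injective α hα k _ (by
      rw [← commutator_comp]
      exact h b)

/-- the transition map between quotients -/
noncomputable def q {T : Type u} [AddCommGroup T] [Module B T] (K K' : Submodule B T) (h : K ≤ K') :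
    T ⧸ K →ₗ[B] T ⧸ K' :=
  Submodule.mapQ K K' LinearMap.id (by rwa [Submodule.comap_id])

lemma q_mk {T : Type u} [AddCommGroup T] [Module B T] (K K' : Submodule B T) (h : K ≤ K') (t : T) :
    q K K' h (Submodule.Quotient.mk t) = Submodule.Quotient.mk t := rfl

lemma isDiffOpLE_of_family {T : Type u} [AddCommGroup T] [Module A T] [Module B T]
    [IsScalarTower A B T] (𝒦 : Set (Submodule B T)) :
    ∀ (k : ℕ) (E : M →ₗ[A] T ⧸ sInf 𝒦),
      (∀ K' (h : K' ∈ 𝒦), IsDiffOpLE A B M (T ⧸ K') k
        ((q (sInf 𝒦) K' (sInf_le h)).restrictScalars A ∘ₗ E)) →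
      IsDiffOpLE A B M (T ⧸ sInf 𝒦) k E
  | 0, E, h => fun b m => by
      rw [← sub_eq_zero]
      obtain ⟨t, ht⟩ := Submodule.Quotient.mk_surjective _ (E (b • m) - b • E m)
      rw [← ht, Submodule.Quotient.mk_eq_zero, Submodule.mem_sInf]
      intro K' hK'
      have h1 := h K' hK' b m
      simp only [LinearMap.coe_comp, LinearMap.coe_restrictScalars, Function.comp_apply] at h1
      rw [← map_smul, ← sub_eq_zero, ← map_sub, ← ht, q_mk, Submodule.Quotient.mk_eq_zero] at h1
      exact h1
  | k+1, E, h => fun b => isDiffOpLE_of_family 𝒦 k _ (fun K' hK' => by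
      rw [← commutator_comp]
      exact h K' hK' b)

/-- the candidate operator `M → (B ⊗ M) ⧸ K` -/
noncomputable def DK (K : Submodule B (B ⊗[A] M)) : M →ₗ[A] (B ⊗[A] M) ⧸ K :=
  (K.mkQ.restrictScalars A) ∘ₗ (TensorProduct.mk A B M 1)

lemma DK_apply (K : Submodule B (B ⊗[A] M)) (m : M) :
    DK K m = Submodule.Quotient.mk ((1 : B) ⊗ₜ[A] m) := rfl

theorem main (R S : Type u) [CommRing R] [CommRing S] [Algebra R S] (M : Type u)
    [AddCommGroup M] [Module S M] [Module R M] [IsScalarTower R S M] (k : ℕ) :
    ∃ (P : Type u) (_ : AddCommGroup P) (_ : Module S P) (_ : Module R P) (_ : IsScalarTower R S P)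
      (D : M →ₗ[R] P), Diff16.IsDiffOpLE R S M P k D ∧
        ∀ (N : Type u) [AddCommGroup N] [Module S N] [Module R N] [IsScalarTower R S N] (D' : M →ₗ[R] N),
          Diff16.IsDiffOpLE R S M N k D' → ∃! α : P →ₗ[S] N, α.restrictScalars R ∘ₗ D = D' := by
  let 𝒦 : Set (Submodule S (S ⊗[R] M)) :=
    {K | IsDiffOpLE R S M ((S ⊗[R] M) ⧸ K) k (DK K)}
  refine ⟨(S ⊗[R] M) ⧸ sInf 𝒦, inferInstance, inferInstance, inferInstance, inferInstance,
    DK (sInf 𝒦), ?_, ?_⟩
  · apply isDiffOpLE_of_family 𝒦 k
    intro K' hK'
    exact hK'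
  · intro N _ _ _ _ D' hD'
    let L : S ⊗[R] M →ₗ[S] N := D'.liftBaseChange S
    have hL : ∀ m : M, L ((1 : S) ⊗ₜ[R] m) = D' m := by
      intro m
      simp [L]
    have hker : LinearMap.ker L ∈ 𝒦 := by
      let j : (S ⊗[R] M) ⧸ LinearMap.ker L →ₗ[S] N := (LinearMap.ker L).liftQ L le_rfl
      have hj : Function.Injective j := by
        rw [← LinearMap.ker_eq_bot]
        exact Submodule.ker_liftQ_eq_bot _ _ _ le_rfl
      apply of_comp_injective j hj k
      have : j.restrictScalars R ∘ₗ DK (LinearMap.ker L) = D' := by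
        ext m
        simp only [LinearMap.coe_comp, LinearMap.coe_restrictScalars, Function.comp_apply, DK_apply]
        exact hL m
      rw [this]
      exact hD'
    have hle : sInf 𝒦 ≤ LinearMap.ker L := sInf_le hker
    refine ⟨(sInf 𝒦).liftQ L hle, ?_, ?_⟩
    · ext m
      simp only [LinearMap.coe_comp, LinearMap.coe_restrictScalars, Function.comp_apply, DK_apply]
      exact hL m
    · intro α' hα'
      apply Submodule.linearMap_qext
      apply TensorProduct.AlgebraTensorModule.ext
      intro s m
      have h1 : s ⊗ₜ[R] m = s • ((1 : S) ⊗ₜ[R] m) := by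
        rw [TensorProduct.smul_tmul', smul_eq_mul, mul_one]
      simp only [LinearMap.coe_comp, Function.comp_apply, Submodule.mkQ_apply, Submodule.liftQ_apply]
      rw [h1, map_smul, hL]
      have h2 := LinearMap.congr_fun hα' m
      simp only [LinearMap.coe_comp, LinearMap.coe_restrictScalars, Function.comp_apply, DK_apply] at h2
      rw [Submodule.Quotient.mk_smul, map_smul, h2]

end

/-- For a ring map R → S, an S-module M and k ≥ 0 there is an S-module P together with a differential
operator D : M → P of order at most k (relative to R → S) such that every differential operator of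
order at most k from M to an S-module N is α ∘ D for a unique S-linear map α : P → N; that is,
differential operators of order ≤ k out of M are represented by P. (Target modules N are taken in
the same universe.) -/
theorem result (R S : Type u) [CommRing R] [CommRing S] [Algebra R S] (M : Type u)
    [AddCommGroup M] [Module S M] [Module R M] [IsScalarTower R S M] (k : ℕ) :
    ∃ (P : Type u) (_ : AddCommGroup P) (_ : Module S P) (_ : Module R P) (_ : IsScalarTower R S P)
      (D : M →ₗ[R] P), Diff16.IsDiffOpLE R S M P k D ∧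
        ∀ (N : Type u) [AddCommGroup N] [Module S N] [Module R N] [IsScalarTower R S N] (D' : M →ₗ[R] N),
          Diff16.IsDiffOpLE R S M N k D' → ∃! α : P →ₗ[S] N, α.restrictScalars R ∘ₗ D = D' := by
  exact Groth.Agent.S9185.main R S M k

end Groth.Agent.S9185
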