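import Groth.Statements.S9195
import Groth.Agent.S0402
import Groth.Agent.S9358
import Groth.Agent.Lib.Helper4.LimQF

set_option autoImplicit false
universe u
open CategoryTheory AlgebraicGeometry
open Lim

namespace Groth.Agent.S9195

/-- Let S = lim S_i be a cofiltered limit of schemes with affine transition morphisms, S_{i₀} a
quasi-compact quasi-separated stage, f₀ : X₀ → Y₀ a morphism of quasi-compact quasi-separated
schemes over S_{i₀}, and f : X → Y its base change along S → S_{i₀} (base changes expressed by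
pullback squares). Let d be a natural number. If f₀ is locally of finite type and f has relative
dimension at most d (every fibre of f has local dimension at most d at each of its points), then for
some index i over i₀ the base change f_i : X_i → Y_i of f₀ along S_i → S_{i₀} has relative dimension
at most d. -/
theorem result {I : Type u} [SmallCategory I] [IsCofiltered I]
    (D : I ⥤ Scheme.{u}) (c : Limits.Cone D) (hc : Limits.IsLimit c)
    [∀ (i j : I) (f : i ⟶ j), IsAffineHom (D.map f)] (i₀ : I) [CompactSpace (D.obj i₀)]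
    [QuasiSeparatedSpace (D.obj i₀)] {X₀ Y₀ : Scheme.{u}} (f₀ : X₀ ⟶ Y₀) (g₀ : Y₀ ⟶ D.obj i₀)
    [CompactSpace X₀] [QuasiSeparatedSpace X₀] [CompactSpace Y₀] [QuasiSeparatedSpace Y₀]
    [LocallyOfFiniteType f₀] (d : ℕ)
    {X Y : Scheme.{u}} (f : X ⟶ Y) (g : Y ⟶ c.pt) (qY : Y ⟶ Y₀) (qX : X ⟶ X₀)
    (hY : IsPullback qY g g₀ (c.π.app i₀)) (hX : IsPullback qX f f₀ qY) (hd : ∀ x : X, FlatMor.fibreDimAt f x ≤ d) :
    ∃ (i : I) (φ : i ⟶ i₀) (Xi Yi : Scheme.{u}) (fi : Xi ⟶ Yi) (gi : Yi ⟶ D.obj i) (pY : Yi ⟶ Y₀)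
      (pX : Xi ⟶ X₀), IsPullback pY gi g₀ (D.map φ) ∧ IsPullback pX fi f₀ pY ∧ ∀ x : Xi, FlatMor.fibreDimAt fi x ≤ d := by
  have hopen : IsOpen {x : X₀ | FlatMor.fibreDimAt f₀ x ≤ d} := Groth.Agent.S0402.result f₀ d
  let C₀ : Set X₀ := {x | FlatMor.fibreDimAt f₀ x ≤ d}ᶜ
  have hC₀ : IsClosed C₀ := hopen.isClosed_compl
  have hXY : IsPullback qX (f ≫ g) (f₀ ≫ g₀) (c.π.app i₀) := hX.paste_vert hY
  have h1 : qX ⁻¹' C₀ = ∅ := by
    rw [Set.eq_empty_iff_forall_notMem]
    intro x hx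
    apply hx
    change FlatMor.fibreDimAt f₀ (qX.base x) ≤ d
    rw [← (Groth.Agent.S9358.result f₀ qY qX f hX d).1 x]
    exact hd x
  have hqc : QuasiCompact (f₀ ≫ g₀) := quasiCompact_of_compactSpace _
  obtain ⟨j, φ, hj⟩ := Groth.Agent.Helper4.LimQF.exists_preimage_closed_eq_empty_stage D c hc i₀
    (f₀ ≫ g₀) hC₀ (f ≫ g) qX hXY h1
  refine ⟨j, φ, Limits.pullback f₀ (Limits.pullback.snd (D.map φ) g₀), Limits.pullback (D.map φ) g₀,
    Limits.pullback.snd f₀ _, Limits.pullback.fst (D.map φ) g₀, Limits.pullback.snd (D.map φ) g₀, Limits.pullback.fst f₀ _,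
    (IsPullback.of_hasPullback _ _).flip, IsPullback.of_hasPullback _ _, ?_⟩
  intro x
  rw [(Groth.Agent.S9358.result f₀ (Limits.pullback.snd (D.map φ) g₀) (Limits.pullback.fst f₀ _)
    (Limits.pullback.snd f₀ _) (IsPullback.of_hasPullback _ _) d).1 x]
  by_contra hx
  let m : Limits.pullback f₀ (Limits.pullback.snd (D.map φ) g₀) ⟶ Limits.pullback (D.map φ) (f₀ ≫ g₀) :=
    Limits.pullback.lift (Limits.pullback.snd f₀ _ ≫ Limits.pullback.fst (D.map φ) g₀) (Limits.pullback.fst f₀ _) (by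
      rw [Category.assoc, Limits.pullback.condition, ← Category.assoc, ← Limits.pullback.condition,
        Category.assoc])
  have hm : m ≫ Limits.pullback.snd (D.map φ) (f₀ ≫ g₀) = Limits.pullback.fst f₀ _ := Limits.pullback.lift_snd _ _ _
  have hmem : m x ∈ (Limits.pullback.snd (D.map φ) (f₀ ≫ g₀)) ⁻¹' C₀ := by
    change (Limits.pullback.snd (D.map φ) (f₀ ≫ g₀)) (m x) ∈ C₀
    rw [← Scheme.Hom.comp_apply, hm]
    exact hx
  rw [hj] at hmem
  exact hmem

end Groth.Agent.S9195
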