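import Groth.Statements.S9196
import Groth.Agent.S0402
import Groth.Agent.S9355
import Groth.Agent.S9358
import Groth.Agent.Lib.Helper4.LimStage
import Groth.Agent.Lib.Helper4.RelDimPts

set_option autoImplicit false
universe u
open CategoryTheory AlgebraicGeometry
open Lim

namespace Groth.Agent.S9196

/-- Let S = lim S_i be a cofiltered limit of schemes with affine transition morphisms, S_{i₀} a
quasi-compact quasi-separated stage, f₀ : X₀ → Y₀ a morphism of quasi-compact quasi-separated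
schemes over S_{i₀}, and f : X → Y its base change along S → S_{i₀} (base changes expressed by
pullback squares). Let d be a natural number. If f₀ is locally of finite presentation and f has
relative dimension d (every irreducible component of every fibre of f has dimension d), then for
some index i over i₀ the base change f_i : X_i → Y_i of f₀ along S_i → S_{i₀} has relative dimension
d. -/
theorem result {I : Type u} [SmallCategory I] [IsCofiltered I]
    (D : I ⥤ Scheme.{u}) (c : Limits.Cone D) (hc : Limits.IsLimit c)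
    [∀ (i j : I) (f : i ⟶ j), IsAffineHom (D.map f)] (i₀ : I) [CompactSpace (D.obj i₀)]
    [QuasiSeparatedSpace (D.obj i₀)] {X₀ Y₀ : Scheme.{u}} (f₀ : X₀ ⟶ Y₀) (g₀ : Y₀ ⟶ D.obj i₀)
    [CompactSpace X₀] [QuasiSeparatedSpace X₀] [CompactSpace Y₀] [QuasiSeparatedSpace Y₀]
    [LocallyOfFinitePresentation f₀] (d : ℕ)
    {X Y : Scheme.{u}} (f : X ⟶ Y) (g : Y ⟶ c.pt) (qY : Y ⟶ Y₀) (qX : X ⟶ X₀)
    (hY : IsPullback qY g g₀ (c.π.app i₀)) (hX : IsPullback qX f f₀ qY) (hd : Cyc.HasRelDim f d) :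
    ∃ (i : I) (φ : i ⟶ i₀) (Xi Yi : Scheme.{u}) (fi : Xi ⟶ Yi) (gi : Yi ⟶ D.obj i) (pY : Yi ⟶ Y₀)
      (pX : Xi ⟶ X₀), IsPullback pY gi g₀ (D.map φ) ∧ IsPullback pX fi f₀ pY ∧ Cyc.HasRelDim fi d := by
  have hopen : ∀ n : ℕ, IsOpen {x : X₀ | FlatMor.fibreDimAt f₀ x ≤ n} :=
    fun n => Groth.Agent.S0402.result f₀ n
  have hretro : ∀ n : ℕ, IsRetrocompact {x : X₀ | FlatMor.fibreDimAt f₀ x ≤ n} :=
    fun n => Groth.Agent.S9355.result f₀ n
  have hcons : ∀ n : ℕ, Topology.IsConstructible {x : X₀ | FlatMor.fibreDimAt f₀ x ≤ n} :=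
    fun n => (hretro n).isConstructible (hopen n)
  let C₀ : Set X₀ := {x | FlatMor.fibreDimAt f₀ x ≤ d}ᶜ ∪
    ⋃ n : Fin d, {x | FlatMor.fibreDimAt f₀ x ≤ ((n : ℕ) : WithBot ℕ∞)}
  have hC₀ : Topology.IsConstructible C₀ :=
    (hcons d).compl.union (Topology.IsConstructible.iUnion fun n => hcons n)
  have hlftf : LocallyOfFiniteType f :=
    Groth.Agent.Helper14.FibreDimBC.locallyOfFiniteType_of_isPullback hX
  have hXY : IsPullback qX (f ≫ g) (f₀ ≫ g₀) (c.π.app i₀) := hX.paste_vert hY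
  have h1 : qX ⁻¹' C₀ = ∅ := by
    rw [Set.eq_empty_iff_forall_notMem]
    intro x hx
    have e : FlatMor.fibreDimAt f₀ (qX.base x) = (d : WithBot ℕ∞) := by
      rw [← (Groth.Agent.S9358.result f₀ qY qX f hX d).1 x]
      exact Groth.Agent.Helper4.RelDimPts.fibreDimAt_eq_of_hasRelDim f d hd x
    rcases hx with hx | hx
    · exact hx (le_of_eq e)
    · obtain ⟨n, hn⟩ := Set.mem_iUnion.1 hx
      have h2 : (d : WithBot ℕ∞) ≤ ((n : ℕ) : WithBot ℕ∞) := by
        rw [← e]; exact hn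
      have h3 : d ≤ (n : ℕ) := by exact_mod_cast h2
      exact absurd n.2 (not_lt.2 h3)
  have hqc : QuasiCompact (f₀ ≫ g₀) := quasiCompact_of_compactSpace _
  obtain ⟨j, φ, hj⟩ := Groth.Agent.Helper4.LimStage.exists_preimage_eq_empty_stage D c hc i₀
    (f₀ ≫ g₀) hC₀ (f ≫ g) qX hXY h1
  refine ⟨j, φ, Limits.pullback f₀ (Limits.pullback.snd (D.map φ) g₀), Limits.pullback (D.map φ) g₀,
    Limits.pullback.snd f₀ _, Limits.pullback.fst (D.map φ) g₀, Limits.pullback.snd (D.map φ) g₀,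
    Limits.pullback.fst f₀ _, (IsPullback.of_hasPullback _ _).flip, IsPullback.of_hasPullback _ _, ?_⟩
  have hsq : IsPullback (Limits.pullback.fst f₀ (Limits.pullback.snd (D.map φ) g₀))
      (Limits.pullback.snd f₀ _) f₀ (Limits.pullback.snd (D.map φ) g₀) :=
    IsPullback.of_hasPullback _ _
  have hlftj : LocallyOfFiniteType (Limits.pullback.snd f₀ (Limits.pullback.snd (D.map φ) g₀)) :=
    Groth.Agent.Helper14.FibreDimBC.locallyOfFiniteType_of_isPullback hsq
  apply Groth.Agent.Helper4.RelDimPts.hasRelDim_of_fibreDimAt_eq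
  intro x
  rw [(Groth.Agent.S9358.result f₀ _ _ _ hsq d).1 x]
  have hx₀C : (Limits.pullback.fst f₀ (Limits.pullback.snd (D.map φ) g₀)).base x ∉ C₀ := by
    intro hx
    let m : Limits.pullback f₀ (Limits.pullback.snd (D.map φ) g₀) ⟶
        Limits.pullback (D.map φ) (f₀ ≫ g₀) :=
      Limits.pullback.lift (Limits.pullback.snd f₀ _ ≫ Limits.pullback.fst (D.map φ) g₀)
        (Limits.pullback.fst f₀ _) (by
        rw [Category.assoc, Limits.pullback.condition, ← Category.assoc,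
          ← Limits.pullback.condition, Category.assoc])
    have hm : m ≫ Limits.pullback.snd (D.map φ) (f₀ ≫ g₀) = Limits.pullback.fst f₀ _ :=
      Limits.pullback.lift_snd _ _ _
    have hmem : m x ∈ (Limits.pullback.snd (D.map φ) (f₀ ≫ g₀)) ⁻¹' C₀ := by
      change (Limits.pullback.snd (D.map φ) (f₀ ≫ g₀)) (m x) ∈ C₀
      rw [← Scheme.Hom.comp_apply, hm]
      exact hx
    rw [hj] at hmem
    exact hmem
  obtain ⟨n, hn⟩ := Groth.Agent.Helper4.RelDimPts.exists_nat_fibreDimAt f₀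
    ((Limits.pullback.fst f₀ (Limits.pullback.snd (D.map φ) g₀)).base x)
  rw [hn]
  have h4 : n ≤ d := by
    have h5 : FlatMor.fibreDimAt f₀
        ((Limits.pullback.fst f₀ (Limits.pullback.snd (D.map φ) g₀)).base x) ≤ d := by
      by_contra h
      exact hx₀C (Or.inl h)
    rw [hn] at h5
    exact_mod_cast h5
  have h5 : d ≤ n := by
    by_contra h
    rw [not_le] at h
    exact hx₀C (Or.inr (Set.mem_iUnion.2 ⟨⟨n, h⟩, le_of_eq hn⟩))
  have h6 : n = d := le_antisymm h4 h5
  rw [h6]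

end Groth.Agent.S9196
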