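import Groth.Statements.S9210
import Mathlib
import Groth.Agent.Lib.Helper4.DVRSep2
import Groth.Agent.Lib.Helper4.SpecCl

set_option autoImplicit false
universe u
open CategoryTheory CategoryTheory.Limits AlgebraicGeometry
open Lim

namespace Groth.Agent.S9210

/-- Let S be a locally Noetherian scheme, f : X → S a morphism locally of finite type and h : U → X a
morphism of finite type whose image is dense in X. Suppose that for every discrete valuation ring A
with fraction field K and every commutative square formed by a morphism Spec K → U → X and a
morphism Spec A → S, there is at most one morphism Spec A → X making the resulting diagram commute.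
Then f is separated. -/
theorem result {X S U : Scheme.{u}} [IsLocallyNoetherian S] (f : X ⟶ S)
    [LocallyOfFiniteType f] (h : U ⟶ X) [LocallyOfFiniteType h] [QuasiCompact h] (hd : DenseRange h.base)
    (H : ∀ (A : Type u) [CommRing A] [IsDomain A] [IsDiscreteValuationRing A]
      (u : Spec (CommRingCat.of (FractionRing A)) ⟶ U) (y : Spec (CommRingCat.of A) ⟶ S),
      u ≫ h ≫ f = Spec.map (CommRingCat.ofHom (algebraMap A (FractionRing A))) ≫ y →
        ∀ l₁ l₂ : Spec (CommRingCat.of A) ⟶ X, l₁ ≫ f = y → Spec.map (CommRingCat.ofHom (algebraMap A (FractionRing A))) ≫ l₁ = u ≫ h →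
          l₂ ≫ f = y → Spec.map (CommRingCat.ofHom (algebraMap A (FractionRing A))) ≫ l₂ = u ≫ h → l₁ = l₂) :
    IsSeparated f := by
  apply Groth.Agent.Helper4.DVRSep.isSeparated_of_dvr_of_generizing f h Set.univ
  · intro x
    have hx : x ∈ closure (Set.range h) := by
      have := hd.closure_range
      rw [show closure (Set.range h) = closure (Set.range h.base) from rfl, this]
      trivial
    obtain ⟨u, hu⟩ := Groth.Agent.Helper4.SpecCl.exists_specializes_of_mem_closure_range h x hx
    exact ⟨u, trivial, hu⟩
  · intro u₀ _ A hA l₁ l₂ h12 h1 h2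
    haveI := hA
    let e : FractionRing A ≃ₐ[A] U.residueField u₀ := FractionRing.algEquiv A (U.residueField u₀)
    have hfac : Spec.map (CommRingCat.ofHom (algebraMap A (FractionRing A))) =
        Spec.map (CommRingCat.ofHom (e.symm : U.residueField u₀ →+* FractionRing A)) ≫
          Spec.map (CommRingCat.ofHom A.subtype) := by
      rw [← Spec.map_comp]
      congr 1
      ext a
      exact (e.symm.commutes a).symm
    have h1' : Spec.map (CommRingCat.ofHom (algebraMap A (FractionRing A))) ≫ l₁ =
        (Spec.map (CommRingCat.ofHom (e.symm : U.residueField u₀ →+* FractionRing A)) ≫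
          U.fromSpecResidueField u₀) ≫ h := by
      rw [hfac, Category.assoc, h1, Category.assoc]
    have h2' : Spec.map (CommRingCat.ofHom (algebraMap A (FractionRing A))) ≫ l₂ =
        (Spec.map (CommRingCat.ofHom (e.symm : U.residueField u₀ →+* FractionRing A)) ≫
          U.fromSpecResidueField u₀) ≫ h := by
      rw [hfac, Category.assoc, h2, Category.assoc]
    refine H A (Spec.map (CommRingCat.ofHom (e.symm : U.residueField u₀ →+* FractionRing A)) ≫
      U.fromSpecResidueField u₀) (l₁ ≫ f) ?_ l₁ l₂ rfl h1' h12.symm h2'
    rw [← Category.assoc, ← h1', Category.assoc]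

end Groth.Agent.S9210
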