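import Groth.Statements.S9211
import Mathlib
import Groth.Agent.Lib.Helper4.DVRSep2

set_option autoImplicit false
universe u
open CategoryTheory CategoryTheory.Limits AlgebraicGeometry
open Lim

namespace Groth.Agent.S9211

/-- Let S be a locally Noetherian scheme and f : X → S a morphism locally of finite type. Then f is
separated if and only if the following uniqueness holds: for every generic point η of an irreducible
component of X, every discrete valuation ring A contained in the residue field κ(η) with fraction
field κ(η) (a valuation subring of κ(η) which is a discrete valuation ring), and every pair of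
morphisms Spec A → X with the same composite to S and both restricting on Spec κ(η) to the canonical
morphism Spec κ(η) → X, the two morphisms coincide. -/
theorem result {X S : Scheme.{u}} [IsLocallyNoetherian S] (f : X ⟶ S)
    [LocallyOfFiniteType f] :
    IsSeparated f ↔ ∀ (η : X), closure {η} ∈ irreducibleComponents (X : Type u) →
      ∀ (A : ValuationSubring (X.residueField η)), IsDiscreteValuationRing A →
        ∀ l₁ l₂ : Spec (CommRingCat.of A) ⟶ X, l₁ ≫ f = l₂ ≫ f →
          Spec.map (CommRingCat.ofHom A.subtype) ≫ l₁ = X.fromSpecResidueField η →
          Spec.map (CommRingCat.ofHom A.subtype) ≫ l₂ = X.fromSpecResidueField η → l₁ = l₂ := by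
  constructor
  · intro hsep η _ A hA l₁ l₂ h12 h1 h2
    have hU := IsSeparated.valuativeCriterion f
    let S : ValuativeCommSq f :=
      { R := A
        K := X.residueField η
        i₁ := X.fromSpecResidueField η
        i₂ := l₁ ≫ f
        commSq := ⟨by
          rw [← h1, Category.assoc]
          rfl⟩ }
    have hS : Subsingleton S.commSq.LiftStruct := hU S
    let k₁ : S.commSq.LiftStruct := ⟨l₁, h1, rfl⟩
    let k₂ : S.commSq.LiftStruct := ⟨l₂, h2, h12.symm⟩
    have hk : k₁ = k₂ := Subsingleton.elim _ _
    exact congrArg CommSq.LiftStruct.l hk
  · intro H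
    apply Groth.Agent.Helper4.DVRSep.isSeparated_of_dvr_of_generizing f (𝟙 X)
      {η : X | closure {η} ∈ irreducibleComponents (X : Type u)}
    · intro x
      obtain ⟨η, hη, hηx⟩ := Groth.Agent.Helper4.DVRSep.exists_generic_specializes X x
      exact ⟨η, hη, hηx⟩
    · intro η hη A hA l₁ l₂ h12 h1 h2
      rw [Category.comp_id] at h1 h2
      exact H η hη A hA l₁ l₂ h12 h1 h2

end Groth.Agent.S9211
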