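import Groth.Statements.S9212
import Groth.Agent.Lib.Helper4.DVRVal
import Groth.Agent.S9211
import Groth.Agent.Lib.Helper4.DVRSep

set_option autoImplicit false
universe u
open CategoryTheory CategoryTheory.Limits AlgebraicGeometry
open Lim

namespace Groth.Agent.S9212

/-- Let S be a locally Noetherian scheme and f : X → S a morphism of finite type. Then f is proper if
and only if: for every generic point η of an irreducible component of X, every discrete valuation
ring A contained in the residue field κ(η) with fraction field κ(η) (a valuation subring of κ(η)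
which is a discrete valuation ring), and every morphism Spec A → S whose restriction to Spec κ(η) is
the canonical morphism Spec κ(η) → X followed by f, there is exactly one morphism Spec A → X over S
restricting to the canonical morphism on Spec κ(η). -/
theorem result {X S : Scheme.{u}} [IsLocallyNoetherian S] (f : X ⟶ S)
    [LocallyOfFiniteType f] [QuasiCompact f] :
    IsProper f ↔ ∀ (η : X), closure {η} ∈ irreducibleComponents (X : Type u) →
      ∀ (A : ValuationSubring (X.residueField η)), IsDiscreteValuationRing A →
        ∀ y : Spec (CommRingCat.of A) ⟶ S,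
          Spec.map (CommRingCat.ofHom A.subtype) ≫ y = X.fromSpecResidueField η ≫ f →
          ∃! l : Spec (CommRingCat.of A) ⟶ X,
            l ≫ f = y ∧ Spec.map (CommRingCat.ofHom A.subtype) ≫ l = X.fromSpecResidueField η := by
  constructor
  · intro hprop η _ A hA y hy
    have hex : ValuativeCriterion.Existence f := by
      have h : UniversallyClosed f := inferInstance
      rw [UniversallyClosed.eq_valuativeCriterion] at h
      exact h.1
    let sq : ValuativeCommSq f :=
      { R := A
        K := X.residueField η
        i₁ := X.fromSpecResidueField η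
        i₂ := y
        commSq := ⟨by rw [← hy]; rfl⟩ }
    obtain ⟨⟨l, hl1, hl2⟩⟩ := (hex sq).exists_lift
    refine ⟨l, ⟨hl2, hl1⟩, ?_⟩
    rintro l' ⟨h1, h2⟩
    exact Groth.Agent.Helper4.DVRVal.lift_unique f (X.fromSpecResidueField η) A l' l
      (h1.trans hl2.symm) h2 hl1
  · intro H
    haveI : IsSeparated f := by
      rw [Groth.Agent.S9211.result f]
      intro η hη A hA l₁ l₂ h12 h1 h2
      obtain ⟨l, -, hl⟩ := H η hη A hA (l₁ ≫ f) (by rw [← Category.assoc, h1])
      exact (hl l₁ ⟨rfl, h1⟩).trans (hl l₂ ⟨h12.symm, h2⟩).symm
    have hex : ValuativeCriterion.Existence f := by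
      apply Groth.Agent.Lib.Helper19.ValEx.existence' f
        (ι := {η : X // closure {η} ∈ irreducibleComponents (X : Type u)})
        (fun η => X.residueField η.1) (fun η => X.fromSpecResidueField η.1)
      · intro x
        obtain ⟨η, hη, hηx⟩ := Groth.Agent.Helper4.DVRSep.exists_generic_specializes X x
        refine ⟨⟨η, hη⟩, ?_⟩
        rw [Scheme.fromSpecResidueField_apply]
        exact hηx
      · intro η A φ hφ
        obtain ⟨l, hl1, hl2⟩ := Groth.Agent.Helper4.DVRVal.exists_lift_of_dvr f
          (X.fromSpecResidueField η.1)
          (fun V hV ρ hρ => Groth.Agent.Helper4.DVRVal.exists_finset_closure_eq_top f η.1 V hV ρ hρ)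
          (fun A' hA' y hy => by
            obtain ⟨l, ⟨hl1, hl2⟩, -⟩ := H η.1 η.2 A' hA' y hy
            exact ⟨l, hl1, hl2⟩)
          A φ hφ
        refine ⟨l, ⟨hl2, hl1⟩, ?_⟩
        rintro l' ⟨h1, h2⟩
        exact Groth.Agent.Helper4.DVRVal.lift_unique f (X.fromSpecResidueField η.1) A l' l
          (h2.trans hl1.symm) h1 hl2
    haveI : UniversallyClosed f := UniversallyClosed.of_valuativeCriterion f hex
    exact {}

end Groth.Agent.S9212
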