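import Groth.Statements.S9225
import Mathlib
import Groth.Agent.Lib.Lead.RLR3
-- import your own Groth.Agent.* helpers here

set_option autoImplicit false
universe u
open CAlg

namespace Groth.Agent.S9225

open IsLocalRing Groth.Agent.Lead in
theorem aux_regular_quotient {A : Type u} [CommRing A] [IsRegularLocalRing A] {x : A}
    (hx : x ∈ maximalIdeal A) (hx2 : x ∉ maximalIdeal A ^ 2) :
    IsRegularLocalRing (A ⧸ Ideal.span {x}) := by
  obtain ⟨n, y, hn, hspan⟩ := RLR.exists_generators_of_notMem_sq hx hx2
  have hIle : Ideal.span {x} ≤ maximalIdeal A := by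
    rw [Ideal.span_le, Set.singleton_subset_iff]; exact hx
  have hItop : Ideal.span {x} ≠ ⊤ := fun h =>
    (maximalIdeal.isMaximal A).ne_top (top_le_iff.mp (h.symm.trans_le hIle))
  haveI : IsLocalRing (A ⧸ Ideal.span {x}) := RLR.isLocalRing_quotient hItop
  exact (RLR.isRegularLocalRing_quotient_aux x y hspan hn).1

theorem aux_deriv_sq {R : Type u} [CommRing R] (D : Derivation ℤ R R) (P : Ideal R) {a : R}
    (ha : a ∈ P ^ 2) : D a ∈ P := by
  rw [pow_two] at ha
  refine Submodule.mul_induction_on ha ?_ ?_
  · intro x hx y hy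
    rw [D.leibniz]
    exact P.add_mem (P.mul_mem_right _ hx) (P.mul_mem_right _ hy)
  · intro x y hx hy
    rw [map_add]
    exact P.add_mem hx hy

/-- Let R be a regular ring, f an element of R and D a derivation of R such that the image of D(f) in
R/(f) is a unit. Then R/(f) is a regular ring. -/
theorem result (R : Type u) [CommRing R] [IsRegularRing R]
    (f : R) (D : Derivation ℤ R R)
    (hD : IsUnit (Ideal.Quotient.mk (Ideal.span {f}) (D f))) :
    IsRegularRing (R ⧸ Ideal.span ({f} : Set R)) := by
  set I : Ideal R := Ideal.span {f} with hI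
  rw [isRegularRing_iff]
  intro Q hQ
  set P : Ideal R := Q.comap (Ideal.Quotient.mk I) with hP
  haveI : P.IsPrime := Ideal.comap_isPrime _ _
  haveI : Q.LiesOver P := ⟨rfl⟩
  have hfP : f ∈ P := by
    rw [hP, Ideal.mem_comap]
    have : Ideal.Quotient.mk I f = 0 :=
      Ideal.Quotient.eq_zero_iff_mem.mpr (Ideal.subset_span rfl)
    rw [this]; exact Q.zero_mem
  have hDf : D f ∉ P := by
    intro hmem
    rw [hP, Ideal.mem_comap] at hmem
    exact hQ.ne_top (Ideal.eq_top_of_isUnit_mem _ hmem hD)
  set x : Localization.AtPrime P := algebraMap R (Localization.AtPrime P) f with hx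
  have hxm : x ∈ IsLocalRing.maximalIdeal (Localization.AtPrime P) := by
    rw [← Localization.AtPrime.map_eq_maximalIdeal]
    exact Ideal.mem_map_of_mem _ hfP
  have hx2 : x ∉ IsLocalRing.maximalIdeal (Localization.AtPrime P) ^ 2 := by
    intro hmem
    rw [← Localization.AtPrime.map_eq_maximalIdeal, ← Ideal.map_pow,
      IsLocalization.mem_map_algebraMap_iff P.primeCompl] at hmem
    obtain ⟨⟨⟨a, ha⟩, s⟩, has⟩ := hmem
    simp only [hx] at has
    rw [← map_mul, IsLocalization.eq_iff_exists P.primeCompl] at has
    obtain ⟨t, ht⟩ := has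
    -- t * (f * s) = t * a ∈ P^2
    have h1 : (t : R) * (f * s) ∈ P ^ 2 := by
      rw [ht]; exact Ideal.mul_mem_left _ _ ha
    have h2 := aux_deriv_sq D P h1
    have h3 : D ((t : R) * (f * s)) = ((t : R) * s) * D f + f * D ((t : R) * s) := by
      have : (t : R) * (f * s) = ((t : R) * s) * f := by ring
      rw [this, D.leibniz]
      simp only [smul_eq_mul]
    rw [h3] at h2
    have h4 : ((t : R) * s) * D f ∈ P := by
      have := P.sub_mem h2 (P.mul_mem_right (D ((t : R) * s)) hfP)
      simpa using this
    rcases (‹P.IsPrime›.mem_or_mem h4) with h5 | h5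
    · rcases (‹P.IsPrime›.mem_or_mem h5) with h6 | h6
      · exact t.2 h6
      · exact s.2 h6
    · exact hDf h5
  have hreg : IsRegularLocalRing (Localization.AtPrime P ⧸ Ideal.span {x}) :=
    aux_regular_quotient hxm hx2
  have hmap : I.map (algebraMap R (Localization.AtPrime P)) = Ideal.span {x} := by
    rw [hI, Ideal.map_span, Set.image_singleton]
  have hreg' : IsRegularLocalRing
      (Localization.AtPrime P ⧸ I.map (algebraMap R (Localization.AtPrime P))) := by
    rw [hmap]; exact hreg
  have hsub : Algebra.algebraMapSubmonoid (R ⧸ I) P.primeCompl = Q.primeCompl :=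
    Ideal.algebraMapSubmonoid_primeCompl_of_liesOver_surjective Q P Ideal.Quotient.mk_surjective
  haveI : IsLocalization Q.primeCompl
      (Localization.AtPrime P ⧸ I.map (algebraMap R (Localization.AtPrime P))) := by
    rw [← hsub]; infer_instance
  exact @IsRegularLocalRing.of_ringEquiv _ _ hreg' _ _
    (IsLocalization.algEquiv Q.primeCompl
      (Localization.AtPrime P ⧸ I.map (algebraMap R (Localization.AtPrime P)))
      (Localization.AtPrime Q)).toRingEquiv

end Groth.Agent.S9225
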