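import Groth.Statements.S9226
import Mathlib
import Groth.Agent.Lib.Lead.RLR9
-- import your own Groth.Agent.* helpers here

set_option autoImplicit false
universe u
open CAlg

namespace Groth.Agent.S9226

theorem aux_deriv_sq {R : Type u} [CommRing R] (D : Derivation ℤ R R) (P : Ideal R) {a : R}
    (ha : a ∈ P ^ 2) : D a ∈ P := by
  rw [pow_two] at ha
  refine Submodule.mul_induction_on ha ?_ ?_
  · intro x hx y hy
    rw [D.leibniz]
    exact P.add_mem (P.mul_mem_right _ hx) (P.mul_mem_right _ hy)
  · intro x y hx hy
    rw [map_add]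
    exact P.add_mem hx hy

open IsLocalRing Groth.Agent.Lead in
theorem aux_li (R : Type u) [CommRing R] [IsLocalRing R] (m : ℕ) (f : Fin m → R)
    (hf : ∀ i, f i ∈ maximalIdeal R) (D : Fin m → Derivation ℤ R R)
    (hdet : IsUnit (Matrix.det (Matrix.of (fun i j : Fin m => D i (f j))))) :
    LinearIndependent (ResidueField R)
      (fun i => ((maximalIdeal R).toCotangent (⟨f i, hf i⟩ : maximalIdeal R) :
        CotangentSpace R)) := by
  classical
  rw [Fintype.linearIndependent_iff]
  intro c hc
  -- lift coefficients
  have hlift : ∀ j, ∃ a : R, residue R a = c j := fun j => residue_surjective (c j)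
  choose a ha using hlift
  have h1 : (maximalIdeal R).toCotangent (∑ j, a j • (⟨f j, hf j⟩ : maximalIdeal R)) = 0 := by
    rw [map_sum, ← hc]
    apply Finset.sum_congr rfl
    intro j _
    rw [← ha j, RLR.residue_smul_toCotangent]
  rw [Ideal.toCotangent_eq_zero] at h1
  have h2 : (∑ j, a j * f j) ∈ maximalIdeal R ^ 2 := by
    convert h1 using 1
    simp
  set M : Matrix (Fin m) (Fin m) R := Matrix.of (fun i j : Fin m => D i (f j)) with hM
  have h3 : ∀ i, M.mulVec a i ∈ maximalIdeal R := by
    intro i
    have h4 := aux_deriv_sq (D i) (maximalIdeal R) h2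
    rw [map_sum] at h4
    have h5 : ∑ j, D i (a j * f j) = M.mulVec a i + ∑ j, f j * D i (a j) := by
      simp only [Matrix.mulVec, dotProduct, hM, Matrix.of_apply]
      rw [← Finset.sum_add_distrib]
      apply Finset.sum_congr rfl
      intro j _
      rw [(D i).leibniz]
      simp only [smul_eq_mul]
      ring
    rw [h5] at h4
    have h6 : ∑ j, f j * D i (a j) ∈ maximalIdeal R :=
      Ideal.sum_mem _ (fun j _ => Ideal.mul_mem_right _ _ (hf j))
    have := Ideal.sub_mem _ h4 h6
    simpa using this
  have h7 : a = M⁻¹.mulVec (M.mulVec a) := by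
    rw [Matrix.mulVec_mulVec, Matrix.nonsing_inv_mul _ hdet, Matrix.one_mulVec]
  intro j
  rw [← ha j, residue_eq_zero_iff, h7]
  simp only [Matrix.mulVec, dotProduct]
  exact Ideal.sum_mem _ (fun i _ => Ideal.mul_mem_left _ _ (h3 i))

/-- Let R be a regular local ring, m ≥ 1, f_1, ..., f_m elements of the maximal ideal, and D_1, ..., D_m
derivations of R such that the determinant of the matrix (D_i(f_j)) is a unit of R. Then R/(f_1,
..., f_m) is a regular local ring and f_1, ..., f_m is a regular sequence on R. -/
theorem result (R : Type u) [CommRing R]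
    [IsRegularLocalRing R] (m : ℕ) (hm : 1 ≤ m) (f : Fin m → R)
    (hf : ∀ i, f i ∈ IsLocalRing.maximalIdeal R) (D : Fin m → Derivation ℤ R R)
    (hdet : IsUnit (Matrix.det (Matrix.of (fun i j : Fin m => D i (f j))))) :
    IsRegularLocalRing (R ⧸ Ideal.span (Set.range f)) ∧
      RingTheory.Sequence.IsRegular R (List.ofFn f) := by
  classical
  have hli := aux_li R m f hf D hdet
  set x : Fin m → IsLocalRing.maximalIdeal R := fun i => ⟨f i, hf i⟩ with hx
  have hxf : (fun i => ((x i : IsLocalRing.maximalIdeal R) : R)) = f := rfl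
  constructor
  · have h1 := ((Groth.Agent.Lead.RLR.isRegularLocalRing_and_linearIndependent_iff m x).1.mp
      ⟨inferInstance, hli⟩).2
    rw [hxf] at h1
    exact h1
  · obtain ⟨e, y, hre, hspan⟩ :=
      Groth.Agent.Lead.RLR.exists_extension_of_linearIndependent x hli
    have hw := Groth.Agent.Lead.RLR.isWeaklyRegular_aux (m + e) R _ hre.symm hspan
    have hz : (fun i => ((Fin.append x y i : IsLocalRing.maximalIdeal R) : R)) =
        Fin.append f (fun i => ((y i : IsLocalRing.maximalIdeal R) : R)) := by
      funext i
      induction i using Fin.addCases with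
      | left i => simp [hx]
      | right i => simp
    rw [hz, List.ofFn_fin_append, RingTheory.Sequence.isWeaklyRegular_append_iff] at hw
    refine RingTheory.Sequence.IsRegular.of_isWeaklyRegular_of_mem_maximalIdeal (mem := ?_)
      (reg := hw.1)
    intro r hr
    rw [List.mem_ofFn] at hr
    obtain ⟨i, rfl⟩ := hr
    exact hf i

end Groth.Agent.S9226
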