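import Groth.Statements.S9227
import Mathlib
import Groth.Agent.S9225
-- import your own Groth.Agent.* helpers here

set_option autoImplicit false
universe u
open CAlg

namespace Groth.Agent.S9227

theorem exists_derivation {S : Type u} [CommRing S] (D₀ : S →+ S)
    (hleib : ∀ a b, D₀ (a * b) = a * D₀ b + b * D₀ a) :
    ∃ D' : Derivation ℤ S S, ∀ q, D' q = D₀ q :=
  ⟨Derivation.mk'
    { toFun := D₀
      map_add' := map_add D₀
      map_smul' := fun n q => by
        simp only [zsmul_eq_mul, RingHom.id_apply, Int.cast_id]
        rw [← zsmul_eq_mul, ← zsmul_eq_mul]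
        exact map_zsmul D₀ n q }
    (fun a b => by simpa using hleib a b), fun q => rfl⟩

/-- Let R be a regular ring, f an element of R and D a derivation of R with D(f) a unit of R. Then for
every polynomial p with integer coefficients the ring R[z]/(p(z) - f) is regular; in particular
R[z]/(z^n - f) is regular for every n ≥ 1. -/
theorem result (R : Type u) [CommRing R]
    [IsRegularRing R] (f : R) (D : Derivation ℤ R R) (hD : IsUnit (D f)) (p : Polynomial ℤ) :
    IsRegularRing (Polynomial R ⧸
      Ideal.span ({Polynomial.map (Int.castRingHom R) p - Polynomial.C f} : Set (Polynomial R))) := by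
  letI : Differential R := ⟨D⟩
  obtain ⟨D', hD'⟩ := exists_derivation
    ((Differential.mapCoeffs (A := R)).toLinearMap.toAddMonoidHom)
    (fun a b => (Differential.mapCoeffs (A := R)).leibniz a b)
  have h1 : D' (Polynomial.map (Int.castRingHom R) p - Polynomial.C f) =
      - Polynomial.C (D f) := by
    rw [hD']
    show (Differential.mapCoeffs _ : Polynomial R) = _
    ext i
    rw [Differential.coeff_mapCoeffs, Polynomial.coeff_sub, Polynomial.coeff_map,
      Polynomial.coeff_neg, Polynomial.coeff_C, Polynomial.coeff_C]
    show D (Int.castRingHom R (p.coeff i) - if i = 0 then f else 0) = _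
    rw [map_sub]
    have : D (Int.castRingHom R (p.coeff i)) = 0 := by
      have := D.map_algebraMap (p.coeff i)
      simpa using this
    rw [this, zero_sub]
    split_ifs <;> simp
  apply Groth.Agent.S9225.result (Polynomial R) _ D'
  rw [h1]
  apply IsUnit.map
  exact (hD.map Polynomial.C).neg

end Groth.Agent.S9227
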