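import Groth.Statements.S9232
import Groth.Agent.Lib.Helper14.FlatIso
import Groth.Agent.Lib.Helper1.AdicNoeth
-- import your own Groth.Agent.* helpers here

set_option autoImplicit false
universe u
open CAlg

namespace Groth.Agent.S9232

/-- Suppose A → B is a flat local ring map between Noetherian local rings, the maximal ideal of A
generates that of B, and the residue field map is bijective. Then the induced map between the
completions of A and B (a ring map of the completions compatible with A → B; it is unique since A is
Noetherian) is an isomorphism. -/
theorem result (A B : Type u) [CommRing A]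
    [CommRing B] [IsLocalRing A] [IsLocalRing B] [IsNoetherianRing A] [IsNoetherianRing B]
    [Algebra A B] [IsLocalHom (algebraMap A B)] [Module.Flat A B]
    (hm : Ideal.map (algebraMap A B) (IsLocalRing.maximalIdeal A) = IsLocalRing.maximalIdeal B)
    (hk : Function.Bijective (IsLocalRing.ResidueField.map (algebraMap A B)))
    (ψ : AdicCompletion (IsLocalRing.maximalIdeal A) A →+* AdicCompletion (IsLocalRing.maximalIdeal B) B)
    (hψ : ψ.comp (algebraMap A (AdicCompletion (IsLocalRing.maximalIdeal A) A)) =
      (algebraMap B (AdicCompletion (IsLocalRing.maximalIdeal B) B)).comp (algebraMap A B)) :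
    Function.Bijective ψ := by
  classical
  open IsLocalRing in
  haveI : IsNoetherianRing (AdicCompletion (maximalIdeal B) B) :=
    Groth.Agent.Helper1.isNoetherianRing_adicCompletion_of_fg B (maximalIdeal B)
      (IsNoetherian.noetherian _)
  open IsLocalRing in
  haveI : IsNoetherianRing (AdicCompletion (maximalIdeal A) A) :=
    Groth.Agent.Helper1.isNoetherianRing_adicCompletion_of_fg A (maximalIdeal A)
      (IsNoetherian.noetherian _)
  open IsLocalRing in
  haveI : IsScalarTower A B (AdicCompletion (maximalIdeal B) B) :=
    IsScalarTower.of_algebraMap_eq fun r => rfl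
  open IsLocalRing in
  haveI : Module.Flat A (AdicCompletion (maximalIdeal B) B) :=
    Module.Flat.trans A B (AdicCompletion (maximalIdeal B) B)
  open IsLocalRing in
  let g : AdicCompletion (maximalIdeal A) A →ₐ[A] AdicCompletion (maximalIdeal B) B :=
    { ψ with
      commutes' := fun r => by
        have := congrArg (fun f => f r) hψ
        simp only [RingHom.comp_apply] at this
        exact this }
  have hg : ∀ x, g x = ψ x := fun _ => rfl
  open IsLocalRing in
  have hmB : (maximalIdeal A).map (algebraMap A (AdicCompletion (maximalIdeal B) B)) =
      maximalIdeal (AdicCompletion (maximalIdeal B) B) := by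
    rw [IsScalarTower.algebraMap_eq A B (AdicCompletion (maximalIdeal B) B), ← Ideal.map_map, hm,
      AdicCompletion.maximalIdeal_eq_map]
  open IsLocalRing in
  have hmA : (maximalIdeal A).map (algebraMap A (AdicCompletion (maximalIdeal A) A)) =
      maximalIdeal (AdicCompletion (maximalIdeal A) A) :=
    AdicCompletion.maximalIdeal_eq_map.symm
  open IsLocalRing in
  haveI : IsPrecomplete ((maximalIdeal A).map (algebraMap A (AdicCompletion (maximalIdeal A) A)))
      (AdicCompletion (maximalIdeal A) A) := by
    rw [hmA]; infer_instance
  open IsLocalRing in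
  haveI : IsHausdorff ((maximalIdeal A).map (algebraMap A (AdicCompletion (maximalIdeal B) B)))
      (AdicCompletion (maximalIdeal B) B) := by
    rw [hmB]; infer_instance
  open IsLocalRing in
  have key := Groth.Agent.Helper14.FlatIso.bijective_of_mod (A := A)
    (B := AdicCompletion (maximalIdeal A) A) (D := AdicCompletion (maximalIdeal B) B)
    (maximalIdeal A) (by
      rw [hmA, IsLocalRing.jacobson_eq_maximalIdeal ⊥ bot_ne_top]) g ?_ ?_
  · exact key
  · intro d
    rw [hmB]
    obtain ⟨y, hy⟩ := (AdicCompletion.residueField_map_bijective B).2 (IsLocalRing.residue _ d)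
    obtain ⟨x, rfl⟩ := hk.2 y
    obtain ⟨a, rfl⟩ := IsLocalRing.residue_surjective x
    refine ⟨algebraMap A _ a, ?_⟩
    rw [g.commutes, ← Ideal.Quotient.eq]
    change IsLocalRing.residue _ d = IsLocalRing.residue _ _
    rw [← hy, IsLocalRing.ResidueField.map_residue, IsLocalRing.ResidueField.map_residue]
    rfl
  · intro b hb
    rw [hmB] at hb
    rw [hmA]
    by_contra hcon
    have hu : IsUnit b := by
      by_contra h
      exact hcon ((IsLocalRing.mem_maximalIdeal _).mpr h)
    have : IsUnit (g b) := hu.map g
    exact (IsLocalRing.mem_maximalIdeal _).mp hb this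

end Groth.Agent.S9232
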