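import Groth.Statements.S9240
import Groth.Agent.Lib.Helper1.CF1
import Groth.Agent.Lib.Helper1.BRN1

set_option autoImplicit false
universe u
open Brnch

namespace Groth.Agent.S9240

/-- Let A be a Noetherian local ring, S its henselization and A^ its completion, and let ψ : S → A^ be
the ring map compatible with the structure maps from A (it is unique, A^ being henselian). Then
contraction along ψ sends every minimal prime of A^ to a minimal prime of S, and every minimal prime
of S arises this way: contraction maps the minimal primes of A^ onto the minimal primes of S. -/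
theorem result (A S : Type u) [CommRing A] [IsLocalRing A]
    [IsNoetherianRing A] [CommRing S] [IsLocalRing S] [Algebra A S] [IsLocalHom (algebraMap A S)]
    [Hensel.IsHenselization A S] (ψ : S →+* AdicCompletion (IsLocalRing.maximalIdeal A) A)
    (hψ : ψ.comp (algebraMap A S) = algebraMap A (AdicCompletion (IsLocalRing.maximalIdeal A) A)) :
    Set.MapsTo (Ideal.comap ψ) (minimalPrimes (AdicCompletion (IsLocalRing.maximalIdeal A) A))
        (minimalPrimes S) ∧
      Set.SurjOn (Ideal.comap ψ) (minimalPrimes (AdicCompletion (IsLocalRing.maximalIdeal A) A))
        (minimalPrimes S) := by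
  letI := ψ.toAlgebra
  haveI : Module.FaithfullyFlat S (AdicCompletion (IsLocalRing.maximalIdeal A) A) :=
    Groth.Agent.Helper1.CF.faithfullyFlat_psi A S ψ hψ
  refine ⟨?_, ?_⟩
  · intro Q hQ
    exact Groth.Agent.Helper1.BRN.comap_mem_minimalPrimes (A := S)
      (S := AdicCompletion (IsLocalRing.maximalIdeal A) A) hQ
  · exact Groth.Agent.Helper1.DM.surjOn_comap_minimalPrimes S
      (AdicCompletion (IsLocalRing.maximalIdeal A) A)

end Groth.Agent.S9240
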