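import Groth.Statements.S9249
import Mathlib
import Groth.Agent.Lib.Lead.Flat1
import Groth.Agent.S0543

set_option autoImplicit false
universe u
open CAlg

namespace Groth.Agent.S9249

/-- A Noetherian local ring is Cohen-Macaulay if and only if its completion is. -/
theorem result (A : Type u) [CommRing A] [IsLocalRing A]
    [IsNoetherianRing A] :
    LocCoh.IsCohenMacaulayLocalRing A ↔
      LocCoh.IsCohenMacaulayLocalRing (AdicCompletion (IsLocalRing.maximalIdeal A) A) := by
  haveI hN : IsNoetherianRing (AdicCompletion (IsLocalRing.maximalIdeal A) A) :=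
    Groth.Agent.S0543.result A (IsLocalRing.maximalIdeal A)
  haveI hF : Module.Flat A (AdicCompletion (IsLocalRing.maximalIdeal A) A) :=
    AdicCompletion.flat_of_isNoetherian (IsLocalRing.maximalIdeal A)
  have hmin : IsLocalRing.maximalIdeal (AdicCompletion (IsLocalRing.maximalIdeal A) A) ∈
      (Ideal.map (algebraMap A (AdicCompletion (IsLocalRing.maximalIdeal A) A))
        (IsLocalRing.maximalIdeal A)).minimalPrimes := by
    rw [← AdicCompletion.maximalIdeal_eq_map, Ideal.minimalPrimes_eq_subsingleton_self]
    exact Set.mem_singleton _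
  exact Groth.Agent.Lead.Depth.isCohenMacaulayLocalRing_of_flat_of_minimal hmin

end Groth.Agent.S9249
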