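import Groth.Statements.S9250
import Mathlib
import Groth.Agent.Lib.Helper14.RegFiber
-- import your own Groth.Agent.* helpers here

set_option autoImplicit false
universe u
open CAlg

namespace Groth.Agent.S9250

/-- Let R → S be a regular ring map with S Noetherian and R regular. Then S is regular. -/
theorem result (R S : Type u) [CommRing R] [CommRing S] [Algebra R S]
    [IsRegularRing R] [IsNoetherianRing S] (h : CAlg.IsRegularHom R S) : IsRegularRing S := by
  obtain ⟨hflat, hfib⟩ := h
  rw [isRegularRing_iff]
  intro r hr
  haveI : (r.comap (algebraMap R S)).IsPrime := Ideal.comap_isPrime _ _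
  obtain ⟨hN, hG⟩ := hfib (r.comap (algebraMap R S))
  have h1 := hG (r.comap (algebraMap R S)).ResidueField (Module.Finite.self _)
  have hF : IsRegularRing ((r.comap (algebraMap R S)).Fiber S) :=
    @IsRegularRing.of_ringEquiv _ _ _ _
      (Algebra.TensorProduct.lid (r.comap (algebraMap R S)).ResidueField
        ((r.comap (algebraMap R S)).Fiber S)).toRingEquiv h1
  exact Groth.Agent.Helper14.RegFiber.isRegularLocalRing_localization r
    (IsRegularRing.isRegularLocalRing_localization _) hF

end Groth.Agent.S9250
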