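import Groth.Statements.S9255
import Mathlib
import Groth.Agent.S0389
import Groth.Agent.S0565
import Groth.Agent.Lib.Helper14.ImageOpen
-- import your own Groth.Agent.* helpers here

set_option autoImplicit false
universe u
open EGA4

namespace Groth.Agent.S9255

open TensorProduct in
/-- descent of regularity along a ring map which is flat at the prime `q`. -/
theorem reg_descent (A B : Type u) [CommRing A] [CommRing B] [Algebra A B] [IsNoetherianRing A]
    (p : Ideal A) [p.IsPrime] (q : Ideal B) [q.IsPrime] [q.LiesOver p]
    (hflat : Module.Flat A (Localization.AtPrime q))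
    [IsRegularLocalRing (Localization.AtPrime q)] : IsRegularLocalRing (Localization.AtPrime p) := by
  letI : Algebra (Localization.AtPrime p) (Localization.AtPrime q) :=
    Localization.AtPrime.algebraOfLiesOver p q
  haveI : IsLocalHom (algebraMap (Localization.AtPrime p) (Localization.AtPrime q)) :=
    Localization.isLocalHom_localRingHom _ _ _ _
  haveI : Module.Flat (Localization.AtPrime p) (Localization.AtPrime q) :=
    (Module.flat_iff_of_isLocalization (Localization.AtPrime p) p.primeCompl
      (Localization.AtPrime q)).mpr hflat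
  haveI : IsNoetherianRing (Localization.AtPrime p) :=
    IsLocalization.isNoetherianRing p.primeCompl _ inferInstance
  exact Groth.Agent.S0565.result (Localization.AtPrime p) (Localization.AtPrime q)

open TensorProduct in
/-- from generic freeness: `S_f` is flat over `R`. -/
theorem flat_away_of_free (R S : Type u) [CommRing R] [CommRing S] [Algebra R S] (f : R)
    (hfree : Module.Free (Localization.Away f) (Localization.Away f ⊗[R] S)) :
    Module.Flat R (Localization.Away (algebraMap R S f)) := by
  haveI : Module.Flat (Localization.Away f) (Localization.Away f ⊗[R] S) := inferInstance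
  haveI : Module.Flat R (Localization.Away f ⊗[R] S) :=
    Module.Flat.trans R (Localization.Away f) _
  haveI : IsLocalization (Algebra.algebraMapSubmonoid S (Submonoid.powers f))
      (Localization.Away (algebraMap R S f)) := by
    have : Algebra.algebraMapSubmonoid S (Submonoid.powers f) =
        Submonoid.powers (algebraMap R S f) := Submonoid.map_powers _ _
    rw [this]; infer_instance
  haveI : IsLocalizedModule (Submonoid.powers f)
      (IsScalarTower.toAlgHom R S (Localization.Away (algebraMap R S f))).toLinearMap :=
    (isLocalizedModule_iff_isLocalization).mpr inferInstance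
  let e1 : LocalizedModule (Submonoid.powers f) S ≃ₗ[R] Localization.Away f ⊗[R] S :=
    (LocalizedModule.equivTensorProduct (Submonoid.powers f) S).restrictScalars R
  let e2 : LocalizedModule (Submonoid.powers f) S ≃ₗ[R] Localization.Away (algebraMap R S f) :=
    IsLocalizedModule.iso (Submonoid.powers f)
      (IsScalarTower.toAlgHom R S (Localization.Away (algebraMap R S f))).toLinearMap
  haveI : Module.Flat R (LocalizedModule (Submonoid.powers f) S) := Module.Flat.of_linearEquiv e1
  exact Module.Flat.of_linearEquiv e2.symm

/-- Let R be a Noetherian domain and R → S an injective ring map of finite type with S a domain. If the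
regular locus of Spec S contains a nonempty open subset, then the regular locus of Spec R contains a
nonempty open subset. -/
theorem result (R S : Type u) [CommRing R]
    [IsDomain R] [IsNoetherianRing R] [CommRing S] [IsDomain S] [Algebra R S] [Algebra.FiniteType R S]
    (hinj : Function.Injective (algebraMap R S))
    (hS : ∃ U : Set (PrimeSpectrum S), IsOpen U ∧ U.Nonempty ∧ U ⊆ EGA4.regLocus S) :
    ∃ U : Set (PrimeSpectrum R), IsOpen U ∧ U.Nonempty ∧ U ⊆ EGA4.regLocus R := by
  classical
  obtain ⟨U, hU, ⟨y, hyU⟩, hUreg⟩ := hS
  obtain ⟨_, ⟨g, rfl⟩, hyg, hgU⟩ :=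
    PrimeSpectrum.isTopologicalBasis_basic_opens.exists_subset_of_mem_open hyU hU
  have hg0 : g ≠ 0 := by
    rintro rfl
    simp at hyg
  obtain ⟨f, hf0, -, hfree, -, -⟩ := Groth.Agent.S0389.result (R := R) (S := S) (M := S)
  have hf'0 : algebraMap R S f ≠ 0 := (map_ne_zero_iff _ hinj).mpr hf0
  have hflatSf := flat_away_of_free R S f hfree
  haveI : (⊥ : Ideal S).IsPrime := Ideal.isPrime_bot
  obtain ⟨h, hh, hH⟩ := Groth.Agent.Helper14.ImageOpen.exists_notMem_forall_prime_over (R := R)
    (⊥ : Ideal S) (g * algebraMap R S f) (by simp [hg0, hf'0])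
  have hbot : (⊥ : Ideal S).comap (algebraMap R S) = ⊥ := by
    rw [← RingHom.ker_eq_comap_bot]
    exact (RingHom.injective_iff_ker_eq_bot _).mp hinj
  rw [hbot] at hh hH
  refine ⟨PrimeSpectrum.basicOpen h, (PrimeSpectrum.basicOpen h).isOpen,
    ⟨⟨⊥, Ideal.isPrime_bot⟩, hh⟩, ?_⟩
  intro x hx
  obtain ⟨Q, hQ, -, hgfQ, hQx⟩ := hH x.asIdeal x.2 bot_le hx
  have hgQ : g ∉ Q := fun hmem => hgfQ (Ideal.mul_mem_right _ _ hmem)
  have hf'Q : algebraMap R S f ∉ Q := fun hmem => hgfQ (Ideal.mul_mem_left _ _ hmem)
  haveI hQreg : IsRegularLocalRing (Localization.AtPrime Q) :=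
    hUreg (hgU (show (⟨Q, hQ⟩ : PrimeSpectrum S) ∈ PrimeSpectrum.basicOpen g from hgQ))
  -- flatness of `S_Q` over `R`
  have hfu : IsUnit (algebraMap S (Localization.AtPrime Q) (algebraMap R S f)) :=
    IsLocalization.map_units (Localization.AtPrime Q) (⟨algebraMap R S f, hf'Q⟩ : Q.primeCompl)
  let φ : Localization.Away (algebraMap R S f) →ₐ[S] Localization.AtPrime Q :=
    IsLocalization.liftAlgHom (M := Submonoid.powers (algebraMap R S f))
      (f := Algebra.ofId S (Localization.AtPrime Q)) (by
        rintro ⟨_, n, rfl⟩
        simpa using hfu.pow n)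
  letI : Algebra (Localization.Away (algebraMap R S f)) (Localization.AtPrime Q) :=
    φ.toRingHom.toAlgebra
  haveI : IsScalarTower S (Localization.Away (algebraMap R S f)) (Localization.AtPrime Q) :=
    IsScalarTower.of_algebraMap_eq (fun b => (φ.commutes b).symm)
  haveI : IsScalarTower R (Localization.Away (algebraMap R S f)) (Localization.AtPrime Q) :=
    IsScalarTower.to₁₃₄ R S (Localization.Away (algebraMap R S f)) (Localization.AtPrime Q)
  haveI : IsLocalization (Algebra.algebraMapSubmonoid (Localization.Away (algebraMap R S f))
      Q.primeCompl) (Localization.AtPrime Q) :=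
    IsLocalization.isLocalization_of_submonoid_le (Localization.Away (algebraMap R S f))
      (Localization.AtPrime Q) (Submonoid.powers (algebraMap R S f)) Q.primeCompl (by
        rintro _ ⟨n, rfl⟩
        exact Q.primeCompl.pow_mem hf'Q n)
  haveI : Module.Flat (Localization.Away (algebraMap R S f)) (Localization.AtPrime Q) :=
    IsLocalization.flat (Localization.AtPrime Q)
      (Algebra.algebraMapSubmonoid (Localization.Away (algebraMap R S f)) Q.primeCompl)
  have hflatQ : Module.Flat R (Localization.AtPrime Q) :=
    Module.Flat.trans R (Localization.Away (algebraMap R S f)) (Localization.AtPrime Q)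
  haveI : Q.LiesOver x.asIdeal := ⟨hQx.symm⟩
  exact reg_descent R S x.asIdeal Q hflatQ

end Groth.Agent.S9255
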