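import Groth.Statements.S9260
import Mathlib

set_option autoImplicit false
universe u
open CAlg

namespace Groth.Agent.S9260

open Polynomial in
theorem main {A R G : Type*} [CommRing A] [CommRing R] [Algebra A R] [Group G] [Fintype G]
    [MulSemiringAction G R] [SMulCommClass G A R] [Algebra.IsInvariant A R G]
    (f : A →+* R) (hf : f = algebraMap A R) (J : Ideal A)
    {K : Type*} [Fintype K] (a : K → A) (ha : ∀ k, a k ∈ J) (r : K → R) :
    ∃ P : A[X], P.Monic ∧ P.natDegree ≤ Fintype.card G ∧
      (∀ i : ℕ, i < Fintype.card G → P.coeff i ∈ J) ∧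
      P.map f = ∏ σ : G, (X - C (σ • ∑ k, f (a k) * r k)) := by
  classical
  let e : Option K → ℕ := fun o => o.elim 1 (fun _ => 0)
  let α : Option K → A := fun o => o.elim 1 (fun k => - a k)
  let ϱ : G → Option K → R := fun σ o => o.elim 1 (fun k => σ • r k)
  let dd : (G → Option K) → ℕ := fun p => ∑ σ, e (p σ)
  let AA : (G → Option K) → A := fun p => ∏ σ, α (p σ)
  let ρ : (G → Option K) → R := fun p => ∏ σ, ϱ σ (p σ)
  let M' : (G → Option K) → A[X] := fun p => X ^ dd p * C (AA p)
  let p₀ : G → Option K := fun _ => none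
  let actE : G → ((G → Option K) ≃ (G → Option K)) :=
    fun τ => (Equiv.mulLeft τ).arrowCongr (Equiv.refl _)
  have hact : ∀ τ p σ, actE τ p σ = p (τ⁻¹ * σ) := fun τ p σ => rfl
  have hdd : ∀ τ p, dd (actE τ p) = dd p := by
    intro τ p
    show ∑ σ, e (actE τ p σ) = ∑ σ, e (p σ)
    simp only [hact]
    exact Equiv.sum_comp (Equiv.mulLeft τ⁻¹) (fun σ => e (p σ))
  have hAA : ∀ τ p, AA (actE τ p) = AA p := by
    intro τ p
    show ∏ σ, α (actE τ p σ) = ∏ σ, α (p σ)
    simp only [hact]
    exact Equiv.prod_comp (Equiv.mulLeft τ⁻¹) (fun σ => α (p σ))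
  have hM' : ∀ τ p, M' (actE τ p) = M' p := by
    intro τ p
    show X ^ dd (actE τ p) * C (AA (actE τ p)) = X ^ dd p * C (AA p)
    rw [hdd, hAA]
  have hρ : ∀ τ p, τ • ρ p = ρ (actE τ p) := by
    intro τ p
    show τ • ∏ σ, ϱ σ (p σ) = ∏ σ, ϱ σ (actE τ p σ)
    rw [Finset.smul_prod']
    simp only [hact]
    rw [← Equiv.prod_comp (Equiv.mulLeft τ) (fun σ => ϱ σ (p (τ⁻¹ * σ)))]
    refine Finset.prod_congr rfl fun σ _ => ?_
    show τ • ϱ σ (p σ) = ϱ (τ * σ) (p (τ⁻¹ * (τ * σ)))
    rw [inv_mul_cancel_left]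
    cases p σ with
    | none => simp [ϱ]
    | some k => simp [ϱ, mul_smul]
  have hexp : ∏ σ : G, (X - C (σ • ∑ k, f (a k) * r k)) =
      ∑ p : G → Option K, X ^ dd p * C (f (AA p)) * C (ρ p) := by
    have h1 : ∀ σ : G, (X - C (σ • ∑ k, f (a k) * r k) : R[X]) =
        ∑ o : Option K, X ^ e o * C (f (α o)) * C (ϱ σ o) := by
      intro σ
      rw [Fintype.sum_option]
      simp only [e, α, ϱ, Option.elim_none, Option.elim_some, pow_one, pow_zero, map_one,
        mul_one, one_mul]
      rw [Finset.smul_sum, map_sum, sub_eq_add_neg, ← Finset.sum_neg_distrib]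
      congr 1
      refine Finset.sum_congr rfl fun k _ => ?_
      rw [smul_mul', hf, smul_algebraMap, map_neg, map_neg, map_mul, neg_mul]
    simp_rw [h1]
    rw [Finset.prod_univ_sum]
    simp only [Fintype.piFinset_univ]
    refine Finset.sum_congr rfl fun p _ => ?_
    show ∏ σ, (X ^ e (p σ) * C (f (α (p σ))) * C (ϱ σ (p σ))) =
      X ^ (∑ σ, e (p σ)) * C (f (∏ σ, α (p σ))) * C (∏ σ, ϱ σ (p σ))
    rw [Finset.prod_mul_distrib, Finset.prod_mul_distrib, Finset.prod_pow_eq_pow_sum,
      map_prod f, map_prod C, map_prod C]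
  have hne : ∀ p, p ≠ p₀ → dd p < Fintype.card G ∧ AA p ∈ J := by
    intro p hp
    obtain ⟨σ₀, hσ₀⟩ := Function.ne_iff.mp hp
    obtain ⟨k, hk⟩ := Option.ne_none_iff_exists'.mp hσ₀
    constructor
    · have h1 : ∑ σ, e (p σ) < ∑ _σ : G, 1 := by
        refine Finset.sum_lt_sum (fun σ _ => ?_) ⟨σ₀, Finset.mem_univ _, ?_⟩
        · cases p σ <;> simp [e]
        · rw [hk]; simp [e]
      calc dd p = ∑ σ, e (p σ) := rfl
        _ < ∑ _σ : G, 1 := h1
        _ = Fintype.card G := by simp
    · have h1 : α (p σ₀) ∈ J := by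
        rw [hk]
        show - a k ∈ J
        exact J.neg_mem (ha k)
      exact Ideal.mem_of_dvd J (Finset.dvd_prod_of_mem _ (Finset.mem_univ σ₀)) h1
  let S : Finset (G → Option K) := Finset.univ.erase p₀
  have hS : ∀ p, p ∈ S ↔ p ≠ p₀ := fun p => by simp [S]
  have hSact : ∀ τ p, p ∈ S ↔ actE τ p ∈ S := by
    intro τ p
    rw [hS, hS]
    have h0 : actE τ p₀ = p₀ := funext fun σ => hact τ p₀ σ
    constructor
    · intro h h'
      apply h
      rw [← h0] at h'
      exact (actE τ).injective h'
    · intro h h'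
      apply h
      rw [h', h0]
  let cfun : A[X] → R := fun v => ∑ p ∈ S with M' p = v, ρ p
  have hcinv : ∀ v (τ : G), τ • cfun v = cfun v := by
    intro v τ
    show τ • ∑ p ∈ S with M' p = v, ρ p = ∑ p ∈ S with M' p = v, ρ p
    rw [Finset.smul_sum]
    refine Finset.sum_equiv (actE τ) (fun p => ?_) (fun p _ => hρ τ p)
    simp only [Finset.mem_filter]
    rw [← hSact τ p, hM']
  have hlift : ∀ v, ∃ c' : A, f c' = cfun v := fun v => by
    rw [hf]
    exact Algebra.IsInvariant.isInvariant (A := A) (G := G) (cfun v) (hcinv v)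
  choose c' hc' using hlift
  let Q₁ : A[X] := ∑ v ∈ S.image M', v * C (c' v)
  have hcoef : ∀ p c i, (M' p * C c).coeff i = if dd p = i then AA p * c else 0 := by
    intro p c i
    have : M' p * C c = Polynomial.monomial (dd p) (AA p * c) := by
      rw [← Polynomial.C_mul_X_pow_eq_monomial, map_mul]
      show X ^ dd p * C (AA p) * C c = _
      ring
    rw [this, Polynomial.coeff_monomial]
  have hQ1J : ∀ i, Q₁.coeff i ∈ J := by
    intro i
    show (∑ v ∈ S.image M', v * C (c' v)).coeff i ∈ J
    rw [Polynomial.finset_sum_coeff]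
    refine J.sum_mem fun v hv => ?_
    obtain ⟨p, hp, rfl⟩ := Finset.mem_image.mp hv
    rw [hcoef]
    split_ifs
    · exact J.mul_mem_right _ (hne p ((hS p).mp hp)).2
    · exact J.zero_mem
  have hQ1deg : Q₁.degree < (Fintype.card G : ℕ) := by
    rw [Polynomial.degree_lt_iff_coeff_zero]
    intro m hm
    show (∑ v ∈ S.image M', v * C (c' v)).coeff m = 0
    rw [Polynomial.finset_sum_coeff]
    refine Finset.sum_eq_zero fun v hv => ?_
    obtain ⟨p, hp, rfl⟩ := Finset.mem_image.mp hv
    rw [hcoef, if_neg]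
    have := (hne p ((hS p).mp hp)).1
    omega
  refine ⟨X ^ Fintype.card G + Q₁, Polynomial.monic_X_pow_add hQ1deg, ?_, ?_, ?_⟩
  · refine (Polynomial.natDegree_add_le _ _).trans
      (max_le (Polynomial.natDegree_X_pow_le _) ?_)
    exact Polynomial.natDegree_le_of_degree_le hQ1deg.le
  · intro i hi
    rw [Polynomial.coeff_add, Polynomial.coeff_X_pow, if_neg (ne_of_lt hi), zero_add]
    exact hQ1J i
  · rw [hexp, ← Finset.add_sum_erase Finset.univ _ (Finset.mem_univ p₀)]
    rw [Polynomial.map_add, Polynomial.map_pow, Polynomial.map_X]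
    congr 1
    · have h1 : dd p₀ = Fintype.card G := by simp [dd, p₀, e]
      have h2 : AA p₀ = 1 := by simp [AA, p₀, α]
      have h3 : ρ p₀ = 1 := by simp [ρ, p₀, ϱ]
      rw [h1, h2, h3, map_one, map_one, mul_one, mul_one]
    · show Polynomial.map f (∑ v ∈ S.image M', v * C (c' v)) =
        ∑ p ∈ S, X ^ dd p * C (f (AA p)) * C (ρ p)
      rw [Polynomial.map_sum]
      rw [← Finset.sum_fiberwise_of_maps_to (g := M') (t := S.image M')
        (fun p hp => Finset.mem_image_of_mem _ hp)]
      refine Finset.sum_congr rfl fun v _ => ?_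
      rw [Polynomial.map_mul, Polynomial.map_C, hc']
      show Polynomial.map f v * C (∑ p ∈ S with M' p = v, ρ p) = _
      rw [map_sum, Finset.mul_sum]
      refine Finset.sum_congr rfl fun p hp => ?_
      rw [← (Finset.mem_filter.mp hp).2]
      show Polynomial.map f (X ^ dd p * C (AA p)) * C (ρ p) = _
      rw [Polynomial.map_mul, Polynomial.map_pow, Polynomial.map_X, Polynomial.map_C]


/-- Suppose a finite group G with n elements acts on a ring R by ring automorphisms, A → R is a ring map
compatible with the action whose image contains the invariants (so that A maps onto R^G), J is an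
ideal of A, and x lies in JR. Then ∏_σ (T - σ(x)) is the image of a monic polynomial over A of
degree at most n whose coefficients below degree n all lie in J. (The published statement takes A =
R^G and a polynomial of degree n; this row allows any such A mapping onto R^G and asks degree at
most n, which is the same when A is nonzero.) -/
theorem result (A R G : Type u) [CommRing A]
    [CommRing R] [Algebra A R] [Group G] [Fintype G] [MulSemiringAction G R] [SMulCommClass G A R]
    [Algebra.IsInvariant A R G] (J : Ideal A) (x : R) (hx : x ∈ Ideal.map (algebraMap A R) J) :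
    ∃ P : Polynomial A, P.Monic ∧ P.natDegree ≤ Fintype.card G ∧
      (∀ i : ℕ, i < Fintype.card G → P.coeff i ∈ J) ∧
      Polynomial.map (algebraMap A R) P = ∏ σ : G, (Polynomial.X - Polynomial.C (σ • x)) := by
  classical
  rw [Ideal.map, Ideal.span, Finsupp.mem_span_image_iff_linearCombination] at hx
  obtain ⟨l, hl, rfl⟩ := hx
  have hsupp : ∀ k : l.support, (k : A) ∈ J := fun k =>
    (Finsupp.mem_supported _ l).mp hl k.2
  obtain ⟨P, h1, h2, h3, h4⟩ := main (G := G) (algebraMap A R) rfl J
    (fun k : l.support => (k : A)) hsupp (fun k => l k)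
  refine ⟨P, h1, h2, h3, ?_⟩
  rw [h4]
  have : (∑ k : l.support, algebraMap A R (k : A) * l k) =
      Finsupp.linearCombination R (algebraMap A R) l := by
    rw [Finsupp.linearCombination_apply, Finsupp.sum,
      ← Finset.sum_coe_sort l.support (fun a => l a • algebraMap A R a)]
    refine Finset.sum_congr rfl fun k _ => ?_
    rw [smul_eq_mul, mul_comm]
  rw [this]

end Groth.Agent.S9260
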