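import Groth.Statements.S9261
import Mathlib
-- import your own Groth.Agent.* helpers here

set_option autoImplicit false
universe u
open CAlg

namespace Groth.Agent.S9261

/-- Let G be a finite group acting on a ring R, S = R^G its ring of invariants (here: S → R injective
with image the invariants) and A a flat S-algebra. Then the map A → A ⊗_S R is injective with image
the invariants of G acting on A ⊗_S R through the second factor; that is, A → (A ⊗_S R)^G is an
isomorphism. -/
theorem result (S R A G : Type u) [CommRing S] [CommRing R] [Algebra S R]
    [FaithfulSMul S R] [Group G] [Finite G] [MulSemiringAction G R] [SMulCommClass G S R]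
    [Algebra.IsInvariant S R G] [CommRing A] [Algebra S A] [Module.Flat S A] :
    Function.Injective (algebraMap A (TensorProduct S A R)) ∧
      ∀ x : TensorProduct S A R,
        (∀ σ : G, Algebra.TensorProduct.map (AlgHom.id S A) (MulSemiringAction.toAlgHom S R σ) x = x) →
          x ∈ Set.range (algebraMap A (TensorProduct S A R)) := by
  classical
  have := Fintype.ofFinite G
  let f : S →ₗ[S] R := Algebra.linearMap S R
  have hf : Function.Injective f := FaithfulSMul.algebraMap_injective S R
  let g : R →ₗ[S] (G → R) :=
    LinearMap.pi (fun σ => (MulSemiringAction.toAlgHom S R σ).toLinearMap - LinearMap.id)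
  have hex : Function.Exact f g := by
    intro r
    constructor
    · intro h
      obtain ⟨a, ha⟩ := Algebra.IsInvariant.isInvariant (A := S) (G := G) r (fun σ => by
        have := congrFun h σ
        simpa [g, sub_eq_zero] using this)
      exact ⟨a, ha⟩
    · rintro ⟨a, rfl⟩
      ext σ
      simp [g, f]
  have hex' := Module.Flat.lTensor_exact A hex
  have hinj := Module.Flat.lTensor_preserves_injective_linearMap (M := A) f hf
  have hcomp : ∀ a : A, algebraMap A (TensorProduct S A R) a =
      (f.lTensor A) ((TensorProduct.rid S A).symm a) := by
    intro a
    simp [f, Algebra.TensorProduct.algebraMap_apply]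
  refine ⟨?_, ?_⟩
  · intro a b hab
    rw [hcomp, hcomp] at hab
    exact (TensorProduct.rid S A).symm.injective (hinj hab)
  · intro x hx
    have hkey : (TensorProduct.piRight S S A (fun _ : G => R)).toLinearMap ∘ₗ (g.lTensor A) =
        LinearMap.pi (fun σ => (Algebra.TensorProduct.map (AlgHom.id S A)
          (MulSemiringAction.toAlgHom S R σ)).toLinearMap - LinearMap.id) := by
      apply TensorProduct.ext'
      intro a r
      ext σ
      simp [g, TensorProduct.tmul_sub]
    have h0 : (g.lTensor A) x = 0 := by
      apply (TensorProduct.piRight S S A (fun _ : G => R)).injective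
      rw [map_zero]
      have := LinearMap.congr_fun hkey x
      simp only [LinearMap.coe_comp, Function.comp_apply, LinearEquiv.coe_coe] at this
      rw [this]
      ext σ
      have h2 := hx σ
      simp only [LinearMap.pi_apply, LinearMap.sub_apply, AlgHom.toLinearMap_apply,
        LinearMap.id_apply, Pi.zero_apply]
      rw [h2, sub_self]
    obtain ⟨y, rfl⟩ := (hex' x).1 h0
    refine ⟨TensorProduct.rid S A y, ?_⟩
    rw [hcomp, LinearEquiv.symm_apply_apply]

end Groth.Agent.S9261
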