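import Groth.Statements.S9273
import Mathlib
-- import your own Groth.Agent.* helpers here

set_option autoImplicit false
universe u
open CAlgX

namespace Groth.Agent.S9273

open TensorProduct

section
variable {A B A' : Type u} [CommRing A] [CommRing B] [CommRing A'] [Algebra A B] [Algebra A A']
  {r : ℕ} (f : Fin r → B)

/-- The `A`-linear map `(Fin r → B) → B`, `v ↦ ∑ v i * f i`. -/
noncomputable def phi : (Fin r → B) →ₗ[A] B where
  toFun v := ∑ i, v i * f i
  map_add' v w := by simp [add_mul, Finset.sum_add_distrib]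
  map_smul' a v := by simp [Finset.smul_sum, smul_mul_assoc]

/-- The comparison map `A' ⊗ (Fin r → B) → (Fin r → A' ⊗ B)`. -/
noncomputable def E : A' ⊗[A] (Fin r → B) →ₗ[A] (Fin r → A' ⊗[A] B) :=
  LinearMap.pi fun i => (LinearMap.proj i : (Fin r → B) →ₗ[A] B).lTensor A'

theorem E_tmul (α : A') (v : Fin r → B) (i : Fin r) : E (A := A) (α ⊗ₜ[A] v) i = α ⊗ₜ[A] v i := by
  simp [E]

theorem E_surjective : Function.Surjective (E (A := A) (B := B) (A' := A') (r := r)) := by
  classical
  intro a'
  have h1 : ∀ (i : Fin r) (y : A' ⊗[A] B), Pi.single i y ∈ LinearMap.range (E (A := A) (B := B) (A' := A') (r := r)) := by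
    intro i y
    induction y using TensorProduct.induction_on with
    | zero => simp
    | tmul α b =>
      refine ⟨α ⊗ₜ[A] Pi.single i b, ?_⟩
      funext j
      rw [E_tmul]
      by_cases hji : j = i
      · subst hji; simp
      · simp [Pi.single_eq_of_ne hji]
    | add y z hy hz =>
      rw [Pi.single_add]
      exact Submodule.add_mem _ hy hz
  have h2 : a' = ∑ i, Pi.single i (a' i) := by
    funext j
    simp [Finset.sum_apply, Pi.single_apply]
  rw [h2]
  exact Submodule.sum_mem _ (fun i _ => h1 i (a' i))

theorem sum_E_mul (t : A' ⊗[A] (Fin r → B)) :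
    ∑ i, E (A := A) t i * ((1 : A') ⊗ₜ[A] f i) = (phi (A := A) f).lTensor A' t := by
  induction t using TensorProduct.induction_on with
  | zero => simp
  | tmul α v =>
    simp only [E_tmul, LinearMap.lTensor_tmul, phi, LinearMap.coe_mk, AddHom.coe_mk,
      Algebra.TensorProduct.tmul_mul_tmul, mul_one, TensorProduct.tmul_sum]
  | add s t hs ht =>
    simp only [map_add, Pi.add_apply, add_mul, Finset.sum_add_distrib, hs, ht]

end

/-- Let A → B and A → A' be ring maps and B' = A' ⊗_A B. If f_1, ..., f_r is an H_1-regular sequence in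
B with B/(f_1, ..., f_r) flat over A, then the images of the f_i in B' form an H_1-regular sequence. -/
theorem result (A B A' : Type u) [CommRing A] [CommRing B]
    [CommRing A'] [Algebra A B] [Algebra A A'] (r : ℕ) (f : Fin r → B)
    (hflat : Module.Flat A (B ⧸ Ideal.span (Set.range f))) (hq : CAlgX.IsH1Regular f) :
    CAlgX.IsH1Regular (fun i => ((1 : A') ⊗ₜ[A] f i : TensorProduct A A' B)) := by
  classical
  intro a' ha'
  obtain ⟨t, rfl⟩ := E_surjective (A := A) (B := B) (A' := A') (r := r) a'
  rw [sum_E_mul] at ha'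
  -- the ideal and factorization
  set J : Ideal B := Ideal.span (Set.range f) with hJ
  let JA : Submodule A B := J.restrictScalars A
  have hphiJ : ∀ v, phi (A := A) f v ∈ JA := by
    intro v
    show ∑ i, v i * f i ∈ J
    exact Ideal.sum_mem _ (fun i _ => Ideal.mul_mem_left _ _ (Ideal.subset_span ⟨i, rfl⟩))
  let ψ : (Fin r → B) →ₗ[A] JA := (phi (A := A) f).codRestrict JA hphiJ
  have hψsurj : Function.Surjective ψ := by
    rintro ⟨y, hy⟩
    have hy' : y ∈ Ideal.span (Set.range f) := hy
    obtain ⟨c, hc⟩ := (Ideal.mem_span_range_iff_exists_fun).mp hy'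
    refine ⟨c, Subtype.ext ?_⟩
    exact hc
  have hfact : phi (A := A) f = JA.subtype ∘ₗ ψ := by
    ext v
    rfl
  -- injectivity of the tensored inclusion, from flatness of the quotient
  let π : B →ₗ[A] (B ⧸ J) := (Submodule.mkQ J).restrictScalars A
  have hπsurj : Function.Surjective π := Submodule.mkQ_surjective J
  have hexact1 : Function.Exact JA.subtype π := by
    intro y
    constructor
    · intro hy
      have : y ∈ J := (Submodule.Quotient.mk_eq_zero J).mp hy
      exact ⟨⟨y, this⟩, rfl⟩
    · rintro ⟨z, rfl⟩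
      exact (Submodule.Quotient.mk_eq_zero J).mpr z.2
  have hinj : Function.Injective (JA.subtype.lTensor A') :=
    LinearMap.lTensor_injective_of_exact_of_flat π hπsurj JA.subtype (Submodule.injective_subtype _)
      hexact1 A'
  have hψt : ψ.lTensor A' t = 0 := by
    apply hinj
    rw [map_zero, ← LinearMap.comp_apply, ← LinearMap.lTensor_comp, ← hfact]
    exact ha'
  have hexact2 : Function.Exact ((LinearMap.ker ψ).subtype.lTensor A') (ψ.lTensor A') :=
    lTensor_exact A' (LinearMap.exact_subtype_ker_map ψ) hψsurj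
  obtain ⟨s, hs⟩ := (hexact2 t).mp hψt
  rw [← hs]
  clear hs ha' hψt
  -- now an induction on `s`
  set T' : Set (Fin r → A' ⊗[A] B) := {v | ∃ i j : Fin r,
    v = Pi.single i ((1 : A') ⊗ₜ[A] f j) - Pi.single j ((1 : A') ⊗ₜ[A] f i)} with hT'
  have key : ∀ (α : A') (z : Fin r → B),
      z ∈ Submodule.span B {v : Fin r → B | ∃ i j : Fin r, v = Pi.single i (f j) - Pi.single j (f i)} →
      E (A := A) (α ⊗ₜ[A] z) ∈ Submodule.span (A' ⊗[A] B) T' := by
    intro α z hz
    induction hz using Submodule.span_induction with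
    | mem z hz =>
      obtain ⟨i, j, rfl⟩ := hz
      have : E (A := A) (α ⊗ₜ[A] (Pi.single i (f j) - Pi.single j (f i))) =
          (α ⊗ₜ[A] (1 : B)) • ((Pi.single i ((1 : A') ⊗ₜ[A] f j) : Fin r → A' ⊗[A] B) -
            Pi.single j ((1 : A') ⊗ₜ[A] f i)) := by
        funext l
        rw [E_tmul]
        simp only [Pi.sub_apply, Pi.smul_apply, smul_eq_mul, mul_sub, TensorProduct.tmul_sub]
        congr 1
        · by_cases hl : l = i
          · subst hl; simp
          · simp [Pi.single_eq_of_ne hl]
        · by_cases hl : l = j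
          · subst hl; simp
          · simp [Pi.single_eq_of_ne hl]
      rw [this]
      exact Submodule.smul_mem _ _ (Submodule.subset_span ⟨i, j, rfl⟩)
    | zero => simp
    | add x y _ _ hx hy =>
      rw [TensorProduct.tmul_add, map_add]
      exact Submodule.add_mem _ hx hy
    | smul b x _ hx =>
      have : E (A := A) (α ⊗ₜ[A] (b • x)) = ((1 : A') ⊗ₜ[A] b) • E (A := A) (α ⊗ₜ[A] x) := by
        funext l
        rw [E_tmul]
        simp only [Pi.smul_apply, smul_eq_mul, E_tmul, Algebra.TensorProduct.tmul_mul_tmul, one_mul]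
      rw [this]
      exact Submodule.smul_mem _ _ hx
  induction s using TensorProduct.induction_on with
  | zero => simp
  | tmul α z =>
    rw [LinearMap.lTensor_tmul]
    apply key
    apply hq
    have hz : ψ z.1 = 0 := z.2
    have := congrArg Subtype.val hz
    exact this
  | add s₁ s₂ h₁ h₂ =>
    rw [map_add, map_add]
    exact Submodule.add_mem _ h₁ h₂

end Groth.Agent.S9273
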