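import Groth.Statements.S9275
import Mathlib.RingTheory.RingHom.Etale
-- import your own Groth.Agent.* helpers here

set_option autoImplicit false
universe u
open EtAlg

namespace Groth.Agent.S9275

/-- Let A → B be a ring map and J an ideal of B such that A → B is étale at every prime of V(J), in the
sense that every prime q ⊇ J has some h ∉ q with A → B_h étale. Then there is g ∈ B mapping to a
unit of B/J such that A → B_g is étale. -/
theorem result (A B : Type u) [CommRing A] [CommRing B]
    [Algebra A B] (J : Ideal B)
    (h : ∀ (q : Ideal B) [q.IsPrime], J ≤ q → ∃ h : B, h ∉ q ∧ Algebra.Etale A (Localization.Away h)) :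
    ∃ g : B, IsUnit (Ideal.Quotient.mk J g) ∧ Algebra.Etale A (Localization.Away g) := by
  classical
  let H : Set B := {h : B | Algebra.Etale A (Localization.Away h)}
  have htop : Ideal.span H ⊔ J = ⊤ := by
    by_contra hne
    obtain ⟨q, hq, hle⟩ := Ideal.exists_le_maximal _ hne
    have hqp : q.IsPrime := hq.isPrime
    obtain ⟨h0, hh0, het⟩ := h q (le_sup_right.trans hle)
    exact hh0 (hle (Ideal.mem_sup_left (Ideal.subset_span het)))
  have h1 : (1 : B) ∈ Ideal.span H ⊔ J := htop ▸ Submodule.mem_top
  obtain ⟨g, hg, j, hj, hgj⟩ := Submodule.mem_sup.mp h1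
  refine ⟨g, ?_, ?_⟩
  · have : Ideal.Quotient.mk J g = 1 := by
      rw [← map_one (Ideal.Quotient.mk J), ← hgj, map_add, Ideal.Quotient.eq_zero_iff_mem.mpr hj,
        add_zero]
    rw [this]
    exact isUnit_one
  · rw [← RingHom.etale_algebraMap]
    have hs : Ideal.span ((algebraMap B (Localization.Away g)) '' H) = ⊤ := by
      rw [← Ideal.map_span]
      exact Ideal.eq_top_of_isUnit_mem _ (Ideal.mem_map_of_mem _ hg)
        (IsLocalization.Away.algebraMap_isUnit g)
    apply RingHom.Etale.ofLocalizationSpanTarget (algebraMap A (Localization.Away g)) _ hs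
    rintro ⟨r, h0, hh0, rfl⟩
    rw [← IsScalarTower.algebraMap_eq A (Localization.Away g)
      (Localization.Away (algebraMap B (Localization.Away g) h0)), RingHom.etale_algebraMap]
    haveI : Algebra.Etale A (Localization.Away h0) := hh0
    haveI : Algebra.Etale (Localization.Away h0)
        (Localization.Away (algebraMap B (Localization.Away h0) g)) :=
      Algebra.Etale.of_isLocalizationAway (algebraMap B (Localization.Away h0) g)
    haveI : Algebra.Etale A (Localization.Away (algebraMap B (Localization.Away h0) g)) :=
      Algebra.Etale.comp A (Localization.Away h0) _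
    haveI i1 : IsLocalization.Away (g * h0)
        (Localization.Away (algebraMap B (Localization.Away h0) g)) := inferInstance
    haveI i2 : IsLocalization.Away (g * h0)
        (Localization.Away (algebraMap B (Localization.Away g) h0)) := by
      rw [mul_comm]
      infer_instance
    let e : Localization.Away (algebraMap B (Localization.Away h0) g) ≃ₐ[B]
        Localization.Away (algebraMap B (Localization.Away g) h0) :=
      IsLocalization.algEquiv (Submonoid.powers (g * h0)) _ _
    exact Algebra.Etale.of_equiv (e.restrictScalars A)

end Groth.Agent.S9275
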