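import Groth.Statements.S9282
import Mathlib
-- import your own Groth.Agent.* helpers here

set_option autoImplicit false
universe u
open CAlg

namespace Groth.Agent.S9282

open Algebra in
theorem cotangent_map_injective (A B K : Type u) [CommRing A] [CommRing B] [CommRing K]
    [Algebra A B] [Algebra A K] [Algebra B K] [IsScalarTower A B K]
    (𝔫 : Ideal B) (h𝔫 : 𝔫 ≤ RingHom.ker (algebraMap B K))
    (hfs : CAlgX.IsAdicFormallySmooth A B 𝔫) :
    Function.Injective (Extension.Cotangent.map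
      ((Generators.defaultHom (Generators.self A K) (Generators.self B K)).toExtensionHom)) := by
  classical
  let f := (Generators.defaultHom (Generators.self A K) (Generators.self B K)).toExtensionHom
  let 𝔐 : Ideal (MvPolynomial K A) := (Generators.self A K).toExtension.ker
  have hmem𝔐 : ∀ y, y ∈ 𝔐 ↔ MvPolynomial.aeval (R := A) (fun k : K => k) y = 0 := fun y => by
    change y ∈ RingHom.ker _ ↔ _
    rw [RingHom.mem_ker]
    rfl
  let 𝔑 : Ideal (MvPolynomial K A ⧸ 𝔐 ^ 2) := 𝔐.map (Ideal.Quotient.mk (𝔐 ^ 2))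
  have h𝔑 : 𝔑 ^ 2 = ⊥ := by
    rw [← Ideal.map_pow, eq_bot_iff, Ideal.map_le_iff_le_comap]
    intro y hy
    rw [Ideal.mem_comap, Ideal.mem_bot]
    exact Ideal.Quotient.eq_zero_iff_mem.mpr hy
  let q : MvPolynomial K A →ₐ[A] K := MvPolynomial.aeval (fun k : K => k)
  have hqsurj : Function.Surjective q := fun k => ⟨MvPolynomial.X k, by simp [q]⟩
  have hkerq : RingHom.ker q = 𝔐 := by
    ext y
    rw [hmem𝔐, RingHom.mem_ker]
  let e : (MvPolynomial K A ⧸ RingHom.ker q) ≃ₐ[A] K := Ideal.quotientKerAlgEquivOfSurjective hqsurj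
  let φ : MvPolynomial K A →ₐ[A] (MvPolynomial K A ⧸ 𝔐 ^ 2) ⧸ 𝔑 :=
    (Ideal.Quotient.mkₐ A 𝔑).comp (Ideal.Quotient.mkₐ A (𝔐 ^ 2))
  have hφ0 : ∀ y ∈ 𝔐, φ y = 0 := by
    intro y hy
    change Ideal.Quotient.mk 𝔑 (Ideal.Quotient.mk (𝔐 ^ 2) y) = 0
    exact Ideal.Quotient.eq_zero_iff_mem.mpr (Ideal.mem_map_of_mem _ hy)
  let j₀ : (MvPolynomial K A ⧸ RingHom.ker q) →ₐ[A] (MvPolynomial K A ⧸ 𝔐 ^ 2) ⧸ 𝔑 :=
    Ideal.Quotient.liftₐ (RingHom.ker q) φ (fun y hy => hφ0 y (hkerq ▸ hy))
  let j : K →ₐ[A] (MvPolynomial K A ⧸ 𝔐 ^ 2) ⧸ 𝔑 := j₀.comp e.symm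
  have hj : ∀ y, j (q y) = φ y := by
    intro y
    have h1 : e.symm (q y) = Ideal.Quotient.mk _ y := by
      rw [AlgEquiv.symm_apply_eq]
      rfl
    change j₀ (e.symm (q y)) = φ y
    rw [h1]
    rfl
  let ψ : B →ₐ[A] (MvPolynomial K A ⧸ 𝔐 ^ 2) ⧸ 𝔑 := j.comp (IsScalarTower.toAlgHom A B K)
  have hψ : ∃ k : ℕ, ∀ x ∈ 𝔫 ^ k, ψ x = 0 := by
    refine ⟨1, fun x hx => ?_⟩
    rw [pow_one] at hx
    change j (algebraMap B K x) = 0
    rw [RingHom.mem_ker.mp (h𝔫 hx), map_zero]
  obtain ⟨χ, hχ⟩ := hfs (MvPolynomial K A ⧸ 𝔐 ^ 2) 𝔑 h𝔑 ψ hψ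
  let Φ : MvPolynomial K B →+* (MvPolynomial K A ⧸ 𝔐 ^ 2) :=
    MvPolynomial.eval₂Hom (χ : B →+* (MvPolynomial K A ⧸ 𝔐 ^ 2))
      (fun k => Ideal.Quotient.mk (𝔐 ^ 2) (MvPolynomial.X k))
  let F : MvPolynomial K A →ₐ[A] MvPolynomial K B :=
    MvPolynomial.aeval (fun k : K => (MvPolynomial.X k : MvPolynomial K B))
  have hfF : ∀ y : MvPolynomial K A, f.toAlgHom y = F y := by
    intro y
    have h1 : (Generators.defaultHom (Generators.self A K) (Generators.self B K)).val =
        fun k : K => (MvPolynomial.X k : MvPolynomial K B) := by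
      funext k
      simp [Generators.defaultHom, Generators.self, Generators.σ]
    change MvPolynomial.aeval
      (Generators.defaultHom (Generators.self A K) (Generators.self B K)).val y = F y
    rw [h1]
  have hΦF : ∀ y : MvPolynomial K A, Φ (F y) = Ideal.Quotient.mk (𝔐 ^ 2) y := by
    intro y
    induction y using MvPolynomial.induction_on with
    | C a =>
      have h1 : F (MvPolynomial.C a) = MvPolynomial.C (algebraMap A B a) :=
        MvPolynomial.aeval_C _ a
      rw [h1]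
      change MvPolynomial.eval₂ _ _ _ = _
      rw [MvPolynomial.eval₂_C]
      change χ (algebraMap A B a) = _
      rw [AlgHom.commutes]
      rfl
    | add p q hp hq => rw [map_add, map_add, hp, hq, map_add]
    | mul_X p i hp =>
      have h1 : F (MvPolynomial.X i) = MvPolynomial.X i := MvPolynomial.aeval_X _ i
      rw [map_mul, map_mul, hp, h1, map_mul]
      congr 1
      change MvPolynomial.eval₂ _ _ _ = _
      rw [MvPolynomial.eval₂_X]
  have hΦf : ∀ y : MvPolynomial K A, Φ (f.toAlgHom y) = Ideal.Quotient.mk (𝔐 ^ 2) y := by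
    intro y
    rw [hfF, hΦF]
  have hΦK : ∀ y : MvPolynomial K B, Ideal.Quotient.mk 𝔑 (Φ y) =
      j (MvPolynomial.aeval (R := B) (fun k : K => k) y) := by
    intro y
    induction y using MvPolynomial.induction_on with
    | C b =>
      rw [MvPolynomial.aeval_C]
      change Ideal.Quotient.mk 𝔑 (MvPolynomial.eval₂ _ _ _) = _
      rw [MvPolynomial.eval₂_C]
      exact DFunLike.congr_fun hχ b
    | add p q hp hq => rw [map_add, map_add, hp, hq, map_add, map_add]
    | mul_X p i hp =>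
      rw [map_mul, map_mul, hp, map_mul, map_mul]
      congr 1
      rw [MvPolynomial.aeval_X]
      change Ideal.Quotient.mk 𝔑 (MvPolynomial.eval₂ _ _ _) = _
      rw [MvPolynomial.eval₂_X]
      have := hj (MvPolynomial.X i)
      rw [show q (MvPolynomial.X i) = i from MvPolynomial.aeval_X _ i] at this
      rw [this]
      rfl
  let 𝔎 : Ideal (MvPolynomial K B) := (Generators.self B K).toExtension.ker
  have hΦker : ∀ y : MvPolynomial K B, y ∈ 𝔎 → Φ y ∈ 𝔑 := by
    intro y hy
    rw [← Ideal.Quotient.eq_zero_iff_mem, hΦK]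
    have : MvPolynomial.aeval (R := B) (fun k : K => k) y = 0 := RingHom.mem_ker.mp hy
    rw [this, map_zero]
  have h𝔑' : 𝔑 * 𝔑 = ⊥ := (pow_two 𝔑).symm.trans h𝔑
  have hΦker2 : ∀ y : MvPolynomial K B, y ∈ 𝔎 * 𝔎 → Φ y = 0 := by
    intro y hy
    have h1 : Φ y ∈ 𝔑 * 𝔑 := by
      refine Submodule.mul_induction_on hy ?_ ?_
      · intro a ha b hb
        rw [map_mul]
        exact Ideal.mul_mem_mul (hΦker a ha) (hΦker b hb)
      · intro a b ha hb
        rw [map_add]
        exact Ideal.add_mem _ ha hb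
    rw [h𝔑'] at h1
    exact h1
  rw [injective_iff_map_eq_zero]
  intro c hc
  obtain ⟨x, rfl⟩ := Extension.Cotangent.mk_surjective c
  rw [Extension.Cotangent.map_mk, Extension.Cotangent.mk_eq_zero_iff] at hc
  rw [Extension.Cotangent.mk_eq_zero_iff]
  have hc' : (f.toAlgHom x.1 : MvPolynomial K B) ∈ 𝔎 * 𝔎 := (pow_two 𝔎) ▸ hc
  have h1 := hΦker2 _ hc'
  rw [hΦf] at h1
  exact Ideal.Quotient.eq_zero_iff_mem.mp h1

/-- Let A → B be a local ring map between Noetherian local rings that is formally smooth for the adic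
topology of the maximal ideal of B, and write K for the residue field of B. In the Jacobi–Zariski
sequence attached to A → B → K, the map from H_1(NL_{K/A}) to H_1(NL_{K/B}), which is m_B/m_B^2, is
injective; the remaining terms are exact in general, so that sequence starts with a zero. -/
theorem result (A B : Type u) [CommRing A]
    [CommRing B] [IsLocalRing A] [IsLocalRing B] [IsNoetherianRing A] [IsNoetherianRing B]
    [Algebra A B] [IsLocalHom (algebraMap A B)]
    (hfs : CAlgX.IsAdicFormallySmooth A B (IsLocalRing.maximalIdeal B)) :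
    Function.Injective
      (Algebra.H1Cotangent.map A B (IsLocalRing.ResidueField B) (IsLocalRing.ResidueField B)) := by
  intro z₁ z₂ hz
  have h1 := cotangent_map_injective A B (IsLocalRing.ResidueField B) (IsLocalRing.maximalIdeal B)
    (fun x hx => by
      rw [RingHom.mem_ker]
      exact (IsLocalRing.residue_eq_zero_iff x).mpr hx) hfs
  apply Subtype.ext
  apply h1
  exact congrArg Subtype.val hz

end Groth.Agent.S9282
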