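import Groth.Statements.S9284
import Groth.Agent.Lib.Helper14.PropertyP
-- import your own Groth.Agent.* helpers here

set_option autoImplicit false
universe u
open CAlgX

namespace Groth.Agent.S9284

/-- Let R be a ring such that every proper finitely generated ideal of R has a nonzero annihilator, and
let u : N → M be an R-linear map between projective R-modules. Then u stays injective after
tensoring with every R-module exactly when u is injective. -/
theorem result (R : Type u) [CommRing R]
    (hP : (∀ I : Ideal R, I.FG → I ≠ ⊤ → I.annihilator ≠ ⊥))
    (N M : Type u) [AddCommGroup N] [Module R N] [Module.Projective R N] [AddCommGroup M]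
    [Module R M] [Module.Projective R M] (u : N →ₗ[R] M) :
    CAlgX.UniversallyInjective R u ↔ Function.Injective u := by
  classical
  constructor
  · intro h
    have h1 := h R
    intro a b hab
    have h2 : u.rTensor R (a ⊗ₜ[R] (1 : R)) = u.rTensor R (b ⊗ₜ[R] (1 : R)) := by
      rw [LinearMap.rTensor_tmul, LinearMap.rTensor_tmul, hab]
    have h3 := h1 h2
    have h4 := congrArg (TensorProduct.rid R N) h3
    simpa using h4
  · intro hu Q _ _
    have hE := Helper14.eqCrit_of_injective_of_projective hP u hu
    have hl := Helper14.lTensor_injective_of_eqCrit' u hE Q
    have hcomm : u.rTensor Q = (TensorProduct.comm R Q M).toLinearMap ∘ₗ (u.lTensor Q) ∘ₗ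
        (TensorProduct.comm R N Q).toLinearMap := by
      ext x q
      simp
    rw [hcomm]
    exact (TensorProduct.comm R Q M).injective.comp (hl.comp (TensorProduct.comm R N Q).injective)

end Groth.Agent.S9284
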