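import Groth.Statements.S9285
import Mathlib.RingTheory.Finiteness.Basic
-- import your own Groth.Agent.* helpers here

set_option autoImplicit false
universe u
open CAlg

namespace Groth.Agent.S9285

/-- A ring R has the property that every proper finitely generated ideal has a nonzero annihilator if
and only if every injective linear map R → R^n admits a retraction. -/
theorem result (R : Type u) [CommRing R] :
    (∀ I : Ideal R, I.FG → I ≠ ⊤ → I.annihilator ≠ ⊥) ↔
      ∀ (n : ℕ) (u : R →ₗ[R] (Fin n → R)), Function.Injective u →
        ∃ v : (Fin n → R) →ₗ[R] R, v.comp u = LinearMap.id := by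
  constructor
  · intro hann n u hu
    have htop : Ideal.span (Set.range (u 1)) = ⊤ := by
      by_contra hne
      have hfg : (Ideal.span (Set.range (u 1))).FG := Submodule.fg_span (Set.finite_range _)
      obtain ⟨y, hy, hy0⟩ := Submodule.exists_mem_ne_zero_of_ne_bot (hann _ hfg hne)
      apply hy0
      apply hu
      rw [map_zero]
      have h2 : u y = y • u 1 := by rw [← map_smul, smul_eq_mul, mul_one]
      rw [h2]
      ext i
      simp only [Pi.smul_apply, smul_eq_mul, Pi.zero_apply]
      exact Submodule.mem_annihilator.mp hy (u 1 i) (Ideal.subset_span ⟨i, rfl⟩)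
    have h1 : (1 : R) ∈ Ideal.span (Set.range (u 1)) := htop ▸ Submodule.mem_top
    rw [Ideal.mem_span_range_iff_exists_fun] at h1
    obtain ⟨c, hc⟩ := h1
    refine ⟨∑ i, c i • LinearMap.proj i, ?_⟩
    apply LinearMap.ext_ring
    simp only [LinearMap.coe_comp, Function.comp_apply, LinearMap.coe_sum, Finset.sum_apply,
      LinearMap.smul_apply, LinearMap.proj_apply, smul_eq_mul, LinearMap.id_coe, id_eq]
    exact hc
  · intro hret I hfg hne hann
    obtain ⟨n, a, rfl⟩ := Submodule.fg_iff_exists_fin_generating_family.mp hfg
    let u : R →ₗ[R] (Fin n → R) := LinearMap.toSpanSingleton R (Fin n → R) a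
    have hu : Function.Injective u := by
      rw [injective_iff_map_eq_zero]
      intro r hr
      have hr' : r ∈ (Submodule.span R (Set.range a)).annihilator := by
        rw [Submodule.mem_annihilator_span]
        rintro ⟨_, i, rfl⟩
        have := congrFun hr i
        simpa [u] using this
      rw [hann] at hr'
      simpa using hr'
    obtain ⟨v, hv⟩ := hret n u hu
    have h1 : v a = 1 := by
      have := LinearMap.congr_fun hv 1
      simpa [u] using this
    apply hne
    rw [Ideal.eq_top_iff_one, ← h1, LinearMap.pi_apply_eq_sum_univ v a]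
    refine Submodule.sum_mem _ (fun i _ => ?_)
    rw [smul_eq_mul]
    exact Ideal.mul_mem_right _ _ (Submodule.subset_span ⟨i, rfl⟩)

end Groth.Agent.S9285
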