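import Groth.Statements.S9286
import Groth.Agent.Lib.Helper14.PropertyP
-- import your own Groth.Agent.* helpers here

set_option autoImplicit false
universe u
open CAlg

namespace Groth.Agent.S9286

/-- Let R be a ring in which every proper finitely generated ideal has a nonzero annihilator. Given an
injective R-linear map u : N → M, where both N and M are finite and projective over R, the quotient
Coker(u) = M/u(N) is again projective as an R-module. -/
theorem result (R : Type u) [CommRing R]
    (hP : (∀ I : Ideal R, I.FG → I ≠ ⊤ → I.annihilator ≠ ⊥))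
    (N M : Type u) [AddCommGroup N] [Module R N] [Module.Finite R N] [Module.Projective R N]
    [AddCommGroup M] [Module R M] [Module.Finite R M] [Module.Projective R M]
    (u : N →ₗ[R] M) (hu : Function.Injective u) :
    Module.Projective R (M ⧸ LinearMap.range u) := by
  classical
  obtain ⟨k, f, hf⟩ := Module.Finite.exists_fin' R N
  obtain ⟨σ, hσ⟩ := Module.projective_lifting_property f LinearMap.id hf
  have hσ' : ∀ x, f (σ x) = x := fun x => LinearMap.congr_fun hσ x
  let u' : (Fin k → R) →ₗ[R] M × (Fin k → R) := LinearMap.prod (u.comp f) (LinearMap.id - σ.comp f)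
  have hu' : Function.Injective u' := by
    rw [injective_iff_map_eq_zero]
    intro g hg
    have h1 : u (f g) = 0 := congrArg Prod.fst hg
    have h2 : g - σ (f g) = 0 := congrArg Prod.snd hg
    have h3 : f g = 0 := hu (by rw [h1, map_zero])
    rw [h3, map_zero, sub_zero] at h2
    exact h2
  have hv : LinearIndependent R (u' ∘ (Pi.basisFun R (Fin k))) :=
    (Pi.basisFun R (Fin k)).linearIndependent.map' u' (LinearMap.ker_eq_bot.2 hu')
  obtain ⟨L, hL⟩ := Helper14.exists_dual_of_linearIndependent hP k _ hv
  have hLu : L.comp u' = LinearMap.id := by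
    apply (Pi.basisFun R (Fin k)).ext
    intro t
    have := hL t
    simp only [Function.comp_apply] at this
    rw [LinearMap.comp_apply, this, LinearMap.id_apply, Pi.basisFun_apply]
  let r : M →ₗ[R] N := f.comp (L.comp (LinearMap.inl R M (Fin k → R)))
  have hr : ∀ x, r (u x) = x := by
    intro x
    have h1 : u' (σ x) = (u x, 0) := by
      show (u (f (σ x)), σ x - σ (f (σ x))) = _
      rw [hσ', sub_self]
    show f (L (u x, 0)) = x
    rw [← h1]
    have := LinearMap.congr_fun hLu (σ x)
    rw [LinearMap.comp_apply, LinearMap.id_apply] at this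
    rw [this, hσ']
  let i : (M ⧸ LinearMap.range u) →ₗ[R] M :=
    Submodule.liftQ (LinearMap.range u) (LinearMap.id - u.comp r) (by
      rintro _ ⟨x, rfl⟩
      rw [LinearMap.mem_ker, LinearMap.sub_apply, LinearMap.id_apply, LinearMap.comp_apply, hr, sub_self])
  refine Module.Projective.of_split i (LinearMap.range u).mkQ ?_
  apply Submodule.linearMap_qext
  ext m
  simp only [LinearMap.comp_apply, Submodule.mkQ_apply, LinearMap.id_apply, i, Submodule.liftQ_apply,
    LinearMap.sub_apply]
  rw [Submodule.Quotient.mk_sub, sub_eq_self, Submodule.Quotient.mk_eq_zero]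
  exact ⟨_, rfl⟩

end Groth.Agent.S9286
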