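import Groth.Statements.S9291
import Mathlib

set_option autoImplicit false
universe u
open EtAlg

namespace Groth.Agent.S9291

/-- Let A be a ring, I an ideal and u a unit of A/I. Then there is an étale ring map A → A' such that
A/I → A'/IA' is an isomorphism, together with a unit of A' mapping to the image of u. -/
theorem result (A : Type u) [CommRing A] (I : Ideal A) (u : (A ⧸ I)ˣ) :
    ∃ (A' : Type u) (_ : CommRing A') (_ : Algebra A A'), Algebra.Etale A A' ∧
      Function.Bijective (Ideal.quotientMap (Ideal.map (algebraMap A A') I) (algebraMap A A')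
        Ideal.le_comap_map) ∧
      ∃ u' : A'ˣ, Ideal.Quotient.mk (Ideal.map (algebraMap A A') I) (u' : A') =
        Ideal.quotientMap (Ideal.map (algebraMap A A') I) (algebraMap A A') Ideal.le_comap_map
          (u : A ⧸ I) := by
  obtain ⟨a, ha⟩ := Ideal.Quotient.mk_surjective (u : A ⧸ I)
  obtain ⟨b, hb⟩ := Ideal.Quotient.mk_surjective ((u⁻¹ : (A ⧸ I)ˣ) : A ⧸ I)
  have habn : ∀ k : ℕ, 1 - a ^ k * b ^ k ∈ I := by
    intro k
    rw [← Ideal.Quotient.eq_zero_iff_mem, map_sub, map_one, map_mul, map_pow, map_pow, ha, hb,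
      ← mul_pow]
    simp
  refine ⟨Localization.Away a, inferInstance, inferInstance,
    Algebra.Etale.of_isLocalizationAway a, ⟨?_, ?_⟩, ?_⟩
  · rw [injective_iff_map_eq_zero]
    intro x hx
    obtain ⟨x, rfl⟩ := Ideal.Quotient.mk_surjective x
    rw [Ideal.quotientMap_mk, Ideal.Quotient.eq_zero_iff_mem] at hx
    rw [IsLocalization.mem_map_algebraMap_iff (Submonoid.powers a)] at hx
    obtain ⟨⟨⟨i, hi⟩, ⟨_, k, rfl⟩⟩, hx⟩ := hx
    simp only at hx
    rw [← map_mul] at hx
    obtain ⟨⟨_, l, rfl⟩, hc⟩ := (IsLocalization.eq_iff_exists (Submonoid.powers a) _).mp hx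
    simp only at hc
    rw [Ideal.Quotient.eq_zero_iff_mem]
    have h1 : a ^ (l + k) * x ∈ I := by
      have : a ^ (l + k) * x = a ^ l * (x * a ^ k) := by ring
      rw [this, hc]; exact Ideal.mul_mem_left _ _ hi
    have h2 : x = (1 - a ^ (l+k) * b ^ (l+k)) * x + b ^ (l+k) * (a ^ (l+k) * x) := by ring
    rw [h2]
    exact Ideal.add_mem _ (Ideal.mul_mem_right _ _ (habn _)) (Ideal.mul_mem_left _ _ h1)
  · intro y
    obtain ⟨y, rfl⟩ := Ideal.Quotient.mk_surjective y
    obtain ⟨⟨x, ⟨_, k, rfl⟩⟩, hxs⟩ := IsLocalization.surj (Submonoid.powers a) y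
    simp only at hxs
    refine ⟨Ideal.Quotient.mk I (x * b ^ k), ?_⟩
    rw [Ideal.quotientMap_mk, Ideal.Quotient.eq]
    have : algebraMap A (Localization.Away a) (x * b ^ k) - y
        = algebraMap A (Localization.Away a) (-(1 - a ^ k * b ^ k)) * y := by
      rw [map_mul, ← hxs]
      simp only [map_neg, map_sub, map_one, map_mul, map_pow]
      ring
    rw [this]
    exact Ideal.mul_mem_right _ _ (Ideal.mem_map_of_mem _ (neg_mem (habn k)))
  · refine ⟨IsUnit.unit (IsLocalization.Away.algebraMap_isUnit (S := Localization.Away a) a), ?_⟩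
    rw [IsUnit.unit_spec, ← ha, Ideal.quotientMap_mk]

end Groth.Agent.S9291
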