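import Groth.Statements.S9292
import Mathlib

set_option autoImplicit false
universe u
open EtAlg

namespace Groth.Agent.S9292

section aux
variable {A : Type u} [CommRing A] (I : Ideal A) (a : A)

theorem F1 (ha : IsIdempotentElem (Ideal.Quotient.mk I a)) (x : A)
    (hx : algebraMap A (Localization.Away a) x ∈ I.map (algebraMap A (Localization.Away a))) :
    a * x ∈ I := by
  rw [IsLocalization.mem_map_algebraMap_iff (Submonoid.powers a)] at hx
  obtain ⟨⟨⟨i, hi⟩, ⟨_, k, rfl⟩⟩, hx⟩ := hx
  simp only at hx
  rw [← map_mul] at hx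
  obtain ⟨⟨_, l, rfl⟩, hc⟩ := (IsLocalization.eq_iff_exists (Submonoid.powers a) _).mp hx
  simp only at hc
  have h1 : a ^ (l + k) * x ∈ I := by
    have : a ^ (l + k) * x = a ^ l * (x * a ^ k) := by ring
    rw [this, hc]; exact Ideal.mul_mem_left _ _ hi
  rw [← Ideal.Quotient.eq_zero_iff_mem] at h1 ⊢
  rw [map_mul, map_pow] at h1
  rw [map_mul, ← ha.pow_succ_eq (l + k), pow_succ', mul_assoc, h1, mul_zero]

theorem F3 (c : A) (hc : c * a ∈ I) :
    algebraMap A (Localization.Away a) c ∈ I.map (algebraMap A (Localization.Away a)) := by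
  obtain ⟨v, hv⟩ := IsLocalization.Away.algebraMap_isUnit (S := Localization.Away a) a
  have : algebraMap A (Localization.Away a) c
      = algebraMap A (Localization.Away a) (c * a) * ↑v⁻¹ := by
    rw [map_mul, ← hv, mul_assoc, Units.mul_inv, mul_one]
  rw [this]
  exact Ideal.mul_mem_right _ _ (Ideal.mem_map_of_mem _ hc)

theorem F4 (ha : IsIdempotentElem (Ideal.Quotient.mk I a)) (y : Localization.Away a) :
    ∃ x : A, y - algebraMap A (Localization.Away a) x ∈
      I.map (algebraMap A (Localization.Away a)) := by
  obtain ⟨⟨x, ⟨_, k, rfl⟩⟩, hxs⟩ := IsLocalization.surj (Submonoid.powers a) y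
  simp only at hxs
  refine ⟨x, ?_⟩
  have h1 : (1 - a ^ k) * a ∈ I := by
    rw [← Ideal.Quotient.eq_zero_iff_mem, map_mul, map_sub, map_one, map_pow, sub_mul, one_mul,
      ← pow_succ, ha.pow_succ_eq, sub_self]
  have h2 : y - algebraMap A (Localization.Away a) x
      = y * algebraMap A (Localization.Away a) (1 - a ^ k) := by
    rw [← hxs, map_sub, map_one, map_pow]; ring
  rw [h2]
  exact Ideal.mul_mem_left _ _ (F3 I a _ h1)

end aux

section pi
variable {A : Type u} [CommRing A] (I : Ideal A) {n : ℕ} (a : Fin n → A)

abbrev PiLoc : Type u := ∀ j : Fin n, Localization.Away (a j)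

theorem L1 (z : PiLoc a) (hz : z ∈ I.map (algebraMap A (PiLoc a))) (j : Fin n) :
    z j ∈ I.map (algebraMap A (Localization.Away (a j))) := by
  have hle : I.map (algebraMap A (PiLoc a)) ≤
      Ideal.comap (Pi.evalRingHom (fun j => Localization.Away (a j)) j)
        (I.map (algebraMap A (Localization.Away (a j)))) := by
    rw [Ideal.map_le_iff_le_comap]
    intro i hi
    rw [Ideal.mem_comap, Ideal.mem_comap]
    exact Ideal.mem_map_of_mem _ hi
  exact hle hz

theorem L2 (j : Fin n) (w : Localization.Away (a j))
    (hw : w ∈ I.map (algebraMap A (Localization.Away (a j)))) :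
    (Pi.single j w : PiLoc a) ∈ I.map (algebraMap A (PiLoc a)) := by
  classical
  have key : ∀ w ∈ Submodule.span (Localization.Away (a j))
      ((algebraMap A (Localization.Away (a j))) '' (I : Set A)),
      (Pi.single j w : PiLoc a) ∈ I.map (algebraMap A (PiLoc a)) := by
    intro w hw'
    induction hw' using Submodule.span_induction with
    | mem w hw0 =>
      obtain ⟨i, hi, rfl⟩ := hw0
      have : (Pi.single j (algebraMap A (Localization.Away (a j)) i) : PiLoc a)
          = algebraMap A (PiLoc a) i * Pi.single j 1 := by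
        ext l
        by_cases hl : l = j
        · subst hl; simp [Pi.algebraMap_apply]
        · simp [Pi.single_eq_of_ne hl]
      rw [this]
      exact Ideal.mul_mem_right _ _ (Ideal.mem_map_of_mem _ hi)
    | zero => rw [Pi.single_zero]; exact Ideal.zero_mem _
    | add x y _ _ hx hy => rw [Pi.single_add]; exact Ideal.add_mem _ hx hy
    | smul c x _ hx =>
      rw [smul_eq_mul, Pi.single_mul]
      exact Ideal.mul_mem_left _ _ hx
  exact key w hw

theorem L3 (z : PiLoc a)
    (hz : ∀ j, z j ∈ I.map (algebraMap A (Localization.Away (a j)))) :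
    z ∈ I.map (algebraMap A (PiLoc a)) := by
  classical
  rw [← Finset.univ_sum_single z]
  exact Ideal.sum_mem _ fun j _ => L2 I a j _ (hz j)

end pi

/-- Let A be a ring, I an ideal, and e_1, ..., e_n a complete system of orthogonal idempotents of A/I
(equivalently a finite disjoint open covering of Spec(A/I)). Then one can find an A-algebra A' that
is étale over A, such that the induced map A/I → A'/IA' is bijective, together with a complete
system of orthogonal idempotents of A' lifting the e_j. -/
theorem result (A : Type u) [CommRing A] (I : Ideal A)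
    (n : ℕ) (e : Fin n → A ⧸ I) (he : CompleteOrthogonalIdempotents e) :
    ∃ (A' : Type u) (_ : CommRing A') (_ : Algebra A A'), Algebra.Etale A A' ∧
      Function.Bijective (Ideal.quotientMap (Ideal.map (algebraMap A A') I) (algebraMap A A')
        Ideal.le_comap_map) ∧
      ∃ e' : Fin n → A', CompleteOrthogonalIdempotents e' ∧
        ∀ j, Ideal.Quotient.mk (Ideal.map (algebraMap A A') I) (e' j) =
          Ideal.quotientMap (Ideal.map (algebraMap A A') I) (algebraMap A A') Ideal.le_comap_map
            (e j) := by
  classical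
  choose a ha using fun j => Ideal.Quotient.mk_surjective (e j)
  have hidem : ∀ j, IsIdempotentElem (Ideal.Quotient.mk I (a j)) := fun j => by
    rw [ha j]; exact he.idem j
  refine ⟨PiLoc a, inferInstance, inferInstance, inferInstance, ⟨?_, ?_⟩, ?_⟩
  · rw [injective_iff_map_eq_zero]
    intro x hx
    obtain ⟨x, rfl⟩ := Ideal.Quotient.mk_surjective x
    rw [Ideal.quotientMap_mk, Ideal.Quotient.eq_zero_iff_mem] at hx
    have h1 : ∀ j, a j * x ∈ I := fun j => F1 I (a j) (hidem j) x (L1 I a _ hx j)
    have h2 : ∀ j, e j * Ideal.Quotient.mk I x = 0 := fun j => by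
      rw [← ha j, ← map_mul]; exact Ideal.Quotient.eq_zero_iff_mem.mpr (h1 j)
    calc Ideal.Quotient.mk I x = (∑ j, e j) * Ideal.Quotient.mk I x := by
          rw [he.complete, one_mul]
      _ = 0 := by rw [Finset.sum_mul]; exact Finset.sum_eq_zero fun j _ => h2 j
  · intro y
    obtain ⟨y, rfl⟩ := Ideal.Quotient.mk_surjective y
    choose x hx using fun j => F4 I (a j) (hidem j) (y j)
    refine ⟨Ideal.Quotient.mk I (∑ k, a k * x k), ?_⟩
    rw [Ideal.quotientMap_mk, Ideal.Quotient.eq]
    apply L3
    intro j
    have h3 : ((∑ k, a k * x k) - x j) * a j ∈ I := by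
      rw [← Ideal.Quotient.eq_zero_iff_mem]
      simp only [map_mul, map_sub, map_sum, ha]
      rw [sub_mul, Finset.sum_mul, Finset.sum_eq_single j]
      · rw [mul_right_comm, (he.idem j).eq]; ring
      · intro k _ hkj
        rw [mul_right_comm, he.ortho hkj, zero_mul]
      · intro h; exact absurd (Finset.mem_univ j) h
    have h4 := F3 I (a j) _ h3
    have h5 : (algebraMap A (PiLoc a) (∑ k, a k * x k) - y) j =
        algebraMap A (Localization.Away (a j)) ((∑ k, a k * x k) - x j)
          - (y j - algebraMap A (Localization.Away (a j)) (x j)) := by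
      rw [Pi.sub_apply, Pi.algebraMap_apply, map_sub]; ring
    rw [h5]
    exact Ideal.sub_mem _ h4 (hx j)
  · refine ⟨fun j => Pi.single j 1, CompleteOrthogonalIdempotents.single _, ?_⟩
    intro j
    rw [← ha j, Ideal.quotientMap_mk, Ideal.Quotient.eq]
    apply L3
    intro l
    by_cases hl : l = j
    · subst hl
      have h6 := F3 I (a l) (1 - a l) (by
        rw [← Ideal.Quotient.eq_zero_iff_mem, map_mul, map_sub, map_one, sub_mul, one_mul,
          (hidem l).eq, sub_self])
      have h7 : ((Pi.single l 1 : PiLoc a) - algebraMap A (PiLoc a) (a l)) l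
          = algebraMap A (Localization.Away (a l)) (1 - a l) := by
        show (Pi.single l 1 : PiLoc a) l - algebraMap A (Localization.Away (a l)) (a l) = _
        rw [Pi.single_eq_same, map_sub, map_one]
      rw [h7]; exact h6
    · have h6 := F3 I (a l) (a j) (by
        rw [← Ideal.Quotient.eq_zero_iff_mem, map_mul, ha, ha]; exact he.ortho (Ne.symm hl))
      have h7 : ((Pi.single j 1 : PiLoc a) - algebraMap A (PiLoc a) (a j)) l
          = - algebraMap A (Localization.Away (a l)) (a j) := by
        show (Pi.single j 1 : PiLoc a) l - algebraMap A (Localization.Away (a l)) (a j) = _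
        rw [Pi.single_eq_of_ne hl, zero_sub]
      rw [h7]; exact neg_mem h6

end Groth.Agent.S9292
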