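import Groth.Statements.S9301
import Mathlib
-- import your own Groth.Agent.* helpers here

set_option autoImplicit false
universe u
open CAlg

namespace Groth.Agent.S9301

/-- Let A and B be domains and A → B a flat ring map which is the localization of a quasi-finite ring
map A → B₀ (of finite type with finite fibres). Then every nonzero ideal of B has nonzero preimage
in A. -/
theorem result (A B₀ B : Type u) [CommRing A] [IsDomain A]
    [CommRing B₀] [CommRing B] [IsDomain B] [Algebra A B₀] [Algebra.FiniteType A B₀]
    [Algebra.QuasiFinite A B₀] (S : Submonoid B₀) [Algebra B₀ B] [IsLocalization S B] [Algebra A B]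
    [IsScalarTower A B₀ B] [Module.Flat A B] (J : Ideal B) (hJ : J ≠ ⊥) :
    Ideal.comap (algebraMap A B) J ≠ ⊥ := by
  classical
  have hqf : Algebra.QuasiFinite A B := Algebra.QuasiFinite.of_isLocalization S
  obtain ⟨b, hbJ, hb0⟩ := Submodule.exists_mem_ne_zero_of_ne_bot hJ
  by_cases hinj : Function.Injective (algebraMap A B)
  · let K := FractionRing A
    have hfin : Module.Finite K (TensorProduct A K B) := Module.Finite.of_quasiFinite
    have hint : IsIntegral K ((1 : K) ⊗ₜ[A] b) := Algebra.IsIntegral.isIntegral _
    have halg : IsAlgebraic A ((1 : K) ⊗ₜ[A] b) :=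
      (IsFractionRing.isAlgebraic_iff A K _).2 hint.isAlgebraic
    obtain ⟨p, hp0, hp⟩ := halg
    have h1 : TensorProduct.mk A K B 1 (Polynomial.aeval b p) = 0 := by
      have := Polynomial.aeval_algHom_apply
        (Algebra.TensorProduct.includeRight : B →ₐ[A] TensorProduct A K B) b p
      simpa [hp] using this.symm
    obtain ⟨⟨a, ha⟩, hab⟩ := (IsLocalizedModule.eq_zero_iff (nonZeroDivisors A)
      (TensorProduct.mk A K B 1)).1 h1
    have ha0 : a ≠ 0 := nonZeroDivisors.ne_zero ha
    have h2 : Polynomial.aeval b p = 0 := by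
      rw [Submonoid.mk_smul, Algebra.smul_def, mul_eq_zero] at hab
      rcases hab with h | h
      · exact absurd (hinj (h.trans (map_zero _).symm)) ha0
      · exact h
    have hbalg : IsAlgebraic A b := ⟨p, hp0, h2⟩
    obtain ⟨r, hr0, hr⟩ := hbalg.exists_nonzero_dvd (mem_nonZeroDivisors_of_ne_zero hb0)
    intro hbot
    have hmem : r ∈ Ideal.comap (algebraMap A B) J := by
      rw [Ideal.mem_comap]; exact Ideal.mem_of_dvd J hr hbJ
    rw [hbot] at hmem
    exact hr0 hmem
  · rw [injective_iff_map_eq_zero] at hinj
    push_neg at hinj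
    obtain ⟨a, ha, ha0⟩ := hinj
    intro hbot
    have hmem : a ∈ Ideal.comap (algebraMap A B) J := by
      rw [Ideal.mem_comap, ha]; exact J.zero_mem
    rw [hbot] at hmem
    exact ha0 hmem

end Groth.Agent.S9301
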