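import Groth.Statements.S9302
import Groth.Agent.Lib.Helper14.HenselLimit
-- import your own Groth.Agent.* helpers here

set_option autoImplicit false
universe u
open CategoryTheory
open EtAlg

namespace Groth.Agent.S9302

/-- Henselian pairs are preserved under limits: for an inverse system (A_j, I_j) of henselian pairs over
a preordered set J, the limit A = lim A_j with the ideal I = lim I_j (elements all of whose
projections lie in the I_j) is a henselian pair. -/
theorem result (J : Type u) [Preorder J] (F : J ⥤ CommRingCat.{u})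
    (I : ∀ j : J, Ideal (F.obj j))
    (hI : ∀ (i j : J) (φ : i ⟶ j), Ideal.map (F.map φ).hom (I i) ≤ I j)
    (h : ∀ j : J, HenselianRing (F.obj j) (I j)) :
    HenselianRing ((Limits.limit F : CommRingCat.{u}) : Type u)
      (⨅ j : J, Ideal.comap (Limits.limit.π F j).hom (I j)) := by
  classical
  let π : ∀ j, ((Limits.limit F : CommRingCat.{u}) : Type u) →+* F.obj j := fun j => (Limits.limit.π F j).hom
  have hπ : ∀ (i j : J) (φ : i ⟶ j) (x : ((Limits.limit F : CommRingCat.{u}) : Type u)),
      (F.map φ).hom (π i x) = π j x := by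
    intro i j φ x
    have h1 := Limits.limit.w F φ
    have h2 := congrArg (fun g => g.hom x) h1
    exact h2
  have hjac : ∀ j, I j ≤ Ideal.jacobson ⊥ := fun j => (h j).jac
  have hmem : ∀ x : ((Limits.limit F : CommRingCat.{u}) : Type u),
      x ∈ (⨅ j : J, Ideal.comap (Limits.limit.π F j).hom (I j)) ↔ ∀ j, π j x ∈ I j := by
    intro x
    rw [Ideal.mem_iInf]
    rfl
  constructor
  · intro x hx
    rw [Ideal.mem_jacobson_bot]
    intro y
    have hxj := (hmem x).1 hx
    have hu : ∀ j, IsUnit (π j (x * y + 1)) := by
      intro j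
      rw [map_add, map_mul, map_one]
      exact (Ideal.mem_jacobson_bot.1 (hjac j (hxj j))) _
    choose v hv using fun j => isUnit_iff_exists_inv.1 (hu j)
    have hcompat : ∀ (i j : J) (φ : i ⟶ j), (F.map φ).hom (v i) = v j := by
      intro i j φ
      have h1 : (F.map φ).hom (v i) * π j (x * y + 1) = 1 := by
        rw [← hπ i j φ, ← map_mul, mul_comm, hv i, map_one]
      exact left_inv_eq_right_inv h1 (hv j)
    obtain ⟨w, hw⟩ := Helper14.commRing_limit_mk F v hcompat
    refine isUnit_iff_exists_inv.2 ⟨w, ?_⟩
    apply Helper14.commRing_limit_ext F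
    intro j
    show π j ((x * y + 1) * w) = π j 1
    rw [map_mul, map_one]
    have : π j w = v j := hw j
    rw [this]
    exact hv j
  · intro f hf a₀ ha₀ hder
    have ha₀j := (hmem _).1 ha₀
    -- derivative unit mod each I j
    obtain ⟨u, hu⟩ := isUnit_iff_exists_inv.1 hder
    obtain ⟨u, rfl⟩ := Ideal.Quotient.mk_surjective u
    have hu' : f.derivative.eval a₀ * u - 1 ∈ (⨅ j : J, Ideal.comap (Limits.limit.π F j).hom (I j)) := by
      rw [← Ideal.Quotient.eq, map_mul, map_one]; exact hu
    have huj := (hmem _).1 hu'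
    have hev : ∀ j (p : Polynomial ((Limits.limit F : CommRingCat.{u}) : Type u))
        (x : ((Limits.limit F : CommRingCat.{u}) : Type u)),
        (p.map (π j)).eval (π j x) = π j (p.eval x) := fun j p x => Polynomial.eval_map_apply _ _
    have hderj : ∀ j, IsUnit (Ideal.Quotient.mk (I j) ((f.map (π j)).derivative.eval (π j a₀))) := by
      intro j
      rw [Polynomial.derivative_map, hev]
      refine isUnit_iff_exists_inv.2 ⟨Ideal.Quotient.mk (I j) (π j u), ?_⟩
      rw [← map_mul, ← map_one (Ideal.Quotient.mk (I j)), Ideal.Quotient.eq, ← map_mul, ← map_one (π j),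
        ← map_sub]
      exact huj j
    have hex : ∀ j, ∃ a : F.obj j, (f.map (π j)).IsRoot a ∧ a - π j a₀ ∈ I j := by
      intro j
      refine (h j).is_henselian (f.map (π j)) (hf.map _) (π j a₀) ?_ (hderj j)
      rw [hev]; exact ha₀j j
    choose a ha_root ha_mem using hex
    have hcompat : ∀ (i j : J) (φ : i ⟶ j), (F.map φ).hom (a i) = a j := by
      intro i j φ
      have hπc : π j = (F.map φ).hom.comp (π i) := by
        ext x; exact (hπ i j φ x).symm
      refine Helper14.root_unique_of_le_jacobson (I j) (hjac j) (f.map (π j)) (π j a₀) _ _ (hderj j) ?_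
        (ha_root j) ?_ (ha_mem j)
      · show (f.map (π j)).eval ((F.map φ).hom (a i)) = 0
        rw [hπc, ← Polynomial.map_map, Polynomial.eval_map_apply, (ha_root i : (f.map (π i)).eval (a i) = 0),
          map_zero]
      · rw [← hπ i j φ, ← map_sub]
        exact hI i j φ (Ideal.mem_map_of_mem _ (ha_mem i))
    obtain ⟨b, hb⟩ := Helper14.commRing_limit_mk F a hcompat
    have hb' : ∀ j, π j b = a j := hb
    refine ⟨b, ?_, ?_⟩
    · show f.eval b = 0
      apply Helper14.commRing_limit_ext F
      intro j
      show π j (f.eval b) = π j 0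
      rw [← hev, hb', map_zero]
      exact ha_root j
    · rw [hmem]
      intro j
      rw [map_sub, hb']
      exact ha_mem j

end Groth.Agent.S9302
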