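import Groth.Statements.S9310
import Mathlib
import Groth.Agent.Lib.Helper5.PSR
import Groth.Agent.Lib.Helper17.PS1
-- import your own Groth.Agent.* helpers here

set_option autoImplicit false
universe u
open CAlg

namespace Groth.Agent.S9310

/-- Let K be a field, A = K[[x_1, ..., x_n]], and y_1, ..., y_n ∈ A a regular system of parameters (n
elements generating the maximal ideal). Then the substitution map K[[y_1, ..., y_n]] → A is an
isomorphism: f ↦ f(y_1, ..., y_n) is a bijection of K[[x_1, ..., x_n]] onto itself. -/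
theorem result (K : Type u) [Field K] (n : ℕ)
    (y : Fin n → MvPowerSeries (Fin n) K)
    (hy : Ideal.span (Set.range y) = IsLocalRing.maximalIdeal (MvPowerSeries (Fin n) K)) :
    Function.Bijective (MvPowerSeries.subst y : MvPowerSeries (Fin n) K → MvPowerSeries (Fin n) K) := by
  classical
  have hy0 : ∀ i, MvPowerSeries.constantCoeff (y i) = 0 := by
    intro i
    have hmem : y i ∈ IsLocalRing.maximalIdeal (MvPowerSeries (Fin n) K) := by
      rw [← hy]; exact Ideal.subset_span ⟨i, rfl⟩
    by_contra hne
    have hunit : IsUnit (y i) :=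
      MvPowerSeries.isUnit_iff_constantCoeff.mpr (isUnit_iff_ne_zero.mpr hne)
    exact (IsLocalRing.mem_maximalIdeal _).mp hmem hunit
  have hs : MvPowerSeries.HasSubst y := MvPowerSeries.hasSubst_of_constantCoeff_zero hy0
  let ψ : MvPowerSeries (Fin n) K →ₐ[K] MvPowerSeries (Fin n) K := MvPowerSeries.substAlgHom hs
  have hψX : ∀ i, ψ (MvPowerSeries.X i) = y i := fun i => MvPowerSeries.substAlgHom_X hs i
  have hR : Function.Surjective ((IsLocalRing.residue (MvPowerSeries (Fin n) K)).comp
      (algebraMap K (MvPowerSeries (Fin n) K))) := by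
    intro z
    obtain ⟨f, rfl⟩ := IsLocalRing.residue_surjective z
    refine ⟨MvPowerSeries.constantCoeff f, ?_⟩
    rw [RingHom.comp_apply]
    symm
    rw [← sub_eq_zero, ← map_sub, IsLocalRing.residue_eq_zero_iff]
    rw [IsLocalRing.mem_maximalIdeal, mem_nonunits_iff, MvPowerSeries.isUnit_iff_constantCoeff]
    simp [MvPowerSeries.algebraMap_apply]
  have hspan : Ideal.span (Set.range fun i => ψ (MvPowerSeries.X i)) =
      IsLocalRing.maximalIdeal (MvPowerSeries (Fin n) K) := by
    have : (fun i => ψ (MvPowerSeries.X i)) = y := funext hψX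
    rw [this, hy]
  have hsurj := Groth.Agent.Helper5.PSR.surjective_of_span_eq hR ψ hspan
  have hdim : ringKrullDim (MvPowerSeries (Fin n) K) = n :=
    le_antisymm (Groth.Agent.Helper5.PSR.ringKrullDim_mvPowerSeries_le n)
      (Groth.Agent.Helper17.PS.le_ringKrullDim n)
  have hinj := Groth.Agent.Helper5.PSR.injective_of_ringKrullDim_eq hdim ψ hsurj
  have hcoe : ⇑ψ = MvPowerSeries.subst y := MvPowerSeries.coe_substAlgHom hs
  rw [← hcoe]
  exact ⟨hinj, hsurj⟩

end Groth.Agent.S9310
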