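import Groth.Statements.S9311
import Mathlib
import Groth.Agent.Lib.Helper14.PowerSeriesAdic
import Groth.Agent.Lib.Helper18.Schl.PSComplete
-- import your own Groth.Agent.* helpers here

set_option autoImplicit false
universe u
open CAlg

namespace Groth.Agent.S9311

theorem maxIdeal_aux (Λ : Type*) [CommRing Λ] [IsLocalRing Λ] (n : ℕ) :
    IsLocalRing.maximalIdeal (MvPowerSeries (Fin n) Λ) =
      (IsLocalRing.maximalIdeal Λ).map (MvPowerSeries.C : Λ →+* MvPowerSeries (Fin n) Λ) ⊔
        RingHom.ker (MvPowerSeries.constantCoeff : MvPowerSeries (Fin n) Λ →+* Λ) := by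
  have hsurj : Function.Surjective
      (MvPowerSeries.constantCoeff : MvPowerSeries (Fin n) Λ →+* Λ) :=
    fun a => ⟨MvPowerSeries.C a, MvPowerSeries.constantCoeff_C a⟩
  have h1 : (IsLocalRing.maximalIdeal Λ).map
      (MvPowerSeries.C : Λ →+* MvPowerSeries (Fin n) Λ) ⊔
        RingHom.ker (MvPowerSeries.constantCoeff : MvPowerSeries (Fin n) Λ →+* Λ) =
      (IsLocalRing.maximalIdeal Λ).comap
        (MvPowerSeries.constantCoeff : MvPowerSeries (Fin n) Λ →+* Λ) := by
    apply le_antisymm
    · apply sup_le
      · rw [Ideal.map_le_iff_le_comap]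
        intro a ha
        simpa using ha
      · intro f hf
        rw [RingHom.mem_ker] at hf
        simp [hf]
    · intro f hf
      rw [Ideal.mem_comap] at hf
      have : f = MvPowerSeries.C (MvPowerSeries.constantCoeff f) +
          (f - MvPowerSeries.C (MvPowerSeries.constantCoeff f)) := by ring
      rw [this]
      refine Ideal.add_mem _ (Ideal.mem_sup_left (Ideal.mem_map_of_mem _ hf))
        (Ideal.mem_sup_right ?_)
      simp [RingHom.mem_ker]
  rw [h1]
  symm
  apply IsLocalRing.eq_maximalIdeal
  exact Ideal.comap_isMaximal_of_surjective _ hsurj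


theorem injective_of_surjective_ringEnd {R : Type*} [CommRing R] [IsNoetherianRing R]
    (f : R →+* R) (hf : Function.Surjective f) : Function.Injective f := by
  let K : ℕ →o Ideal R :=
    { toFun := fun n => RingHom.ker (f ^ n)
      monotone' := by
        intro a b hab x hx
        rw [RingHom.mem_ker] at hx ⊢
        obtain ⟨c, rfl⟩ := Nat.exists_eq_add_of_le hab
        rw [add_comm, pow_add, RingHom.mul_def, RingHom.comp_apply, hx, map_zero] }
  obtain ⟨n, hn⟩ := monotone_stabilizes_iff_noetherian.mpr inferInstance K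
  rw [injective_iff_map_eq_zero]
  intro x hx
  have hsurj : Function.Surjective (f ^ n) := by
    rw [RingHom.coe_pow]
    exact hf.iterate n
  obtain ⟨y, rfl⟩ := hsurj x
  have h1 : y ∈ K (n + 1) := by
    change y ∈ RingHom.ker (f ^ (n + 1))
    rw [RingHom.mem_ker, pow_succ', RingHom.mul_def, RingHom.comp_apply, hx]
  rw [← hn (n + 1) (Nat.le_succ n)] at h1
  exact h1

/-- Let Λ be a Cohen ring (a complete discrete valuation ring whose maximal ideal is generated by a
prime number p), B = Λ[[x_1, ..., x_n]], and y_1, ..., y_n ∈ B with zero constant terms such that p,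
y_1, ..., y_n is a regular system of parameters of B (these n + 1 elements generate the maximal
ideal). Then the substitution map Λ[[y_1, ..., y_n]] → B is an isomorphism: f ↦ f(y_1, ..., y_n) is
a bijection of Λ[[x_1, ..., x_n]] onto itself. (The published statement allows the y_i to have
constant terms in pΛ, the substitution being defined through the (p, x)-adic topology of B; this row
asks the constant terms to vanish, the case in which substitution is defined coefficientwise with no
topology on Λ.) -/
theorem result (Λ : Type u) [CommRing Λ] [IsDomain Λ]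
    [IsDiscreteValuationRing Λ] [IsAdicComplete (IsLocalRing.maximalIdeal Λ) Λ] (p : ℕ) (hp : p.Prime)
    (hm : IsLocalRing.maximalIdeal Λ = Ideal.span {(p : Λ)}) (n : ℕ)
    (y : Fin n → MvPowerSeries (Fin n) Λ) (hy0 : ∀ i, MvPowerSeries.constantCoeff (y i) = 0)
    (hy : Ideal.span (insert (p : MvPowerSeries (Fin n) Λ) (Set.range y)) =
      IsLocalRing.maximalIdeal (MvPowerSeries (Fin n) Λ)) :
    Function.Bijective (MvPowerSeries.subst y : MvPowerSeries (Fin n) Λ → MvPowerSeries (Fin n) Λ) := by
  classical
  have hs : MvPowerSeries.HasSubst y := MvPowerSeries.hasSubst_of_constantCoeff_zero hy0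
  let ψ : MvPowerSeries (Fin n) Λ →ₐ[Λ] MvPowerSeries (Fin n) Λ := MvPowerSeries.substAlgHom hs
  have hψX : ∀ i, ψ (MvPowerSeries.X i) = y i := fun i => MvPowerSeries.substAlgHom_X hs i
  have hψC : ∀ a : Λ, ψ (MvPowerSeries.C a) = MvPowerSeries.C a := by
    intro a
    have h1 : (MvPowerSeries.C a : MvPowerSeries (Fin n) Λ) =
        algebraMap Λ (MvPowerSeries (Fin n) Λ) a := by
      rw [MvPowerSeries.algebraMap_apply]; simp
    rw [h1, AlgHom.commutes]
  have hcoe : ⇑ψ = MvPowerSeries.subst y := MvPowerSeries.coe_substAlgHom hs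
  rw [← hcoe]
  haveI : IsNoetherianRing Λ := inferInstance
  haveI hcompl : IsAdicComplete (IsLocalRing.maximalIdeal (MvPowerSeries (Fin n) Λ))
      (MvPowerSeries (Fin n) Λ) := Groth.Agent.Helper18.ps_isAdicComplete
  have hmap : (IsLocalRing.maximalIdeal (MvPowerSeries (Fin n) Λ)).map ψ.toRingHom =
      IsLocalRing.maximalIdeal (MvPowerSeries (Fin n) Λ) := by
    conv_lhs => rw [maxIdeal_aux, Groth.Agent.Helper14.PowerSeriesAdic.ker_constantCoeff_eq, hm]
    rw [Ideal.map_sup, Ideal.map_map, Ideal.map_span, Ideal.map_span, Set.image_singleton,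
      ← Set.range_comp, ← hy, ← Ideal.span_union, Set.singleton_union]
    have h1 : (ψ.toRingHom.comp (MvPowerSeries.C : Λ →+* MvPowerSeries (Fin n) Λ)) (p : Λ) =
        (p : MvPowerSeries (Fin n) Λ) := by
      simp
    have h2 : (⇑ψ.toRingHom ∘ (MvPowerSeries.X : Fin n → MvPowerSeries (Fin n) Λ)) = y := by
      ext1 i
      exact hψX i
    rw [h1, h2]
  have hsurj : Function.Surjective ψ.toRingHom := by
    haveI : IsHausdorff ((IsLocalRing.maximalIdeal (MvPowerSeries (Fin n) Λ)).map ψ.toRingHom)
        (MvPowerSeries (Fin n) Λ) := by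
      rw [hmap]; infer_instance
    apply surjective_of_mk_map_comp_surjective
      (I := IsLocalRing.maximalIdeal (MvPowerSeries (Fin n) Λ)) ψ.toRingHom
    intro z
    obtain ⟨f, rfl⟩ := Ideal.Quotient.mk_surjective z
    refine ⟨MvPowerSeries.C (MvPowerSeries.constantCoeff f), ?_⟩
    rw [RingHom.comp_apply]
    change Ideal.Quotient.mk _ (ψ (MvPowerSeries.C (MvPowerSeries.constantCoeff f))) = _
    rw [hψC, Ideal.Quotient.eq, hmap, Groth.Agent.Helper18.ps_mem_maximalIdeal_iff]
    simp
  exact ⟨injective_of_surjective_ringEnd ψ.toRingHom hsurj, hsurj⟩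

end Groth.Agent.S9311
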