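import Groth.Statements.S9312
import Mathlib
-- import your own Groth.Agent.* helpers here

set_option autoImplicit false
universe u
open CAlg

namespace Groth.Agent.S9312

section
open Polynomial

theorem gen {A R B G : Type*} [CommRing A] [CommRing R] [CommRing B] [Group G] [Fintype G]
    [MulSemiringAction G R]
    (f : A →+* B) (g : R →+* B)
    (hinv : ∀ r : R, (∀ σ : G, σ • r = r) → ∃ c : A, f c = g r) (J : Ideal A)
    {K : Type*} [Fintype K] (a : K → A) (ha : ∀ k, a k ∈ J) (r : K → R) :
    ∃ P : A[X], P.Monic ∧ P.natDegree ≤ Fintype.card G ∧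
      (∀ i : ℕ, i < Fintype.card G → P.coeff i ∈ J) ∧
      P.map f = ∏ σ : G, (X - C (∑ k, f (a k) * g (σ • r k))) := by
  classical
  let e : Option K → ℕ := fun o => o.elim 1 (fun _ => 0)
  let α : Option K → A := fun o => o.elim 1 (fun k => - a k)
  let ϱ : G → Option K → R := fun σ o => o.elim 1 (fun k => σ • r k)
  let dd : (G → Option K) → ℕ := fun p => ∑ σ, e (p σ)
  let AA : (G → Option K) → A := fun p => ∏ σ, α (p σ)
  let ρ : (G → Option K) → R := fun p => ∏ σ, ϱ σ (p σ)
  let M' : (G → Option K) → A[X] := fun p => X ^ dd p * C (AA p)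
  let p₀ : G → Option K := fun _ => none
  let actE : G → ((G → Option K) ≃ (G → Option K)) :=
    fun τ => (Equiv.mulLeft τ).arrowCongr (Equiv.refl _)
  have hact : ∀ τ p σ, actE τ p σ = p (τ⁻¹ * σ) := fun τ p σ => rfl
  have hdd : ∀ τ p, dd (actE τ p) = dd p := by
    intro τ p
    show ∑ σ, e (actE τ p σ) = ∑ σ, e (p σ)
    simp only [hact]
    exact Equiv.sum_comp (Equiv.mulLeft τ⁻¹) (fun σ => e (p σ))
  have hAA : ∀ τ p, AA (actE τ p) = AA p := by
    intro τ p
    show ∏ σ, α (actE τ p σ) = ∏ σ, α (p σ)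
    simp only [hact]
    exact Equiv.prod_comp (Equiv.mulLeft τ⁻¹) (fun σ => α (p σ))
  have hM' : ∀ τ p, M' (actE τ p) = M' p := by
    intro τ p
    show X ^ dd (actE τ p) * C (AA (actE τ p)) = X ^ dd p * C (AA p)
    rw [hdd, hAA]
  have hρ : ∀ τ p, τ • ρ p = ρ (actE τ p) := by
    intro τ p
    show τ • ∏ σ, ϱ σ (p σ) = ∏ σ, ϱ σ (actE τ p σ)
    rw [Finset.smul_prod']
    simp only [hact]
    rw [← Equiv.prod_comp (Equiv.mulLeft τ) (fun σ => ϱ σ (p (τ⁻¹ * σ)))]
    refine Finset.prod_congr rfl fun σ _ => ?_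
    show τ • ϱ σ (p σ) = ϱ (τ * σ) (p (τ⁻¹ * (τ * σ)))
    rw [inv_mul_cancel_left]
    cases p σ with
    | none => simp [ϱ]
    | some k => simp [ϱ, mul_smul]
  have hexp : ∏ σ : G, (X - C (∑ k, f (a k) * g (σ • r k))) =
      ∑ p : G → Option K, X ^ dd p * C (f (AA p)) * C (g (ρ p)) := by
    have h1 : ∀ σ : G, (X - C (∑ k, f (a k) * g (σ • r k)) : B[X]) =
        ∑ o : Option K, X ^ e o * C (f (α o)) * C (g (ϱ σ o)) := by
      intro σ
      rw [Fintype.sum_option]
      simp only [e, α, ϱ, Option.elim_none, Option.elim_some, pow_one, pow_zero, map_one,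
        mul_one, one_mul]
      rw [map_sum, sub_eq_add_neg, ← Finset.sum_neg_distrib]
      congr 1
      refine Finset.sum_congr rfl fun k _ => ?_
      rw [map_neg, map_neg, map_mul, neg_mul]
    simp_rw [h1]
    rw [Finset.prod_univ_sum]
    simp only [Fintype.piFinset_univ]
    refine Finset.sum_congr rfl fun p _ => ?_
    show ∏ σ, (X ^ e (p σ) * C (f (α (p σ))) * C (g (ϱ σ (p σ)))) =
      X ^ (∑ σ, e (p σ)) * C (f (∏ σ, α (p σ))) * C (g (∏ σ, ϱ σ (p σ)))
    rw [Finset.prod_mul_distrib, Finset.prod_mul_distrib, Finset.prod_pow_eq_pow_sum,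
      map_prod f, map_prod C, map_prod g, map_prod C]
  have hne : ∀ p, p ≠ p₀ → dd p < Fintype.card G ∧ AA p ∈ J := by
    intro p hp
    obtain ⟨σ₀, hσ₀⟩ := Function.ne_iff.mp hp
    obtain ⟨k, hk⟩ := Option.ne_none_iff_exists'.mp hσ₀
    constructor
    · have h1 : ∑ σ, e (p σ) < ∑ _σ : G, 1 := by
        refine Finset.sum_lt_sum (fun σ _ => ?_) ⟨σ₀, Finset.mem_univ _, ?_⟩
        · cases p σ <;> simp [e]
        · rw [hk]; simp [e]
      calc dd p = ∑ σ, e (p σ) := rfl
        _ < ∑ _σ : G, 1 := h1
        _ = Fintype.card G := by simp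
    · have h1 : α (p σ₀) ∈ J := by
        rw [hk]
        show - a k ∈ J
        exact J.neg_mem (ha k)
      exact Ideal.mem_of_dvd J (Finset.dvd_prod_of_mem _ (Finset.mem_univ σ₀)) h1
  let S : Finset (G → Option K) := Finset.univ.erase p₀
  have hS : ∀ p, p ∈ S ↔ p ≠ p₀ := fun p => by simp [S]
  have hSact : ∀ τ p, p ∈ S ↔ actE τ p ∈ S := by
    intro τ p
    rw [hS, hS]
    have h0 : actE τ p₀ = p₀ := funext fun σ => hact τ p₀ σ
    constructor
    · intro h h'
      apply h
      rw [← h0] at h'
      exact (actE τ).injective h'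
    · intro h h'
      apply h
      rw [h', h0]
  let cfun : A[X] → R := fun v => ∑ p ∈ S with M' p = v, ρ p
  have hcinv : ∀ v (τ : G), τ • cfun v = cfun v := by
    intro v τ
    show τ • ∑ p ∈ S with M' p = v, ρ p = ∑ p ∈ S with M' p = v, ρ p
    rw [Finset.smul_sum]
    refine Finset.sum_equiv (actE τ) (fun p => ?_) (fun p _ => hρ τ p)
    simp only [Finset.mem_filter]
    rw [← hSact τ p, hM']
  have hlift : ∀ v, ∃ c' : A, f c' = g (cfun v) := fun v => hinv (cfun v) (hcinv v)
  choose c' hc' using hlift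
  let Q₁ : A[X] := ∑ v ∈ S.image M', v * C (c' v)
  have hcoef : ∀ p c i, (M' p * C c).coeff i = if dd p = i then AA p * c else 0 := by
    intro p c i
    have : M' p * C c = Polynomial.monomial (dd p) (AA p * c) := by
      rw [← Polynomial.C_mul_X_pow_eq_monomial, map_mul]
      show X ^ dd p * C (AA p) * C c = _
      ring
    rw [this, Polynomial.coeff_monomial]
  have hQ1J : ∀ i, Q₁.coeff i ∈ J := by
    intro i
    show (∑ v ∈ S.image M', v * C (c' v)).coeff i ∈ J
    rw [Polynomial.finsetSum_coeff]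
    refine J.sum_mem fun v hv => ?_
    obtain ⟨p, hp, rfl⟩ := Finset.mem_image.mp hv
    rw [hcoef]
    split_ifs
    · exact J.mul_mem_right _ (hne p ((hS p).mp hp)).2
    · exact J.zero_mem
  have hQ1deg : Q₁.degree < (Fintype.card G : ℕ) := by
    rw [Polynomial.degree_lt_iff_coeff_zero]
    intro m hm
    show (∑ v ∈ S.image M', v * C (c' v)).coeff m = 0
    rw [Polynomial.finsetSum_coeff]
    refine Finset.sum_eq_zero fun v hv => ?_
    obtain ⟨p, hp, rfl⟩ := Finset.mem_image.mp hv
    rw [hcoef, if_neg]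
    have := (hne p ((hS p).mp hp)).1
    omega
  refine ⟨X ^ Fintype.card G + Q₁, Polynomial.monic_X_pow_add hQ1deg, ?_, ?_, ?_⟩
  · refine (Polynomial.natDegree_add_le _ _).trans
      (max_le (Polynomial.natDegree_X_pow_le _) ?_)
    exact Polynomial.natDegree_le_of_degree_le hQ1deg.le
  · intro i hi
    rw [Polynomial.coeff_add, Polynomial.coeff_X_pow, if_neg (ne_of_lt hi), zero_add]
    exact hQ1J i
  · rw [hexp, ← Finset.add_sum_erase Finset.univ _ (Finset.mem_univ p₀)]
    rw [Polynomial.map_add, Polynomial.map_pow, Polynomial.map_X]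
    congr 1
    · have h1 : dd p₀ = Fintype.card G := by simp [dd, p₀, e]
      have h2 : AA p₀ = 1 := by simp [AA, p₀, α]
      have h3 : ρ p₀ = 1 := by simp [ρ, p₀, ϱ]
      rw [h1, h2, h3]; simp
    · show Polynomial.map f (∑ v ∈ S.image M', v * C (c' v)) =
        ∑ p ∈ S, X ^ dd p * C (f (AA p)) * C (g (ρ p))
      rw [Polynomial.map_sum]
      rw [← Finset.sum_fiberwise_of_maps_to (g := M') (t := S.image M')
        (fun p hp => Finset.mem_image_of_mem _ hp)]
      refine Finset.sum_congr rfl fun v _ => ?_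
      rw [Polynomial.map_mul, Polynomial.map_C, hc']
      show Polynomial.map f v * C (g (∑ p ∈ S with M' p = v, ρ p)) = _
      rw [map_sum, map_sum, Finset.mul_sum]
      refine Finset.sum_congr rfl fun p hp => ?_
      rw [← (Finset.mem_filter.mp hp).2]
      show Polynomial.map f (X ^ dd p * C (AA p)) * C (g (ρ p)) = _
      rw [Polynomial.map_mul, Polynomial.map_pow, Polynomial.map_X, Polynomial.map_C]

open TensorProduct in
theorem exists_rep {S A R : Type*} [CommRing S] [CommRing A] [CommRing R] [Algebra S A]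
    [Algebra S R] (b : A ⊗[S] R) :
    ∃ (K : Type) (_ : Fintype K) (a : K → A) (r : K → R), b = ∑ k, a k ⊗ₜ[S] r k := by
  induction b using TensorProduct.induction_on with
  | zero => exact ⟨Empty, inferInstance, Empty.elim, Empty.elim, by simp⟩
  | tmul x y => exact ⟨Unit, inferInstance, fun _ => x, fun _ => y, by simp⟩
  | add x y hx hy =>
    obtain ⟨K₁, _, a₁, r₁, rfl⟩ := hx
    obtain ⟨K₂, _, a₂, r₂, rfl⟩ := hy
    refine ⟨K₁ ⊕ K₂, inferInstance, Sum.elim a₁ a₂, Sum.elim r₁ r₂, ?_⟩
    rw [Fintype.sum_sum_type]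
    simp

open TensorProduct in
theorem hinv_tensor (R G A : Type*) [CommRing R] [Group G] [Fintype G]
    [MulSemiringAction G R] [CommRing A] [Algebra (FixedPoints.subring R G) A]
    (r : R) (hr : ∀ σ : G, σ • r = r) :
    ∃ c : A, algebraMap A (A ⊗[FixedPoints.subring R G] R) c =
      (Algebra.TensorProduct.includeRight :
        R →ₐ[FixedPoints.subring R G] A ⊗[FixedPoints.subring R G] R).toRingHom r := by
  refine ⟨algebraMap (FixedPoints.subring R G) A ⟨r, hr⟩, ?_⟩
  rw [Algebra.TensorProduct.algebraMap_apply]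
  show (algebraMap A A (algebraMap (FixedPoints.subring R G) A ⟨r, hr⟩)) ⊗ₜ[FixedPoints.subring R G] (1 : R)
    = (1 : A) ⊗ₜ[FixedPoints.subring R G] r
  rw [Algebra.algebraMap_self_apply, Algebra.algebraMap_eq_smul_one, TensorProduct.smul_tmul]
  congr 1
  show (⟨r, hr⟩ : FixedPoints.subring R G) • (1 : R) = r
  rw [Subring.smul_def, smul_eq_mul, mul_one]

open TensorProduct in
theorem part1 (R G A : Type*) [CommRing R] [Group G] [Fintype G]
    [MulSemiringAction G R] [CommRing A] [Algebra (FixedPoints.subring R G) A]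
    (b : TensorProduct (FixedPoints.subring R G) A R)
    (hb : ∀ σ : G, Algebra.TensorProduct.map (AlgHom.id (FixedPoints.subring R G) A)
        (MulSemiringAction.toAlgHom (FixedPoints.subring R G) R σ) b = b) :
    ∃ P : Polynomial A, P.Monic ∧
        Polynomial.map (algebraMap A (TensorProduct (FixedPoints.subring R G) A R)) P =
          (Polynomial.X - Polynomial.C b) ^ Fintype.card G := by
  obtain ⟨K, _, a, r, rfl⟩ := exists_rep b
  obtain ⟨P, hP, -, -, hmap⟩ := gen (G := G)
    (algebraMap A (A ⊗[FixedPoints.subring R G] R))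
    (Algebra.TensorProduct.includeRight :
        R →ₐ[FixedPoints.subring R G] A ⊗[FixedPoints.subring R G] R).toRingHom
    (hinv_tensor R G A) ⊤ a (fun _ => Submodule.mem_top) r
  refine ⟨P, hP, ?_⟩
  rw [hmap]
  have : ∀ σ : G, (∑ k, algebraMap A (A ⊗[FixedPoints.subring R G] R) (a k) *
      (Algebra.TensorProduct.includeRight :
        R →ₐ[FixedPoints.subring R G] A ⊗[FixedPoints.subring R G] R).toRingHom (σ • r k)) =
      ∑ k, a k ⊗ₜ[FixedPoints.subring R G] r k := by
    intro σ
    rw [← hb σ, map_sum]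
    refine Finset.sum_congr rfl fun k _ => ?_
    rw [Algebra.TensorProduct.map_tmul, Algebra.TensorProduct.algebraMap_apply]
    show (algebraMap A A (a k) ⊗ₜ[FixedPoints.subring R G] (1 : R)) *
      ((1 : A) ⊗ₜ[FixedPoints.subring R G] (σ • r k)) = _
    rw [Algebra.TensorProduct.tmul_mul_tmul, mul_one, one_mul]
    rfl
  simp_rw [this]
  rw [Finset.prod_const, Finset.card_univ]

open TensorProduct in
theorem part2 (R G A : Type u) [CommRing R] [Group G] [Fintype G]
    [MulSemiringAction G R] [CommRing A] [Algebra (FixedPoints.subring R G) A]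
    (a : A) (ha : algebraMap A (TensorProduct (FixedPoints.subring R G) A R) a = 0)
    (i : ℕ) (hi : i < Fintype.card G) :
    ((Polynomial.X - Polynomial.C a) ^ Fintype.card G).coeff i = 0 := by
  classical
  let S := FixedPoints.subring R G
  let πA : MvPolynomial A S →ₐ[S] A := MvPolynomial.aeval id
  have hπ : Function.Surjective πA := fun x => ⟨MvPolynomial.X x, by simp [πA]⟩
  let fA : MvPolynomial A S →ₐ[S] MvPolynomial A R := MvPolynomial.mapAlgHom (Algebra.ofId S R)
  have hfA : ∀ x, fA x = MvPolynomial.map S.subtype x := fun x => rfl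
  have hfinj : Function.Injective fA := by
    intro x y hxy
    rw [hfA, hfA] at hxy
    exact MvPolynomial.map_injective _ Subtype.val_injective hxy
  let I' : Ideal (MvPolynomial A R) := Ideal.map (fA : MvPolynomial A S →+* MvPolynomial A R)
    (RingHom.ker πA)
  -- Step A
  have hXa : (MvPolynomial.X a : MvPolynomial A R) ∈ I' := by
    let φ₁' : (MvPolynomial A S ⧸ RingHom.ker πA) →ₐ[S] (MvPolynomial A R ⧸ I') :=
      Ideal.Quotient.liftₐ (RingHom.ker πA) ((Ideal.Quotient.mkₐ S I').comp fA) (fun x hx => by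
        show Ideal.Quotient.mk I' (fA x) = 0
        exact Ideal.Quotient.eq_zero_iff_mem.mpr (Ideal.mem_map_of_mem _ hx))
    let e : (MvPolynomial A S ⧸ RingHom.ker πA) ≃ₐ[S] A :=
      Ideal.quotientKerAlgEquivOfSurjective hπ
    let φ₁ : A →ₐ[S] (MvPolynomial A R ⧸ I') := φ₁'.comp (e.symm : A →ₐ[S] _)
    let φ₂ : R →ₐ[S] (MvPolynomial A R ⧸ I') :=
      (Ideal.Quotient.mkₐ S I').comp (IsScalarTower.toAlgHom S R (MvPolynomial A R))
    let ψ := Algebra.TensorProduct.productMap φ₁ φ₂
    have h1 : ψ (a ⊗ₜ 1) = Ideal.Quotient.mk I' (MvPolynomial.X a) := by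
      rw [Algebra.TensorProduct.productMap_apply_tmul, map_one, mul_one]
      have h2 : e.symm a = Ideal.Quotient.mk (RingHom.ker πA) (MvPolynomial.X a) := by
        rw [AlgEquiv.symm_apply_eq]
        show a = πA (MvPolynomial.X a)
        simp [πA]
      show φ₁' (e.symm a) = _
      rw [h2]
      show Ideal.Quotient.mk I' (fA (MvPolynomial.X a)) = _
      rw [hfA, MvPolynomial.map_X]
    have h3 : (a ⊗ₜ[S] (1 : R)) = 0 := by
      rw [← ha, Algebra.TensorProduct.algebraMap_apply]
      rfl
    rw [h3, map_zero] at h1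
    exact Ideal.Quotient.eq_zero_iff_mem.mp h1.symm
  -- Step B
  obtain ⟨c, hc, hsum⟩ : ∃ (c : R →₀ MvPolynomial A S) (_ : ∀ i, c i ∈ RingHom.ker πA),
      (c.sum fun i ci => fA ci * MvPolynomial.C i) = (MvPolynomial.X a : MvPolynomial A R) := by
    letI : Algebra (MvPolynomial A S) (MvPolynomial A R) :=
      (fA : MvPolynomial A S →+* MvPolynomial A R).toAlgebra
    have htop : Submodule.span (MvPolynomial A S)
        (Set.range (MvPolynomial.C : R → MvPolynomial A R)) = ⊤ := by
      rw [eq_top_iff]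
      rintro y -
      induction y using MvPolynomial.induction_on' with
      | monomial m c =>
        have : (MvPolynomial.monomial m c : MvPolynomial A R) =
            (MvPolynomial.monomial m (1 : S) : MvPolynomial A S) • (MvPolynomial.C c : MvPolynomial A R) := by
          rw [Algebra.smul_def]
          show _ = fA (MvPolynomial.monomial m 1) * MvPolynomial.C c
          rw [hfA, MvPolynomial.map_monomial, mul_comm, MvPolynomial.C_mul_monomial]
          simp
        rw [this]
        exact Submodule.smul_mem _ _ (Submodule.subset_span ⟨c, rfl⟩)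
      | add p q hp hq => exact Submodule.add_mem _ hp hq
    have hmem : (MvPolynomial.X a : MvPolynomial A R) ∈
        (RingHom.ker πA : Ideal (MvPolynomial A S)) • (⊤ : Submodule (MvPolynomial A S) (MvPolynomial A R)) := by
      rw [Ideal.smul_top_eq_map]
      exact hXa
    rw [← htop, Submodule.mem_ideal_smul_span_iff_exists_sum] at hmem
    obtain ⟨c, hc, hsum⟩ := hmem
    exact ⟨c, hc, hsum⟩
  -- Step C
  obtain ⟨Q, hQ, -, hQJ, hmap⟩ := gen (G := G)
    (fA : MvPolynomial A S →+* MvPolynomial A R) (MvPolynomial.C : R →+* MvPolynomial A R)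
    (fun r hr => ⟨MvPolynomial.C ⟨r, hr⟩, by
      show fA (MvPolynomial.C ⟨r, hr⟩) = _
      rw [hfA, MvPolynomial.map_C]; rfl⟩)
    (RingHom.ker πA) (fun k : c.support => c k) (fun k => hc k) (fun k : c.support => (k : R))
  -- Step D
  have hD : ∀ σ : G, (∑ k : c.support, (fA : MvPolynomial A S →+* MvPolynomial A R) (c k) *
      (MvPolynomial.C : R →+* MvPolynomial A R) (σ • (k : R))) = MvPolynomial.X a := by
    intro σ
    have h1 : MvPolynomial.map (MulSemiringAction.toRingHom G R σ)
        (c.sum fun i ci => fA ci * MvPolynomial.C i) = MvPolynomial.X a := by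
      rw [hsum, MvPolynomial.map_X]
    rw [← h1, Finsupp.sum, map_sum, ← Finset.sum_coe_sort c.support]
    refine Finset.sum_congr rfl fun k _ => ?_
    rw [map_mul, MvPolynomial.map_C]
    congr 1
    show fA (c k) = MvPolynomial.map (MulSemiringAction.toRingHom G R σ) (fA (c k))
    rw [hfA, MvPolynomial.map_map]
    have : (MulSemiringAction.toRingHom G R σ).comp S.subtype = S.subtype :=
      RingHom.ext fun s => s.2 σ
    rw [this]
  -- Step E
  simp_rw [hD] at hmap
  rw [Finset.prod_const, Finset.card_univ] at hmap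
  have hQeq : Q = (Polynomial.X - Polynomial.C (MvPolynomial.X a)) ^ Fintype.card G := by
    apply Polynomial.map_injective (fA : MvPolynomial A S →+* MvPolynomial A R) hfinj
    rw [hmap, Polynomial.map_pow, Polynomial.map_sub, Polynomial.map_X, Polynomial.map_C]
    congr 3
    show _ = fA (MvPolynomial.X a)
    rw [hfA, MvPolynomial.map_X]
  -- Step F
  have hF : (Polynomial.X - Polynomial.C a) ^ Fintype.card G =
      Polynomial.map (πA : MvPolynomial A S →+* A) Q := by
    rw [hQeq, Polynomial.map_pow, Polynomial.map_sub, Polynomial.map_X, Polynomial.map_C]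
    congr 3
    show a = πA (MvPolynomial.X a)
    simp [πA]
  rw [hF, Polynomial.coeff_map]
  exact hQJ i hi

theorem main (R G A : Type u) [CommRing R] [Group G] [Fintype G]
    [MulSemiringAction G R] [CommRing A] [Algebra (FixedPoints.subring R G) A] :
    (∀ b : TensorProduct (FixedPoints.subring R G) A R,
      (∀ σ : G, Algebra.TensorProduct.map (AlgHom.id (FixedPoints.subring R G) A)
        (MulSemiringAction.toAlgHom (FixedPoints.subring R G) R σ) b = b) →
      ∃ P : Polynomial A, P.Monic ∧
        Polynomial.map (algebraMap A (TensorProduct (FixedPoints.subring R G) A R)) P =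
          (Polynomial.X - Polynomial.C b) ^ Fintype.card G) ∧
    (∀ a : A, algebraMap A (TensorProduct (FixedPoints.subring R G) A R) a = 0 →
      ∀ i : ℕ, i < Fintype.card G → ((Polynomial.X - Polynomial.C a) ^ Fintype.card G).coeff i = 0) :=
  ⟨fun b hb => part1 R G A b hb, fun a ha i hi => part2 R G A a ha i hi⟩

end

/-- Let a finite group G with n elements act on a ring R by ring automorphisms, with invariant ring R^G,
and let A be an algebra over R^G; G acts on A ⊗ R through the factor R. (1) For every G-invariant b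
∈ A ⊗ R there is a monic polynomial over A whose image in (A ⊗ R)[T] is (T - b)^n. (2) For every a
in the kernel of A → A ⊗ R, all coefficients of (T - a)^n below degree n vanish, that is (T - a)^n =
T^n in A[T]. -/
theorem result (R G A : Type u) [CommRing R] [Group G] [Fintype G]
    [MulSemiringAction G R] [CommRing A] [Algebra (FixedPoints.subring R G) A] :
    (∀ b : TensorProduct (FixedPoints.subring R G) A R,
      (∀ σ : G, Algebra.TensorProduct.map (AlgHom.id (FixedPoints.subring R G) A)
        (MulSemiringAction.toAlgHom (FixedPoints.subring R G) R σ) b = b) →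
      ∃ P : Polynomial A, P.Monic ∧
        Polynomial.map (algebraMap A (TensorProduct (FixedPoints.subring R G) A R)) P =
          (Polynomial.X - Polynomial.C b) ^ Fintype.card G) ∧
    (∀ a : A, algebraMap A (TensorProduct (FixedPoints.subring R G) A R) a = 0 →
      ∀ i : ℕ, i < Fintype.card G → ((Polynomial.X - Polynomial.C a) ^ Fintype.card G).coeff i = 0) := by
  exact Groth.Agent.S9312.main R G A

end Groth.Agent.S9312
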