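import Groth.Statements.S9313
import Mathlib
-- import your own Groth.Agent.* helpers here

set_option autoImplicit false
universe u
open CAlg

namespace Groth.Agent.S9313

section
variable {A B : Type u} [CommRing A] [CommRing B] [Algebra A B]

/-- Lemma L': elements of `B'` lying in `IB` are pushed into `IB'` by a power of `j`. -/
lemma pow_mul_mem (I : Ideal A) (j : integralClosure A B)
    (hj : ∀ x : B, ∃ m : ℕ, IsIntegral A ((j : B) ^ m * x))
    (x : integralClosure A B) (hx : (x : B) ∈ I.map (algebraMap A B)) :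
    ∃ r : ℕ, j ^ r * x ∈ I.map (algebraMap A (integralClosure A B)) := by
  have key : ∀ z : B, z ∈ I.map (algebraMap A B) →
      ∃ (r : ℕ) (w : integralClosure A B), w ∈ I.map (algebraMap A (integralClosure A B)) ∧
        (w : B) = (j : B) ^ r * z := by
    intro z hz
    rw [Ideal.map] at hz
    induction hz using Submodule.span_induction with
    | mem z hz =>
      obtain ⟨a, ha, rfl⟩ := hz
      exact ⟨0, algebraMap A _ a, Ideal.mem_map_of_mem _ ha, by simp⟩
    | zero => exact ⟨0, 0, zero_mem _, by simp⟩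
    | add z₁ z₂ _ _ h₁ h₂ =>
      obtain ⟨r₁, w₁, hw₁, e₁⟩ := h₁
      obtain ⟨r₂, w₂, hw₂, e₂⟩ := h₂
      refine ⟨r₁ + r₂, j ^ r₂ * w₁ + j ^ r₁ * w₂,
        add_mem (Ideal.mul_mem_left _ _ hw₁) (Ideal.mul_mem_left _ _ hw₂), ?_⟩
      push_cast
      rw [e₁, e₂]; ring
    | smul b z _ h =>
      obtain ⟨r, w, hw, e⟩ := h
      obtain ⟨m, hm⟩ := hj b
      refine ⟨r + m, ⟨_, hm⟩ * w, Ideal.mul_mem_left _ _ hw, ?_⟩
      push_cast
      rw [e, smul_eq_mul]; ring
  obtain ⟨r, w, hw, e⟩ := key x hx
  refine ⟨r, ?_⟩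
  have : w = j ^ r * x := by
    apply Subtype.ext
    push_cast
    exact e
  rwa [← this]

lemma core (I : Ideal A) (e : B ⧸ I.map (algebraMap A B)) (he : IsIdempotentElem e)
    (j k : integralClosure A B) (hjk : k + j = 1)
    (hj : ∀ x : B, ∃ m : ℕ, IsIntegral A ((j : B) ^ m * x))
    (hk : Ideal.Quotient.mk (I.map (algebraMap A B)) (k : B) * e = 0) :
    ∃ g : integralClosure A B,
      IsIdempotentElem (Ideal.Quotient.mk (I.map (algebraMap A (integralClosure A B))) g) ∧
      Ideal.Quotient.mk (I.map (algebraMap A B)) (g : B) = e ∧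
      ∀ x : B, ∃ m : ℕ, IsIntegral A ((g : B) ^ m * x) := by
  obtain ⟨e', rfl⟩ := Ideal.Quotient.mk_surjective e
  set IB := I.map (algebraMap A B) with hIB
  set IB' := I.map (algebraMap A (integralClosure A B)) with hIB'
  set e := Ideal.Quotient.mk IB e' with he_def
  obtain ⟨m, hm⟩ := hj e'
  let y : integralClosure A B := ⟨(j : B) ^ m * e', hm⟩
  have hjB : (k : B) + (j : B) = 1 := by
    have := congrArg (fun z : integralClosure A B => (z : B)) hjk
    simpa using this
  have hje : Ideal.Quotient.mk IB (j : B) * e = e := by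
    have : Ideal.Quotient.mk IB (j : B) = 1 - Ideal.Quotient.mk IB (k : B) := by
      rw [← map_one (Ideal.Quotient.mk IB), ← hjB, map_add]; ring
    rw [this, sub_mul, hk, one_mul, sub_zero]
  have hjre : ∀ r : ℕ, Ideal.Quotient.mk IB ((j : B) ^ r) * e = e := by
    intro r
    induction r with
    | zero => simp
    | succ r ih => rw [pow_succ, map_mul, mul_assoc, hje, ih]
  have hy : Ideal.Quotient.mk IB (y : B) = e := by
    show Ideal.Quotient.mk IB ((j : B) ^ m * e') = e
    rw [map_mul]; exact hjre m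
  have h1 : ((y ^ 2 - y : integralClosure A B) : B) ∈ IB := by
    rw [← Ideal.Quotient.eq_zero_iff_mem]
    push_cast
    rw [map_sub, map_pow, hy, pow_two, he.eq, sub_self]
  have h2 : ((k * y : integralClosure A B) : B) ∈ IB := by
    rw [← Ideal.Quotient.eq_zero_iff_mem]
    push_cast
    rw [map_mul, hy, hk]
  obtain ⟨r₁, hr₁⟩ := pow_mul_mem I j hj (y ^ 2 - y) h1
  obtain ⟨r₂, hr₂⟩ := pow_mul_mem I j hj (k * y) h2
  set r := r₁ + r₂ with hr
  have hr₁' : j ^ (r + 1) * (y ^ 2 - y) ∈ IB' := by
    have : j ^ (r + 1) * (y ^ 2 - y) = j ^ (r₂ + 1) * (j ^ r₁ * (y ^ 2 - y)) := by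
      rw [hr]; ring
    rw [this]; exact Ideal.mul_mem_left _ _ hr₁
  have hr₂' : j ^ (r + 1) * (k * y) ∈ IB' := by
    have : j ^ (r + 1) * (k * y) = j ^ (r₁ + 1) * (j ^ r₂ * (k * y)) := by
      rw [hr]; ring
    rw [this]; exact Ideal.mul_mem_left _ _ hr₂
  refine ⟨j ^ (r + 1) * y, ?_, ?_, ?_⟩
  · rw [IsIdempotentElem, ← map_mul, ← sub_eq_zero, ← map_sub, Ideal.Quotient.eq_zero_iff_mem]
    set S := ∑ i ∈ Finset.range (r + 1), j ^ i with hS
    have hgeom : (j - 1) * S = j ^ (r + 1) - 1 := mul_geom_sum j (r + 1)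
    have hid : j ^ (r + 1) * y * (j ^ (r + 1) * y) - j ^ (r + 1) * y =
        j ^ (r + 1) * (j ^ (r + 1) * (y ^ 2 - y)) - (j ^ (r + 1) * (k * y)) * S := by
      linear_combination (-(j ^ (r + 1) * y)) * hgeom + (j ^ (r + 1) * y * S) * hjk
    rw [hid]
    exact sub_mem (Ideal.mul_mem_left _ _ hr₁') (Ideal.mul_mem_right _ _ hr₂')
  · push_cast
    rw [map_mul, hy]
    exact hjre (r + 1)
  · intro x
    obtain ⟨m₀, hm₀⟩ := hj x
    refine ⟨m₀, ?_⟩
    have : ((j ^ (r + 1) * y : integralClosure A B) : B) ^ m₀ * x =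
        ((y : B) ^ m₀ * (j : B) ^ (r * m₀)) * ((j : B) ^ m₀ * x) := by
      push_cast; ring
    rw [this]
    exact ((y.2.pow m₀).mul (j.2.pow _)).mul hm₀

lemma bij_of_P (g : integralClosure A B)
    (hg : ∀ x : B, ∃ m : ℕ, IsIntegral A ((g : B) ^ m * x)) :
    Function.Bijective (algebraMap (Localization.Away g)
        (Localization (Algebra.algebraMapSubmonoid B (Submonoid.powers g)))) := by
  constructor
  · exact localizationAlgebra_injective (Localization.Away g)
      (Localization (Algebra.algebraMapSubmonoid B (Submonoid.powers g))) Subtype.val_injective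
  · intro z
    obtain ⟨x, ⟨s, hs⟩, rfl⟩ := IsLocalization.exists_mk'_eq
      (Algebra.algebraMapSubmonoid B (Submonoid.powers g)) z
    obtain ⟨_, ⟨n, rfl⟩, rfl⟩ := hs
    obtain ⟨m, hm⟩ := hg x
    refine ⟨IsLocalization.mk' (Localization.Away g) (⟨_, hm⟩ : integralClosure A B)
      (⟨g ^ (m + n), ⟨m + n, rfl⟩⟩ : Submonoid.powers g), ?_⟩
    rw [localizationAlgebraMap_def, IsLocalization.map_mk']
    rw [IsLocalization.mk'_eq_iff_eq]
    congr 1
    show (algebraMap (integralClosure A B) B) (g ^ n) *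
      (algebraMap (integralClosure A B) B) ⟨(g : B) ^ m * x, hm⟩ =
      (algebraMap (integralClosure A B) B) (g ^ (m + n)) * x
    show ((g ^ n : integralClosure A B) : B) * ((g : B) ^ m * x) =
      ((g ^ (m + n) : integralClosure A B) : B) * x
    push_cast
    ring

variable (A B) in
/-- the ideal of elements `r` of the integral closure such that `B'[1/r] = B[1/r]`. -/
def J : Ideal (integralClosure A B) where
  carrier := {r | ∀ x : B, ∃ m : ℕ, IsIntegral A ((r : B) ^ m * x)}
  zero_mem' := fun x => ⟨1, by simp [isIntegral_zero]⟩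
  add_mem' := by
    intro r s hr hs x
    obtain ⟨m₁, h₁⟩ := hr x
    obtain ⟨m₂, h₂⟩ := hs x
    refine ⟨m₁ + m₂, ?_⟩
    push_cast
    rw [add_pow, Finset.sum_mul]
    refine IsIntegral.sum _ fun a ha => ?_
    rw [Finset.mem_range] at ha
    by_cases h : m₁ ≤ a
    · have : (r : B) ^ a * (s : B) ^ (m₁ + m₂ - a) * ((m₁ + m₂).choose a : B) * x =
          ((r : B) ^ (a - m₁) * (s : B) ^ (m₁ + m₂ - a) * ((m₁ + m₂).choose a : B)) *
            ((r : B) ^ m₁ * x) := by
        have hpow : (r : B) ^ a = (r : B) ^ (a - m₁) * (r : B) ^ m₁ := by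
          rw [← pow_add]; congr 1; omega
        rw [hpow]; ring
      rw [this]
      exact (((r.2.pow _).mul (s.2.pow _)).mul (isIntegral_algebraMap (x := ((m₁ + m₂).choose a : A))
        |> fun h => by simpa using h)).mul h₁
    · have hb : m₂ ≤ m₁ + m₂ - a := by omega
      have : (r : B) ^ a * (s : B) ^ (m₁ + m₂ - a) * ((m₁ + m₂).choose a : B) * x =
          ((r : B) ^ a * (s : B) ^ (m₁ + m₂ - a - m₂) * ((m₁ + m₂).choose a : B)) *
            ((s : B) ^ m₂ * x) := by
        have hpow : (s : B) ^ (m₁ + m₂ - a) = (s : B) ^ (m₁ + m₂ - a - m₂) * (s : B) ^ m₂ := by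
          rw [← pow_add]; congr 1; omega
        rw [hpow]; ring
      rw [this]
      exact (((r.2.pow _).mul (s.2.pow _)).mul (isIntegral_algebraMap (x := ((m₁ + m₂).choose a : A))
        |> fun h => by simpa using h)).mul h₂
  smul_mem' := by
    intro c r hr x
    obtain ⟨m, hm⟩ := hr x
    refine ⟨m, ?_⟩
    have : ((c • r : integralClosure A B) : B) ^ m * x = (c : B) ^ m * ((r : B) ^ m * x) := by
      rw [smul_eq_mul]; push_cast; ring
    rw [this]
    exact (c.2.pow m).mul hm

lemma mem_J (r : integralClosure A B) :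
    r ∈ J A B ↔ ∀ x : B, ∃ m : ℕ, IsIntegral A ((r : B) ^ m * x) := Iff.rfl

/-- quasi-finiteness at primes in the open-closed piece of `V(IB)` which is finite over `A`. -/
lemma qf_at {C : Type u} [CommRing C] [Algebra A C] [Algebra B C] [IsScalarTower A B C]
    [Algebra.FiniteType A B] [Module.Finite A C]
    (hsurj : Function.Surjective (algebraMap B C)) (I : Ideal A) (ε : B)
    (hε : ε * (1 - ε) ∈ I.map (algebraMap A B))
    (hK : RingHom.ker (algebraMap B C) = I.map (algebraMap A B) ⊔ Ideal.span {1 - ε})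
    (q : Ideal B) [hqp : q.IsPrime] (hq : RingHom.ker (algebraMap B C) ≤ q) :
    Algebra.QuasiFiniteAt A q := by
  set π := algebraMap B C with hπ
  -- general facts for primes containing the kernel
  have hmapprime : ∀ q' : Ideal B, q'.IsPrime → RingHom.ker π ≤ q' → (q'.map π).IsPrime :=
    fun q' h1 h2 => Ideal.map_isPrime_of_surjective hsurj h2
  have hcomapmap : ∀ q' : Ideal B, RingHom.ker π ≤ q' → (q'.map π).comap π = q' := by
    intro q' h2
    rw [Ideal.comap_map_of_surjective' π hsurj, sup_eq_left]; exact h2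
  have hunder : ∀ q' : Ideal B, RingHom.ker π ≤ q' →
      (q'.map π).comap (algebraMap A C) = q'.comap (algebraMap A B) := by
    intro q' h2
    rw [IsScalarTower.algebraMap_eq A B C, ← Ideal.comap_comap, hcomapmap q' h2]
  set p := q.comap (algebraMap A B) with hp
  haveI : p.IsPrime := Ideal.comap_isPrime _ _
  set q₁ := q.map π with hq₁
  haveI : q₁.IsPrime := hmapprime q hqp hq
  haveI : q₁.LiesOver p := ⟨(hunder q hq).symm⟩
  obtain ⟨s, hs, hs'⟩ := Ideal.exists_not_mem_forall_mem_of_ne_of_liesOver p q₁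
  obtain ⟨s', rfl⟩ := hsurj s
  have h1ε : (1 - ε) ∈ RingHom.ker π := by
    rw [hK]; exact Ideal.mem_sup_right (Ideal.mem_span_singleton_self _)
  have hIq : ∀ q' : Ideal B, q'.comap (algebraMap A B) = p → I.map (algebraMap A B) ≤ q' := by
    intro q' hq'
    rw [Ideal.map_le_iff_le_comap, hq', hp, ← Ideal.map_le_iff_le_comap]
    refine le_trans ?_ hq
    rw [hK]; exact le_sup_left
  let qq : PrimeSpectrum B := ⟨q, hqp⟩
  have := Algebra.QuasiFiniteAt.of_isOpen_singleton_fiber (R := A) qq ?_
  · exact this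
  · have hset : ({⟨qq, rfl⟩} : Set ((PrimeSpectrum.comap (algebraMap A B)) ⁻¹'
        {PrimeSpectrum.comap (algebraMap A B) qq})) =
        Subtype.val ⁻¹' (PrimeSpectrum.basicOpen (ε * s') : Set (PrimeSpectrum B)) := by
      ext ⟨q', hq'⟩
      simp only [Set.mem_singleton_iff, Subtype.mk.injEq, Set.mem_preimage, SetLike.mem_coe,
        PrimeSpectrum.mem_basicOpen]
      have hq'p : q'.asIdeal.comap (algebraMap A B) = p := by
        have := congrArg PrimeSpectrum.asIdeal hq'
        simpa using this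
      constructor
      · rintro rfl
        intro hmem
        rcases hqp.mem_or_mem hmem with h | h
        · apply hqp.ne_top
          rw [Ideal.eq_top_iff_one]
          have := q.add_mem h (hq h1ε)
          simpa using this
        · exact hs (Ideal.mem_map_of_mem π h)
      · intro hmem
        have hε' : ε ∉ q'.asIdeal := fun h => hmem (Ideal.mul_mem_right _ _ h)
        have hs'' : s' ∉ q'.asIdeal := fun h => hmem (Ideal.mul_mem_left _ _ h)
        have hIq' := hIq q'.asIdeal hq'p
        have h1 : (1 - ε) ∈ q'.asIdeal :=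
          (q'.2.mem_or_mem (hIq' hε)).resolve_left hε'
        have hker : RingHom.ker π ≤ q'.asIdeal := by
          rw [hK]
          exact sup_le hIq' ((Ideal.span_singleton_le_iff_mem _).mpr h1)
        haveI := hmapprime q'.asIdeal q'.2 hker
        have hlo : (q'.asIdeal.map π).LiesOver p := ⟨by rw [Ideal.under, hunder _ hker, hq'p]⟩
        have hnot : π s' ∉ q'.asIdeal.map π := by
          intro h
          apply hs''
          rw [← hcomapmap _ hker]
          exact h
        have heq : q'.asIdeal.map π = q₁ := by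
          by_contra hne
          exact hnot (hs' _ inferInstance hne hlo)
        apply PrimeSpectrum.ext
        show q'.asIdeal = q
        rw [← hcomapmap _ hker, heq, hq₁, hcomapmap _ hq]
    rw [hset]
    exact (PrimeSpectrum.basicOpen (ε * s')).isOpen.preimage continuous_subtype_val

lemma exists_add_eq_one {C : Type u} [CommRing C] [Algebra A C] [Algebra B C] [IsScalarTower A B C]
    [Algebra.FiniteType A B] [Module.Finite A C]
    (hsurj : Function.Surjective (algebraMap B C)) (I : Ideal A) (ε : B)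
    (hε : ε * (1 - ε) ∈ I.map (algebraMap A B))
    (hK : RingHom.ker (algebraMap B C) = I.map (algebraMap A B) ⊔ Ideal.span {1 - ε}) :
    ∃ k j : integralClosure A B, k + j = 1 ∧ algebraMap B C (k : B) = 0 ∧ j ∈ J A B := by
  set K₁ : Ideal (integralClosure A B) :=
    RingHom.ker (algebraMap (integralClosure A B) C) with hK₁
  have hmap : ∀ x : integralClosure A B, algebraMap (integralClosure A B) C x =
      algebraMap B C (x : B) := fun x => rfl
  suffices h : K₁ ⊔ J A B = ⊤ by
    have h1 : (1 : integralClosure A B) ∈ K₁ ⊔ J A B := by rw [h]; trivial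
    obtain ⟨k, hk, j, hj, hkj⟩ := Submodule.mem_sup.mp h1
    exact ⟨k, j, hkj, by rw [← hmap]; exact hk, hj⟩
  by_contra hne
  obtain ⟨M, hM, hle⟩ := Ideal.exists_le_maximal _ hne
  haveI := hM.isPrime
  haveI : Algebra.IsIntegral A C := inferInstance
  haveI : Algebra.IsIntegral (integralClosure A B) C :=
    ⟨fun c => (Algebra.IsIntegral.isIntegral (R := A) c).tower_top⟩
  obtain ⟨Q, _, hQp, hQ⟩ := Ideal.exists_ideal_over_prime_of_isIntegral M (⊥ : Ideal C) (by
    rw [← RingHom.ker_eq_comap_bot]; exact le_trans le_sup_left hle)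
  set q := Q.comap (algebraMap B C) with hq
  haveI : q.IsPrime := Ideal.comap_isPrime _ _
  have hkq : RingHom.ker (algebraMap B C) ≤ q := by
    rw [RingHom.ker_eq_comap_bot]; exact Ideal.comap_mono bot_le
  haveI := qf_at hsurj I ε hε hK q hkq
  have hZ := Algebra.ZariskisMainProperty.of_finiteType (R := A) q
  obtain ⟨r, hrq, hr, hr'⟩ := Algebra.zariskisMainProperty_iff.mp hZ
  have hrJ : (⟨r, hr⟩ : integralClosure A B) ∈ J A B := hr'
  have : (⟨r, hr⟩ : integralClosure A B) ∈ M := hle (Ideal.mem_sup_right hrJ)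
  rw [← hQ] at this
  exact hrq this

theorem main (A B : Type u) [CommRing A] [CommRing B]
    [Algebra A B] [Algebra.FiniteType A B] (I : Ideal A) (e : B ⧸ Ideal.map (algebraMap A B) I)
    (he : IsIdempotentElem e)
    (hfin : Module.Finite (A ⧸ I) ((B ⧸ Ideal.map (algebraMap A B) I) ⧸ Ideal.span {1 - e})) :
    ∃ g : integralClosure A B,
      IsIdempotentElem (Ideal.Quotient.mk (Ideal.map (algebraMap A (integralClosure A B)) I) g) ∧
      Ideal.Quotient.mk (Ideal.map (algebraMap A B) I) (g : B) = e ∧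
      Function.Bijective (algebraMap (Localization.Away g)
        (Localization (Algebra.algebraMapSubmonoid B (Submonoid.powers g)))) := by
  haveI : Module.Finite A ((B ⧸ Ideal.map (algebraMap A B) I) ⧸ Ideal.span {1 - e}) :=
    Module.Finite.trans (A ⧸ I) _
  obtain ⟨ε, rfl⟩ := Ideal.Quotient.mk_surjective e
  set IB := Ideal.map (algebraMap A B) I with hIB
  set e := Ideal.Quotient.mk IB ε with he_def
  have halg : ∀ b : B, algebraMap B ((B ⧸ IB) ⧸ Ideal.span {1 - e}) b =
      Ideal.Quotient.mk (Ideal.span {1 - e}) (Ideal.Quotient.mk IB b) := fun b => rfl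
  have hsurj : Function.Surjective (algebraMap B ((B ⧸ IB) ⧸ Ideal.span {1 - e})) := by
    intro c
    obtain ⟨c', rfl⟩ := Ideal.Quotient.mk_surjective c
    obtain ⟨c'', rfl⟩ := Ideal.Quotient.mk_surjective c'
    exact ⟨c'', halg c''⟩
  have hε : ε * (1 - ε) ∈ IB := by
    rw [← Ideal.Quotient.eq_zero_iff_mem, map_mul, map_sub, map_one, ← he_def, mul_sub, mul_one,
      he.eq, sub_self]
  have hspan : Ideal.span {1 - e} = (Ideal.span {1 - ε}).map (Ideal.Quotient.mk IB) := by
    rw [Ideal.map_span, Set.image_singleton, map_sub, map_one]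
  have hK : RingHom.ker (algebraMap B ((B ⧸ IB) ⧸ Ideal.span {1 - e})) =
      IB ⊔ Ideal.span {1 - ε} := by
    ext b
    rw [RingHom.mem_ker, halg, Ideal.Quotient.eq_zero_iff_mem, hspan, ← Ideal.mem_comap,
      Ideal.comap_map_of_surjective' _ Ideal.Quotient.mk_surjective, Ideal.mk_ker, sup_comm]
  obtain ⟨k, j, hkj, hk0, hjJ⟩ := exists_add_eq_one hsurj I ε hε hK
  have hk : Ideal.Quotient.mk IB (k : B) * e = 0 := by
    rw [halg, Ideal.Quotient.eq_zero_iff_mem, Ideal.mem_span_singleton'] at hk0
    obtain ⟨c, hc⟩ := hk0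
    rw [← hc, mul_assoc, sub_mul, one_mul, he.eq, sub_self, mul_zero]
  obtain ⟨g, h1, h2, h3⟩ := core I e he j k hkj ((mem_J j).mp hjJ) hk
  exact ⟨g, h1, h2, bij_of_P g h3⟩

end

/-- Let A be a ring with an ideal I and A → B a ring map of finite type, and suppose B/IB = C_1 × C_2
(given by an idempotent e of B/IB with C_1 = (B/IB)/(1 - e)) where C_1 is finite over A/I. Writing
B' for the integral closure of A in B, some g ∈ B' has idempotent image in B'/IB' lifting e (so
B'/IB' = C_1' × C_2' compatibly with the decomposition of B/IB), and the map B'_g → B_g is an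
isomorphism (whence C_1' = C_1). -/
theorem result (A B : Type u) [CommRing A] [CommRing B]
    [Algebra A B] [Algebra.FiniteType A B] (I : Ideal A) (e : B ⧸ Ideal.map (algebraMap A B) I)
    (he : IsIdempotentElem e)
    (hfin : Module.Finite (A ⧸ I) ((B ⧸ Ideal.map (algebraMap A B) I) ⧸ Ideal.span {1 - e})) :
    ∃ g : integralClosure A B,
      IsIdempotentElem (Ideal.Quotient.mk (Ideal.map (algebraMap A (integralClosure A B)) I) g) ∧
      Ideal.Quotient.mk (Ideal.map (algebraMap A B) I) (g : B) = e ∧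
      Function.Bijective (algebraMap (Localization.Away g)
        (Localization (Algebra.algebraMapSubmonoid B (Submonoid.powers g)))) := by
  exact Groth.Agent.S9313.main A B I e he hfin

end Groth.Agent.S9313
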