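import Groth.Statements.S9315
import Mathlib
-- import your own Groth.Agent.* helpers here

set_option autoImplicit false
universe u
open CAlg

namespace Groth.Agent.S9315

open IsLocalRing

theorem fwd {R S : Type u} [CommRing R] [CommRing S] [IsLocalRing R] [IsLocalRing S] [Algebra R S]
    (h : CAlgX.IsAdicFormallySmooth R S (maximalIdeal S))
    (A : Type u) [CommRing A] [IsLocalRing A] [Algebra R A] (J : Ideal A) (hJ : J ^ 2 = ⊥)
    (hn : ∃ n : ℕ, maximalIdeal A ^ n = ⊥)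
    [IsLocalRing (A ⧸ J)] (ψ : S →ₐ[R] A ⧸ J) [IsLocalHom ψ.toRingHom] :
    ∃ χ : S →ₐ[R] A, (Ideal.Quotient.mkₐ R J).comp χ = ψ := by
  obtain ⟨n, hn⟩ := hn
  refine h A J hJ ψ ⟨n, ?_⟩
  intro x hx
  have h1 : (maximalIdeal S).map ψ.toRingHom ≤ (maximalIdeal A).map (Ideal.Quotient.mk J) := by
    rw [Ideal.map_le_iff_le_comap]
    intro s hs
    rw [Ideal.mem_comap]
    obtain ⟨a, ha⟩ := Ideal.Quotient.mk_surjective (ψ.toRingHom s)
    rw [← ha]
    apply Ideal.mem_map_of_mem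
    rw [mem_maximalIdeal, mem_nonunits_iff]
    intro hu
    have : IsUnit (ψ.toRingHom s) := by rw [← ha]; exact hu.map _
    exact (mem_maximalIdeal _).mp hs (isUnit_of_map_unit ψ.toRingHom s this)
  have h2 := Ideal.mem_map_of_mem ψ.toRingHom hx
  rw [Ideal.map_pow] at h2
  have h3 := Ideal.pow_right_mono h1 n h2
  rw [← Ideal.map_pow, hn, Ideal.map_bot] at h3
  exact h3

theorem bwd {R S : Type u} [CommRing R] [CommRing S] [IsLocalRing R] [IsLocalRing S] [Algebra R S]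
    [IsLocalHom (algebraMap R S)]
    (LP : ∀ (A : Type u) [CommRing A] [IsLocalRing A] [Algebra R A] [IsLocalHom (algebraMap R A)]
        (J : Ideal A), J ^ 2 = ⊥ → (∃ n : ℕ, maximalIdeal A ^ n = ⊥) →
        ∀ [IsLocalRing (A ⧸ J)] (ψ : S →ₐ[R] A ⧸ J) [IsLocalHom ψ.toRingHom],
          Function.Bijective (ResidueField.map ψ.toRingHom) →
          ∃ χ : S →ₐ[R] A, (Ideal.Quotient.mkₐ R J).comp χ = ψ) :
    CAlgX.IsAdicFormallySmooth R S (maximalIdeal S) := by
  intro A₀ _ _ J₀ hJ₀ ψ₀ hψ₀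
  obtain ⟨k, hk1, hk⟩ : ∃ k : ℕ, 1 ≤ k ∧ ∀ x ∈ maximalIdeal S ^ k, ψ₀ x = 0 := by
    obtain ⟨k₀, hk₀⟩ := hψ₀
    exact ⟨k₀ + 1, Nat.le_add_left 1 k₀,
      fun x hx => hk₀ x (Ideal.pow_le_pow_right (Nat.le_succ _) hx)⟩
  have hproper : maximalIdeal S ^ k ≠ ⊤ := by
    intro htop
    have h1 : maximalIdeal S ^ k ≤ maximalIdeal S := Ideal.pow_le_self (by omega)
    rw [htop] at h1
    exact (maximalIdeal.isMaximal S).ne_top (top_le_iff.mp h1)
  haveI : Nontrivial (S ⧸ maximalIdeal S ^ k) := Ideal.Quotient.nontrivial_iff.mpr hproper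
  haveI : IsLocalRing (S ⧸ maximalIdeal S ^ k) :=
    IsLocalRing.of_surjective' (Ideal.Quotient.mk _) Ideal.Quotient.mk_surjective
  haveI hlocmk : IsLocalHom (Ideal.Quotient.mk (maximalIdeal S ^ k)) :=
    IsLocalHom.of_surjective _ Ideal.Quotient.mk_surjective
  let ψbar : (S ⧸ maximalIdeal S ^ k) →ₐ[R] A₀ ⧸ J₀ :=
    Ideal.Quotient.liftₐ (maximalIdeal S ^ k) ψ₀ hk
  let f₁ : A₀ × (S ⧸ maximalIdeal S ^ k) →ₐ[R] A₀ ⧸ J₀ :=
    (Ideal.Quotient.mkₐ R J₀).comp (AlgHom.fst R A₀ (S ⧸ maximalIdeal S ^ k))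
  let f₂ : A₀ × (S ⧸ maximalIdeal S ^ k) →ₐ[R] A₀ ⧸ J₀ :=
    ψbar.comp (AlgHom.snd R A₀ (S ⧸ maximalIdeal S ^ k))
  let P : Subalgebra R (A₀ × (S ⧸ maximalIdeal S ^ k)) := AlgHom.equalizer f₁ f₂
  let pr₂ : P →ₐ[R] (S ⧸ maximalIdeal S ^ k) :=
    (AlgHom.snd R A₀ (S ⧸ maximalIdeal S ^ k)).comp P.val
  let pr₁ : P →ₐ[R] A₀ := (AlgHom.fst R A₀ (S ⧸ maximalIdeal S ^ k)).comp P.val
  have hP : ∀ x : P, Ideal.Quotient.mk J₀ (pr₁ x) = ψbar (pr₂ x) := fun x => x.2
  have hsurj : Function.Surjective pr₂ := by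
    intro t
    obtain ⟨a, ha⟩ := Ideal.Quotient.mk_surjective (ψbar t)
    exact ⟨⟨(a, t), ha⟩, rfl⟩
  have hker : ∀ x : P, pr₂ x = 0 → pr₁ x ∈ J₀ := by
    intro x hx
    rw [← Ideal.Quotient.eq_zero_iff_mem, hP, hx, map_zero]
  have hsq : RingHom.ker pr₂ ^ 2 = ⊥ := by
    rw [pow_two, eq_bot_iff, Ideal.mul_le]
    intro x hx y hy
    rw [RingHom.mem_ker] at hx hy
    rw [Ideal.mem_bot]
    apply Subtype.ext
    apply Prod.ext
    · change pr₁ (x * y) = 0
      have h1 : pr₁ x * pr₁ y ∈ J₀ ^ 2 := by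
        rw [pow_two]
        exact Ideal.mul_mem_mul (hker x hx) (hker y hy)
      rw [hJ₀, Ideal.mem_bot] at h1
      rw [map_mul, h1]
    · change pr₂ (x * y) = 0
      rw [map_mul, hx, zero_mul]
  have hunit : ∀ x : P, IsUnit (pr₂ x) → IsUnit x := by
    intro x hx
    rw [← IsNilpotent.isUnit_quotient_mk_iff (I := RingHom.ker pr₂) ⟨2, hsq⟩]
    have h1 : Ideal.quotientKerAlgEquivOfSurjective hsurj (Ideal.Quotient.mk _ x) = pr₂ x := rfl
    rw [← h1] at hx
    exact (isUnit_map_iff (Ideal.quotientKerAlgEquivOfSurjective hsurj) _).mp hx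
  haveI hlocpr : IsLocalHom pr₂.toRingHom := ⟨hunit⟩
  haveI : IsLocalRing P := RingHom.domain_isLocalRing pr₂.toRingHom
  haveI : IsLocalHom (algebraMap R P) := by
    constructor
    intro r hr
    have h1 : IsUnit (pr₂ (algebraMap R P r)) := hr.map pr₂
    rw [AlgHom.commutes] at h1
    have h2 : algebraMap R (S ⧸ maximalIdeal S ^ k) r =
        Ideal.Quotient.mk _ (algebraMap R S r) := rfl
    rw [h2] at h1
    exact isUnit_of_map_unit (algebraMap R S) r (isUnit_of_map_unit (Ideal.Quotient.mk _) _ h1)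
  have hmSk : maximalIdeal (S ⧸ maximalIdeal S ^ k) ^ k = ⊥ := by
    have h1 : maximalIdeal (S ⧸ maximalIdeal S ^ k) ≤
        (maximalIdeal S).map (Ideal.Quotient.mk (maximalIdeal S ^ k)) := by
      intro x hx
      obtain ⟨s, rfl⟩ := Ideal.Quotient.mk_surjective x
      apply Ideal.mem_map_of_mem
      rw [mem_maximalIdeal, mem_nonunits_iff]
      intro hu
      exact (mem_maximalIdeal _).mp hx (hu.map _)
    rw [eq_bot_iff]
    refine (Ideal.pow_right_mono h1 k).trans ?_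
    rw [← Ideal.map_pow, Ideal.map_quotient_self]
  have hmax : ∃ n : ℕ, maximalIdeal P ^ n = ⊥ := by
    refine ⟨k + k, ?_⟩
    have h1 : maximalIdeal P ^ k ≤ RingHom.ker pr₂ := by
      have h2 : (maximalIdeal P).map pr₂.toRingHom ≤ maximalIdeal (S ⧸ maximalIdeal S ^ k) := by
        rw [Ideal.map_le_iff_le_comap]
        intro x hx
        rw [Ideal.mem_comap, mem_maximalIdeal, mem_nonunits_iff]
        intro hu
        exact (mem_maximalIdeal _).mp hx (hunit x hu)
      intro x hx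
      rw [RingHom.mem_ker]
      have h3 := Ideal.mem_map_of_mem pr₂.toRingHom hx
      rw [Ideal.map_pow] at h3
      have h4 := Ideal.pow_right_mono h2 k h3
      rw [hmSk] at h4
      exact h4
    rw [eq_bot_iff, pow_add, ← hsq, pow_two]
    exact Ideal.mul_mono h1 h1
  let e := Ideal.quotientKerAlgEquivOfSurjective hsurj
  haveI : IsLocalRing (P ⧸ RingHom.ker pr₂) := e.symm.toRingEquiv.isLocalRing
  let ψ' : S →ₐ[R] P ⧸ RingHom.ker pr₂ :=
    e.symm.toAlgHom.comp (Ideal.Quotient.mkₐ R (maximalIdeal S ^ k))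
  have hψ' : ∀ s : S, e (ψ' s) = Ideal.Quotient.mk _ s := fun s => e.apply_symm_apply _
  haveI : IsLocalHom ψ'.toRingHom := by
    constructor
    intro s hs
    have h1 : IsUnit (e (ψ' s)) := hs.map e
    rw [hψ'] at h1
    exact isUnit_of_map_unit (Ideal.Quotient.mk _) s h1
  obtain ⟨χP, hχP⟩ : ∃ χ : S →ₐ[R] P,
      (Ideal.Quotient.mkₐ R (RingHom.ker pr₂)).comp χ = ψ' := by
    apply LP P (RingHom.ker pr₂) hsq hmax ψ'
    refine ⟨RingHom.injective _, ?_⟩
    intro y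
    obtain ⟨b, rfl⟩ := residue_surjective y
    obtain ⟨s, hs⟩ : ∃ s : S, ψ' s = b := by
      obtain ⟨s, hs⟩ := Ideal.Quotient.mk_surjective (e b)
      refine ⟨s, ?_⟩
      apply e.injective
      rw [hψ', hs]
    exact ⟨residue S s, by rw [ResidueField.map_residue]; exact congrArg _ hs⟩
  refine ⟨pr₁.comp χP, ?_⟩
  apply AlgHom.ext
  intro s
  have h1 : Ideal.Quotient.mk (RingHom.ker pr₂) (χP s) = ψ' s := DFunLike.congr_fun hχP s
  have h2 : pr₂ (χP s) = Ideal.Quotient.mk _ s := by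
    rw [← hψ', ← h1]
    rfl
  change Ideal.Quotient.mk J₀ (pr₁ (χP s)) = ψ₀ s
  rw [hP, h2]
  rfl

open IsLocalRing in
/-- Let `R → S` be a local homomorphism of local rings (no Noetherian hypothesis). Then `R → S` is
formally smooth for the adic topology of the maximal ideal of `S` if and only if the following
lifting property holds: for every local ring `A` with a local structure map `R → A`, every ideal `J`
of `A` of square zero such that some power of the maximal ideal of `A` is zero, and every local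
`R`-algebra homomorphism `ψ : S → A/J` inducing a bijection on residue fields, there is an
`R`-algebra homomorphism `S → A` lifting `ψ`. -/
theorem result {R S : Type u} [CommRing R] [CommRing S]
    [IsLocalRing R] [IsLocalRing S] [Algebra R S] [IsLocalHom (algebraMap R S)] :
    CAlgX.IsAdicFormallySmooth R S (maximalIdeal S) ↔
      ∀ (A : Type u) [CommRing A] [IsLocalRing A] [Algebra R A] [IsLocalHom (algebraMap R A)]
        (J : Ideal A), J ^ 2 = ⊥ → (∃ n : ℕ, maximalIdeal A ^ n = ⊥) →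
        ∀ [IsLocalRing (A ⧸ J)] (ψ : S →ₐ[R] A ⧸ J) [IsLocalHom ψ.toRingHom],
          Function.Bijective (ResidueField.map ψ.toRingHom) →
          ∃ χ : S →ₐ[R] A, (Ideal.Quotient.mkₐ R J).comp χ = ψ := by
  constructor
  · intro h A _ _ _ _ J hJ hn _ ψ _ _
    exact fwd h A J hJ hn ψ
  · intro LP
    exact bwd LP

end Groth.Agent.S9315
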