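import Groth.Statements.S9323
import Mathlib
import Groth.Agent.S4533
import Groth.Agent.S9455
-- import your own Groth.Agent.* helpers here

set_option autoImplicit false
open CAlg

namespace Groth.Agent.S9323

theorem maxIdeal_aux (Λ : Type*) [CommRing Λ] [IsLocalRing Λ] (n : ℕ) :
    IsLocalRing.maximalIdeal (MvPowerSeries (Fin n) Λ) =
      (IsLocalRing.maximalIdeal Λ).map (MvPowerSeries.C : Λ →+* MvPowerSeries (Fin n) Λ) ⊔
        RingHom.ker (MvPowerSeries.constantCoeff : MvPowerSeries (Fin n) Λ →+* Λ) := by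
  have hsurj : Function.Surjective
      (MvPowerSeries.constantCoeff : MvPowerSeries (Fin n) Λ →+* Λ) :=
    fun a => ⟨MvPowerSeries.C a, MvPowerSeries.constantCoeff_C a⟩
  have h1 : (IsLocalRing.maximalIdeal Λ).map
      (MvPowerSeries.C : Λ →+* MvPowerSeries (Fin n) Λ) ⊔
        RingHom.ker (MvPowerSeries.constantCoeff : MvPowerSeries (Fin n) Λ →+* Λ) =
      (IsLocalRing.maximalIdeal Λ).comap
        (MvPowerSeries.constantCoeff : MvPowerSeries (Fin n) Λ →+* Λ) := by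
    apply le_antisymm
    · apply sup_le
      · rw [Ideal.map_le_iff_le_comap]
        intro a ha
        simpa using ha
      · intro f hf
        rw [RingHom.mem_ker] at hf
        simp [hf]
    · intro f hf
      rw [Ideal.mem_comap] at hf
      have : f = MvPowerSeries.C (MvPowerSeries.constantCoeff f) +
          (f - MvPowerSeries.C (MvPowerSeries.constantCoeff f)) := by ring
      rw [this]
      refine Ideal.add_mem _ (Ideal.mem_sup_left (Ideal.mem_map_of_mem _ hf))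
        (Ideal.mem_sup_right ?_)
      simp [RingHom.mem_ker]
  rw [h1]
  symm
  apply IsLocalRing.eq_maximalIdeal
  exact Ideal.comap_isMaximal_of_surjective _ hsurj

/-- the canonical ring hom `ZMod m → R` when `m = 0` in `R`. -/
noncomputable def zmodHom (m : ℕ) (R : Type*) [CommRing R] (h : (m : R) = 0) : ZMod m →+* R :=
  (Ideal.Quotient.lift (Ideal.span {(m : ℤ)}) (Int.castRingHom R) (by
    intro a ha
    rw [Ideal.mem_span_singleton] at ha
    obtain ⟨b, rfl⟩ := ha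
    simp [h])).comp (Int.quotientSpanNatEquivZMod m).symm.toRingHom

/-- Let `Λ` be a Cohen ring (a complete discrete valuation ring whose maximal ideal is generated by a
prime number) and `n ≥ 0`. Then `ℤ → Λ[[x_1, …, x_n]]` is formally smooth for the adic topology of
the maximal ideal of the power series ring. (`Λ` is taken in the lowest universe, where `ℤ` lives.) -/
theorem result (Λ : Type) [CommRing Λ] [IsLocalRing Λ]
    (hΛ : CAlg.IsCohenRing Λ) (n : ℕ) :
    CAlgX.IsAdicFormallySmooth ℤ (MvPowerSeries (Fin n) Λ)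
      (IsLocalRing.maximalIdeal (MvPowerSeries (Fin n) Λ)) := by
  obtain ⟨hdom, hdvr, hcomp, p, hp, hm⟩ := hΛ
  intro A _ _ J hJ ψ hψ
  obtain ⟨k, hk⟩ := hψ
  have hpmem : (p : MvPowerSeries (Fin n) Λ) ∈
      IsLocalRing.maximalIdeal (MvPowerSeries (Fin n) Λ) := by
    rw [maxIdeal_aux]
    apply Ideal.mem_sup_left
    have : (p : MvPowerSeries (Fin n) Λ) = MvPowerSeries.C (p : Λ) := by simp
    rw [this]
    apply Ideal.mem_map_of_mem
    rw [hm]
    exact Ideal.subset_span rfl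
  have hpk : ((p : A ⧸ J)) ^ k = 0 := by
    have := hk _ (Ideal.pow_mem_pow hpmem k)
    simpa using this
  have hpkJ : (p : A) ^ k ∈ J := by
    rw [← Ideal.Quotient.eq_zero_iff_mem]
    simpa using hpk
  have hpN : (p : A) ^ (2 * k + 1) = 0 := by
    have h1 : (p : A) ^ k * (p : A) ^ k ∈ J ^ 2 := by
      rw [pow_two]
      exact Ideal.mul_mem_mul hpkJ hpkJ
    rw [hJ, Ideal.mem_bot] at h1
    calc (p : A) ^ (2 * k + 1) = (p : A) ^ k * (p : A) ^ k * p := by ring
      _ = 0 := by rw [h1, zero_mul]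
  generalize hN : 2 * k + 1 = N at hpN
  have hN1 : 1 ≤ N := by omega
  have hpN' : ((p ^ N : ℕ) : A) = 0 := by
    rw [Nat.cast_pow]; exact hpN
  have hpNΛ : ((p ^ N : ℕ) : Λ ⧸ Ideal.span {((p : Λ) ^ N)}) = 0 := by
    rw [Nat.cast_pow, ← map_natCast (Ideal.Quotient.mk (Ideal.span {((p : Λ) ^ N)})), ← map_pow]
    exact Ideal.Quotient.eq_zero_iff_mem.mpr (Ideal.subset_span rfl)
  letI algA : Algebra (ZMod (p ^ N)) A := (zmodHom (p ^ N) A hpN').toAlgebra
  letI algΛ : Algebra (ZMod (p ^ N)) (Λ ⧸ Ideal.span {((p : Λ) ^ N)}) :=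
    (zmodHom (p ^ N) _ hpNΛ).toAlgebra
  haveI hfs : Algebra.FormallySmooth (ZMod (p ^ N)) (Λ ⧸ Ideal.span {((p : Λ) ^ N)}) :=
    Groth.Agent.S9455.result Λ p hp hm N hN1
  -- the map on Λ / p^N
  have hψC : ∀ a ∈ Ideal.span {((p : Λ) ^ N)},
      ((ψ : MvPowerSeries (Fin n) Λ →+* A ⧸ J).comp MvPowerSeries.C) a = 0 := by
    intro a ha
    rw [Ideal.mem_span_singleton] at ha
    obtain ⟨b, rfl⟩ := ha
    have h2 : ((p : A ⧸ J)) ^ N = 0 := by
      rw [← map_natCast (Ideal.Quotient.mk J), ← map_pow, hpN, map_zero]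
    simp [h2]
  let ψ₀ : Λ ⧸ Ideal.span {((p : Λ) ^ N)} →+* A ⧸ J :=
    Ideal.Quotient.lift _ ((ψ : MvPowerSeries (Fin n) Λ →+* A ⧸ J).comp MvPowerSeries.C) hψC
  let ψ₀' : Λ ⧸ Ideal.span {((p : Λ) ^ N)} →ₐ[ZMod (p ^ N)] A ⧸ J :=
    { ψ₀ with
      commutes' := fun r => DFunLike.congr_fun (Subsingleton.elim
        (ψ₀.comp (algebraMap (ZMod (p ^ N)) (Λ ⧸ Ideal.span {((p : Λ) ^ N)})))
        (algebraMap (ZMod (p ^ N)) (A ⧸ J))) r }
  obtain ⟨φ₀, hφ₀⟩ := Algebra.FormallySmooth.comp_surjective (ZMod (p ^ N))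
    (Λ ⧸ Ideal.span {((p : Λ) ^ N)}) J hJ ψ₀'
  let φ : Λ →+* A := (φ₀ : Λ ⧸ Ideal.span {((p : Λ) ^ N)} →+* A).comp (Ideal.Quotient.mk _)
  have hφ : ∀ r : Λ, Ideal.Quotient.mk J (φ r) = ψ (MvPowerSeries.C r) := by
    intro r
    have := DFunLike.congr_fun hφ₀ (Ideal.Quotient.mk _ r)
    exact this
  letI algΛA : Algebra Λ A := φ.toAlgebra
  let ψ' : MvPowerSeries (Fin n) Λ →ₐ[Λ] A ⧸ J :=
    { (ψ : MvPowerSeries (Fin n) Λ →+* A ⧸ J) with
      commutes' := fun r => by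
        have h1 : algebraMap Λ (MvPowerSeries (Fin n) Λ) r = MvPowerSeries.C r := by
          rw [MvPowerSeries.algebraMap_apply]; simp
        have h2 : algebraMap Λ (A ⧸ J) r = Ideal.Quotient.mk J (φ r) := by
          rw [← Ideal.Quotient.mk_algebraMap]; rfl
        rw [h2, hφ]
        simp [h1] }
  have hkill : ((IsLocalRing.maximalIdeal Λ) ^ N).map (algebraMap Λ A) = ⊥ := by
    rw [hm, Ideal.span_singleton_pow, Ideal.map_span, Set.image_singleton,
      Ideal.span_singleton_eq_bot]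
    change φ ((p : Λ) ^ N) = 0
    rw [map_pow, map_natCast, hpN]
  have hk' : ∀ x ∈ ((IsLocalRing.maximalIdeal Λ).map
      (MvPowerSeries.C : Λ →+* MvPowerSeries (Fin n) Λ) ⊔
        RingHom.ker (MvPowerSeries.constantCoeff : MvPowerSeries (Fin n) Λ →+* Λ)) ^ k,
      ψ' x = 0 := by
    rw [← maxIdeal_aux]
    exact hk
  obtain ⟨v, hv⟩ := Groth.Agent.S4533.result Λ (IsLocalRing.maximalIdeal Λ) n A J ⟨2, hJ⟩
    ⟨N, hkill⟩ ψ' ⟨k, hk'⟩
  refine ⟨{ (v : MvPowerSeries (Fin n) Λ →+* A) with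
    commutes' := fun r => by
      rw [eq_intCast (algebraMap ℤ (MvPowerSeries (Fin n) Λ)) r, eq_intCast (algebraMap ℤ A) r]
      simp }, ?_⟩
  apply AlgHom.ext
  intro x
  exact DFunLike.congr_fun hv x

end Groth.Agent.S9323
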