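import Groth.Statements.S9325
import Mathlib
-- import your own Groth.Agent.* helpers here

set_option autoImplicit false
universe u
open CAlg

namespace Groth.Agent.S9325

section

theorem global {A' B' : Type*} [CommRing A'] [CommRing B'] (ψ : A' →+* B')
    (hψ : Function.Surjective ψ) (J' : Ideal A') (hIJ : RingHom.ker ψ ≤ J')
    {c : ℕ} (f : Fin c → B') (hf : CAlgX.IsH1Regular f)
    (hspan : Ideal.span (Set.range f) = J'.map ψ) :
    RingHom.ker ψ ⊓ J' ^ 2 ≤ RingHom.ker ψ * J' := by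
  classical
  set I' := RingHom.ker ψ with hI'
  -- lifts of f
  have hlift : ∀ i, ∃ b ∈ J', ψ b = f i := by
    intro i
    have : f i ∈ J'.map ψ := hspan ▸ Ideal.subset_span ⟨i, rfl⟩
    exact (Ideal.mem_map_iff_of_surjective ψ hψ).mp this
  choose b hbJ hb using hlift
  let T : (Fin c → A') → A' := fun a => ∑ i, a i * b i
  have hTadd : ∀ a a', T (a + a') = T a + T a' := by
    intro a a'
    simp only [T, Pi.add_apply, add_mul, Finset.sum_add_distrib]
  have hTsmul : ∀ (D : A') a, T (D • a) = D * T a := by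
    intro D a
    simp only [T, Pi.smul_apply, smul_eq_mul, Finset.mul_sum, mul_assoc]
  have hTI : ∀ a : Fin c → A', (∀ i, a i ∈ I') → T a ∈ I' * J' := by
    intro a ha
    exact Ideal.sum_mem _ fun i _ => Ideal.mul_mem_mul (ha i) (hbJ i)
  -- key: lifting of relations
  have key : ∀ v ∈ Submodule.span B'
      {v : Fin c → B' | ∃ i j : Fin c, v = Pi.single i (f j) - Pi.single j (f i)},
      ∃ a' : Fin c → A', (∀ i, ψ (a' i) = v i) ∧ T a' ∈ I' * J' := by
    intro v hv
    refine Submodule.span_induction ?_ ?_ ?_ ?_ hv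
    · rintro v ⟨i, j, rfl⟩
      refine ⟨Pi.single i (b j) - Pi.single j (b i), ?_, ?_⟩
      · intro k
        simp only [Pi.sub_apply, map_sub, Pi.single_apply]
        split_ifs <;> simp [hb]
      · have : T (Pi.single i (b j) - Pi.single j (b i)) = 0 := by
          simp only [T, Pi.sub_apply, sub_mul, Finset.sum_sub_distrib, Pi.single_apply, ite_mul,
            zero_mul, Finset.sum_ite_eq', Finset.mem_univ, if_true]
          ring
        rw [this]; exact Ideal.zero_mem _
    · exact ⟨0, fun i => by simp, by simp [T]⟩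
    · rintro v w _ _ ⟨a1, h1, h1'⟩ ⟨a2, h2, h2'⟩
      refine ⟨a1 + a2, fun i => by simp [h1, h2], ?_⟩
      rw [hTadd]; exact Ideal.add_mem _ h1' h2'
    · rintro d v _ ⟨a1, h1, h1'⟩
      obtain ⟨D, rfl⟩ := hψ d
      refine ⟨D • a1, fun i => by simp [h1], ?_⟩
      rw [hTsmul]; exact Ideal.mul_mem_left _ _ h1'
  -- J' = I' ⊔ span b
  have hJ : J' = I' ⊔ Ideal.span (Set.range b) := by
    apply le_antisymm
    · intro j hj
      have h1 : ψ j ∈ Ideal.span (Set.range f) := hspan ▸ Ideal.mem_map_of_mem ψ hj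
      rw [Ideal.mem_span_range_iff_exists_fun] at h1
      obtain ⟨γ, hγ⟩ := h1
      choose cc hcc using fun i => hψ (γ i)
      have h2 : j - ∑ i, cc i * b i ∈ I' := by
        rw [hI', RingHom.mem_ker, map_sub, map_sum, ← hγ, sub_eq_zero]
        refine Finset.sum_congr rfl fun i _ => ?_
        rw [map_mul, hcc, hb]
      have h3 : ∑ i, cc i * b i ∈ Ideal.span (Set.range b) :=
        Ideal.sum_mem _ fun i _ => Ideal.mul_mem_left _ _ (Ideal.subset_span ⟨i, rfl⟩)
      have : j = (j - ∑ i, cc i * b i) + ∑ i, cc i * b i := by ring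
      rw [this]
      exact Ideal.add_mem _ (Ideal.mem_sup_left h2) (Ideal.mem_sup_right h3)
    · exact sup_le hIJ (Ideal.span_le.mpr (by rintro _ ⟨i, rfl⟩; exact hbJ i))
  rintro x ⟨hxI, hxJ⟩
  have hxJ' : x ∈ J' * (I' ⊔ Ideal.span (Set.range b)) := by
    rw [← hJ, ← pow_two]; exact hxJ
  rw [Ideal.mul_sup] at hxJ'
  obtain ⟨y, hy, z, hz, rfl⟩ := Submodule.mem_sup.mp hxJ'
  have hy' : y ∈ I' * J' := by rw [mul_comm]; exact hy
  refine Ideal.add_mem _ hy' ?_
  -- z = ∑ a i * b i with a i ∈ J'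
  rw [← smul_eq_mul, ← Ideal.submodule_span_eq,
    Submodule.mem_ideal_smul_span_iff_exists_sum] at hz
  obtain ⟨a, haJ, hasum⟩ := hz
  have hzT : z = T a := by
    rw [← hasum, Finsupp.sum_fintype _ _ (fun i => by simp)]
    rfl
  have hψz : ψ z = 0 := by
    have h1 : ψ (y + z) = 0 := hxI
    have h2 : ψ y = 0 := Ideal.mul_le_right (I := J') hy
    rw [map_add, h2, zero_add] at h1
    exact h1
  have hrel : ∑ i, ψ (a i) * f i = 0 := by
    rw [← hψz, hzT]
    simp only [T, map_sum, map_mul, hb]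
  obtain ⟨a', ha', hTa'⟩ := key _ (hf (fun i => ψ (a i)) hrel)
  have hdiff : T (a - a') ∈ I' * J' := by
    apply hTI
    intro i
    rw [hI', RingHom.mem_ker, Pi.sub_apply, map_sub, ha', sub_self]
  have : T a = T (a - a') + T a' := by
    rw [← hTadd, sub_add_cancel]
  rw [hzT, this]
  exact Ideal.add_mem _ hdiff hTa'

theorem main {A : Type u} [CommRing A] (I J : Ideal A)
    (hIJ : I ≤ J)
    (h : ∀ (𝔮 : Ideal (A ⧸ I)) [𝔮.IsPrime], J.map (Ideal.Quotient.mk I) ≤ 𝔮 →
      ∃ g : A ⧸ I, g ∉ 𝔮 ∧ ∃ (c : ℕ) (f : Fin c → Localization.Away g),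
        CAlgX.IsH1Regular f ∧
          Ideal.span (Set.range f) =
            (J.map (Ideal.Quotient.mk I)).map (algebraMap (A ⧸ I) (Localization.Away g))) :
    I ⊓ J ^ 2 = I * J := by
  apply le_antisymm
  swap
  · exact le_inf Ideal.mul_le_left (by rw [pow_two]; exact Ideal.mul_mono_left hIJ)
  rintro x ⟨hxI, hxJ2⟩
  have hxJ : x ∈ J := Ideal.pow_le_self two_ne_zero hxJ2
  by_contra hx
  let 𝔞 : Ideal A :=
    { carrier := {a | a * x ∈ I * J}
      add_mem' := by
        intro a b ha hb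
        change (a + b) * x ∈ I * J
        rw [add_mul]; exact Ideal.add_mem _ ha hb
      zero_mem' := by
        change 0 * x ∈ I * J
        rw [zero_mul]; exact Ideal.zero_mem _
      smul_mem' := by
        intro c a ha
        change (c * a) * x ∈ I * J
        rw [mul_assoc]; exact Ideal.mul_mem_left _ _ ha }
  have h𝔞 : ∀ a, a ∈ 𝔞 ↔ a * x ∈ I * J := fun a => Iff.rfl
  have h𝔞top : 𝔞 ≠ ⊤ := by
    intro htop
    have : (1 : A) ∈ 𝔞 := htop ▸ Submodule.mem_top
    rw [h𝔞, one_mul] at this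
    exact hx this
  obtain ⟨p, hpmax, hple⟩ := Ideal.exists_le_maximal 𝔞 h𝔞top
  haveI hpprime : p.IsPrime := hpmax.isPrime
  have hI𝔞 : I ≤ 𝔞 := fun a ha => (h𝔞 a).mpr (Ideal.mul_mem_mul ha hxJ)
  have hJ𝔞 : J ≤ 𝔞 := fun a ha => (h𝔞 a).mpr (by rw [mul_comm a x]; exact Ideal.mul_mem_mul (show x ∈ I from hxI) ha)
  have hIp : I ≤ p := hI𝔞.trans hple
  have hJp : J ≤ p := hJ𝔞.trans hple
  have hker : RingHom.ker (Ideal.Quotient.mk I) ≤ p := by rw [Ideal.mk_ker]; exact hIp
  haveI : (p.map (Ideal.Quotient.mk I)).IsPrime :=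
    Ideal.map_isPrime_of_surjective Ideal.Quotient.mk_surjective hker
  obtain ⟨g, hg, c, f, hf, hspan⟩ := h (p.map (Ideal.Quotient.mk I)) (Ideal.map_mono hJp)
  obtain ⟨g', rfl⟩ := Ideal.Quotient.mk_surjective g
  have hg'p : g' ∉ p := fun hg' => hg (Ideal.mem_map_of_mem _ hg')
  let ψ : Localization.Away g' →+* Localization.Away (Ideal.Quotient.mk I g') :=
    Localization.awayMap (Ideal.Quotient.mk I) g'
  have hψsurj : Function.Surjective ψ := by
    rw [Localization.awayMap_surjective_iff]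
    intro a
    obtain ⟨b, rfl⟩ := Ideal.Quotient.mk_surjective a
    exact ⟨b, 0, by simp⟩
  have hψker : RingHom.ker ψ = I.map (algebraMap A (Localization.Away g')) := by
    have := IsLocalization.ker_map (S := Localization.Away g')
      (Localization.Away (Ideal.Quotient.mk I g')) (Ideal.Quotient.mk I)
      (Submonoid.map_powers (Ideal.Quotient.mk I) g')
    rw [Ideal.mk_ker] at this
    exact this
  have hψcomp : ψ.comp (algebraMap A (Localization.Away g')) =
      (algebraMap (A ⧸ I) (Localization.Away (Ideal.Quotient.mk I g'))).comp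
        (Ideal.Quotient.mk I) := IsLocalization.map_comp _
  have hspan' : Ideal.span (Set.range f) =
      (J.map (algebraMap A (Localization.Away g'))).map ψ := by
    rw [hspan, Ideal.map_map, Ideal.map_map, hψcomp]
  have hle : RingHom.ker ψ ≤ J.map (algebraMap A (Localization.Away g')) := by
    rw [hψker]; exact Ideal.map_mono hIJ
  have hglob := global ψ hψsurj _ hle f hf hspan'
  have hxmem : algebraMap A (Localization.Away g') x ∈
      RingHom.ker ψ ⊓ (J.map (algebraMap A (Localization.Away g'))) ^ 2 := by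
    refine ⟨?_, ?_⟩
    · rw [hψker]; exact Ideal.mem_map_of_mem _ hxI
    · rw [← Ideal.map_pow]; exact Ideal.mem_map_of_mem _ hxJ2
  have hx2 := hglob hxmem
  rw [hψker, ← Ideal.map_mul,
    IsLocalization.algebraMap_mem_map_algebraMap_iff (Submonoid.powers g')] at hx2
  obtain ⟨m, ⟨n, rfl⟩, hm⟩ := hx2
  have : g' ^ n ∈ p := hple ((h𝔞 _).mpr hm)
  exact hg'p (hpprime.mem_of_pow_mem n this)

end

/-- Let `A` be a ring and `I ⊆ J` ideals of `A` such that the ideal `J/I` of `A/I` is `H_1`-regular: for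
every prime `𝔮` of `A/I` containing `J/I` there is `g ∉ 𝔮` such that the extension of `J/I` to
`(A/I)_g` is generated by an `H_1`-regular sequence (a finite sequence all of whose linear relations
are combinations of the trivial ones). Then `I ∩ J² = I J`. -/
theorem result {A : Type u} [CommRing A] (I J : Ideal A)
    (hIJ : I ≤ J)
    (h : ∀ (𝔮 : Ideal (A ⧸ I)) [𝔮.IsPrime], J.map (Ideal.Quotient.mk I) ≤ 𝔮 →
      ∃ g : A ⧸ I, g ∉ 𝔮 ∧ ∃ (c : ℕ) (f : Fin c → Localization.Away g),
        CAlgX.IsH1Regular f ∧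
          Ideal.span (Set.range f) =
            (J.map (Ideal.Quotient.mk I)).map (algebraMap (A ⧸ I) (Localization.Away g))) :
    I ⊓ J ^ 2 = I * J := by
  exact Groth.Agent.S9325.main I J hIJ h

end Groth.Agent.S9325
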