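import Groth.Statements.S9326
import Mathlib
-- import your own Groth.Agent.* helpers here

set_option autoImplicit false
universe u
open CAlg

namespace Groth.Agent.S9326

section
open Filter Topology

variable {N M : Type u} [AddCommGroup N]
    [AddCommGroup M] [UniformSpace N] [IsUniformAddGroup N] [TopologicalSpace M]
    [IsTopologicalAddGroup M] [T2Space M] [T2Space N] [CompleteSpace N] [NonarchimedeanAddGroup N]
    [FirstCountableTopology N]

theorem image_open (u : N →+ M) (hu : Continuous u)
    (H : ∀ V : OpenAddSubgroup N, (interior (closure (u '' (V : Set N)))).Nonempty)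
    (V : OpenAddSubgroup N) : IsOpen (u '' (V : Set N)) := by
  classical
  -- closure of image of an open subgroup is an open subgroup
  let C : OpenAddSubgroup N → AddSubgroup M := fun W =>
    ((W : AddSubgroup N).map u).topologicalClosure
  have hCcoe : ∀ W : OpenAddSubgroup N, (C W : Set M) = closure (u '' (W : Set N)) := by
    intro W; rfl
  have hCopen : ∀ W : OpenAddSubgroup N, IsOpen (C W : Set M) := by
    intro W
    obtain ⟨g, hg⟩ := H W
    apply AddSubgroup.isOpen_of_mem_nhds (C W) (g := g)
    rw [hCcoe]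
    exact mem_interior_iff_mem_nhds.mp hg
  -- antitone basis of open subgroups
  obtain ⟨xb, hxb⟩ := (𝓝 (0 : N)).exists_antitone_basis
  have hV' : ∀ n, ∃ V' : OpenAddSubgroup N, (V' : Set N) ⊆ xb n := fun n =>
    NonarchimedeanAddGroup.is_nonarchimedean (xb n) (hxb.mem n)
  choose V' hV' using hV'
  obtain ⟨W, hW0, hWs⟩ : ∃ W : ℕ → OpenAddSubgroup N, W 0 = V ∧ ∀ n, W (n + 1) = W n ⊓ V' n :=
    ⟨fun n => Nat.rec V (fun n Wn => Wn ⊓ V' n) n, rfl, fun n => rfl⟩
  have hWanti : Antitone W := antitone_nat_of_succ_le fun n => by rw [hWs]; exact inf_le_left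
  have hWV : ∀ n, W n ≤ V := fun n => hW0 ▸ hWanti (Nat.zero_le n)
  have hWxb : ∀ n, ((W (n + 1) : OpenAddSubgroup N) : Set N) ⊆ xb n := fun n => by
    rw [hWs]
    intro z hz
    exact hV' n hz.2
  -- it suffices to show the closure is contained in the image
  suffices hsub : closure (u '' (V : Set N)) ⊆ u '' (V : Set N) by
    have : u '' (V : Set N) = closure (u '' (V : Set N)) := subset_antisymm subset_closure hsub
    rw [this, ← hCcoe]
    exact hCopen V
  intro y hy
  -- one step
  have step : ∀ (n : ℕ) (r : M), r ∈ closure (u '' ((W n : OpenAddSubgroup N) : Set N)) →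
      ∃ x, x ∈ W n ∧ r - u x ∈ closure (u '' ((W (n + 1) : OpenAddSubgroup N) : Set N)) := by
    intro n r hr
    have hnb : (fun z => r - z) ⁻¹' (C (W (n + 1)) : Set M) ∈ 𝓝 r := by
      apply ((continuous_const.sub continuous_id).isOpen_preimage _ (hCopen _)).mem_nhds
      change r - r ∈ (C (W (n + 1)) : Set M)
      rw [sub_self]
      exact (C (W (n + 1))).zero_mem
    obtain ⟨z, hz1, ⟨x, hx, rfl⟩⟩ := mem_closure_iff_nhds.mp hr _ hnb
    exact ⟨x, hx, hz1⟩
  choose! g hg1 hg2 using step
  obtain ⟨s, hs0, hss⟩ : ∃ s : ℕ → N, s 0 = 0 ∧ ∀ n, s (n + 1) = s n + g n (y - u (s n)) :=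
    ⟨fun n => Nat.rec 0 (fun n sn => sn + g n (y - u sn)) n, rfl, fun n => rfl⟩
  have hsP : ∀ n : ℕ, s n ∈ V ∧ y - u (s n) ∈ closure (u '' ((W n : OpenAddSubgroup N) : Set N)) := by
    intro n
    induction n with
    | zero =>
      refine ⟨by rw [hs0]; exact V.zero_mem, ?_⟩
      rw [hs0, map_zero, sub_zero, hW0]
      exact hy
    | succ n ih =>
      refine ⟨?_, ?_⟩
      · rw [hss]
        exact V.add_mem ih.1 (hWV n (hg1 n _ ih.2))
      · rw [hss, map_add, ← sub_sub]
        exact hg2 n _ ih.2
  have hdiff : ∀ n, s (n + 1) - s n ∈ W n := by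
    intro n
    rw [hss, add_sub_cancel_left]
    exact hg1 n _ (hsP n).2
  have htend0 : Tendsto (fun n => s (n + 1) - s n) atTop (𝓝 0) := by
    rw [hxb.1.tendsto_right_iff]
    intro i _
    filter_upwards [eventually_ge_atTop (i + 1)] with n hn
    exact hWxb i (hWanti hn (hdiff n))
  have hcau : CauchySeq s := NonarchimedeanAddGroup.cauchySeq_of_tendsto_sub_nhds_zero htend0
  obtain ⟨a, ha⟩ := cauchySeq_tendsto_of_complete hcau
  have haV : a ∈ (V : Set N) :=
    V.isClosed.mem_of_tendsto ha (Eventually.of_forall fun n => (hsP n).1)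
  refine ⟨a, haV, ?_⟩
  have h1 : Tendsto (fun n => y - u (s n)) atTop (𝓝 (y - u a)) :=
    tendsto_const_nhds.sub ((hu.tendsto a).comp ha)
  have h2 : Tendsto (fun n => y - u (s n)) atTop (𝓝 0) := by
    rw [(closed_nhds_basis (0 : M)).tendsto_right_iff]
    rintro T ⟨hT, hTc⟩
    have hpre : u ⁻¹' T ∈ 𝓝 (0 : N) := by
      apply hu.continuousAt
      rw [map_zero]; exact hT
    obtain ⟨i, -, hi⟩ := hxb.1.mem_iff.mp hpre
    filter_upwards [eventually_ge_atTop (i + 1)] with n hn
    have hsubT : u '' ((W n : OpenAddSubgroup N) : Set N) ⊆ T := by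
      rintro _ ⟨x, hx, rfl⟩
      exact hi (hWxb i (hWanti hn hx))
    exact closure_minimal hsubT hTc (hsP n).2
  have := tendsto_nhds_unique h1 h2
  rw [sub_eq_zero] at this
  exact this.symm

theorem main {N M : Type u} [AddCommGroup N]
    [AddCommGroup M] [UniformSpace N] [IsUniformAddGroup N] [TopologicalSpace M]
    [IsTopologicalAddGroup M] [T2Space M] [T2Space N] [CompleteSpace N] [NonarchimedeanAddGroup N]
    [FirstCountableTopology N] (u : N →+ M) (hu : Continuous u) :
    Xor (IsOpenMap u) (∃ V : OpenAddSubgroup N, IsNowhereDense (u '' (V : Set N))) := by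
  by_cases h : ∃ V : OpenAddSubgroup N, IsNowhereDense (u '' (V : Set N))
  · right
    refine ⟨h, fun hopen => ?_⟩
    obtain ⟨V, hV⟩ := h
    have h1 : IsOpen (u '' (V : Set N)) := hopen _ V.isOpen
    have h0 : (0 : M) ∈ u '' (V : Set N) := ⟨0, V.zero_mem, map_zero u⟩
    have h2 : (0 : M) ∈ interior (closure (u '' (V : Set N))) :=
      interior_mono subset_closure (h1.interior_eq.symm ▸ h0)
    rw [IsNowhereDense] at hV
    rw [hV] at h2
    exact h2
  · left
    refine ⟨?_, h⟩
    push Not at h
    have H : ∀ V : OpenAddSubgroup N, (interior (closure (u '' (V : Set N)))).Nonempty :=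
      fun V => Set.nonempty_iff_ne_empty.mpr (h V)
    intro U hU
    rw [isOpen_iff_mem_nhds]
    rintro _ ⟨x, hx, rfl⟩
    have hpre : (fun z => x + z) ⁻¹' U ∈ 𝓝 (0 : N) := by
      apply ((continuous_const.add continuous_id).isOpen_preimage _ hU).mem_nhds
      change x + 0 ∈ U
      rw [add_zero]; exact hx
    obtain ⟨V, hV⟩ := NonarchimedeanAddGroup.is_nonarchimedean _ hpre
    have hopenV := image_open u hu H V
    have hmem : (fun m => m - u x) ⁻¹' (u '' (V : Set N)) ∈ 𝓝 (u x) := by
      apply ((continuous_id.sub continuous_const).isOpen_preimage _ hopenV).mem_nhds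
      change u x - u x ∈ u '' (V : Set N)
      rw [sub_self]
      exact ⟨0, V.zero_mem, map_zero u⟩
    refine Filter.mem_of_superset hmem ?_
    rintro m ⟨v, hv, hvm⟩
    refine ⟨x + v, hV hv, ?_⟩
    rw [map_add, hvm]
    exact add_sub_cancel (u x) m

end

/-- Let `u : N → M` be a continuous homomorphism of topological abelian groups. Assume `M` is Hausdorff
and `N` is Hausdorff and complete, linearly topologized (every neighbourhood of zero contains an
open subgroup) and first countable (zero has a countable basis of neighbourhoods). Then exactly one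
of two things holds: `u` is an open map; or there is an open subgroup of `N` whose image is nowhere
dense in `M`. -/
theorem result {N M : Type u} [AddCommGroup N]
    [AddCommGroup M] [UniformSpace N] [IsUniformAddGroup N] [TopologicalSpace M]
    [IsTopologicalAddGroup M] [T2Space M] [T2Space N] [CompleteSpace N] [NonarchimedeanAddGroup N]
    [FirstCountableTopology N] (u : N →+ M) (hu : Continuous u) :
    Xor (IsOpenMap u) (∃ V : OpenAddSubgroup N, IsNowhereDense (u '' (V : Set N))) := by
  exact Groth.Agent.S9326.main u hu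

end Groth.Agent.S9326
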