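import Groth.Statements.S9332
-- import your own Groth.Agent.* helpers here

set_option autoImplicit false
universe u
open QFin

namespace Groth.Agent.S9332

open AlgebraicGeometry CategoryTheory in
/-- Let f : X → S be locally of finite type and x ∈ X. Then x is closed in its fibre X_{f x} if and only
if κ(x) is a finite extension of κ(f x) (via the residue field map of f at x). -/
theorem result {X S : Scheme.{u}} (f : X ⟶ S) [LocallyOfFiniteType f] (x : X) :
    IsClosed ({f.asFiber x} : Set ↑(f.fiber (f.base x))) ↔ (f.residueFieldMap x).hom.Finite := by
  set K := X.residueField x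
  haveI hsub : Subsingleton ↑(Spec K) :=
    inferInstanceAs (Subsingleton (PrimeSpectrum K))
  haveI hπ : LocallyOfFiniteType (f.fiberToSpecResidueField (f.base x)) :=
    MorphismProperty.pullback_snd _ _ inferInstance
  haveI hJ : JacobsonSpace ↑(Spec (S.residueField (f.base x))) :=
    inferInstanceAs (JacobsonSpace (PrimeSpectrum (S.residueField (f.base x))))
  constructor
  · intro hcl
    have hrange : IsClosed (Set.range (f.asFiberHom x)) := by
      rw [Scheme.Hom.range_asFiberHom]; exact hcl
    haveI : IsClosedImmersion (f.asFiberHom x) := .of_isPreimmersion _ hrange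
    haveI : LocallyOfFiniteType (Spec.map (f.residueFieldMap x)) := by
      rw [← Scheme.Hom.asFiberHom_fiberToSpecResidueField]
      infer_instance
    have hfin : IsFinite (Spec.map (f.residueFieldMap x)) :=
      isFinite_iff_locallyOfFiniteType_of_jacobsonSpace.mpr inferInstance
    exact (IsFinite.SpecMap_iff _).mp hfin
  · intro hfin
    have h1 : IsFinite (Spec.map (f.residueFieldMap x)) := (IsFinite.SpecMap_iff _).mpr hfin
    haveI : LocallyOfFiniteType (f.asFiberHom x ≫ f.fiberToSpecResidueField (f.base x)) := by
      rw [Scheme.Hom.asFiberHom_fiberToSpecResidueField]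
      infer_instance
    haveI : LocallyOfFiniteType (f.asFiberHom x) :=
      locallyOfFiniteType_of_comp _ (f.fiberToSpecResidueField (f.base x))
    have h2 : IsFinite (f.asFiberHom x) :=
      isFinite_iff_locallyOfFiniteType_of_jacobsonSpace.mpr inferInstance
    have h3 := (f.asFiberHom x).isClosedMap.isClosed_range
    rwa [Scheme.Hom.range_asFiberHom] at h3

end Groth.Agent.S9332
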