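import Groth.Statements.S9333
import Mathlib
import Groth.Agent.Lib.Helper14.FibreDimBC
import Groth.Agent.Lib.Helper14.QuasiSection
import Groth.Agent.Lib.Helper14.AlgFiber
-- import your own Groth.Agent.* helpers here

set_option autoImplicit false
universe u
open QFin

namespace Groth.Agent.S9333

open AlgebraicGeometry CategoryTheory in
/-- Let f : X → S be locally of finite type, g : S' → S any morphism and X' = X ×_S S' with projections
g' : X' → X and f' : X' → S'. If x' ∈ X' maps to x ∈ X and x is closed in the fibre X_{f x}, then x'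
is closed in the fibre X'_{f' x'}. -/
theorem result {X S X' S' : Scheme.{u}} (f : X ⟶ S) [LocallyOfFiniteType f] (g : S' ⟶ S)
    (g' : X' ⟶ X) (f' : X' ⟶ S') (hsq : IsPullback g' f' f g) (x' : X')
    (hx : IsClosed ({f.asFiber (g'.base x')} : Set ↑(f.fiber (f.base (g'.base x'))))) :
    IsClosed ({f'.asFiber x'} : Set ↑(f'.fiber (f'.base x'))) := by
  have hcl : ∀ w : X, f w = f (g' x') → g' x' ⤳ w → w = g' x' := by
    intro w hfw hw
    have h3 : f.asFiber (g' x') ⤳ (f.fiberHomeo (f (g' x'))).symm ⟨w, hfw⟩ := by
      apply Specializes.map _ (f.fiberHomeo (f (g' x'))).symm.continuous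
      rw [subtype_specializes_iff]
      exact hw
    have h4 := h3.mem_closed hx rfl
    have h5 := congrArg (f.fiberι (f (g' x'))) (Set.mem_singleton_iff.mp h4)
    rw [f.fiberι_fiberHomeo_symm, f.fiberι_asFiber] at h5
    exact h5
  obtain ⟨n, hn⟩ := Groth.Agent.Helper14.ResFieldBridge.exists_nat_trdeg_residueField f (g' x')
  have hn0 := Groth.Agent.Helper14.QuasiSection.trdeg_eq_zero_of_closed f (g' x') hcl n hn
  have h1 := (Groth.Agent.Helper14.FibreBC.trdeg_of_isPullback hsq x').1
  rw [hn, hn0] at h1
  have h2 : @Algebra.trdeg (S'.residueField (f' x')) (X'.residueField x') _ _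
        (f'.residueFieldMap x').hom.toAlgebra = 0 := by
    apply le_antisymm _ zero_le
    exact_mod_cast h1
  apply Groth.Agent.Helper14.isClosed_singleton_asFiber_of_isAlgebraic f' x'
  letI := (f'.residueFieldMap x').hom.toAlgebra
  exact _root_.trdeg_eq_zero_iff.mp h2

end Groth.Agent.S9333
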