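import Groth.Statements.S9335
-- import your own Groth.Agent.* helpers here

set_option autoImplicit false
universe u
open QFin

namespace Groth.Agent.S9335

open AlgebraicGeometry CategoryTheory in
/-- If f : X → S is of finite type and s ∈ S, then f is quasi-finite at only finitely many points of the
fibre over s. -/
theorem result {X S : Scheme.{u}} (f : X ⟶ S) [LocallyOfFiniteType f] [QuasiCompact f] (s : S) :
    {x : ↑X | f.base x = s ∧ f.QuasiFiniteAt x}.Finite := by
  haveI : IsLocallyNoetherian (f.fiber s) := by
    unfold Scheme.Hom.fiber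
    infer_instance
  haveI : IsNoetherian (f.fiber s) := { }
  let D : Set ↑(f.fiber s) := {y | IsOpen ({y} : Set ↑(f.fiber s))}
  have hDc : IsCompact D := TopologicalSpace.NoetherianSpace.isCompact D
  have hDd : _root_.IsDiscrete D := by
    rw [isDiscrete_iff_forall_mem_exists_isOpen]
    intro y hy
    refine ⟨{y}, hy, ?_⟩
    ext z
    simp only [Set.mem_inter_iff, Set.mem_singleton_iff, and_iff_left_iff_imp]
    rintro rfl
    exact hy
  have hDf : D.Finite := hDc.finite hDd
  refine (hDf.image (f.fiberι s)).subset ?_
  rintro x ⟨rfl, hx⟩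
  rw [Scheme.Hom.quasiFiniteAt_iff_isOpen_singleton_asFiber] at hx
  exact ⟨f.asFiber x, hx, f.fiberι_asFiber x⟩

end Groth.Agent.S9335
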