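import Groth.Statements.S9336
import Groth.Agent.S9332
import Groth.Agent.S9334
-- import your own Groth.Agent.* helpers here

set_option autoImplicit false
universe u
open QFin

namespace Groth.Agent.S9336

open AlgebraicGeometry CategoryTheory in
/-- Let f : X → Y be surjective and g : Y → S locally of finite type. If g ∘ f is locally quasi-finite
(and locally of finite type), then g is locally quasi-finite. -/
theorem result {X Y S : Scheme.{u}} (f : X ⟶ Y) (g : Y ⟶ S) [Surjective f]
    [LocallyQuasiFinite (f ≫ g)] [LocallyOfFiniteType (f ≫ g)] [LocallyOfFiniteType g] :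
    LocallyQuasiFinite g := by
  -- every point of Y is closed in its fibre
  have hclosed : ∀ y : Y, IsClosed ({g.asFiber y} : Set ↑(g.fiber (g.base y))) := by
    intro y
    obtain ⟨x, rfl⟩ := f.surjective y
    have hq : (f ≫ g).QuasiFiniteAt x := (f ≫ g).quasiFiniteAt x
    have hcl : IsClosed ({(f ≫ g).asFiber x} : Set ↑((f ≫ g).fiber ((f ≫ g).base x))) :=
      hq.isClopen_singleton_asFiber.isClosed
    have hfin : ((f ≫ g).residueFieldMap x).hom.Finite :=
      (Groth.Agent.S9332.result (f ≫ g) x).mp hcl
    rw [Scheme.residueFieldMap_comp] at hfin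
    rw [Groth.Agent.S9332.result g (f.base x)]
    -- k → K → L with L finite over k, K → L injective
    set φ := (g.residueFieldMap (f.base x)).hom with hφ
    set ψ := (f.residueFieldMap x).hom with hψ
    have hfin' : (ψ.comp φ).Finite := hfin
    algebraize [φ, ψ, ψ.comp φ]
    have hψinj : Function.Injective ψ := ψ.injective
    show Module.Finite _ _
    haveI : Module.Finite ↑(S.residueField (g.base (f.base x))) ↑(X.residueField x) := hfin'
    exact Module.Finite.of_injective
      (IsScalarTower.toAlgHom (S.residueField (g.base (f.base x))) (Y.residueField (f.base x))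
        (X.residueField x)).toLinearMap hψinj
  -- hence every point of every fibre is closed
  have key : ∀ (s : S) (y : Y) (h : g.base y = s) (ξ : ↑(g.fiber s)), g.fiberι s ξ = y →
      IsClosed ({ξ} : Set ↑(g.fiber s)) := by
    rintro _ y rfl ξ hξ
    have : ξ = g.asFiber y :=
      (g.fiberι _).isEmbedding.injective (by rw [hξ, Scheme.Hom.fiberι_asFiber])
    rw [this]
    exact hclosed y
  have hall : ∀ (s : S) (ξ : ↑(g.fiber s)), IsClosed ({ξ} : Set ↑(g.fiber s)) := by
    intro s ξ
    have hmem : g.fiberι s ξ ∈ g ⁻¹' {s} := by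
      rw [← Scheme.Hom.range_fiberι]; exact ⟨ξ, rfl⟩
    exact key s (g.fiberι s ξ) hmem ξ rfl
  rw [← Scheme.Hom.quasiFiniteLocus_eq_top_iff]
  refine top_le_iff.mp fun y _ => ?_
  show g.QuasiFiniteAt y
  rw [Groth.Agent.S9334.result g y]
  refine ⟨hclosed y, fun ξ' hξ' => ?_⟩
  have h1 := hξ'.mem_closed (hall _ ξ') rfl
  exact h1.symm

end Groth.Agent.S9336
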