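import Groth.Statements.S9337
import Groth.Agent.Lib.Helper14.FtPts
-- import your own Groth.Agent.* helpers here

set_option autoImplicit false
universe u
open FtPts

namespace Groth.Agent.S9337

open AlgebraicGeometry CategoryTheory in
/-- Let k be a field and f : Spec k → S a morphism of schemes with image point u. Then f is locally of
finite type if and only if some affine open U ∋ u of S has u as a closed point and the residue field
of Spec k (that is, k) is finite over κ(u). -/
theorem result (S : Scheme.{u}) (k : Type u) [Field k] (f : Spec (CommRingCat.of k) ⟶ S) :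
    LocallyOfFiniteType f ↔
      ∃ U : S.Opens, IsAffineOpen U ∧ ∃ hu : f.base (IsLocalRing.closedPoint k) ∈ U,
        IsClosed ({⟨f.base (IsLocalRing.closedPoint k), hu⟩} : Set ↥U) ∧
          (f.residueFieldMap (IsLocalRing.closedPoint k)).hom.Finite := by
  let X := Spec (CommRingCat.of k)
  let x : X := IsLocalRing.closedPoint k
  haveI hiso : IsIso (X.fromSpecResidueField x) :=
    Helper14.isIso_fromSpecResidueField_of_field k x
  have hnat := Scheme.Hom.SpecMap_residueFieldMap_fromSpecResidueField f x
  haveI hsub : Subsingleton ↑(Spec (X.residueField x)) :=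
    inferInstanceAs (Subsingleton (PrimeSpectrum (X.residueField x)))
  haveI hJ : JacobsonSpace ↑(Spec (S.residueField (f.base x))) :=
    inferInstanceAs (JacobsonSpace (PrimeSpectrum (S.residueField (f.base x))))
  constructor
  · intro hf
    have hR : IsField (CommRingCat.of k) := Field.toIsField k
    obtain ⟨U, hU, hs, hcl⟩ :=
      Helper14.exists_affineOpen_isClosed_of_locallyOfFiniteType hR f x
    refine ⟨U, hU, hs, hcl, ?_⟩
    have h1 : LocallyOfFiniteType
        (Spec.map (f.residueFieldMap x) ≫ S.fromSpecResidueField (f.base x)) := by
      rw [hnat]; infer_instance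
    haveI : LocallyOfFiniteType (Spec.map (f.residueFieldMap x)) :=
      locallyOfFiniteType_of_comp _ (S.fromSpecResidueField (f.base x))
    have hfin : IsFinite (Spec.map (f.residueFieldMap x)) :=
      isFinite_iff_locallyOfFiniteType_of_jacobsonSpace.mpr inferInstance
    exact (IsFinite.SpecMap_iff _).mp hfin
  · rintro ⟨U, hU, hs, hcl, hfin⟩
    haveI h0 : LocallyOfFiniteType (S.fromSpecResidueField (f.base x)) :=
      Helper14.locallyOfFiniteType_fromSpecResidueField_of_isClosed (f.base x) U hs hcl
    have h1 : IsFinite (Spec.map (f.residueFieldMap x)) := (IsFinite.SpecMap_iff _).mpr hfin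
    have h2 : LocallyOfFiniteType
        (Spec.map (f.residueFieldMap x) ≫ S.fromSpecResidueField (f.base x)) := inferInstance
    rw [hnat] at h2
    exact (MorphismProperty.cancel_left_of_respectsIso @LocallyOfFiniteType
      (X.fromSpecResidueField x) f).mp h2

end Groth.Agent.S9337
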