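import Groth.Statements.S9338
import Groth.Agent.Lib.Helper14.ArtinFT
-- import your own Groth.Agent.* helpers here

set_option autoImplicit false
universe u
open FtPts

namespace Groth.Agent.S9338

open AlgebraicGeometry CategoryTheory in
theorem aux (S : Scheme.{u}) (A : Type u) [CommRing A] [IsArtinianRing A] [IsLocalRing A]
    (f : Spec (CommRingCat.of A) ⟶ S)
    (hg : LocallyOfFiniteType (Spec.map (CommRingCat.ofHom (IsLocalRing.residue A)) ≫ f))
    {R : CommRingCat.{u}} (ι : Spec R ⟶ S) [IsOpenImmersion ι] (y : Spec R)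
    (hy : ι y = f (IsLocalRing.closedPoint A)) : LocallyOfFiniteType f := by
  have hsub : Subsingleton (PrimeSpectrum A) := by
    refine ⟨fun p q => PrimeSpectrum.ext ?_⟩
    have hp : p.asIdeal.IsMaximal := IsArtinianRing.isMaximal_of_isPrime p.asIdeal
    have hq : q.asIdeal.IsMaximal := IsArtinianRing.isMaximal_of_isPrime q.asIdeal
    rw [IsLocalRing.eq_maximalIdeal hp, IsLocalRing.eq_maximalIdeal hq]
  have hrange : Set.range f ⊆ Set.range ι := by
    rintro _ ⟨pt', rfl⟩
    have : pt' = IsLocalRing.closedPoint A := hsub.elim _ _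
    rw [this]
    exact ⟨y, hy⟩
  let f' := IsOpenImmersion.lift ι f hrange
  have hf' : f' ≫ ι = f := IsOpenImmersion.lift_fac ..
  obtain ⟨θ, hθ⟩ := Spec.map_surjective f'
  have h1 : LocallyOfFiniteType
      ((Spec.map (CommRingCat.ofHom (IsLocalRing.residue A)) ≫ Spec.map θ) ≫ ι) := by
    rw [Category.assoc, hθ, hf']; exact hg
  have h2 : LocallyOfFiniteType
      (Spec.map (CommRingCat.ofHom (IsLocalRing.residue A)) ≫ Spec.map θ) :=
    locallyOfFiniteType_of_comp _ ι
  rw [← Spec.map_comp] at h2
  have h3 : (θ ≫ CommRingCat.ofHom (IsLocalRing.residue A)).hom.FiniteType :=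
    (HasRingHomProperty.Spec_iff (P := @LocallyOfFiniteType)).mp h2
  have hfg : (IsLocalRing.maximalIdeal A).FG := IsNoetherian.noetherian _
  have hnil : ∃ n, IsLocalRing.maximalIdeal A ^ n = ⊥ := by
    have := IsArtinianRing.isNilpotent_jacobson_bot (R := A)
    rw [IsLocalRing.jacobson_eq_maximalIdeal ⊥ bot_ne_top] at this
    exact this
  have h4 : θ.hom.FiniteType :=
    Helper14.finiteType_of_residue_comp_finiteType θ.hom hfg hnil h3
  have h5 : LocallyOfFiniteType (Spec.map θ) :=
    (HasRingHomProperty.Spec_iff (P := @LocallyOfFiniteType)).mpr h4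
  rw [← hf', ← hθ]
  infer_instance

open AlgebraicGeometry CategoryTheory in
/-- For an Artinian local ring A with residue field κ, a morphism f : Spec A → S is (locally) of finite
type exactly when the composite Spec κ → Spec A → S is. -/
theorem result (S : Scheme.{u}) (A : Type u) [CommRing A] [IsArtinianRing A] [IsLocalRing A]
    (f : Spec (CommRingCat.of A) ⟶ S) :
    LocallyOfFiniteType f ↔
      LocallyOfFiniteType (Spec.map (CommRingCat.ofHom (IsLocalRing.residue A)) ≫ f) := by
  constructor
  · intro hf
    haveI : IsClosedImmersion (Spec.map (CommRingCat.ofHom (IsLocalRing.residue A))) :=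
      IsClosedImmersion.spec_of_surjective _ IsLocalRing.residue_surjective
    infer_instance
  · intro hg
    obtain ⟨i, y, hy⟩ := S.affineCover.exists_eq (f (IsLocalRing.closedPoint A))
    have hi : IsOpenImmersion (S.affineCover.f i) := inferInstance
    exact @aux S A _ _ _ f hg _ (S.affineCover.f i) hi y hy

end Groth.Agent.S9338
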