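import Groth.Statements.S9339
import Groth.Agent.Lib.Helper14.FtPts
-- import your own Groth.Agent.* helpers here

set_option autoImplicit false
universe u
open FtPts

namespace Groth.Agent.S9339

open AlgebraicGeometry CategoryTheory in
/-- A morphism locally of finite type maps finite type points (points s whose canonical morphism Spec
κ(s) → S is locally of finite type) to finite type points. -/
theorem result {T S : Scheme.{u}} (f : T ⟶ S) [LocallyOfFiniteType f] :
    f.base '' {t : ↑T | LocallyOfFiniteType (T.fromSpecResidueField t)} ⊆
      {s : ↑S | LocallyOfFiniteType (S.fromSpecResidueField s)} := by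
  rintro _ ⟨t, ht, rfl⟩
  have ht' : LocallyOfFiniteType (T.fromSpecResidueField t) := ht
  have hR : IsField (T.residueField t) := Field.toIsField _
  let pt : Spec (T.residueField t) := IsLocalRing.closedPoint (T.residueField t)
  haveI : LocallyOfFiniteType (T.fromSpecResidueField t ≫ f) := inferInstance
  obtain ⟨U, hU, hs, hcl⟩ :=
    Helper14.exists_affineOpen_isClosed_of_locallyOfFiniteType hR (T.fromSpecResidueField t ≫ f) pt
  have hpt : (T.fromSpecResidueField t ≫ f) pt = f.base t := by
    rw [Scheme.Hom.comp_apply, Scheme.fromSpecResidueField_apply]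
  have hs' : f.base t ∈ U := hpt ▸ hs
  have hcl' : IsClosed ({⟨f.base t, hs'⟩} : Set ↥U) := by
    convert hcl using 2
    exact Subtype.ext hpt.symm
  exact Helper14.locallyOfFiniteType_fromSpecResidueField_of_isClosed (f.base t) U hs' hcl'

end Groth.Agent.S9339
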