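import Groth.Statements.S9340
import Groth.Agent.Lib.Helper14.FtPts
import Groth.Agent.S9332
import Groth.Agent.S9339
-- import your own Groth.Agent.* helpers here

set_option autoImplicit false
universe u
open FtPts

namespace Groth.Agent.S9340

open AlgebraicGeometry CategoryTheory in
/-- A surjective morphism locally of finite type maps the set of finite type points of the source onto
the set of finite type points of the target. -/
theorem result {T S : Scheme.{u}} (f : T ⟶ S) [LocallyOfFiniteType f] [Surjective f] :
    f.base '' {t : ↑T | LocallyOfFiniteType (T.fromSpecResidueField t)} =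
      {s : ↑S | LocallyOfFiniteType (S.fromSpecResidueField s)} := by
  apply subset_antisymm (Groth.Agent.S9339.result f)
  intro s hs
  have hs' : LocallyOfFiniteType (S.fromSpecResidueField s) := hs
  -- a closed point of the fibre
  obtain ⟨t0, ht0⟩ := f.surjective s
  have hne : (Set.univ : Set ↑(f.fiber s)).Nonempty := by
    have : t0 ∈ f ⁻¹' {s} := ht0
    rw [← Scheme.Hom.range_fiberι] at this
    obtain ⟨ξ0, _⟩ := this
    exact ⟨ξ0, trivial⟩
  have hcp : (closedPoints ↑(f.fiber s)).Nonempty := by
    by_contra hempty
    rw [Set.not_nonempty_iff_eq_empty] at hempty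
    have := closure_closedPoints (X := ↑(f.fiber s))
    rw [hempty, closure_empty] at this
    exact hne.ne_empty this.symm
  obtain ⟨ξ, hξ⟩ := hcp
  have key : ∀ (s : S) (t : T) (h : f.base t = s) (ξ : ↑(f.fiber s)), f.fiberι s ξ = t →
      IsClosed ({ξ} : Set ↑(f.fiber s)) → LocallyOfFiniteType (S.fromSpecResidueField s) →
      LocallyOfFiniteType (T.fromSpecResidueField t) := by
    rintro _ t rfl ξ hξt hcl hs'
    have : ξ = f.asFiber t :=
      (f.fiberι _).isEmbedding.injective (by rw [hξt, Scheme.Hom.fiberι_asFiber])
    rw [this] at hcl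
    have hfin := (Groth.Agent.S9332.result f t).mp hcl
    have h1 : IsFinite (Spec.map (f.residueFieldMap t)) := (IsFinite.SpecMap_iff _).mpr hfin
    have h2 : LocallyOfFiniteType
        (Spec.map (f.residueFieldMap t) ≫ S.fromSpecResidueField (f.base t)) := inferInstance
    rw [Scheme.Hom.SpecMap_residueFieldMap_fromSpecResidueField] at h2
    exact locallyOfFiniteType_of_comp _ f
  have hmem : f.fiberι s ξ ∈ f ⁻¹' {s} := by
    rw [← Scheme.Hom.range_fiberι]; exact ⟨ξ, rfl⟩
  exact ⟨f.fiberι s ξ, key s _ hmem ξ rfl hξ hs', hmem⟩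

end Groth.Agent.S9340
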