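import Groth.Statements.S9341
import Groth.Agent.Lib.Helper14.FtPts
-- import your own Groth.Agent.* helpers here

set_option autoImplicit false
universe u
open FtPts

namespace Groth.Agent.S9341

open AlgebraicGeometry CategoryTheory in
/-- Every nonempty locally closed subset of a scheme S contains a finite type point of S; in particular
for a closed subset Z the finite type points lying in Z are dense in Z. -/
theorem result (S : Scheme.{u}) :
    (∀ Z : Set ↑S, IsLocallyClosed Z → Z.Nonempty →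
        (Z ∩ {s : ↑S | LocallyOfFiniteType (S.fromSpecResidueField s)}).Nonempty) ∧
      ∀ Z : Set ↑S, IsClosed Z →
        Z ⊆ closure (Z ∩ {s : ↑S | LocallyOfFiniteType (S.fromSpecResidueField s)}) := by
  have part1 : ∀ Z : Set ↑S, IsLocallyClosed Z → Z.Nonempty →
      (Z ∩ {s : ↑S | LocallyOfFiniteType (S.fromSpecResidueField s)}).Nonempty := by
    rintro Z ⟨U, C, hU, hC, rfl⟩ ⟨z, hzU, hzC⟩
    obtain ⟨_, ⟨V, hV, rfl⟩, hzV, hVU⟩ :=
      S.isBasis_affineOpens.exists_subset_of_mem_open hzU hU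
    haveI : CompactSpace ↥V := isCompact_iff_compactSpace.mp (IsAffineOpen.isCompact hV)
    have hC' : IsClosed (Subtype.val ⁻¹' C : Set ↥V) := hC.preimage continuous_subtype_val
    obtain ⟨x, hxC, hxcl⟩ := hC'.exists_closed_singleton ⟨⟨z, hzV⟩, hzC⟩
    refine ⟨x.1, ⟨hVU x.2, hxC⟩, ?_⟩
    exact Helper14.locallyOfFiniteType_fromSpecResidueField_of_isClosed x.1 V x.2 hxcl
  refine ⟨part1, ?_⟩
  intro Z hZ z hz
  rw [mem_closure_iff]
  intro W hW hzW
  have hlc : IsLocallyClosed (W ∩ Z) := ⟨W, Z, hW, hZ, rfl⟩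
  obtain ⟨x, ⟨hxW, hxZ⟩, hx⟩ := part1 (W ∩ Z) hlc ⟨z, hzW, hz⟩
  exact ⟨x, hxW, hxZ, hx⟩

end Groth.Agent.S9341
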