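import Groth.Statements.S9342
import Groth.Agent.Lib.Helper14.FtPts
-- import your own Groth.Agent.* helpers here

set_option autoImplicit false
universe u
open FtPts

namespace Groth.Agent.S9342

open AlgebraicGeometry CategoryTheory in
/-- The finite type points of a scheme S are exactly the points that are closed in some affine open
neighbourhood. -/
theorem result (S : Scheme.{u}) (s : S) :
    LocallyOfFiniteType (S.fromSpecResidueField s) ↔
      ∃ U : S.Opens, IsAffineOpen U ∧ ∃ hs : s ∈ U, IsClosed ({⟨s, hs⟩} : Set ↥U) := by
  constructor
  · intro h
    exact Helper14.exists_affineOpen_isClosed_of_ftPoint s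
  · rintro ⟨U, _, hs, hcl⟩
    exact Helper14.locallyOfFiniteType_fromSpecResidueField_of_isClosed s U hs hcl

end Groth.Agent.S9342
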