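import Groth.Statements.S9344
import Mathlib.AlgebraicGeometry.PullbackCarrier
-- import your own Groth.Agent.* helpers here

set_option autoImplicit false
universe u
open Dom

namespace Groth.Agent.S9344

open AlgebraicGeometry CategoryTheory in
/-- The base change of a dominant morphism f : X → S along an open morphism g : S' → S is dominant. -/
theorem result {X S X' S' : Scheme.{u}} (f : X ⟶ S) [IsDominant f]
    (g : S' ⟶ S) (g' : X' ⟶ X) (f' : X' ⟶ S') (hsq : IsPullback g' f' f g) (hg : IsOpenMap g.base) :
    IsDominant f' := by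
  have h1 : hsq.isoPullback.hom ≫ Limits.pullback.snd f g = f' := hsq.isoPullback_hom_snd
  have hr : Set.range f' = g ⁻¹' Set.range f := by
    rw [← Scheme.Pullback.range_snd f g, ← h1]
    ext x
    constructor
    · rintro ⟨y, rfl⟩
      exact ⟨hsq.isoPullback.hom y, by rw [Scheme.Hom.comp_apply]⟩
    · rintro ⟨y, rfl⟩
      refine ⟨hsq.isoPullback.inv y, ?_⟩
      rw [← Scheme.Hom.comp_apply, ← Category.assoc, Iso.inv_hom_id, Category.id_comp]
  constructor
  change Dense (Set.range f')
  rw [hr]
  exact (Scheme.Hom.denseRange f).preimage hg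

end Groth.Agent.S9344
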