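import Groth.Statements.S9345
import Mathlib.AlgebraicGeometry.Properties
import Mathlib.Topology.Sober
-- import your own Groth.Agent.* helpers here

set_option autoImplicit false
universe u
open Dom

namespace Groth.Agent.S9345

open AlgebraicGeometry CategoryTheory in
/-- For a morphism f : X → S whose source has only finitely many irreducible components, the image of f
is dense exactly when it contains the generic point of each irreducible component of S, and then S
too has finitely many. -/
theorem result {X S : Scheme.{u}} (f : X ⟶ S)
    (hX : (irreducibleComponents (↑X : Type u)).Finite) :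
    (IsDominant f ↔ ∀ s : ↑S, closure {s} ∈ irreducibleComponents (↑S : Type u) → s ∈ Set.range f.base) ∧
      (IsDominant f → (irreducibleComponents (↑S : Type u)).Finite) := by
  classical
  have key : IsDominant f → ∀ Z ∈ irreducibleComponents (↑S : Type u),
      ∃ C ∈ irreducibleComponents (↑X : Type u), Z = closure (f '' C) := by
    intro hdom Z hZ
    have hcl : closure (Set.range f) = Set.univ := hdom.denseRange.closure_range
    have hrange : Set.range f = ⋃ C ∈ irreducibleComponents (↑X : Type u), f '' C := by
      rw [← Set.image_univ, ← sUnion_irreducibleComponents, Set.sUnion_eq_biUnion,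
        Set.image_iUnion₂]
    have hZsub : Z ⊆ ⋃ C ∈ irreducibleComponents (↑X : Type u), closure (f '' C) := by
      rw [← hX.closure_biUnion, ← hrange, hcl]
      exact Set.subset_univ _
    have hZirr : IsIrreducible Z := hZ.1
    obtain ⟨z, hz, hZz⟩ := isIrreducible_iff_sUnion_isClosed.mp hZirr
      (hX.toFinset.image (fun C => closure (f '' C)))
      (by
        intro z hz
        obtain ⟨C, -, rfl⟩ := Finset.mem_image.mp hz
        exact isClosed_closure)
      (by
        intro y hy
        obtain ⟨C, hC, hyC⟩ := Set.mem_iUnion₂.mp (hZsub hy)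
        exact Set.mem_sUnion.mpr ⟨closure (f '' C),
          Finset.mem_coe.mpr (Finset.mem_image.mpr ⟨C, hX.mem_toFinset.mpr hC, rfl⟩), hyC⟩)
    obtain ⟨C, hC, rfl⟩ := Finset.mem_image.mp hz
    have hC' : C ∈ irreducibleComponents (↑X : Type u) := hX.mem_toFinset.mp hC
    refine ⟨C, hC', ?_⟩
    have hCirr : IsIrreducible C := hC'.1
    have hirr : IsIrreducible (closure (f '' C)) :=
      (hCirr.image f f.continuous.continuousOn).closure
    exact le_antisymm hZz (hZ.2 hirr hZz)
  refine ⟨⟨?_, ?_⟩, ?_⟩
  · intro hdom s hs
    obtain ⟨C, hC, hsC⟩ := key hdom _ hs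
    have hCirr : IsIrreducible C := hC.1
    have hCcl : IsClosed C := isClosed_of_mem_irreducibleComponents C hC
    obtain ⟨ξ, hξ⟩ := QuasiSober.sober hCirr hCcl
    have h1 : IsGenericPoint (f ξ) (closure (f '' C)) := hξ.image f.continuous
    have h2 : IsGenericPoint s (closure (f '' C)) := by
      rw [← hsC]
      exact isGenericPoint_closure
    exact ⟨ξ, h1.eq h2⟩
  · intro h
    constructor
    intro y
    have hZ := irreducibleComponent_mem_irreducibleComponents y
    have hZirr : IsIrreducible (irreducibleComponent y) := hZ.1
    have hZcl : IsClosed (irreducibleComponent y) := isClosed_of_mem_irreducibleComponents _ hZ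
    obtain ⟨η, hη⟩ := QuasiSober.sober hZirr hZcl
    have hη' : closure {η} = irreducibleComponent y := hη
    have hηr : η ∈ Set.range f := h η (by rw [hη']; exact hZ)
    have hy : y ∈ closure {η} := by
      rw [hη']
      exact mem_irreducibleComponent
    exact closure_mono (Set.singleton_subset_iff.mpr hηr) hy
  · intro hdom
    refine (hX.image (fun C => closure (f '' C))).subset ?_
    intro Z hZ
    obtain ⟨C, hC, rfl⟩ := key hdom Z hZ
    exact ⟨C, hC, rfl⟩

end Groth.Agent.S9345
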