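import Groth.Statements.S9346
import Mathlib.AlgebraicGeometry.FunctionField
import Mathlib.Data.List.TFAE
-- import your own Groth.Agent.* helpers here

set_option autoImplicit false
universe u
open Dom

namespace Groth.Agent.S9346

section
open CategoryTheory AlgebraicGeometry TopologicalSpace Limits

theorem inj_of_comp {A B C : CommRingCat.{u}} (f : A ⟶ B) (g : B ⟶ C)
    (h : Function.Injective (f ≫ g)) : Function.Injective f := by
  intro a b hab
  apply h
  rw [CommRingCat.comp_apply, CommRingCat.comp_apply, hab]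

theorem inj_comp {A B C : CommRingCat.{u}} (f : A ⟶ B) (g : B ⟶ C)
    (hf : Function.Injective f) (hg : Function.Injective g) : Function.Injective (f ≫ g) := by
  intro a b hab
  rw [CommRingCat.comp_apply, CommRingCat.comp_apply] at hab
  exact hf (hg hab)

theorem stalkSpecializes_injective {Y : Scheme.{u}} [IsIntegral Y] {y y' : Y} (h : y' ⤳ y) :
    Function.Injective (Y.presheaf.stalkSpecializes h) := by
  have h'' : genericPoint Y ⤳ y' := (genericPoint_spec Y).specializes trivial
  have hcomp : Y.presheaf.stalkSpecializes h ≫ Y.presheaf.stalkSpecializes h'' =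
      Y.presheaf.stalkSpecializes (h''.trans h) := Y.presheaf.stalkSpecializes_comp h'' h
  have hinj : Function.Injective (Y.presheaf.stalkSpecializes (h''.trans h)) :=
    IsFractionRing.injective (Y.presheaf.stalk y) Y.functionField
  rw [← hcomp] at hinj
  exact inj_of_comp _ _ hinj

theorem inj_of_eq_generic {Y : Scheme.{u}} [IsIntegral Y] (y : Y) (hy : y = genericPoint Y)
    {R : CommRingCat.{u}} [Nontrivial R] (g : Y.presheaf.stalk y ⟶ R) : Function.Injective g := by
  subst hy
  exact (g.hom : Y.functionField →+* R).injective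

theorem appLE_injective_of_stalkMap_injective {X Y : Scheme.{u}} [IsIntegral Y] (f : X ⟶ Y)
    (U : X.Opens) (V : Y.Opens) (e : U ≤ f ⁻¹ᵁ V) (x : X) (hx : x ∈ U)
    (hinj : Function.Injective (f.stalkMap x)) : Function.Injective (f.appLE V U e) := by
  have hfx : f x ∈ V := e hx
  have h1 : f.appLE V U e ≫ X.presheaf.germ U x hx =
      Y.presheaf.germ V (f x) hfx ≫ f.stalkMap x := by
    rw [Scheme.Hom.germ_stalkMap, Scheme.Hom.appLE, Category.assoc, X.presheaf.germ_res]
  have h2 : Function.Injective (Y.presheaf.germ V (f x) hfx ≫ f.stalkMap x) :=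
    inj_comp _ _ (germ_injective_of_isIntegral Y (f x) hfx) hinj
  rw [← h1] at h2
  exact inj_of_comp _ _ h2

theorem stalkMap_injective_of_generic {X Y : Scheme.{u}} [IsIntegral X] [IsIntegral Y] (f : X ⟶ Y)
    (h2 : f (genericPoint X) = genericPoint Y) (x : X) : Function.Injective (f.stalkMap x) := by
  have hx : genericPoint X ⤳ x := (genericPoint_spec X).specializes trivial
  have h := f.stalkSpecializes_stalkMap (genericPoint X) x hx
  have hL : Function.Injective (Y.presheaf.stalkSpecializes (f.base.hom.map_specializes hx) ≫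
      f.stalkMap (genericPoint X)) :=
    inj_comp _ _ (stalkSpecializes_injective _) (inj_of_eq_generic _ h2 _)
  rw [h] at hL
  exact inj_of_comp _ _ hL

theorem generic_of_appLE_injective {X Y : Scheme.{u}} [IsIntegral X] [IsIntegral Y] (f : X ⟶ Y)
    (U : X.Opens) (V : Y.Opens) (e : U ≤ f ⁻¹ᵁ V) (hU : IsAffineOpen U) (hV : IsAffineOpen V)
    (hne : (U : Set X).Nonempty) (hinj : Function.Injective (f.appLE V U e)) :
    f (genericPoint X) = genericPoint Y := by
  haveI : Nonempty U := hne.to_subtype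
  have hξU : genericPoint X ∈ U :=
    ((genericPoint_spec X).mem_open_set_iff U.isOpen).mpr (by simpa using hne)
  have hfξ : f (genericPoint X) ∈ V := e hξU
  haveI : Nonempty V := ⟨⟨_, hfξ⟩⟩
  have hηV : genericPoint Y ∈ V :=
    ((genericPoint_spec Y).mem_open_set_iff V.isOpen).mpr (by simpa using ⟨_, hfξ⟩)
  have h1 := IsAffineOpen.comap_primeIdealOf_appLE V hV U hU e hξU
  have h2 : hU.primeIdealOf ⟨genericPoint X, hξU⟩ = genericPoint (Spec Γ(X, U)) :=
    hU.primeIdealOf_genericPoint
  have h3 : hV.primeIdealOf ⟨genericPoint Y, hηV⟩ = genericPoint (Spec Γ(Y, V)) :=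
    hV.primeIdealOf_genericPoint
  rw [genericPoint_eq_bot_of_affine] at h2 h3
  have h4 : hV.primeIdealOf ⟨f (genericPoint X), hfξ⟩ = hV.primeIdealOf ⟨genericPoint Y, hηV⟩ := by
    rw [← h1, h2, h3]
    apply PrimeSpectrum.ext
    change Ideal.comap (f.appLE V U e).hom ⊥ = ⊥
    rw [← RingHom.ker_eq_comap_bot]
    exact (RingHom.injective_iff_ker_eq_bot _).mp hinj
  have h5 := congrArg hV.fromSpec h4
  rw [hV.fromSpec_primeIdealOf, hV.fromSpec_primeIdealOf] at h5
  exact h5

theorem main {X Y : Scheme.{u}} [AlgebraicGeometry.IsIntegral X] [AlgebraicGeometry.IsIntegral Y] (f : X ⟶ Y) :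
    [IsDominant f,
      f.base (genericPoint ↑X) = genericPoint ↑Y,
      ∃ (U : X.Opens) (V : Y.Opens) (hUV : U ≤ f ⁻¹ᵁ V), IsAffineOpen U ∧ IsAffineOpen V ∧ (U : Set ↑X).Nonempty ∧
        Function.Injective (f.appLE V U hUV),
      ∀ (U : X.Opens) (V : Y.Opens) (hUV : U ≤ f ⁻¹ᵁ V), IsAffineOpen U → IsAffineOpen V → (U : Set ↑X).Nonempty →
        Function.Injective (f.appLE V U hUV),
      ∃ x : ↑X, Function.Injective (f.stalkMap x),
      ∀ x : ↑X, Function.Injective (f.stalkMap x)].TFAE := by
  have exUV : ∀ x : X, ∃ (U : X.Opens) (V : Y.Opens) (hUV : U ≤ f ⁻¹ᵁ V),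
      IsAffineOpen U ∧ IsAffineOpen V ∧ x ∈ U := by
    intro x
    obtain ⟨_, ⟨V, hV, rfl⟩, hxV, -⟩ :=
      Y.isBasis_affineOpens.exists_subset_of_mem_open (Set.mem_univ (f x)) isOpen_univ
    obtain ⟨_, ⟨U, hU, rfl⟩, hxU, hUV⟩ :=
      X.isBasis_affineOpens.exists_subset_of_mem_open (show x ∈ (f ⁻¹ᵁ V : Set X) from hxV)
        (f ⁻¹ᵁ V).isOpen
    exact ⟨U, V, hUV, hU, hV, hxU⟩
  tfae_have 1 → 2 := by
    intro h
    have h1 : IsGenericPoint (f (genericPoint X)) (closure (f '' Set.univ)) :=
      (genericPoint_spec X).image f.continuous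
    rw [Set.image_univ, (f.denseRange).closure_range] at h1
    exact h1.eq (genericPoint_spec Y)
  tfae_have 2 → 1 := by
    intro h
    rw [isDominant_iff]
    have h1 : Dense ({genericPoint Y} : Set Y) := by
      rw [dense_iff_closure_eq]
      exact (genericPoint_spec Y).def
    exact h1.mono (by rintro _ rfl; exact ⟨genericPoint X, h⟩)
  tfae_have 2 → 6 := fun h x => stalkMap_injective_of_generic f h x
  tfae_have 6 → 5 := fun h => ⟨genericPoint X, h _⟩
  tfae_have 5 → 3 := by
    rintro ⟨x, hx⟩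
    obtain ⟨U, V, hUV, hU, hV, hxU⟩ := exUV x
    exact ⟨U, V, hUV, hU, hV, ⟨x, hxU⟩, appLE_injective_of_stalkMap_injective f U V hUV x hxU hx⟩
  tfae_have 3 → 2 := by
    rintro ⟨U, V, hUV, hU, hV, hne, hinj⟩
    exact generic_of_appLE_injective f U V hUV hU hV hne hinj
  tfae_have 6 → 4 := by
    intro h U V hUV hU hV ⟨x, hxU⟩
    exact appLE_injective_of_stalkMap_injective f U V hUV x hxU (h x)
  tfae_have 4 → 3 := by
    intro h
    obtain ⟨U, V, hUV, hU, hV, hxU⟩ := exUV (genericPoint X)
    exact ⟨U, V, hUV, hU, hV, ⟨_, hxU⟩, h U V hUV hU hV ⟨_, hxU⟩⟩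
  tfae_finish

end

open AlgebraicGeometry CategoryTheory in
/-- For a morphism f : X → Y between integral schemes, these six conditions coincide: (1) f is dominant;
(2) f sends the generic point of X to that of Y; (3) there exist affine opens U ⊆ X, V ⊆ Y with U
nonempty and U ⊆ f⁻¹V such that the induced ring map on sections is injective; (4) the same for all
such pairs; (5) for some x ∈ X the map of local rings O_{Y,f x} → O_{X,x} is injective; (6) the same
for all x. -/
theorem result {X Y : Scheme.{u}} [AlgebraicGeometry.IsIntegral X] [AlgebraicGeometry.IsIntegral Y] (f : X ⟶ Y) :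
    [IsDominant f,
      f.base (genericPoint ↑X) = genericPoint ↑Y,
      ∃ (U : X.Opens) (V : Y.Opens) (hUV : U ≤ f ⁻¹ᵁ V), IsAffineOpen U ∧ IsAffineOpen V ∧ (U : Set ↑X).Nonempty ∧
        Function.Injective (f.appLE V U hUV),
      ∀ (U : X.Opens) (V : Y.Opens) (hUV : U ≤ f ⁻¹ᵁ V), IsAffineOpen U → IsAffineOpen V → (U : Set ↑X).Nonempty →
        Function.Injective (f.appLE V U hUV),
      ∃ x : ↑X, Function.Injective (f.stalkMap x),
      ∀ x : ↑X, Function.Injective (f.stalkMap x)].TFAE := by
  exact Groth.Agent.S9346.main f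

end Groth.Agent.S9346
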