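import Groth.Statements.S9348
import Groth.Agent.Lib.Helper14.PullbackPts
-- import your own Groth.Agent.* helpers here

set_option autoImplicit false
universe u
open Dom

namespace Groth.Agent.S9348

open AlgebraicGeometry CategoryTheory in
/-- Let f : X → Y be a morphism and g : Y' → Y open and surjective. If the base change f' : X ×_Y Y' →
Y' of f is quasi-compact, then so is f. -/
theorem result {X Y X' Y' : Scheme.{u}} (f : X ⟶ Y) (g : Y' ⟶ Y) [Surjective g]
    (hg : IsOpenMap g.base) (g' : X' ⟶ X) (f' : X' ⟶ Y') (hsq : IsPullback g' f' f g) [QuasiCompact f'] :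
    QuasiCompact f := by
  constructor
  intro U hUo hUc
  have hW : ∀ y ∈ U, ∃ W : Y'.Opens, IsCompact (W : Set Y') ∧ (W : Set Y') ⊆ g ⁻¹' U ∧
      g '' (W : Set Y') ∈ nhds y := by
    intro y hy
    obtain ⟨y', rfl⟩ := g.surjective y
    have hy' : y' ∈ (g ⁻¹ᵁ (⟨U, hUo⟩ : Y.Opens)) := hy
    obtain ⟨W, hWaff, hyW, hWU⟩ := TopologicalSpace.Opens.isBasis_iff_nbhd.mp
      Y'.isBasis_affineOpens hy'
    refine ⟨W, IsAffineOpen.isCompact hWaff, hWU, ?_⟩
    exact (hg _ W.2).mem_nhds ⟨y', hyW, rfl⟩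
  choose! W hWc hWU hWn using hW
  obtain ⟨t, htU, ht⟩ := hUc.elim_nhds_subcover (fun y => g '' (W y : Set Y')) hWn
  let K : Set Y' := ⋃ y ∈ t, (W y : Set Y')
  have hKc : IsCompact K := t.isCompact_biUnion (fun y hy => hWc y (htU y hy))
  have hKo : IsOpen K := isOpen_biUnion (fun y _ => (W y).2)
  have hfK : IsCompact (f' ⁻¹' K) := QuasiCompact.isCompact_preimage K hKo hKc
  have himg : f ⁻¹' U = g' '' (f' ⁻¹' K) := by
    ext x
    constructor
    · intro hx
      have hx' : f x ∈ ⋃ y ∈ t, g '' (W y : Set Y') := ht hx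
      simp only [Set.mem_iUnion, Set.mem_image, exists_prop] at hx'
      obtain ⟨y, hyt, y', hy'W, hy'⟩ := hx'
      obtain ⟨z, hz1, hz2⟩ := Helper14.exists_preimage_of_isPullback hsq x y' hy'.symm
      refine ⟨z, ?_, hz1⟩
      simp only [Set.mem_preimage, K, Set.mem_iUnion, exists_prop]
      exact ⟨y, hyt, by rw [hz2]; exact hy'W⟩
    · rintro ⟨z, hz, rfl⟩
      simp only [Set.mem_preimage, K, Set.mem_iUnion, exists_prop] at hz
      obtain ⟨y, hyt, hzW⟩ := hz
      have h1 : f (g' z) = g (f' z) := by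
        rw [← Scheme.Hom.comp_apply, ← Scheme.Hom.comp_apply, hsq.w]
      change f (g' z) ∈ U
      rw [h1]
      exact hWU y (htU y hyt) hzW
  rw [himg]
  exact hfK.image g'.continuous

end Groth.Agent.S9348
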