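import Groth.Statements.S9349
import Groth.Agent.Lib.Helper13.FlatOverAffine
import Groth.Agent.Lib.Helper13.QCohPush

set_option autoImplicit false
universe u
open FlatMod

namespace Groth.Agent.S9349

open AlgebraicGeometry CategoryTheory Opposite in
theorem appLE_comp_aux {X Y S : Scheme.{u}} (f : X ⟶ Y) (q : Y ⟶ S) {V : S.Opens} {W : Y.Opens}
    (hWV : W ≤ q ⁻¹ᵁ V) (hUV : f ⁻¹ᵁ W ≤ (f ≫ q) ⁻¹ᵁ V) :
    (f ≫ q).appLE V (f ⁻¹ᵁ W) hUV = q.appLE V W hWV ≫ f.app W := by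
  rw [f.app_eq_appLE, Scheme.Hom.appLE_comp_appLE]

open AlgebraicGeometry CategoryTheory Opposite in
theorem flat_push_iff {X Y S : Scheme.{u}} (f : X ⟶ Y) (q : Y ⟶ S) (F : X.Modules)
    {V : S.Opens} {W : Y.Opens}
    (hWV : W ≤ q ⁻¹ᵁ V) (hUV : f ⁻¹ᵁ W ≤ (f ≫ q) ⁻¹ᵁ V) :
    @Module.Flat Γ(S, V) Γ(F, f ⁻¹ᵁ W) _ _
      (Module.compHom Γ(F, f ⁻¹ᵁ W) ((f ≫ q).appLE V (f ⁻¹ᵁ W) hUV).hom) ↔
    @Module.Flat Γ(S, V) Γ((Scheme.Modules.pushforward f).obj F, W) _ _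
      (Module.compHom Γ((Scheme.Modules.pushforward f).obj F, W) (q.appLE V W hWV).hom) := by
  have h := appLE_comp_aux f q hWV hUV
  have e : (Module.compHom Γ(F, f ⁻¹ᵁ W) ((f ≫ q).appLE V (f ⁻¹ᵁ W) hUV).hom) = 
      (Module.compHom Γ((Scheme.Modules.pushforward f).obj F, W) (q.appLE V W hWV).hom) := by
    rw [h]
    rfl
  rw [e]
  rfl

open AlgebraicGeometry CategoryTheory in

open AlgebraicGeometry CategoryTheory in
/-- Let f : X → Y be an affine morphism of S-schemes, with q : Y → S, and F a quasi-coherent O_X-module.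
Flatness of F over S (along f ≫ q) is equivalent to flatness of f_*F over S (along q). -/
theorem result {X Y S : Scheme.{u}} (f : X ⟶ Y) [IsAffineHom f] (q : Y ⟶ S)
    (F : X.Modules) (hF : Coh.IsQCoh F) :
    FlatMod.IsFlatOver (f ≫ q) F ↔ FlatMod.IsFlatOver q ((Coh.push f).obj F) := by
  haveI : F.IsQuasicoherent := hF
  haveI : ((Scheme.Modules.pushforward f).obj F).IsQuasicoherent :=
    Groth.Agent.Helper13.QCohPush.isQuasicoherent_pushforward f F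
  constructor
  · intro h y
    obtain ⟨_, ⟨V, hV, rfl⟩, hyV, -⟩ := S.isBasis_affineOpens.exists_subset_of_mem_open
      (Set.mem_univ (q y)) isOpen_univ
    obtain ⟨_, ⟨W, hW, rfl⟩, hyW, hWV⟩ := Y.isBasis_affineOpens.exists_subset_of_mem_open
      (show y ∈ ((q ⁻¹ᵁ V : Y.Opens) : Set Y) from hyV) (q ⁻¹ᵁ V).2
    have hUV : f ⁻¹ᵁ W ≤ (f ≫ q) ⁻¹ᵁ V := fun x hx => hWV hx
    have h1 := Groth.Agent.Helper13.FlatOver.flat_sections_of_isFlatOverAt (f ≫ q) F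
      (hW.preimage f) hV hUV (fun x _ => h x)
    rw [flat_push_iff f q F hWV hUV] at h1
    exact Groth.Agent.Helper13.FlatOver.isFlatOverAt_of_flat_sections q _ hW hV hWV h1 y hyW
  · intro h x
    obtain ⟨_, ⟨V, hV, rfl⟩, hyV, -⟩ := S.isBasis_affineOpens.exists_subset_of_mem_open
      (Set.mem_univ (q (f x))) isOpen_univ
    obtain ⟨_, ⟨W, hW, rfl⟩, hyW, hWV⟩ := Y.isBasis_affineOpens.exists_subset_of_mem_open
      (show f x ∈ ((q ⁻¹ᵁ V : Y.Opens) : Set Y) from hyV) (q ⁻¹ᵁ V).2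
    have hUV : f ⁻¹ᵁ W ≤ (f ≫ q) ⁻¹ᵁ V := fun x hx => hWV hx
    have h1 := Groth.Agent.Helper13.FlatOver.flat_sections_of_isFlatOverAt q
      ((Scheme.Modules.pushforward f).obj F) hW hV hWV (fun y _ => h y)
    rw [← flat_push_iff f q F hWV hUV] at h1
    exact Groth.Agent.Helper13.FlatOver.isFlatOverAt_of_flat_sections (f ≫ q) F
      (hW.preimage f) hV hUV h1 x hyW

end Groth.Agent.S9349
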