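import Groth.Statements.S9356
import Mathlib
-- import your own Groth.Agent.* helpers here

set_option autoImplicit false
universe u
open FibDim

namespace Groth.Agent.S9356

open AlgebraicGeometry CategoryTheory in
/-- Let f : X → S be locally of finite type and x ⤳ x' a nontrivial specialization of points of the
fibre X_s. Then dim_x(X_s) ≤ dim_{x'}(X_s) and dim O_{X_s,x} < dim O_{X_s,x'}. (The assertion on
transcendence degrees of residue fields is a separate statement.) -/
theorem result {X S : Scheme.{u}} (f : X ⟶ S) [LocallyOfFiniteType f] (s : S)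
    (x x' : ↑(f.fiber s)) (hsp : x ⤳ x') (hne : x ≠ x') :
    FlatMor.localDim ↑(f.fiber s) x ≤ FlatMor.localDim ↑(f.fiber s) x' ∧
      ringKrullDim ((f.fiber s).presheaf.stalk x) < ringKrullDim ((f.fiber s).presheaf.stalk x') := by
  constructor
  · unfold FlatMor.localDim
    refine le_iInf ?_
    rintro ⟨W, hW⟩
    have hxW : x ∈ W := hsp.mem_open W.isOpen hW
    exact iInf_le (fun U : {U : TopologicalSpace.Opens ↑(f.fiber s) // x ∈ U} =>
      topologicalKrullDim (U.1 : Set ↑(f.fiber s))) ⟨W, hxW⟩
  · haveI : LocallyOfFiniteType (f.fiberToSpecResidueField s) :=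
      MorphismProperty.pullback_snd _ _ inferInstance
    haveI : IsLocallyNoetherian (f.fiber s) :=
      LocallyOfFiniteType.isLocallyNoetherian (f.fiberToSpecResidueField s)
    rw [AlgebraicGeometry.ringKrullDim_stalk_eq_coheight,
      AlgebraicGeometry.ringKrullDim_stalk_eq_coheight]
    have hlt : x' < x := by
      rw [lt_iff_le_not_ge]
      refine ⟨hsp, fun h => hne ?_⟩
      exact (Specializes.antisymm hsp h).eq
    have h1 := Order.coheight_add_one_le hlt
    have hfin : ringKrullDim ((f.fiber s).presheaf.stalk x) < ⊤ := ringKrullDim_lt_top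
    rw [AlgebraicGeometry.ringKrullDim_stalk_eq_coheight] at hfin
    have hfin' : Order.coheight x ≠ ⊤ := by
      intro h
      rw [h] at hfin
      exact (lt_irrefl _ hfin)
    have h2 : Order.coheight x < Order.coheight x' :=
      lt_of_lt_of_le (ENat.lt_add_one_iff hfin' |>.mpr le_rfl) h1
    exact_mod_cast h2

end Groth.Agent.S9356
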