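import Groth.Statements.S9357
import Mathlib
import Groth.Agent.Lib.Helper14.FibreDimBC
-- import your own Groth.Agent.* helpers here

set_option autoImplicit false
universe u
open FibDim

namespace Groth.Agent.S9357

open AlgebraicGeometry CategoryTheory in
/-- Suppose both f : X → Y and g : Y → Z are morphisms locally of finite type. When the relative
dimension of f is at most d and that of g is at most e, the composite g ∘ f has relative dimension
at most d + e. Moreover, when f is flat of relative dimension exactly d and g is of relative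
dimension exactly e, the composite g ∘ f is of relative dimension exactly d + e (every nonempty
fibre equidimensional of that dimension). -/
theorem result {X Y Z : Scheme.{u}} (f : X ⟶ Y) (g : Y ⟶ Z) [LocallyOfFiniteType f] [LocallyOfFiniteType g] (d e : ℕ) :
    ((∀ x : ↑X, FlatMor.fibreDimAt f x ≤ d) → (∀ y : ↑Y, FlatMor.fibreDimAt g y ≤ e) →
        ∀ x : ↑X, FlatMor.fibreDimAt (f ≫ g) x ≤ (d + e : ℕ)) ∧
      (Cyc.HasRelDim f d → Cyc.HasRelDim g e → Flat f → Cyc.HasRelDim (f ≫ g) (d + e)) := by
  constructor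
  · intro hf hg x
    haveI : LocallyOfFiniteType (f ≫ g) := inferInstance
    obtain ⟨z, n, hzx, hfz, hmax, hn, hdim⟩ :=
      Groth.Agent.Helper14.EquidimAt.exists_maximal_trdeg_eq_fibreDimAt (f ≫ g) x
    obtain ⟨n1, hn1⟩ := Groth.Agent.Helper14.ResFieldBridge.exists_nat_trdeg_residueField f z
    obtain ⟨n2, hn2⟩ := Groth.Agent.Helper14.ResFieldBridge.exists_nat_trdeg_residueField g (f z)
    have hadd := Groth.Agent.Helper14.DimClosure.trdeg_comp f g z
    rw [hn, hn1, hn2] at hadd
    have hnat : n = n2 + n1 := by exact_mod_cast hadd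
    have h1 := Groth.Agent.Helper14.EquidimAt.trdeg_le_fibreDimAt f z z specializes_rfl n1 hn1
    have h2 := Groth.Agent.Helper14.EquidimAt.trdeg_le_fibreDimAt g (f z) (f z) specializes_rfl n2 hn2
    have h1' : (n1 : WithBot ℕ∞) ≤ (d : WithBot ℕ∞) := h1.trans (hf z)
    have h2' : (n2 : WithBot ℕ∞) ≤ (e : WithBot ℕ∞) := h2.trans (hg (f z))
    have h1'' : n1 ≤ d := by exact_mod_cast h1'
    have h2'' : n2 ≤ e := by exact_mod_cast h2'
    rw [hdim]
    have : n ≤ d + e := by omega
    exact_mod_cast this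
  · intro hf hg hflat
    haveI : LocallyOfFiniteType (f ≫ g) := inferInstance
    have hgen : GeneralizingMap f := Flat.generalizingMap f
    intro s T hT
    obtain ⟨z, n, hfz, hmax, hn, hdimT⟩ :=
      Groth.Agent.Helper14.FibreMax.exists_of_mem_irreducibleComponents (f ≫ g) s T hT
    obtain ⟨n1, hn1⟩ := Groth.Agent.Helper14.ResFieldBridge.exists_nat_trdeg_residueField f z
    obtain ⟨n2, hn2⟩ := Groth.Agent.Helper14.ResFieldBridge.exists_nat_trdeg_residueField g (f z)
    have hadd := Groth.Agent.Helper14.DimClosure.trdeg_comp f g z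
    rw [hn, hn1, hn2] at hadd
    have hnat : n = n2 + n1 := by exact_mod_cast hadd
    -- z is maximal in its f-fibre
    have hmax1 : ∀ x₁ : X, f x₁ = f z → x₁ ⤳ z → x₁ = z := by
      intro x₁ h1 h2
      refine hmax x₁ ?_ h2
      rw [Scheme.Hom.comp_apply, Scheme.Hom.comp_apply, h1]
    -- f z is maximal in its g-fibre
    have hmax2 : ∀ y₁ : Y, g y₁ = g (f z) → y₁ ⤳ f z → y₁ = f z := by
      intro y₁ h1 h2
      obtain ⟨x₁, hx₁, hfx₁⟩ := hgen h2
      have := hmax x₁ (by rw [Scheme.Hom.comp_apply, Scheme.Hom.comp_apply, hfx₁, h1]) hx₁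
      rw [← hfx₁, this]
    obtain ⟨Z1, hZ1, hdimZ1⟩ := Groth.Agent.Helper14.FibreMax.exists_irreducibleComponent_of_maximal f
      (f z) z rfl hmax1 n1 hn1
    obtain ⟨Z2, hZ2, hdimZ2⟩ := Groth.Agent.Helper14.FibreMax.exists_irreducibleComponent_of_maximal g
      (g (f z)) (f z) rfl hmax2 n2 hn2
    have e1 := hf _ Z1 hZ1
    have e2 := hg _ Z2 hZ2
    rw [hdimZ1] at e1
    rw [hdimZ2] at e2
    have e1' : n1 = d := by exact_mod_cast e1
    have e2' : n2 = e := by exact_mod_cast e2
    rw [hdimT]
    have : n = d + e := by omega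
    exact_mod_cast this

end Groth.Agent.S9357
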