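import Groth.Statements.S9360
import Groth.Agent.S2266
-- import your own Groth.Agent.* helpers here

set_option autoImplicit false
universe u
open SchDense

namespace Groth.Agent.S9360

section
open CategoryTheory AlgebraicGeometry TopologicalSpace

/-- If all sections over affine opens are reduced then the scheme is reduced. -/
theorem isReduced_of_affine {X : Scheme.{u}}
    (h : ∀ V : X.affineOpens, _root_.IsReduced Γ(X, V.1)) : IsReduced X := by
  refine ⟨fun U => ⟨fun s hs => ?_⟩⟩
  refine TopCat.Presheaf.section_ext X.sheaf U s 0 (fun x hx => ?_)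
  obtain ⟨_, ⟨V, hV, rfl⟩, hxV, hVU⟩ :=
    X.isBasis_affineOpens.exists_subset_of_mem_open hx U.isOpen
  have hVU' : V ≤ U := hVU
  have hres : X.presheaf.map (homOfLE hVU').op s = 0 := by
    haveI := h ⟨V, hV⟩
    apply _root_.IsReduced.eq_zero
    exact hs.map _
  have h1 := TopCat.Presheaf.germ_res_apply X.presheaf (homOfLE hVU') x hxV s
  have h3 : X.presheaf.germ U x hx s = 0 := by rw [← h1, hres, map_zero]
  change X.presheaf.germ U x hx s = X.presheaf.germ U x hx 0
  rw [h3, map_zero]

/-- the vanishing ideal of the closure of the range is in the kernel, for reduced source -/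
theorem vanishingIdeal_le_ker {Z X : Scheme.{u}} (f : Z ⟶ X) [IsReduced Z] :
    Scheme.IdealSheafData.vanishingIdeal ⟨closure (Set.range f), isClosed_closure⟩ ≤ f.ker := by
  apply Scheme.IdealSheafData.le_ofIdeals_iff.2
  intro V s hs
  have hV : IsAffineOpen V.1 := V.2
  rw [RingHom.mem_ker]
  rw [Scheme.IdealSheafData.vanishingIdeal_ideal] at hs
  change (f.app V.1) s = 0
  rw [← basicOpen_eq_bot_iff, ← Scheme.preimage_basicOpen]
  ext z
  simp only [Opens.map_coe, Set.mem_preimage, SetLike.mem_coe, Opens.coe_bot,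
    Set.mem_empty_iff_false, iff_false]
  intro hz
  have hzV : f z ∈ V.1 := X.basicOpen_le s hz
  have h1 := hV.fromSpec_primeIdealOf ⟨f z, hzV⟩
  have h2 : hV.primeIdealOf ⟨f z, hzV⟩ ∈ (hV.fromSpec ⁻¹ᵁ X.basicOpen s) := by
    change hV.fromSpec _ ∈ X.basicOpen s
    rw [h1]; exact hz
  rw [hV.fromSpec_preimage_basicOpen] at h2
  apply h2
  refine (PrimeSpectrum.mem_vanishingIdeal _ _).mp hs _ ?_
  change hV.fromSpec _ ∈ closure (Set.range f)
  rw [h1]
  exact subset_closure ⟨z, rfl⟩

theorem isReduced_and_denseRange {Z X : Scheme.{u}} (f : Z ⟶ X) [IsReduced Z]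
    [IsSchemeTheoreticallyDominant f] : IsReduced X ∧ DenseRange f := by
  have hker : f.ker = ⊥ := f.ker_eq_bot
  have hred : IsReduced X := by
    apply isReduced_of_affine
    intro V
    have := Groth.Agent.S2266.ker_isRadical f V
    rw [hker] at this
    exact Ideal.isRadical_bot_iff.mp this
  refine ⟨hred, ?_⟩
  have h1 := vanishingIdeal_le_ker f
  rw [hker, le_bot_iff] at h1
  have h2 := Scheme.IdealSheafData.coe_support_vanishingIdeal
    (X := X) ⟨closure (Set.range f), isClosed_closure⟩
  rw [h1] at h2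
  rw [DenseRange, dense_iff_closure_eq]
  exact h2.symm.trans (by simp [Scheme.IdealSheafData.support_bot])

theorem main (X : Scheme.{u}) (U : X.Opens) [IsReduced (↑U : Scheme.{u})] :
    (IsSchemeTheoreticallyDominant U.ι ↔
        ∀ W : X.Opens, IsSchemeTheoreticallyDominant (X.homOfLE (inf_le_right : U ⊓ W ≤ W))) ∧
      (IsSchemeTheoreticallyDominant U.ι → IsReduced X) := by
  refine ⟨⟨fun h W => ?_, fun h => ?_⟩, fun h => (isReduced_and_denseRange U.ι).1⟩
  · obtain ⟨hred, hdense⟩ := isReduced_and_denseRange U.ι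
    haveI : IsDominant (X.homOfLE (inf_le_right : U ⊓ W ≤ W)) := by
      constructor
      rw [DenseRange, dense_iff_inter_open]
      intro O hO hOne
      obtain ⟨w, hw⟩ := hOne
      -- image of O in X is open
      have hOX : IsOpen (Subtype.val '' O : Set X) := W.isOpen.isOpenMap_subtype_val O hO
      have hUdense : Dense (U : Set X) := by
        have : Set.range U.ι = (U : Set X) := by simp
        rw [← this]; exact hdense
      obtain ⟨x, hxO, hxU⟩ := hUdense.inter_open_nonempty _ hOX ⟨w.1, w, hw, rfl⟩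
      obtain ⟨w', hw'O, rfl⟩ := hxO
      refine ⟨w', hw'O, ⟨⟨w'.1, hxU, w'.2⟩, ?_⟩⟩
      apply Subtype.ext
      simp
    exact IsSchemeTheoreticallyDominant.of_isDominant _
  · have h1 := h ⊤
    have e : X.homOfLE (le_inf le_rfl le_top : U ≤ U ⊓ ⊤) ≫
        X.homOfLE (inf_le_right : U ⊓ ⊤ ≤ ⊤) ≫ X.topIso.hom = U.ι := by
      change _ ≫ _ ≫ (⊤ : X.Opens).ι = _
      rw [Scheme.homOfLE_ι, Scheme.homOfLE_ι]
    haveI : IsIso (X.homOfLE (le_inf le_rfl le_top : U ≤ U ⊓ ⊤)) := by
      refine ⟨X.homOfLE inf_le_left, ?_, ?_⟩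
      · rw [Scheme.homOfLE_homOfLE]; exact Scheme.homOfLE_rfl _ _
      · rw [Scheme.homOfLE_homOfLE]; exact Scheme.homOfLE_rfl _ _
    rw [← e]
    infer_instance

end

open AlgebraicGeometry CategoryTheory in
/-- Let U ⊆ X be a reduced open subscheme. Then the scheme-theoretic closure of U in X is X if and only
if U is scheme-theoretically dense in X (for every open W the scheme-theoretic closure of U ∩ W in W
is W); and in that case X is reduced. -/
theorem result (X : Scheme.{u}) (U : X.Opens) [IsReduced (↑U : Scheme.{u})] :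
    (IsSchemeTheoreticallyDominant U.ι ↔
        ∀ W : X.Opens, IsSchemeTheoreticallyDominant (X.homOfLE (inf_le_right : U ⊓ W ≤ W))) ∧
      (IsSchemeTheoreticallyDominant U.ι → IsReduced X) := by
  exact Groth.Agent.S9360.main X U

end Groth.Agent.S9360
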