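import Groth.Statements.S9361
import Groth.Agent.S4667
-- import your own Groth.Agent.* helpers here

set_option autoImplicit false
universe u
open SchImage

namespace Groth.Agent.S9361

section
open CategoryTheory AlgebraicGeometry TopologicalSpace

theorem main {X Y : Scheme.{u}} (f : X ⟶ Y) [IsSeparated f] (V : Y.Opens) [QuasiCompact V.ι]
    (s : (↑V : Scheme.{u}) ⟶ X) (hs : s ≫ f = V.ι) :
    IsIso ((s.imageι ≫ f) ∣_ V) := by
  haveI : QuasiCompact (s ≫ f) := by rw [hs]; infer_instance
  haveI : QuasiCompact s := QuasiCompact.of_comp s f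
  set g := s.imageι ≫ f with hg
  have hsg : s.toImage ≫ g = V.ι := by
    rw [hg, ← Category.assoc, s.toImage_imageι, hs]
  have hrange : Set.range s.toImage ⊆ Set.range (g ⁻¹ᵁ V).ι := by
    rintro _ ⟨v, rfl⟩
    simp only [Scheme.Opens.range_ι, SetLike.mem_coe]
    change g (s.toImage v) ∈ V
    have := congrArg (fun φ : (↑V : Scheme.{u}) ⟶ Y => φ v) hsg
    simp only [Scheme.Hom.comp_apply] at this
    rw [this]
    exact v.2
  let t : (↑V : Scheme.{u}) ⟶ (g ⁻¹ᵁ V).toScheme := IsOpenImmersion.lift (g ⁻¹ᵁ V).ι s.toImage hrange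
  have ht : t ≫ (g ⁻¹ᵁ V).ι = s.toImage := IsOpenImmersion.lift_fac _ _ _
  have htg : t ≫ (g ∣_ V) = 𝟙 _ := by
    rw [← cancel_mono V.ι, Category.assoc, morphismRestrict_ι, ← Category.assoc, ht, hsg,
      Category.id_comp]
  haveI : IsClosedImmersion (t ≫ (g ∣_ V)) := by rw [htg]; infer_instance
  haveI : IsClosedImmersion t := IsClosedImmersion.of_comp t (g ∣_ V)
  haveI : IsSchemeTheoreticallyDominant s.toImage := Groth.Agent.S4667.toImage_dominant s
  have hpb : IsPullback t (𝟙 _) (g ⁻¹ᵁ V).ι s.toImage := by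
    apply IsOpenImmersion.isPullback
    · rw [Category.id_comp, ht]
    · rw [Scheme.Opens.opensRange_ι]
      ext v
      simp only [Opens.map_coe, Set.mem_preimage, SetLike.mem_coe, Scheme.Hom.opensRange]
      constructor
      · intro _; exact ⟨v, rfl⟩
      · intro _
        change g (s.toImage v) ∈ V
        have := congrArg (fun φ : (↑V : Scheme.{u}) ⟶ Y => φ v) hsg
        simp only [Scheme.Hom.comp_apply] at this
        rw [this]
        exact v.2
  haveI : IsSchemeTheoreticallyDominant t := IsSchemeTheoreticallyDominant.of_isPullback hpb.flip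
  haveI : IsIso t := IsClosedImmersion.isIso_iff_ker_eq_bot.mpr t.ker_eq_bot
  have : g ∣_ V = inv t := by
    rw [← cancel_epi t, htg, IsIso.hom_inv_id]
  rw [this]
  infer_instance

end

open AlgebraicGeometry CategoryTheory in
/-- Let f : X → Y be separated, V ⊆ Y a retrocompact open and s : V → X a section of f over V. If Y' ⊆ X
is the scheme-theoretic image of s, then Y' → Y is an isomorphism over V. -/
theorem result {X Y : Scheme.{u}} (f : X ⟶ Y) [IsSeparated f] (V : Y.Opens) [QuasiCompact V.ι]
    (s : (↑V : Scheme.{u}) ⟶ X) (hs : s ≫ f = V.ι) :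
    IsIso ((s.imageι ≫ f) ∣_ V) := by
  exact Groth.Agent.S9361.main f V s hs

end Groth.Agent.S9361
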