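import Groth.Statements.S9364
import Mathlib
import Groth.Agent.S9147
import Groth.Agent.Lib.Helper2.SyntSch1
import Groth.Agent.Lib.Helper2.SyntRel3
-- import your own Groth.Agent.* helpers here

set_option autoImplicit false
universe u
open Synt

namespace Groth.Agent.S9364

section
open AlgebraicGeometry CategoryTheory Groth.Agent.Helper2.SyntSch Groth.Agent.Helper2.SyntRel

theorem forward {X S : Scheme.{u}} (f : X ⟶ S) (x : X) (V : S.affineOpens)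
    (hV : f.base x ∈ V.1) (h : Synt.IsSyntomicAt f x) :
    ∃ (U : X.affineOpens) (e : U.1 ≤ f ⁻¹ᵁ V.1), x ∈ U.1 ∧
      Synt.IsStandardSyntomic (f.resLE V.1 U.1 e) := by
  obtain ⟨U₀, V₀, e₀, hxU₀, hsyn⟩ := h
  have hg := isSyntomicMor_ι_comp f U₀ V₀ e₀ hsyn
  let Y : Scheme.{u} := U₀.1
  let g : Y ⟶ S := U₀.1.ι ≫ f
  let y : Y := ⟨x, hxU₀⟩
  have hyV : y ∈ g ⁻¹ᵁ V.1 := hV
  obtain ⟨_, ⟨U₁, hU₁, rfl⟩, hyU₁, hU₁V⟩ :=
    (Y.isBasis_affineOpens).exists_subset_of_mem_open hyV (g ⁻¹ᵁ V.1).isOpen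
  have hU₁V' : U₁ ≤ g ⁻¹ᵁ V.1 := hU₁V
  letI algT : Algebra Γ(S, V.1) Γ(Y, U₁) := (g.appLE V.1 U₁ hU₁V').hom.toAlgebra
  have hT : Synt.IsSyntomic Γ(S, V.1) Γ(Y, U₁) :=
    (Groth.Agent.S9363.main g).mp hg ⟨U₁, hU₁⟩ V hU₁V'
  obtain ⟨t, ht, n, c, F, hF, ⟨ε⟩⟩ := exists_away_relGCI hT (hU₁.primeIdealOf ⟨y, hyU₁⟩).asIdeal
  -- the basic open
  have hU' : IsAffineOpen (Y.basicOpen t) := hU₁.basicOpen t
  have hyU' : y ∈ Y.basicOpen t := by
    have h1 : hU₁.primeIdealOf ⟨y, hyU₁⟩ ∈ (PrimeSpectrum.basicOpen t : Set _) := ht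
    have h2 : hU₁.primeIdealOf ⟨y, hyU₁⟩ ∈ hU₁.fromSpec ⁻¹ᵁ Y.basicOpen t := by
      rw [hU₁.fromSpec_preimage_basicOpen]
      exact h1
    have h3 : hU₁.fromSpec (hU₁.primeIdealOf ⟨y, hyU₁⟩) ∈ Y.basicOpen t := h2
    rwa [hU₁.fromSpec_primeIdealOf] at h3
  have hle : Y.basicOpen t ≤ U₁ := Y.basicOpen_le t
  have hU'V : Y.basicOpen t ≤ g ⁻¹ᵁ V.1 := hle.trans hU₁V'
  have hU : IsAffineOpen (U₀.1.ι ''ᵁ Y.basicOpen t) := hU'.image_of_isOpenImmersion U₀.1.ι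
  have hxU : x ∈ U₀.1.ι ''ᵁ Y.basicOpen t := ⟨y, hyU', rfl⟩
  have e : U₀.1.ι ''ᵁ Y.basicOpen t ≤ f ⁻¹ᵁ V.1 := by
    rintro _ ⟨w, hw, rfl⟩
    exact hU'V hw
  refine ⟨⟨_, hU⟩, e, hxU, Γ(S, V.1), inferInstance, n, c, F, hF, ?_⟩
  -- ring iso
  let lam : Localization.Away t ≃ₐ[Γ(Y, U₁)] Γ(Y, Y.basicOpen t) :=
    haveI := hU₁.isLocalization_basicOpen t
    IsLocalization.algEquiv (Submonoid.powers t) (Localization.Away t) Γ(Y, Y.basicOpen t)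
  let ρ' : Synt.RelGCIRing Γ(S, V.1) n c F ≃+* Γ(Y, Y.basicOpen t) :=
    ε.symm.toRingEquiv.trans lam.toRingEquiv
  let ρ : CommRingCat.of (Synt.RelGCIRing Γ(S, V.1) n c F) ≅ Γ(Y, Y.basicOpen t) :=
    ρ'.toCommRingCatIso
  have hρ : CommRingCat.ofHom (algebraMap Γ(S, V.1) (Synt.RelGCIRing Γ(S, V.1) n c F)) ≫ ρ.hom =
      g.appLE V.1 (Y.basicOpen t) hU'V := by
    ext r
    show lam (ε.symm (algebraMap Γ(S, V.1) (Synt.RelGCIRing Γ(S, V.1) n c F) r)) = _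
    rw [ε.symm.commutes, IsScalarTower.algebraMap_apply Γ(S, V.1) Γ(Y, U₁) (Localization.Away t),
      lam.commutes]
    show (Y.presheaf.map (homOfLE hle).op).hom ((g.appLE V.1 U₁ hU₁V').hom r) = _
    rw [← CommRingCat.comp_apply, Scheme.Hom.appLE_map]
  refine ⟨(U₀.1.ι.isoImage (Y.basicOpen t)).symm ≪≫ hU'.isoSpec ≪≫ Scheme.Spec.mapIso ρ.op,
    V.2.isoSpec, ?_⟩
  show ((U₀.1.ι.isoImage (Y.basicOpen t)).inv ≫ hU'.isoSpec.hom ≫ Spec.map ρ.hom) ≫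
    Spec.map (CommRingCat.ofHom (algebraMap Γ(S, V.1) (Synt.RelGCIRing Γ(S, V.1) n c F))) = _
  rw [Category.assoc, Category.assoc, ← Spec.map_comp, hρ, resLE_isoSpec g hU' V.2 hU'V,
    ← Category.assoc]
  congr 1
  rw [← cancel_mono V.1.ι, Category.assoc, Scheme.Hom.resLE_comp_ι, Scheme.Hom.resLE_comp_ι]
  exact Scheme.Hom.isoImage_inv_ι U₀.1.ι (Y.basicOpen t) ▸ rfl

theorem backward {X S : Scheme.{u}} (f : X ⟶ S) (x : X) (V : S.affineOpens)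
    (h : ∃ (U : X.affineOpens) (e : U.1 ≤ f ⁻¹ᵁ V.1), x ∈ U.1 ∧
      Synt.IsStandardSyntomic (f.resLE V.1 U.1 e)) : Synt.IsSyntomicAt f x := by
  obtain ⟨U, e, hxU, R, _, n, c, F, hF, e₁, e₂, hcomm⟩ := h
  refine ⟨U, V, e, hxU, ?_⟩
  letI := (f.appLE V.1 U.1 e).hom.toAlgebra
  have hsyn : Synt.IsSyntomic R (Synt.RelGCIRing R n c F) := Groth.Agent.S9147.main R n c F hF
  let a : Spec Γ(X, U.1) ≅ Spec (CommRingCat.of (Synt.RelGCIRing R n c F)) :=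
    U.2.isoSpec.symm ≪≫ e₁
  let b : Spec Γ(S, V.1) ≅ Spec (CommRingCat.of R) := V.2.isoSpec.symm ≪≫ e₂
  have h1 : Spec.map (f.appLE V.1 U.1 e) ≫ V.2.isoSpec.inv = U.2.isoSpec.inv ≫ f.resLE V.1 U.1 e := by
    rw [← cancel_epi U.2.isoSpec.hom, ← Category.assoc, resLE_isoSpec f U.2 V.2 e, Category.assoc,
      Iso.hom_inv_id, Category.comp_id, Iso.hom_inv_id_assoc]
  have hab : Spec.map (f.appLE V.1 U.1 e) ≫ b.hom =
      a.hom ≫ Spec.map (CommRingCat.ofHom (algebraMap R (Synt.RelGCIRing R n c F))) := by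
    show Spec.map (f.appLE V.1 U.1 e) ≫ V.2.isoSpec.inv ≫ e₂.hom =
      (U.2.isoSpec.inv ≫ e₁.hom) ≫ _
    rw [← Category.assoc, h1, Category.assoc, Category.assoc, hcomm]
  -- ring isos
  have hα1 : Spec.preimage a.hom ≫ Spec.preimage a.inv = 𝟙 _ := by
    apply Spec.map_injective
    rw [Spec.map_comp, Spec.map_preimage, Spec.map_preimage, Iso.inv_hom_id, Spec.map_id]
  have hα2 : Spec.preimage a.inv ≫ Spec.preimage a.hom = 𝟙 _ := by
    apply Spec.map_injective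
    rw [Spec.map_comp, Spec.map_preimage, Spec.map_preimage, Iso.hom_inv_id, Spec.map_id]
  have hβ1 : Spec.preimage b.hom ≫ Spec.preimage b.inv = 𝟙 _ := by
    apply Spec.map_injective
    rw [Spec.map_comp, Spec.map_preimage, Spec.map_preimage, Iso.inv_hom_id, Spec.map_id]
  have hβ2 : Spec.preimage b.inv ≫ Spec.preimage b.hom = 𝟙 _ := by
    apply Spec.map_injective
    rw [Spec.map_comp, Spec.map_preimage, Spec.map_preimage, Iso.hom_inv_id, Spec.map_id]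
  let αi : CommRingCat.of (Synt.RelGCIRing R n c F) ≅ Γ(X, U.1) :=
    ⟨Spec.preimage a.hom, Spec.preimage a.inv, hα1, hα2⟩
  let βi : CommRingCat.of R ≅ Γ(S, V.1) := ⟨Spec.preimage b.hom, Spec.preimage b.inv, hβ1, hβ2⟩
  have hsq : Spec.preimage b.hom ≫ f.appLE V.1 U.1 e =
      CommRingCat.ofHom (algebraMap R (Synt.RelGCIRing R n c F)) ≫ Spec.preimage a.hom := by
    apply Spec.map_injective
    rw [Spec.map_comp, Spec.map_comp, Spec.map_preimage, Spec.map_preimage]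
    exact hab
  refine isSyntomic_of_ringEquiv βi.commRingCatIsoToRingEquiv αi.commRingCatIsoToRingEquiv ?_ hsyn
  intro r
  have := congrArg (fun ψ : CommRingCat.of R ⟶ Γ(X, U.1) => ψ.hom r) hsq
  exact this.symm

theorem main {X S : Scheme.{u}} (f : X ⟶ S) (x : X) (V : S.affineOpens)
    (hV : f.base x ∈ V.1) :
    Synt.IsSyntomicAt f x ↔
      ∃ (U : X.affineOpens) (e : U.1 ≤ f ⁻¹ᵁ V.1), x ∈ U.1 ∧
        Synt.IsStandardSyntomic (f.resLE V.1 U.1 e) :=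
  ⟨forward f x V hV, backward f x V⟩

end

open AlgebraicGeometry CategoryTheory in
/-- Let f : X → S, x ∈ X and V ⊆ S an affine open neighbourhood of f x. Then f is syntomic at x if and
only if some affine open U ∋ x with f(U) ⊆ V has f|_U : U → V standard syntomic. -/
theorem result {X S : Scheme.{u}} (f : X ⟶ S) (x : X) (V : S.affineOpens)
    (hV : f.base x ∈ V.1) :
    Synt.IsSyntomicAt f x ↔
      ∃ (U : X.affineOpens) (e : U.1 ≤ f ⁻¹ᵁ V.1), x ∈ U.1 ∧ Synt.IsStandardSyntomic (f.resLE V.1 U.1 e) := by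
  exact Groth.Agent.S9364.main f x V hV

end Groth.Agent.S9364
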