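import Groth.Statements.S9367
import Mathlib
import Groth.Agent.S9364
import Groth.Agent.Lib.Helper2.RelGCI7
-- import your own Groth.Agent.* helpers here

set_option autoImplicit false
universe u
open Synt

namespace Groth.Agent.S9367

section
open AlgebraicGeometry CategoryTheory Groth.Agent.Helper2.KosBridge Groth.Agent.Helper2.RelGCI

theorem main {X S : Scheme.{u}} (f : X ⟶ S) (hf : Synt.IsSyntomicMor f) :
    IsLocallyConstant (fun x : ↑X => FlatMor.fibreDimAt f x) := by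
  have hK := (Groth.Agent.S9758.main f).mpr hf
  haveI hlft : LocallyOfFiniteType f := lft_of_isKoszulAt f hK.2
  rw [IsLocallyConstant.iff_exists_open]
  intro x
  obtain ⟨_, ⟨V, hV, rfl⟩, hxV, -⟩ :=
    (S.isBasis_affineOpens).exists_subset_of_mem_open (Set.mem_univ (f x)) isOpen_univ
  obtain ⟨V, rfl⟩ : ∃ V' : S.affineOpens, V'.1 = V := ⟨⟨V, hV⟩, rfl⟩
  obtain ⟨U, e, hxU, R, _, n, c, F, hF, e₁, e₂, hcomm⟩ :=
    Groth.Agent.S9364.forward f x V hxV (hf x)
  have key : ∀ z : (U.1 : Scheme.{u}), FlatMor.fibreDimAt f z.1 = ((n - c : ℕ) : WithBot ℕ∞) := by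
    intro z
    set h := Spec.map (CommRingCat.ofHom (algebraMap R (Synt.RelGCIRing R n c F))) with hh
    haveI hlfth : LocallyOfFiniteType h := by
      rw [hh, HasRingHomProperty.Spec_iff (P := @LocallyOfFiniteType)]
      exact RingHom.finiteType_algebraMap.mpr inferInstance
    have hres : f.resLE V.1 U.1 e = e₁.hom ≫ h ≫ e₂.inv := by
      rw [← Category.assoc, hcomm, Category.assoc, Iso.hom_inv_id, Category.comp_id]
    have hι : f.resLE V.1 U.1 e ≫ V.1.ι = U.1.ι ≫ f := Scheme.Hom.resLE_comp_ι f e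
    haveI : LocallyOfFiniteType (f.resLE V.1 U.1 e ≫ V.1.ι) := by
      rw [hι]
      infer_instance
    rw [← Groth.Agent.Helper14.QuasiSection.fibreDimAt_opens f U.1 z]
    have h2 : FlatMor.fibreDimAt (U.1.ι ≫ f) z = FlatMor.fibreDimAt (f.resLE V.1 U.1 e ≫ V.1.ι) z := by
      rw [hι]
    rw [h2, ← Groth.Agent.Helper16.ConsFD.fibreDimAt_comp_mono (f.resLE V.1 U.1 e) V.1.ι z]
    have h3 : FlatMor.fibreDimAt (f.resLE V.1 U.1 e) z =
        FlatMor.fibreDimAt (e₁.hom ≫ (h ≫ e₂.inv)) z := by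
      rw [hres]
    rw [h3, Groth.Agent.Helper16.ConsFD.fibreDimAt_iso_comp e₁.hom (h ≫ e₂.inv) z,
      ← Groth.Agent.Helper16.ConsFD.fibreDimAt_comp_mono h e₂.inv (e₁.hom z)]
    exact fibreDimAt_relGCI R n c F hF _
  refine ⟨U.1, U.1.isOpen, hxU, fun x' hx' => ?_⟩
  show FlatMor.fibreDimAt f x' = FlatMor.fibreDimAt f x
  rw [key ⟨x', hx'⟩, key ⟨x, hxU⟩]

end

open AlgebraicGeometry CategoryTheory in
/-- If f : X → S is syntomic, then x ↦ dim_x(X_{f x}) is locally constant on X. -/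
theorem result {X S : Scheme.{u}} (f : X ⟶ S) (hf : Synt.IsSyntomicMor f) :
    IsLocallyConstant (fun x : ↑X => FlatMor.fibreDimAt f x) := by
  exact Groth.Agent.S9367.main f hf

end Groth.Agent.S9367
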