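import Groth.Statements.S9373
import Groth.Agent.Lib.Helper13.QCohWeakAss

set_option autoImplicit false
universe u
open QCohSub

namespace Groth.Agent.S9373

open Groth.Agent.Helper13.QCoh AlgebraicGeometry CategoryTheory

open AlgebraicGeometry CategoryTheory in
/-- The support of a quasi-coherent O_X-module is closed under specialization. -/
theorem result (X : Scheme.{u}) (F : X.Modules) (hF : Coh.IsQCoh F) :
    StableUnderSpecialization (CohB1.support F) := by
  have : F.IsQuasicoherent := hF
  intro x x' hxx' hx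
  have hx0 : ¬ Subsingleton (F.presheaf.stalk x) := hx
  have hm : ∃ m : F.presheaf.stalk x, m ≠ 0 := by
    by_contra hall
    push Not at hall
    exact hx0 ⟨fun a b => by rw [hall a, hall b]⟩
  obtain ⟨m, hm⟩ := hm
  obtain ⟨_, ⟨V, hV, rfl⟩, hx'V, -⟩ :=
    X.isBasis_affineOpens.exists_subset_of_mem_open (Set.mem_univ x') isOpen_univ
  have hV' : IsAffineOpen V := hV
  have hxV : x ∈ V := hxx'.mem_open V.2 hx'V
  obtain ⟨t, ht⟩ := exists_section_germ_ne_zero F hV' x hxV m hm
  intro hsub
  have h0 : F.presheaf.germ V x' hx'V t = 0 := hsub.elim _ _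
  obtain ⟨g, hx'g, hgt⟩ := exists_smul_eq_zero_of_germ_eq_zero F hV' x' hx'V t h0
  have hxg : x ∈ X.basicOpen g := hxx'.mem_open (X.basicOpen g).2 hx'g
  apply ht
  apply eq_zero_of_germ_smul_eq_zero F x hxV g hxg
  rw [← germ_smul, hgt, map_zero]

end Groth.Agent.S9373
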