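import Groth.Statements.S9381
import Groth.Agent.Lib.Helper14.ResFieldBridge
import Groth.Agent.Lib.Helper14.GenFibFormula
-- import your own Groth.Agent.* helpers here

set_option autoImplicit false
universe u
open FibDim

namespace Groth.Agent.S9381

open AlgebraicGeometry CategoryTheory in
/-- Let f : X → S be locally of finite type and x ⤳ x' a nontrivial specialization of points of X in the
same fibre (f x = f x'). Then trdeg_{κ(f x)} κ(x) > trdeg_{κ(f x')} κ(x'). -/
theorem result {X S : Scheme.{u}} (f : X ⟶ S) [LocallyOfFiniteType f] (x x' : X)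
    (hsp : x ⤳ x') (hne : x ≠ x') (hfx : f.base x = f.base x') :
    @Algebra.trdeg (S.residueField (f.base x')) (X.residueField x') _ _ (f.residueFieldMap x').hom.toAlgebra <
      @Algebra.trdeg (S.residueField (f.base x)) (X.residueField x) _ _ (f.residueFieldMap x).hom.toAlgebra := by
  classical
  change f x = f x' at hfx
  obtain ⟨V, hV, hxV, -⟩ :=
    exists_isAffineOpen_mem_and_subset (X := S) (x := f x') (U := ⊤) trivial
  obtain ⟨U, hU, hx'U, hUV⟩ :=
    exists_isAffineOpen_mem_and_subset (X := X) (x := x') (U := f ⁻¹ᵁ V) hxV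
  have hxU : x ∈ U := hsp.mem_open U.isOpen hx'U
  letI alg : Algebra Γ(S, V) Γ(X, U) := (f.appLE V U hUV).hom.toAlgebra
  have halg : algebraMap Γ(S, V) Γ(X, U) = (f.appLE V U hUV).hom := rfl
  haveI : Algebra.FiniteType Γ(S, V) Γ(X, U) := Scheme.Hom.finiteType_appLE f hV hU hUV
  let q : Ideal Γ(X, U) := (hU.primeIdealOf ⟨x, hxU⟩).asIdeal
  let q' : Ideal Γ(X, U) := (hU.primeIdealOf ⟨x', hx'U⟩).asIdeal
  haveI : q.IsPrime := (hU.primeIdealOf ⟨x, hxU⟩).isPrime
  haveI : q'.IsPrime := (hU.primeIdealOf ⟨x', hx'U⟩).isPrime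
  let p : Ideal Γ(S, V) := q'.under Γ(S, V)
  haveI : p.IsPrime := inferInstance
  haveI : q'.LiesOver p := inferInstance
  have hqunder : q.under Γ(S, V) = p := by
    rw [Groth.Agent.Helper14.ResFieldBridge.under_primeIdealOf f hU hV hUV x hxU halg]
    change _ = q'.under Γ(S, V)
    rw [Groth.Agent.Helper14.ResFieldBridge.under_primeIdealOf f hU hV hUV x' hx'U halg]
    congr 2
    exact Subtype.ext hfx
  haveI : q.LiesOver p := ⟨hqunder.symm⟩
  have hle : hU.primeIdealOf ⟨x, hxU⟩ ≤ hU.primeIdealOf ⟨x', hx'U⟩ := by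
    rw [← Groth.Agent.Helper14.ResFieldBridge.specializes_fromSpec_iff hU,
      hU.fromSpec_primeIdealOf ⟨x, hxU⟩, hU.fromSpec_primeIdealOf ⟨x', hx'U⟩]
    exact hsp
  have hlt : q < q' := by
    refine lt_of_le_of_ne hle ?_
    intro heq
    apply hne
    have h1 : hU.primeIdealOf ⟨x, hxU⟩ = hU.primeIdealOf ⟨x', hx'U⟩ := PrimeSpectrum.ext heq
    have h2 := hU.fromSpec_primeIdealOf ⟨x, hxU⟩
    rw [h1, hU.fromSpec_primeIdealOf ⟨x', hx'U⟩] at h2
    exact h2.symm
  have key := Groth.Agent.Helper14.GenFibFormula.trdeg_lt_of_lt Γ(S, V) Γ(X, U) p q q' hlt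
  rw [← Groth.Agent.Helper14.ResFieldBridge.trdeg_residueField_eq f hU hV hUV x hxU halg p q rfl,
    ← Groth.Agent.Helper14.ResFieldBridge.trdeg_residueField_eq f hU hV hUV x' hx'U halg p q' rfl]
    at key
  exact key

end Groth.Agent.S9381
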