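import Groth.Statements.S9385
import Groth.Agent.S9360
import Groth.Agent.S4667
import Groth.Agent.S2266
-- import your own Groth.Agent.* helpers here

set_option autoImplicit false
universe u
open SchDense

namespace Groth.Agent.S9385

section
open CategoryTheory AlgebraicGeometry TopologicalSpace

/-- reduced case of "schematically dense in every open" -/
theorem std_of_reduced_dense {Y : Scheme.{u}} [IsReduced Y] (R : Y.Opens)
    (hR : Dense (R : Set Y)) (W : Y.Opens) :
    IsSchemeTheoreticallyDominant (Y.homOfLE (inf_le_right : R ⊓ W ≤ W)) := by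
  haveI : IsDominant (Y.homOfLE (inf_le_right : R ⊓ W ≤ W)) := by
    constructor
    rw [DenseRange, dense_iff_inter_open]
    intro O hO hOne
    obtain ⟨w, hw⟩ := hOne
    have hOX : IsOpen (Subtype.val '' O : Set Y) := W.isOpen.isOpenMap_subtype_val O hO
    obtain ⟨x, hxO, hxU⟩ := hR.inter_open_nonempty _ hOX ⟨w.1, w, hw, rfl⟩
    obtain ⟨w', hw'O, rfl⟩ := hxO
    refine ⟨w', hw'O, ⟨⟨w'.1, hxU, w'.2⟩, ?_⟩⟩
    apply Subtype.ext
    simp
  exact IsSchemeTheoreticallyDominant.of_isDominant _

/-- quasi-compact case -/
theorem std_of_qc {Z Y : Scheme.{u}} (g : Z ⟶ Y) [IsOpenImmersion g] [QuasiCompact g]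
    [IsSchemeTheoreticallyDominant g] (W : Y.Opens) :
    IsSchemeTheoreticallyDominant (Y.homOfLE (inf_le_right : g.opensRange ⊓ W ≤ W)) := by
  set R := g.opensRange with hRdef
  have hrange : Set.range (R ⊓ W).ι ⊆ Set.range g := by
    rintro _ ⟨y, rfl⟩
    exact y.2.1
  let ℓ : (R ⊓ W).toScheme ⟶ Z := IsOpenImmersion.lift g (R ⊓ W).ι hrange
  have hℓ : ℓ ≫ g = (R ⊓ W).ι := IsOpenImmersion.lift_fac _ _ _
  haveI : IsOpenImmersion ℓ := by
    haveI : IsOpenImmersion (ℓ ≫ g) := by rw [hℓ]; infer_instance
    exact IsOpenImmersion.of_comp ℓ g
  have hpb : IsPullback (Y.homOfLE (inf_le_right : R ⊓ W ≤ W)) ℓ W.ι g := by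
    apply IsOpenImmersion.isPullback
    · rw [hℓ, Scheme.homOfLE_ι]
    · ext z
      simp only [Opens.map_coe, Set.mem_preimage, SetLike.mem_coe, Scheme.Opens.opensRange_ι]
      constructor
      · intro hz
        have hzR : g z ∈ R := ⟨z, rfl⟩
        refine ⟨⟨g z, hzR, hz⟩, ?_⟩
        apply g.isOpenEmbedding.injective
        have := congrArg (fun φ : (R ⊓ W).toScheme ⟶ Y => φ ⟨g z, hzR, hz⟩) hℓ
        simpa using this
      · rintro ⟨y, rfl⟩
        have := congrArg (fun φ : (R ⊓ W).toScheme ⟶ Y => φ y) hℓ
        simp only [Scheme.Hom.comp_apply] at this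
        rw [this]
        exact y.2.2
  exact IsSchemeTheoreticallyDominant.of_isPullback hpb.flip

theorem main {Z X : Scheme.{u}} (h : Z ⟶ X) [IsImmersion h]
    (hyp : QuasiCompact h ∨ IsReduced Z) :
    ∃ hI : IsOpenImmersion h.toImage,
      (∀ W : h.image.Opens, IsSchemeTheoreticallyDominant
          (h.image.homOfLE (inf_le_right : @Scheme.Hom.opensRange _ _ h.toImage hI ⊓ W ≤ W))) ∧
        DenseRange h.toImage.base := by
  rcases hyp with hqc | hred
  · haveI := hqc
    haveI : IsSchemeTheoreticallyDominant h.toImage := Groth.Agent.S4667.toImage_dominant h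
    refine ⟨inferInstance, fun W => std_of_qc h.toImage W, h.toImage.denseRange⟩
  · haveI := hred
    haveI hYred : IsReduced h.image := (Groth.Agent.S2266.aux h).1
    -- dense range
    have hdense : DenseRange h.toImage := by
      rw [DenseRange, h.imageι.isEmbedding.isInducing.dense_iff]
      intro y
      have h1 : h.imageι '' Set.range h.toImage = Set.range h := by
        rw [← Set.range_comp]
        have : (h.imageι : h.image → X) ∘ h.toImage = h := by
          funext z
          have := congrArg (fun φ : Z ⟶ X => φ z) h.toImage_imageι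
          simp only [Scheme.Hom.comp_apply] at this
          exact this
        rw [this]
      rw [h1]
      have h2 : h.imageι y ∈ (h.ker.support : Set X) := by
        have : Set.range h.imageι = h.ker.support := h.ker.range_subschemeι
        rw [← this]; exact ⟨y, rfl⟩
      have h3 := Groth.Agent.S9360.vanishingIdeal_le_ker h
      have h4 := Scheme.IdealSheafData.support_antitone h3
      have h5 := Scheme.IdealSheafData.coe_support_vanishingIdeal
        (X := X) ⟨closure (Set.range h), isClosed_closure⟩
      have h6 : (h.ker.support : Set X) ⊆ closure (Set.range h) := by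
        intro x hx
        have := h4 hx
        have h7 : x ∈ ((Scheme.IdealSheafData.vanishingIdeal
          ⟨closure (Set.range h), isClosed_closure⟩).support : Set X) := this
        rw [h5] at h7
        exact h7
      exact h6 h2
    -- open immersion
    have hsurj : Function.Surjective h.toImage.liftCoborder := by
      intro y
      have hy : y.1 ∈ coborder (Set.range h.toImage) := y.2
      have hcob : coborder (Set.range h.toImage) = Set.range h.toImage := by
        rw [coborder, hdense.closure_range]
        ext w
        simp
      rw [hcob] at hy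
      obtain ⟨z, hz⟩ := hy
      refine ⟨z, ?_⟩
      apply h.toImage.coborderRange.ι.isOpenEmbedding.injective
      have := congrArg (fun φ : Z ⟶ h.image => φ z) h.toImage.liftCoborder_ι
      simp only [Scheme.Hom.comp_apply] at this
      rw [this, hz]
      rfl
    haveI : Surjective h.toImage.liftCoborder := ⟨hsurj⟩
    haveI : IsIso h.toImage.liftCoborder := isIso_of_isClosedImmersion_of_surjective _
    have hI : IsOpenImmersion h.toImage := by
      have : IsOpenImmersion (h.toImage.liftCoborder ≫ h.toImage.coborderRange.ι) :=
        inferInstance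
      rwa [h.toImage.liftCoborder_ι] at this
    refine ⟨hI, fun W => ?_, hdense⟩
    apply std_of_reduced_dense
    have : ((@Scheme.Hom.opensRange _ _ h.toImage hI : h.image.Opens) : Set h.image) =
        Set.range h.toImage := rfl
    rw [this]
    exact hdense

end

open AlgebraicGeometry CategoryTheory in
/-- Let h : Z → X be an immersion, and suppose that either Z is reduced or h is quasi-compact. Write Z̄
⊆ X for the scheme-theoretic image of h. Then Z → Z̄ is an open immersion identifying Z with a
scheme-theoretically dense (in the for-every-open sense) and topologically dense open subscheme of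
Z̄. -/
theorem result {Z X : Scheme.{u}} (h : Z ⟶ X) [IsImmersion h]
    (hyp : QuasiCompact h ∨ IsReduced Z) :
    ∃ hI : IsOpenImmersion h.toImage,
      (∀ W : h.image.Opens, IsSchemeTheoreticallyDominant
          (h.image.homOfLE (inf_le_right : @Scheme.Hom.opensRange _ _ h.toImage hI ⊓ W ≤ W))) ∧
        DenseRange h.toImage.base := by
  exact Groth.Agent.S9385.main h hyp

end Groth.Agent.S9385
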