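import Groth.Statements.S9388
import Groth.Agent.Lib.Helper18.Rec3
import Groth.Agent.Lib.Helper13.FinPresAffine

set_option autoImplicit false
universe u
open OmegaSh

namespace Groth.Agent.S9388

open AlgebraicGeometry CategoryTheory in
/-- For f : X → S locally of finite presentation, every receptacle Ω of a universal S-derivation of O_X
is a finitely presented O_X-module. -/
theorem result {X S : Scheme.{u}} (f : X ⟶ S) [LocallyOfFinitePresentation f]
    (Ω : X.Modules) (d : OmegaSh.Der f Ω) (hd : OmegaSh.IsUniversal d) : CohB1.IsFP Ω := by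
  haveI := Groth.Agent.Helper18.Rec.isQuasicoherent_of_isUniversal d hd
  apply Groth.Agent.Helper13.LocFree.isFinitePresentation_of_finitePresentation_sections
  intro x
  obtain ⟨V, hV, hxV⟩ : ∃ V : S.Opens, IsAffineOpen V ∧ f x ∈ V := by
    obtain ⟨_, ⟨V, hV, rfl⟩, hxV, -⟩ :=
      S.isBasis_affineOpens.exists_subset_of_mem_open (Set.mem_univ (f x)) isOpen_univ
    exact ⟨V, hV, hxV⟩
  obtain ⟨U, hU, hxU, e⟩ : ∃ U : X.Opens, IsAffineOpen U ∧ x ∈ U ∧ U ≤ f ⁻¹ᵁ V := by
    obtain ⟨_, ⟨U, hU, rfl⟩, hxU, hUV⟩ :=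
      X.isBasis_affineOpens.exists_subset_of_mem_open
        (show x ∈ ((f ⁻¹ᵁ V : X.Opens) : Set X) from hxV) (f ⁻¹ᵁ V).2
    exact ⟨U, hU, hxU, hUV⟩
  refine ⟨U, hU, hxU, ?_⟩
  letI := Groth.Agent.Helper18.OmegaSec.algUV f e
  haveI : Algebra.FinitePresentation Γ(S, V) Γ(X, U) := f.finitePresentation_appLE hV hU e
  exact Module.finitePresentation_of_surjective
    (Groth.Agent.Helper18.Rec.recSec d e hd hU hV).symm.toLinearMap
    (Groth.Agent.Helper18.Rec.recSec d e hd hU hV).symm.surjective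
    (by rw [LinearEquiv.ker]; exact Submodule.fg_bot)

end Groth.Agent.S9388
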