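import Groth.Statements.S9390
import Groth.Agent.Lib.Helper13.QCohWeakAss

set_option autoImplicit false
universe u
open QCohSub

namespace Groth.Agent.S9390

open Groth.Agent.Helper13.QCoh AlgebraicGeometry CategoryTheory

open AlgebraicGeometry CategoryTheory in
/-- For a quasi-coherent O_X-module F, an affine open U = Spec A of X, M = F(U) and x ∈ U with prime p ⊆
A, the prime p is in Supp(M) if and only if x is in Supp(F). -/
theorem result (X : Scheme.{u}) (F : X.Modules) (hF : Coh.IsQCoh F)
    (U : X.affineOpens) (x : X) (hx : x ∈ U.1) :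
    U.2.primeIdealOf ⟨x, hx⟩ ∈ Module.support Γ(X, U.1) Γ(F, U.1) ↔ x ∈ CohB1.support F := by
  have : F.IsQuasicoherent := hF
  rw [Module.mem_support_iff']
  constructor
  · rintro ⟨t, ht⟩ hsub
    have h0 : F.presheaf.germ U.1 x hx t = 0 := hsub.elim _ _
    obtain ⟨g, hxg, hgt⟩ := exists_smul_eq_zero_of_germ_eq_zero F U.2 x hx t h0
    exact ht g ((mem_basicOpen_iff_notMem_primeIdealOf U.2 x hx g).1 hxg) hgt
  · intro hxs
    have hx0 : ¬ Subsingleton (F.presheaf.stalk x) := hxs
    have hm : ∃ m : F.presheaf.stalk x, m ≠ 0 := by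
      by_contra hall
      push Not at hall
      exact hx0 ⟨fun a b => by rw [hall a, hall b]⟩
    obtain ⟨m, hm⟩ := hm
    obtain ⟨t, ht⟩ := exists_section_germ_ne_zero F U.2 x hx m hm
    refine ⟨t, fun r hr hrt => ht ?_⟩
    have hxr : x ∈ X.basicOpen r := (mem_basicOpen_iff_notMem_primeIdealOf U.2 x hx r).2 hr
    apply eq_zero_of_germ_smul_eq_zero F x hx r hxr
    rw [← germ_smul, hrt, map_zero]

end Groth.Agent.S9390
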