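import Groth.Statements.S9391
import Mathlib
-- import your own Groth.Agent.* helpers here

set_option autoImplicit false
universe u
open CAlg

namespace Groth.Agent.S9391

/-- A localization of an N-1 domain which is again a domain is N-1. -/
theorem result (R : Type u) [CommRing R] [IsDomain R] (M : Submonoid R)
    (S : Type u) [CommRing S] [IsDomain S] [Algebra R S] [IsLocalization M S]
    (h : CAlg.IsN1 R) : CAlg.IsN1 S := by
  classical
  unfold CAlg.IsN1 at h ⊢
  set K := FractionRing R with hK
  have hM : M ≤ nonZeroDivisors R := by
    intro x hx
    rw [mem_nonZeroDivisors_iff_ne_zero]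
    rintro rfl
    have h1 : IsUnit (algebraMap R S 0) := IsLocalization.map_units S ⟨0, hx⟩
    rw [map_zero] at h1
    exact not_isUnit_zero h1
  have hunits : ∀ y : M, IsUnit (algebraMap R K y) := fun y =>
    IsLocalization.map_units K (⟨y, hM y.2⟩ : nonZeroDivisors R)
  letI : Algebra S K := (IsLocalization.lift (M := M) (g := algebraMap R K) hunits).toAlgebra
  haveI : IsScalarTower R S K := IsScalarTower.of_algebraMap_eq fun x =>
    (IsLocalization.lift_eq (M := M) hunits x).symm
  haveI : IsFractionRing S K := IsFractionRing.isFractionRing_of_isDomain_of_isLocalization M S K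
  -- finite generation
  have hfin : Module.Finite S (integralClosure S K) := by
    have h' : (Subalgebra.toSubmodule (integralClosure R K)).FG :=
      Module.Finite.iff_fg.1 (show Module.Finite R (Subalgebra.toSubmodule (integralClosure R K)) from h)
    show Module.Finite S (Subalgebra.toSubmodule (integralClosure S K))
    rw [Module.Finite.iff_fg]
    obtain ⟨G, hG⟩ := h'
    refine ⟨G, ?_⟩
    apply le_antisymm
    · rw [Submodule.span_le]
      intro g hg
      have hg' : g ∈ Subalgebra.toSubmodule (integralClosure R K) := by
        rw [← hG]; exact Submodule.subset_span hg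
      have : IsIntegral R g := hg'
      exact this.tower_top
    · intro z hz
      have hz' : IsIntegral S z := hz
      obtain ⟨m, hm⟩ := IsIntegral.exists_multiple_integral_of_isLocalization M (Rₘ := S) z hz'
      have h1 : m • z ∈ Subalgebra.toSubmodule (integralClosure R K) := hm
      rw [← hG] at h1
      have h2 : m • z ∈ Submodule.span S (G : Set K) := Submodule.span_le_restrictScalars R S _ h1
      have h3 : z = (IsLocalization.mk' S (1 : R) m) • (m • z) := by
        rw [Submonoid.smul_def, ← algebraMap_smul S (m : R) z, smul_smul, IsLocalization.mk'_spec,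
          map_one, one_smul]
      rw [h3]
      exact Submodule.smul_mem _ _ h2
  let e : FractionRing S ≃ₐ[S] K := FractionRing.algEquiv S K
  exact Module.Finite.equiv (e.mapIntegralClosure.symm.toLinearEquiv)

end Groth.Agent.S9391
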