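import Groth.Statements.S9393
import Groth.Agent.Lib.Helper14.IntClosure
-- import your own Groth.Agent.* helpers here

set_option autoImplicit false
universe u
open CAlg

namespace Groth.Agent.S9393

/-- Being N-1 can be checked on a finite cover of Spec R by principal opens whose rings are N-1 domains. -/
theorem result (R : Type u) [CommRing R] [IsDomain R]
    {ι : Type u} [Finite ι] (f : ι → R) (hf : Ideal.span (Set.range f) = ⊤)
    (Rf : ι → Type u) [∀ i, CommRing (Rf i)] [∀ i, IsDomain (Rf i)] [∀ i, Algebra R (Rf i)]
    [∀ i, IsLocalization.Away (f i) (Rf i)] (h : ∀ i, CAlg.IsN1 (Rf i)) : CAlg.IsN1 R := by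
  classical
  unfold CAlg.IsN1 at h ⊢
  set K := FractionRing R with hK
  have hM : ∀ i, Submonoid.powers (f i) ≤ nonZeroDivisors R := by
    intro i x hx
    rw [mem_nonZeroDivisors_iff_ne_zero]
    rintro rfl
    have h1 : IsUnit (algebraMap R (Rf i) 0) :=
      IsLocalization.map_units (Rf i) (⟨0, hx⟩ : Submonoid.powers (f i))
    rw [map_zero] at h1
    exact not_isUnit_zero h1
  have hunits : ∀ i, ∀ y : Submonoid.powers (f i), IsUnit (algebraMap R K y) := fun i y =>
    IsLocalization.map_units K (⟨y, hM i y.2⟩ : nonZeroDivisors R)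
  letI : ∀ i, Algebra (Rf i) K := fun i =>
    (IsLocalization.lift (M := Submonoid.powers (f i)) (g := algebraMap R K) (hunits i)).toAlgebra
  haveI : ∀ i, IsScalarTower R (Rf i) K := fun i => IsScalarTower.of_algebraMap_eq fun x =>
    (IsLocalization.lift_eq (M := Submonoid.powers (f i)) (hunits i) x).symm
  haveI : ∀ i, IsFractionRing (Rf i) K := fun i =>
    IsFractionRing.isFractionRing_of_isDomain_of_isLocalization (Submonoid.powers (f i)) (Rf i) K
  have hfin : ∀ i, Module.Finite (Rf i) (integralClosure (Rf i) K) := by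
    intro i
    let e : FractionRing (Rf i) ≃ₐ[Rf i] K := FractionRing.algEquiv (Rf i) K
    haveI := h i
    exact Module.Finite.equiv (e.mapIntegralClosure.toLinearEquiv)
  exact Helper14.finite_integralClosure_of_span_eq_top f hf Rf K hfin

end Groth.Agent.S9393
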