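import Groth.Statements.S9397
import Mathlib
-- import your own Groth.Agent.* helpers here

set_option autoImplicit false
universe u
open CAlg

namespace Groth.Agent.S9397

/-- A ring R is universally Japanese provided that each R-algebra of finite type which is a domain is
N-1. -/
theorem result (R : Type u) [CommRing R]
    (h : ∀ (S : Type u) [CommRing S] [IsDomain S] [Algebra R S], Algebra.FiniteType R S → CAlg.IsN1 S) :
    CAlg.IsUniversallyJapanese R := by
  classical
  intro S _ _ _ hft L _ _ _ _ hfd
  set K := FractionRing S with hK
  obtain ⟨s, b, hb⟩ := FiniteDimensional.exists_is_basis_integral S K L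
  letI : Algebra R L := ((algebraMap S L).comp (algebraMap R S)).toAlgebra
  haveI : IsScalarTower R S L := IsScalarTower.of_algebraMap_eq fun x => rfl
  let S' : Subalgebra S L := Algebra.adjoin S (Set.range b)
  have hbS' : ∀ i, b i ∈ S' := fun i => Algebra.subset_adjoin ⟨i, rfl⟩
  have hfg : (Subalgebra.toSubmodule S').FG :=
    fg_adjoin_of_finite (Set.finite_range b) (by rintro _ ⟨i, rfl⟩; exact hb i)
  haveI hfinS' : Module.Finite S S' := Module.Finite.iff_fg.2 hfg
  haveI : Algebra.FiniteType S S' := inferInstance
  have hft' : Algebra.FiniteType R S' := Algebra.FiniteType.trans hft inferInstance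
  have hinjSL : Function.Injective (algebraMap S L) := by
    rw [IsScalarTower.algebraMap_eq S K L]
    exact (algebraMap K L).injective.comp (IsFractionRing.injective S K)
  -- fraction field of S' is L
  haveI hfrac : IsFractionRing S' L := by
    refine IsFractionRing.of_field (R := S') (K := L) ?_
    intro z
    obtain ⟨d, hd⟩ := IsLocalization.exist_integer_multiples (nonZeroDivisors S) Finset.univ
      (fun i : s => b.repr z i)
    have hd' : ∀ i : s, ∃ a : S, algebraMap S K a = (d : S) • b.repr z i := fun i => hd i (Finset.mem_univ i)
    choose a ha using hd'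
    have hdz : (d : S) • z = ∑ i : s, a i • b i := by
      conv_lhs => rw [← b.sum_repr z, Finset.smul_sum]
      refine Finset.sum_congr rfl fun i _ => ?_
      rw [← smul_assoc, ← ha i, algebraMap_smul]
    have hmem : (d : S) • z ∈ S' := by
      rw [hdz]
      exact Subalgebra.sum_mem _ fun i _ => S'.smul_mem (hbS' i) _
    have hd0 : algebraMap S L d ≠ 0 := by
      rw [Ne, map_eq_zero_iff _ hinjSL]
      exact nonZeroDivisors.coe_ne_zero d
    refine ⟨⟨(d : S) • z, hmem⟩, algebraMap S S' d, ?_⟩
    show z = ((d : S) • z) / (algebraMap S L d)
    rw [Algebra.smul_def, mul_div_assoc, mul_comm, div_mul_cancel₀ _ hd0]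
  -- N-1 for S'
  have hN1 : Module.Finite S' (integralClosure S' (FractionRing S')) := h S' hft'
  let e : FractionRing S' ≃ₐ[S'] L := FractionRing.algEquiv S' L
  haveI hfin1 : Module.Finite S' (integralClosure S' L) := Module.Finite.equiv (e.mapIntegralClosure.toLinearEquiv)
  haveI : Algebra.IsIntegral S S' := Algebra.IsIntegral.of_finite S S'
  have heq : Subalgebra.toSubmodule (integralClosure S L) =
      (Subalgebra.toSubmodule (integralClosure S' L)).restrictScalars S := by
    ext z
    constructor
    · intro hz
      exact (show IsIntegral S z from hz).tower_top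
    · intro hz
      exact isIntegral_trans (R := S) (A := S') z hz
  haveI hfin2 : Module.Finite S (integralClosure S' L) := Module.Finite.trans S' _
  have hfin3 : Module.Finite S ((Subalgebra.toSubmodule (integralClosure S' L)).restrictScalars S) := hfin2
  show Module.Finite S (Subalgebra.toSubmodule (integralClosure S L))
  rw [heq]
  exact hfin3

end Groth.Agent.S9397
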