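import Groth.Statements.S9402
-- import your own Groth.Agent.* helpers here

set_option autoImplicit false
universe u
open CAlg

namespace Groth.Agent.S9402

/-- Let R → S be a ring map with S a nonzero algebra over the rationals and f ∈ S such that some
S-linear form on the module of differentials of S over R sends df to 1 (that is, df spans a free
direct summand of rank one). Then f is not nilpotent. (The published statement asks only that S·df
be a direct summand of the module of differentials, which also holds for the rationals with a
square-zero element adjoined and for the zero ring, where f is nilpotent; this row asks for an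
S-linear form on the differentials sending df to 1, as the published proof uses, and S nonzero.) -/
theorem result (R : Type u) [CommRing R] (S : Type u)
    [CommRing S] [Nontrivial S] [Algebra R S] [Algebra ℚ S] (f : S)
    (θ : Ω[S⁄R] →ₗ[S] S) (hθ : θ (KaehlerDifferential.D R S f) = 1) : ¬ IsNilpotent f := by
  intro hnil
  classical
  have hex : ∃ n : ℕ, f ^ n = 0 := hnil
  have hspec := Nat.find_spec hex
  have hmin : ∀ m, m < Nat.find hex → ¬ f ^ m = 0 := fun m hm => Nat.find_min hex hm
  set k := Nat.find hex
  have hk0 : k ≠ 0 := by
    intro h0
    rw [h0, pow_zero] at hspec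
    exact one_ne_zero hspec
  have h1 : θ (KaehlerDifferential.D R S (f ^ k)) = 0 := by rw [hspec]; simp
  rw [Derivation.leibniz_pow] at h1
  simp only [map_nsmul, map_smul, hθ] at h1
  have h2 : (k : S) * f ^ (k - 1) = 0 := by simpa [nsmul_eq_mul] using h1
  have hunit : algebraMap ℚ S ((k:ℚ)⁻¹) * (k : S) = 1 := by
    rw [← map_natCast (algebraMap ℚ S), ← map_mul, inv_mul_cancel₀ (by exact_mod_cast hk0), map_one]
  have : f ^ (k-1) = 0 := by
    calc f ^ (k-1) = (algebraMap ℚ S ((k:ℚ)⁻¹) * (k : S)) * f^(k-1) := by rw [hunit, one_mul]
    _ = 0 := by rw [mul_assoc, h2, mul_zero]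
  exact hmin (k-1) (by omega) this

end Groth.Agent.S9402
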