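import Groth.Statements.S9403
-- import your own Groth.Agent.* helpers here

set_option autoImplicit false
universe u
open CAlg

namespace Groth.Agent.S9403

/-- Let R → S be a ring map with S a Noetherian local ring which is an algebra over the rationals, and f
∈ S such that some S-linear form on the module of differentials of S over R sends df to 1 (df spans
a free direct summand of rank one). Then f is a nonzerodivisor of S. (The published statement asks
only that S·df be a direct summand of the module of differentials, which also holds for the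
rationals with a square-zero element adjoined, where f is a zero divisor; this row asks for an
S-linear form on the differentials sending df to 1, as the published proof uses.) -/
theorem result (R : Type u) [CommRing R]
    (S : Type u) [CommRing S] [IsLocalRing S] [IsNoetherianRing S] [Algebra R S] [Algebra ℚ S]
    (f : S) (θ : Ω[S⁄R] →ₗ[S] S) (hθ : θ (KaehlerDifferential.D R S f) = 1) : f ∈ nonZeroDivisors S := by
  rw [mem_nonZeroDivisors_iff_right]
  intro a ha
  by_cases hu : IsUnit f
  · exact (hu.mul_left_eq_zero).mp ha
  have hne : Ideal.span {f} ≠ ⊤ := by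
    rwa [Ne, Ideal.span_singleton_eq_top]
  have key : ∀ n : ℕ, ∃ b : S, a = b * f ^ n := by
    intro n
    induction n with
    | zero => exact ⟨a, by simp⟩
    | succ n ih =>
      obtain ⟨b, hb⟩ := ih
      have h0 : b * f ^ (n + 1) = 0 := by
        rw [pow_succ, ← mul_assoc, ← hb, ha]
      have h1 : θ (KaehlerDifferential.D R S (b * f ^ (n + 1))) = 0 := by rw [h0]; simp
      rw [Derivation.leibniz, Derivation.leibniz_pow] at h1
      simp only [map_add, map_nsmul, map_smul, hθ, Nat.add_sub_cancel] at h1
      simp only [nsmul_eq_mul, smul_eq_mul, mul_one] at h1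
      have hunit : algebraMap ℚ S (((n + 1 : ℕ) : ℚ)⁻¹) * ((n + 1 : ℕ) : S) = 1 := by
        rw [← map_natCast (algebraMap ℚ S), ← map_mul,
          inv_mul_cancel₀ (by exact_mod_cast Nat.succ_ne_zero n), map_one]
      refine ⟨-(algebraMap ℚ S (((n + 1 : ℕ) : ℚ)⁻¹) * θ (KaehlerDifferential.D R S b)), ?_⟩
      have h2 : ((n + 1 : ℕ) : S) * (b * f ^ n) = - (f ^ (n + 1) * θ (KaehlerDifferential.D R S b)) := by
        rw [eq_neg_iff_add_eq_zero]
        rw [← h1]
        ring
      calc a = (algebraMap ℚ S (((n + 1 : ℕ) : ℚ)⁻¹) * ((n + 1 : ℕ) : S)) * (b * f ^ n) := by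
            rw [hunit, one_mul, hb]
        _ = algebraMap ℚ S (((n + 1 : ℕ) : ℚ)⁻¹) * (((n + 1 : ℕ) : S) * (b * f ^ n)) := by ring
        _ = _ := by rw [h2]; ring
  have hmem : a ∈ ⨅ i : ℕ, (Ideal.span {f}) ^ i := by
    rw [Ideal.mem_iInf]
    intro i
    obtain ⟨b, hb⟩ := key i
    rw [Ideal.span_singleton_pow, Ideal.mem_span_singleton']
    exact ⟨b, hb.symm⟩
  rw [Ideal.iInf_pow_eq_bot_of_isLocalRing _ hne] at hmem
  simpa using hmem

end Groth.Agent.S9403
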