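import Groth.Statements.S9404
import Mathlib
-- import your own Groth.Agent.* helpers here

set_option autoImplicit false
universe u
open CAlg

namespace Groth.Agent.S9404

section
open TensorProduct IsLocalRing

variable (A : Type u) [CommRing A] [IsLocalRing A] (B : Type u) [CommRing B] [IsLocalRing B]
    [Algebra A B] [IsLocalHom (algebraMap A B)] (C : Type u) [CommRing C] [IsLocalRing C]
    [Algebra A C] [IsLocalHom (algebraMap A C)]

/-- the map to the tensor product of residue fields -/
noncomputable def π : B ⊗[A] C →ₐ[A] ResidueField B ⊗[ResidueField A] ResidueField C :=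
  (Algebra.TensorProduct.mapOfCompatibleSMul (ResidueField A) A A (ResidueField B)
    (ResidueField C)).comp
    (Algebra.TensorProduct.map (IsScalarTower.toAlgHom A B (ResidueField B))
      (IsScalarTower.toAlgHom A C (ResidueField C)))

theorem π_tmul (b : B) (c : C) : π A B C (b ⊗ₜ c) = residue B b ⊗ₜ residue C c := by
  simp [π]

variable {A B C}

theorem comap_left [Algebra.IsIntegral A C] (m : Ideal (B ⊗[A] C)) [m.IsMaximal] :
    m.comap (Algebra.TensorProduct.includeLeft : B →ₐ[A] B ⊗[A] C).toRingHom = maximalIdeal B := by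
  have : (m.comap (algebraMap B (B ⊗[A] C))).IsMaximal :=
    Ideal.isMaximal_comap_of_isIntegral_of_isMaximal m
  exact IsLocalRing.eq_maximalIdeal this

theorem comap_right [Algebra.IsIntegral A C] (m : Ideal (B ⊗[A] C)) [m.IsMaximal] :
    m.comap (Algebra.TensorProduct.includeRight : C →ₐ[A] B ⊗[A] C).toRingHom = maximalIdeal C := by
  set q := m.comap (Algebra.TensorProduct.includeRight : C →ₐ[A] B ⊗[A] C).toRingHom with hq
  have hqp : q.IsPrime := Ideal.comap_isPrime _ _
  have h1 : q.comap (algebraMap A C) = maximalIdeal A := by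
    have e : (Algebra.TensorProduct.includeRight : C →ₐ[A] B ⊗[A] C).toRingHom.comp (algebraMap A C)
        = (Algebra.TensorProduct.includeLeft : B →ₐ[A] B ⊗[A] C).toRingHom.comp (algebraMap A B) := by
      ext a
      simp [Algebra.TensorProduct.tmul_one_eq_one_tmul]
    rw [hq, Ideal.comap_comap, e, ← Ideal.comap_comap, comap_left m]
    exact IsLocalRing.maximalIdeal_comap (algebraMap A B)
  have : q.IsMaximal := by
    apply Ideal.isMaximal_of_isIntegral_of_isMaximal_comap (R := A) q
    rw [h1]; infer_instance
  exact IsLocalRing.eq_maximalIdeal this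

theorem exists_psi [Algebra.IsIntegral A C] (m : Ideal (B ⊗[A] C)) [m.IsMaximal] :
    ∃ ψ : ResidueField B ⊗[ResidueField A] ResidueField C →+* (B ⊗[A] C) ⧸ m,
      ∀ x, ψ (π A B C x) = Ideal.Quotient.mk m x := by
  letI := Ideal.Quotient.field m
  let ρB : B →+* (B ⊗[A] C) ⧸ m := (Ideal.Quotient.mk m).comp
    (Algebra.TensorProduct.includeLeft : B →ₐ[A] B ⊗[A] C).toRingHom
  let ρC : C →+* (B ⊗[A] C) ⧸ m := (Ideal.Quotient.mk m).comp
    (Algebra.TensorProduct.includeRight : C →ₐ[A] B ⊗[A] C).toRingHom
  haveI hB : IsLocalHom ρB := by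
    constructor
    intro b hb
    by_contra hnu
    have hmem : b ∈ maximalIdeal B := (IsLocalRing.mem_maximalIdeal b).mpr hnu
    rw [← comap_left m] at hmem
    have h0 : ρB b = 0 := Ideal.Quotient.eq_zero_iff_mem.mpr hmem
    rw [h0] at hb
    exact not_isUnit_zero hb
  haveI hC : IsLocalHom ρC := by
    constructor
    intro c hc
    by_contra hnu
    have hmem : c ∈ maximalIdeal C := (IsLocalRing.mem_maximalIdeal c).mpr hnu
    rw [← comap_right m] at hmem
    have h0 : ρC c = 0 := Ideal.Quotient.eq_zero_iff_mem.mpr hmem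
    rw [h0] at hc
    exact not_isUnit_zero hc
  let ψB : ResidueField B →+* (B ⊗[A] C) ⧸ m := ResidueField.lift ρB
  let ψC : ResidueField C →+* (B ⊗[A] C) ⧸ m := ResidueField.lift ρC
  letI : Algebra (ResidueField A) ((B ⊗[A] C) ⧸ m) :=
    (ψB.comp (algebraMap (ResidueField A) (ResidueField B))).toAlgebra
  let ψB' : ResidueField B →ₐ[ResidueField A] (B ⊗[A] C) ⧸ m :=
    { ψB with commutes' := fun _ => rfl }
  let ψC' : ResidueField C →ₐ[ResidueField A] (B ⊗[A] C) ⧸ m :=
    { ψC with
      commutes' := by
        intro r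
        obtain ⟨a, rfl⟩ := IsLocalRing.residue_surjective r
        change ρC (algebraMap A C a) = ρB (algebraMap A B a)
        simp only [ρB, ρC, RingHom.comp_apply]
        congr 1
        simp [Algebra.TensorProduct.tmul_one_eq_one_tmul] }
  refine ⟨(Algebra.TensorProduct.productMap ψB' ψC').toRingHom, ?_⟩
  intro x
  induction x using TensorProduct.induction_on with
  | zero => simp
  | tmul b c =>
    rw [π_tmul]
    change Algebra.TensorProduct.productMap ψB' ψC' _ = _
    rw [Algebra.TensorProduct.productMap_apply_tmul]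
    change ρB b * ρC c = _
    simp only [ρB, ρC, RingHom.comp_apply]
    rw [← map_mul]
    congr 1
    simp
  | add x y hx hy => rw [map_add, map_add, hx, hy, map_add]

theorem subsingleton_spec
    (h : IsPurelyInseparable (IsLocalRing.ResidueField A) (IsLocalRing.ResidueField C) ∨
      IsPurelyInseparable (IsLocalRing.ResidueField A) (IsLocalRing.ResidueField B)) :
    Subsingleton (PrimeSpectrum (ResidueField B ⊗[ResidueField A] ResidueField C)) := by
  rcases h with h | h
  · have H := PrimeSpectrum.isHomeomorph_comap_of_isPurelyInseparable (ResidueField A)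
      (ResidueField C) (ResidueField B)
    exact H.injective.subsingleton
  · have H := PrimeSpectrum.isHomeomorph_comap_of_isPurelyInseparable (ResidueField A)
      (ResidueField B) (ResidueField C)
    haveI := H.injective.subsingleton
    let e := Algebra.TensorProduct.comm (ResidueField A) (ResidueField B) (ResidueField C)
    have hinj : Function.Injective (PrimeSpectrum.comap e.symm.toAlgHom.toRingHom) :=
      PrimeSpectrum.comap_injective_of_surjective _ e.symm.surjective
    exact hinj.subsingleton

theorem main [Algebra.IsIntegral A C]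
    (h : IsPurelyInseparable (IsLocalRing.ResidueField A) (IsLocalRing.ResidueField C) ∨
      IsPurelyInseparable (IsLocalRing.ResidueField A) (IsLocalRing.ResidueField B)) :
    IsLocalRing (B ⊗[A] C) ∧
      IsLocalHom (Algebra.TensorProduct.includeLeft : B →ₐ[A] B ⊗[A] C).toRingHom ∧
      IsLocalHom (Algebra.TensorProduct.includeRight : C →ₐ[A] B ⊗[A] C).toRingHom := by
  have hss := subsingleton_spec h
  haveI : Nontrivial (ResidueField B ⊗[ResidueField A] ResidueField C) := inferInstance
  haveI : Nontrivial (B ⊗[A] C) := (π A B C).toRingHom.domain_nontrivial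
  have huniq : ∀ m m' : Ideal (B ⊗[A] C), m.IsMaximal → m'.IsMaximal → m = m' := by
    intro m m' hm hm'
    obtain ⟨ψ, hψ⟩ := exists_psi m
    obtain ⟨ψ', hψ'⟩ := exists_psi m'
    letI := Ideal.Quotient.field m
    letI := Ideal.Quotient.field m'
    have hk : RingHom.ker ψ = RingHom.ker ψ' := by
      have := hss.elim ⟨RingHom.ker ψ, RingHom.ker_isPrime ψ⟩ ⟨RingHom.ker ψ', RingHom.ker_isPrime ψ'⟩
      exact congrArg PrimeSpectrum.asIdeal this
    ext x
    rw [← Ideal.Quotient.eq_zero_iff_mem, ← hψ, ← RingHom.mem_ker, hk, RingHom.mem_ker, hψ',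
      Ideal.Quotient.eq_zero_iff_mem]
  have hloc : IsLocalRing (B ⊗[A] C) := by
    obtain ⟨m, hm⟩ := Ideal.exists_maximal (B ⊗[A] C)
    exact IsLocalRing.of_unique_max_ideal ⟨m, hm, fun m' hm' => huniq m' m hm' hm⟩
  refine ⟨hloc, ?_, ?_⟩
  · constructor
    intro b hb
    by_contra hnu
    obtain ⟨m, hm⟩ := Ideal.exists_maximal (B ⊗[A] C)
    have hmem : b ∈ maximalIdeal B := (IsLocalRing.mem_maximalIdeal b).mpr hnu
    rw [← comap_left m] at hmem
    exact hm.ne_top (Ideal.eq_top_of_isUnit_mem _ hmem hb)
  · constructor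
    intro c hc
    by_contra hnu
    obtain ⟨m, hm⟩ := Ideal.exists_maximal (B ⊗[A] C)
    have hmem : c ∈ maximalIdeal C := (IsLocalRing.mem_maximalIdeal c).mpr hnu
    rw [← comap_right m] at hmem
    exact hm.ne_top (Ideal.eq_top_of_isUnit_mem _ hmem hc)

end

open TensorProduct in
/-- For local homomorphisms of local rings A → B and A → C with A → C integral, if the residue field of
C or that of B is purely inseparable over the residue field of A, then B ⊗_A C is local and both
structure maps into it are local. -/
theorem result (A : Type u) [CommRing A]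
    [IsLocalRing A] (B : Type u) [CommRing B] [IsLocalRing B] [Algebra A B]
    [IsLocalHom (algebraMap A B)] (C : Type u) [CommRing C] [IsLocalRing C] [Algebra A C]
    [IsLocalHom (algebraMap A C)] [Algebra.IsIntegral A C]
    (h : IsPurelyInseparable (IsLocalRing.ResidueField A) (IsLocalRing.ResidueField C) ∨
      IsPurelyInseparable (IsLocalRing.ResidueField A) (IsLocalRing.ResidueField B)) :
    IsLocalRing (B ⊗[A] C) ∧
      IsLocalHom (Algebra.TensorProduct.includeLeft : B →ₐ[A] B ⊗[A] C).toRingHom ∧
      IsLocalHom (Algebra.TensorProduct.includeRight : C →ₐ[A] B ⊗[A] C).toRingHom := by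
  exact Groth.Agent.S9404.main h

end Groth.Agent.S9404
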