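import Groth.Statements.S9405
import Groth.Agent.Lib.Helper5.FinComplete

set_option autoImplicit false
set_option linter.style.haveILetI false
universe u
open CAlg

namespace Groth.Agent.S9405

/-- A module-finite algebra S over a complete Noetherian local ring R is a finite product of complete
Noetherian local rings; precisely, S has finitely many maximal ideals, S maps bijectively onto the
product of its localizations at them, and each of these localizations is Noetherian and complete for
its maximal ideal. -/
theorem result (R : Type u) [CommRing R]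
    [IsLocalRing R] [IsNoetherianRing R] [IsAdicComplete (IsLocalRing.maximalIdeal R) R]
    (S : Type u) [CommRing S] [Algebra R S] [Module.Finite R S] :
    Finite (MaximalSpectrum S) ∧
      Function.Bijective
        (algebraMap S ((m : MaximalSpectrum S) → Localization.AtPrime m.asIdeal)) ∧
      ∀ m : MaximalSpectrum S, IsNoetherianRing (Localization.AtPrime m.asIdeal) ∧
        IsAdicComplete (IsLocalRing.maximalIdeal (Localization.AtPrime m.asIdeal))
          (Localization.AtPrime m.asIdeal) := by
  classical
  haveI : HenselianLocalRing R :=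
    Groth.Agent.Helper5.FinComplete.henselianLocalRing_of_isAdicComplete R
  obtain ⟨hfin, e, he, hen, hloc⟩ :=
    Groth.Agent.Helper1.exists_completeOrthogonalIdempotents_forall_isLocalRing R S
  haveI : IsNoetherianRing S := IsNoetherianRing.of_finite R S
  haveI := hloc
  -- `1 - e n ∈ n`
  have h1e : ∀ n : MaximalSpectrum S, 1 - e n ∈ n.asIdeal := by
    intro n
    have hmul : e n * (1 - e n) ∈ n.asIdeal := by
      have : e n * (1 - e n) = 0 := by
        have := (he.idem n).eq
        rw [mul_sub, mul_one, this, sub_self]
      rw [this]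
      exact Submodule.zero_mem _
    exact (n.isMaximal.isPrime.mem_or_mem hmul).resolve_left (hen n)
  -- the comap of the maximal ideal of `S/(1 - e n)` is `n`
  have hcomap : ∀ n : MaximalSpectrum S,
      (IsLocalRing.maximalIdeal (S ⧸ Ideal.span {1 - e n})).comap
        (Ideal.Quotient.mk (Ideal.span {1 - e n})) = n.asIdeal := by
    intro n
    have hmax : ((Ideal.span {1 - e n}).map (Ideal.Quotient.mk (Ideal.span {1 - e n})) ⊔
        n.asIdeal.map (Ideal.Quotient.mk (Ideal.span {1 - e n}))) ≠ ⊤ := by
      rw [← Ideal.map_sup, sup_eq_right.mpr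
        ((Ideal.span_singleton_le_iff_mem _).mpr (h1e n))]
      intro htop
      have : n.asIdeal = ⊤ := by
        have h2 := congrArg (Ideal.comap (Ideal.Quotient.mk (Ideal.span {1 - e n}))) htop
        rw [Ideal.comap_top, Ideal.comap_map_of_surjective _ Ideal.Quotient.mk_surjective,
          ← RingHom.ker_eq_comap_bot, Ideal.mk_ker,
          sup_eq_left.mpr ((Ideal.span_singleton_le_iff_mem _).mpr (h1e n))] at h2
        exact h2
      exact n.isMaximal.ne_top this
    have hle : n.asIdeal ≤ (IsLocalRing.maximalIdeal (S ⧸ Ideal.span {1 - e n})).comap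
        (Ideal.Quotient.mk (Ideal.span {1 - e n})) := by
      rw [← Ideal.map_le_iff_le_comap]
      apply IsLocalRing.le_maximalIdeal
      intro htop
      apply hmax
      rw [htop, sup_top_eq]
    haveI : ((IsLocalRing.maximalIdeal (S ⧸ Ideal.span {1 - e n})).comap
        (Ideal.Quotient.mk (Ideal.span {1 - e n}))).IsMaximal :=
      Ideal.comap_isMaximal_of_surjective _ Ideal.Quotient.mk_surjective
    exact (n.isMaximal.eq_of_le (Ideal.IsMaximal.ne_top inferInstance) hle).symm
  -- `S/(1 - e n)` is the localization of `S` at `n`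
  have hisloc : ∀ n : MaximalSpectrum S,
      IsLocalization.AtPrime (S ⧸ Ideal.span {1 - e n}) n.asIdeal := by
    intro n
    refine ⟨⟨?_, ?_, ?_⟩⟩
    · rintro ⟨y, hy⟩
      change IsUnit (Ideal.Quotient.mk (Ideal.span {1 - e n}) y)
      rw [← IsLocalRing.notMem_maximalIdeal]
      intro hmem
      apply hy
      rw [← hcomap n]
      exact hmem
    · intro z
      obtain ⟨x, rfl⟩ := Ideal.Quotient.mk_surjective z
      exact ⟨(x, 1), by simp⟩
    · intro x y hxy
      change Ideal.Quotient.mk (Ideal.span {1 - e n}) x =
        Ideal.Quotient.mk (Ideal.span {1 - e n}) y at hxy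
      rw [Ideal.Quotient.eq, Ideal.mem_span_singleton] at hxy
      obtain ⟨a, ha⟩ := hxy
      refine ⟨⟨e n, hen n⟩, ?_⟩
      change e n * x = e n * y
      have h3 : e n * (x - y) = 0 := by
        rw [ha, ← mul_assoc, mul_sub, mul_one, (he.idem n).eq, sub_self, zero_mul]
      rw [mul_sub, sub_eq_zero] at h3
      exact h3
  let φ : ∀ n : MaximalSpectrum S,
      Localization.AtPrime n.asIdeal ≃ₐ[S] (S ⧸ Ideal.span {1 - e n}) := fun n =>
    haveI := hisloc n
    IsLocalization.algEquiv n.asIdeal.primeCompl _ _
  refine ⟨inferInstance, ?_, fun m => ⟨?_, ?_⟩⟩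
  · have hbij := he.bijective_pi
    let Φ : (∀ n : MaximalSpectrum S, S ⧸ Ideal.span {1 - e n}) ≃+*
        (∀ n : MaximalSpectrum S, Localization.AtPrime n.asIdeal) :=
      RingEquiv.piCongrRight fun n => (φ n).symm.toRingEquiv
    have hcomp : (algebraMap S ((m : MaximalSpectrum S) → Localization.AtPrime m.asIdeal) : S → _) =
        Φ ∘ (RingHom.pi fun i => Ideal.Quotient.mk (Ideal.span {1 - e i})) := by
      funext x
      funext n
      simp only [Function.comp_apply, Φ, RingEquiv.piCongrRight_apply, RingHom.pi_apply,
        Pi.algebraMap_apply]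
      exact ((φ n).symm.commutes x).symm
    rw [hcomp]
    exact Φ.bijective.comp hbij
  · exact IsLocalization.isNoetherianRing m.asIdeal.primeCompl _ inferInstance
  · haveI : IsAdicComplete (IsLocalRing.maximalIdeal (S ⧸ Ideal.span {1 - e m}))
        (S ⧸ Ideal.span {1 - e m}) :=
      Groth.Agent.Helper5.FinComplete.isAdicComplete_maximalIdeal_of_finite R _
    have hmap : (IsLocalRing.maximalIdeal (S ⧸ Ideal.span {1 - e m})).map
        (φ m).symm.toRingEquiv = IsLocalRing.maximalIdeal (Localization.AtPrime m.asIdeal) := by
      haveI : ((IsLocalRing.maximalIdeal (S ⧸ Ideal.span {1 - e m})).map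
          (φ m).symm.toRingEquiv).IsMaximal := Ideal.map_isMaximal_of_equiv _
      exact IsLocalRing.eq_maximalIdeal inferInstance
    rw [← hmap]
    exact (IsAdicComplete.congr_ringEquiv _ (φ m).symm.toRingEquiv).mpr inferInstance

end Groth.Agent.S9405
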