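import Groth.Statements.S9409
import Mathlib
import Groth.Agent.Lib.Helper14.FieldDescent
-- import your own Groth.Agent.* helpers here

set_option autoImplicit false
universe u
open CAlg

namespace Groth.Agent.S9409

/-- Let k be a field written as a directed union of subfields k_i (given as fields mapping to k whose
images form a directed family covering k) and A a Noetherian k-algebra. Geometric regularity of A
over every one of the k_i implies that A is also geometrically regular as a k-algebra. -/
theorem result (k : Type u) [Field k] {ι : Type u}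
    (K : ι → Type u) [∀ i, Field (K i)] [∀ i, Algebra (K i) k]
    (hdir : ∀ i j, ∃ l, Set.range (algebraMap (K i) k) ⊆ Set.range (algebraMap (K l) k) ∧
      Set.range (algebraMap (K j) k) ⊆ Set.range (algebraMap (K l) k))
    (hcov : ∀ x : k, ∃ i, x ∈ Set.range (algebraMap (K i) k))
    (A : Type u) [CommRing A] [Algebra k A] [IsNoetherianRing A] [∀ i, Algebra (K i) A]
    [∀ i, IsScalarTower (K i) k A] (h : ∀ i, CAlg.IsGeometricallyRegular (K i) A) :
    CAlg.IsGeometricallyRegular k A := by
  intro k' _ _ hfin
  haveI := hfin
  classical
  let b : Module.Basis (Fin (Module.finrank k k')) k k' := Module.finBasis k k'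
  have hfinset : ∀ s : Finset k, ∃ i, ∀ x ∈ s, x ∈ Set.range (algebraMap (K i) k) := by
    intro s
    induction s using Finset.induction_on with
    | empty =>
      obtain ⟨i, _⟩ := hcov 0
      exact ⟨i, by simp⟩
    | insert x s hx ih =>
      obtain ⟨i, hi⟩ := ih
      obtain ⟨j, hj⟩ := hcov x
      obtain ⟨l, hl1, hl2⟩ := hdir i j
      refine ⟨l, ?_⟩
      intro y hy
      rw [Finset.mem_insert] at hy
      rcases hy with rfl | hy
      · exact hl2 hj
      · exact hl1 (hi y hy)
  let s : Finset k := (Finset.univ.image (fun a => b.repr 1 a)) ∪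
    (Finset.univ.image (fun t : Fin (Module.finrank k k') × Fin (Module.finrank k k') ×
      Fin (Module.finrank k k') => b.repr (b t.1 * b t.2.1) t.2.2))
  obtain ⟨i, hi⟩ := hfinset s
  letI : Algebra (K i) k' := ((algebraMap k k').comp (algebraMap (K i) k)).toAlgebra
  haveI : IsScalarTower (K i) k k' := IsScalarTower.of_algebraMap_eq (fun x => rfl)
  obtain ⟨L, hL⟩ := Groth.Agent.Helper14.FieldDescent.exists_subalgebra (K i) k k' b
    (fun a => hi _ (by
      apply Finset.mem_union_left
      exact Finset.mem_image.mpr ⟨a, Finset.mem_univ _, rfl⟩))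
    (fun a a' c => hi _ (by
      apply Finset.mem_union_right
      exact Finset.mem_image.mpr ⟨(a, a', c), Finset.mem_univ _, rfl⟩))
  haveI : Module.Finite (K i) (Submodule.span (K i) (Set.range b)) :=
    Module.Finite.span_of_finite (K i) (Set.finite_range b)
  haveI hLfin : Module.Finite (K i) L := by
    have : Module.Finite (K i) (Subalgebra.toSubmodule L) := by rw [hL]; infer_instance
    exact this
  letI : Field L := fieldOfFiniteDimensional (K i) L
  have hb := Groth.Agent.Helper14.FieldDescent.bijective_lift (F := K i) (k := k) (k' := k')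
    (L := L) L.val b (by
      rw [← hL]
      ext x
      simp)
  have hreg : IsRegularRing (TensorProduct (K i) L A) := h i L hLfin
  exact @IsRegularRing.of_ringEquiv _ _ _ _
    (Groth.Agent.Helper14.FieldDescent.tensorEquiv A (AlgEquiv.ofBijective _ hb)).symm hreg

end Groth.Agent.S9409
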