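import Groth.Statements.S9410
import Mathlib
import Groth.Agent.Lib.Helper14.SepAlgInvar
-- import your own Groth.Agent.* helpers here

set_option autoImplicit false
universe u
open CAlg

namespace Groth.Agent.S9410

theorem hP_reg : ∀ (R R' : Type u) [CommRing R] [CommRing R'], (R ≃+* R') →
    IsRegularLocalRing R → IsRegularLocalRing R' := by
  intro R R' _ _ e h
  exact IsRegularLocalRing.of_ringEquiv e

open TensorProduct in
theorem noeth_aux (k A l : Type u) [Field k] [CommRing A] [Algebra k A] [IsNoetherianRing A]
    [Field l] [Algebra k l] [Module.Finite k l] : IsNoetherianRing (l ⊗[k] A) := by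
  haveI : IsNoetherianRing (A ⊗[k] l) := Algebra.FiniteType.isNoetherianRing A (A ⊗[k] l)
  exact isNoetherianRing_of_ringEquiv (A ⊗[k] l) (Algebra.TensorProduct.comm k A l).toRingEquiv

/-- Given a separable algebraic field extension k'/k and a Noetherian k'-algebra A, geometric regularity
of A over k' is equivalent to geometric regularity of A over k. -/
theorem result (k : Type u) [Field k] (k' : Type u)
    [Field k'] [Algebra k k'] [Algebra.IsSeparable k k'] (A : Type u) [CommRing A] [Algebra k' A]
    [Algebra k A] [IsScalarTower k k' A] [IsNoetherianRing A] :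
    CAlg.IsGeometricallyRegular k A ↔ CAlg.IsGeometricallyRegular k' A := by
  constructor
  · intro hk l _ _ hfin
    letI : Algebra k l := ((algebraMap k' l).comp (algebraMap k k')).toAlgebra
    haveI : IsScalarTower k k' l := IsScalarTower.of_algebraMap_eq (fun _ => rfl)
    haveI : IsNoetherianRing (TensorProduct k' l A) := noeth_aux k' A l
    have h1 := Groth.Agent.Helper14.SepAlgInvar.down_dir
      (P := fun R _ => IsRegularLocalRing R) hP_reg (k := k) (k' := k') (A := A) l
      (fun l₀ _ _ hf p _ => by
        haveI := hk l₀ hf
        exact IsRegularRing.isRegularLocalRing_localization p)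
    have h2 := Groth.Agent.Helper14.SepAlgInvar.locallyP_of_ringEquiv hP_reg
      (Algebra.TensorProduct.comm k' A l).toRingEquiv h1
    rw [isRegularRing_iff]
    exact h2
  · intro hk' l _ _ hfin
    haveI : IsNoetherianRing (TensorProduct k l A) := noeth_aux k A l
    rw [isRegularRing_iff]
    apply Groth.Agent.Helper14.SepAlgInvar.up_dir
      (P := fun R _ => IsRegularLocalRing R) hP_reg (k := k) (k' := k') (A := A) l
    intro D _ _ hDfin hD
    letI := hD.toField
    have h1 : IsRegularRing (TensorProduct k' D A) := hk' D hDfin
    have h2 : Groth.Agent.Helper14.SepAlgInvar.LocallyP (fun R _ => IsRegularLocalRing R)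
        (TensorProduct k' D A) := fun p _ => IsRegularRing.isRegularLocalRing_localization p
    exact Groth.Agent.Helper14.SepAlgInvar.locallyP_of_ringEquiv hP_reg
      (Algebra.TensorProduct.comm k' D A).toRingEquiv h2

end Groth.Agent.S9410
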