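import Groth.Statements.S9411
import Mathlib
import Groth.Agent.Lib.Helper14.SepAlgInvar
-- import your own Groth.Agent.* helpers here

set_option autoImplicit false
universe u
open EGA4

namespace Groth.Agent.S9411

open TensorProduct in
theorem hP_normal : ∀ (R R' : Type u) [CommRing R] [CommRing R'], (R ≃+* R') →
    (IsDomain R ∧ IsIntegrallyClosed R) → (IsDomain R' ∧ IsIntegrallyClosed R') := by
  intro R R' _ _ e ⟨h1, h2⟩
  exact ⟨e.symm.toMulEquiv.isDomain R, IsIntegrallyClosed.of_equiv e⟩

/-- Let k'/k be a separable algebraic field extension and A a k'-algebra. Geometric normality of A over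
k' is equivalent to geometric normality of A over k. -/
theorem result (k : Type u) [Field k] (k' : Type u) [Field k']
    [Algebra k k'] [Algebra.IsSeparable k k'] (A : Type u) [CommRing A] [Algebra k' A]
    [Algebra k A] [IsScalarTower k k' A] :
    EGA4.IsGeomNormal k A ↔ EGA4.IsGeomNormal k' A := by
  constructor
  · intro hk l _ _ hfin
    letI : Algebra k l := ((algebraMap k' l).comp (algebraMap k k')).toAlgebra
    haveI : IsScalarTower k k' l := IsScalarTower.of_algebraMap_eq (fun _ => rfl)
    have h1 := Groth.Agent.Helper14.SepAlgInvar.down_dir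
      (P := fun R _ => IsDomain R ∧ IsIntegrallyClosed R) hP_normal (k := k) (k' := k') (A := A) l
      (fun l₀ _ _ hf => hk l₀ hf)
    exact Groth.Agent.Helper14.SepAlgInvar.locallyP_of_ringEquiv hP_normal
      (Algebra.TensorProduct.comm k' A l).toRingEquiv h1
  · intro hk' l _ _ hfin
    apply Groth.Agent.Helper14.SepAlgInvar.up_dir
      (P := fun R _ => IsDomain R ∧ IsIntegrallyClosed R) hP_normal (k := k) (k' := k') (A := A) l
    intro D _ _ hDfin hD
    letI := hD.toField
    have h1 : EGA4.IsNormalRing (TensorProduct k' D A) := hk' D hDfin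
    exact Groth.Agent.Helper14.SepAlgInvar.locallyP_of_ringEquiv hP_normal
      (Algebra.TensorProduct.comm k' D A).toRingEquiv h1

end Groth.Agent.S9411
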