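import Groth.Statements.S9412
import Mathlib
-- import your own Groth.Agent.* helpers here

set_option autoImplicit false
universe u
open EGA4

namespace Groth.Agent.S9412

open TensorProduct

lemma isNormalRing_of_isLocalization {R R' : Type u} [CommRing R] [CommRing R'] [Algebra R R']
    (M : Submonoid R) [IsLocalization M R'] (h : EGA4.IsNormalRing R) : EGA4.IsNormalRing R' := by
  intro q hq
  have hp : (q.comap (algebraMap R R')).IsPrime := inferInstance
  have := IsLocalization.isLocalization_isLocalization_atPrime_isLocalization M
    (Localization.AtPrime q) q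
  let e : Localization.AtPrime (q.comap (algebraMap R R')) ≃ₐ[R] Localization.AtPrime q :=
    IsLocalization.algEquiv (q.comap (algebraMap R R')).primeCompl _ _
  obtain ⟨h1, h2⟩ := h (q.comap (algebraMap R R'))
  exact ⟨e.symm.toMulEquiv.isDomain _, IsIntegrallyClosed.of_equiv e.toRingEquiv⟩

/-- A localization of a geometrically normal algebra over a field k is geometrically normal over k. -/
theorem result (k : Type u) [Field k] (A : Type u) [CommRing A]
    [Algebra k A] (M : Submonoid A) (B : Type u) [CommRing B] [Algebra A B] [IsLocalization M B]
    [Algebra k B] [IsScalarTower k A B] (h : EGA4.IsGeomNormal k A) :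
    EGA4.IsGeomNormal k B := by
  intro k' _ _ hfin
  letI : Algebra (k' ⊗[k] A) (k' ⊗[k] B) :=
    (Algebra.TensorProduct.map (AlgHom.id k' k') (IsScalarTower.toAlgHom k A B)).toRingHom.toAlgebra
  have : IsScalarTower k' (k' ⊗[k] A) (k' ⊗[k] B) := by
    refine IsScalarTower.of_algebraMap_eq' ?_
    ext x
    simp [RingHom.algebraMap_toAlgebra]
  have := IsLocalization.tensorProduct_tensorProduct_right k k' M B (by
    ext x
    simp [RingHom.algebraMap_toAlgebra])
  exact isNormalRing_of_isLocalization (M.map (Algebra.TensorProduct.includeRight (R := k) (A := k'))) (h k' hfin)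

end Groth.Agent.S9412
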