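import Groth.Statements.S9414
import Mathlib
-- import your own Groth.Agent.* helpers here

set_option autoImplicit false
universe u
open CAlg

namespace Groth.Agent.S9414

lemma finrank_eq_of_bijective {k κ M : Type*} [Field k] [Field κ] [Algebra k κ] [AddCommGroup M]
    [Module k M] [Module κ M] [IsScalarTower k κ M] (h : Function.Bijective (algebraMap k κ)) :
    Module.finrank κ M = Module.finrank k M := by
  have h1 : Module.finrank k κ = 1 := by
    rw [← (LinearEquiv.ofBijective (Algebra.linearMap k κ) h).finrank_eq, Module.finrank_self]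
  rw [← Module.finrank_mul_finrank k κ M, h1, one_mul]

open TensorProduct in
/-- For an algebraically closed field k, a finite type k-algebra S and a maximal ideal m of S with
residue field κ = S/m, the κ-vector spaces κ ⊗_S Ω_{S/k} and m/m² have the same dimension. -/
theorem result (k : Type u) [Field k]
    [IsAlgClosed k] (S : Type u) [CommRing S] [Algebra k S] [Algebra.FiniteType k S]
    (m : Ideal S) [m.IsMaximal] :
    Module.finrank (S ⧸ m) ((S ⧸ m) ⊗[S] Ω[S⁄k]) = Module.finrank (S ⧸ m) m.Cotangent := by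
  classical
  letI : Field (S ⧸ m) := Ideal.Quotient.field m
  have hfin : Module.Finite k (S ⧸ m) := finite_of_finite_type_of_isJacobsonRing k (S ⧸ m)
  have hbij : Function.Bijective (algebraMap k (S ⧸ m)) :=
    IsAlgClosed.algebraMap_bijective_of_isIntegral
  have hsurj : Function.Surjective (algebraMap S (S ⧸ m)) := Ideal.Quotient.mk_surjective
  have hsub : Subsingleton (Ω[(S ⧸ m)⁄k]) :=
    KaehlerDifferential.subsingleton_of_surjective k (S ⧸ m) hbij.2
  have hex := KaehlerDifferential.exact_kerCotangentToTensor_mapBaseChange k S (S ⧸ m) hsurj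
  have hs : Function.Surjective (KaehlerDifferential.kerCotangentToTensor k S (S ⧸ m)) := by
    intro x
    exact (hex x).1 (Subsingleton.elim _ _)
  let e : k ≃ₐ[k] (S ⧸ m) := AlgEquiv.ofBijective (Algebra.ofId k _) hbij
  let g : (S ⧸ m) →ₐ[k] S ⧸ (RingHom.ker (algebraMap S (S ⧸ m)) ^ 2) :=
    (Algebra.ofId k _).comp e.symm.toAlgHom
  have hg : (IsScalarTower.toAlgHom k S (S ⧸ m)).kerSquareLift.comp g = AlgHom.id k (S ⧸ m) := by
    ext x
    obtain ⟨y, rfl⟩ := hbij.2 x
    simp
  obtain ⟨l, hl⟩ := (retractionKerCotangentToTensorEquivSection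
    (R := k) hsurj).symm ⟨g, hg⟩
  have hi : Function.Injective (KaehlerDifferential.kerCotangentToTensor k S (S ⧸ m)) :=
    Function.LeftInverse.injective (g := l) (fun x => LinearMap.congr_fun hl x)
  let E : (RingHom.ker (algebraMap S (S ⧸ m))).Cotangent ≃ₗ[S] (S ⧸ m) ⊗[S] Ω[S⁄k] :=
    LinearEquiv.ofBijective _ ⟨hi, hs⟩
  have hker : RingHom.ker (algebraMap S (S ⧸ m)) = m := Ideal.mk_ker
  let E2 : m.Cotangent ≃ₗ[S] (S ⧸ m) ⊗[S] Ω[S⁄k] :=
    (Ideal.Cotangent.equivOfEq _ _ hker.symm).trans E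
  have t1 : IsScalarTower k (S ⧸ m) m.Cotangent := by
    refine ⟨fun a b x => ?_⟩
    obtain ⟨s, rfl⟩ := Ideal.Quotient.mk_surjective b
    have h1 : ∀ (t : S) (y : m.Cotangent), (Ideal.Quotient.mk m t) • y = t • y := by
      intro t y
      rw [← Ideal.Quotient.algebraMap_eq, algebraMap_smul]
    have h2 : a • (Ideal.Quotient.mk m) s = Ideal.Quotient.mk m (a • s) := by
      rw [Algebra.smul_def, Algebra.smul_def, map_mul]; rfl
    rw [h2, h1, h1, smul_assoc]
  have t2 : IsScalarTower k (S ⧸ m) ((S ⧸ m) ⊗[S] Ω[S⁄k]) := inferInstance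
  rw [finrank_eq_of_bijective (M := m.Cotangent) hbij, finrank_eq_of_bijective
    (M := (S ⧸ m) ⊗[S] Ω[S⁄k]) hbij]
  exact ((E2.restrictScalars k).finrank_eq).symm

end Groth.Agent.S9414
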