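import Groth.Statements.S9416
import Mathlib
-- import your own Groth.Agent.* helpers here

set_option autoImplicit false
universe u
open CAlg

namespace Groth.Agent.S9416

section
open Polynomial

variable {K : Type u} [Field K] (p : ℕ) [Fact p.Prime] [CharP K p]

/-- `(P(x))^p = P^{(p)}(x^p)` in characteristic `p`. -/
lemma frob_pow {L : Type u} [Field L] [Algebra K L] (x : L) (a : K)
    (hx : x ^ p = algebraMap K L a) (P : K[X]) :
    (aeval x P) ^ p = algebraMap K L (eval a (P.map (frobenius K p))) := by
  rw [← map_pow, ← map_frobenius_expand, map_expand, expand_aeval, hx,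
    aeval_algebraMap_apply_eq_algebraMap_eval]

/-- derivation of a polynomial expression whose coefficients are killed. -/
lemma D_eval (D : Derivation ℤ K K) (a : K) (Q : K[X]) (hQ : ∀ j, D (Q.coeff j) = 0) :
    D (eval a Q) = eval a (derivative Q) * D a := by
  rw [derivative_eval, eval_eq_sum, Polynomial.sum, Polynomial.sum, map_sum, Finset.sum_mul]
  refine Finset.sum_congr rfl fun j _ => ?_
  rw [Derivation.leibniz, hQ j, smul_zero, add_zero, Derivation.leibniz_pow]
  simp only [smul_eq_mul, nsmul_eq_mul]
  ring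

lemma exists_natCast_mul_eq_one (n : ℕ) (hn0 : 0 < n) (hn : n < p) :
    ∃ m : ℕ, (m : K) * (n : K) = 1 := by
  have hne : (n : ZMod p) ≠ 0 := by
    rw [Ne, ZMod.natCast_eq_zero_iff]; exact Nat.not_dvd_of_pos_of_lt hn0 hn
  refine ⟨((n : ZMod p)⁻¹).val, ?_⟩
  have h1 : (((((n : ZMod p)⁻¹).val * n : ℕ)) : ZMod p) = ((1 : ℕ) : ZMod p) := by
    push_cast; rw [ZMod.natCast_zmod_val]; exact inv_mul_cancel₀ hne
  have h2 := (CharP.natCast_eq_natCast K p).mpr ((ZMod.natCast_eq_natCast_iff _ _ _).mp h1)
  simpa using h2

section claim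
variable {R : Type u} [CommRing R] [IsDomain R] [IsIntegrallyClosed R] [Algebra R K]
  [IsFractionRing R K] {L : Type u} [Field L] [Algebra K L] [Algebra R L] [IsScalarTower R K L]

omit [Fact (Nat.Prime p)] [CharP K p] in
lemma F1 (c : K) : IsIntegral R (algebraMap K L c) ↔ c ∈ (algebraMap R K).range := by
  rw [isIntegral_algebraMap_iff (algebraMap K L).injective, IsIntegrallyClosed.isIntegral_iff]
  rfl

omit [Fact (Nat.Prime p)] [CharP K p] [IsDomain R] [IsIntegrallyClosed R] [IsFractionRing R K] in
lemma F3 (x : L) (hx : IsIntegral R x) (W : K[X]) (hW : ∀ j, W.coeff j ∈ (algebraMap R K).range) :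
    IsIntegral R (aeval x W) := by
  have : W ∈ Polynomial.lifts (algebraMap R K) := by
    rw [Polynomial.lifts_iff_coeff_lifts]; exact hW
  obtain ⟨W₀, rfl⟩ := this
  change IsIntegral R (aeval x (W₀.map (algebraMap R K)))
  rw [Polynomial.aeval_map_algebraMap]
  have := (aeval (⟨x, hx⟩ : integralClosure R L) W₀).2
  rwa [Polynomial.aeval_subalgebra_coe] at this

lemma claim (D : Derivation ℤ K K)
    (hD : ∀ r : R, ∃ s : R, D (algebraMap R K r) = algebraMap R K s)
    (x : L) (a₀ δ : R) (hx : x ^ p = algebraMap K L (algebraMap R K a₀))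
    (hDa : D (algebraMap R K a₀) = algebraMap R K δ) (i : ℕ) (hi : i < p) :
    ∀ P : K[X], P.natDegree ≤ i → IsIntegral R (aeval x P) →
      ∀ j, (algebraMap R K δ) ^ i * P.coeff j ∈ (algebraMap R K).range := by
  have hp : p.Prime := Fact.out
  haveI : CharP L p := charP_of_injective_algebraMap (algebraMap K L).injective p
  set S := (algebraMap R K).range with hS
  set a := algebraMap R K a₀ with ha
  set δK := algebraMap R K δ with hδK
  have hδS : δK ∈ S := ⟨δ, rfl⟩
  have hxint : IsIntegral R x := by
    apply IsIntegral.of_pow hp.pos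
    rw [hx, ← IsScalarTower.algebraMap_apply]
    exact isIntegral_algebraMap
  induction i with
  | zero =>
    intro P hP hint j
    rw [Polynomial.eq_C_of_natDegree_le_zero hP] at hint ⊢
    rw [aeval_C, F1] at hint
    rw [pow_zero, one_mul, coeff_C]
    split_ifs
    · exact hint
    · exact S.zero_mem
  | succ i IH =>
    intro P hP hint
    have IH' := IH (by omega)
    -- z
    set Q := P.map (frobenius K p) with hQ
    set z := eval a Q with hz
    have hzS : z ∈ S := by
      rw [← F1 (L := L), ← frob_pow p x a hx P]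
      exact hint.pow p
    have hQcoeff : ∀ j, D (Q.coeff j) = 0 := by
      intro j
      rw [hQ, coeff_map, frobenius_def, Derivation.leibniz_pow]
      simp [nsmul_eq_mul]
    have hDz : D z = eval a (derivative Q) * δK := by
      rw [hz, D_eval D a Q hQcoeff, hDa]
    have hDzS : D z ∈ S := by
      obtain ⟨r, hr⟩ := hzS
      obtain ⟨s, hs⟩ := hD r
      exact ⟨s, by rw [← hs, hr]⟩
    -- P₁
    set P₁ := C δK * derivative P with hP₁
    have hP₁deg : P₁.natDegree ≤ i := by
      refine le_trans (natDegree_C_mul_le _ _) ?_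
      have := natDegree_derivative_le P
      omega
    have hP₁int : IsIntegral R (aeval x P₁) := by
      apply IsIntegral.of_pow hp.pos
      rw [frob_pow p x a hx P₁, F1]
      have : eval a (P₁.map (frobenius K p)) = δK ^ (p - 1) * D z := by
        rw [hDz, hP₁, Polynomial.map_mul, map_C, ← derivative_map, ← hQ, eval_mul, eval_C,
          frobenius_def]
        have : δK ^ p = δK ^ (p - 1) * δK := by
          rw [← pow_succ]; congr 1; have := hp.pos; omega
        rw [this]; ring
      rw [this]
      exact S.mul_mem (S.pow_mem hδS _) hDzS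
    have hc := IH' P₁ hP₁deg hP₁int
    have hpos : ∀ j, δK ^ (i + 1) * P.coeff (j + 1) ∈ S := by
      intro j
      by_cases hj : j + 1 ≤ i + 1
      · have h1 := hc j
        rw [hP₁, coeff_C_mul, coeff_derivative] at h1
        obtain ⟨m, hm⟩ := exists_natCast_mul_eq_one (K := K) p (j + 1) (by omega) (by omega)
        have h2 : δK ^ (i + 1) * P.coeff (j + 1) =
            (m : K) * (δK ^ i * (δK * (P.coeff (j + 1) * ((j : K) + 1)))) := by
          have hm' : (m : K) * ((j : K) + 1) = 1 := by exact_mod_cast hm
          calc δK ^ (i + 1) * P.coeff (j + 1)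
              = (δK ^ (i + 1) * P.coeff (j + 1)) * ((m : K) * ((j : K) + 1)) := by
                rw [hm', mul_one]
            _ = _ := by ring
        rw [h2]
        exact S.mul_mem (natCast_mem S m) h1
      · rw [coeff_eq_zero_of_natDegree_lt (by omega), mul_zero]
        exact S.zero_mem
    intro j
    rcases j with _ | j
    · -- the constant coefficient
      rw [← F1 (L := L)]
      have hdecomp : aeval x P = aeval x (divX P) * x + algebraMap K L (P.coeff 0) := by
        conv_lhs => rw [← divX_mul_X_add P]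
        simp
      set W := C (δK ^ (i + 1)) * divX P with hW
      have hWint : IsIntegral R (aeval x W) := by
        apply F3 x hxint
        intro j
        rw [hW, coeff_C_mul, coeff_divX]
        exact hpos j
      have : algebraMap K L (δK ^ (i + 1) * P.coeff 0) =
          algebraMap R L (δ ^ (i + 1)) * aeval x P - aeval x W * x := by
        have e1 : aeval x W = algebraMap K L (δK ^ (i + 1)) * aeval x (divX P) := by
          rw [hW, map_mul, aeval_C]
        have e2 : algebraMap K L (δK ^ (i + 1)) = algebraMap R L (δ ^ (i + 1)) := by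
          rw [hδK, ← map_pow, ← IsScalarTower.algebraMap_apply]
        rw [hdecomp, e1, map_mul, e2]
        ring
      rw [this]
      exact (isIntegral_algebraMap.mul hint).sub (hWint.mul hxint)
    · exact hpos j

end claim

section aux
variable {R : Type u} [CommRing R] [IsDomain R] [IsNoetherianRing R] [IsIntegrallyClosed R]
  [Algebra R K] [IsFractionRing R K] {L : Type u} [Field L] [Algebra K L] [Algebra R L]
  [IsScalarTower R K L]

lemma aux (D : Derivation ℤ K K)
    (hD : ∀ r : R, ∃ s : R, D (algebraMap R K r) = algebraMap R K s)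
    (x : L) (a₀ δ : R) (hx : x ^ p = algebraMap K L (algebraMap R K a₀))
    (hDa : D (algebraMap R K a₀) = algebraMap R K δ) (hδ : δ ≠ 0)
    (hgen : ∀ y : L, ∃ P : K[X], P.natDegree < p ∧ aeval x P = y) :
    Module.Finite R (integralClosure R L) := by
  have hp : p.Prime := Fact.out
  set δK := algebraMap R K δ with hδK
  have hδK0 : δK ≠ 0 := by
    rw [hδK, Ne, map_eq_zero_iff _ (IsFractionRing.injective R K)]; exact hδ
  set N : Submodule R L := Submodule.span R
    (Set.range (fun j : Fin p => algebraMap K L (δK⁻¹ ^ (p - 1)) * x ^ (j : ℕ))) with hN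
  have hle : Subalgebra.toSubmodule (integralClosure R L) ≤ N := by
    intro y hy
    have hy' : IsIntegral R y := hy
    obtain ⟨P, hPdeg, rfl⟩ := hgen y
    have hc := claim p D hD x a₀ δ hx hDa (p - 1) (by have := hp.pos; omega) P (by omega) hy'
    rw [aeval_eq_sum_range' hPdeg]
    refine Submodule.sum_mem _ fun j hj => ?_
    rw [Finset.mem_range] at hj
    obtain ⟨r, hr⟩ := hc j
    have hcoeff : P.coeff j = δK⁻¹ ^ (p - 1) * algebraMap R K r := by
      rw [hr, inv_pow, ← mul_assoc, inv_mul_cancel₀ (pow_ne_zero _ hδK0), one_mul]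
    have : P.coeff j • x ^ j = r • (algebraMap K L (δK⁻¹ ^ (p - 1)) * x ^ ((⟨j, hj⟩ : Fin p) : ℕ)) := by
      rw [hcoeff, Algebra.smul_def, Algebra.smul_def, map_mul, ← IsScalarTower.algebraMap_apply]
      ring
    rw [this]
    exact Submodule.smul_mem _ _ (Submodule.subset_span ⟨⟨j, hj⟩, rfl⟩)
  haveI : IsNoetherian R N := isNoetherian_span_of_finite R (Set.finite_range _)
  haveI : IsNoetherian R (Subalgebra.toSubmodule (integralClosure R L)) := isNoetherian_of_le hle
  exact (inferInstance : Module.Finite R (Subalgebra.toSubmodule (integralClosure R L)))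

end aux

theorem main (R : Type u) [CommRing R]
    [IsDomain R] [IsNoetherianRing R] [IsIntegrallyClosed R] (K : Type u) [Field K] [Algebra R K]
    [IsFractionRing R K] (p : ℕ) [Fact p.Prime] [CharP K p] (D : Derivation ℤ K K)
    (hD : ∀ r : R, ∃ s : R, D (algebraMap R K r) = algebraMap R K s) (a : K) (ha : D a ≠ 0)
    (L : Type u) [Field L] [Algebra K L] [Algebra R L] [IsScalarTower R K L] (x : L)
    (hx : x ^ p = algebraMap K L a) (hgen : IntermediateField.adjoin K {x} = ⊤) :
    Module.Finite R (integralClosure R L) := by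
  have hp : p.Prime := Fact.out
  obtain ⟨b, f, hf, hab⟩ := IsFractionRing.div_surjective (A := R) a
  set fK := algebraMap R K f with hfK
  have hfK0 : fK ≠ 0 := by
    rw [hfK, Ne, map_eq_zero_iff _ (IsFractionRing.injective R K)]
    exact nonZeroDivisors.ne_zero hf
  set a₀ : R := f ^ (p - 1) * b with ha₀
  have ha₀' : algebraMap R K a₀ = fK ^ p * a := by
    rw [ha₀, map_mul, map_pow, ← hab, ← hfK]
    have : fK ^ p = fK ^ (p - 1) * fK := by
      rw [← pow_succ]; congr 1; have := hp.pos; omega
    rw [this]
    field_simp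
  set x' : L := algebraMap K L fK * x with hx'
  have hx'p : x' ^ p = algebraMap K L (algebraMap R K a₀) := by
    rw [hx', mul_pow, hx, ha₀', map_mul, map_pow]
  have hDfp : D (fK ^ p) = 0 := by
    rw [Derivation.leibniz_pow]
    simp [nsmul_eq_mul]
  have hDa₀ : D (algebraMap R K a₀) = fK ^ p * D a := by
    rw [ha₀', Derivation.leibniz, hDfp, smul_zero, add_zero, smul_eq_mul]
  obtain ⟨δ, hδ⟩ := hD a₀
  have hδ0 : δ ≠ 0 := by
    rintro rfl
    rw [map_zero, hDa₀] at hδ
    exact (mul_ne_zero (pow_ne_zero _ hfK0) ha) hδ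
  refine aux p D hD x' a₀ δ hx'p hδ hδ0 ?_
  intro y
  -- `x` is algebraic
  have hxalg : IsAlgebraic K x := by
    refine ⟨X ^ p - C a, ?_, by simp [hx]⟩
    exact (monic_X_pow_sub_C a hp.ne_zero).ne_zero
  have htop : Algebra.adjoin K {x} = ⊤ := by
    rw [← IntermediateField.adjoin_simple_toSubalgebra_of_isAlgebraic hxalg, hgen]
    rfl
  have hy : y ∈ Algebra.adjoin K {x} := by rw [htop]; trivial
  rw [Algebra.adjoin_singleton_eq_range_aeval] at hy
  obtain ⟨P₀, rfl⟩ := hy
  set P₁ := P₀.comp (C fK⁻¹ * X) with hP₁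
  have hP₁x : aeval x' P₁ = aeval x P₀ := by
    rw [hP₁, aeval_comp]
    congr 1
    rw [map_mul, aeval_C, aeval_X, hx', ← mul_assoc, ← map_mul, inv_mul_cancel₀ hfK0, map_one,
      one_mul]
  set q : K[X] := X ^ p - C (algebraMap R K a₀) with hq
  have hqm : q.Monic := monic_X_pow_sub_C _ hp.ne_zero
  have hqdeg : q.natDegree = p := natDegree_X_pow_sub_C
  have hq1 : q ≠ 1 := by
    intro h
    have := congrArg natDegree h
    rw [hqdeg, natDegree_one] at this
    exact hp.ne_zero this
  have hqx : aeval x' q = 0 := by simp [hq, hx'p]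
  refine ⟨P₁ %ₘ q, ?_, ?_⟩
  · have := natDegree_modByMonic_lt P₁ hqm hq1
    rwa [hqdeg] at this
  · rw [aeval_modByMonic_eq_self_of_root hqx, hP₁x]
    rfl

end

/-- Suppose R is a normal Noetherian domain whose field of fractions K has prime characteristic p > 0, D
a derivation of K preserving R, and a ∈ K with D(a) ≠ 0. For a field L generated over K by an
element x with x^p = a, the integral closure of R in L is module-finite over R. -/
theorem result (R : Type u) [CommRing R]
    [IsDomain R] [IsNoetherianRing R] [IsIntegrallyClosed R] (K : Type u) [Field K] [Algebra R K]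
    [IsFractionRing R K] (p : ℕ) [Fact p.Prime] [CharP K p] (D : Derivation ℤ K K)
    (hD : ∀ r : R, ∃ s : R, D (algebraMap R K r) = algebraMap R K s) (a : K) (ha : D a ≠ 0)
    (L : Type u) [Field L] [Algebra K L] [Algebra R L] [IsScalarTower R K L] (x : L)
    (hx : x ^ p = algebraMap K L a) (hgen : IntermediateField.adjoin K {x} = ⊤) :
    Module.Finite R (integralClosure R L) := by
  exact Groth.Agent.S9416.main R K p D hD a ha L x hx hgen

end Groth.Agent.S9416
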