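import Groth.Statements.S9425
-- import your own Groth.Agent.* helpers here

set_option autoImplicit false
universe u
open CAlg

namespace Groth.Agent.S9425

theorem colim_desc {ι : Type u} [Preorder ι] [IsDirected ι (· ≤ ·)] [Nonempty ι]
    (R : Type u) [CommRing R] (G : ι → Type u) [∀ i, CommRing (G i)] [∀ i, Algebra R (G i)]
    (f : ∀ i j, i ≤ j → (G i →ₐ[R] G j)) (S : Type u) [CommRing S] [Algebra R S]
    (g : ∀ i, G i →ₐ[R] S) (hg : ∀ i j (h : i ≤ j), (g j).comp (f i j h) = g i)
    (hsurj : ∀ s : S, ∃ i, ∃ x : G i, g i x = s)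
    (hker : ∀ i (x : G i), g i x = 0 → ∃ j, ∃ h : i ≤ j, f i j h x = 0)
    {B : Type u} [CommRing B] [Algebra R B] (v : ∀ i, G i →ₐ[R] B)
    (hv : ∀ i j (h : i ≤ j), (v j).comp (f i j h) = v i) :
    ∃ w : S →ₐ[R] B, ∀ i, w.comp (g i) = v i := by
  classical
  have hg' : ∀ i j (h : i ≤ j) (x : G i), g j (f i j h x) = g i x := fun i j h x =>
    DFunLike.congr_fun (hg i j h) x
  have hv' : ∀ i j (h : i ≤ j) (x : G i), v j (f i j h x) = v i x := fun i j h x =>
    DFunLike.congr_fun (hv i j h) x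
  have key : ∀ i j (x : G i) (y : G j), g i x = g j y → v i x = v j y := by
    intro i j x y hxy
    obtain ⟨k, hik, hjk⟩ := exists_ge_ge i j
    have h0 : g k (f i k hik x - f j k hjk y) = 0 := by
      rw [map_sub, hg', hg', hxy, sub_self]
    obtain ⟨l, hkl, hl⟩ := hker k _ h0
    rw [map_sub, sub_eq_zero] at hl
    have := congrArg (v l) hl
    rw [hv', hv', hv', hv'] at this
    exact this
  have hpair : ∀ s t : S, ∃ k, ∃ x y : G k, g k x = s ∧ g k y = t := by
    intro s t
    obtain ⟨i, x, rfl⟩ := hsurj s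
    obtain ⟨j, y, rfl⟩ := hsurj t
    obtain ⟨k, hik, hjk⟩ := exists_ge_ge i j
    exact ⟨k, f i k hik x, f j k hjk y, hg' _ _ _ _, hg' _ _ _ _⟩
  choose idx elt helt using hsurj
  let w : S → B := fun s => v (idx s) (elt s)
  have hw : ∀ i (x : G i), w (g i x) = v i x := fun i x => key _ _ _ _ (helt (g i x))
  obtain ⟨i0⟩ := ‹Nonempty ι›
  refine ⟨{ toFun := w, map_one' := ?_, map_mul' := ?_, map_zero' := ?_, map_add' := ?_, commutes' := ?_ }, ?_⟩
  · rw [← map_one (g i0), hw, map_one]
  · intro s t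
    obtain ⟨k, x, y, rfl, rfl⟩ := hpair s t
    rw [← map_mul, hw, hw, hw, map_mul]
  · rw [← map_zero (g i0), hw, map_zero]
  · intro s t
    obtain ⟨k, x, y, rfl, rfl⟩ := hpair s t
    rw [← map_add, hw, hw, hw, map_add]
  · intro r
    show w (algebraMap R S r) = algebraMap R B r
    rw [← (g i0).commutes r, hw, (v i0).commutes]
  · intro i
    ext x
    exact hw i x

/-- A directed colimit of formally étale R-algebras is formally étale over R. The colimit is encoded by
compatible R-algebra maps S_i → S which are jointly surjective and whose kernels die further along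
the system. -/
theorem result {ι : Type u} [Preorder ι] [IsDirected ι (· ≤ ·)] [Nonempty ι]
    (R : Type u) [CommRing R] (G : ι → Type u) [∀ i, CommRing (G i)] [∀ i, Algebra R (G i)]
    (f : ∀ i j, i ≤ j → (G i →ₐ[R] G j)) (S : Type u) [CommRing S] [Algebra R S]
    (g : ∀ i, G i →ₐ[R] S) (hg : ∀ i j (h : i ≤ j), (g j).comp (f i j h) = g i)
    (hsurj : ∀ s : S, ∃ i, ∃ x : G i, g i x = s)
    (hker : ∀ i (x : G i), g i x = 0 → ∃ j, ∃ h : i ≤ j, f i j h x = 0)
    (h : ∀ i, Algebra.FormallyEtale R (G i)) : Algebra.FormallyEtale R S := by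
  classical
  rw [Algebra.FormallyEtale.iff_comp_bijective]
  intro B _ _ I hI
  have hg' : ∀ i j (h : i ≤ j) (x : G i), g j (f i j h x) = g i x := fun i j h x =>
    DFunLike.congr_fun (hg i j h) x
  constructor
  · intro w w' hww
    have hcomp : ∀ i, w.comp (g i) = w'.comp (g i) := by
      intro i
      apply (Algebra.FormallyEtale.comp_bijective R (G i) I hI).1
      show (Ideal.Quotient.mkₐ R I).comp (w.comp (g i)) = (Ideal.Quotient.mkₐ R I).comp (w'.comp (g i))
      rw [← AlgHom.comp_assoc, ← AlgHom.comp_assoc]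
      exact congrArg (fun z => z.comp (g i)) hww
    ext s
    obtain ⟨i, x, rfl⟩ := hsurj s
    exact DFunLike.congr_fun (hcomp i) x
  · intro u
    have hex : ∀ i, ∃ vi : G i →ₐ[R] B, (Ideal.Quotient.mkₐ R I).comp vi = u.comp (g i) := fun i =>
      (Algebra.FormallyEtale.comp_bijective R (G i) I hI).2 (u.comp (g i))
    choose v hv using hex
    have hcompat : ∀ i j (h : i ≤ j), (v j).comp (f i j h) = v i := by
      intro i j h
      apply (Algebra.FormallyEtale.comp_bijective R (G i) I hI).1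
      show (Ideal.Quotient.mkₐ R I).comp ((v j).comp (f i j h)) = (Ideal.Quotient.mkₐ R I).comp (v i)
      rw [← AlgHom.comp_assoc, hv, hv, AlgHom.comp_assoc, hg]
    obtain ⟨w, hw⟩ := colim_desc R G f S g hg hsurj hker v hcompat
    refine ⟨w, ?_⟩
    ext s
    obtain ⟨i, x, rfl⟩ := hsurj s
    have h1 : w (g i x) = v i x := DFunLike.congr_fun (hw i) x
    have h2 := DFunLike.congr_fun (hv i) x
    show (Ideal.Quotient.mkₐ R I) (w (g i x)) = u (g i x)
    rw [h1]
    exact h2

end Groth.Agent.S9425
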