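import Groth.Statements.S9428
import Mathlib.RingTheory.Etale.Basic
import Mathlib.RingTheory.Smooth.Basic
import Mathlib.RingTheory.Unramified.Basic
-- import your own Groth.Agent.* helpers here

set_option autoImplicit false
universe u
open CAlg

namespace Groth.Agent.S9428

/-- If R → S is formally étale and J ⊆ S is an ideal with R → S/J surjective, I ⊆ R its kernel (the
preimage of J), then R/I^n → S/J^n is bijective for all n. (The published statement adds that the
associated graded rings are then isomorphic, which follows from these bijections.) -/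
theorem result (R : Type u) [CommRing R] (S : Type u)
    [CommRing S] [Algebra R S] [Algebra.FormallyEtale R S] (J : Ideal S)
    (hJ : Function.Surjective (algebraMap R (S ⧸ J))) (n : ℕ) :
    Function.Bijective (Ideal.quotientMap (J ^ n) (algebraMap R S)
      (le_of_le_of_eq (Ideal.le_comap_pow (algebraMap R S) n) rfl :
        (J.comap (algebraMap R S)) ^ n ≤ (J ^ n).comap (algebraMap R S))) := by
  classical
  set I : Ideal R := J.comap (algebraMap R S) with hI
  set q := Ideal.quotientMap (J ^ n) (algebraMap R S)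
      (le_of_le_of_eq (Ideal.le_comap_pow (algebraMap R S) n) rfl :
        (J.comap (algebraMap R S)) ^ n ≤ (J ^ n).comap (algebraMap R S)) with hq
  have hq_mk : ∀ r : R, q (Ideal.Quotient.mk (I ^ n) r) = Ideal.Quotient.mk (J ^ n) (algebraMap R S r) :=
    fun r => Ideal.quotientMap_mk
  rcases Nat.eq_zero_or_pos n with hn | hn
  · subst hn
    haveI : Subsingleton (R ⧸ I ^ 0) := by
      rw [pow_zero, Ideal.one_eq_top]; exact Ideal.Quotient.subsingleton_iff.2 rfl
    haveI : Subsingleton (S ⧸ J ^ 0) := by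
      rw [pow_zero, Ideal.one_eq_top]; exact Ideal.Quotient.subsingleton_iff.2 rfl
    exact ⟨fun a b _ => Subsingleton.elim _ _, fun y => ⟨0, Subsingleton.elim _ _⟩⟩
  -- π : R / I^n → S / J
  have hIn : I ^ n ≤ I := Ideal.pow_le_self (by omega)
  let π : (R ⧸ I ^ n) →ₐ[R] (S ⧸ J) := Ideal.Quotient.liftₐ (I ^ n) (Algebra.ofId R (S ⧸ J)) (by
    intro a ha
    have h1 : a ∈ I := hIn ha
    show algebraMap R (S ⧸ J) a = 0
    rw [IsScalarTower.algebraMap_apply R S (S ⧸ J)]
    exact Ideal.Quotient.eq_zero_iff_mem.2 h1)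
  have hπ_mk : ∀ r : R, π (Ideal.Quotient.mk (I ^ n) r) = Ideal.Quotient.mk J (algebraMap R S r) := by
    intro r
    show algebraMap R (S ⧸ J) r = _
    rw [IsScalarTower.algebraMap_apply R S (S ⧸ J)]
    rfl
  have hπ_surj : Function.Surjective π := by
    intro y
    obtain ⟨r, rfl⟩ := hJ y
    exact ⟨Ideal.Quotient.mk (I ^ n) r, rfl⟩
  have hπ_ker : RingHom.ker (π : (R ⧸ I ^ n) →+* (S ⧸ J)) = I.map (Ideal.Quotient.mk (I ^ n)) := by
    ext x
    obtain ⟨r, rfl⟩ := Ideal.Quotient.mk_surjective x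
    rw [RingHom.mem_ker]
    show π (Ideal.Quotient.mk (I ^ n) r) = 0 ↔ _
    rw [hπ_mk, Ideal.Quotient.eq_zero_iff_mem]
    constructor
    · intro h; exact Ideal.mem_map_of_mem _ h
    · intro h
      rw [Ideal.mem_map_iff_of_surjective _ Ideal.Quotient.mk_surjective] at h
      obtain ⟨r', hr', e⟩ := h
      have h2 : r' - r ∈ I ^ n := (Ideal.Quotient.eq).1 e
      have h3 : r = r' - (r' - r) := by ring
      show r ∈ I
      rw [h3]
      exact I.sub_mem hr' (hIn h2)
  have hπ_nil : IsNilpotent (RingHom.ker (π : (R ⧸ I ^ n) →+* (S ⧸ J))) := by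
    rw [hπ_ker]
    refine ⟨n, ?_⟩
    rw [← Ideal.map_pow, Ideal.zero_eq_bot, Ideal.map_quotient_self]
  let ψ : S →ₐ[R] (R ⧸ I ^ n) :=
    Algebra.FormallySmooth.liftOfSurjective (Ideal.Quotient.mkₐ R J) π hπ_surj hπ_nil
  have hψ : ∀ s : S, π (ψ s) = Ideal.Quotient.mk J s := fun s =>
    Algebra.FormallySmooth.liftOfSurjective_apply (Ideal.Quotient.mkₐ R J) π hπ_surj hπ_nil s
  have hψJ : ∀ s ∈ J, ψ s ∈ I.map (Ideal.Quotient.mk (I ^ n)) := by
    intro s hs
    rw [← hπ_ker, RingHom.mem_ker]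
    show π (ψ s) = 0
    rw [hψ, Ideal.Quotient.eq_zero_iff_mem]
    exact hs
  have hψJn : ∀ s ∈ J ^ n, ψ s = 0 := by
    intro s hs
    have h1 : ψ s ∈ (J ^ n).map (ψ : S →+* (R ⧸ I ^ n)) := Ideal.mem_map_of_mem _ hs
    rw [Ideal.map_pow] at h1
    have h2 : J.map (ψ : S →+* (R ⧸ I ^ n)) ≤ I.map (Ideal.Quotient.mk (I ^ n)) := by
      rw [Ideal.map_le_iff_le_comap]
      intro s hs
      exact hψJ s hs
    have h3 := Ideal.pow_right_mono h2 n h1
    rw [← Ideal.map_pow, Ideal.map_quotient_self] at h3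
    exact h3
  let ψbar : (S ⧸ J ^ n) →ₐ[R] (R ⧸ I ^ n) := Ideal.Quotient.liftₐ (J ^ n) ψ hψJn
  have hψbar_mk : ∀ s : S, ψbar (Ideal.Quotient.mk (J ^ n) s) = ψ s := fun s => rfl
  -- q as an algebra map
  let qa : (R ⧸ I ^ n) →ₐ[R] (S ⧸ J ^ n) :=
    { q with
      commutes' := fun r => by
        show q (Ideal.Quotient.mk (I ^ n) r) = _
        rw [hq_mk]
        rfl }
  have hqa : ∀ x, qa x = q x := fun x => rfl
  -- left inverse
  have hleft : ∀ x, ψbar (q x) = x := by
    intro x
    obtain ⟨r, rfl⟩ := Ideal.Quotient.mk_surjective x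
    rw [hq_mk, hψbar_mk]
    have := ψ.commutes r
    rw [this]
    rfl
  -- right inverse via formal unramifiedness
  have hN : IsNilpotent (J.map (Ideal.Quotient.mk (J ^ n))) := by
    refine ⟨n, ?_⟩
    rw [← Ideal.map_pow, Ideal.zero_eq_bot, Ideal.map_quotient_self]
  have heq : qa.comp ψ = Ideal.Quotient.mkₐ R (J ^ n) := by
    refine Algebra.FormallyUnramified.ext (I := J.map (Ideal.Quotient.mk (J ^ n))) hN ?_
    intro s
    rw [Ideal.Quotient.eq]
    obtain ⟨r, hr⟩ := Ideal.Quotient.mk_surjective (ψ s)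
    have h1 : π (ψ s) = Ideal.Quotient.mk J (algebraMap R S r) := by rw [← hr, hπ_mk]
    rw [hψ] at h1
    have h2 : algebraMap R S r - s ∈ J := by
      rw [← Ideal.Quotient.eq]; exact h1.symm
    show qa (ψ s) - Ideal.Quotient.mk (J ^ n) s ∈ _
    rw [hqa, ← hr, hq_mk, ← map_sub]
    exact Ideal.mem_map_of_mem _ h2
  have hright : ∀ y, q (ψbar y) = y := by
    intro y
    obtain ⟨s, rfl⟩ := Ideal.Quotient.mk_surjective y
    rw [hψbar_mk]
    exact AlgHom.congr_fun heq s
  exact ⟨Function.LeftInverse.injective hleft, Function.RightInverse.surjective hright⟩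

end Groth.Agent.S9428
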