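import Groth.Statements.S9435
import Mathlib
-- import your own Groth.Agent.* helpers here

set_option autoImplicit false
universe u
open CAlg

namespace Groth.Agent.S9435

/-- Given a prime p of a ring R and a finite separable extension L of κ(p), there is an étale R-algebra
R' with a prime p' over p whose residue field is κ(p)-isomorphic to L. Stated through an R-algebra
map ψ : R' → L whose image generates the field L: its kernel is such a prime p' and the induced
κ(p') → L is then an isomorphism over κ(p). -/
theorem result (R : Type u) [CommRing R]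
    (p : Ideal R) [p.IsPrime] (L : Type u) [Field L] [Algebra p.ResidueField L] [Algebra R L]
    [IsScalarTower R p.ResidueField L] [Module.Finite p.ResidueField L]
    [Algebra.IsSeparable p.ResidueField L] :
    ∃ (R' : Type u) (_ : CommRing R') (_ : Algebra R R') (_ : Algebra.Etale R R') (ψ : R' →ₐ[R] L),
      Subfield.closure (Set.range ψ) = ⊤ := by
  classical
  -- notation
  obtain ⟨α, hα⟩ := Field.exists_primitive_element p.ResidueField L
  set m := minpoly p.ResidueField α with hm
  have hαint : IsIntegral p.ResidueField α := Algebra.IsIntegral.isIntegral α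
  have hmmonic : m.Monic := minpoly.monic hαint
  -- common denominator in R ⧸ p
  set c₀ : R ⧸ p := ((IsLocalization.commonDenom (nonZeroDivisors (R ⧸ p)) m.support m.coeff :
    nonZeroDivisors (R ⧸ p)) : R ⧸ p) with hc₀
  have hc₀ne : c₀ ≠ 0 := nonZeroDivisors.coe_ne_zero _
  have hlift₀ := IsLocalization.scaleRoots_commonDenom_mem_lifts (nonZeroDivisors (R ⧸ p))
    (Rₘ := p.ResidueField) m (by rw [hmmonic.leadingCoeff]; exact one_mem _)
  obtain ⟨c, hc⟩ := Ideal.Quotient.mk_surjective c₀
  set c' : p.ResidueField := algebraMap R p.ResidueField c with hc'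
  have hc'eq : c' = algebraMap (R ⧸ p) p.ResidueField c₀ := by
    rw [hc', ← hc, IsScalarTower.algebraMap_apply R (R ⧸ p) p.ResidueField]
    rfl
  have hc'ne : c' ≠ 0 := by
    rw [hc'eq]
    exact (map_ne_zero_iff _ (IsFractionRing.injective (R ⧸ p) p.ResidueField)).mpr hc₀ne
  set fbar : Polynomial p.ResidueField := m.scaleRoots c' with hfbar
  have hfbar_lifts : fbar ∈ Polynomial.lifts (algebraMap R p.ResidueField) := by
    rw [Polynomial.lifts_iff_coeff_lifts] at hlift₀ ⊢
    intro n
    obtain ⟨y, hy⟩ := hlift₀ n
    obtain ⟨y', rfl⟩ := Ideal.Quotient.mk_surjective y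
    refine ⟨y', ?_⟩
    rw [hfbar, hc'eq, ← hy, IsScalarTower.algebraMap_apply R (R ⧸ p) p.ResidueField]
    rfl
  have hfbar_monic : fbar.Monic := (Polynomial.monic_scaleRoots_iff c').mpr hmmonic
  obtain ⟨f, hfmap, -, hfmonic⟩ :=
    Polynomial.lifts_and_natDegree_eq_and_monic hfbar_lifts hfbar_monic
  -- the root
  set β : L := c' • α with hβ
  have hminβ : minpoly p.ResidueField β = fbar := IsIntegrallyClosed.minpoly_smul hc'ne hαint
  have hsep : fbar.Separable := by
    rw [← hminβ]
    exact Algebra.IsSeparable.isSeparable p.ResidueField β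
  have haeval : ∀ q : Polynomial R, Polynomial.aeval β q =
      Polynomial.aeval β (q.map (algebraMap R p.ResidueField)) := by
    intro q
    rw [Polynomial.aeval_map_algebraMap]
  have hfβ : Polynomial.aeval β f = 0 := by
    rw [haeval, hfmap, ← hminβ]
    exact minpoly.aeval _ _
  have hf'β : Polynomial.aeval β (Polynomial.derivative f) ≠ 0 := by
    rw [haeval, ← Polynomial.derivative_map, hfmap]
    exact hsep.aeval_derivative_ne_zero (by rw [← hminβ]; exact minpoly.aeval _ _)
  -- the standard étale algebra
  let P : StandardEtalePair R :=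
    { f := f
      monic_f := hfmonic
      g := Polynomial.derivative f
      cond := ⟨1, 0, 1, by simp⟩ }
  have hmap : P.HasMap β := ⟨hfβ, IsUnit.mk0 _ hf'β⟩
  refine ⟨P.Ring, inferInstance, inferInstance, inferInstance, P.lift β hmap, ?_⟩
  -- generation
  set F := Subfield.closure (Set.range (P.lift β hmap)) with hF
  have hR : ∀ r : R, algebraMap R L r ∈ F := by
    intro r
    apply Subfield.subset_closure
    exact ⟨algebraMap R P.Ring r, (P.lift β hmap).commutes r⟩
  have hβF : β ∈ F := by
    apply Subfield.subset_closure
    exact ⟨P.X, P.lift_X β hmap⟩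
  have hκ : ∀ x : p.ResidueField, algebraMap p.ResidueField L x ∈ F := by
    intro x
    obtain ⟨a, b, hb, rfl⟩ := IsFractionRing.div_surjective (A := R ⧸ p) x
    obtain ⟨a', rfl⟩ := Ideal.Quotient.mk_surjective a
    obtain ⟨b', rfl⟩ := Ideal.Quotient.mk_surjective b
    have h1 : ∀ r : R, algebraMap p.ResidueField L
        (algebraMap (R ⧸ p) p.ResidueField (Ideal.Quotient.mk p r)) = algebraMap R L r := by
      intro r
      rw [IsScalarTower.algebraMap_apply R p.ResidueField L,
        IsScalarTower.algebraMap_apply R (R ⧸ p) p.ResidueField]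
      rfl
    rw [map_div₀, h1, h1]
    exact F.div_mem (hR a') (hR b')
  have hαF : α ∈ F := by
    have h1 : α = (algebraMap p.ResidueField L c')⁻¹ * β := by
      rw [hβ, Algebra.smul_def, ← mul_assoc, inv_mul_cancel₀, one_mul]
      exact (map_ne_zero_iff _ (algebraMap p.ResidueField L).injective).mpr hc'ne
    rw [h1]
    exact F.mul_mem (F.inv_mem (hκ c')) hβF
  let K' : IntermediateField p.ResidueField L := Subfield.toIntermediateField F hκ
  have hle : IntermediateField.adjoin p.ResidueField {α} ≤ K' := by
    rw [IntermediateField.adjoin_simple_le_iff]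
    exact hαF
  rw [hα] at hle
  rw [eq_top_iff]
  intro x _
  exact hle (IntermediateField.mem_top)

end Groth.Agent.S9435
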