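import Groth.Statements.S9441
import Mathlib
import Groth.Agent.Lib.Helper2.RelGCI5
import Groth.Agent.Lib.Helper2.RelGCI3
import Groth.Agent.S15821
import Groth.Agent.Lib.Lead.Depth20
-- import your own Groth.Agent.* helpers here

set_option autoImplicit false
universe u
open Synt

namespace Groth.Agent.S9441

section
open MvPolynomial Algebra

variable (R : Type u) [CommRing R] (n c : ℕ) (F : Fin c → MvPolynomial (Fin n) R)

theorem backward (q : Ideal (Synt.RelGCIRing R n c F)) [q.IsPrime] (I : Fin c ↪ Fin n)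
    (hI : Ideal.Quotient.mk (Ideal.span (Set.range F))
        (Matrix.det (Matrix.of fun j i => MvPolynomial.pderiv (I i) (F j))) ∉ q) :
    Algebra.IsSmoothAt R q := by
  classical
  let P₀ : PreSubmersivePresentation R (Synt.RelGCIRing R n c F) (Fin n) (Fin c) :=
    PreSubmersivePresentation.naive (v := F) I I.injective
  have hjac : P₀.jacobian = Ideal.Quotient.mk (Ideal.span (Set.range F))
        (Matrix.det (Matrix.of fun j i => MvPolynomial.pderiv (I i) (F j))) := by
    rw [PreSubmersivePresentation.jacobian_eq_jacobiMatrix_det]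
    have : P₀.jacobiMatrix = (Matrix.of fun j i => MvPolynomial.pderiv (I i) (F j)).transpose := by
      ext i j
      rw [PreSubmersivePresentation.jacobiMatrix_naive]
      rfl
    rw [this, Matrix.det_transpose]
    rfl
  set g := P₀.jacobian with hg
  let Q : PreSubmersivePresentation (Synt.RelGCIRing R n c F) (Localization.Away g) Unit Unit :=
    PreSubmersivePresentation.localizationAway (Localization.Away g) g
  let P := Q.comp P₀
  have hu : IsUnit P.jacobian := by
    rw [PreSubmersivePresentation.comp_jacobian_eq_jacobian_smul_jacobian,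
      PreSubmersivePresentation.localizationAway_jacobian, Algebra.smul_def]
    exact (IsLocalization.Away.algebraMap_isUnit g).mul (IsLocalization.Away.algebraMap_isUnit g)
  let P' : SubmersivePresentation R (Localization.Away g) _ _ := ⟨P, hu⟩
  haveI : IsStandardSmooth R (Localization.Away g) := P'.isStandardSmooth
  haveI : FormallySmooth R (Localization.Away g) := inferInstance
  haveI : Algebra.FinitePresentation R (Synt.RelGCIRing R n c F) :=
    Algebra.FinitePresentation.quotient ⟨Finset.univ.image F, by simp⟩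
  have hsub := (Algebra.basicOpen_subset_smoothLocus_iff (R := R) (A := Synt.RelGCIRing R n c F)
    (f := g)).mpr inferInstance
  have hmem : (⟨q, inferInstance⟩ : PrimeSpectrum (Synt.RelGCIRing R n c F)) ∈
      (PrimeSpectrum.basicOpen g : Set _) := by
    show g ∉ q
    rw [hjac]
    exact hI
  exact hsub hmem

end


section LinAlg

variable {κ : Type u} [Field κ] {c n : ℕ}

theorem exists_minor (A : Matrix (Fin c) (Fin n) κ) (V : Matrix (Fin n) (Fin c) κ)
    (h : A * V = 1) : ∃ I : Fin c ↪ Fin n, (A.submatrix id I).det ≠ 0 := by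
  classical
  -- the columns of `A` span everything
  have hspan : Submodule.span κ (Set.range A.col) = ⊤ := by
    rw [eq_top_iff]
    intro w _
    have hw : w = A.mulVec (V.mulVec w) := by
      rw [Matrix.mulVec_mulVec, h, Matrix.one_mulVec]
    rw [hw]
    have : A.mulVec (V.mulVec w) = ∑ i, (V.mulVec w) i • A.col i := by
      ext j
      simp [Matrix.mulVec, dotProduct, Finset.sum_apply, mul_comm]
    rw [this]
    exact Submodule.sum_mem _ (fun i _ => Submodule.smul_mem _ _ (Submodule.subset_span ⟨i, rfl⟩))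
  obtain ⟨b, hbt, hbspan, hbli⟩ := exists_linearIndependent κ (Set.range A.col)
  rw [hspan] at hbspan
  let B : Module.Basis b κ (Fin c → κ) := Module.Basis.mk hbli (by rw [Subtype.range_coe_subtype]; simpa using hbspan.ge)
  let e : Fin c ≃ b := (B.indexEquiv (Pi.basisFun κ (Fin c))).symm
  have hch : ∀ k : Fin c, ∃ i : Fin n, A.col i = (e k : Fin c → κ) := fun k => hbt (e k).2
  choose I hI using hch
  have hinj : Function.Injective I := by
    intro k k' hkk
    have : (e k : Fin c → κ) = e k' := by rw [← hI k, ← hI k', hkk]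
    exact e.injective (Subtype.ext this)
  refine ⟨⟨I, hinj⟩, ?_⟩
  have hli : LinearIndependent κ (A.submatrix id I).col := by
    have : (A.submatrix id I).col = fun k => (e k : Fin c → κ) := by
      funext k
      rw [← hI k]
      rfl
    rw [this]
    exact hbli.comp e e.injective
  have hu := Matrix.linearIndependent_cols_iff_isUnit.mp hli
  exact ((Matrix.isUnit_iff_isUnit_det _).mp hu).ne_zero

end LinAlg


section Alg
open TensorProduct KaehlerDifferential

variable {R A' : Type u} [CommRing R] [CommRing A'] [Algebra R A'] {n c : ℕ}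

theorem aux (Fl : Fin c → A') (Jm : Matrix (Fin c) (Fin n) A')
    (hKR : LCI.IsKoszulRegularSeq A' (List.ofFn Fl))
    (K' : Ideal A') (hK' : K' = Ideal.span (Set.range Fl)) (hmem : ∀ j, Fl j ∈ K')
    (w : Fin n → K'.Cotangent)
    (hw : ∀ j, K'.toCotangent ⟨Fl j, hmem j⟩ = ∑ i, Jm j i • w i) :
    ∃ V : Matrix (Fin n) (Fin c) A', ∀ j k, (Jm * V - (1 : Matrix (Fin c) (Fin c) A')) j k ∈ K' := by
  classical
  subst hK'
  obtain ⟨hli, -⟩ := Groth.Agent.Helper2.RelGCI.conormal_basis Fl hKR
  -- expand the `w i`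
  have hex : ∀ i, ∃ v : Fin c → A', w i = ∑ k, v k •
      (Ideal.span (Set.range Fl)).toCotangent ⟨Fl k, hmem k⟩ := by
    intro i
    obtain ⟨⟨y, hy⟩, hyw⟩ := (Ideal.span (Set.range Fl)).toCotangent_surjective (w i)
    obtain ⟨v, hv⟩ := Ideal.mem_span_range_iff_exists_fun.mp hy
    refine ⟨v, ?_⟩
    rw [← hyw]
    have : (⟨y, hy⟩ : (Ideal.span (Set.range Fl))) =
        ∑ k, v k • (⟨Fl k, hmem k⟩ : (Ideal.span (Set.range Fl))) := by
      apply Subtype.ext
      show y = _
      rw [← hv]
      simp
    rw [this, map_sum]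
    exact Finset.sum_congr rfl (fun k _ => map_smul _ _ _)
  choose V hV using hex
  refine ⟨Matrix.of V, fun j k => ?_⟩
  -- the relation
  have hrel : ∑ k, ((Jm * Matrix.of V - (1 : Matrix (Fin c) (Fin c) A')) j k) •
      (Ideal.span (Set.range Fl)).toCotangent ⟨Fl k, hmem k⟩ = 0 := by
    have h1 := hw j
    simp only [hV, Finset.smul_sum, smul_smul] at h1
    rw [Finset.sum_comm] at h1
    simp only [Matrix.sub_apply, Matrix.mul_apply, Matrix.of_apply, sub_smul, Finset.sum_sub_distrib,
      Finset.sum_smul, Matrix.one_apply, ite_smul, one_smul, zero_smul, Finset.sum_ite_eq,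
      Finset.mem_univ, if_true]
    rw [← h1, sub_self]
  have hrel' : ∑ k, (Ideal.Quotient.mk (Ideal.span (Set.range Fl)) ((Jm * Matrix.of V - (1 : Matrix (Fin c) (Fin c) A')) j k)) •
      (Ideal.span (Set.range Fl)).toCotangent ⟨Fl k, hmem k⟩ = 0 := by
    rw [← hrel]
    exact Finset.sum_congr rfl (fun k _ => rfl)
  have := Fintype.linearIndependent_iff.mp hli _ hrel' k
  exact Ideal.Quotient.eq_zero_iff_mem.mp this

theorem jac_right_inverse (x : Fin n → A') (Fl : Fin c → A') (Jm : Matrix (Fin c) (Fin n) A')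
    (hD : ∀ j, D R A' (Fl j) = ∑ i, Jm j i • D R A' (x i))
    (hKR : LCI.IsKoszulRegularSeq A' (List.ofFn Fl))
    [Algebra.FormallySmooth R A']
    (hsm : Algebra.FormallySmooth R (A' ⧸ Ideal.span (Set.range Fl))) :
    ∃ V : Matrix (Fin n) (Fin c) A', ∀ j k,
      (Jm * V - (1 : Matrix (Fin c) (Fin c) A')) j k ∈ Ideal.span (Set.range Fl) := by
  have hsurj : Function.Surjective (algebraMap A' (A' ⧸ Ideal.span (Set.range Fl))) :=
    Ideal.Quotient.mk_surjective
  obtain ⟨l, hl⟩ := (Algebra.FormallySmooth.iff_split_injection (R := R) hsurj).mp hsm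
  have hK' : RingHom.ker (algebraMap A' (A' ⧸ Ideal.span (Set.range Fl))) =
      Ideal.span (Set.range Fl) := Ideal.mk_ker
  have hmem : ∀ j, Fl j ∈ RingHom.ker (algebraMap A' (A' ⧸ Ideal.span (Set.range Fl))) := by
    intro j
    rw [hK']
    exact Ideal.subset_span ⟨j, rfl⟩
  obtain ⟨V, hV⟩ := aux Fl Jm hKR _ hK' hmem
    (fun i => l ((1 : A' ⧸ Ideal.span (Set.range Fl)) ⊗ₜ[A'] D R A' (x i))) (by
      intro j
      have h1 := LinearMap.congr_fun hl ((RingHom.ker (algebraMap A'
        (A' ⧸ Ideal.span (Set.range Fl)))).toCotangent ⟨Fl j, hmem j⟩)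
      rw [LinearMap.comp_apply, LinearMap.id_apply,
        KaehlerDifferential.kerCotangentToTensor_toCotangent] at h1
      rw [← h1]
      show l (1 ⊗ₜ[A'] D R A' (Fl j)) = _
      rw [hD j, TensorProduct.tmul_sum, map_sum]
      refine Finset.sum_congr rfl (fun i _ => ?_)
      rw [TensorProduct.tmul_smul, map_smul])
  refine ⟨V, fun j k => ?_⟩
  rw [← hK']
  exact hV j k

end Alg


section Chain
open MvPolynomial KaehlerDifferential

variable (R : Type u) [CommRing R] (n : ℕ) (A' : Type u) [CommRing A']
  [Algebra (MvPolynomial (Fin n) R) A'] [Algebra R A'] [IsScalarTower R (MvPolynomial (Fin n) R) A']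

theorem chain (f : MvPolynomial (Fin n) R) :
    D R A' (algebraMap (MvPolynomial (Fin n) R) A' f) =
      ∑ i, algebraMap (MvPolynomial (Fin n) R) A' (pderiv i f) •
        D R A' (algebraMap (MvPolynomial (Fin n) R) A' (X i)) := by
  have h0 : D R (MvPolynomial (Fin n) R) f =
      ∑ i, pderiv i f • D R (MvPolynomial (Fin n) R) (X i) := by
    have := (KaehlerDifferential.mvPolynomialBasis R (Fin n)).sum_repr (D R _ f)
    simp only [KaehlerDifferential.mvPolynomialBasis_repr_apply,
      KaehlerDifferential.mvPolynomialBasis_apply] at this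
    exact this.symm
  have h1 := congrArg (KaehlerDifferential.map R R (MvPolynomial (Fin n) R) A') h0
  rw [KaehlerDifferential.map_D, map_sum] at h1
  rw [h1]
  refine Finset.sum_congr rfl (fun i _ => ?_)
  rw [map_smul, KaehlerDifferential.map_D, algebraMap_smul]

end Chain

section LocQuot

variable {E : Type u} [CommRing E] (R : Type u) [CommRing R] [Algebra R E]

/-- the local ring of a quotient as a quotient of the local ring -/
theorem nonempty_algEquiv_localization_quotient (Ĩ : Ideal E) (q : Ideal (E ⧸ Ĩ)) [hq : q.IsPrime] :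
    haveI : (q.comap (Ideal.Quotient.mk Ĩ)).IsPrime := Ideal.comap_isPrime _ _
    Nonempty (Localization.AtPrime q ≃ₐ[R]
      (Localization.AtPrime (q.comap (Ideal.Quotient.mk Ĩ)) ⧸
        Ĩ.map (algebraMap E (Localization.AtPrime (q.comap (Ideal.Quotient.mk Ĩ)))))) := by
  haveI hq' : (q.comap (Ideal.Quotient.mk Ĩ)).IsPrime := Ideal.comap_isPrime _ _
  have hle : Ĩ ≤ q.comap (Ideal.Quotient.mk Ĩ) := by
    intro x hx
    rw [Ideal.mem_comap, Ideal.Quotient.eq_zero_iff_mem.mpr hx]
    exact q.zero_mem
  have hmap : (q.comap (Ideal.Quotient.mk Ĩ)).map (Ideal.Quotient.mk Ĩ) = q :=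
    Ideal.map_comap_of_surjective _ Ideal.Quotient.mk_surjective q
  haveI : ((q.comap (Ideal.Quotient.mk Ĩ)).map (Ideal.Quotient.mk Ĩ)).IsPrime := by
    rw [hmap]; exact hq
  have h1 : IsLocalization (Algebra.algebraMapSubmonoid (E ⧸ Ĩ) (q.comap (Ideal.Quotient.mk Ĩ)).primeCompl)
      (Localization.AtPrime (q.comap (Ideal.Quotient.mk Ĩ)) ⧸
        Ĩ.map (algebraMap E (Localization.AtPrime (q.comap (Ideal.Quotient.mk Ĩ))))) := inferInstance
  rw [Groth.Agent.Lead.Depth.algebraMapSubmonoid_quotient_primeCompl Ĩ _ hle] at h1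
  have hgen : ∀ q₂ : Ideal (E ⧸ Ĩ), q₂ = q → ∀ [q₂.IsPrime], IsLocalization q₂.primeCompl
      (Localization.AtPrime (q.comap (Ideal.Quotient.mk Ĩ)) ⧸
        Ĩ.map (algebraMap E (Localization.AtPrime (q.comap (Ideal.Quotient.mk Ĩ))))) →
      Nonempty (Localization.AtPrime q ≃ₐ[R]
      (Localization.AtPrime (q.comap (Ideal.Quotient.mk Ĩ)) ⧸
        Ĩ.map (algebraMap E (Localization.AtPrime (q.comap (Ideal.Quotient.mk Ĩ)))))) := by
    rintro q₂ rfl _ h2
    haveI := h2
    haveI : IsScalarTower R (E ⧸ Ĩ) (Localization.AtPrime (q₂.comap (Ideal.Quotient.mk Ĩ)) ⧸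
        Ĩ.map (algebraMap E (Localization.AtPrime (q₂.comap (Ideal.Quotient.mk Ĩ))))) :=
      IsScalarTower.of_algebraMap_eq (fun r => by
        show Ideal.Quotient.mk _ (algebraMap R (Localization.AtPrime _) r) =
          Ideal.Quotient.mk _ (algebraMap E (Localization.AtPrime _) (algebraMap R E r))
        rw [← IsScalarTower.algebraMap_apply R E (Localization.AtPrime _)])
    exact ⟨(IsLocalization.algEquiv q₂.primeCompl (Localization.AtPrime q₂) _).restrictScalars R⟩
  exact hgen _ hmap h1

end LocQuot


section Main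
open MvPolynomial Groth.Agent.Helper2.FCR Groth.Agent.Helper2.RelGCI

variable (R : Type u) [CommRing R] (n c : ℕ) (F : Fin c → MvPolynomial (Fin n) R)

theorem forward (hF : Synt.IsRelGCI R n c F) (q : Ideal (Synt.RelGCIRing R n c F)) [hq : q.IsPrime]
    (hsm : Algebra.IsSmoothAt R q) :
    ∃ I : Fin c ↪ Fin n,
      Ideal.Quotient.mk (Ideal.span (Set.range F))
        (Matrix.det (Matrix.of fun j i => MvPolynomial.pderiv (I i) (F j))) ∉ q := by
  classical
  haveI hq' : (q.comap (Ideal.Quotient.mk (Ideal.span (Set.range F)))).IsPrime :=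
    Ideal.comap_isPrime _ _
  set q' := q.comap (Ideal.Quotient.mk (Ideal.span (Set.range F))) with hq'def
  have hle : Ideal.span (Set.range F) ≤ q' := by
    intro x hx
    rw [hq'def, Ideal.mem_comap, Ideal.Quotient.eq_zero_iff_mem.mpr hx]
    exact q.zero_mem
  -- Koszul regularity in the local ring
  obtain ⟨-, hH⟩ := hFib_of_relGCI R n c F hF q' hle
  haveI : Module.Flat R (LocalizedModule q'.primeCompl (MvPolynomial (Fin n) R)) :=
    Groth.Agent.Helper21.FL.flat_of_isLocalizedModule q'.primeCompl
      (LocalizedModule.mkLinearMap q'.primeCompl (MvPolynomial (Fin n) R))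
  have hl : ∀ a ∈ List.ofFn F, a ∈ q' := fun a ha => by
    obtain ⟨j, rfl⟩ := List.mem_ofFn.mp ha
    exact hle (Ideal.subset_span ⟨j, rfl⟩)
  obtain ⟨g, hg, hwr⟩ := exists_wr (R := R) c (MvPolynomial (Fin n) R) q' (List.ofFn F)
    (List.length_ofFn) hl hH
  have hreg := regular_localization q' g hg (List.ofFn F) hl hwr
  have hKR : LCI.IsKoszulRegularSeq (Localization.AtPrime q')
      (List.ofFn (fun j => algebraMap (MvPolynomial (Fin n) R) (Localization.AtPrime q') (F j))) := by
    have := (Groth.Agent.S15821.result _ _ hreg.toIsWeaklyRegular).1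
    rwa [List.map_ofFn] at this
  -- formal smoothness
  haveI : Algebra.FormallySmooth (MvPolynomial (Fin n) R) (Localization.AtPrime q') :=
    Algebra.FormallySmooth.of_isLocalization q'.primeCompl
  haveI : Algebra.FormallySmooth R (Localization.AtPrime q') :=
    Algebra.FormallySmooth.comp R (MvPolynomial (Fin n) R) (Localization.AtPrime q')
  have hspan : Ideal.span (Set.range
      (fun j => algebraMap (MvPolynomial (Fin n) R) (Localization.AtPrime q') (F j))) =
      (Ideal.span (Set.range F)).map (algebraMap _ (Localization.AtPrime q')) := by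
    rw [Ideal.map_span, ← Set.range_comp]
    rfl
  have hsm' : Algebra.FormallySmooth R (Localization.AtPrime q' ⧸ Ideal.span (Set.range
      (fun j => algebraMap (MvPolynomial (Fin n) R) (Localization.AtPrime q') (F j)))) := by
    rw [hspan]
    obtain ⟨e⟩ := nonempty_algEquiv_localization_quotient R (Ideal.span (Set.range F)) q
    exact Algebra.FormallySmooth.of_equiv e
  obtain ⟨V, hV⟩ := jac_right_inverse (R := R)
    (fun i => algebraMap (MvPolynomial (Fin n) R) (Localization.AtPrime q') (X i))
    (fun j => algebraMap (MvPolynomial (Fin n) R) (Localization.AtPrime q') (F j))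
    (Matrix.of fun j i => algebraMap (MvPolynomial (Fin n) R) (Localization.AtPrime q')
      (pderiv i (F j)))
    (fun j => chain R n (Localization.AtPrime q') (F j)) hKR hsm'
  -- reduce to the residue field
  have hmax : Ideal.span (Set.range
      (fun j => algebraMap (MvPolynomial (Fin n) R) (Localization.AtPrime q') (F j))) ≤
      IsLocalRing.maximalIdeal (Localization.AtPrime q') := by
    rw [Ideal.span_le]
    rintro _ ⟨j, rfl⟩
    rw [SetLike.mem_coe, IsLocalization.AtPrime.to_map_mem_maximal_iff (Localization.AtPrime q') q']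
    exact hle (Ideal.subset_span ⟨j, rfl⟩)
  let res := IsLocalRing.residue (Localization.AtPrime q')
  let φ : MvPolynomial (Fin n) R →+* IsLocalRing.ResidueField (Localization.AtPrime q') :=
    res.comp (algebraMap _ _)
  have hprod : (Matrix.of fun j i => φ (pderiv i (F j))) * V.map res = 1 := by
    ext j k
    have h1 := hV j k
    have h2 : res ((Matrix.of (fun j i => algebraMap (MvPolynomial (Fin n) R)
        (Localization.AtPrime q') (pderiv i (F j))) * V -
        (1 : Matrix (Fin c) (Fin c) (Localization.AtPrime q'))) j k) = 0 :=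
      (IsLocalRing.residue_eq_zero_iff _).mpr (hmax h1)
    rw [Matrix.sub_apply, map_sub, sub_eq_zero] at h2
    rw [Matrix.mul_apply] at h2 ⊢
    rw [map_sum] at h2
    simp only [Matrix.of_apply, Matrix.map_apply, map_mul] at h2 ⊢
    refine (h2 : _).trans ?_
    simp only [Matrix.one_apply]
    split_ifs <;> simp
  obtain ⟨I, hI⟩ := exists_minor _ _ hprod
  refine ⟨I, fun hmem => hI ?_⟩
  have hdet : ((Matrix.of fun j i => φ (pderiv i (F j))).submatrix id I).det =
      φ (Matrix.det (Matrix.of fun j i => MvPolynomial.pderiv (I i) (F j))) := by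
    rw [RingHom.map_det]
    rfl
  rw [hdet]
  show res (algebraMap _ _ _) = 0
  rw [IsLocalRing.residue_eq_zero_iff,
    IsLocalization.AtPrime.to_map_mem_maximal_iff (Localization.AtPrime q') q']
  exact hmem

theorem main (hF : Synt.IsRelGCI R n c F)
    (q : Ideal (Synt.RelGCIRing R n c F)) [q.IsPrime] :
    Algebra.IsSmoothAt R q ↔ ∃ I : Fin c ↪ Fin n,
      Ideal.Quotient.mk (Ideal.span (Set.range F))
        (Matrix.det (Matrix.of fun j i => MvPolynomial.pderiv (I i) (F j))) ∉ q :=
  ⟨forward R n c F hF q, fun ⟨I, hI⟩ => backward R n c F q I hI⟩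

end Main

/-- For a relative global complete intersection S = R[x_1, …, x_n]/(f_1, …, f_c) and a prime q of S, the
map R → S is smooth at q if and only if some c × c minor of the Jacobian matrix (∂f_j/∂x_i), taken
on c distinct variables, has image outside q. -/
theorem result (R : Type u) [CommRing R] (n c : ℕ)
    (F : Fin c → MvPolynomial (Fin n) R) (hF : Synt.IsRelGCI R n c F)
    (q : Ideal (Synt.RelGCIRing R n c F)) [q.IsPrime] :
    Algebra.IsSmoothAt R q ↔ ∃ I : Fin c ↪ Fin n,
      Ideal.Quotient.mk (Ideal.span (Set.range F))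
        (Matrix.det (Matrix.of fun j i => MvPolynomial.pderiv (I i) (F j))) ∉ q := by
  exact Groth.Agent.S9441.main R n c F hF q

end Groth.Agent.S9441
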