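import Groth.Statements.S9445
-- import your own Groth.Agent.* helpers here
import Groth.Agent.Lib.Helper3.EtLift

set_option autoImplicit false
universe u
open CAlg

namespace Groth.Agent.S9445

open TensorProduct

section

variable (R : Type u) [CommRing R]
    (S : Type u) [CommRing S] [Algebra R S] (S' : Type u) [CommRing S'] [Algebra R S']
    [Algebra S S'] [IsScalarTower R S S']

/-- the map `S' ⊗ S → S' ⊗ S'`. -/
noncomputable abbrev g : S' ⊗[R] S →ₐ[S'] S' ⊗[R] S' :=
  Algebra.TensorProduct.map (AlgHom.id S' S') (IsScalarTower.toAlgHom R S S')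

/-- multiplication `S' ⊗ S' → S'`. -/
noncomputable abbrev m' : S' ⊗[R] S' →+* S' := (Algebra.TensorProduct.lmul' R : S' ⊗[R] S' →ₐ[R] S').toRingHom

/-- `S' ⊗ S → S'`. -/
noncomputable abbrev m : S' ⊗[R] S →+* S' := (m' R S').comp (g R S S').toRingHom

lemma m_tmul (x : S') (s : S) : m R S S' (x ⊗ₜ s) = x * algebraMap S S' s := by
  simp [m, m', g]

lemma comap_ideal : (KaehlerDifferential.ideal R S').comap (g R S S').toRingHom =
    RingHom.ker (m R S S') := by
  ext x
  simp only [Ideal.mem_comap, RingHom.mem_ker, m, RingHom.comp_apply]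
  rfl

end

open TensorProduct in
/-- For ring maps R → S → S' with S → S' formally étale and k ≥ 0, let J' ⊆ S' ⊗_R S' be the kernel of
multiplication and I ⊆ S' ⊗_R S its preimage under the map induced by S → S' (I is the kernel of S'
⊗_R S → S', and (S' ⊗_R S)/I^{k+1} is S' ⊗_S P^k_{S/R}); then (S' ⊗_R S)/I^{k+1} → (S' ⊗_R
S')/J'^{k+1} is bijective. (The consequence S' ⊗_S Ω_{S/R} ≅ Ω_{S'/R} is Mathlib's
KaehlerDifferential.isBaseChange_of_formallyEtale.) -/
theorem result (R : Type u) [CommRing R]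
    (S : Type u) [CommRing S] [Algebra R S] (S' : Type u) [CommRing S'] [Algebra R S']
    [Algebra S S'] [IsScalarTower R S S'] [Algebra.FormallyEtale S S'] (k : ℕ) :
    Function.Bijective (Ideal.quotientMap (KaehlerDifferential.ideal R S' ^ (k + 1))
      (Algebra.TensorProduct.map (AlgHom.id S' S') (IsScalarTower.toAlgHom R S S')).toRingHom
      (Ideal.le_comap_pow
        (Algebra.TensorProduct.map (AlgHom.id S' S') (IsScalarTower.toAlgHom R S S')).toRingHom
        (K := KaehlerDifferential.ideal R S') (k + 1))) := by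
  -- notation
  set J' := KaehlerDifferential.ideal R S' with hJ'
  set I := J'.comap (g R S S').toRingHom with hI
  have hIker : I = RingHom.ker (m R S S') := comap_ideal R S S'
  set gbar := Ideal.quotientMap (J' ^ (k + 1)) (g R S S').toRingHom
    (Ideal.le_comap_pow (g R S S').toRingHom (K := J') (k + 1)) with hgbar
  -- augmentations
  let ε : (S' ⊗[R] S) ⧸ I ^ (k + 1) →+* S' := Ideal.Quotient.lift (I ^ (k + 1)) (m R S S') (by
    intro a ha
    have : a ∈ I := Ideal.pow_le_self (Nat.succ_ne_zero k) ha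
    rw [hIker] at this
    exact this)
  let ε' : (S' ⊗[R] S') ⧸ J' ^ (k + 1) →+* S' := Ideal.Quotient.lift (J' ^ (k + 1)) (m' R S') (by
    intro a ha
    exact Ideal.pow_le_self (Nat.succ_ne_zero k) ha)
  have hε_mk : ∀ t, ε (Ideal.Quotient.mk _ t) = m R S S' t := fun t => rfl
  have hε'_mk : ∀ t, ε' (Ideal.Quotient.mk _ t) = m' R S' t := fun t => rfl
  have hεsurj : Function.Surjective ε := by
    intro x
    exact ⟨Ideal.Quotient.mk _ (x ⊗ₜ 1), by rw [hε_mk, m_tmul, map_one, mul_one]⟩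
  have hkerε : RingHom.ker ε ≤ I.map (Ideal.Quotient.mk (I ^ (k + 1))) := by
    intro c hc
    obtain ⟨t, rfl⟩ := Ideal.Quotient.mk_surjective c
    rw [RingHom.mem_ker, hε_mk] at hc
    apply Ideal.mem_map_of_mem
    rw [hIker]
    exact hc
  have hpowε : (RingHom.ker ε) ^ (k + 1) = ⊥ := by
    rw [← le_bot_iff]
    calc (RingHom.ker ε) ^ (k + 1) ≤ (I.map (Ideal.Quotient.mk (I ^ (k + 1)))) ^ (k + 1) :=
          Ideal.pow_right_mono hkerε _
      _ = (I ^ (k + 1)).map (Ideal.Quotient.mk (I ^ (k + 1))) := (Ideal.map_pow _ _ _).symm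
      _ = ⊥ := Ideal.map_quotient_self _
  have hnilε : IsNilpotent (RingHom.ker ε) := ⟨k + 1, hpowε⟩
  have hkerε' : RingHom.ker ε' ≤ J'.map (Ideal.Quotient.mk (J' ^ (k + 1))) := by
    intro c hc
    obtain ⟨t, rfl⟩ := Ideal.Quotient.mk_surjective c
    rw [RingHom.mem_ker, hε'_mk] at hc
    exact Ideal.mem_map_of_mem _ hc
  have hnilε' : IsNilpotent (RingHom.ker ε') := by
    refine ⟨k + 1, ?_⟩
    rw [Ideal.zero_eq_bot, ← le_bot_iff]
    calc (RingHom.ker ε') ^ (k + 1) ≤ (J'.map (Ideal.Quotient.mk (J' ^ (k + 1)))) ^ (k + 1) :=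
          Ideal.pow_right_mono hkerε' _
      _ = (J' ^ (k + 1)).map (Ideal.Quotient.mk (J' ^ (k + 1))) := (Ideal.map_pow _ _ _).symm
      _ = ⊥ := Ideal.map_quotient_self _
  -- the structure map of `S`
  let ι : S →+* (S' ⊗[R] S) ⧸ I ^ (k + 1) := (Ideal.Quotient.mk _).comp
    (Algebra.TensorProduct.includeRight : S →ₐ[R] S' ⊗[R] S).toRingHom
  have hι_apply : ∀ s, ι s = Ideal.Quotient.mk _ ((1 : S') ⊗ₜ[R] s) := fun s => rfl
  have hι : ε.comp ι = algebraMap S S' := by
    ext s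
    rw [RingHom.comp_apply, hι_apply, hε_mk, m_tmul, one_mul]
  obtain ⟨b, hb1, hb2⟩ := Groth.Agent.Helper3.EtLift.exists_ringHom_lift ι ε hεsurj hnilε hι
  have hb1' : ∀ s, b (algebraMap S S' s) = Ideal.Quotient.mk _ ((1 : S') ⊗ₜ[R] s) := fun s =>
    RingHom.congr_fun hb1 s
  have hb2' : ∀ y, ε (b y) = y := fun y => RingHom.congr_fun hb2 y
  -- the two `R`-algebra maps `S' → C`
  let aR : S' →ₐ[R] (S' ⊗[R] S) ⧸ I ^ (k + 1) := (Ideal.Quotient.mkₐ R _).comp
    (Algebra.TensorProduct.includeLeft : S' →ₐ[R] S' ⊗[R] S)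
  have haR : ∀ x, aR x = Ideal.Quotient.mk _ (x ⊗ₜ[R] (1 : S)) := fun x => rfl
  let bR : S' →ₐ[R] (S' ⊗[R] S) ⧸ I ^ (k + 1) :=
    { b with
      commutes' := by
        intro r
        change b (algebraMap R S' r) = algebraMap R _ r
        rw [IsScalarTower.algebraMap_apply R S S', hb1']
        change _ = Ideal.Quotient.mk _ (algebraMap R (S' ⊗[R] S) r)
        congr 1
        rw [Algebra.TensorProduct.algebraMap_apply, Algebra.algebraMap_eq_smul_one,
          Algebra.algebraMap_eq_smul_one, TensorProduct.smul_tmul] }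
  have hbR : ∀ y, bR y = b y := fun y => rfl
  let φ : S' ⊗[R] S' →ₐ[R] (S' ⊗[R] S) ⧸ I ^ (k + 1) := Algebra.TensorProduct.productMap aR bR
  have hφ_tmul : ∀ x y, φ (x ⊗ₜ y) = Ideal.Quotient.mk _ (x ⊗ₜ[R] (1 : S)) * b y := by
    intro x y
    rw [Algebra.TensorProduct.productMap_apply_tmul, haR, hbR]
  -- `φ ∘ g = mk`
  have h3 : ∀ t : S' ⊗[R] S, φ (g R S S' t) = Ideal.Quotient.mk _ t := by
    intro t
    induction t using TensorProduct.induction_on with
    | zero => simp
    | tmul x s =>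
      have : g R S S' (x ⊗ₜ s) = x ⊗ₜ[R] algebraMap S S' s := by simp [g]
      rw [this, hφ_tmul, hb1', ← map_mul, Algebra.TensorProduct.tmul_mul_tmul, mul_one, one_mul]
    | add x y hx hy => rw [map_add, map_add, hx, hy, map_add]
  -- `ε ∘ φ = m'`
  have h4 : ∀ t' : S' ⊗[R] S', ε (φ t') = m' R S' t' := by
    intro t'
    induction t' using TensorProduct.induction_on with
    | zero => simp
    | tmul x y =>
      rw [hφ_tmul, map_mul, hε_mk, m_tmul, map_one, mul_one, hb2']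
      simp [m']
    | add x y hx hy => rw [map_add, map_add, hx, hy, map_add]
  have h4' : J' ^ (k + 1) ≤ RingHom.ker φ.toRingHom := by
    have h41 : J' ≤ (RingHom.ker ε).comap φ.toRingHom := by
      intro x hx
      rw [Ideal.mem_comap, RingHom.mem_ker]
      change ε (φ x) = 0
      rw [h4]
      exact hx
    calc J' ^ (k + 1) ≤ ((RingHom.ker ε).comap φ.toRingHom) ^ (k + 1) := Ideal.pow_right_mono h41 _
      _ ≤ ((RingHom.ker ε) ^ (k + 1)).comap φ.toRingHom := Ideal.le_comap_pow _ _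
      _ = RingHom.ker φ.toRingHom := by rw [hpowε, RingHom.ker_eq_comap_bot]
  let φbar : (S' ⊗[R] S') ⧸ J' ^ (k + 1) →+* (S' ⊗[R] S) ⧸ I ^ (k + 1) :=
    Ideal.Quotient.lift (J' ^ (k + 1)) φ.toRingHom (fun a ha => h4' ha)
  have hφbar_mk : ∀ t', φbar (Ideal.Quotient.mk _ t') = φ t' := fun t' => rfl
  have hgbar_mk : ∀ t, gbar (Ideal.Quotient.mk _ t) = Ideal.Quotient.mk _ (g R S S' t) :=
    fun t => rfl
  -- left inverse
  have h5 : ∀ c, φbar (gbar c) = c := by
    intro c
    obtain ⟨t, rfl⟩ := Ideal.Quotient.mk_surjective c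
    rw [hgbar_mk, hφbar_mk, h3]
  -- `ε' ∘ gbar = ε`
  have h6 : ∀ c, ε' (gbar c) = ε c := by
    intro c
    obtain ⟨t, rfl⟩ := Ideal.Quotient.mk_surjective c
    rw [hgbar_mk, hε'_mk, hε_mk]
    rfl
  -- uniqueness
  let β₁ : S' →+* (S' ⊗[R] S') ⧸ J' ^ (k + 1) := gbar.comp b
  let β₂ : S' →+* (S' ⊗[R] S') ⧸ J' ^ (k + 1) := (Ideal.Quotient.mk _).comp
    (Algebra.TensorProduct.includeRight : S' →ₐ[R] S' ⊗[R] S').toRingHom
  have hβ₂ : ∀ y, β₂ y = Ideal.Quotient.mk _ ((1 : S') ⊗ₜ[R] y) := fun y => rfl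
  have hβ : β₁ = β₂ := by
    apply Groth.Agent.Helper3.EtLift.ringHom_ext_of_nilpotent (S := S) ε' hnilε' β₁ β₂
    · ext s
      change gbar (b (algebraMap S S' s)) = β₂ (algebraMap S S' s)
      rw [hb1', hgbar_mk, hβ₂]
      congr 1
    · ext y
      change ε' (gbar (b y)) = ε' (β₂ y)
      rw [h6, hb2', hβ₂, hε'_mk]
      simp [m']
  -- right inverse
  have h7 : ∀ t' : S' ⊗[R] S', gbar (φ t') = Ideal.Quotient.mk _ t' := by
    intro t'
    induction t' using TensorProduct.induction_on with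
    | zero => rw [map_zero, map_zero, map_zero]
    | tmul x y =>
      rw [hφ_tmul, map_mul, hgbar_mk]
      have h71 : gbar (b y) = Ideal.Quotient.mk _ ((1 : S') ⊗ₜ[R] y) := RingHom.congr_fun hβ y
      have h72 : g R S S' (x ⊗ₜ[R] (1 : S)) = x ⊗ₜ[R] (1 : S') := by simp [g]
      rw [h71, h72, ← map_mul, Algebra.TensorProduct.tmul_mul_tmul, mul_one, one_mul]
    | add x y hx hy => rw [map_add, map_add, hx, hy, map_add]
  have h8 : ∀ c', gbar (φbar c') = c' := by
    intro c'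
    obtain ⟨t', rfl⟩ := Ideal.Quotient.mk_surjective c'
    rw [hφbar_mk, h7]
  exact ⟨Function.LeftInverse.injective h5, Function.RightInverse.surjective h8⟩

end Groth.Agent.S9445
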