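import Groth.Statements.S9450
import Groth.Agent.S9178
import Mathlib.RingTheory.Smooth.Basic
-- import your own Groth.Agent.* helpers here

set_option autoImplicit false
universe u
open CAlg

namespace Groth.Agent.S9450

/-- For ring maps A → B → C with A → C surjective and A → B formally smooth, writing I = ker(A → C) and
J = ker(B → C), the sequence 0 → I/I² → J/J² → C ⊗_B Ω_{B/A} → 0 is split exact: the first map is
injective and admits an A-linear retraction, its range is the kernel of the second map (class of x ↦
1 ⊗ dx), and the second map is surjective. -/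
theorem result (A : Type u) [CommRing A]
    (B : Type u) [CommRing B] [Algebra A B] [Algebra.FormallySmooth A B] (C : Type u) [CommRing C]
    [Algebra B C] [Algebra A C] [IsScalarTower A B C] (hC : Function.Surjective (algebraMap A C)) :
    Function.Injective (Ideal.mapCotangent (RingHom.ker (algebraMap A C))
        (RingHom.ker (algebraMap B C)) (Algebra.ofId A B)
        (le_of_eq (congrArg RingHom.ker (IsScalarTower.algebraMap_eq A B C)))) ∧
      (∃ r : (RingHom.ker (algebraMap B C)).Cotangent →ₗ[A] (RingHom.ker (algebraMap A C)).Cotangent,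
        r ∘ₗ (Ideal.mapCotangent (RingHom.ker (algebraMap A C)) (RingHom.ker (algebraMap B C))
          (Algebra.ofId A B)
          (le_of_eq (congrArg RingHom.ker (IsScalarTower.algebraMap_eq A B C)))) = LinearMap.id) ∧
      LinearMap.range (Ideal.mapCotangent (RingHom.ker (algebraMap A C))
          (RingHom.ker (algebraMap B C)) (Algebra.ofId A B)
          (le_of_eq (congrArg RingHom.ker (IsScalarTower.algebraMap_eq A B C)))) =
        LinearMap.ker ((KaehlerDifferential.kerCotangentToTensor A B C).restrictScalars A) ∧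
      Function.Surjective (KaehlerDifferential.kerCotangentToTensor A B C) := by
  classical
  set I := RingHom.ker (algebraMap A C) with hI
  set J := RingHom.ker (algebraMap B C) with hJ
  have hIJ : I ≤ J.comap (Algebra.ofId A B) :=
    le_of_eq (congrArg RingHom.ker (IsScalarTower.algebraMap_eq A B C))
  -- the square-zero thickening A / I^2 → C
  let g : (A ⧸ I ^ 2) →ₐ[A] C := Ideal.Quotient.liftₐ (I ^ 2) (Algebra.ofId A C) (by
    intro a ha
    have : a ∈ I := Ideal.pow_le_self two_ne_zero ha
    exact this)
  have hg_mk : ∀ a : A, g (Ideal.Quotient.mk (I ^ 2) a) = algebraMap A C a := fun a => rfl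
  have hg_surj : Function.Surjective g := by
    intro c
    obtain ⟨a, rfl⟩ := hC c
    exact ⟨Ideal.Quotient.mk (I ^ 2) a, hg_mk a⟩
  have hg_ker : RingHom.ker (g : (A ⧸ I ^ 2) →+* C) = I.cotangentIdeal := by
    ext x
    obtain ⟨a, rfl⟩ := Ideal.Quotient.mk_surjective x
    rw [RingHom.mem_ker, Ideal.mk_mem_cotangentIdeal]
    show g (Ideal.Quotient.mk (I ^ 2) a) = 0 ↔ a ∈ I
    rw [hg_mk]
    rfl
  have hg_nil : IsNilpotent (RingHom.ker (g : (A ⧸ I ^ 2) →+* C)) := by
    rw [hg_ker]
    exact ⟨2, Ideal.cotangentIdeal_square I⟩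
  let σ : B →ₐ[A] (A ⧸ I ^ 2) :=
    Algebra.FormallySmooth.liftOfSurjective (IsScalarTower.toAlgHom A B C) g hg_surj hg_nil
  have hσ : ∀ b : B, g (σ b) = algebraMap B C b := fun b =>
    Algebra.FormallySmooth.liftOfSurjective_apply (IsScalarTower.toAlgHom A B C) g hg_surj hg_nil b
  have hσJ : ∀ j : J, σ j ∈ I.cotangentIdeal := by
    intro j
    rw [← hg_ker, RingHom.mem_ker]
    show g (σ j) = 0
    rw [hσ]
    exact j.2
  let f : J →ₗ[A] I.cotangentIdeal :=
    { toFun := fun j => ⟨σ j, hσJ j⟩
      map_add' := fun x y => by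
        apply Subtype.ext
        simp
      map_smul' := fun a x => by
        apply Subtype.ext
        simp [Algebra.smul_def] }
  have hf : ∀ x y : J, f (x * y) = 0 := by
    intro x y
    apply Subtype.ext
    show σ ((x : B) * (y : B)) = 0
    rw [map_mul]
    have : σ x * σ y ∈ I.cotangentIdeal * I.cotangentIdeal := Ideal.mul_mem_mul (hσJ x) (hσJ y)
    rw [← pow_two, Ideal.cotangentIdeal_square] at this
    exact this
  let r : J.Cotangent →ₗ[A] I.Cotangent :=
    I.cotangentEquivIdeal.symm.toLinearMap ∘ₗ Ideal.Cotangent.lift f hf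
  have hr : r ∘ₗ (Ideal.mapCotangent I J (Algebra.ofId A B) hIJ) = LinearMap.id := by
    apply LinearMap.ext
    intro x
    obtain ⟨a, rfl⟩ := Ideal.toCotangent_surjective _ x
    rw [LinearMap.comp_apply, Ideal.mapCotangent_toCotangent, LinearMap.id_apply]
    show I.cotangentEquivIdeal.symm (Ideal.Cotangent.lift f hf (J.toCotangent _)) = _
    rw [Ideal.Cotangent.lift_toCotangent, LinearEquiv.symm_apply_eq]
    apply Subtype.ext
    show σ (Algebra.ofId A B a) = _
    rw [Ideal.cotangentEquivIdeal_apply, Ideal.toCotangent_to_quotient_square]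
    show σ (algebraMap A B a) = _
    rw [AlgHom.commutes]
    rfl
  have hinj : Function.Injective (Ideal.mapCotangent I J (Algebra.ofId A B) hIJ) := by
    intro x y hxy
    have := congrArg r hxy
    rw [← LinearMap.comp_apply, ← LinearMap.comp_apply, hr] at this
    exact this
  have hexact := Groth.Agent.S9178.result A B C hC hIJ
  have hsurjBC : Function.Surjective (algebraMap B C) := by
    intro c
    obtain ⟨a, rfl⟩ := hC c
    exact ⟨algebraMap A B a, (IsScalarTower.algebraMap_apply A B C a).symm⟩
  refine ⟨hinj, ⟨r, hr⟩, ?_, ?_⟩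
  · ext y
    rw [LinearMap.mem_range, LinearMap.mem_ker]
    exact (hexact y).symm
  · have hex2 := KaehlerDifferential.exact_kerCotangentToTensor_mapBaseChange A B C hsurjBC
    haveI : Subsingleton (Ω[C⁄A]) := KaehlerDifferential.subsingleton_of_surjective A C hC
    intro y
    exact (hex2 y).1 (Subsingleton.elim _ _)

end Groth.Agent.S9450
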