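import Groth.Statements.S9452
import Groth.Agent.Lib.Helper16.Alg.UnrSplit

set_option autoImplicit false
universe u
open Unram

namespace Groth.Agent.S9452

open TensorProduct in
/-- Let R → S be of finite type and unramified at a prime q lying over p. Then there are an étale
R-algebra R', a prime p' of R' over p and an R'-algebra isomorphism e : R' ⊗_R S ≅ A × B with R' → A
surjective and p'A a prime ideal of A lying over p' whose pull-back along S → R' ⊗_R S ≅ A × B → A
is q. -/
theorem result (R : Type u) [CommRing R]
    (S : Type u) [CommRing S] [Algebra R S] [Algebra.FiniteType R S] (q : Ideal S) [q.IsPrime]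
    [Algebra.IsUnramifiedAt R q] :
    ∃ (R' : Type u) (_ : CommRing R') (_ : Algebra R R') (_ : Algebra.Etale R R') (p' : Ideal R')
      (_ : p'.IsPrime) (_ : p'.LiesOver (q.under R)) (A : Type u) (_ : CommRing A) (_ : Algebra R' A)
      (B : Type u) (_ : CommRing B) (_ : Algebra R' B) (e : (R' ⊗[R] S) ≃ₐ[R'] (A × B)),
      Function.Surjective (algebraMap R' A) ∧ (p'.map (algebraMap R' A)).IsPrime ∧
        (p'.map (algebraMap R' A)).comap (algebraMap R' A) = p' ∧
        (p'.map (algebraMap R' A)).comap (((RingHom.fst A B).comp e.toRingHom).comp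
          (Algebra.TensorProduct.includeRight : S →ₐ[R] R' ⊗[R] S).toRingHom) = q := by
  obtain ⟨g, hgq, P, φ, hφ⟩ :=
    Algebra.IsUnramifiedAt.exists_hasStandardEtaleSurjectionOn (R := R) q
  letI : Algebra P.Ring (Localization.Away g) := φ.toRingHom.toAlgebra
  haveI : IsScalarTower R P.Ring (Localization.Away g) :=
    IsScalarTower.of_algebraMap_eq' φ.comp_algebraMap.symm
  obtain ⟨e, he, hker⟩ := Groth.Agent.Helper16.UnrSplit.exists_idem g φ hφ
  let piE : P.Ring ⊗[R] S →ₐ[P.Ring] Localization.Away g :=
    Algebra.TensorProduct.lift (Algebra.ofId P.Ring (Localization.Away g))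
      (IsScalarTower.toAlgHom R S (Localization.Away g)) (fun _ _ => Commute.all _ _)
  have hpiE : ∀ t, piE t = Groth.Agent.Helper16.UnrSplit.pi S φ t := by
    intro t
    induction t with
    | zero => simp
    | add a b ha hb => rw [map_add, map_add, ha, hb]
    | tmul x s =>
      simp only [piE, Algebra.TensorProduct.lift_tmul, Groth.Agent.Helper16.UnrSplit.pi_tmul]
      rfl
  have hsurj : Function.Surjective piE := fun y => by
    obtain ⟨t, ht⟩ := Groth.Agent.Helper16.UnrSplit.pi_surjective g φ hφ y
    exact ⟨t, (hpiE t).trans ht⟩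
  have hkerE : RingHom.ker piE = Ideal.span {e} := by
    rw [← hker]
    ext t
    simp only [RingHom.mem_ker]
    rw [hpiE]
  obtain ⟨B, _, _, F, hF⟩ := Groth.Agent.Helper16.UnrSplit.exists_algEquiv_prod_of_ker_eq_span piE hsurj e he hkerE
  have hdisj : Disjoint (Submonoid.powers g : Set S) (q : Set S) := by
    rw [Ideal.disjoint_powers_iff_notMem_of_isPrime]
    exact hgq
  let qg : Ideal (Localization.Away g) := q.map (algebraMap S (Localization.Away g))
  haveI hqg : qg.IsPrime :=
    IsLocalization.isPrime_of_isPrime_disjoint (Submonoid.powers g) _ _ ‹_› hdisj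
  have hqgq : qg.comap (algebraMap S (Localization.Away g)) = q :=
    IsLocalization.comap_map_of_isPrime_disjoint (Submonoid.powers g) _ ‹_› hdisj
  let p' : Ideal P.Ring := qg.comap φ
  haveI : p'.IsPrime := Ideal.comap_isPrime _ _
  have halg : algebraMap P.Ring (Localization.Away g) = φ.toRingHom := RingHom.algebraMap_toAlgebra _
  have hmap : p'.map (algebraMap P.Ring (Localization.Away g)) = qg := by
    rw [halg]
    exact Ideal.map_comap_of_surjective φ hφ qg
  have hlo : p'.LiesOver (q.under R) := by
    constructor
    show q.comap (algebraMap R S) = (qg.comap φ).comap (algebraMap R P.Ring)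
    rw [← hqgq, Ideal.comap_comap]
    ext r
    simp only [Ideal.mem_comap, RingHom.comp_apply]
    rw [← IsScalarTower.algebraMap_apply, ← φ.commutes r]
  refine ⟨P.Ring, inferInstance, inferInstance, inferInstance, p', inferInstance, hlo,
    Localization.Away g, inferInstance, inferInstance, B, inferInstance, inferInstance, F,
    ?_, ?_, ?_, ?_⟩
  · rw [halg]; exact hφ
  · rw [hmap]; exact hqg
  · rw [hmap, halg]; rfl
  · rw [hmap, ← hqgq]
    congr 1
    refine RingHom.ext fun s => ?_
    show (F (1 ⊗ₜ s)).1 = algebraMap S (Localization.Away g) s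
    rw [hF, hpiE, Groth.Agent.Helper16.UnrSplit.pi_tmul, map_one, one_mul]

end Groth.Agent.S9452
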