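import Groth.Statements.S9457
import Groth.Agent.Lib.Helper16.Alg.QFSplit
import Groth.Agent.Lib.Helper16.Alg.QFDescent
import Groth.Agent.Lib.Helper16.Alg.ResEW

set_option autoImplicit false
universe u
open CAlg

namespace Groth.Agent.S9457

open TensorProduct in
/-- For a finite type ring map R → S and a prime p of R there are an étale R-algebra R', a prime p' of
R' over p with trivial residue field extension κ(p) = κ(p') (the image of R generates κ(p') as a
field), and a decomposition R' ⊗_R S ≅ A_1 × ⋯ × A_n × B of R'-algebras in which every A_i is finite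
over R' with exactly one prime lying over p' and R' → B is quasi-finite at no prime of B lying over
p'. -/
theorem result (R : Type u) [CommRing R]
    (S : Type u) [CommRing S] [Algebra R S] [Algebra.FiniteType R S] (p : Ideal R) [p.IsPrime] :
    ∃ (R' : Type u) (_ : CommRing R') (_ : Algebra R R') (_ : Algebra.Etale R R') (p' : Ideal R')
      (_ : p'.IsPrime) (_ : p'.LiesOver p) (n : ℕ) (A : Fin n → Type u) (_ : ∀ i, CommRing (A i))
      (_ : ∀ i, Algebra R' (A i)) (B : Type u) (_ : CommRing B) (_ : Algebra R' B),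
      Subfield.closure (Set.range (algebraMap R p'.ResidueField)) = ⊤ ∧
      Nonempty ((R' ⊗[R] S) ≃ₐ[R'] ((∀ i, A i) × B)) ∧
        (∀ i, Module.Finite R' (A i) ∧
          ∃! r : Ideal (A i), r.IsPrime ∧ r.comap (algebraMap R' (A i)) = p') ∧
        ∀ (q : Ideal B) [q.IsPrime], q.comap (algebraMap R' B) = p' →
          ¬ Algebra.QuasiFiniteAt R' q := by
  classical
  obtain ⟨T, hT⟩ : ∃ T : Set (Ideal S), T = {q : Ideal S | ∃ (_ : q.IsPrime),
      q.comap (algebraMap R S) = p ∧ Algebra.QuasiFiniteAt R q} := ⟨_, rfl⟩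
  have hTfin : T.Finite := by
    rw [hT]
    exact Groth.Agent.Helper16.QFDescent.finite_qf_primes R S p
  obtain ⟨R', _, _, _, p', _, _, hbij, hdec⟩ :=
    Groth.Agent.Helper16.QFSplit.exists_qfDec T.ncard R S p T hTfin rfl
      (fun q hq => by rw [hT] at hq; exact hq)
  obtain ⟨J, _, Aj, _, _, B, _, _, E, hpieces, hrest⟩ := hdec
  obtain ⟨n, ⟨ε⟩⟩ := Finite.exists_equiv_fin J
  refine ⟨R', inferInstance, inferInstance, inferInstance, p', inferInstance, inferInstance, n,
    fun i => Aj (ε.symm i), fun i => inferInstance, fun i => inferInstance, B, inferInstance,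
    inferInstance, ?_, ?_, ?_, ?_⟩
  · rw [eq_top_iff]
    intro z _
    obtain ⟨c, rfl⟩ := hbij.2 z
    obtain ⟨a, b, hb, hab⟩ := Groth.Agent.Helper16.ResEW.exists_frac p c
    have hne : algebraMap R p.ResidueField b ≠ 0 := by
      rw [Ne, Ideal.algebraMap_residueField_eq_zero]
      exact hb
    have hc : c = algebraMap R p.ResidueField a / algebraMap R p.ResidueField b := by
      rw [eq_div_iff hne, hab]
    rw [hc, map_div₀, AlgHom.commutes, AlgHom.commutes]
    exact Subfield.div_mem _ (Subfield.subset_closure ⟨a, rfl⟩) (Subfield.subset_closure ⟨b, rfl⟩)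
  · exact ⟨E.trans (AlgEquiv.prodCongr (AlgEquiv.piCongrLeft' R' Aj ε) AlgEquiv.refl)⟩
  · intro i
    obtain ⟨hfin, r, hr, hrp, hruniq, -⟩ := hpieces (ε.symm i)
    exact ⟨hfin, r, ⟨hr, hrp⟩, fun r' hr' => hruniq r' hr'.1 hr'.2⟩
  · intro Q hQ hQp hQF
    apply hrest Q hQ hQp
    rw [hT]
    let φ : R' ⊗[R] S →ₐ[R'] B := (AlgHom.snd R' (∀ j, Aj j) B).comp E.toAlgHom
    have hφ : Function.Surjective φ := by
      intro b
      obtain ⟨t, ht⟩ := E.surjective (0, b)
      refine ⟨t, ?_⟩
      show (E t).2 = b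
      rw [ht]
    have hker : ∀ c, φ c = 0 → ∃ s, φ s = 1 ∧ s * c = 0 := by
      intro c hc
      refine ⟨E.symm (0, 1), ?_, ?_⟩
      · show (E (E.symm (0, 1))).2 = 1
        rw [AlgEquiv.apply_symm_apply]
      · apply E.injective
        rw [map_mul, AlgEquiv.apply_symm_apply, map_zero]
        have hc' : (E c).2 = 0 := hc
        ext
        · simp
        · simp [hc']
    haveI : (Q.comap φ.toRingHom).IsPrime := Ideal.comap_isPrime _ _
    haveI : Algebra.QuasiFiniteAt R' (Q.comap φ.toRingHom) :=
      Groth.Agent.Helper16.QFDescent.quasiFiniteAt_of_directFactor φ hφ hker Q _ rfl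
    haveI : (Q.comap φ.toRingHom).LiesOver p' := by
      constructor
      rw [Ideal.under, Ideal.comap_comap, ← hQp]
      congr 1
      exact (φ.comp_algebraMap).symm
    have hqprime : (Q.comap (Groth.Agent.Helper16.QFSplit.toRest E)).IsPrime :=
      Ideal.comap_isPrime _ _
    have hqf := Groth.Agent.Helper16.QFDescent.quasiFiniteAt_of_bijective p p' hbij
      (Q.comap φ.toRingHom) (Q.comap (Groth.Agent.Helper16.QFSplit.toRest E))
      (by rw [Ideal.comap_comap]; rfl)
    refine ⟨hqprime, ?_, hqf⟩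
    rw [Ideal.comap_comap, Groth.Agent.Helper16.QFSplit.toRest_comp_algebraMap E,
      ← Ideal.comap_comap, hQp]
    exact (Ideal.over_def p' p).symm

end Groth.Agent.S9457
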