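import Groth.Statements.S9464
import Mathlib
-- import your own Groth.Agent.* helpers here

set_option autoImplicit false
universe u
open OmegaSh

namespace Groth.Agent.S9464

/-- Let A → B be formally unramified, π : B' → B a universal first order thickening of B relative to A,
S ⊆ B a multiplicative subset and S' = π⁻¹(S) ⊆ B'. With B_S the localization of B at S, B'_{S'} the
localization of B' at S' (both as A-algebras) and π' : B'_{S'} → B_S the A-algebra map induced by π,
the map π' is a universal first order thickening of B_S relative to A. (The published statement adds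
the consequence that the conormal module localizes accordingly.) -/
theorem result (A B B' : Type u) [CommRing A] [CommRing B]
    [CommRing B'] [Algebra A B] [Algebra.FormallyUnramified A B] [Algebra A B'] (π : B' →ₐ[A] B)
    (hπ : OmegaSh.IsUnivThickeningRing A B B' π) (S : Submonoid B)
    (BS B'S : Type u) [CommRing BS] [CommRing B'S]
    [Algebra B BS] [IsLocalization S BS]
    [Algebra B' B'S] [IsLocalization (S.comap π.toRingHom.toMonoidHom) B'S]
    [Algebra A BS] [IsScalarTower A B BS] [Algebra A B'S] [IsScalarTower A B' B'S]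
    (πS : B'S →ₐ[A] BS) (hπS : ∀ x : B', πS (algebraMap B' B'S x) = algebraMap B BS (π x)) :
    OmegaSh.IsUnivThickeningRing A BS B'S πS := by
  classical
  obtain ⟨hsurj, hker, huniv⟩ := hπ
  let S' : Submonoid B' := S.comap π.toRingHom.toMonoidHom
  have hS' : ∀ x : B', x ∈ S' ↔ π x ∈ S := fun x => Iff.rfl
  have hkerπ : ∀ k₁ ∈ RingHom.ker π.toRingHom, ∀ k₂ ∈ RingHom.ker π.toRingHom, k₁ * k₂ = 0 := by
    intro k₁ h₁ k₂ h₂
    have : k₁ * k₂ ∈ RingHom.ker π.toRingHom ^ 2 := by
      rw [pow_two]; exact Ideal.mul_mem_mul h₁ h₂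
    rw [hker] at this
    exact this
  -- description of the kernel of πS
  have hkerS : ∀ x ∈ RingHom.ker πS.toRingHom, ∃ (k : B') (s : S'), k ∈ RingHom.ker π.toRingHom ∧
      x = IsLocalization.mk' B'S k s := by
    intro x hx
    obtain ⟨b', s', rfl⟩ := IsLocalization.exists_mk'_eq S' x
    have h1 : πS (IsLocalization.mk' B'S b' s') * algebraMap B BS (π s') = algebraMap B BS (π b') := by
      rw [← hπS, ← hπS, ← map_mul, IsLocalization.mk'_spec]
    have h0 : πS (IsLocalization.mk' B'S b' s') = 0 := hx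
    rw [h0, zero_mul] at h1
    obtain ⟨t, ht⟩ := (IsLocalization.map_eq_zero_iff S BS (π b')).mp h1.symm
    obtain ⟨t', ht'⟩ := hsurj t
    have ht'S : t' ∈ S' := by rw [hS', ht']; exact t.2
    refine ⟨t' * b', ⟨t', ht'S⟩ * s', ?_, ?_⟩
    · change π (t' * b') = 0
      rw [map_mul, ht', ht]
    · rw [IsLocalization.mk'_eq_iff_eq]
      simp only [Submonoid.coe_mul]
      congr 1
      ring
  refine ⟨?_, ?_, ?_⟩
  · intro y
    obtain ⟨b, s, rfl⟩ := IsLocalization.exists_mk'_eq S y
    obtain ⟨b', rfl⟩ := hsurj b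
    obtain ⟨s', hs'⟩ := hsurj s
    have hs'S : s' ∈ S' := by rw [hS', hs']; exact s.2
    refine ⟨IsLocalization.mk' B'S b' ⟨s', hs'S⟩, ?_⟩
    rw [IsLocalization.eq_mk'_iff_mul_eq, ← hs', ← hπS, ← map_mul, IsLocalization.mk'_spec, hπS]
  · rw [eq_bot_iff, pow_two, Ideal.mul_le]
    intro x hx y hy
    obtain ⟨k₁, s₁, hk₁, rfl⟩ := hkerS x hx
    obtain ⟨k₂, s₂, hk₂, rfl⟩ := hkerS y hy
    rw [← IsLocalization.mk'_mul, hkerπ k₁ hk₁ k₂ hk₂, IsLocalization.mk'_zero]
    exact Ideal.zero_mem _
  · intro C _ _ I hI a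
    let ι : B →ₐ[A] BS := IsScalarTower.toAlgHom A B BS
    obtain ⟨a₀, ha₀, ha₀u⟩ := huniv C I hI (a.comp ι)
    have ha₀' : ∀ x : B', Ideal.Quotient.mk I (a₀ x) = a (algebraMap B BS (π x)) := fun x =>
      DFunLike.congr_fun ha₀ x
    have hunit : ∀ s : S', IsUnit (a₀ s) := by
      intro s
      have h1 : IsUnit (Ideal.Quotient.mk I (a₀ s)) := by
        rw [ha₀']
        exact (IsLocalization.map_units BS (⟨π s, s.2⟩ : S)).map a
      have hnil : I ≤ nilradical C := by
        intro z hz
        refine ⟨2, ?_⟩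
        have : z ^ 2 ∈ I ^ 2 := Ideal.pow_mem_pow hz 2
        rw [hI] at this
        exact this
      exact (IsNilpotent.isUnit_quotient_mk_iff (I := I) ⟨2, hI⟩).mp h1
    let a' : B'S →ₐ[A] C := IsLocalization.liftAlgHom (M := S') (f := a₀) hunit
    have ha'alg : ∀ x : B', a' (algebraMap B' B'S x) = a₀ x := fun x => IsLocalization.lift_eq _ _
    refine ⟨a', ?_, ?_⟩
    · apply AlgHom.coe_ringHom_injective
      apply IsLocalization.ringHom_ext S'
      ext x
      simp only [AlgHom.coe_ringHom_mk, RingHom.coe_comp, Function.comp_apply, AlgHom.coe_comp,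
        RingHom.coe_coe, Ideal.Quotient.mkₐ_eq_mk]
      rw [ha'alg, ha₀', hπS]
    · intro a'' ha''
      have h1 : a''.comp (IsScalarTower.toAlgHom A B' B'S) = a₀ := by
        apply ha₀u
        ext x
        have := DFunLike.congr_fun ha'' (algebraMap B' B'S x)
        simp only [AlgHom.comp_apply, Ideal.Quotient.mkₐ_eq_mk] at this ⊢
        rw [IsScalarTower.coe_toAlgHom', this, hπS]
        rfl
      apply AlgHom.coe_ringHom_injective
      apply IsLocalization.ringHom_ext S'
      ext x
      simp only [RingHom.coe_comp, Function.comp_apply, RingHom.coe_coe]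
      rw [ha'alg, ← h1]
      rfl

end Groth.Agent.S9464
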