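import Groth.Statements.S9463
import Mathlib
import Groth.Agent.S9464
-- import your own Groth.Agent.* helpers here

set_option autoImplicit false
universe u
open OmegaSh

namespace Groth.Agent.S9463

/-- Let A → B be formally unramified, π : B' → B a universal first order thickening of B relative to A,
and S ⊆ A a multiplicative subset. Localizing everything at S (A_S, B_S and B'_S with compatible
algebra structures, π_S : B'_S → B_S the A_S-algebra map induced by π), the map π_S is a universal
first order thickening of B_S relative to A_S. (The published statement adds the consequence that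
the conormal module localizes accordingly.) -/
theorem result (A B B' : Type u) [CommRing A] [CommRing B]
    [CommRing B'] [Algebra A B] [Algebra.FormallyUnramified A B] [Algebra A B'] (π : B' →ₐ[A] B)
    (hπ : OmegaSh.IsUnivThickeningRing A B B' π) (S : Submonoid A)
    (AS BS B'S : Type u) [CommRing AS] [CommRing BS] [CommRing B'S]
    [Algebra A AS] [IsLocalization S AS]
    [Algebra B BS] [IsLocalization (Algebra.algebraMapSubmonoid B S) BS]
    [Algebra B' B'S] [IsLocalization (Algebra.algebraMapSubmonoid B' S) B'S]
    [Algebra AS BS] [Algebra A BS] [IsScalarTower A AS BS] [IsScalarTower A B BS]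
    [Algebra AS B'S] [Algebra A B'S] [IsScalarTower A AS B'S] [IsScalarTower A B' B'S]
    (πS : B'S →ₐ[AS] BS) (hπS : ∀ x : B', πS (algebraMap B' B'S x) = algebraMap B BS (π x)) :
    OmegaSh.IsUnivThickeningRing AS BS B'S πS := by
  classical
  have hπ0 := hπ
  obtain ⟨hsurj, hker, huniv⟩ := hπ
  let SB : Submonoid B := Algebra.algebraMapSubmonoid B S
  have hkerπ : ∀ k₁ ∈ RingHom.ker π.toRingHom, ∀ k₂ ∈ RingHom.ker π.toRingHom, k₁ * k₂ = 0 := by
    intro k₁ h₁ k₂ h₂
    have : k₁ * k₂ ∈ RingHom.ker π.toRingHom ^ 2 := by
      rw [pow_two]; exact Ideal.mul_mem_mul h₁ h₂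
    rw [hker] at this
    exact this
  haveI hloc : IsLocalization (SB.comap π.toRingHom.toMonoidHom) B'S := by
    refine IsLocalization.of_le (M := Algebra.algebraMapSubmonoid B' S) _ ?_ ?_
    · rintro x ⟨s, hs, rfl⟩
      change π (algebraMap A B' s) ∈ SB
      rw [AlgHom.commutes]
      exact ⟨s, hs, rfl⟩
    · intro x hx
      obtain ⟨s, hs, hsx⟩ : ∃ s ∈ S, algebraMap A B s = π x := hx
      have hk : x - algebraMap A B' s ∈ RingHom.ker π.toRingHom := by
        change π (x - algebraMap A B' s) = 0
        rw [map_sub, AlgHom.commutes, hsx, sub_self]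
      have hnil : IsNilpotent (algebraMap B' B'S (x - algebraMap A B' s)) := by
        refine ⟨2, ?_⟩
        rw [← map_pow, pow_two, hkerπ _ hk _ hk, map_zero]
      have hu : IsUnit (algebraMap B' B'S (algebraMap A B' s)) :=
        IsLocalization.map_units B'S
          (⟨algebraMap A B' s, ⟨s, hs, rfl⟩⟩ : Algebra.algebraMapSubmonoid B' S)
      have : algebraMap B' B'S x = algebraMap B' B'S (algebraMap A B' s) +
          algebraMap B' B'S (x - algebraMap A B' s) := by
        rw [← map_add]; congr 1; ring
      rw [this]
      exact IsNilpotent.isUnit_add_left_of_commute hnil hu (Commute.all _ _)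
  have key := Groth.Agent.S9464.result A B B' π hπ0 SB BS B'S (πS.restrictScalars A) hπS
  obtain ⟨hsurjS, hkerS, hunivS⟩ := key
  refine ⟨hsurjS, hkerS, ?_⟩
  intro C _ _ I hI a
  letI : Algebra A C := Algebra.compHom C (algebraMap A AS)
  haveI : IsScalarTower A AS C := IsScalarTower.of_algebraMap_eq (fun _ => rfl)
  obtain ⟨a₀, ha₀, ha₀u⟩ := hunivS C I hI (a.restrictScalars A)
  refine ⟨a₀.extendScalarsOfIsLocalization AS S, ?_, ?_⟩
  · ext x
    exact DFunLike.congr_fun ha₀ x
  · intro a'' ha''
    have h1 : a''.restrictScalars A = a₀ := by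
      apply ha₀u
      ext x
      exact DFunLike.congr_fun ha'' x
    ext x
    exact DFunLike.congr_fun h1 x

end Groth.Agent.S9463
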