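import Groth.Statements.S9485
import Mathlib
import Groth.Agent.Lib.Helper14.Punct1
import Groth.Agent.Lib.Helper23.FEtComp
-- import your own Groth.Agent.* helpers here

set_option autoImplicit false
universe u
open Pi1

namespace Groth.Agent.S9485

open CategoryTheory CategoryTheory.Limits AlgebraicGeometry in
theorem meets (A : Type u) [CommRing A] [IsNoetherianRing A] [IsLocalRing A] (f : A) (hf : f ∈ IsLocalRing.maximalIdeal A)
    (U' : (Spec (CommRingCat.of A)).Opens) (hU' : U' ≤ FEt.puncturedSpec A)
    (u' : pullback (FEt.puncturedSpec A).ι (Spec.map (CommRingCat.ofHom (Ideal.Quotient.mk (Ideal.span {f})))) ⟶ (U' : Scheme.{u})) (hu' : u' ≫ U'.ι = (pullback.fst (FEt.puncturedSpec A).ι (Spec.map (CommRingCat.ofHom (Ideal.Quotient.mk (Ideal.span {f})))) ≫ (FEt.puncturedSpec A).ι))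
    (hdim : ∀ p : PrimeSpectrum A, p.asIdeal ∈ minimalPrimes A → p ∈ U' → f ∉ p.asIdeal →
      (2 : WithBot ℕ∞) ≤ ringKrullDim (A ⧸ p.asIdeal))
    (y : ↥(U' : Scheme.{u})) : (connectedComponent y ∩ Set.range u'.base).Nonempty := by
  let q : PrimeSpectrum A := y.1
  obtain ⟨p, hpmin, hpq⟩ := Ideal.exists_minimalPrimes_le (bot_le : ⊥ ≤ q.asIdeal)
  haveI hpprime : p.IsPrime := hpmin.1.1
  let xp : PrimeSpectrum A := ⟨p, hpprime⟩
  have hspec : xp ⤳ q := (PrimeSpectrum.le_iff_specializes xp q).mp hpq
  have hxpU' : xp ∈ U' := hspec.mem_open U'.2 y.2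
  -- the target point
  obtain ⟨xP, hpP, hfP, hPU⟩ : ∃ xP : PrimeSpectrum A, xp ⤳ xP ∧ f ∈ xP.asIdeal ∧
      xP ∈ FEt.puncturedSpec A := by
    by_cases hfp : f ∈ p
    · exact ⟨xp, specializes_rfl, hfp, hU' hxpU'⟩
    · obtain ⟨P, hPprime, hpP, hfP, hPne⟩ :=
        Groth.Agent.Helper14.Punct1.exists_prime_ne_maximal A f hf p
          (hdim xp hpmin hxpU' hfp)
      refine ⟨⟨P, hPprime⟩, (PrimeSpectrum.le_iff_specializes xp ⟨P, hPprime⟩).mp hpP, hfP, ?_⟩
      intro h
      apply hPne
      have h2 : (⟨P, hPprime⟩ : PrimeSpectrum A) = IsLocalRing.closedPoint A := h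
      exact congrArg PrimeSpectrum.asIdeal h2
  -- xP is in the range of the closed immersion
  have hrange : xP ∈ Set.range (Spec.map (CommRingCat.ofHom (Ideal.Quotient.mk (Ideal.span {f})))).base := by
    have h1 : xP ∈ Set.range (PrimeSpectrum.comap (Ideal.Quotient.mk (Ideal.span {f}))) := by
      rw [_root_.range_comap_of_surjective _ _ Ideal.Quotient.mk_surjective,
        Ideal.mk_ker, PrimeSpectrum.mem_zeroLocus, SetLike.coe_subset_coe, Ideal.span_le,
        Set.singleton_subset_iff]
      exact hfP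
    exact h1
  let z0 : ↥((FEt.puncturedSpec A : (Spec (CommRingCat.of A)).Opens) : Scheme.{u}) := ⟨xP, hPU⟩
  have hz0 : z0 ∈ Set.range (pullback.fst (FEt.puncturedSpec A).ι
      (Spec.map (CommRingCat.ofHom (Ideal.Quotient.mk (Ideal.span {f}))))).base := by
    rw [Scheme.Pullback.range_fst]
    exact hrange
  obtain ⟨z, hz⟩ := hz0
  have hz' : (U'.ι.base (u'.base z) : PrimeSpectrum A) = xP := by
    have := congrArg (fun φ => φ.base z) hu'
    simp only [Scheme.Hom.comp_base, TopCat.comp_app] at this
    rw [this, hz]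
    rfl
  let yp : ↥(U' : Scheme.{u}) := ⟨xp, hxpU'⟩
  have hind : Topology.IsInducing U'.ι.base := U'.ι.isOpenEmbedding.isInducing
  have h1 : yp ⤳ y := hind.specializes_iff.mp hspec
  have h2 : yp ⤳ u'.base z := by
    apply hind.specializes_iff.mp
    rw [hz']
    exact hpP
  have hpre : _root_.IsPreconnected (closure ({yp} : Set ↥(U' : Scheme.{u}))) :=
    isPreconnected_singleton.closure
  have hsub := hpre.subset_connectedComponent (subset_closure (Set.mem_singleton yp))
  have hy : y ∈ connectedComponent yp := hsub (specializes_iff_mem_closure.mp h1)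
  have hz2 : u'.base z ∈ connectedComponent yp := hsub (specializes_iff_mem_closure.mp h2)
  rw [← connectedComponent_eq hy]
  exact ⟨u'.base z, hz2, ⟨z, rfl⟩⟩

open AlgebraicGeometry CategoryTheory CategoryTheory.Limits in
/-- Let A be a Noetherian local ring with maximal ideal m and f ∈ m, U the punctured spectrum of A and
U₀ that of A/fA (realised as U ×_{Spec A} Spec(A/fA)). Let U' ⊆ U be an open through which U₀ ⟶ Spec
A factors (as u'). If dim(A/p) ≥ 2 for every minimal prime p of A which lies in U' and does not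
contain f, then restriction of finite etale covers along u' is faithful. (Such U' exist, e.g. the
complement in U of the one-dimensional irreducible components not meeting U₀, and the condition
passes to smaller such opens, so restriction from the system of these opens is faithful.) -/
theorem result (A : Type u) [CommRing A] [IsNoetherianRing A] [IsLocalRing A] (f : A) (hf : f ∈ IsLocalRing.maximalIdeal A)
    (U' : (Spec (CommRingCat.of A)).Opens) (hU' : U' ≤ FEt.puncturedSpec A)
    (u' : pullback (FEt.puncturedSpec A).ι (Spec.map (CommRingCat.ofHom (Ideal.Quotient.mk (Ideal.span {f})))) ⟶ (U' : Scheme.{u})) (hu' : u' ≫ U'.ι = (pullback.fst (FEt.puncturedSpec A).ι (Spec.map (CommRingCat.ofHom (Ideal.Quotient.mk (Ideal.span {f})))) ≫ (FEt.puncturedSpec A).ι))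
    (hdim : ∀ p : PrimeSpectrum A, p.asIdeal ∈ minimalPrimes A → p ∈ U' → f ∉ p.asIdeal →
      (2 : WithBot ℕ∞) ≤ ringKrullDim (A ⧸ p.asIdeal)) :
    (FEt.restrict u').Faithful := by
  refine ⟨fun {R R'} a b hab => ?_⟩
  haveI : IsFinite R.hom := R.prop.1
  haveI : Etale R.hom := R.prop.2
  haveI : IsFinite R'.hom := R'.prop.1
  haveI : Etale R'.hom := R'.prop.2
  have key := Groth.Agent.Helper23.FEtComp.eq_of_pullback_fst_comp_eq u'
    (meets A f hf U' hU' u' hu' hdim) R.toComma R'.toComma a.hom b.hom ?_
  · ext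
    exact congrArg CommaMorphism.left key
  · have := congrArg (fun φ => φ.left ≫ CategoryTheory.Limits.pullback.fst R'.hom u') hab
    simp only [FEt.restrict, MorphismProperty.Over.pullback, MorphismProperty.Over.homMk_hom,
      Over.homMk_left] at this
    rw [CategoryTheory.Limits.pullback.lift_fst, CategoryTheory.Limits.pullback.lift_fst] at this
    exact this

end Groth.Agent.S9485
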