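import Groth.Statements.S9491
import Mathlib
import Groth.Agent.Lib.Helper14.NormGen2
-- import your own Groth.Agent.* helpers here

set_option autoImplicit false
universe u
open Pi1

namespace Groth.Agent.S9491

open AlgebraicGeometry CategoryTheory CategoryTheory.Limits in
/-- The essential image of restriction of finite etale covers from a normal integral scheme X to its
generic point Spec K consists of the finite etale K-schemes whose points are spectra of finite
extensions L of K in which X is unramified. Precisely: let L be a finite field extension of K and Y₀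
the object Spec L → Spec K of the category of finite etale covers of Spec K; then Y₀ is isomorphic
to the restriction of a finite etale cover of X if and only if the normalization of X in Spec L is
finite etale over X. (With full faithfulness of this restriction functor for normal X, this says
that the fundamental group of X is the Galois group of the union M of all finite subextensions of a
separable closure in which X is unramified.) -/
theorem result {X : Scheme.{u}} [IsIntegral X] (hX : Pi1.IsNormalScheme X)
    (L : Type u) [Field L] [Algebra X.functionField L] [FiniteDimensional X.functionField L]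
    [QuasiCompact (Spec.map (CommRingCat.ofHom (algebraMap X.functionField L)) ≫ X.fromSpecStalk (genericPoint X))] [QuasiSeparated (Spec.map (CommRingCat.ofHom (algebraMap X.functionField L)) ≫ X.fromSpecStalk (genericPoint X))]
    (Y₀ : FEt.Cat (Spec X.functionField)) (e : Y₀.left ≅ Spec (CommRingCat.of L))
    (he : e.hom ≫ Spec.map (CommRingCat.ofHom (algebraMap X.functionField L)) = Y₀.hom) :
    (FEt.restrict (X.fromSpecStalk (genericPoint X))).essImage Y₀ ↔
      (Etale (Spec.map (CommRingCat.ofHom (algebraMap X.functionField L)) ≫ X.fromSpecStalk (genericPoint X)).fromNormalization ∧ IsFinite (Spec.map (CommRingCat.ofHom (algebraMap X.functionField L)) ≫ X.fromSpecStalk (genericPoint X)).fromNormalization) := by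
  classical
  constructor
  · -- (⟹)
    rintro ⟨Z, ⟨φ⟩⟩
    haveI : IsFinite Z.hom := Z.prop.1
    haveI : Etale Z.hom := Z.prop.2
    -- the underlying scheme isomorphism
    have hw : φ.hom.left ≫ Y₀.hom = pullback.snd Z.hom (X.fromSpecStalk (genericPoint X)) :=
      MorphismProperty.Over.w φ.hom
    have h12 : φ.hom.left ≫ φ.inv.left = 𝟙 _ := by
      rw [← MorphismProperty.Comma.comp_left, φ.hom_inv_id]; rfl
    have h21 : φ.inv.left ≫ φ.hom.left = 𝟙 _ := by
      rw [← MorphismProperty.Comma.comp_left, φ.inv_hom_id]; rfl
    have hw' : φ.inv.left ≫ pullback.snd Z.hom (X.fromSpecStalk (genericPoint X)) = Y₀.hom := by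
      rw [← hw, ← Category.assoc, h21, Category.id_comp]
    let φ' : pullback Z.hom (X.fromSpecStalk (genericPoint X)) ≅ Y₀.left :=
      ⟨φ.hom.left, φ.inv.left, h12, h21⟩
    let i : Spec (CommRingCat.of L) ≅ pullback Z.hom (X.fromSpecStalk (genericPoint X)) :=
      e.symm ≪≫ φ'.symm
    let t : Spec (CommRingCat.of L) ⟶ Z.left :=
      i.hom ≫ pullback.fst Z.hom (X.fromSpecStalk (genericPoint X))
    have h₂ : i.hom ≫ pullback.snd Z.hom (X.fromSpecStalk (genericPoint X)) =
        Spec.map (CommRingCat.ofHom (algebraMap X.functionField L)) := by
      show (e.inv ≫ φ.inv.left) ≫ _ = _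
      rw [Category.assoc, hw', ← he, ← Category.assoc, e.inv_hom_id, Category.id_comp]
    have hpb : IsPullback t (Spec.map (CommRingCat.ofHom (algebraMap X.functionField L)))
        Z.hom (X.fromSpecStalk (genericPoint X)) := by
      refine IsPullback.of_iso_pullback ⟨?_⟩ i rfl h₂
      rw [← h₂, Category.assoc, Category.assoc, pullback.condition]
    obtain ⟨d, hd⟩ := Groth.Agent.Helper14.NormGen.exists_iso_of_generic_fibre L hX Z.hom t hpb
    rw [← hd]
    exact ⟨inferInstance, inferInstance⟩
  · -- (⟸)
    rintro ⟨hEt, hFin⟩
    let Z : FEt.Cat X := MorphismProperty.Over.mk ⊤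
      (Spec.map (CommRingCat.ofHom (algebraMap X.functionField L)) ≫
        X.fromSpecStalk (genericPoint X)).fromNormalization ⟨hFin, hEt⟩
    refine ⟨Z, ⟨?_⟩⟩
    let c := Groth.Agent.Helper14.NormGen.c (X := X) L
    refine MorphismProperty.Over.isoMk ((asIso c).symm ≪≫ e.symm) ?_
    show (inv c ≫ e.inv) ≫ Y₀.hom = pullback.snd _ _
    rw [Category.assoc, ← he, ← Category.assoc e.inv, e.inv_hom_id, Category.id_comp,
      IsIso.inv_comp_eq]
    exact (Groth.Agent.Helper14.NormGen.c_snd L).symm

end Groth.Agent.S9491
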