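import Groth.Statements.S9497
-- import your own Groth.Agent.* helpers here

set_option autoImplicit false
universe u
open AffSch

namespace Groth.Agent.S9497

open AlgebraicGeometry in
open CategoryTheory Limits in
/-- Let X = Spec A be an affine scheme and F : J → Mod(O_X) a small diagram of quasi-coherent
O_X-modules. Then the colimit of F, computed in the category of all O_X-modules, is quasi-coherent
(this contains the case of arbitrary direct sums). -/
theorem result
    (A : Type u) [CommRing A] {J : Type u} [SmallCategory J]
    (F : J ⥤ (Spec (CommRingCat.of A)).Modules) (hF : ∀ j, Coh.IsQCoh (F.obj j)) :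
    Coh.IsQCoh (colimit F) := by
  let R := CommRingCat.of A
  let G : J ⥤ ModuleCat.{u} R := F ⋙ moduleSpecΓFunctor (R := R)
  have hiso : ∀ j, IsIso (Scheme.Modules.fromTildeΓ (R := R) (F.obj j)) := fun j => by
    haveI : (F.obj j).IsQuasicoherent := hF j
    exact Scheme.Modules.isIso_fromTildeΓ_of_isQuasicoherent (R := R) (F.obj j)
  let α : G ⋙ tilde.functor R ⟶ F :=
    (Functor.associator _ _ _).hom ≫ Functor.whiskerLeft F (Scheme.Modules.fromTildeΓNatTrans (R := R)) ≫
      (Functor.rightUnitor F).hom
  haveI : IsIso α := by
    haveI : ∀ j, IsIso (α.app j) := fun j => by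
      simp only [α, NatTrans.comp_app, Functor.associator_hom_app, Functor.whiskerLeft_app,
        Functor.rightUnitor_hom_app]
      erw [Category.id_comp, Category.comp_id]
      exact hiso j
    exact NatIso.isIso_of_isIso_app α
  haveI : PreservesColimitsOfSize.{u, u} (tilde.functor R) :=
    (tilde.adjunction (R := R)).leftAdjoint_preservesColimits
  let e : colimit F ≅ (tilde.functor R).obj (colimit G) :=
    (HasColimit.isoOfNatIso (asIso α)).symm ≪≫ (preservesColimitIso (tilde.functor R) G).symm
  exact (SheafOfModules.isQuasicoherent (Spec R).ringCatSheaf).prop_of_iso e.symm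
    (by
      show SheafOfModules.IsQuasicoherent (tilde (R := R) (colimit G))
      infer_instance)

end Groth.Agent.S9497
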