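import Groth.Statements.S9500
import Mathlib
-- import your own Groth.Agent.* helpers here

set_option autoImplicit false
universe u
open SchMor

namespace Groth.Agent.S9500

section
open AlgebraicGeometry CategoryTheory Limits

/-- mono into a one-point integral scheme from a nonempty scheme is an iso -/
lemma isIso_of_mono_of_nonempty {Y S : Scheme.{u}} [Subsingleton S] [IsIntegral S]
    (f : Y ⟶ S) [Mono f] [Nonempty Y] : IsIso f := by
  have hsub : Subsingleton Y := ⟨fun a b => f.injective (Subsingleton.elim _ _)⟩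
  have : Surjective f := ⟨fun s => ⟨Classical.arbitrary Y, Subsingleton.elim _ _⟩⟩
  have : QuasiCompact f := ⟨fun U hU hc => (Set.toFinite _).isCompact⟩
  exact Flat.isIso_of_surjective_of_mono f

lemma isOpenImmersion_of_mono_of_subsingleton {Y S : Scheme.{u}} [Subsingleton S] [IsIntegral S]
    (f : Y ⟶ S) [Mono f] : IsOpenImmersion f := by
  by_cases h : Nonempty Y
  · have := isIso_of_mono_of_nonempty f
    infer_instance
  · have : IsEmpty Y := not_nonempty_iff.mp h
    infer_instance

lemma exists_sigmaι {σ : Type u} (h : σ → Scheme.{u}) (z : ↥(∐ h)) :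
    ∃ (i : σ) (w : h i), Sigma.ι h i w = z := by
  obtain ⟨w, hw⟩ := (sigmaOpenCover h).covers z
  exact ⟨(sigmaOpenCover h).idx z, w, hw⟩

theorem general {ι : Type u} (g : ι → Scheme.{u}) [∀ i, Subsingleton (g i)]
    [∀ i, IsIntegral (g i)] {Y : Scheme.{u}} (f : Y ⟶ ∐ g) [Mono f] :
    ∃ (J : Set ι) (e : Y ≅ ∐ fun j : J => g j.1),
      e.hom ≫ Sigma.desc (fun j : J => Sigma.ι g j.1) = f := by
  have hf : IsOpenImmersion f := by
    refine IsZariskiLocalAtTarget.of_openCover (P := @IsOpenImmersion) (sigmaOpenCover g) (fun i => ?_)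
    change IsOpenImmersion (pullback.snd f (Sigma.ι g i))
    exact isOpenImmersion_of_mono_of_subsingleton _
  let J : Set ι := {i | ∃ (y : Y) (x : g i), f y = Sigma.ι g i x}
  have hdisj : Pairwise (Function.onFun Disjoint
      (fun j : J => Set.range (Sigma.ι g j.1))) := by
    intro j j' hne
    have := disjoint_opensRange_sigmaι g j.1 j'.1 (fun h => hne (Subtype.ext h))
    simpa [Function.onFun_apply, disjoint_iff, TopologicalSpace.Opens.ext_iff] using this
  have hg' : IsOpenImmersion (Sigma.desc (fun j : J => Sigma.ι g j.1)) :=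
    isOpenImmersion_sigmaDesc _ _ hdisj
  have hrange : Set.range f = Set.range (Sigma.desc (fun j : J => Sigma.ι g j.1)) := by
    ext x
    constructor
    · rintro ⟨y, rfl⟩
      obtain ⟨i, w, hw⟩ := exists_sigmaι g (f y)
      have hi : i ∈ J := ⟨y, w, hw.symm⟩
      refine ⟨Sigma.ι (fun j : J => g j.1) ⟨i, hi⟩ w, ?_⟩
      rw [← Scheme.Hom.comp_apply, Sigma.ι_desc]
      exact hw
    · rintro ⟨z, rfl⟩
      obtain ⟨j, w, rfl⟩ := exists_sigmaι (fun j : J => g j.1) z
      obtain ⟨y, x', hy⟩ := j.2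
      refine ⟨y, ?_⟩
      have : x' = w := Subsingleton.elim _ _
      rw [hy, this, ← Scheme.Hom.comp_apply, Sigma.ι_desc]
  exact ⟨J, IsOpenImmersion.isoOfRangeEq f _ hrange, IsOpenImmersion.isoOfRangeEq_hom_fac _ _ _⟩

theorem main
    {ι : Type u} (k : ι → Type u) [∀ i, Field (k i)]
    {Y : Scheme.{u}} (f : Y ⟶ ∐ fun i => Spec (CommRingCat.of (k i))) [Mono f] :
    ∃ (J : Set ι) (e : Y ≅ ∐ fun j : J => Spec (CommRingCat.of (k j.1))),
      e.hom ≫ Sigma.desc (fun j : J => Sigma.ι (fun i => Spec (CommRingCat.of (k i))) j.1) = f := by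
  have hsub : ∀ i, Subsingleton ↥(Spec (CommRingCat.of (k i))) := fun i => by
    change Subsingleton (PrimeSpectrum (k i)); infer_instance
  exact general (fun i => Spec (CommRingCat.of (k i))) f

end

open AlgebraicGeometry in
open CategoryTheory Limits in
/-- Let (k_i)_{i ∈ ι} be a family of fields, X = ∐_i Spec(k_i) the disjoint union, and f : Y → X a
monomorphism of schemes. Then there are a subset J of ι and an isomorphism Y ≅ ∐_{j ∈ J} Spec(k_j)
over X, where ∐_{j ∈ J} Spec(k_j) maps to X by the coproduct inclusions. -/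
theorem result
    {ι : Type u} (k : ι → Type u) [∀ i, Field (k i)]
    {Y : Scheme.{u}} (f : Y ⟶ ∐ fun i => Spec (CommRingCat.of (k i))) [Mono f] :
    ∃ (J : Set ι) (e : Y ≅ ∐ fun j : J => Spec (CommRingCat.of (k j.1))),
      e.hom ≫ Sigma.desc (fun j : J => Sigma.ι (fun i => Spec (CommRingCat.of (k i))) j.1) = f := by
  exact Groth.Agent.S9500.main k f

end Groth.Agent.S9500
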