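import Groth.Statements.S9511
import Groth.Agent.Lib.Helper2.DimZero
-- import your own Groth.Agent.* helpers here

set_option autoImplicit false
universe u
open LRSImm

namespace Groth.Agent.S9511

section
open CategoryTheory AlgebraicGeometry TopologicalSpace Opposite

theorem main
    (X : LocallyRingedSpace.{u}) (U V : Opens X.toTopCat) (hUV : IsCompl U V)
    (A B : CommRingCat.{u})
    (eU : X.restrict U.isOpenEmbedding ≅ (Spec A).toLocallyRingedSpace)
    (eV : X.restrict V.isOpenEmbedding ≅ (Spec B).toLocallyRingedSpace) :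
    IsIso X.toΓSpec := by
  let Y : Scheme.{u} :=
    { toLocallyRingedSpace := X
      local_affine := fun x => by
        have hx : x ∈ U ⊔ V := by rw [hUV.sup_eq_top]; trivial
        rcases hx with hx | hx
        · exact ⟨⟨U, hx⟩, A, ⟨eU⟩⟩
        · exact ⟨⟨V, hx⟩, B, ⟨eV⟩⟩ }
  let U' : Y.Opens := U
  let V' : Y.Opens := V
  have hU : IsAffineOpen U' := by
    let e : U'.toScheme ≅ Spec A := Scheme.forgetToLocallyRingedSpace.preimageIso eU
    exact IsAffine.of_isIso e.hom
  have hV : IsAffineOpen V' := by
    let e : V'.toScheme ≅ Spec B := Scheme.forgetToLocallyRingedSpace.preimageIso eV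
    exact IsAffine.of_isIso e.hom
  have hsup : IsAffineOpen (U' ⊔ V') :=
    Groth.Agent.Helper2.DimZero.isAffineOpen_sup_of_disjoint hU hV hUV.disjoint
  have htop : U' ⊔ V' = ⊤ := hUV.sup_eq_top
  rw [htop] at hsup
  haveI : IsAffine (⊤ : Y.Opens).toScheme := hsup
  haveI : IsAffine Y := IsAffine.of_isIso Y.topIso.inv
  have h1 : IsIso Y.toSpecΓ := IsAffine.affine
  have h2 : IsIso (Scheme.forgetToLocallyRingedSpace.map Y.toSpecΓ) := inferInstance
  exact h2

end

open AlgebraicGeometry in
open CategoryTheory TopologicalSpace in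
/-- Let X be a locally ringed space and U, V ⊆ X open with X = U ⊔ V (they cover X and are disjoint),
such that the open subspaces X|_U and X|_V are affine schemes. Then X is an affine scheme: the
canonical morphism X → Spec Γ(X, O_X) is an isomorphism of locally ringed spaces. -/
theorem result
    (X : LocallyRingedSpace.{u}) (U V : Opens X.toTopCat) (hUV : IsCompl U V)
    (A B : CommRingCat.{u})
    (eU : X.restrict U.isOpenEmbedding ≅ (Spec A).toLocallyRingedSpace)
    (eV : X.restrict V.isOpenEmbedding ≅ (Spec B).toLocallyRingedSpace) :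
    IsIso X.toΓSpec := by
  exact Groth.Agent.S9511.main X U V hUV A B eU eV

end Groth.Agent.S9511
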