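import Groth.Statements.S9535
import Mathlib
import Groth.Agent.Lib.Helper14.CohFormalG
-- import your own Groth.Agent.* helpers here

set_option autoImplicit false
universe u
open CategoryTheory CategoryTheory.Limits AlgebraicGeometry Opposite
open Algz

namespace Groth.Agent.S9535

/-- (6) ⇒ (2): Let A be a Noetherian ring complete for the I-adic topology, I ⊆ 𝔞 ideals, U = Spec A ∖
V(𝔞) and (F_n) an object of Coh(U, I O_U). If (F_n) extends to Spec A, then (F_n) is isomorphic to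
the completion of a coherent O_U-module. -/
theorem result (A : Type u) [CommRing A] [IsNoetherianRing A] (I 𝔞 : Ideal A) (hI𝔞 : I ≤ 𝔞)
    (G : ℕᵒᵖ ⥤ (↑(LocCoh.puncturedOpen A 𝔞) : Scheme.{u}).Modules) (hG : Formal.IsCohFormal I G) [IsAdicComplete I A]
    (h : @Algz.Extends A _ (Spec (CommRingCat.of A)) ⟨𝟙 (Spec (CommRingCat.of A))⟩ I (LocCoh.puncturedOpen A 𝔞) G) :
    ∃ F : (↑(LocCoh.puncturedOpen A 𝔞) : Scheme.{u}).Modules, Coh.IsCoh F ∧ Nonempty (Formal.completion I F ≅ G) := by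
  letI inst : (Spec (CommRingCat.of A)).Over (Spec (CommRingCat.of A)) := ⟨𝟙 _⟩
  have hc : ((LocCoh.puncturedOpen A 𝔞).toScheme ↘ Spec (CommRingCat.of A)) =
      (LocCoh.puncturedOpen A 𝔞).ι ≫ (Spec (CommRingCat.of A) ↘ Spec (CommRingCat.of A)) :=
    (Category.comp_id _).symm
  obtain ⟨G', hG', ⟨i⟩⟩ := h
  obtain ⟨M, hfin, ⟨j⟩⟩ := Groth.Agent.Helper14.CohFormal.exists_tilde_completion_iso I hG'
  let T : (Spec (CommRingCat.of A)).Modules := (tilde.functor (CommRingCat.of A)).obj M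
  haveI hT1 : T.IsQuasicoherent := inferInstanceAs (tilde (R := CommRingCat.of A) M).IsQuasicoherent
  haveI hT2 : SheafOfModules.IsFiniteType (R := (Spec (CommRingCat.of A)).ringCatSheaf) T :=
    Groth.Agent.Helper28.CohOpen.isFiniteType_tilde (R := CommRingCat.of A) M
  refine ⟨T.restrict (LocCoh.puncturedOpen A 𝔞).ι,
    ⟨Scheme.Modules.isQuasicoherent_restrictFunctor (LocCoh.puncturedOpen A 𝔞).ι _,
      Groth.Agent.Helper13.FinType.isFiniteType_restrict (LocCoh.puncturedOpen A 𝔞).ι _⟩, ?_⟩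
  obtain ⟨k⟩ := Groth.Agent.Helper14.CohFormal.nonempty_restrictSys_completion_iso
    (LocCoh.puncturedOpen A 𝔞) hc I T (T.restrict (LocCoh.puncturedOpen A 𝔞).ι) (Iso.refl _)
  exact ⟨k.symm ≪≫ Functor.isoWhiskerRight j
    (Scheme.Modules.restrictFunctor (LocCoh.puncturedOpen A 𝔞).ι) ≪≫ i⟩

end Groth.Agent.S9535
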