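import Groth.Statements.S9536
import Mathlib
import Groth.Agent.Lib.Helper14.CohFormalE
import Groth.Agent.S9831
-- import your own Groth.Agent.* helpers here

set_option autoImplicit false
universe u
open CategoryTheory CategoryTheory.Limits AlgebraicGeometry Opposite
open Algz

namespace Groth.Agent.S9536

/-- (2) ⇒ (6): Let A be a Noetherian ring, I ⊆ 𝔞 ideals, U = Spec A ∖ V(𝔞) and (F_n) an object of Coh(U,
I O_U). If (F_n) is isomorphic to the completion of a coherent O_U-module, then (F_n) extends to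
Spec A. -/
theorem result (A : Type u) [CommRing A] [IsNoetherianRing A] (I 𝔞 : Ideal A) (hI𝔞 : I ≤ 𝔞)
    (G : ℕᵒᵖ ⥤ (↑(LocCoh.puncturedOpen A 𝔞) : Scheme.{u}).Modules) (hG : Formal.IsCohFormal I G)
    (F : (↑(LocCoh.puncturedOpen A 𝔞) : Scheme.{u}).Modules) (hF : Coh.IsCoh F) (e : Formal.completion I F ≅ G) :
    @Algz.Extends A _ (Spec (CommRingCat.of A)) ⟨𝟙 (Spec (CommRingCat.of A))⟩ I (LocCoh.puncturedOpen A 𝔞) G := by
  letI inst : (Spec (CommRingCat.of A)).Over (Spec (CommRingCat.of A)) := ⟨𝟙 _⟩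
  have hc : ((LocCoh.puncturedOpen A 𝔞).toScheme ↘ Spec (CommRingCat.of A)) =
      (LocCoh.puncturedOpen A 𝔞).ι ≫ (Spec (CommRingCat.of A) ↘ Spec (CommRingCat.of A)) :=
    (Category.comp_id _).symm
  haveI : TopologicalSpace.NoetherianSpace (Spec (CommRingCat.of A)) :=
    inferInstanceAs (TopologicalSpace.NoetherianSpace (PrimeSpectrum A))
  have hU : IsCompact ((LocCoh.puncturedOpen A 𝔞 : (Spec (CommRingCat.of A)).Opens) :
      Set (Spec (CommRingCat.of A))) := TopologicalSpace.NoetherianSpace.isCompact _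
  haveI : Coh.IsQCoh F := hF.1
  obtain ⟨F', hF'1, hF'2, ⟨e0⟩⟩ := Groth.Agent.S9831.result (LocCoh.puncturedOpen A 𝔞) hU F hF.2
  refine ⟨Formal.completion I F',
    Groth.Agent.Helper14.CohFormal.isCohFormal_completion I ⟨hF'1, hF'2⟩, ?_⟩
  obtain ⟨i⟩ := Groth.Agent.Helper14.CohFormal.nonempty_restrictSys_completion_iso
    (LocCoh.puncturedOpen A 𝔞) hc I F' F e0
  exact ⟨i ≪≫ e⟩

end Groth.Agent.S9536
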