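import Groth.Statements.S9549
import Groth.Agent.Lib.Lead.PicPunct
import Groth.Agent.Lib.Helper7.RegUFD3

set_option autoImplicit false
universe u
open CategoryTheory AlgebraicGeometry
open ParaF

namespace Groth.Agent.S9549

/-- For a regular local ring A the Picard group of the punctured spectrum is trivial: every invertible
module on Spec A ∖ {𝔪} is isomorphic to the structure sheaf. -/
theorem result (A : Type u) [CommRing A] [IsRegularLocalRing A] :
    ParaF.PicTrivial (↑(FEt.puncturedSpec A) : Scheme.{u}) := by
  haveI : IsDomain A := Groth.Agent.Lead.RLR.isDomain A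
  haveI : UniqueFactorizationMonoid A :=
    Groth.Agent.Helper7.RegUFD.uniqueFactorizationMonoid_of_isRegularLocalRing A
  exact Groth.Agent.Lead.PicPunct.picTrivial_puncturedSpec A

end Groth.Agent.S9549
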