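import Groth.Statements.S9551
import Mathlib
import Groth.Agent.Lib.Helper14.CohFormalH
-- import your own Groth.Agent.* helpers here

set_option autoImplicit false
universe u
open CategoryTheory CategoryTheory.Limits AlgebraicGeometry Opposite
open Algz

namespace Groth.Agent.S9551

/-- Let A be a Noetherian ring, I ⊆ 𝔞 ideals, U = Spec A ∖ V(𝔞) with inclusion j, (F_n) an object of
Coh(U, I O_U) and M = lim_n H^0(U, F_n). If the system H^0(U, F_n) is Mittag-Leffler, then for every
n the canonical map from M~|_U to F_n, adjoint (under the tilde and restriction adjunctions) to the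
projection M → H^0(U, F_n) = Γ(Spec A, j_*F_n), is an epimorphism. (The source states surjectivity
of (M/I^nM)~|_U → F_n; the map from M~|_U factors through it after the epimorphism M~ → (M/I^nM)~,
so the two surjectivity statements are equivalent.) -/
theorem result (A : Type u) [CommRing A] [IsNoetherianRing A] (I 𝔞 : Ideal A) (hI𝔞 : I ≤ 𝔞)
    (G : ℕᵒᵖ ⥤ (↑(LocCoh.puncturedOpen A 𝔞) : Scheme.{u}).Modules) (hG : Formal.IsCohFormal I G)
    (ha : ARSys.IsML (Algz.sectMod A (LocCoh.puncturedOpen A 𝔞) G)) (n : ℕ) :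
    Epi (((Scheme.Modules.restrictAdjunction (LocCoh.puncturedOpen A 𝔞).ι).homEquiv _ (G.obj (op n))).symm
      (((tilde.adjunction (R := CommRingCat.of A)).homEquiv (limit (Algz.sectMod A (LocCoh.puncturedOpen A 𝔞) G))
        ((Scheme.Modules.pushforward (LocCoh.puncturedOpen A 𝔞).ι).obj (G.obj (op n)))).symm
          (limit.π (Algz.sectMod A (LocCoh.puncturedOpen A 𝔞) G) (op n)))) := by
  obtain ⟨k, hk, hrange⟩ := Groth.Agent.Helper14.ModLim.exists_range_tr_le_range_π_of_isML
    (limit.isLimit (Algz.sectMod A (LocCoh.puncturedOpen A 𝔞) G)) ha n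
  haveI : (G.obj (op k)).IsQuasicoherent := (hG.1 k).1
  haveI : (G.obj (op n)).IsQuasicoherent := (hG.1 n).1
  haveI : Epi (ARSys.tr G hk) := Groth.Agent.Helper14.CohFormal.epi_tr hG hk
  have key := Groth.Agent.Helper14.CohFormal.epi_homEquiv_symm_of_range_le A
    (LocCoh.puncturedOpen A 𝔞) (ARSys.tr G hk)
    (limit.π (Algz.sectMod A (LocCoh.puncturedOpen A 𝔞) G) (op n)) hrange
  have e : ((Scheme.Modules.restrictAdjunction (LocCoh.puncturedOpen A 𝔞).ι).homEquiv _
        (G.obj (op n))).symm
      (((tilde.adjunction (R := CommRingCat.of A)).homEquiv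
        (limit (Algz.sectMod A (LocCoh.puncturedOpen A 𝔞) G))
        ((Scheme.Modules.pushforward (LocCoh.puncturedOpen A 𝔞).ι).obj (G.obj (op n)))).symm
          (limit.π (Algz.sectMod A (LocCoh.puncturedOpen A 𝔞) G) (op n))) =
      ((Groth.Agent.Helper14.CohFormal.sadj A (LocCoh.puncturedOpen A 𝔞)).homEquiv
        (limit (Algz.sectMod A (LocCoh.puncturedOpen A 𝔞) G)) (G.obj (op n))).symm
        (limit.π (Algz.sectMod A (LocCoh.puncturedOpen A 𝔞) G) (op n)) := by
    rw [Adjunction.homEquiv_counit, Adjunction.homEquiv_counit, Adjunction.homEquiv_counit,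
      Adjunction.comp_counit_app, Functor.map_comp, Category.assoc]
    rfl
  rw [e]
  exact key

end Groth.Agent.S9551
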