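import Groth.Statements.S9564
import Mathlib
-- import your own Groth.Agent.* helpers here

set_option autoImplicit false
universe u
open EtLocal

namespace Groth.Agent.S9564

/-- Let A → B be an unramified homomorphism of Noetherian local rings, i.e. a local homomorphism with B
essentially of finite type over A, m_A B = m_B, and residue field of B finite separable over that of
A. Then there are a standard étale A-algebra B' = A[t]_g/(f) (f monic and f' invertible in B'), a
prime 𝔮 of B' and an ideal I of the localization of B' at 𝔮 such that B is isomorphic as an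
A-algebra to the quotient of that localization by I (existence of an isomorphism). -/
theorem result (A B : Type u) [CommRing A] [CommRing B]
    [IsLocalRing A] [IsLocalRing B] [IsNoetherianRing A] [IsNoetherianRing B] [Algebra A B]
    [IsLocalHom (algebraMap A B)] [Algebra.EssFiniteType A B]
    (hm : (IsLocalRing.maximalIdeal A).map (algebraMap A B) = IsLocalRing.maximalIdeal B)
    [Module.Finite (IsLocalRing.ResidueField A) (IsLocalRing.ResidueField B)]
    [Algebra.IsSeparable (IsLocalRing.ResidueField A) (IsLocalRing.ResidueField B)] :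
    ∃ (P : StandardEtalePair A) (𝔮 : Ideal P.Ring) (_ : 𝔮.IsPrime) (I : Ideal (Localization.AtPrime 𝔮)),
      Nonempty (B ≃ₐ[A] (Localization.AtPrime 𝔮 ⧸ I)) := by
  classical
  haveI : Algebra.FormallyUnramified A B := Algebra.FormallyUnramified.of_map_maximalIdeal hm
  let C := Algebra.EssFiniteType.subalgebra A B
  let q : Ideal C := (IsLocalRing.maximalIdeal B).comap (algebraMap C B)
  haveI hqp : q.IsPrime := Ideal.comap_isPrime _ _
  have hM : Algebra.EssFiniteType.submonoid A B = q.primeCompl := by
    ext c
    simp only [Algebra.EssFiniteType.submonoid, Submonoid.mem_comap, IsUnit.mem_submonoid_iff,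
      Ideal.mem_primeCompl_iff, q, Ideal.mem_comap, IsLocalRing.mem_maximalIdeal,
      mem_nonunits_iff, not_not]
    rfl
  haveI hloc : IsLocalization.AtPrime B q := by
    have h : IsLocalization (Algebra.EssFiniteType.submonoid A B) B := inferInstance
    rw [hM] at h
    exact h
  haveI : Algebra.IsUnramifiedAt A q :=
    Algebra.FormallyUnramified.of_equiv
      ((IsLocalization.algEquiv q.primeCompl B (Localization.AtPrime q)).restrictScalars A)
  obtain ⟨f, hfq, P, φ, hφ⟩ :=
    Algebra.IsUnramifiedAt.exists_hasStandardEtaleSurjectionOn (R := A) q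
  have hunitC : ∀ c : C, c ∉ q → IsUnit (algebraMap C B c) := by
    intro c hc
    by_contra h
    exact hc ((IsLocalRing.mem_maximalIdeal _).mpr h)
  have hfu : IsUnit (algebraMap C B f) := hunitC f hfq
  let ι : Localization.Away f →ₐ[C] B :=
    IsLocalization.liftAlgHom (M := Submonoid.powers f) (f := Algebra.ofId C B) (by
      rintro ⟨_, n, rfl⟩
      simpa using hfu.pow n)
  have hι : ∀ c : C, ι (algebraMap C (Localization.Away f) c) = algebraMap C B c := fun c =>
    ι.commutes c
  let θ : P.Ring →ₐ[A] B := (ι.restrictScalars A).comp φ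
  have hθ : ∀ x, θ x = ι (φ x) := fun x => rfl
  let 𝔮 : Ideal P.Ring := (IsLocalRing.maximalIdeal B).comap θ.toRingHom
  haveI h𝔮p : 𝔮.IsPrime := Ideal.comap_isPrime _ _
  have hunit : ∀ y : 𝔮.primeCompl, IsUnit (θ y) := by
    intro y
    by_contra h
    exact y.2 ((IsLocalRing.mem_maximalIdeal _).mpr h)
  let ψ : Localization.AtPrime 𝔮 →ₐ[A] B :=
    IsLocalization.liftAlgHom (M := 𝔮.primeCompl) (f := θ) hunit
  have hψ : Function.Surjective ψ := by
    intro b
    obtain ⟨⟨c, s⟩, hcs⟩ := IsLocalization.surj q.primeCompl b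
    obtain ⟨x, hx⟩ := hφ (algebraMap C (Localization.Away f) c)
    obtain ⟨y, hy⟩ := hφ (algebraMap C (Localization.Away f) s)
    have hθx : θ x = algebraMap C B c := by rw [hθ, hx, hι]
    have hθy : θ y = algebraMap C B s := by rw [hθ, hy, hι]
    have hy𝔮 : y ∈ 𝔮.primeCompl := by
      intro hmem
      have h1 : θ y ∈ IsLocalRing.maximalIdeal B := hmem
      rw [hθy] at h1
      exact (IsLocalRing.mem_maximalIdeal _).mp h1 (hunitC s s.2)
    refine ⟨IsLocalization.mk' _ x ⟨y, hy𝔮⟩, ?_⟩
    change IsLocalization.lift hunit _ = b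
    rw [IsLocalization.lift_mk'_spec]
    change θ x = θ y * b
    rw [hθx, hθy, ← hcs]
    ring
  exact ⟨P, 𝔮, inferInstance, RingHom.ker ψ.toRingHom,
    ⟨(Ideal.quotientKerAlgEquivOfSurjective hψ).symm⟩⟩

end Groth.Agent.S9564
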