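import Groth.Statements.S9567
import Mathlib
import Groth.Agent.Lib.Helper16.Sch.MonoEt

set_option autoImplicit false
universe u
open EtLocal

namespace Groth.Agent.S9567

open AlgebraicGeometry CategoryTheory in
/-- Let φ : X ⟶ Y be any morphism of schemes, x a point of X and V an affine open neighbourhood of φ(x),
with ring R = Γ(Y, V). If φ is étale on some open neighbourhood of x, then there are an affine open
neighbourhood U of x with φ(U) ⊆ V, a monic polynomial p over R and an open immersion j of U into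
Spec of (R[t]/(p))[1/p′] (the localization of R[t]/(p) away from the image of the derivative of p)
such that j followed by the projection to Spec R is the morphism U → Spec R induced by φ. -/
theorem result {X Y : Scheme.{u}} (φ : X ⟶ Y) (x : X)
    (V : Y.Opens) (hV : IsAffineOpen V) (hxV : φ.base x ∈ V)
    (hφ : ∃ W : X.Opens, x ∈ W ∧ Etale (W.ι ≫ φ)) :
    ∃ (U : X.Opens) (hU : IsAffineOpen U) (_ : x ∈ U) (e : U ≤ φ ⁻¹ᵁ V)
      (p : Polynomial Γ(Y, V)) (_ : p.Monic)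
      (j : U.toScheme ⟶ Spec (CommRingCat.of (Localization.Away (AdjoinRoot.mk p (Polynomial.derivative p))))),
      IsOpenImmersion j ∧
        j ≫ Spec.map (CommRingCat.ofHom
            (algebraMap Γ(Y, V) (Localization.Away (AdjoinRoot.mk p (Polynomial.derivative p))))) =
          hU.isoSpec.hom ≫ Spec.map (φ.appLE V U e) := by
  obtain ⟨W, hxW, hW⟩ := hφ
  obtain ⟨_, ⟨U₀, hU₀, rfl⟩, hxU₀, hU₀le⟩ := X.isBasis_affineOpens.exists_subset_of_mem_open
    (show x ∈ ((W ⊓ φ ⁻¹ᵁ V : X.Opens) : Set X) from ⟨hxW, hxV⟩) (W ⊓ φ ⁻¹ᵁ V).2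
  have hU₀W : U₀ ≤ W := fun y hy => (hU₀le hy).1
  have e₀ : U₀ ≤ φ ⁻¹ᵁ V := fun y hy => (hU₀le hy).2
  have het : (φ.appLE V U₀ e₀).hom.Etale :=
    Groth.Agent.Helper16.MonoEt.etale_appLE_of_nhd φ W V hV U₀ hU₀ hU₀W e₀
  algebraize [(φ.appLE V U₀ e₀).hom]
  let q := (hU₀.primeIdealOf ⟨x, hxU₀⟩).asIdeal
  haveI : Algebra.IsEtaleAt Γ(Y, V) q := inferInstance
  obtain ⟨f, hfq, hstd⟩ := Algebra.IsEtaleAt.exists_isStandardEtale (R := Γ(Y, V)) q
  have hxU : x ∈ X.basicOpen f := by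
    have h1 : hU₀.primeIdealOf ⟨x, hxU₀⟩ ∈ hU₀.fromSpec ⁻¹ᵁ X.basicOpen f := by
      rw [hU₀.fromSpec_preimage_basicOpen]
      exact hfq
    have h2 : hU₀.fromSpec (hU₀.primeIdealOf ⟨x, hxU₀⟩) = x := hU₀.fromSpec_primeIdealOf ⟨x, hxU₀⟩
    rw [← h2]
    exact h1
  have hU : IsAffineOpen (X.basicOpen f) := hU₀.basicOpen f
  have e : X.basicOpen f ≤ φ ⁻¹ᵁ V := (X.basicOpen_le f).trans e₀
  haveI hloc : IsLocalization.Away f Γ(X, X.basicOpen f) := hU₀.isLocalization_basicOpen f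
  letI : Algebra Γ(Y, V) Γ(X, X.basicOpen f) := (φ.appLE V (X.basicOpen f) e).hom.toAlgebra
  haveI : IsScalarTower Γ(Y, V) Γ(X, U₀) Γ(X, X.basicOpen f) := by
    refine IsScalarTower.of_algebraMap_eq' ?_
    simp only [RingHom.algebraMap_toAlgebra]
    rw [← CommRingCat.hom_comp, Scheme.Hom.appLE_map]
  let eqv : Localization.Away f ≃ₐ[Γ(X, U₀)] Γ(X, X.basicOpen f) :=
    IsLocalization.algEquiv (Submonoid.powers f) _ _
  haveI : Algebra.IsStandardEtale Γ(Y, V) Γ(X, X.basicOpen f) :=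
    Algebra.IsStandardEtale.of_equiv (eqv.restrictScalars Γ(Y, V))
  obtain ⟨p, hp, ψ, hψ⟩ := Groth.Agent.Helper16.MonoEt.exists_monic_awayDerivative Γ(Y, V)
    Γ(X, X.basicOpen f)
  refine ⟨X.basicOpen f, hU, hxU, e, p, hp,
    hU.isoSpec.hom ≫ Spec.map (CommRingCat.ofHom ψ.toRingHom), inferInstance, ?_⟩
  rw [Category.assoc, ← Spec.map_comp]
  congr 2
  refine CommRingCat.hom_ext (RingHom.ext fun r => ?_)
  show ψ (algebraMap _ _ r) = φ.appLE V (X.basicOpen f) e r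
  rw [ψ.commutes]
  rfl

end Groth.Agent.S9567
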