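import Groth.Statements.S9568
import Mathlib
-- import your own Groth.Agent.* helpers here

set_option autoImplicit false
universe u
open EtLocal

namespace Groth.Agent.S9568

open TensorProduct in
/-- kernel lemma: if `ω ∈ Ω_{P/A}` dies in `Ω_{B/A}` (with `P → B` surjective with kernel `I`, `Ω_P` free)
then `ω - dg ∈ I Ω_P` for some `g ∈ I`. -/
theorem ker_map_aux {A : Type u} [CommRing A] (n : ℕ) {B : Type u} [CommRing B] [Algebra A B]
    [Algebra (MvPolynomial (Fin n) A) B] [IsScalarTower A (MvPolynomial (Fin n) A) B]
    (hsurj : Function.Surjective (algebraMap (MvPolynomial (Fin n) A) B))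
    (ω : Ω[MvPolynomial (Fin n) A⁄A])
    (hω : KaehlerDifferential.map A A (MvPolynomial (Fin n) A) B ω = 0) :
    ∃ g ∈ RingHom.ker (algebraMap (MvPolynomial (Fin n) A) B),
      ω - KaehlerDifferential.D A (MvPolynomial (Fin n) A) g ∈
        (RingHom.ker (algebraMap (MvPolynomial (Fin n) A) B)) •
          (⊤ : Submodule (MvPolynomial (Fin n) A) (Ω[MvPolynomial (Fin n) A⁄A])) := by
  classical
  have h1 : KaehlerDifferential.mapBaseChange A (MvPolynomial (Fin n) A) B (1 ⊗ₜ ω) = 0 := by
    rw [KaehlerDifferential.mapBaseChange_tmul, hω, smul_zero]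
  obtain ⟨c, hc⟩ := (KaehlerDifferential.exact_kerCotangentToTensor_mapBaseChange A
    (MvPolynomial (Fin n) A) B hsurj (1 ⊗ₜ ω)).mp h1
  obtain ⟨g, rfl⟩ := Ideal.toCotangent_surjective _ c
  rw [KaehlerDifferential.kerCotangentToTensor_toCotangent] at hc
  refine ⟨g.1, g.2, ?_⟩
  set b := KaehlerDifferential.mvPolynomialBasis A (Fin n) with hb
  have h2 : (1 : B) ⊗ₜ[MvPolynomial (Fin n) A]
      (ω - KaehlerDifferential.D A (MvPolynomial (Fin n) A) g.1) = 0 := by
    rw [TensorProduct.tmul_sub, hc, sub_self]
  have h3 := congrArg (Algebra.TensorProduct.basis B b).repr h2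
  rw [Algebra.TensorProduct.basis_repr_tmul, map_zero, one_smul] at h3
  have h4 : ∀ i, b.repr (ω - KaehlerDifferential.D A (MvPolynomial (Fin n) A) g.1) i ∈
      RingHom.ker (algebraMap (MvPolynomial (Fin n) A) B) := by
    intro i
    have := DFunLike.congr_fun h3 i
    simpa [RingHom.mem_ker] using this
  rw [← b.linearCombination_repr (ω - KaehlerDifferential.D A (MvPolynomial (Fin n) A) g.1),
    Finsupp.linearCombination_apply]
  refine Submodule.sum_mem _ fun i _ => ?_
  exact Submodule.smul_mem_smul (h4 i) Submodule.mem_top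

/-- Let A be a ring, φ a surjection from the polynomial ring P = A[x_1, …, x_n] onto an A-algebra B with
kernel I, q a prime of B and 𝔮 its preimage in P. Then the localization at q of the module of
differentials Ω_{B/A} vanishes if and only if the images of the differentials dg, g ∈ I, span the
localization of Ω_{P/A} at 𝔮 over P_𝔮. (Geometrically: for f locally of finite type, the stalk of
Ω_{X/Y} at x vanishes iff near x the scheme X is a closed subscheme of an affine space over the base
cut out by an ideal whose germs at the point have differentials generating the stalk of Ω of the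
affine space; the published statement also lists the equivalence with f being unramified at x and
with the diagonal being a local isomorphism at x, which this row does not restate. The published
statement asks for one such presentation near the point; this row states the equivalence for every
presentation, which is what the published proof shows and which implies the existential form.) -/
theorem result {A B : Type u} [CommRing A] [CommRing B]
    [Algebra A B] (n : ℕ) (φ : MvPolynomial (Fin n) A →ₐ[A] B) (hφ : Function.Surjective φ)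
    (q : Ideal B) [q.IsPrime] :
    Subsingleton (LocalizedModule q.primeCompl (KaehlerDifferential A B)) ↔
      Submodule.span (Localization.AtPrime (q.comap φ.toRingHom))
        ((LocalizedModule.mkLinearMap (q.comap φ.toRingHom).primeCompl
            (KaehlerDifferential A (MvPolynomial (Fin n) A))) ''
          ((KaehlerDifferential.D A (MvPolynomial (Fin n) A)) '' (RingHom.ker φ.toRingHom : Set (MvPolynomial (Fin n) A)))) = ⊤ := by
  classical
  letI : Algebra (MvPolynomial (Fin n) A) B := φ.toRingHom.toAlgebra
  haveI : IsScalarTower A (MvPolynomial (Fin n) A) B :=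
    IsScalarTower.of_algebraMap_eq (fun a => (φ.commutes a).symm)
  have hsurj : Function.Surjective (algebraMap (MvPolynomial (Fin n) A) B) := hφ
  have halg : ∀ p, algebraMap (MvPolynomial (Fin n) A) B p = φ p := fun _ => rfl
  set P := MvPolynomial (Fin n) A with hP
  set 𝔮 : Ideal P := q.comap φ.toRingHom with h𝔮
  have hmem𝔮 : ∀ p : P, p ∈ 𝔮 ↔ φ p ∈ q := fun _ => Iff.rfl
  set I : Ideal P := RingHom.ker φ.toRingHom with hI
  have hmemI : ∀ p : P, p ∈ I ↔ φ p = 0 := fun _ => Iff.rfl
  have hI𝔮 : I ≤ 𝔮 := by
    intro p hp
    rw [hmem𝔮, (hmemI p).mp hp]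
    exact zero_mem _
  set f := LocalizedModule.mkLinearMap 𝔮.primeCompl (Ω[P⁄A]) with hf
  have hspan : Submodule.span (Localization.AtPrime 𝔮)
      (f '' ((KaehlerDifferential.D A P) '' (I : Set P))) =
      (Submodule.span P ((KaehlerDifferential.D A P) '' (I : Set P))).localized'
        (Localization.AtPrime 𝔮) 𝔮.primeCompl f :=
    (Submodule.localized'_span _ _ _ _).symm
  rw [hspan]
  have hmapspan : ∀ x ∈ Submodule.span P ((KaehlerDifferential.D A P) '' (I : Set P)),
      KaehlerDifferential.map A A P B x = 0 := by
    intro x hx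
    induction hx using Submodule.span_induction with
    | mem x hx =>
      obtain ⟨g, hg, rfl⟩ := hx
      rw [KaehlerDifferential.map_D, halg, (hmemI g).mp hg, map_zero]
    | zero => simp
    | add x y _ _ hx hy => rw [map_add, hx, hy, add_zero]
    | smul a x _ hx => rw [map_smul, hx, smul_zero]
  constructor
  · intro hsub
    rw [LocalizedModule.subsingleton_iff] at hsub
    rw [eq_top_iff]
    haveI hfin : Module.Finite (Localization.AtPrime 𝔮) (LocalizedModule 𝔮.primeCompl (Ω[P⁄A])) :=
      Module.Finite.of_isLocalizedModule 𝔮.primeCompl f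
    refine Submodule.le_of_le_smul_of_le_jacobson_bot
      (I := IsLocalRing.maximalIdeal (Localization.AtPrime 𝔮)) hfin.fg_top
      (IsLocalRing.maximalIdeal_le_jacobson _) ?_
    have htop' : (⊤ : Submodule (Localization.AtPrime 𝔮) (LocalizedModule 𝔮.primeCompl (Ω[P⁄A]))) =
        Submodule.span (Localization.AtPrime 𝔮) (f '' Set.range (KaehlerDifferential.D A P)) := by
      rw [← Submodule.localized'_span (Localization.AtPrime 𝔮) 𝔮.primeCompl f,
        KaehlerDifferential.span_range_derivation, Submodule.localized'_top]
    nth_rewrite 1 [htop']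
    rw [Submodule.span_le]
    rintro _ ⟨_, ⟨p, rfl⟩, rfl⟩
    obtain ⟨t, ht, htp⟩ := hsub (KaehlerDifferential.D A B (φ p))
    obtain ⟨s, rfl⟩ := hφ t
    have hs : s ∈ 𝔮.primeCompl := ht
    have hmap : KaehlerDifferential.map A A P B (s • KaehlerDifferential.D A P p) = 0 := by
      rw [map_smul, KaehlerDifferential.map_D, halg, ← algebraMap_smul B s, halg]
      exact htp
    obtain ⟨g, hg, hgI⟩ := ker_map_aux n hsurj _ hmap
    have h1 : f (KaehlerDifferential.D A P p) =
        IsLocalizedModule.mk' f (KaehlerDifferential.D A P g) (⟨s, hs⟩ : 𝔮.primeCompl) +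
        IsLocalizedModule.mk' f
          (s • KaehlerDifferential.D A P p - KaehlerDifferential.D A P g)
          (⟨s, hs⟩ : 𝔮.primeCompl) := by
      rw [← IsLocalizedModule.mk'_add, add_sub_cancel]
      exact (IsLocalizedModule.mk'_cancel f (KaehlerDifferential.D A P p)
        (⟨s, hs⟩ : 𝔮.primeCompl)).symm
    rw [h1]
    refine Submodule.add_mem_sup ?_ ?_
    · exact ⟨_, Submodule.subset_span ⟨g, hg, rfl⟩, ⟨s, hs⟩, rfl⟩
    · have key : ∀ x ∈ (RingHom.ker (algebraMap P B)) • (⊤ : Submodule P (Ω[P⁄A])),
          ∀ s' : 𝔮.primeCompl, IsLocalizedModule.mk' f x s' ∈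
            IsLocalRing.maximalIdeal (Localization.AtPrime 𝔮) •
              (⊤ : Submodule (Localization.AtPrime 𝔮) (LocalizedModule 𝔮.primeCompl (Ω[P⁄A]))) := by
        intro x hx s'
        refine Submodule.smul_induction_on hx ?_ ?_
        · intro i hi m _
          rw [IsLocalizedModule.mk'_smul, ← algebraMap_smul (Localization.AtPrime 𝔮) i]
          refine Submodule.smul_mem_smul ?_ Submodule.mem_top
          exact (IsLocalization.AtPrime.to_map_mem_maximal_iff (Localization.AtPrime 𝔮) 𝔮 i).mpr
            (hI𝔮 hi)
        · intro x y hx hy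
          rw [IsLocalizedModule.mk'_add]
          exact add_mem hx hy
      exact key _ hgI _
  · intro htop
    rw [LocalizedModule.subsingleton_iff]
    have hgen : ∀ p : P, ∃ r ∈ q.primeCompl, r • KaehlerDifferential.D A B (φ p) = 0 := by
      intro p
      have h1 : f (KaehlerDifferential.D A P p) ∈
          (Submodule.span P ((KaehlerDifferential.D A P) '' (I : Set P))).localized'
            (Localization.AtPrime 𝔮) 𝔮.primeCompl f := by
        rw [htop]; exact Submodule.mem_top
      obtain ⟨m, hm, s, hs⟩ := h1
      rw [IsLocalizedModule.mk'_eq_iff] at hs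
      have h2 : f m = f (s.1 • KaehlerDifferential.D A P p) := by
        rw [hs, map_smul]; rfl
      obtain ⟨u, hu⟩ := (IsLocalizedModule.eq_iff_exists 𝔮.primeCompl f).mp h2
      refine ⟨φ (u.1 * s.1), ?_, ?_⟩
      · have : u.1 * s.1 ∈ 𝔮.primeCompl := mul_mem u.2 s.2
        exact this
      · rw [Submonoid.smul_def, Submonoid.smul_def] at hu
        have h3 := congrArg (KaehlerDifferential.map A A P B) hu
        rw [map_smul, hmapspan m hm, smul_zero, map_smul, map_smul, KaehlerDifferential.map_D,
          halg] at h3
        rw [map_mul, mul_smul, ← halg, ← halg, algebraMap_smul, algebraMap_smul]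
        exact h3.symm
    intro m
    have hm : m ∈ Submodule.span B (Set.range (KaehlerDifferential.D A B)) := by
      rw [KaehlerDifferential.span_range_derivation]; exact Submodule.mem_top
    induction hm using Submodule.span_induction with
    | mem x hx =>
      obtain ⟨b, rfl⟩ := hx
      obtain ⟨p, rfl⟩ := hφ b
      exact hgen p
    | zero => exact ⟨1, one_mem _, by simp⟩
    | add x y _ _ hx hy =>
      obtain ⟨r, hr, hrx⟩ := hx
      obtain ⟨r', hr', hry⟩ := hy
      refine ⟨r * r', mul_mem hr hr', ?_⟩
      have h1 : (r * r') • x = 0 := by rw [mul_comm, mul_smul, hrx, smul_zero]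
      have h2 : (r * r') • y = 0 := by rw [mul_smul, hry, smul_zero]
      rw [smul_add, h1, h2, add_zero]
    | smul a x _ hx =>
      obtain ⟨r, hr, hrx⟩ := hx
      exact ⟨r, hr, by rw [smul_comm, hrx, smul_zero]⟩

end Groth.Agent.S9568
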