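import Groth.Statements.S9572
import Groth.Agent.Lib.Helper6.PConeLib2

set_option autoImplicit false
universe u
open CategoryTheory CategoryTheory.Limits AlgebraicGeometry TopologicalSpace Opposite
open Constr

namespace Groth.Agent.S9572

open Groth.Agent.Helper6.PConeLib HomogeneousLocalization in
theorem exists_pos_nmem {R A : Type u} [CommRing R] [CommRing A] [Algebra R A] (𝒜 : ℕ → Submodule R A)
    [GradedAlgebra 𝒜] (x : Proj 𝒜) :
    ∃ (m : ℕ) (f : A), 0 < m ∧ f ∈ 𝒜 m ∧ f ∉ x.asHomogeneousIdeal := by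
  classical
  by_contra! H
  refine x.not_irrelevant_le (fun z hz => ?_)
  rw [← DirectSum.sum_support_decompose 𝒜 z]
  refine x.asHomogeneousIdeal.toIdeal.sum_mem (fun k _ => ?_)
  by_cases hk0 : k = 0
  · subst hk0
    have h0 : ((DirectSum.decompose 𝒜 z 0 : 𝒜 0) : A) = 0 :=
      (HomogeneousIdeal.mem_irrelevant_iff 𝒜 z).mp hz
    rw [h0]
    exact zero_mem _
  · exact H k _ (Nat.pos_of_ne_zero hk0) (SetLike.coe_mem _)

open HomogeneousLocalization in
theorem awayMap_bijective {R A : Type u} [CommRing R] [CommRing A] [Algebra R A] (𝒜 : ℕ → Submodule R A)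
    [GradedAlgebra 𝒜] {B : Type u} [CommRing B] [Algebra R B] (ℬ : ℕ → Submodule R B) [GradedAlgebra ℬ]
    (ψ : 𝒜 →+*ᵍ ℬ) (d₀ : ℕ) (hbij : ∀ d : ℕ, d₀ ≤ d → Set.BijOn ψ (𝒜 d) (ℬ d))
    {d : ℕ} (hd : 0 < d) {f : A} (hf : f ∈ 𝒜 d) :
    Function.Bijective (Away.map ψ f) := by
  have hle : ∀ n : ℕ, d₀ ≤ (n + d₀) • d := by
    intro n
    rw [smul_eq_mul]
    nlinarith
  constructor
  · rw [injective_iff_map_eq_zero]
    intro x hx
    obtain ⟨n, a, ha, rfl⟩ := Away.mk_surjective 𝒜 hf x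
    rw [Away.map_mk] at hx
    have h1 := congrArg HomogeneousLocalization.val hx
    rw [Away.val_mk, HomogeneousLocalization.val_zero, Localization.mk_eq_mk', IsLocalization.mk'_eq_zero_iff] at h1
    obtain ⟨⟨c, k, rfl⟩, hc⟩ := h1
    -- (ψ f)^k * ψ a = 0
    have h2 : ψ (f ^ (k + d₀) * a) = 0 := by
      have : (ψ f) ^ k * ψ a = 0 := hc
      rw [map_mul, map_pow, pow_add, mul_right_comm, this, zero_mul]
    have hmem : f ^ (k + d₀) * a ∈ 𝒜 ((k + d₀) • d + n • d) :=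
      SetLike.mul_mem_graded (SetLike.pow_mem_graded _ hf) ha
    have hdeg : d₀ ≤ (k + d₀) • d + n • d := le_trans (hle k) (Nat.le_add_right _ _)
    have h3 : f ^ (k + d₀) * a = 0 :=
      (hbij _ hdeg).injOn hmem (zero_mem _) (by rw [h2, map_zero])
    apply HomogeneousLocalization.val_injective
    rw [Away.val_mk, HomogeneousLocalization.val_zero, Localization.mk_eq_mk', IsLocalization.mk'_eq_zero_iff]
    exact ⟨⟨f ^ (k + d₀), k + d₀, rfl⟩, h3⟩
  · intro y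
    obtain ⟨n, b, hb, rfl⟩ := Away.mk_surjective ℬ (ψ.map_mem hf) y
    have hmem : b * (ψ f) ^ d₀ ∈ ℬ ((n + d₀) • d) := by
      rw [add_smul]
      exact SetLike.mul_mem_graded hb (SetLike.pow_mem_graded _ (ψ.map_mem hf))
    obtain ⟨a, ha, hab⟩ := (hbij _ (hle n)).surjOn hmem
    refine ⟨Away.mk 𝒜 hf (n + d₀) a ha, ?_⟩
    rw [Away.map_mk]
    apply HomogeneousLocalization.val_injective
    rw [Away.val_mk, Away.val_mk, Localization.mk_eq_mk_iff, Localization.r_iff_exists]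
    refine ⟨1, ?_⟩
    simp only [OneMemClass.coe_one, one_mul]
    rw [hab, pow_add]
    change ψ f ^ n * (b * ψ f ^ d₀) = ψ f ^ n * ψ f ^ d₀ * b
    ring

/-- Let ψ : A → B be a homomorphism of graded rings such that A_d → B_d is bijective for all d ≥ d₀. Let
U(ψ) ⊆ Proj B be the union of the opens D_+(ψ f) over homogeneous f of positive degree, and r_ψ :
U(ψ) → Proj A the morphism whose restriction to each chart Spec B_(ψ f) is Spec of the induced map
A_(f) → B_(ψ f) followed by the chart of Proj A. Then U(ψ) = Proj B and r_ψ is an isomorphism. (Here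
r_ψ is any morphism with that chart description; it is unique.) -/
theorem result {R A : Type u} [CommRing R] [CommRing A] [Algebra R A] (𝒜 : ℕ → Submodule R A) [GradedAlgebra 𝒜]
    {B : Type u} [CommRing B] [Algebra R B] (ℬ : ℕ → Submodule R B) [GradedAlgebra ℬ] (ψ : 𝒜 →+*ᵍ ℬ)
    (d₀ : ℕ) (hbij : ∀ d : ℕ, d₀ ≤ d → Set.BijOn ψ (𝒜 d) (ℬ d))
    (r : (PCone.dom ψ : Scheme.{u}) ⟶ Proj 𝒜)
    (hr : ∀ (d : ℕ) (f : A) (hd : 0 < d) (hf : f ∈ 𝒜 d),
      PCone.chart ψ hf hd ≫ r =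
        Spec.map (CommRingCat.ofHom (HomogeneousLocalization.Away.map ψ f)) ≫ Proj.awayι 𝒜 f hf hd) :
    PCone.dom ψ = ⊤ ∧ IsIso r := by
  classical
  have hdom : PCone.dom ψ = ⊤ := by
    rw [eq_top_iff]
    intro x _
    obtain ⟨m, g, hm, hg, hgx⟩ := exists_pos_nmem ℬ x
    have hpow : g ^ (d₀ + 1) ∈ ℬ ((d₀ + 1) • m) := SetLike.pow_mem_graded _ hg
    have hdeg : d₀ ≤ (d₀ + 1) • m := by
      rw [smul_eq_mul]; nlinarith
    obtain ⟨a, ha, hag⟩ := (hbij _ hdeg).surjOn hpow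
    have hpos : 0 < (d₀ + 1) • m := by rw [smul_eq_mul]; positivity
    refine Opens.mem_iSup.mpr ⟨⟨a, _, hpos, ha⟩, ?_⟩
    change x ∈ Proj.basicOpen ℬ (ψ a)
    rw [hag, Proj.basicOpen_pow _ _ _ (Nat.succ_pos _)]
    exact hgx
  refine ⟨hdom, ?_⟩
  have hcov : ⨆ i : {f : A // ∃ d : ℕ, 0 < d ∧ f ∈ 𝒜 d}, Proj.basicOpen 𝒜 i.1 = ⊤ := by
    rw [eq_top_iff]
    intro x _
    obtain ⟨m, g, hm, hg, hgx⟩ := exists_pos_nmem 𝒜 x
    exact Opens.mem_iSup.mpr ⟨⟨g, m, hm, hg⟩, hgx⟩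
  change MorphismProperty.isomorphisms Scheme r
  apply IsZariskiLocalAtTarget.of_iSup_eq_top (P := MorphismProperty.isomorphisms Scheme) _ hcov
  rintro ⟨f, d, hd, hf⟩
  change IsIso (r ∣_ Proj.basicOpen 𝒜 f)
  have hmapiso : IsIso (Spec.map (CommRingCat.ofHom (HomogeneousLocalization.Away.map ψ f))) :=
    isIso_SpecMap_iff.mpr (awayMap_bijective 𝒜 ℬ ψ d₀ hbij hd hf)
  have hpre := Groth.Agent.Helper6.PConeLib.p_preimage_eq_opensRange ψ r hr hf hd
  -- the two isomorphisms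
  have hr1 : Set.range (PCone.chart ψ hf hd).base = Set.range (r ⁻¹ᵁ Proj.basicOpen 𝒜 f).ι.base := by
    rw [Scheme.Opens.range_ι, hpre]
    rfl
  let e₁ := IsOpenImmersion.isoOfRangeEq (PCone.chart ψ hf hd) (r ⁻¹ᵁ Proj.basicOpen 𝒜 f).ι hr1
  have he₁ : e₁.hom ≫ (r ⁻¹ᵁ Proj.basicOpen 𝒜 f).ι = PCone.chart ψ hf hd :=
    IsOpenImmersion.isoOfRangeEq_hom_fac _ _ _
  have hr2 : Set.range (Spec.map (CommRingCat.ofHom (HomogeneousLocalization.Away.map ψ f)) ≫
      Proj.awayι 𝒜 f hf hd).base = Set.range (Proj.basicOpen 𝒜 f).ι.base := by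
    rw [Scheme.Opens.range_ι, ← Proj.opensRange_awayι 𝒜 f hf hd]
    simp only [Scheme.Hom.comp_base, TopCat.coe_comp, Scheme.Hom.coe_opensRange]
    rw [Set.range_comp, Set.range_eq_univ.mpr, Set.image_univ]
    exact (asIso (Spec.map (CommRingCat.ofHom (HomogeneousLocalization.Away.map ψ f)))).schemeIsoToHomeo.surjective
  let e₂ := IsOpenImmersion.isoOfRangeEq (Spec.map (CommRingCat.ofHom (HomogeneousLocalization.Away.map ψ f)) ≫
      Proj.awayι 𝒜 f hf hd) (Proj.basicOpen 𝒜 f).ι hr2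
  have he₂ : e₂.hom ≫ (Proj.basicOpen 𝒜 f).ι = Spec.map (CommRingCat.ofHom (HomogeneousLocalization.Away.map ψ f)) ≫
      Proj.awayι 𝒜 f hf hd :=
    IsOpenImmersion.isoOfRangeEq_hom_fac _ _ _
  have hcomp : e₁.hom ≫ (r ∣_ Proj.basicOpen 𝒜 f) = e₂.hom := by
    rw [← cancel_mono (Proj.basicOpen 𝒜 f).ι, Category.assoc, morphismRestrict_ι, ← Category.assoc, he₁, he₂]
    exact hr d f hd hf
  have : r ∣_ Proj.basicOpen 𝒜 f = e₁.inv ≫ e₂.hom := by
    rw [← hcomp, Iso.inv_hom_id_assoc]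
  rw [this]
  infer_instance

end Groth.Agent.S9572
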