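import Groth.Statements.S9579
import Mathlib
import Groth.Agent.Lib.Helper6.VeroSheafC

set_option autoImplicit false
universe u
open CategoryTheory CategoryTheory.Limits AlgebraicGeometry TopologicalSpace Opposite
open Constr

namespace Groth.Agent.S9579

/-- Let S be a graded ring, d ≥ 1, S' = S^{(d)} the graded ring with S'_n = S_{nd} (here: a graded ring
S' with an injective algebra homomorphism φ : S' → S carrying S'_n onto S_{nd}), and i : Proj S ≅
Proj S' the canonical isomorphism (any isomorphism which over each standard open D_+(g), g ∈ S'_n, n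
> 0, is induced by S'_(g) ≅ S_(φ g), b/g^k ↦ φ(b)/φ(g)^k). Let M be a graded S-module (graded in
non-negative degrees here) and M' = M^{(d)} the graded S'-module with M'_n = M_{nd}, presented as a
graded S'-module with an injective φ-semilinear map v : M' → M carrying M'_n onto M_{nd} for every
n. Then M~ on Proj S is isomorphic to the inverse image i^*(M'~). (Existence of an isomorphism only;
the published isomorphism is canonical and compatible with the multiplication maps.) -/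
theorem result {R A : Type u} [CommRing R] [CommRing A] [Algebra R A] (𝒜 : ℕ → Submodule R A) [GradedAlgebra 𝒜]
    {B : Type u} [CommRing B] [Algebra R B] (ℬ : ℕ → Submodule R B) [GradedAlgebra ℬ]
    (d : ℕ) (hd : 0 < d) (φ : B →ₐ[R] A) (hφ : Function.Injective φ)
    (hdeg : ∀ n : ℕ, Submodule.map φ.toLinearMap (ℬ n) = 𝒜 (n * d))
    (e : Proj 𝒜 ≅ Proj ℬ)
    (he : ∀ (n : ℕ) (g : B) (hn : 0 < n) (hg : g ∈ ℬ n)
        (θ : CommRingCat.of (HomogeneousLocalization.Away ℬ g) ⟶ CommRingCat.of (HomogeneousLocalization.Away 𝒜 (φ g))),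
        (algebraMap (HomogeneousLocalization.Away 𝒜 (φ g)) (Localization.Away (φ g))).comp θ.hom =
          (Localization.awayMap φ.toRingHom g).comp
            (algebraMap (HomogeneousLocalization.Away ℬ g) (Localization.Away g)) →
        Proj.awayι 𝒜 (φ g) ((hdeg n).le (Submodule.mem_map_of_mem hg)) (Nat.mul_pos hn hd) ≫ e.hom =
          Spec.map θ ≫ Proj.awayι ℬ g hg hn)
    {M : Type u} [AddCommGroup M] [Module R M] [Module A M] [IsScalarTower R A M] (ℳ : ℕ → Submodule R M)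
    [DirectSum.Decomposition ℳ] [SetLike.GradedSMul 𝒜 ℳ]
    {N : Type u} [AddCommGroup N] [Module R N] [Module B N] [IsScalarTower R B N] (𝒩 : ℕ → Submodule R N)
    [DirectSum.Decomposition 𝒩] [SetLike.GradedSMul ℬ 𝒩]
    (v : N →ₛₗ[φ.toRingHom] M) (hv : Function.Injective v)
    (hvdeg : ∀ n : ℕ, (𝒩 n : Set N).image v = (ℳ (n * d) : Set M)) :
    Nonempty (GrTilde.tilde 𝒜 ℳ 0 ≅ (Scheme.Modules.pullback e.hom).obj (GrTilde.tilde ℬ 𝒩 0)) := by
  have hφd : ∀ n b, b ∈ ℬ n → φ.toRingHom b ∈ 𝒜 (n * d) :=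
    fun n b hb => (hdeg n).le (Submodule.mem_map_of_mem hb)
  have hsurj : ∀ n a, a ∈ 𝒜 (n * d) → ∃ b ∈ ℬ n, φ.toRingHom b = a := by
    intro n a ha
    obtain ⟨b, hb, hba⟩ := (hdeg n).ge ha
    exact ⟨b, hb, hba⟩
  have hchart := Groth.Agent.Helper6.VeroSheaf.chart_of_compat 𝒜 ℬ d φ.toRingHom hd hφd e.hom he
  have hvd : ∀ (i : ℕ) (x : N), x ∈ 𝒩 i → v x ∈ ℳ (i * d) :=
    fun i x hx => (hvdeg i).le ⟨x, hx, rfl⟩
  have hv_surj : ∀ i m, m ∈ ℳ (i * d) → ∃ x ∈ 𝒩 i, v x = m := by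
    intro i m hm
    obtain ⟨x, hx, hxm⟩ := (hvdeg i).ge hm
    exact ⟨x, hx, hxm⟩
  obtain ⟨e1⟩ := Groth.Agent.Helper6.VeroSheaf.nonempty_tilde_iso_of_chart 𝒜 ℬ d φ.toRingHom hd hφd
    hsurj e.hom hchart ℳ 𝒩 v hvd hv hv_surj 0
  have h0 : (0 : ℤ) * (d : ℤ) = 0 := zero_mul _
  rw [h0] at e1
  exact ⟨e1⟩

end Groth.Agent.S9579
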