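import Groth.Statements.S9581
import Groth.Agent.Lib.Helper14.LocAnn
import Mathlib
-- import your own Groth.Agent.* helpers here

set_option autoImplicit false
universe u
open CAlg

namespace Groth.Agent.S9581

lemma mem_minimalPrimes_iff_eq_radical {A : Type*} [CommRing A] [IsLocalRing A] (I : Ideal A) :
    IsLocalRing.maximalIdeal A ∈ I.minimalPrimes ↔ IsLocalRing.maximalIdeal A = I.radical := by
  constructor
  · intro h
    rw [Ideal.radical_eq_sInf]
    apply le_antisymm
    · apply le_sInf
      rintro q ⟨hIq, hq⟩
      exact h.2 ⟨hq, hIq⟩ (IsLocalRing.le_maximalIdeal hq.ne_top)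
    · exact sInf_le ⟨h.1.2, h.1.1⟩
  · intro h
    refine ⟨⟨inferInstance, ?_⟩, ?_⟩
    · rw [h]; exact Ideal.le_radical
    · rintro q ⟨hq, hIq⟩ _
      rw [h]
      exact hq.radical_le_iff.2 hIq

/-- (1) ⇔ (3): for a ring R, an R-module M and a prime p of R, the prime p is weakly associated to M
(minimal among the primes containing the annihilator of some element of M) if and only if the
localization M_p contains an element whose annihilator in R_p has radical equal to the maximal ideal
p R_p. -/
theorem result {R : Type u} [CommRing R] (M : Type u) [AddCommGroup M] [Module R M] (p : Ideal R) [p.IsPrime] :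
    p ∈ FlatCA.weakAss R M ↔ IsAssociatedPrime (IsLocalRing.maximalIdeal (Localization.AtPrime p)) (LocalizedModule p.primeCompl M) := by
  have hS : Disjoint (p.primeCompl : Set R) (p : Set R) := by
    rw [Set.disjoint_left]; intro x hx hx'; exact hx hx'
  rw [Helper14.weakAss_loc_iff p.primeCompl p hS, Localization.AtPrime.map_eq_maximalIdeal]
  constructor
  · rintro ⟨z, hz⟩
    refine ⟨inferInstance, z, ?_⟩
    rw [Submodule.bot_colon']
    exact (mem_minimalPrimes_iff_eq_radical _).1 hz
  · rintro ⟨_, z, hz⟩
    refine ⟨z, ?_⟩
    rw [Submodule.bot_colon'] at hz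
    exact (mem_minimalPrimes_iff_eq_radical _).2 hz

end Groth.Agent.S9581
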