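import Groth.Statements.S9582
import Groth.Agent.Lib.Helper14.WeakAss
-- import your own Groth.Agent.* helpers here

set_option autoImplicit false
universe u
open CAlg

namespace Groth.Agent.S9582

/-- For a reduced ring R, the primes weakly associated to the R-module R (primes minimal over the
annihilator of some element) are exactly the minimal primes of R. -/
theorem result {R : Type u} [CommRing R] [IsReduced R] :
    FlatCA.weakAss R R = minimalPrimes R := by
  ext p
  constructor
  · rintro ⟨x, hp⟩
    have hpp : p.IsPrime := hp.1.1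
    have hdisj : Disjoint ((⊥ : Ideal R) : Set R)
        ((p.primeCompl ⊔ Submonoid.powers x : Submonoid R) : Set R) := by
      rw [Set.disjoint_left]
      intro y hy0 hyT
      have hy0' : y = 0 := by simpa using hy0
      obtain ⟨s, hs, z, ⟨n, rfl⟩, rfl⟩ := Submonoid.mem_sup.mp hyT
      have h1 : (s * x) ^ (n + 1) = 0 := by
        have : (s * x) ^ (n + 1) = (s * x ^ n) * (s ^ n * x) := by ring
        rw [this, hy0', zero_mul]
      have h2 : s * x = 0 := (IsReduced.eq_zero _ ⟨n + 1, h1⟩)
      have h3 : s ∈ Helper14.annElt R x := by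
        rw [Helper14.mem_annElt, smul_eq_mul, h2]
      exact hs (hp.1.2 h3)
    obtain ⟨q, hq, -, hqT⟩ := Ideal.exists_le_prime_disjoint ⊥ _ hdisj
    obtain ⟨q', hq', hq'q⟩ := Ideal.exists_minimalPrimes_le (I := ⊥) (J := q) bot_le
    have hq'T : ∀ y ∈ q', y ∉ (p.primeCompl ⊔ Submonoid.powers x : Submonoid R) :=
      fun y hy => Set.disjoint_left.mp hqT (hq'q hy)
    have hq'p : q' ≤ p := by
      intro y hy
      by_contra hyp
      exact hq'T y hy (Submonoid.mem_sup_left hyp)
    have hxq' : x ∉ q' := fun hx =>
      hq'T x hx (Submonoid.mem_sup_right (Submonoid.mem_powers x))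
    have hq'prime : q'.IsPrime := hq'.1.1
    have hann : Helper14.annElt R x ≤ q' := by
      intro a ha
      rw [Helper14.mem_annElt, smul_eq_mul] at ha
      have : a * x ∈ q' := by rw [ha]; exact zero_mem _
      exact (hq'prime.mem_or_mem this).resolve_right hxq'
    have hpq' : p ≤ q' := hp.2 ⟨hq'prime, hann⟩ hq'p
    have : p = q' := le_antisymm hpq' hq'p
    rw [this]
    exact hq'
  · intro hp
    refine ⟨1, ?_⟩
    have : Helper14.annElt R (1 : R) = ⊥ := by
      ext a
      rw [Helper14.mem_annElt]
      simp
    change p ∈ (Helper14.annElt R (1 : R)).minimalPrimes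
    rw [this]
    exact hp

end Groth.Agent.S9582
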