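import Groth.Statements.S9583
import Groth.Agent.Lib.Helper14.WeakAss
-- import your own Groth.Agent.* helpers here

set_option autoImplicit false
universe u
open CAlg

namespace Groth.Agent.S9583

/-- For a ring R and a short exact sequence 0 → M' → M → M'' → 0 of R-modules, every prime weakly
associated to M' is weakly associated to M, and every prime weakly associated to M is weakly
associated to M' or to M''. -/
theorem result {R : Type u} [CommRing R] {M' M M'' : Type u} [AddCommGroup M'] [Module R M'] [AddCommGroup M] [Module R M] [AddCommGroup M''] [Module R M''] (f : M' →ₗ[R] M) (g : M →ₗ[R] M'') (hf : Function.Injective f) (hg : Function.Surjective g) (hfg : Function.Exact f g) :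
    FlatCA.weakAss R M' ⊆ FlatCA.weakAss R M ∧ FlatCA.weakAss R M ⊆ FlatCA.weakAss R M' ∪ FlatCA.weakAss R M'' := by
  constructor
  · rintro p ⟨m', hp⟩
    refine ⟨f m', ?_⟩
    have : Helper14.annElt R (f m') = Helper14.annElt R m' := by
      ext a
      rw [Helper14.mem_annElt, Helper14.mem_annElt, ← map_smul]
      constructor
      · intro h
        apply hf
        rw [h, map_zero]
      · intro h
        rw [h, map_zero]
    change p ∈ (Helper14.annElt R (f m')).minimalPrimes
    rw [this]
    exact hp
  · rintro p ⟨m, hp⟩
    have hpp : p.IsPrime := hp.1.1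
    by_cases hle : Helper14.annElt R (g m) ≤ p
    · right
      refine ⟨g m, Helper14.minimalPrimes_of_le_of_le hp ?_ hle⟩
      intro a ha
      rw [Helper14.mem_annElt] at ha ⊢
      rw [← map_smul, ha, map_zero]
    · left
      obtain ⟨a, ha, hap⟩ := SetLike.not_le_iff_exists.mp hle
      rw [Helper14.mem_annElt, ← map_smul] at ha
      obtain ⟨m', hm'⟩ := (hfg (a • m)).mp ha
      refine ⟨m', ?_⟩
      have h1 : Helper14.annElt R m' = Helper14.annElt R (a • m) := by
        ext b
        rw [Helper14.mem_annElt, Helper14.mem_annElt, ← hm', ← map_smul]
        constructor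
        · intro h
          rw [h, map_zero]
        · intro h
          apply hf
          rw [h, map_zero]
      change p ∈ (Helper14.annElt R m').minimalPrimes
      rw [h1]
      exact Helper14.minimalPrimes_of_le_of_le hp (Helper14.annElt_le_annElt_smul a m)
        (Helper14.annElt_smul_le_of_notMem hap hp.1.2)

end Groth.Agent.S9583
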