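import Groth.Statements.S9585
import Groth.Agent.Lib.Helper14.WeakAss
-- import your own Groth.Agent.* helpers here

set_option autoImplicit false
universe u
open CAlg

namespace Groth.Agent.S9585

/-- For a ring R and an R-module M, an element of R lies in some weakly associated prime of M exactly
when multiplication by it on M is not injective; in other words the union of the weakly associated
primes of M equals the set of zerodivisors on M. -/
theorem result {R : Type u} [CommRing R] (M : Type u) [AddCommGroup M] [Module R M] :
    ⋃ q ∈ FlatCA.weakAss R M, (q : Set R) = {f : R | ¬ IsSMulRegular M f} := by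
  ext f
  simp only [Set.mem_iUnion, SetLike.mem_coe, exists_prop, Set.mem_setOf_eq]
  constructor
  · rintro ⟨q, ⟨m, hq⟩, hf⟩
    obtain ⟨y, hy, hfy⟩ := Ideal.exists_mul_mem_of_mem_minimalPrimes hq hf
    rw [Helper14.mem_annElt] at hy hfy
    intro hreg
    apply hy
    apply hreg
    simp only [smul_zero]
    rw [smul_smul]
    exact hfy
  · intro hreg
    have : ¬ Function.Injective (fun m : M => f • m) := hreg
    rw [Function.Injective] at this
    push Not at this
    obtain ⟨m1, m2, h12, hne⟩ := this
    have hm : m1 - m2 ≠ 0 := sub_ne_zero.mpr hne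
    have hfm : f ∈ Helper14.annElt R (m1 - m2) := by
      rw [Helper14.mem_annElt, smul_sub]
      exact sub_eq_zero.mpr h12
    obtain ⟨q, hq⟩ := Ideal.nonempty_minimalPrimes (Helper14.annElt_ne_top (R := R) hm)
    exact ⟨q, ⟨m1 - m2, hq⟩, hq.1.2 hfm⟩

end Groth.Agent.S9585
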