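import Groth.Statements.S9586
import Groth.Agent.Lib.Helper14.WeakAss
import Mathlib.RingTheory.Ideal.Operations
import Mathlib.RingTheory.Noetherian.Defs
-- import your own Groth.Agent.* helpers here

set_option autoImplicit false
universe u
open CAlg

namespace Groth.Agent.S9586

/-- For a ring R, an R-module M and a finitely generated prime ideal p of R, p is associated to M (equal
to the annihilator of an element) if and only if p is weakly associated to M (minimal over the
annihilator of an element). -/
theorem result {R : Type u} [CommRing R] (M : Type u) [AddCommGroup M] [Module R M] (p : Ideal R) [p.IsPrime] (hp : p.FG) :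
    p ∈ FlatCA.ass R M ↔ p ∈ FlatCA.weakAss R M := by
  classical
  constructor
  · rintro ⟨-, m, hm⟩
    refine ⟨m, ?_⟩
    rw [← hm, Ideal.minimalPrimes_eq_subsingleton_self]
    exact rfl
  · rintro ⟨m, hpm⟩
    have hpp : p.IsPrime := inferInstance
    let J : Ideal R :=
      { carrier := {b | ∃ t, t ∉ p ∧ (t * b) • m = 0}
        add_mem' := by
          rintro a b ⟨t, ht, hta⟩ ⟨u, hu, hub⟩
          refine ⟨t * u, fun h => (hpp.mem_or_mem h).elim ht hu, ?_⟩
          have : (t * u * (a + b)) = u * (t * a) + t * (u * b) := by ring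
          rw [this, add_smul, mul_smul u (t * a), mul_smul t (u * b), hta, hub, smul_zero, smul_zero, add_zero]
        zero_mem' := ⟨1, fun h => hpp.ne_top ((Ideal.eq_top_iff_one _).mpr h), by simp⟩
        smul_mem' := by
          rintro c b ⟨t, ht, htb⟩
          refine ⟨t, ht, ?_⟩
          have : t * (c • b) = c * (t * b) := by rw [smul_eq_mul]; ring
          rw [this, mul_smul, htb, smul_zero] }
    have hmemJ : ∀ b, b ∈ J ↔ ∃ t, t ∉ p ∧ (t * b) • m = 0 := fun b => Iff.rfl
    have hJp : J ≤ p := by
      intro b hb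
      obtain ⟨t, ht, htb⟩ := (hmemJ b).mp hb
      have : t * b ∈ p := hpm.1.2 (Helper14.mem_annElt.mpr htb)
      exact (hpp.mem_or_mem this).resolve_left ht
    have hpJ : p ≤ J.radical := by
      intro x hx
      obtain ⟨s, hs, n, hn⟩ := Helper14.exists_mul_pow_mem_of_mem_minimalPrimes hpm hx
      exact ⟨n, (hmemJ _).mpr ⟨s, hs, Helper14.mem_annElt.mp hn⟩⟩
    have hex : ∃ k : ℕ, p ^ k ≤ J := Ideal.exists_pow_le_of_le_radical_of_fg hpJ hp
    have hk0 := Nat.find_spec hex
    have hmin : ∀ j, j < Nat.find hex → ¬ p ^ j ≤ J := fun j hj => Nat.find_min hex hj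
    set k0 := Nat.find hex
    have hk0pos : k0 ≠ 0 := by
      intro h0
      rw [h0, pow_zero, Ideal.one_eq_top] at hk0
      have h1 : (1 : R) ∈ J := hk0 Submodule.mem_top
      exact hpp.ne_top ((Ideal.eq_top_iff_one _).mpr (hJp h1))
    obtain ⟨c, hc, hcJ⟩ := SetLike.not_le_iff_exists.mp (hmin (k0 - 1) (by omega))
    obtain ⟨s, hs⟩ := hp
    have hgen : ∀ x ∈ s, ∃ t, t ∉ p ∧ (t * (x * c)) • m = 0 := by
      intro x hx
      have hxp : x ∈ p := hs ▸ Ideal.subset_span hx
      have h2 : x * c ∈ p ^ k0 := by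
        have h3 := Ideal.mul_mem_mul hxp hc
        rwa [← pow_succ', Nat.sub_add_cancel (Nat.one_le_iff_ne_zero.mpr hk0pos)] at h3
      exact (hmemJ _).mp (hk0 h2)
    choose! t ht using hgen
    have hT : (∏ x ∈ s, t x) ∉ p := by
      intro h
      obtain ⟨x, hx, hxp⟩ := (Ideal.IsPrime.prod_mem_iff).mp h
      exact (ht x hx).1 hxp
    refine ⟨hpp, ((∏ x ∈ s, t x) * c) • m, ?_⟩
    apply le_antisymm
    · rw [← hs, Ideal.span_le]
      intro x hx
      rw [SetLike.mem_coe, Helper14.mem_annElt, smul_smul]
      have h4 : x * ((∏ y ∈ s, t y) * c) = (∏ y ∈ s.erase x, t y) * (t x * (x * c)) := by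
        rw [← Finset.mul_prod_erase s t hx]
        ring
      rw [h4, mul_smul, (ht x hx).2, smul_zero]
    · intro b hb
      rw [Helper14.mem_annElt, smul_smul] at hb
      by_contra hbp
      apply hcJ
      refine (hmemJ c).mpr ⟨b * ∏ x ∈ s, t x, ?_, ?_⟩
      · intro h
        rcases hpp.mem_or_mem h with h | h
        · exact hbp h
        · exact hT h
      · rw [← hb]
        congr 1
        ring

end Groth.Agent.S9586
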