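import Groth.Statements.S9590
import Groth.Agent.Lib.Helper14.LocAnn
-- import your own Groth.Agent.* helpers here

set_option autoImplicit false
universe u
open CAlg

namespace Groth.Agent.S9590

/-- For a ring R, an R-module M and a multiplicative subset S of R such that every element of S is a
nonzerodivisor on M, the primes of R weakly associated to M are the same as those weakly associated
to the R-module S⁻¹M. -/
theorem result {R : Type u} [CommRing R] (S : Submonoid R) (M : Type u) [AddCommGroup M] [Module R M] (hS : ∀ s ∈ S, IsSMulRegular M s) :
    FlatCA.weakAss R M = FlatCA.weakAss R (LocalizedModule S M) := by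
  ext p
  constructor
  · rintro ⟨m, hp⟩
    refine ⟨LocalizedModule.mk m 1, ?_⟩
    change p ∈ (Helper14.annElt R (LocalizedModule.mk m (1 : S))).minimalPrimes
    rw [Helper14.annElt_R_locmk_of_regular S hS]
    exact hp
  · rintro ⟨z, hz⟩
    induction z using LocalizedModule.induction_on with
    | h m s =>
      change p ∈ (Helper14.annElt R (LocalizedModule.mk m s)).minimalPrimes at hz
      rw [Helper14.annElt_R_locmk_of_regular S hS] at hz
      exact ⟨m, hz⟩

end Groth.Agent.S9590
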