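import Groth.Statements.S9594
import Groth.Agent.Lib.Helper14.LocAnn
-- import your own Groth.Agent.* helpers here

set_option autoImplicit false
universe u
open CAlg

namespace Groth.Agent.S9594

/-- For a ring R, an R-module M and a multiplicative subset S of R, (1) the primes of R associated to
the R-module S⁻¹M are the inverse images of the primes of S⁻¹R associated to S⁻¹M, and (2) a prime
of R associated to M which does not meet S is associated to the R-module S⁻¹M. Here a prime is
associated to a module when it equals the annihilator of some element. -/
theorem result {R : Type u} [CommRing R] (S : Submonoid R) (M : Type u) [AddCommGroup M] [Module R M] :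
    FlatCA.ass R (LocalizedModule S M) = Ideal.comap (algebraMap R (Localization S)) '' FlatCA.ass (Localization S) (LocalizedModule S M) ∧
      ∀ p ∈ FlatCA.ass R M, Disjoint (S : Set R) (p : Set R) → p ∈ FlatCA.ass R (LocalizedModule S M) := by
  constructor
  · ext p
    constructor
    · rintro ⟨hp, z, hz⟩
      change p = Helper14.annElt R z at hz
      have hdisj : Disjoint (S : Set R) (p : Set R) := by
        rw [Set.disjoint_left]
        intro u huS hup
        rw [SetLike.mem_coe, hz, Helper14.mem_annElt] at hup
        have hz0 : z = 0 := LocalizedModule.eq_zero_of_smul_eq_zero u huS z hup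
        have : Helper14.annElt R z = ⊤ := Helper14.annElt_eq_top_iff.mpr hz0
        exact hp.ne_top (hz.trans this)
      have hcomap : Ideal.comap (algebraMap R (Localization S))
          (Helper14.annElt (Localization S) z) = p := by
        rw [← Helper14.annElt_R_loc, ← hz]
      refine ⟨Helper14.annElt (Localization S) z, ⟨?_, z, rfl⟩, hcomap⟩
      have h1 := IsLocalization.map_under S (Localization S)
        (Helper14.annElt (Localization S) z)
      change Ideal.map _ (Ideal.comap _ _) = _ at h1
      rw [hcomap] at h1
      have h2 := IsLocalization.isPrime_of_isPrime_disjoint S (Localization S) p hp hdisj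
      rw [h1] at h2
      exact h2
    · rintro ⟨q, ⟨hq, z, rfl⟩, rfl⟩
      refine ⟨Ideal.comap_isPrime _ _, z, ?_⟩
      exact (Helper14.annElt_R_loc S z).symm
  · rintro p ⟨hp, m, hm⟩ hdisj
    change p = Helper14.annElt R m at hm
    refine ⟨hp, LocalizedModule.mk m 1, ?_⟩
    change p = Helper14.annElt R (LocalizedModule.mk m (1 : S))
    ext a
    rw [Helper14.mem_annElt_locmk]
    constructor
    · intro ha
      refine ⟨1, ?_⟩
      have : a ∈ Helper14.annElt R m := hm ▸ ha
      rw [Helper14.mem_annElt] at this
      rw [mul_smul, this, smul_zero]
    · rintro ⟨u, hu⟩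
      have h1 : (u : R) * a ∈ p := by
        rw [hm, Helper14.mem_annElt]
        exact hu
      refine (hp.mem_or_mem h1).resolve_left ?_
      intro hup
      exact Set.disjoint_left.mp hdisj u.2 hup

end Groth.Agent.S9594
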