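import Groth.Statements.S9598
import Mathlib
-- import your own Groth.Agent.* helpers here

set_option autoImplicit false
universe u
open CAlg

namespace Groth.Agent.S9598

/-- For a field k and a finite type k-algebra S with dim S > 0, some element of S is a nonzerodivisor
and a nonunit. -/
theorem result {k S : Type u} [Field k] [CommRing S] [Algebra k S] [Algebra.FiniteType k S] (hdim : 0 < ringKrullDim S) :
    ∃ f : S, f ∈ nonZeroDivisors S ∧ ¬ IsUnit f := by
  classical
  have hN : IsNoetherianRing S := Algebra.FiniteType.isNoetherianRing k S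
  have hJ : IsJacobsonRing S := isJacobsonRing_of_finiteType (A := k)
  have h1 : ∃ p : Ideal S, p.IsPrime ∧ ¬ p.IsMaximal := by
    by_contra hcon
    push Not at hcon
    have h0 : Ring.KrullDimLE 0 S := Ring.krullDimLE_zero_iff.2 (fun I hI => hcon I hI)
    have h0' : ringKrullDim S ≤ 0 := by
      have := (Ring.krullDimLE_iff (n := 0) (R := S)).1 h0
      simpa using this
    exact absurd hdim (not_lt.2 h0')
  obtain ⟨p, hp, hpm⟩ := h1
  have hfin : (associatedPrimes S S).Finite := associatedPrimes.finite S S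
  have h2 : ∃ m : Ideal S, m.IsMaximal ∧ p ≤ m ∧ m ∉ associatedPrimes S S := by
    by_contra hcon
    push Not at hcon
    have hjac : p.jacobson = p := IsJacobsonRing.out' p hp.isRadical
    have hsub : {J : Ideal S | p ≤ J ∧ J.IsMaximal} ⊆ associatedPrimes S S :=
      fun m hm => hcon m hm.2 hm.1
    have hfin' : {J : Ideal S | p ≤ J ∧ J.IsMaximal}.Finite := hfin.subset hsub
    have h3 : hfin'.toFinset.inf id ≤ p := by
      conv_rhs => rw [← hjac]
      rw [Ideal.jacobson]
      apply le_sInf
      intro J hJ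
      exact Finset.inf_le (f := id) (hfin'.mem_toFinset.2 hJ)
    obtain ⟨m, hm, hmp⟩ := hp.inf_le'.1 h3
    rw [hfin'.mem_toFinset] at hm
    have : m = p := le_antisymm hmp hm.1
    exact hpm (this ▸ hm.2)
  obtain ⟨m, hm, hpm', hmAss⟩ := h2
  have h3 : ¬ ((m : Set S) ⊆ ⋃ q ∈ (hfin.toFinset : Set (Ideal S)), (q : Set S)) := by
    intro hsub
    have hsub' := (Ideal.subset_union_prime (s := hfin.toFinset) (f := fun q : Ideal S => q)
      ⊥ ⊥ (fun q hq _ _ => by
      rw [hfin.mem_toFinset] at hq; exact hq.isPrime)).1 hsub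
    obtain ⟨q, hq, hmq⟩ := hsub'
    rw [hfin.mem_toFinset] at hq
    have hq' : q.IsPrime := hq.isPrime
    have : m = q := hm.eq_of_le hq'.ne_top hmq
    exact hmAss (this ▸ hq)
  rw [Set.not_subset] at h3
  obtain ⟨f, hfm, hf⟩ := h3
  refine ⟨f, ?_, ?_⟩
  · by_contra hnz
    have : f ∈ (nonZeroDivisors S : Set S)ᶜ := hnz
    rw [← biUnion_associatedPrimes_eq_compl_nonZeroDivisors] at this
    apply hf
    simp only [Set.mem_iUnion] at this ⊢
    obtain ⟨q, hq, hfq⟩ := this
    exact ⟨q, by simpa using hq, hfq⟩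
  · intro hu
    exact hm.ne_top (Ideal.eq_top_of_isUnit_mem _ hfm hu)

end Groth.Agent.S9598
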