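import Groth.Statements.S9600
import Mathlib
-- import your own Groth.Agent.* helpers here

set_option autoImplicit false
universe u
open CAlg

namespace Groth.Agent.S9600

/-- Let R be a ring, I an ideal of R and 0 → M → N → Q → 0 a short exact sequence of R-modules in which
Q is killed by some power I^c of I. Then on I-adic completions the map M^ → N^ is injective, N^ → Q^
is surjective with kernel equal to the image of M^, and the canonical map Q → Q^ is bijective; so 0
→ M^ → N^ → Q → 0 is again short exact. -/
theorem result {R : Type u} [CommRing R] (I : Ideal R) {M N Q : Type u} [AddCommGroup M] [Module R M] [AddCommGroup N] [Module R N] [AddCommGroup Q] [Module R Q] (i : M →ₗ[R] N) (g : N →ₗ[R] Q) (hi : Function.Injective i) (hg : Function.Surjective g) (hig : Function.Exact i g) (c : ℕ) (hc : ∀ x ∈ I ^ c, ∀ q : Q, x • q = 0) :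
    Function.Injective (AdicCompletion.map I i) ∧ Function.Exact (AdicCompletion.map I i) (AdicCompletion.map I g) ∧ Function.Surjective (AdicCompletion.map I g) ∧ Function.Bijective (AdicCompletion.of I Q) := by
  have hQbot : ∀ n, c ≤ n → (I ^ n • ⊤ : Submodule R Q) = ⊥ := by
    intro n hn
    rw [eq_bot_iff, Submodule.smul_le]
    intro x hx q _
    rw [Submodule.mem_bot]
    exact hc x (Ideal.pow_le_pow_right hn hx) q
  have hK1 : (I ^ c • ⊤ : Submodule R N) ≤ LinearMap.range i := by
    rw [Submodule.smul_le]
    intro x hx n _
    rw [← (hig.linearMap_ker_eq), LinearMap.mem_ker, map_smul]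
    exact hc x hx _
  have hK2 : ∀ (m : ℕ) (y : N), y ∈ (I ^ (m + c) • ⊤ : Submodule R N) →
      ∃ z ∈ (I ^ m • ⊤ : Submodule R M), i z = y := by
    intro m y hy
    have h1 : (I ^ (m + c) • ⊤ : Submodule R N) ≤ Submodule.map i (I ^ m • ⊤ : Submodule R M) := by
      rw [pow_add, mul_smul, Submodule.map_smul'', Submodule.map_top]
      exact Submodule.smul_mono le_rfl hK1
    obtain ⟨z, hz, hzy⟩ := h1 hy
    exact ⟨z, hz, hzy⟩
  refine ⟨?_, ?_, AdicCompletion.map_surjective I hg, ?_, ?_⟩
  · -- injectivity
    rw [injective_iff_map_eq_zero]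
    intro x hx
    obtain ⟨a, rfl⟩ := AdicCompletion.mk_surjective I M x
    rw [AdicCompletion.map_mk] at hx
    have ha : ∀ n, i (a n) ∈ (I ^ n • ⊤ : Submodule R N) := by
      intro n
      have h1 := congrArg (fun z => z.val n) hx
      simp only [AdicCompletion.mk_apply_coe, AdicCompletion.val_zero_apply] at h1
      rw [Submodule.mkQ_apply, Submodule.Quotient.mk_eq_zero] at h1
      exact h1
    apply AdicCompletion.ext
    intro n
    simp only [AdicCompletion.mk_apply_coe, AdicCompletion.val_zero_apply]
    rw [Submodule.mkQ_apply, Submodule.Quotient.mk_eq_zero]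
    obtain ⟨z, hz, hzy⟩ := hK2 n _ (ha (n + c))
    have hz' : z = a (n + c) := hi hzy
    have h2 : a n - a (n + c) ∈ (I ^ n • ⊤ : Submodule R M) := by
      rw [← SModEq.sub_mem]
      exact a.property (Nat.le_add_right n c)
    have : a n = (a n - a (n + c)) + a (n + c) := by abel
    rw [this]
    exact add_mem h2 (hz' ▸ hz)
  · -- exactness
    intro y
    constructor
    · intro hy
      obtain ⟨b, rfl⟩ := AdicCompletion.mk_surjective I N y
      rw [AdicCompletion.map_mk] at hy
      have hb : ∀ n, g (b (n + c)) = 0 := by
        intro n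
        have h1 := congrArg (fun z => z.val (n + c)) hy
        simp only [AdicCompletion.mk_apply_coe, AdicCompletion.val_zero_apply] at h1
        rw [Submodule.mkQ_apply, Submodule.Quotient.mk_eq_zero, hQbot (n + c) (Nat.le_add_left c n),
          Submodule.mem_bot] at h1
        exact h1
      have hk : ∀ n, ∃ k : M, i k = b (n + c) := fun n => (hig _).1 (hb n)
      choose k hk using hk
      have hcauchy : ∀ n, k n ≡ k (n + 1) [SMOD (I ^ n • ⊤ : Submodule R M)] := by
        intro n
        rw [SModEq.sub_mem]
        have h3 : b (n + c) - b (n + 1 + c) ∈ (I ^ (n + c) • ⊤ : Submodule R N) := by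
          rw [← SModEq.sub_mem]
          exact b.property (by omega)
        obtain ⟨z, hz, hzy⟩ := hK2 n _ h3
        have : z = k n - k (n + 1) := by
          apply hi
          rw [hzy, map_sub, hk, hk]
        exact this ▸ hz
      refine ⟨AdicCompletion.mk I M (AdicCompletion.AdicCauchySequence.mk I M k hcauchy), ?_⟩
      rw [AdicCompletion.map_mk]
      apply AdicCompletion.ext
      intro n
      simp only [AdicCompletion.mk_apply_coe]
      rw [Submodule.mkQ_apply, Submodule.mkQ_apply, Submodule.Quotient.eq]
      change i (k n) - b n ∈ _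
      rw [hk, ← Submodule.neg_mem_iff, neg_sub, ← SModEq.sub_mem]
      exact b.property (Nat.le_add_right n c)
    · rintro ⟨x, rfl⟩
      rw [AdicCompletion.map_comp_apply]
      have : g ∘ₗ i = 0 := by
        ext k
        exact (hig _).2 ⟨k, rfl⟩
      rw [this, AdicCompletion.map_zero]
      rfl
  · -- of injective
    rw [injective_iff_map_eq_zero]
    intro q hq
    have h1 := congrArg (fun z => z.val c) hq
    simp only [AdicCompletion.of_apply, AdicCompletion.val_zero_apply] at h1
    rw [Submodule.mkQ_apply, Submodule.Quotient.mk_eq_zero, hQbot c le_rfl, Submodule.mem_bot] at h1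
    exact h1
  · -- of surjective
    intro z
    obtain ⟨e, rfl⟩ := AdicCompletion.mk_surjective I Q z
    refine ⟨e c, ?_⟩
    apply AdicCompletion.ext
    intro n
    simp only [AdicCompletion.of_apply, AdicCompletion.mk_apply_coe]
    rw [Submodule.mkQ_apply, Submodule.mkQ_apply, Submodule.Quotient.eq]
    rcases le_total n c with hn | hn
    · rw [← Submodule.neg_mem_iff, neg_sub, ← SModEq.sub_mem]
      exact e.property hn
    · have h2 : e c - e n ∈ (I ^ c • ⊤ : Submodule R Q) := by
        rw [← SModEq.sub_mem]
        exact e.property hn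
      rw [hQbot c le_rfl, Submodule.mem_bot] at h2
      rw [h2]
      exact zero_mem _

end Groth.Agent.S9600
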