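import Groth.Statements.S9601
import Mathlib
-- import your own Groth.Agent.* helpers here

set_option autoImplicit false
universe u
open CAlg

namespace Groth.Agent.S9601

/-- For a ring R, an ideal I of R and an R-module M, let M^ be the I-adic completion and K_n the kernel
of the projection M^ → M/IⁿM. The completion M^ is I-adically complete exactly when K_n = Iⁿ M^
holds for every n ≥ 1. -/
theorem result {R : Type u} [CommRing R] (I : Ideal R) (M : Type u) [AddCommGroup M] [Module R M] :
    IsAdicComplete I (AdicCompletion I M) ↔ ∀ n : ℕ, 1 ≤ n → LinearMap.ker (AdicCompletion.eval I M n) = I ^ n • (⊤ : Submodule R (AdicCompletion I M)) := by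
  -- I^n A ≤ K_n
  have hle : ∀ n, (I ^ n • ⊤ : Submodule R (AdicCompletion I M)) ≤
      LinearMap.ker (AdicCompletion.eval I M n) := by
    intro n
    rw [Submodule.smul_le]
    intro r hr a _
    rw [LinearMap.mem_ker, map_smul]
    obtain ⟨w, hw⟩ := Submodule.Quotient.mk_surjective _ (AdicCompletion.eval I M n a)
    rw [← hw, ← Submodule.Quotient.mk_smul, Submodule.Quotient.mk_eq_zero]
    exact Submodule.smul_mem_smul hr Submodule.mem_top
  have hof : ∀ (n : ℕ) (z : M), z ∈ (I ^ n • ⊤ : Submodule R M) →
      AdicCompletion.of I M z ∈ (I ^ n • ⊤ : Submodule R (AdicCompletion I M)) := by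
    intro n z hz
    have h1 : Submodule.map (AdicCompletion.of I M) (I ^ n • ⊤ : Submodule R M) ≤
        (I ^ n • ⊤ : Submodule R (AdicCompletion I M)) := by
      rw [Submodule.map_smul'']
      exact Submodule.smul_mono le_rfl le_top
    exact h1 ⟨z, hz, rfl⟩
  constructor
  · intro hcomp n _
    apply le_antisymm _ (hle n)
    intro x hx
    obtain ⟨z, rfl⟩ := AdicCompletion.mk_surjective I M x
    have hzn : z n ∈ (I ^ n • ⊤ : Submodule R M) := by
      rw [LinearMap.mem_ker, AdicCompletion.eval_apply, AdicCompletion.mk_apply_coe,
        Submodule.mkQ_apply, Submodule.Quotient.mk_eq_zero] at hx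
      exact hx
    have hpre : IsPrecomplete I (AdicCompletion I M) := hcomp.toIsPrecomplete
    obtain ⟨L, hL⟩ := hpre.prec (f := fun m => AdicCompletion.of I M (z m)) (by
      intro m m' hmm'
      rw [SModEq.sub_mem, ← map_sub]
      apply hof
      rw [← SModEq.sub_mem]
      exact z.property hmm')
    have hLx : L = AdicCompletion.mk I M z := by
      apply AdicCompletion.ext
      intro m
      have h1 : AdicCompletion.of I M (z m) - L ∈ LinearMap.ker (AdicCompletion.eval I M m) :=
        hle m ((SModEq.sub_mem).1 (hL m))
      rw [LinearMap.mem_ker, map_sub, sub_eq_zero, AdicCompletion.eval_apply,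
        AdicCompletion.eval_apply, AdicCompletion.of_apply] at h1
      rw [← h1, AdicCompletion.mk_apply_coe]
    rw [← hLx]
    have h2 : AdicCompletion.of I M (z n) - L ∈
        (I ^ n • ⊤ : Submodule R (AdicCompletion I M)) := (SModEq.sub_mem).1 (hL n)
    have : L = AdicCompletion.of I M (z n) - (AdicCompletion.of I M (z n) - L) := by abel
    rw [this]
    exact sub_mem (hof n _ hzn) h2
  · intro h
    have hpre : IsPrecomplete I (AdicCompletion I M) := by
      refine ⟨fun f hf => ?_⟩
      have hcompat : ∀ {m n}, m ≤ n → (f n).val m = (f m).val m := by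
        intro m n hmn
        have h1 : f m - f n ∈ LinearMap.ker (AdicCompletion.eval I M m) :=
          hle m ((SModEq.sub_mem).1 (hf hmn))
        rw [LinearMap.mem_ker, map_sub, sub_eq_zero, AdicCompletion.eval_apply,
          AdicCompletion.eval_apply] at h1
        exact h1.symm
      let L : AdicCompletion I M := ⟨fun n => (f n).val n, by
        intro m n hmn
        change AdicCompletion.transitionMap I M hmn ((f n).val n) = (f m).val m
        rw [(f n).property hmn]
        exact hcompat hmn⟩
      refine ⟨L, fun n => ?_⟩
      rcases Nat.eq_zero_or_pos n with rfl | hn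
      · rw [SModEq.sub_mem, pow_zero, Ideal.one_eq_top, Submodule.top_smul]
        exact Submodule.mem_top
      · rw [SModEq.sub_mem, ← h n hn, LinearMap.mem_ker, map_sub, sub_eq_zero,
          AdicCompletion.eval_apply, AdicCompletion.eval_apply]
    exact { toIsHausdorff := inferInstance, toIsPrecomplete := hpre }

end Groth.Agent.S9601
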