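import Groth.Statements.S9602
import Mathlib.RingTheory.Nilpotent.Basic
-- import your own Groth.Agent.* helpers here

set_option autoImplicit false
universe u
open CAlg

namespace Groth.Agent.S9602

theorem evalOne_eq_mk {R : Type u} [CommRing R] (I : Ideal R) (y : AdicCompletion I R) (r : R)
    (h1 : y.val 1 = Ideal.Quotient.mk (I ^ 1 • ⊤ : Ideal R) r) :
    AdicCompletion.evalOneₐ I y = Ideal.Quotient.mk I r := by
  simp only [AdicCompletion.evalOneₐ, AdicCompletion.evalₐ, smul_eq_mul,
    Ideal.quotientEquivAlgOfEq_coe_eq_factorₐ, AlgHom.coe_comp, Function.comp_apply]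
  have h2 : (AlgHom.ofLinearMap (AdicCompletion.eval I R 1) rfl (fun _ _ => rfl) :
      AdicCompletion I R →ₐ[R] R ⧸ (I ^ 1 • ⊤ : Ideal R)) y =
      Ideal.Quotient.mk (I ^ 1 • ⊤ : Ideal R) r := h1
  rw [h2]
  rfl

theorem isUnit_one_add_of_ker {R : Type u} [CommRing R] (I : Ideal R) (y : AdicCompletion I R)
    (hy : AdicCompletion.evalOneₐ I y = 0) : IsUnit (1 + y) := by
  have hnil : ∀ n, IsNilpotent (y.val n) := by
    intro n
    by_cases hn : n = 0
    · subst hn
      have hsub : Subsingleton (R ⧸ (I ^ 0 • ⊤ : Ideal R)) := by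
        rw [Ideal.Quotient.subsingleton_iff]
        simp
      rw [Subsingleton.elim (y.val 0) 0]
      exact IsNilpotent.zero
    · obtain ⟨r, hr⟩ := Ideal.Quotient.mk_surjective (y.val n)
      have h1 : y.val 1 = Ideal.Quotient.mk (I ^ 1 • ⊤ : Ideal R) r := by
        rw [← y.property (show 1 ≤ n by omega), ← hr]
        rfl
      have hrI : r ∈ I := by
        rw [evalOne_eq_mk I y r h1] at hy
        exact Ideal.Quotient.eq_zero_iff_mem.mp hy
      refine ⟨n, ?_⟩
      rw [← hr, ← map_pow, Ideal.Quotient.eq_zero_iff_mem]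
      have : r ^ n ∈ I ^ n := Ideal.pow_mem_pow hrI n
      simpa using this
  have hu : ∀ n, IsUnit (1 + y.val n) := fun n => (hnil n).isUnit_one_add
  have hcompat : ∀ {m n : ℕ} (hmn : m ≤ n),
      AdicCompletion.transitionMap I R hmn (↑(hu n).unit⁻¹ : R ⧸ (I ^ n • ⊤ : Ideal R)) =
        (↑(hu m).unit⁻¹ : R ⧸ (I ^ m • ⊤ : Ideal R)) := by
    intro m n hmn
    have h2 : (1 + y.val m) * AdicCompletion.transitionMap I R hmn
        (↑(hu n).unit⁻¹ : R ⧸ (I ^ n • ⊤ : Ideal R)) = 1 := by
      have h3 : AdicCompletion.transitionMapₐ I hmn (1 + y.val n) = 1 + y.val m := by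
        rw [map_add, map_one]
        congr 1
        exact y.property hmn
      have h4 : AdicCompletion.transitionMapₐ I hmn
          ((1 + y.val n) * (↑(hu n).unit⁻¹ : R ⧸ (I ^ n • ⊤ : Ideal R))) = 1 := by
        rw [IsUnit.mul_val_inv, map_one]
      rw [map_mul, h3] at h4
      exact h4
    have h5 : (↑(hu m).unit⁻¹ : R ⧸ (I ^ m • ⊤ : Ideal R)) * (1 + y.val m) = 1 :=
      IsUnit.val_inv_mul (hu m)
    exact (left_inv_eq_right_inv h5 h2).symm
  let z : AdicCompletion I R := ⟨fun n => (↑(hu n).unit⁻¹ : R ⧸ (I ^ n • ⊤ : Ideal R)),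
    fun hmn => hcompat hmn⟩
  refine IsUnit.of_mul_eq_one z ?_
  apply Subtype.ext
  funext n
  change (1 + y.val n) * (↑(hu n).unit⁻¹ : R ⧸ (I ^ n • ⊤ : Ideal R)) = 1
  exact IsUnit.mul_val_inv (hu n)

/-- Let R be a ring, I an ideal of R and R^ = lim R/Iⁿ the I-adic completion. An element of R^ whose
image in R/I is invertible is itself invertible in R^; and the kernel of R^ → R/I as well as the
extended ideal I R^ both lie inside the Jacobson radical of R^. -/
theorem result {R : Type u} [CommRing R] (I : Ideal R) :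
    (∀ x : AdicCompletion I R, IsUnit (AdicCompletion.evalOneₐ I x) → IsUnit x) ∧
      RingHom.ker (AdicCompletion.evalOneₐ I).toRingHom ≤ (⊥ : Ideal (AdicCompletion I R)).jacobson ∧
      I.map (algebraMap R (AdicCompletion I R)) ≤ (⊥ : Ideal (AdicCompletion I R)).jacobson := by
  have hker : ∀ y : AdicCompletion I R, AdicCompletion.evalOneₐ I y = 0 →
      y ∈ (⊥ : Ideal (AdicCompletion I R)).jacobson := by
    intro y hy
    rw [Ideal.mem_jacobson_bot]
    intro w
    have : y * w + 1 = 1 + y * w := add_comm _ _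
    rw [this]
    apply isUnit_one_add_of_ker
    rw [map_mul, hy, zero_mul]
  refine ⟨?_, ?_, ?_⟩
  · intro x hx
    obtain ⟨w, hw⟩ := AdicCompletion.evalOneₐ_surjective I (↑hx.unit⁻¹ : R ⧸ I)
    have h1 : AdicCompletion.evalOneₐ I (x * w - 1) = 0 := by
      rw [map_sub, map_mul, map_one, hw, IsUnit.mul_val_inv, sub_self]
    have h2 : IsUnit (x * w) := by
      have h3 := isUnit_one_add_of_ker I (x * w - 1) h1
      rwa [add_sub_cancel] at h3
    exact isUnit_of_mul_isUnit_left h2
  · intro y hy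
    exact hker y hy
  · rw [Ideal.map_le_iff_le_comap]
    intro r hr
    rw [Ideal.mem_comap]
    apply hker
    have h6 : AdicCompletion.evalOneₐ I (algebraMap R (AdicCompletion I R) r) =
        Ideal.Quotient.mk I r := by
      rw [AlgHom.commutes]
      rfl
    rw [h6]
    exact Ideal.Quotient.eq_zero_iff_mem.mpr hr

end Groth.Agent.S9602
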