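import Groth.Statements.S9603
import Mathlib
-- import your own Groth.Agent.* helpers here

set_option autoImplicit false
universe u
open CAlg

namespace Groth.Agent.S9603

theorem isPrecomplete_sup {A : Type u} [CommRing A] (J₁ J₂ : Ideal A) (M : Type u)
    [AddCommGroup M] [Module A M] (h₁ : IsPrecomplete J₁ M) (h₂ : IsPrecomplete J₂ M) :
    IsPrecomplete (J₁ ⊔ J₂) M := by
  refine ⟨fun x hx => ?_⟩
  have hd : ∀ n, ∃ y ∈ (J₁ ^ n • ⊤ : Submodule A M), ∃ w ∈ (J₂ ^ n • ⊤ : Submodule A M),
      y + w = x (2 * (n + 1)) - x (2 * n) := by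
    intro n
    have h1 : x (2 * (n + 1)) - x (2 * n) ∈ ((J₁ ⊔ J₂) ^ (n + n) • ⊤ : Submodule A M) := by
      rw [← Submodule.neg_mem_iff, neg_sub, ← SModEq.sub_mem, ← two_mul]
      exact hx (by omega)
    have h2 : ((J₁ ⊔ J₂) ^ (n + n) • ⊤ : Submodule A M) ≤
        (J₁ ^ n • ⊤ : Submodule A M) ⊔ (J₂ ^ n • ⊤ : Submodule A M) := by
      rw [← Submodule.sup_smul]
      exact Submodule.smul_mono Ideal.sup_pow_add_le_pow_sup_pow le_rfl
    obtain ⟨y, hy, w, hw, hyw⟩ := Submodule.mem_sup.1 (h2 h1)
    exact ⟨y, hy, w, hw, hyw⟩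
  choose y hy w hw hyw using hd
  let Y : ℕ → M := fun n => ∑ k ∈ Finset.range n, y k
  let W : ℕ → M := fun n => ∑ k ∈ Finset.range n, w k
  have hYc : AdicCompletion.IsAdicCauchy J₁ M Y := by
    rw [AdicCompletion.isAdicCauchy_iff]
    intro n
    rw [SModEq.sub_mem, ← Submodule.neg_mem_iff, neg_sub]
    simp only [Y, Finset.sum_range_succ, add_sub_cancel_left]
    exact hy n
  have hWc : AdicCompletion.IsAdicCauchy J₂ M W := by
    rw [AdicCompletion.isAdicCauchy_iff]
    intro n
    rw [SModEq.sub_mem, ← Submodule.neg_mem_iff, neg_sub]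
    simp only [W, Finset.sum_range_succ, add_sub_cancel_left]
    exact hw n
  obtain ⟨Y', hY'⟩ := h₁.prec (f := Y) (fun hmn => hYc hmn)
  obtain ⟨W', hW'⟩ := h₂.prec (f := W) (fun hmn => hWc hmn)
  have hx2 : ∀ n, x (2 * n) = x 0 + Y n + W n := by
    intro n
    have h3 : ∑ k ∈ Finset.range n, (x (2 * (k + 1)) - x (2 * k)) = x (2 * n) - x (2 * 0) :=
      Finset.sum_range_sub (fun k => x (2 * k)) n
    simp only [Y, W]
    rw [add_assoc, ← Finset.sum_add_distrib]
    simp only [hyw]
    rw [h3]
    simp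
  refine ⟨x 0 + Y' + W', fun n => ?_⟩
  rw [SModEq.sub_mem]
  have h4 : x n - x (2 * n) ∈ ((J₁ ⊔ J₂) ^ n • ⊤ : Submodule A M) := by
    rw [← SModEq.sub_mem]
    exact hx (by omega)
  have h5 : Y n - Y' ∈ ((J₁ ⊔ J₂) ^ n • ⊤ : Submodule A M) :=
    Submodule.smul_mono (Ideal.pow_right_mono le_sup_left n) le_rfl ((SModEq.sub_mem).1 (hY' n))
  have h6 : W n - W' ∈ ((J₁ ⊔ J₂) ^ n • ⊤ : Submodule A M) :=
    Submodule.smul_mono (Ideal.pow_right_mono le_sup_right n) le_rfl ((SModEq.sub_mem).1 (hW' n))
  have : x n - (x 0 + Y' + W') = (x n - x (2 * n)) + (Y n - Y') + (W n - W') := by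
    rw [hx2 n]; abel
  rw [this]
  exact add_mem (add_mem h4 h5) h6

theorem isPrecomplete_span_range {A : Type u} [CommRing A] (M : Type u)
    [AddCommGroup M] [Module A M] : ∀ (r : ℕ) (f : Fin r → A),
    (∀ i, IsPrecomplete (Ideal.span {f i}) M) → IsPrecomplete (Ideal.span (Set.range f)) M := by
  intro r
  induction r with
  | zero =>
    intro f _
    have : Set.range f = ∅ := Set.range_eq_empty f
    rw [this, Ideal.span_empty]
    infer_instance
  | succ r ih =>
    intro f hf
    have hrange : Set.range f = Set.range (fun i : Fin r => f i.castSucc) ∪ {f (Fin.last r)} := by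
      ext a
      constructor
      · rintro ⟨i, rfl⟩
        induction i using Fin.lastCases with
        | last => right; rfl
        | cast j => left; exact ⟨j, rfl⟩
      · rintro (⟨j, rfl⟩ | h)
        · exact ⟨_, rfl⟩
        · rw [Set.mem_singleton_iff] at h; exact ⟨_, h.symm⟩
    rw [hrange, Ideal.span_union]
    exact isPrecomplete_sup _ _ M (ih _ (fun i => hf _)) (hf _)

/-- For a ring A, elements f_1, …, f_r generating an ideal I and an A-module M, if the canonical map
from M to its (f_i)-adic completion is surjective for every i, then the canonical map from M to its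
I-adic completion is surjective. -/
theorem result {A : Type u} [CommRing A] {r : ℕ} (f : Fin r → A) (M : Type u) [AddCommGroup M] [Module A M] (h : ∀ i, Function.Surjective (AdicCompletion.of (Ideal.span {f i}) M)) :
    Function.Surjective (AdicCompletion.of (Ideal.span (Set.range f)) M) := by
  rw [AdicCompletion.of_surjective_iff]
  apply isPrecomplete_span_range
  intro i
  rw [← AdicCompletion.of_surjective_iff]
  exact h i

end Groth.Agent.S9603
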