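import Groth.Statements.S9604
-- import your own Groth.Agent.* helpers here

set_option autoImplicit false
universe u
open CAlg

namespace Groth.Agent.S9604

theorem complete_of_le {R : Type u} [CommRing R] (I J : Ideal R) (c d : ℕ) (hd : 0 < d)
    (hI : I ^ c ≤ J) (hJ : J ^ d ≤ I) (M : Type u) [AddCommGroup M] [Module R M]
    (h : IsAdicComplete I M) : IsAdicComplete J M := by
  have hpowJ : ∀ n : ℕ, J ^ (d * n) ≤ I ^ n := by
    intro n
    rw [pow_mul]
    exact Ideal.pow_right_mono hJ n
  have hpowI : ∀ n : ℕ, I ^ (c * n) ≤ J ^ n := by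
    intro n
    rw [pow_mul]
    exact Ideal.pow_right_mono hI n
  have hH : IsHausdorff J M := by
    constructor
    intro x hx
    apply h.toIsHausdorff.haus
    intro n
    exact (hx (d * n)).mono (Submodule.smul_mono_left (hpowJ n))
  have hP : IsPrecomplete J M := by
    constructor
    intro f hf
    have hg : ∀ {k l : ℕ}, k ≤ l → f (d * k) ≡ f (d * l) [SMOD (I ^ k • ⊤ : Submodule R M)] := by
      intro k l hkl
      exact (hf (Nat.mul_le_mul_left d hkl)).mono (Submodule.smul_mono_left (hpowJ k))
    obtain ⟨L, hL⟩ := h.toIsPrecomplete.prec' (fun k => f (d * k)) hg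
    refine ⟨L, fun n => ?_⟩
    have hk1 : n ≤ d * (c * n + n) := by
      calc n ≤ c * n + n := Nat.le_add_left _ _
        _ ≤ d * (c * n + n) := Nat.le_mul_of_pos_left _ hd
    have h1 : f n ≡ f (d * (c * n + n)) [SMOD (J ^ n • ⊤ : Submodule R M)] := hf hk1
    have h2 : f (d * (c * n + n)) ≡ L [SMOD (J ^ n • ⊤ : Submodule R M)] := by
      refine (hL (c * n + n)).mono (Submodule.smul_mono_left ?_)
      exact (Ideal.pow_le_pow_right (Nat.le_add_right _ _)).trans (hpowI n)
    exact h1.trans h2
  exact { toIsHausdorff := hH, toIsPrecomplete := hP }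

/-- Let R be a ring and I, J ideals of R with I^c ⊆ J and J^d ⊆ I for some integers c, d > 0. Then for
an R-module, being complete in the I-adic topology is equivalent to being complete in the J-adic
topology. -/
theorem result {R : Type u} [CommRing R] (I J : Ideal R) (c d : ℕ) (hc : 0 < c) (hd : 0 < d) (hI : I ^ c ≤ J) (hJ : J ^ d ≤ I) (M : Type u) [AddCommGroup M] [Module R M] :
    IsAdicComplete I M ↔ IsAdicComplete J M := by
  exact ⟨complete_of_le I J c d hd hI hJ M, complete_of_le J I d c hc hJ hI M⟩

end Groth.Agent.S9604
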