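import Groth.Statements.S9605
import Mathlib.RingTheory.AdicCompletion.Exactness
import Mathlib.RingTheory.Ideal.Operations
-- import your own Groth.Agent.* helpers here

set_option autoImplicit false
universe u
open CAlg

namespace Groth.Agent.S9605

/-- For a ring R, an ideal I of R, an I-adically complete R-module M and a submodule K of M, the
quotient M/K is I-adically complete if and only if K = ⋂ₙ (K + IⁿM). -/
theorem result {R : Type u} [CommRing R] (I : Ideal R) (M : Type u) [AddCommGroup M] [Module R M] [IsAdicComplete I M] (K : Submodule R M) :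
    IsAdicComplete I (M ⧸ K) ↔ K = ⨅ n : ℕ, K ⊔ I ^ n • (⊤ : Submodule R M) := by
  have hmem : ∀ (x : M) (n : ℕ), K.mkQ x ∈ (I ^ n • ⊤ : Submodule R (M ⧸ K)) ↔
      x ∈ K ⊔ I ^ n • (⊤ : Submodule R M) := by
    intro x n
    have h1 : (I ^ n • ⊤ : Submodule R (M ⧸ K)) =
        Submodule.map K.mkQ (I ^ n • (⊤ : Submodule R M)) := by
      rw [Submodule.map_smul'', Submodule.map_top, Submodule.range_mkQ]
    rw [h1, ← Submodule.mem_comap, Submodule.comap_map_mkQ]
  have hprec : IsPrecomplete I (M ⧸ K) := by
    rw [← AdicCompletion.of_surjective_iff]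
    have h2 : Function.Surjective (AdicCompletion.map I K.mkQ ∘ AdicCompletion.of I M) :=
      (AdicCompletion.map_surjective I (Submodule.mkQ_surjective K)).comp
        (AdicCompletion.of_surjective I M)
    intro y
    obtain ⟨x, hx⟩ := h2 y
    exact ⟨K.mkQ x, by rw [← hx]; rfl⟩
  constructor
  · intro h
    apply le_antisymm
    · exact le_iInf (fun n => le_sup_left)
    · intro x hx
      rw [Submodule.mem_iInf] at hx
      have h3 : K.mkQ x = 0 := by
        apply h.toIsHausdorff.haus
        intro n
        rw [SModEq.zero, hmem]
        exact hx n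
      exact (Submodule.Quotient.mk_eq_zero K).mp h3
  · intro h
    have hH : IsHausdorff I (M ⧸ K) := by
      constructor
      intro y hy
      obtain ⟨x, rfl⟩ := Submodule.mkQ_surjective K y
      have h4 : x ∈ K := by
        rw [h, Submodule.mem_iInf]
        intro n
        rw [← hmem]
        have := hy n
        rwa [SModEq.zero] at this
      exact (Submodule.Quotient.mk_eq_zero K).mpr h4
    exact { toIsHausdorff := hH, toIsPrecomplete := hprec }

end Groth.Agent.S9605
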