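import Groth.Statements.S9606
import Mathlib
import Groth.Agent.Lib.Helper2.UnivHomeo
-- import your own Groth.Agent.* helpers here

set_option autoImplicit false
universe u
open CAlg

namespace Groth.Agent.S9606

section
open Polynomial Groth.Agent.Helper2.UnivHomeo

variable {R S : Type u} [CommRing R] [CommRing S] [Algebra R S]

theorem field_aux {L : Type*} [Field L] (u v : L) (h2 : u ^ 2 = v ^ 2) (h3 : u ^ 3 = v ^ 3) :
    u = v := by
  by_cases hu : u = 0
  · subst hu
    have : v ^ 2 = 0 := by rw [← h2]; ring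
    exact (pow_eq_zero_iff (by norm_num)).mp this |>.symm
  · have hu2 : u ^ 2 ≠ 0 := pow_ne_zero 2 hu
    have : u * u ^ 2 = v * u ^ 2 := by
      calc u * u ^ 2 = u ^ 3 := by ring
        _ = v ^ 3 := h3
        _ = v * v ^ 2 := by ring
        _ = v * u ^ 2 := by rw [h2]
    exact mul_right_cancel₀ hu2 this

theorem rigid
    (hgen : Algebra.adjoin R {x : S | x ^ 2 ∈ Set.range (algebraMap R S) ∧
      x ^ 3 ∈ Set.range (algebraMap R S)} = ⊤) : Rigid R S := by
  refine rigid_of_gen _ hgen ?_
  intro L _ φ ψ hφψ x hx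
  obtain ⟨⟨a, ha⟩, ⟨b, hb⟩⟩ := hx
  have e : ∀ r, φ (algebraMap R S r) = ψ (algebraMap R S r) :=
    fun r => congrArg (fun g => g r) hφψ
  apply field_aux
  · rw [← map_pow, ← map_pow, ← ha, e]
  · rw [← map_pow, ← map_pow, ← hb, e]

theorem integral
    (hgen : Algebra.adjoin R {x : S | x ^ 2 ∈ Set.range (algebraMap R S) ∧
      x ^ 3 ∈ Set.range (algebraMap R S)} = ⊤) : Algebra.IsIntegral R S := by
  refine isIntegral_of_gen _ hgen ?_
  intro x hx
  obtain ⟨⟨a, ha⟩, _⟩ := hx
  refine ⟨X ^ 2 - C a, monic_X_pow_sub_C a (by norm_num), ?_⟩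
  simp [ha]

theorem residue_surj
    (hgen : Algebra.adjoin R {x : S | x ^ 2 ∈ Set.range (algebraMap R S) ∧
      x ^ 3 ∈ Set.range (algebraMap R S)} = ⊤) (q : Ideal S) [q.IsPrime] :
    Function.Surjective
      (Ideal.ResidueField.map (q.comap (algebraMap R S)) q (algebraMap R S) rfl) := by
  set f := Ideal.ResidueField.map (q.comap (algebraMap R S)) q (algebraMap R S) rfl with hf
  have key : ∀ s : S, algebraMap S q.ResidueField s ∈ f.fieldRange := by
    intro s
    have hs : s ∈ Algebra.adjoin R {x : S | x ^ 2 ∈ Set.range (algebraMap R S) ∧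
      x ^ 3 ∈ Set.range (algebraMap R S)} := hgen ▸ Algebra.mem_top
    induction hs using Algebra.adjoin_induction with
    | mem x hx =>
      obtain ⟨⟨a, ha⟩, ⟨b, hb⟩⟩ := hx
      have ha' : (algebraMap S q.ResidueField x) ^ 2 ∈ f.fieldRange := by
        rw [← map_pow, ← ha]
        exact ⟨algebraMap R _ a, Ideal.ResidueField.map_algebraMap _ _ _ _ _⟩
      have hb' : (algebraMap S q.ResidueField x) ^ 3 ∈ f.fieldRange := by
        rw [← map_pow, ← hb]
        exact ⟨algebraMap R _ b, Ideal.ResidueField.map_algebraMap _ _ _ _ _⟩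
      by_cases h0 : algebraMap S q.ResidueField x = 0
      · rw [h0]; exact zero_mem _
      · have : algebraMap S q.ResidueField x =
            (algebraMap S q.ResidueField x) ^ 3 / (algebraMap S q.ResidueField x) ^ 2 := by
          field_simp
        rw [this]
        exact div_mem hb' ha'
    | algebraMap r => exact ⟨algebraMap R _ r, Ideal.ResidueField.map_algebraMap _ _ _ _ _⟩
    | add x y _ _ hx hy => rw [map_add]; exact add_mem hx hy
    | mul x y _ _ hx hy => rw [map_mul]; exact mul_mem hx hy
  intro z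
  obtain ⟨a, b, -, rfl⟩ := IsFractionRing.div_surjective (A := S ⧸ q) z
  obtain ⟨a, rfl⟩ := Ideal.Quotient.mk_surjective a
  obtain ⟨b, rfl⟩ := Ideal.Quotient.mk_surjective b
  have : algebraMap (S ⧸ q) q.ResidueField (Ideal.Quotient.mk q a) /
      algebraMap (S ⧸ q) q.ResidueField (Ideal.Quotient.mk q b) ∈ f.fieldRange := by
    rw [Ideal.algebraMap_quotient_residueField_mk, Ideal.algebraMap_quotient_residueField_mk]
    exact div_mem (key a) (key b)
  exact this

theorem main
    (hgen : Algebra.adjoin R {x : S | x ^ 2 ∈ Set.range (algebraMap R S) ∧ x ^ 3 ∈ Set.range (algebraMap R S)} = ⊤)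
    (hker : ∀ r : R, algebraMap R S r = 0 → IsNilpotent r) :
    IsHomeomorph (PrimeSpectrum.comap (algebraMap R S)) ∧
      ∀ (q : Ideal S) [q.IsPrime], Function.Bijective (Ideal.ResidueField.map (q.comap (algebraMap R S)) q (algebraMap R S) rfl) := by
  haveI := integral hgen
  refine ⟨isHomeomorph_comap hker (rigid hgen), fun q _ => ⟨RingHom.injective _, residue_surj hgen q⟩⟩

end

/-- Let R → S be a ring map with locally nilpotent kernel such that S is generated over R by elements x
with x² and x³ in the image of R. Then the induced map on spectra is a homeomorphism and every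
residue field map κ(p) → κ(q), for q a prime of S with inverse image p, is bijective. -/
theorem result {R S : Type u} [CommRing R] [CommRing S] [Algebra R S]
    (hgen : Algebra.adjoin R {x : S | x ^ 2 ∈ Set.range (algebraMap R S) ∧ x ^ 3 ∈ Set.range (algebraMap R S)} = ⊤)
    (hker : ∀ r : R, algebraMap R S r = 0 → IsNilpotent r) :
    IsHomeomorph (PrimeSpectrum.comap (algebraMap R S)) ∧
      ∀ (q : Ideal S) [q.IsPrime], Function.Bijective (Ideal.ResidueField.map (q.comap (algebraMap R S)) q (algebraMap R S) rfl) := by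
  exact Groth.Agent.S9606.main hgen hker

end Groth.Agent.S9606
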