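import Groth.Statements.S9607
import Mathlib.NumberTheory.Basic
import Mathlib.Algebra.CharP.Lemmas
import Mathlib.Algebra.MvPolynomial.CommRing
-- import your own Groth.Agent.* helpers here

set_option autoImplicit false
universe u
open CAlg

namespace Groth.Agent.S9607

section
open MvPolynomial

abbrev R := MvPolynomial (Fin 2) ℤ

noncomputable def gens (p n m : ℕ) : Set R :=
  {X 0 ^ (p ^ n), (p : R) ^ n * X 0, X 1 ^ (p ^ m), (p : R) ^ m * X 1}

theorem x_pow_mem (p n m k : ℕ) :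
    (p : R) ^ (n * (k % p ^ n)) * (X 0 : R) ^ k ∈ Algebra.adjoin ℤ (gens p n m) := by
  have h1 : (X 0 : R) ^ (p ^ n) ∈ Algebra.adjoin ℤ (gens p n m) :=
    Algebra.subset_adjoin (by simp [gens])
  have h2 : (p : R) ^ n * X 0 ∈ Algebra.adjoin ℤ (gens p n m) :=
    Algebra.subset_adjoin (by simp [gens])
  have hk : (X 0 : R) ^ k = ((X 0 : R) ^ (p ^ n)) ^ (k / p ^ n) * (X 0 : R) ^ (k % p ^ n) := by
    rw [← pow_mul, ← pow_add, Nat.div_add_mod]
  have : (p : R) ^ (n * (k % p ^ n)) * (X 0 : R) ^ k =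
      ((X 0 : R) ^ (p ^ n)) ^ (k / p ^ n) * ((p : R) ^ n * X 0) ^ (k % p ^ n) := by
    rw [hk, mul_pow, pow_mul]
    ring
  rw [this]
  exact Subalgebra.mul_mem _ (Subalgebra.pow_mem _ h1 _) (Subalgebra.pow_mem _ h2 _)

theorem y_pow_mem (p n m k : ℕ) :
    (p : R) ^ (m * (k % p ^ m)) * (X 1 : R) ^ k ∈ Algebra.adjoin ℤ (gens p n m) := by
  have h1 : (X 1 : R) ^ (p ^ m) ∈ Algebra.adjoin ℤ (gens p n m) :=
    Algebra.subset_adjoin (by simp [gens])
  have h2 : (p : R) ^ m * X 1 ∈ Algebra.adjoin ℤ (gens p n m) :=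
    Algebra.subset_adjoin (by simp [gens])
  have hk : (X 1 : R) ^ k = ((X 1 : R) ^ (p ^ m)) ^ (k / p ^ m) * (X 1 : R) ^ (k % p ^ m) := by
    rw [← pow_mul, ← pow_add, Nat.div_add_mod]
  have : (p : R) ^ (m * (k % p ^ m)) * (X 1 : R) ^ k =
      ((X 1 : R) ^ (p ^ m)) ^ (k / p ^ m) * ((p : R) ^ m * X 1) ^ (k % p ^ m) := by
    rw [hk, mul_pow, pow_mul]
    ring
  rw [this]
  exact Subalgebra.mul_mem _ (Subalgebra.pow_mem _ h1 _) (Subalgebra.pow_mem _ h2 _)

theorem p_mem (p n m : ℕ) : (p : R) ∈ Algebra.adjoin ℤ (gens p n m) :=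
  natCast_mem _ p

theorem pow_mul_mem (p n m : ℕ) (hp : 0 < p) (c : R) :
    (p : R) ^ (n * p ^ n + m * p ^ m) * c ∈ Algebra.adjoin ℤ (gens p n m) := by
  induction c using MvPolynomial.induction_on' with
  | monomial u z =>
    rw [MvPolynomial.monomial_eq, Finsupp.prod_fintype _ _ (fun i => by simp), Fin.prod_univ_two]
    set k := u 0
    set l := u 1
    have hr : n * (k % p ^ n) ≤ n * p ^ n :=
      Nat.mul_le_mul_left _ (Nat.mod_lt _ (pow_pos hp n)).le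
    have hr' : m * (l % p ^ m) ≤ m * p ^ m :=
      Nat.mul_le_mul_left _ (Nat.mod_lt _ (pow_pos hp m)).le
    have hexp : n * p ^ n + m * p ^ m =
        (n * p ^ n - n * (k % p ^ n)) + n * (k % p ^ n) +
          ((m * p ^ m - m * (l % p ^ m)) + m * (l % p ^ m)) := by omega
    have : (p : R) ^ (n * p ^ n + m * p ^ m) * (C z * (X 0 ^ k * X 1 ^ l)) =
        C z * ((p : R) ^ (n * p ^ n - n * (k % p ^ n)) * (p : R) ^ (m * p ^ m - m * (l % p ^ m))) *
          ((p : R) ^ (n * (k % p ^ n)) * X 0 ^ k) * ((p : R) ^ (m * (l % p ^ m)) * X 1 ^ l) := by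
      rw [hexp, pow_add, pow_add, pow_add]
      ring
    rw [this]
    refine Subalgebra.mul_mem _ (Subalgebra.mul_mem _ (Subalgebra.mul_mem _ ?_ ?_) ?_) ?_
    · exact Subalgebra.algebraMap_mem _ z
    · exact Subalgebra.mul_mem _ (Subalgebra.pow_mem _ (p_mem p n m) _)
        (Subalgebra.pow_mem _ (p_mem p n m) _)
    · exact x_pow_mem p n m k
    · exact y_pow_mem p n m l
  | add f g hf hg =>
    rw [mul_add]
    exact Subalgebra.add_mem _ hf hg

theorem main (p : ℕ) (hp : p.Prime) (n m : ℕ) (hn : 0 < n) (hm : 0 < m) :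
    ∃ a : ℕ, ((X 0 + X 1 : R) ^ (p ^ a) ∈ Algebra.adjoin ℤ (gens p n m) ∧
      (p : R) ^ a * (X 0 + X 1) ∈ Algebra.adjoin ℤ (gens p n m)) := by
  set N := n * p ^ n + m * p ^ m with hN
  refine ⟨n + m + N, ?_, ?_⟩
  · have hx : (X 0 : R) ^ (p ^ (n + m)) ∈ Algebra.adjoin ℤ (gens p n m) := by
      rw [pow_add, pow_mul]
      exact Subalgebra.pow_mem _ (Algebra.subset_adjoin (by simp [gens])) _
    have hy : (X 1 : R) ^ (p ^ (n + m)) ∈ Algebra.adjoin ℤ (gens p n m) := by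
      rw [pow_add, mul_comm, pow_mul]
      exact Subalgebra.pow_mem _ (Algebra.subset_adjoin (by simp [gens])) _
    have hb := Subalgebra.add_mem _ hx hy
    have hdvd : (p : R) ∣ (X 0 + X 1 : R) ^ (p ^ (n + m)) -
        ((X 0 : R) ^ (p ^ (n + m)) + (X 1 : R) ^ (p ^ (n + m))) := by
      rw [add_pow_prime_pow_eq hp, add_sub_cancel_left]
      exact ((Dvd.intro _ rfl).mul_right _).mul_right _
    obtain ⟨c, hc⟩ := dvd_sub_pow_of_dvd_sub hdvd N
    have heq : (X 0 + X 1 : R) ^ (p ^ (n + m + N)) =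
        ((X 0 : R) ^ (p ^ (n + m)) + (X 1 : R) ^ (p ^ (n + m))) ^ (p ^ N) +
          (p : R) ^ N * ((p : R) * c) := by
      have : (X 0 + X 1 : R) ^ (p ^ (n + m + N)) = ((X 0 + X 1 : R) ^ (p ^ (n + m))) ^ (p ^ N) := by
        rw [← pow_mul, ← pow_add]
      rw [this, ← sub_eq_iff_eq_add', hc]
      ring
    rw [heq]
    exact Subalgebra.add_mem _ (Subalgebra.pow_mem _ hb _) (pow_mul_mem p n m hp.pos _)
  · have h1 : (p : R) ^ n * X 0 ∈ Algebra.adjoin ℤ (gens p n m) :=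
      Algebra.subset_adjoin (by simp [gens])
    have h2 : (p : R) ^ m * X 1 ∈ Algebra.adjoin ℤ (gens p n m) :=
      Algebra.subset_adjoin (by simp [gens])
    have : (p : R) ^ (n + m + N) * (X 0 + X 1) =
        (p : R) ^ (m + N) * ((p : R) ^ n * X 0) + (p : R) ^ (n + N) * ((p : R) ^ m * X 1) := by
      have e1 : n + m + N = (m + N) + n := by omega
      have e2 : n + m + N = (n + N) + m := by omega
      rw [mul_add]
      congr 1
      · rw [e1, pow_add]; ring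
      · rw [e2, pow_add]; ring
    rw [this]
    exact Subalgebra.add_mem _
      (Subalgebra.mul_mem _ (Subalgebra.pow_mem _ (p_mem p n m) _) h1)
      (Subalgebra.mul_mem _ (Subalgebra.pow_mem _ (p_mem p n m) _) h2)

end

/-- For a prime number p and integers n, m > 0 there exists an integer a such that (x + y)^(p^a) and p^a
(x + y) both belong to the subring ℤ[x^(p^n), p^n x, y^(p^m), p^m y] of the polynomial ring ℤ[x, y]. -/
theorem result (p : ℕ) (hp : p.Prime) (n m : ℕ) (hn : 0 < n) (hm : 0 < m) :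
    ∃ a : ℕ, ((MvPolynomial.X 0 + MvPolynomial.X 1 : MvPolynomial (Fin 2) ℤ) ^ (p ^ a) ∈ Algebra.adjoin ℤ ({MvPolynomial.X 0 ^ (p ^ n), (p : MvPolynomial (Fin 2) ℤ) ^ n * MvPolynomial.X 0, MvPolynomial.X 1 ^ (p ^ m), (p : MvPolynomial (Fin 2) ℤ) ^ m * MvPolynomial.X 1} : Set (MvPolynomial (Fin 2) ℤ)) ∧
      (p : MvPolynomial (Fin 2) ℤ) ^ a * (MvPolynomial.X 0 + MvPolynomial.X 1) ∈ Algebra.adjoin ℤ ({MvPolynomial.X 0 ^ (p ^ n), (p : MvPolynomial (Fin 2) ℤ) ^ n * MvPolynomial.X 0, MvPolynomial.X 1 ^ (p ^ m), (p : MvPolynomial (Fin 2) ℤ) ^ m * MvPolynomial.X 1} : Set (MvPolynomial (Fin 2) ℤ))) := by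
  exact Groth.Agent.S9607.main p hp n m hn hm

end Groth.Agent.S9607
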