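import Groth.Statements.S9608
import Mathlib
-- import your own Groth.Agent.* helpers here

set_option autoImplicit false
universe u
open CAlg

namespace Groth.Agent.S9608

/-- Let k'/k be a field extension and p a prime number. Then k' is generated over k by elements x for
which some n > 0 has x^(p^n) ∈ k and p^n x ∈ k, if and only if either k' = k, or k has
characteristic p and k'/k is purely inseparable. -/
theorem result {k k' : Type u} [Field k] [Field k'] [Algebra k k'] (p : ℕ) (hp : p.Prime) :
    IntermediateField.adjoin k {x : k' | ∃ n : ℕ, 0 < n ∧ x ^ (p ^ n) ∈ Set.range (algebraMap k k') ∧ (p : k') ^ n * x ∈ Set.range (algebraMap k k')} = ⊤ ↔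
      (Function.Surjective (algebraMap k k') ∨ (CharP k p ∧ IsPurelyInseparable k k')) := by
  set T : Set k' := {x : k' | ∃ n : ℕ, 0 < n ∧ x ^ (p ^ n) ∈ Set.range (algebraMap k k') ∧
    (p : k') ^ n * x ∈ Set.range (algebraMap k k')} with hT
  constructor
  · intro htop
    by_cases hchar : CharP k p
    · right
      refine ⟨hchar, ?_⟩
      have : ExpChar k p := ExpChar.prime hp
      have h1 : IsPurelyInseparable k (IntermediateField.adjoin k T) := by
        rw [IntermediateField.isPurelyInseparable_adjoin_iff_pow_mem k k' p]
        rintro x ⟨n, -, hx, -⟩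
        exact ⟨n, hx⟩
      rw [htop] at h1
      exact (IntermediateField.topEquiv (F := k) (E := k')).isPurelyInseparable
    · left
      have hp0 : (p : k) ≠ 0 := fun h0 => hchar ((CharP.charP_iff_prime_eq_zero hp).2 h0)
      have hp0' : (p : k') ≠ 0 := by
        intro h0
        apply hp0
        have : algebraMap k k' (p : k) = 0 := by rw [map_natCast]; exact h0
        exact (map_eq_zero _).1 this
      have hsub : T ⊆ ((⊥ : IntermediateField k k') : Set k') := by
        rintro x ⟨n, -, -, ⟨a, ha⟩⟩
        rw [SetLike.mem_coe, IntermediateField.mem_bot]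
        refine ⟨((p : k) ^ n)⁻¹ * a, ?_⟩
        rw [map_mul, map_inv₀, map_pow, map_natCast, ha, ← mul_assoc,
          inv_mul_cancel₀ (pow_ne_zero n hp0'), one_mul]
      have hbot : IntermediateField.adjoin k T = ⊥ := by
        rw [eq_bot_iff, IntermediateField.adjoin_le_iff]
        exact hsub
      rw [hbot] at htop
      intro x
      have : x ∈ (⊥ : IntermediateField k k') := htop ▸ IntermediateField.mem_top
      exact IntermediateField.mem_bot.1 this
  · intro h
    have hall : ∀ x : k', x ∈ T := by
      intro x
      rcases h with hsurj | ⟨hchar, hpi⟩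
      · obtain ⟨a, rfl⟩ := hsurj x
        exact ⟨1, one_pos, ⟨a ^ (p ^ 1), by rw [map_pow]⟩, ⟨(p : k) ^ 1 * a, by
          rw [map_mul, map_pow, map_natCast]⟩⟩
      · have : ExpChar k p := ExpChar.prime hp
        obtain ⟨n, a, ha⟩ := IsPurelyInseparable.pow_mem k p x
        have hchar' : CharP k' p := charP_of_injective_algebraMap (algebraMap k k').injective p
        have hp0 : (p : k') = 0 := CharP.cast_eq_zero k' p
        refine ⟨n + 1, Nat.succ_pos n, ⟨a ^ p, ?_⟩, ⟨0, ?_⟩⟩
        · rw [map_pow, ha, pow_succ, pow_mul]
        · rw [map_zero, hp0, zero_pow (Nat.succ_ne_zero n), zero_mul]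
    rw [eq_top_iff]
    intro x _
    exact IntermediateField.subset_adjoin k T (hall x)

end Groth.Agent.S9608
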