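import Groth.Statements.S9610
-- import your own Groth.Agent.* helpers here

set_option autoImplicit false
universe u
open CAlg

namespace Groth.Agent.S9610

/-- Let k be a field and V a nonzero k-vector space with dim_k V < #k as cardinals. Then every k-linear
endomorphism T of V admits a monic polynomial P over k for which P(T) is not invertible. -/
theorem result {k V : Type u} [Field k] [AddCommGroup V] [Module k V] [Nontrivial V] (hV : Module.rank k V < Cardinal.mk k) (T : Module.End k V) :
    ∃ P : Polynomial k, P.Monic ∧ ¬ IsUnit (Polynomial.aeval T P) := by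
  classical
  open Polynomial in
  by_contra hcon
  push_neg at hcon
  obtain ⟨v, hv⟩ := exists_ne (0 : V)
  have hbij : ∀ a : k, Function.Bijective (Polynomial.aeval T (Polynomial.X - Polynomial.C a)) :=
    fun a => (Module.End.isUnit_iff _).1 (hcon _ (Polynomial.monic_X_sub_C a))
  choose w hw using fun a => (hbij a).2 v
  have hQ : ∀ Q : Polynomial k, Q ≠ 0 → Function.Injective (Polynomial.aeval T Q) := by
    intro Q hQ0
    have hmon := Polynomial.monic_mul_leadingCoeff_inv hQ0
    have hlc : Q.leadingCoeff ≠ 0 := Polynomial.leadingCoeff_ne_zero.2 hQ0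
    have hinj := ((Module.End.isUnit_iff _).1 (hcon _ hmon)).1
    intro x y hxy
    apply hinj
    rw [map_mul, Module.End.mul_apply, Module.End.mul_apply, Polynomial.aeval_C]
    have : ∀ z : V, (algebraMap k (Module.End k V) Q.leadingCoeff⁻¹) z = Q.leadingCoeff⁻¹ • z := by
      intro z; simp [Module.algebraMap_end_apply]
    rw [this, this, map_smul, map_smul, hxy]
  have hli : LinearIndependent k w := by
    rw [linearIndependent_iff']
    intro s g hsum a₀ ha₀
    set Q : Polynomial k := ∑ a ∈ s, Polynomial.C (g a) * ∏ b ∈ s.erase a, (Polynomial.X - Polynomial.C b) with hQdef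
    have h1 : Polynomial.aeval T Q v = 0 := by
      have h2 : Polynomial.aeval T (∏ b ∈ s, (Polynomial.X - Polynomial.C b)) (∑ a ∈ s, g a • w a) = 0 := by
        rw [hsum, map_zero]
      rw [map_sum] at h2
      rw [hQdef, map_sum, LinearMap.sum_apply, ← h2]
      refine Finset.sum_congr rfl fun a ha => ?_
      rw [map_smul, ← Finset.prod_erase_mul s _ ha, map_mul, map_mul, Module.End.mul_apply, Module.End.mul_apply, hw a,
        Polynomial.aeval_C]
      simp [Module.algebraMap_end_apply]
    by_contra hg
    have hQ0 : Q ≠ 0 := by
      intro h0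
      have h3 : Q.eval a₀ = 0 := by rw [h0]; simp
      rw [hQdef, Polynomial.eval_finset_sum, Finset.sum_eq_single a₀] at h3
      · rw [Polynomial.eval_mul, Polynomial.eval_C, Polynomial.eval_prod] at h3
        rcases mul_eq_zero.1 h3 with h4 | h4
        · exact hg h4
        · rw [Finset.prod_eq_zero_iff] at h4
          obtain ⟨b, hb, hb0⟩ := h4
          simp only [Polynomial.eval_sub, Polynomial.eval_X, Polynomial.eval_C, sub_eq_zero] at hb0
          exact (Finset.ne_of_mem_erase hb) hb0.symm
      · intro a ha hne
        rw [Polynomial.eval_mul, Polynomial.eval_prod]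
        apply mul_eq_zero_of_right
        apply Finset.prod_eq_zero (Finset.mem_erase.2 ⟨hne.symm, ha₀⟩)
        simp
      · intro h; exact absurd ha₀ h
    exact hv (hQ Q hQ0 (by rw [h1, map_zero]))
  exact absurd hli.cardinal_le_rank (not_le.2 hV)

end Groth.Agent.S9610
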