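import Groth.Statements.S9611
-- import your own Groth.Agent.* helpers here

set_option autoImplicit false
universe u
open CAlg

namespace Groth.Agent.S9611

/-- Let R be a Jacobson ring, p a prime ideal of R which is not maximal, and f an element of R not in p.
Then the set of primes of R containing p and not containing f is infinite. -/
theorem result {R : Type u} [CommRing R] [IsJacobsonRing R] (p : Ideal R) [p.IsPrime] (hp : ¬ p.IsMaximal) (f : R) (hf : f ∉ p) :
    {q : PrimeSpectrum R | p ≤ q.asIdeal ∧ f ∉ q.asIdeal}.Infinite := by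
  classical
  intro hfin
  have hpmem : (⟨p, inferInstance⟩ : PrimeSpectrum R) ∈
      {q : PrimeSpectrum R | p ≤ q.asIdeal ∧ f ∉ q.asIdeal} := ⟨le_refl _, hf⟩
  have hex : ∀ q : PrimeSpectrum R, ∃ g : R, g ∉ p ∧ (p < q.asIdeal → g ∈ q.asIdeal) := by
    intro q
    by_cases hq : p < q.asIdeal
    · obtain ⟨g, hgq, hgp⟩ := SetLike.exists_of_lt hq
      exact ⟨g, hgp, fun _ => hgq⟩
    · exact ⟨1, fun h => (Ideal.IsPrime.ne_top inferInstance) ((Ideal.eq_top_iff_one p).mpr h),
        fun h => absurd h hq⟩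
  choose g hgp hgq using hex
  let G : R := f * ∏ q ∈ hfin.toFinset, g q
  have hG : G ∉ p := by
    intro h
    rcases (Ideal.IsPrime.mem_or_mem inferInstance h) with h | h
    · exact hf h
    · obtain ⟨q, -, hq⟩ := (Ideal.IsPrime.prod_mem_iff).mp h
      exact hgp q hq
  have hjac : p.jacobson = p := isJacobsonRing_iff_prime_eq.mp inferInstance p inferInstance
  rw [← hjac, Ideal.jacobson, Ideal.mem_sInf] at hG
  push Not at hG
  obtain ⟨m, ⟨hpm, hm⟩, hGm⟩ := hG
  have hfm : f ∉ m := fun h => hGm (Ideal.mul_mem_right _ _ h)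
  have hmT : (⟨m, hm.isPrime⟩ : PrimeSpectrum R) ∈
      {q : PrimeSpectrum R | p ≤ q.asIdeal ∧ f ∉ q.asIdeal} := ⟨hpm, hfm⟩
  have hlt : p < m := lt_of_le_of_ne hpm (fun h => hp (h ▸ hm))
  have h1 : g ⟨m, hm.isPrime⟩ ∈ m := hgq ⟨m, hm.isPrime⟩ hlt
  apply hGm
  apply Ideal.mul_mem_left
  exact Ideal.mem_of_dvd _ (Finset.dvd_prod_of_mem g (hfin.mem_toFinset.mpr hmT)) h1

end Groth.Agent.S9611
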