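import Groth.Statements.S9612
import Mathlib.Data.Nat.Prime.Int
import Mathlib.RingTheory.DedekindDomain.Basic
import Mathlib.RingTheory.PrincipalIdealDomain
-- import your own Groth.Agent.* helpers here

set_option autoImplicit false
universe u
open CAlg

namespace Groth.Agent.S9612

/-- A finite type ℤ-algebra is a Jacobson ring. -/
theorem result {S : Type u} [CommRing S] [Algebra.FiniteType ℤ S] :
    IsJacobsonRing S := by
  have hZ : IsJacobsonRing ℤ := by
    rw [isJacobsonRing_iff_prime_eq]
    intro P hP
    by_cases hbot : P = ⊥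
    · subst hbot
      rw [eq_bot_iff]
      intro n hn
      by_contra hn0
      have hn0' : n ≠ 0 := fun h => hn0 (by simp [h])
      obtain ⟨p, hp1, hp⟩ := Nat.exists_infinite_primes (n.natAbs + 1)
      have hmax : (Ideal.span {(p : ℤ)}).IsMaximal :=
        PrincipalIdealRing.isMaximal_of_irreducible (Nat.prime_iff_prime_int.mp hp).irreducible
      have h1 := Ideal.mem_sInf.mp hn ⟨bot_le, hmax⟩
      rw [Ideal.mem_span_singleton] at h1
      have h2 := Int.natAbs_dvd_natAbs.mpr h1
      have h3 := Nat.le_of_dvd (Int.natAbs_pos.mpr hn0') h2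
      simp at h3
      omega
    · haveI := hP.isMaximal hbot
      exact Ideal.jacobson_eq_self_of_isMaximal
  exact isJacobsonRing_of_finiteType (A := ℤ)

end Groth.Agent.S9612
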