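import Groth.Statements.S9613
import Mathlib
-- import your own Groth.Agent.* helpers here

set_option autoImplicit false
universe u
open CAlg

namespace Groth.Agent.S9613

/-- Let R → K be an injective ring map into a field K which makes K an R-algebra of finite type. Then
for some nonzero f ∈ R the localization R_f is a field over which K is finite; here R_f is realised
as the R-subalgebra of K that is a localization of R away from f. -/
theorem result {R K : Type u} [CommRing R] [Field K] [Algebra R K] (hinj : Function.Injective (algebraMap R K)) [Algebra.FiniteType R K] :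
    ∃ f : R, f ≠ 0 ∧ ∃ Rf : Subalgebra R K, IsLocalization.Away f Rf ∧ IsField Rf ∧ Module.Finite Rf K := by
  classical
  haveI : FaithfulSMul R K := (faithfulSMul_iff_algebraMap_injective R K).2 hinj
  haveI : IsDomain R := IsDomain.of_faithfulSMul R K
  letI : Algebra (FractionRing R) K := FractionRing.liftAlgebra R K
  haveI : IsScalarTower R (FractionRing R) K := FractionRing.isScalarTower_liftAlgebra R K
  haveI : Algebra.FiniteType (FractionRing R) K := Algebra.FiniteType.of_restrictScalars_finiteType R (FractionRing R) K
  haveI : Module.Finite (FractionRing R) K := finite_of_finite_type_of_isJacobsonRing (FractionRing R) K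
  haveI : Algebra.IsIntegral (FractionRing R) K := Algebra.IsIntegral.of_finite (FractionRing R) K
  obtain ⟨s, hs⟩ := (inferInstance : Algebra.FiniteType R K).out
  -- common denominator
  have hm : ∀ x : K, ∃ m : nonZeroDivisors R, IsIntegral R (m • x) := fun x =>
    IsIntegral.exists_multiple_integral_of_isLocalization (nonZeroDivisors R) (Rₘ := FractionRing R) x
      (Algebra.IsIntegral.isIntegral x)
  choose m hmx using hm
  set f : R := ∏ x ∈ s, (m x : R) with hf
  have hf0 : f ≠ 0 := by
    rw [hf, Finset.prod_ne_zero_iff]
    intro x _
    exact nonZeroDivisors.coe_ne_zero (m x)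
  have hfx : ∀ x ∈ s, IsIntegral R (f • x) := by
    intro x hx
    have : f • x = (∏ y ∈ s.erase x, (m y : R)) • ((m x) • x) := by
      rw [hf, ← Finset.prod_erase_mul s _ hx, mul_smul]
      rfl
    rw [this]
    exact IsIntegral.smul _ (hmx x)
  refine ⟨f, hf0, ?_⟩
  -- the localization inside K
  have hunit : ∀ y : Submonoid.powers f, IsUnit (algebraMap R K y) := by
    rintro ⟨_, n, rfl⟩
    rw [map_pow]
    refine IsUnit.pow _ (IsUnit.mk0 _ ?_)
    rwa [Ne, map_eq_zero_iff _ hinj]
  let g : Localization.Away f →ₐ[R] K := IsLocalization.liftAlgHom (M := Submonoid.powers f) (f := Algebra.ofId R K) hunit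
  have hginj : Function.Injective g := by
    have hle : Submonoid.powers f ≤ nonZeroDivisors R :=
      Submonoid.powers_le.2 (mem_nonZeroDivisors_of_ne_zero hf0)
    have h1 : Function.Injective (algebraMap R (Localization.Away f)) := IsLocalization.injective _ hle
    show Function.Injective (IsLocalization.lift (M := Submonoid.powers f) (g := algebraMap R K) hunit)
    rw [IsLocalization.lift_injective_iff]
    intro a b
    rw [h1.eq_iff, hinj.eq_iff]
  let Rf : Subalgebra R K := g.range
  let e : Localization.Away f ≃ₐ[R] Rf := AlgEquiv.ofInjective g hginj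
  haveI hloc : IsLocalization.Away f Rf := IsLocalization.isLocalization_of_algEquiv (Submonoid.powers f) e
  have hu : IsUnit (algebraMap R Rf f) := IsLocalization.Away.algebraMap_isUnit f
  have hint : ∀ x ∈ s, IsIntegral Rf x := by
    intro x hx
    have h1 : IsIntegral Rf (f • x) := (hfx x hx).tower_top
    have h2 : x = (↑(hu.unit⁻¹) : Rf) • (f • x) := by
      rw [← algebraMap_smul Rf f x, smul_smul]
      have : (↑(hu.unit⁻¹) : Rf) * algebraMap R Rf f = 1 := by
        have := hu.unit.inv_mul
        simpa using this
      rw [this, one_smul]
    rw [h2]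
    exact IsIntegral.smul _ h1
  haveI : Algebra.IsIntegral Rf K := by
    refine ⟨fun x => ?_⟩
    have hle : Algebra.adjoin R (s : Set K) ≤ (integralClosure Rf K).restrictScalars R :=
      Algebra.adjoin_le fun y hy => hint y hy
    have : x ∈ Algebra.adjoin R (s : Set K) := by rw [hs]; trivial
    exact hle this
  haveI : Algebra.FiniteType Rf K := Algebra.FiniteType.of_restrictScalars_finiteType R Rf K
  refine ⟨Rf, hloc, ?_, Algebra.IsIntegral.finite⟩
  exact isField_of_isIntegral_of_isField (R := Rf) (S := K) Subtype.val_injective (Field.toIsField K)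

end Groth.Agent.S9613
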