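import Groth.Statements.S9614
-- import your own Groth.Agent.* helpers here

set_option autoImplicit false
universe u
open CAlg

namespace Groth.Agent.S9614

open DirectSum in
theorem comp_smul_mem {R S : Type u} [CommRing R] [CommRing S] [Algebra R S] (𝒜 : ℕ → Submodule R S) [GradedAlgebra 𝒜]
    (M : Type u) [AddCommGroup M] [Module R M] [Module S M] [IsScalarTower R S M] (ℳ : ℕ → Submodule R M) [DirectSum.Decomposition ℳ] [SetLike.GradedSMul 𝒜 ℳ]
    (N : Submodule S M) (d : ℕ) (s : S) (m : M)
    (H : ∀ e j, e + j = d → (decompose 𝒜 s e : S) • (decompose ℳ m j : M) ∈ N) :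
    (decompose ℳ (s • m) d : M) ∈ N := by
  classical
  have hs : s = ∑ e ∈ (decompose 𝒜 s).support, (decompose 𝒜 s e : S) := (sum_support_decompose 𝒜 s).symm
  have hm : m = ∑ j ∈ (decompose ℳ m).support, (decompose ℳ m j : M) := (sum_support_decompose ℳ m).symm
  have key : s • m = ∑ e ∈ (decompose 𝒜 s).support, ∑ j ∈ (decompose ℳ m).support,
      (decompose 𝒜 s e : S) • (decompose ℳ m j : M) := by
    conv_lhs => rw [hs, hm]
    rw [Finset.sum_smul]
    refine Finset.sum_congr rfl fun e _ => ?_
    rw [Finset.smul_sum]
  rw [key, decompose_sum, DFinsupp.finsetSum_apply, AddSubmonoidClass.coe_finsetSum]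
  refine Submodule.sum_mem _ fun e _ => ?_
  rw [decompose_sum, DFinsupp.finsetSum_apply, AddSubmonoidClass.coe_finsetSum]
  refine Submodule.sum_mem _ fun j _ => ?_
  have hmem : (decompose 𝒜 s e : S) • (decompose ℳ m j : M) ∈ ℳ (e + j) := by
    have := SetLike.GradedSMul.smul_mem (A := 𝒜) (B := ℳ) (decompose 𝒜 s e).2 (decompose ℳ m j).2
    simpa [vadd_eq_add] using this
  by_cases hej : e + j = d
  · subst hej
    rw [decompose_of_mem_same ℳ hmem]
    exact H e j rfl
  · rw [decompose_of_mem_ne ℳ hmem hej]
    exact N.zero_mem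

/-- Let S be an ℕ-graded ring and M a finitely generated graded S-module, graded in nonnegative degrees
(the source allows all integer degrees). If x_1, …, x_n are homogeneous elements of M which generate
M modulo S₊ M (S₊ the irrelevant ideal), then x_1, …, x_n generate M. -/
theorem result {R S : Type u} [CommRing R] [CommRing S] [Algebra R S] (𝒜 : ℕ → Submodule R S) [GradedAlgebra 𝒜]
    (M : Type u) [AddCommGroup M] [Module R M] [Module S M] [IsScalarTower R S M] [Module.Finite S M] (ℳ : ℕ → Submodule R M) [DirectSum.Decomposition ℳ] [SetLike.GradedSMul 𝒜 ℳ]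
    {n : ℕ} (x : Fin n → M) (hx : ∀ i, SetLike.IsHomogeneousElem ℳ (x i))
    (h : Submodule.span S (Set.range x) ⊔ (HomogeneousIdeal.irrelevant 𝒜).toIdeal • (⊤ : Submodule S M) = ⊤) :
    Submodule.span S (Set.range x) = ⊤ := by
  classical
  set N := Submodule.span S (Set.range x) with hN
  -- (A) N is homogeneous
  have hA : ∀ n ∈ N, ∀ d, (DirectSum.decompose ℳ n d : M) ∈ N := by
    intro n hn
    induction hn using Submodule.span_induction with
    | mem y hy =>
      obtain ⟨i, rfl⟩ := hy
      obtain ⟨k, hk⟩ := hx i
      intro d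
      by_cases hkd : k = d
      · subst hkd
        rw [DirectSum.decompose_of_mem_same ℳ hk]
        exact Submodule.subset_span ⟨i, rfl⟩
      · rw [DirectSum.decompose_of_mem_ne ℳ hk hkd]
        exact N.zero_mem
    | zero =>
      intro d
      rw [DirectSum.decompose_zero]
      exact N.zero_mem
    | add a b _ _ ha hb =>
      intro d
      rw [DirectSum.decompose_add]
      exact N.add_mem (ha d) (hb d)
    | smul s a _ ha =>
      intro d
      exact comp_smul_mem 𝒜 M ℳ N d s a fun e j _ => N.smul_mem _ (ha j)
  -- main claim by strong induction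
  have hmain : ∀ d, ∀ m ∈ ℳ d, m ∈ N := by
    intro d
    induction d using Nat.strong_induction_on with
    | _ d ih =>
      intro m hm
      have hB : ∀ z ∈ (HomogeneousIdeal.irrelevant 𝒜).toIdeal • (⊤ : Submodule S M),
          (DirectSum.decompose ℳ z d : M) ∈ N := by
        intro z hz
        refine Submodule.smul_induction_on hz (fun a ha m' _ => ?_) (fun a b ha hb => ?_)
        · refine comp_smul_mem 𝒜 M ℳ N d a m' fun e j hej => ?_
          rcases Nat.eq_zero_or_pos e with he | he
          · subst he
            have h0 : (DirectSum.decompose 𝒜 a 0 : S) = 0 := by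
              have := (HomogeneousIdeal.mem_irrelevant_iff 𝒜 a).1 ha
              simpa [GradedRing.proj_apply] using this
            rw [h0, zero_smul]
            exact N.zero_mem
          · exact N.smul_mem _ (ih j (by omega) _ (DirectSum.decompose ℳ m' j).2)
        · rw [DirectSum.decompose_add]
          exact N.add_mem ha hb
      have hmt : m ∈ N ⊔ (HomogeneousIdeal.irrelevant 𝒜).toIdeal • (⊤ : Submodule S M) := by
        rw [h]; trivial
      obtain ⟨n, hn, z, hz, rfl⟩ := Submodule.mem_sup.1 hmt
      have := DirectSum.decompose_of_mem_same ℳ hm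
      rw [← this, DirectSum.decompose_add]
      exact N.add_mem (hA n hn d) (hB z hz)
  rw [eq_top_iff]
  intro m _
  rw [← DirectSum.sum_support_decompose ℳ m]
  exact Submodule.sum_mem _ fun j _ => hmain j _ (DirectSum.decompose ℳ m j).2

end Groth.Agent.S9614
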