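import Groth.Statements.S9617
import Mathlib
-- import your own Groth.Agent.* helpers here

set_option autoImplicit false
universe u
open CAlg

namespace Groth.Agent.S9617

section
open DirectSum

variable {A S : Type u} [CommRing A] [CommRing S] [Algebra A S] (𝒜 : ℕ → Submodule A S)
  [GradedAlgebra 𝒜]
  (M : Type u) [AddCommGroup M] [Module A M] [Module S M] [IsScalarTower A S M]
  (ℳ : ℕ → Submodule A M) [DirectSum.Decomposition ℳ] [SetLike.GradedSMul 𝒜 ℳ]

theorem decomp_smul (s : S) (d : ℕ) (hs : s ∈ 𝒜 d) (y : M) (n : ℕ) :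
    (decompose ℳ (s • y) n : M) = if d ≤ n then s • (decompose ℳ y (n - d) : M) else 0 := by
  classical
  induction y using DirectSum.Decomposition.inductionOn ℳ with
  | zero => simp
  | @homogeneous e y =>
    have hsy : s • (y : M) ∈ ℳ (d + e) := SetLike.GradedSMul.smul_mem hs y.2
    by_cases h : d + e = n
    · subst h
      rw [decompose_of_mem_same ℳ hsy, if_pos (Nat.le_add_right _ _)]
      have : d + e - d = e := by omega
      rw [this, decompose_of_mem_same ℳ y.2]
    · rw [decompose_of_mem_ne ℳ hsy h]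
      split_ifs with hdn
      · have : e ≠ n - d := by omega
        rw [decompose_of_mem_ne ℳ y.2 this, smul_zero]
      · rfl
  | add y z hy hz =>
    rw [smul_add, decompose_add, DirectSum.add_apply, Submodule.coe_add, hy, hz]
    split_ifs
    · rw [decompose_add, DirectSum.add_apply, Submodule.coe_add, smul_add]
    · simp

theorem exists_gens_S (h0 : ∀ s ∈ 𝒜 0, s ∈ Set.range (algebraMap A S)) [Algebra.FiniteType A S] :
    ∃ (F : Finset S) (deg : S → ℕ), Algebra.adjoin A (F : Set S) = ⊤ ∧
      ∀ t ∈ F, deg t ≠ 0 ∧ t ∈ 𝒜 (deg t) := by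
  classical
  obtain ⟨F, hF⟩ := (Algebra.FiniteType.out : (⊤ : Subalgebra A S).FG)
  let F' : Finset S := F.biUnion (fun s => ((decompose 𝒜 s).support.filter (· ≠ 0)).image
    (fun k => (decompose 𝒜 s k : S)))
  have hhom : ∀ t ∈ F', ∃ d, d ≠ 0 ∧ t ∈ 𝒜 d := by
    intro t ht
    simp only [F', Finset.mem_biUnion, Finset.mem_image, Finset.mem_filter] at ht
    obtain ⟨s, _, k, ⟨_, hk⟩, rfl⟩ := ht
    exact ⟨k, hk, Submodule.coe_mem _⟩
  choose! deg hdeg using hhom
  refine ⟨F', deg, ?_, hdeg⟩
  rw [← top_le_iff, ← hF, Algebra.adjoin_le_iff]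
  intro s hs
  rw [← DirectSum.sum_support_decompose 𝒜 s]
  refine sum_mem fun k hk => ?_
  by_cases hk0 : k = 0
  · subst hk0
    obtain ⟨a, ha⟩ := h0 _ (Submodule.coe_mem (decompose 𝒜 s 0))
    rw [← ha]; exact Subalgebra.algebraMap_mem _ a
  · apply Algebra.subset_adjoin
    simp only [F', Finset.coe_biUnion, Finset.mem_coe, Set.mem_iUnion, Finset.coe_image,
      Set.mem_image, Finset.mem_filter]
    exact ⟨s, hs, k, ⟨hk, hk0⟩, rfl⟩

theorem exists_gens_M [Module.Finite S M] :
    ∃ (G : Finset M) (dg : M → ℕ), Submodule.span S (G : Set M) = ⊤ ∧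
      ∀ g ∈ G, g ∈ ℳ (dg g) := by
  classical
  obtain ⟨G, hG⟩ := (Module.Finite.fg_top : (⊤ : Submodule S M).FG)
  let G' : Finset M := G.biUnion (fun g => (decompose ℳ g).support.image
    (fun k => (decompose ℳ g k : M)))
  have hhom : ∀ t ∈ G', ∃ d, t ∈ ℳ d := by
    intro t ht
    simp only [G', Finset.mem_biUnion, Finset.mem_image] at ht
    obtain ⟨s, _, k, _, rfl⟩ := ht
    exact ⟨k, Submodule.coe_mem _⟩
  choose! dg hdg using hhom
  refine ⟨G', dg, ?_, hdg⟩
  rw [← top_le_iff, ← hG, Submodule.span_le]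
  intro g hg
  rw [← DirectSum.sum_support_decompose ℳ g]
  refine sum_mem fun k hk => ?_
  apply Submodule.subset_span
  simp only [G', Finset.coe_biUnion, Finset.mem_coe, Set.mem_iUnion, Finset.coe_image,
    Set.mem_image]
  exact ⟨g, hg, k, hk, rfl⟩

/-- the candidate finite submodule -/
noncomputable def RHS (F : Finset S) (deg : S → ℕ) (G : Finset M) (dg : M → ℕ) (n : ℕ) :
    Submodule A M :=
  Submodule.span A {g | g ∈ G ∧ dg g = n} ⊔
    ⨆ s ∈ F, (if deg s ≤ n then (ℳ (n - deg s)).map (Algebra.lsmul A A M s) else ⊥)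

theorem RHS_le (F : Finset S) (deg : S → ℕ) (G : Finset M) (dg : M → ℕ)
    (hF : ∀ t ∈ F, deg t ≠ 0 ∧ t ∈ 𝒜 (deg t)) (hG : ∀ g ∈ G, g ∈ ℳ (dg g)) (n : ℕ) :
    RHS M ℳ F deg G dg n ≤ ℳ n := by
  unfold RHS
  refine sup_le ?_ (iSup₂_le fun s hs => ?_)
  · rw [Submodule.span_le]
    rintro g ⟨hg, rfl⟩
    exact hG g hg
  · split_ifs with h
    · rintro _ ⟨y, hy, rfl⟩
      have := SetLike.GradedSMul.smul_mem (hF s hs).2 hy
      rw [vadd_eq_add, Nat.add_sub_cancel' h] at this
      exact this
    · exact bot_le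

theorem le_RHS (F : Finset S) (deg : S → ℕ) (G : Finset M) (dg : M → ℕ)
    (hFt : Algebra.adjoin A (F : Set S) = ⊤) (hGt : Submodule.span S (G : Set M) = ⊤)
    (hF : ∀ t ∈ F, deg t ≠ 0 ∧ t ∈ 𝒜 (deg t)) (hG : ∀ g ∈ G, g ∈ ℳ (dg g)) (n : ℕ) :
    ℳ n ≤ RHS M ℳ F deg G dg n := by
  classical
  have key : ∀ x : M, ∀ n, (decompose ℳ x n : M) ∈ RHS M ℳ F deg G dg n := by
    intro x
    have hx : x ∈ Submodule.span S (G : Set M) := hGt ▸ Submodule.mem_top
    induction hx using Submodule.span_induction with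
    | mem g hg =>
      intro n
      by_cases h : dg g = n
      · subst h
        rw [decompose_of_mem_same ℳ (hG g hg)]
        exact Submodule.mem_sup_left (Submodule.subset_span ⟨hg, rfl⟩)
      · rw [decompose_of_mem_ne ℳ (hG g hg) h]
        exact Submodule.zero_mem _
    | zero => intro n; simp
    | add x y _ _ hx hy =>
      intro n
      rw [decompose_add, DirectSum.add_apply, Submodule.coe_add]
      exact Submodule.add_mem _ (hx n) (hy n)
    | smul t x _ hx =>
      have ht : t ∈ Algebra.adjoin A (F : Set S) := hFt ▸ Algebra.mem_top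
      revert x
      induction ht using Algebra.adjoin_induction with
      | mem s hs =>
        intro x _ _ n
        rw [decomp_smul 𝒜 M ℳ s (deg s) (hF s hs).2]
        split_ifs with h
        · refine Submodule.mem_sup_right ?_
          refine Submodule.mem_iSup_of_mem s (Submodule.mem_iSup_of_mem hs ?_)
          rw [if_pos h]
          exact ⟨_, Submodule.coe_mem _, rfl⟩
        · exact Submodule.zero_mem _
      | algebraMap a =>
        intro x _ hx n
        rw [algebraMap_smul, decompose_smul, DirectSum.smul_apply, Submodule.coe_smul]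
        exact Submodule.smul_mem _ _ (hx n)
      | add t1 t2 _ _ h1 h2 =>
        intro x hxs hx n
        rw [add_smul, decompose_add, DirectSum.add_apply, Submodule.coe_add]
        exact Submodule.add_mem _ (h1 x hxs hx n) (h2 x hxs hx n)
      | mul t1 t2 _ _ h1 h2 =>
        intro x hxs hx n
        rw [mul_smul]
        exact h1 (t2 • x) (Submodule.smul_mem _ _ hxs) (h2 x hxs hx) n
  intro x hx
  have := key x n
  rwa [decompose_of_mem_same ℳ hx] at this

theorem main (h0 : ∀ s ∈ 𝒜 0, s ∈ Set.range (algebraMap A S)) [Algebra.FiniteType A S]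
    [Module.Finite S M] (n : ℕ) : Module.Finite A (ℳ n) := by
  classical
  obtain ⟨F, deg, hFt, hF⟩ := exists_gens_S 𝒜 h0
  obtain ⟨G, dg, hGt, hG⟩ := exists_gens_M M ℳ (S := S)
  rw [Module.Finite.iff_fg]
  induction n using Nat.strong_induction_on with
  | _ n ih =>
    have heq : ℳ n = RHS M ℳ F deg G dg n :=
      le_antisymm (le_RHS 𝒜 M ℳ F deg G dg hFt hGt hF hG n) (RHS_le 𝒜 M ℳ F deg G dg hF hG n)
    rw [heq]
    unfold RHS
    refine Submodule.FG.sup ?_ ?_
    · apply Submodule.fg_span
      exact G.finite_toSet.subset fun g hg => hg.1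
    · refine Submodule.fg_biSup F _ fun s hs => ?_
      split_ifs with h
      · exact (ih (n - deg s) (by have := (hF s hs).1; omega)).map _
      · exact Submodule.fg_bot

end

/-- Let S be an ℕ-graded ring, presented as a graded algebra over a ring A mapping onto S₀, such that S
is of finite type over A, i.e. over S₀. If M is a finitely generated graded S-module, graded in
nonnegative degrees (the source allows all integer degrees), then each graded piece M_n is a finite
module over A, i.e. over S₀. -/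
theorem result {A S : Type u} [CommRing A] [CommRing S] [Algebra A S] (𝒜 : ℕ → Submodule A S) [GradedAlgebra 𝒜]
    (h0 : ∀ s ∈ 𝒜 0, s ∈ Set.range (algebraMap A S)) [Algebra.FiniteType A S]
    (M : Type u) [AddCommGroup M] [Module A M] [Module S M] [IsScalarTower A S M] [Module.Finite S M] (ℳ : ℕ → Submodule A M) [DirectSum.Decomposition ℳ] [SetLike.GradedSMul 𝒜 ℳ] (n : ℕ) :
    Module.Finite A (ℳ n) := by
  exact Groth.Agent.S9617.main 𝒜 M ℳ h0 n

end Groth.Agent.S9617
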