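import Groth.Statements.S9621
import Groth.Agent.Lib.Helper14.WeakAss
-- import your own Groth.Agent.* helpers here

set_option autoImplicit false
universe u
open CAlg

namespace Groth.Agent.S9621

/-- Let R be a ring, p a minimal prime of R and W a quasi-compact open subset of Spec R not containing
p. Then there is an f ∈ R, f ∉ p, whose basic open D(f) is disjoint from W. -/
theorem result {R : Type u} [CommRing R] (p : PrimeSpectrum R) (hp : p.asIdeal ∈ minimalPrimes R) (W : Set (PrimeSpectrum R)) (hWo : IsOpen W) (hWc : IsCompact W) (hpW : p ∉ W) :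
    ∃ f : R, f ∉ p.asIdeal ∧ Disjoint (PrimeSpectrum.basicOpen f : Set (PrimeSpectrum R)) W := by
  classical
  obtain ⟨t, ht⟩ := PrimeSpectrum.isCompact_isOpen_iff.mp ⟨hWc, hWo⟩
  have hpp : p.asIdeal.IsPrime := p.2
  have htp : ∀ g ∈ t, g ∈ p.asIdeal := by
    intro g hg
    by_contra hgp
    apply hpW
    rw [← ht]
    intro hmem
    exact hgp (hmem hg)
  have hex : ∀ g ∈ t, ∃ s, s ∉ p.asIdeal ∧ ∃ n : ℕ, s * g ^ n = 0 := by
    intro g hg
    obtain ⟨s, hs, n, hn⟩ := Helper14.exists_mul_pow_mem_of_mem_minimalPrimes hp (htp g hg)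
    exact ⟨s, hs, n, by simpa using hn⟩
  choose! s hs using hex
  refine ⟨∏ g ∈ t, s g, ?_, ?_⟩
  · intro h
    obtain ⟨g, hg, hgp⟩ := (Ideal.IsPrime.prod_mem_iff).mp h
    exact (hs g hg).1 hgp
  · rw [Set.disjoint_left]
    intro q hqf hqW
    rw [← ht] at hqW
    have hqf' : (∏ g ∈ t, s g) ∉ q.asIdeal := hqf
    apply hqW
    intro g hg
    by_contra hgq
    apply hqf'
    obtain ⟨n, hn⟩ := (hs g hg).2
    have h1 : s g * g ^ n ∈ q.asIdeal := by rw [hn]; exact zero_mem _
    have h2 : s g ∈ q.asIdeal := by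
      rcases q.2.mem_or_mem h1 with h | h
      · exact h
      · exact absurd (q.2.mem_of_pow_mem n h) hgq
    exact Ideal.mem_of_dvd _ (Finset.dvd_prod_of_mem s hg) h2

end Groth.Agent.S9621
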