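import Groth.Statements.S9622
import Groth.Agent.Lib.Helper14.ArtinFinite
import Mathlib
-- import your own Groth.Agent.* helpers here

set_option autoImplicit false
universe u
open CAlg

namespace Groth.Agent.S9622

theorem fin_of_residue {R S : Type u} [CommRing R] [CommRing S] [Algebra R S] [IsArtinianRing S] [IsLocalRing S]
    (h : Module.Finite R (S ⧸ IsLocalRing.maximalIdeal S)) : Module.Finite R S := by
  have hnil : IsNilpotent (IsLocalRing.maximalIdeal S) := by
    have := IsArtinianRing.isNilpotent_jacobson_bot (R := S)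
    rwa [IsLocalRing.jacobson_eq_maximalIdeal ⊥ bot_ne_top] at this
  obtain ⟨k, hk⟩ := hnil
  refine Helper14.finite_of_pow_torsion (IsLocalRing.maximalIdeal S) k S ?_
  rw [hk]
  exact Submodule.bot_smul _

/-- Let R → S be a ring map whose target S is a local Artinian ring, and write m for the maximal ideal
of S. Then S is a finite R-module exactly when S/m is, and S is an R-algebra of finite type exactly
when S/m is. -/
theorem result {R S : Type u} [CommRing R] [CommRing S] [Algebra R S] [IsArtinianRing S] [IsLocalRing S] :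
    (Module.Finite R S ↔ Module.Finite R (S ⧸ IsLocalRing.maximalIdeal S)) ∧
      (Algebra.FiniteType R S ↔ Algebra.FiniteType R (S ⧸ IsLocalRing.maximalIdeal S)) := by
  classical
  set m := IsLocalRing.maximalIdeal S with hm
  refine ⟨⟨fun hfin => ?_, fun hfin => fin_of_residue hfin⟩, ⟨fun hft => ?_, fun hft => ?_⟩⟩
  · exact Module.Finite.of_surjective (Ideal.Quotient.mkₐ R m).toLinearMap (Ideal.Quotient.mkₐ_surjective R m)
  · exact Algebra.FiniteType.of_surjective (Ideal.Quotient.mkₐ R m) (Ideal.Quotient.mkₐ_surjective R m)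
  · obtain ⟨t, ht⟩ := hft.out
    let lift : S ⧸ m → S := Function.surjInv (Ideal.Quotient.mk_surjective (I := m))
    have hlift : ∀ y, Ideal.Quotient.mk m (lift y) = y := Function.surjInv_eq _
    let T : Finset S := t.image lift
    let S₀ : Subalgebra R S := Algebra.adjoin R (T : Set S)
    let φ : S₀ →ₐ[R] S ⧸ m := (Ideal.Quotient.mkₐ R m).comp S₀.val
    have hφ : Function.Surjective φ := by
      rw [← AlgHom.range_eq_top, eq_top_iff, ← ht]
      apply Algebra.adjoin_le
      intro y hy
      have hmem : lift y ∈ S₀ := Algebra.subset_adjoin (Finset.mem_coe.2 (Finset.mem_image_of_mem lift hy))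
      exact ⟨⟨lift y, hmem⟩, hlift y⟩
    haveI : Module.Finite S₀ (S ⧸ m) := by
      refine Module.Finite.of_surjective (Algebra.linearMap S₀ (S ⧸ m)) ?_
      intro y
      obtain ⟨x, hx⟩ := hφ y
      exact ⟨x, hx⟩
    haveI : Module.Finite S₀ S := fin_of_residue ‹_›
    haveI : Algebra.FiniteType R S₀ := (Subalgebra.fg_iff_finiteType S₀).1 (Subalgebra.fg_adjoin_finset T)
    exact Algebra.FiniteType.trans (inferInstance : Algebra.FiniteType R S₀) (inferInstance : Algebra.FiniteType S₀ S)

end Groth.Agent.S9622
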