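import Groth.Statements.S9625
import Mathlib
-- import your own Groth.Agent.* helpers here

set_option autoImplicit false
universe u
open CAlg

namespace Groth.Agent.S9625

open TensorProduct in
/-- Let k be a field and S a k-algebra such that Spec(k' ⊗_k S) is irreducible for every field extension
k'/k. Then every k-subalgebra of S has the same property. Here the test fields range over field
extensions in the universe of k; this is equivalent to the unrestricted notion, since an algebraic
closure of k suffices as a test. -/
theorem result {k S : Type u} [Field k] [CommRing S] [Algebra k S]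
    (hS : ∀ (k' : Type u) [Field k'] [Algebra k k'], IrreducibleSpace (PrimeSpectrum (k' ⊗[k] S))) (S' : Subalgebra k S) :
    ∀ (k' : Type u) [Field k'] [Algebra k k'], IrreducibleSpace (PrimeSpectrum (k' ⊗[k] S')) := by
  intro k' _ _
  have h := hS k'
  rw [PrimeSpectrum.irreducibleSpace_iff_isPrime_nilradical] at h ⊢
  let φ : k' ⊗[k] S' →ₐ[k'] k' ⊗[k] S := Algebra.TensorProduct.map (AlgHom.id k' k') S'.val
  have hφ : Function.Injective φ := by
    have : Function.Injective (LinearMap.lTensor k' S'.val.toLinearMap) :=
      Module.Flat.lTensor_preserves_injective_linearMap _ Subtype.val_injective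
    intro x y hxy
    apply this
    have h1 : ∀ z, φ z = LinearMap.lTensor k' S'.val.toLinearMap z := by
      intro z
      induction z using TensorProduct.induction_on with
      | zero => simp
      | tmul a b => simp [φ]
      | add a b ha hb => simp only [map_add, ha, hb]
    rw [← h1, ← h1]; exact hxy
  have hnil : nilradical (k' ⊗[k] S') = Ideal.comap φ.toRingHom (nilradical (k' ⊗[k] S)) := by
    ext x
    simp only [mem_nilradical, Ideal.mem_comap]
    constructor
    · intro hx; exact hx.map φ
    · intro hx; exact (IsNilpotent.map_iff (f := φ) hφ).1 hx
  rw [hnil]
  exact Ideal.comap_isPrime _ _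

end Groth.Agent.S9625
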