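import Groth.Statements.S9633
import Groth.Agent.Lib.Helper14.QcSpecialization
import Mathlib.Topology.Connected.Separation
-- import your own Groth.Agent.* helpers here

set_option autoImplicit false
universe u
open CAlg

namespace Groth.Agent.S9633

/-- For a ring R with spectrum X the following are equivalent: (1) X is profinite, i.e. compact,
Hausdorff and totally disconnected; (2) X is Hausdorff; (3) X is totally disconnected; (4) every
quasi-compact open subset of X is closed; (5) there are no nontrivial inclusions among prime ideals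
of R; (6) every prime ideal of R is maximal; (7) every prime ideal of R is a minimal prime; (8)
every standard open D(f) is closed. -/
theorem result {R : Type u} [CommRing R] :
    [CompactSpace (PrimeSpectrum R) ∧ T2Space (PrimeSpectrum R) ∧ TotallyDisconnectedSpace (PrimeSpectrum R),
      T2Space (PrimeSpectrum R),
      TotallyDisconnectedSpace (PrimeSpectrum R),
      ∀ W : Set (PrimeSpectrum R), IsOpen W → IsCompact W → IsClosed W,
      ∀ p q : PrimeSpectrum R, p ≤ q → p = q,
      ∀ p : Ideal R, p.IsPrime → p.IsMaximal,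
      ∀ p : Ideal R, p.IsPrime → p ∈ minimalPrimes R,
      ∀ f : R, IsClosed (PrimeSpectrum.basicOpen f : Set (PrimeSpectrum R))].TFAE := by
  classical
  tfae_have 1 → 2 := fun h => h.2.1
  tfae_have 1 → 3 := fun h => h.2.2
  tfae_have 2 → 5 := by
    intro h p q hpq
    haveI := h
    exact ((PrimeSpectrum.le_iff_specializes p q).1 hpq).eq
  tfae_have 3 → 5 := by
    intro h p q hpq
    haveI := h
    have hpre : IsPreconnected (closure ({p} : Set (PrimeSpectrum R))) :=
      isPreconnected_singleton.closure
    have hq : q ∈ closure ({p} : Set (PrimeSpectrum R)) := (PrimeSpectrum.le_iff_mem_closure p q).1 hpq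
    have hp : p ∈ closure ({p} : Set (PrimeSpectrum R)) := subset_closure rfl
    exact hpre.subsingleton hp hq
  tfae_have 5 → 6 := by
    intro h p hp
    obtain ⟨m, hm, hpm⟩ := Ideal.exists_le_maximal p hp.ne_top
    have := h ⟨p, hp⟩ ⟨m, hm.isPrime⟩ hpm
    have hpm' : p = m := congrArg PrimeSpectrum.asIdeal this
    rw [hpm']; exact hm
  tfae_have 6 → 7 := by
    intro h p hp
    obtain ⟨q, hq, hqp⟩ := Ideal.exists_minimalPrimes_le (show (⊥ : Ideal R) ≤ p from bot_le)
    have hqmax := h q hq.1.1
    have : q = p := hqmax.eq_of_le hp.ne_top hqp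
    rw [← this]; exact hq
  tfae_have 7 → 5 := by
    intro h p q hpq
    have hq := h q.asIdeal q.2
    have : q.asIdeal ≤ p.asIdeal := hq.2 ⟨p.2, bot_le⟩ hpq
    exact le_antisymm hpq this
  tfae_have 5 → 8 := by
    intro h f
    rw [← closure_subset_iff_isClosed]
    intro y hy
    rw [← PrimeSpectrum.localization_away_comap_range (Localization.Away f) f] at hy ⊢
    obtain ⟨a, ha⟩ := Helper14.exists_comap_le_of_mem_closure_range _ y hy
    exact ⟨a, h _ _ ha⟩
  tfae_have 8 → 4 := by
    intro h W hWo hWc
    obtain ⟨s, hs, rfl⟩ := (isCompact_open_iff_eq_finite_iUnion_of_isTopologicalBasis _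
      PrimeSpectrum.isTopologicalBasis_basic_opens PrimeSpectrum.isCompact_basicOpen W).1 ⟨hWc, hWo⟩
    exact hs.isClosed_biUnion fun i _ => h i
  tfae_have 4 → 8 := by
    intro h f
    exact h _ (PrimeSpectrum.basicOpen f).2 (PrimeSpectrum.isCompact_basicOpen f)
  tfae_have 8 → 1 := by
    intro h
    have hts : TotallySeparatedSpace (PrimeSpectrum R) := by
      rw [totallySeparatedSpace_iff_exists_isClopen]
      intro p q hpq
      have hne : p.asIdeal ≠ q.asIdeal := fun e => hpq (PrimeSpectrum.ext e)
      by_cases hle : p.asIdeal ≤ q.asIdeal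
      · -- there is f ∈ q \ p
        have : ¬ q.asIdeal ≤ p.asIdeal := fun h' => hne (le_antisymm hle h')
        obtain ⟨f, hfq, hfp⟩ := Set.not_subset.1 this
        refine ⟨PrimeSpectrum.basicOpen f, ⟨h f, (PrimeSpectrum.basicOpen f).2⟩, hfp, ?_⟩
        intro hq; exact hq hfq
      · obtain ⟨f, hfp, hfq⟩ := Set.not_subset.1 hle
        refine ⟨(PrimeSpectrum.basicOpen f : Set (PrimeSpectrum R))ᶜ, ⟨(PrimeSpectrum.basicOpen f).2.isClosed_compl, (h f).isOpen_compl⟩, ?_, ?_⟩
        · intro hp; exact hp hfp
        · rw [compl_compl]; exact hfq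
    exact ⟨inferInstance, inferInstance, inferInstance⟩
  tfae_finish

end Groth.Agent.S9633
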