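import Groth.Statements.S9636
import Mathlib.RingTheory.Kaehler.Basic
-- import your own Groth.Agent.* helpers here

set_option autoImplicit false
universe u
open CAlg

namespace Groth.Agent.S9636

open TensorProduct Polynomial in
theorem exists_annihilator {k k' : Type u} [Field k] [Field k'] [Algebra k k'] [Algebra.IsSeparable k k']
    (a : k') : ∃ s : k' ⊗[k] k', Algebra.TensorProduct.lmul' (S := k') k s ≠ 0 ∧
      s * ((1 : k') ⊗ₜ[k] a - a ⊗ₜ[k] (1 : k')) = 0 := by
  set A := k' ⊗[k] k'
  set μ : A →ₐ[k] k' := Algebra.TensorProduct.lmul' (S := k') k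
  set u : A := a ⊗ₜ[k] (1 : k') with hu
  set v : A := (1 : k') ⊗ₜ[k] a with hv
  set F : A[X] := (minpoly k a).map (algebraMap k A) with hF
  have hFu : F.eval u = 0 := by
    rw [hF, eval_map_algebraMap]
    have : u = (Algebra.TensorProduct.includeLeft : k' →ₐ[k] A) a := rfl
    rw [this, aeval_algHom_apply, minpoly.aeval, map_zero]
  have hFv : F.eval v = 0 := by
    rw [hF, eval_map_algebraMap]
    have : v = (Algebra.TensorProduct.includeRight : k' →ₐ[k] A) a := rfl
    rw [this, aeval_algHom_apply, minpoly.aeval, map_zero]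
  set G : A[X] := F /ₘ (X - C u) with hG
  have hmul : (X - C u) * G = F := mul_divByMonic_eq_iff_isRoot.mpr hFu
  refine ⟨G.eval v, ?_, ?_⟩
  · have hμv : μ v = a := by
      rw [hv]; exact (Algebra.TensorProduct.lmul'_apply_tmul (R := k) (1 : k') a).trans (one_mul a)
    have hμu : μ u = a := by
      rw [hu]; exact (Algebra.TensorProduct.lmul'_apply_tmul (R := k) a (1 : k')).trans (mul_one a)
    have h1 : μ (G.eval v) = (G.map (μ : A →+* k')).eval a := by
      rw [← hμv]
      exact (eval_map_apply (f := (μ : A →+* k')) (p := G) v).symm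
    have hFμ : F.map (μ : A →+* k') = (minpoly k a).map (algebraMap k k') := by
      rw [hF, Polynomial.map_map]
      congr 1
      ext x
      simp
    have h2 : G.map (μ : A →+* k') =
        (minpoly k a).map (algebraMap k k') /ₘ (X - C a) := by
      rw [hG, map_divByMonic _ (monic_X_sub_C u), hFμ]
      congr 1
      simp [hμu]
    set f' := (minpoly k a).map (algebraMap k k') with hf'
    have hroot : IsRoot f' a := by
      rw [IsRoot, hf', eval_map_algebraMap, minpoly.aeval]
    have h3 : (X - C a) * (f' /ₘ (X - C a)) = f' := mul_divByMonic_eq_iff_isRoot.mpr hroot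
    have h4 : (derivative f').eval a = (f' /ₘ (X - C a)).eval a := by
      conv_lhs => rw [← h3]
      simp [derivative_mul]
    have h5 : (derivative f').eval a ≠ 0 := by
      rw [hf', derivative_map, eval_map_algebraMap]
      exact (Algebra.IsSeparable.isSeparable k a).aeval_derivative_ne_zero (minpoly.aeval k a)
    rw [h1, h2, ← h4]
    exact h5
  · have h6 : (v - u) * G.eval v = 0 := by
      have := congrArg (Polynomial.eval v) hmul
      simpa [hFv] using this
    rw [mul_comm]
    exact h6

open TensorProduct in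
/-- Let k'/k be a separable algebraic field extension. Then for some multiplicative subset S of k' ⊗_k
k' the multiplication map k' ⊗_k k' → k' is a localization at S: there is a ring isomorphism S⁻¹(k'
⊗_k k') ≅ k' carrying the localization map to the multiplication map. -/
theorem result {k k' : Type u} [Field k] [Field k'] [Algebra k k'] [Algebra.IsSeparable k k'] :
    ∃ (S : Submonoid (k' ⊗[k] k')) (e : Localization S ≃+* k'), ∀ x : k' ⊗[k] k', e (algebraMap (k' ⊗[k] k') (Localization S) x) = Algebra.TensorProduct.lmul' (S := k') k x := by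
  classical
  set A := k' ⊗[k] k'
  set μ : A →ₐ[k] k' := Algebra.TensorProduct.lmul' (S := k') k with hμ
  have hsurj : Function.Surjective μ := fun x => ⟨x ⊗ₜ[k] 1, (Algebra.TensorProduct.lmul'_apply_tmul (R := k) x (1 : k')).trans (mul_one x)⟩
  let m : Ideal A := RingHom.ker μ
  have hmax : m.IsMaximal := RingHom.ker_isMaximal_of_surjective (μ : A →+* k') hsurj
  have hprime : m.IsPrime := hmax.isPrime
  -- every element of m is killed by something outside m
  have hkill : ∀ x ∈ m, ∃ s : A, s ∉ m ∧ s * x = 0 := by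
    intro x hx
    have hx' : x ∈ Ideal.span (Set.range fun s : k' => (1 : k') ⊗ₜ[k] s - s ⊗ₜ[k] (1 : k')) := by
      rw [KaehlerDifferential.span_range_eq_ideal]; exact hx
    refine Submodule.span_induction ?_ ?_ ?_ ?_ hx'
    · rintro _ ⟨a, rfl⟩
      obtain ⟨s, hs, hs0⟩ := exists_annihilator (k := k) a
      exact ⟨s, fun h => hs h, hs0⟩
    · exact ⟨1, fun h => hprime.ne_top ((Ideal.eq_top_iff_one _).2 h), by simp⟩
    · rintro x y _ _ ⟨s, hs, hs0⟩ ⟨t, ht, ht0⟩
      refine ⟨s * t, fun h => (hprime.mem_or_mem h).elim hs ht, ?_⟩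
      rw [mul_add, mul_right_comm, hs0, zero_mul, mul_assoc, ht0, mul_zero, add_zero]
    · rintro c x _ ⟨s, hs, hs0⟩
      refine ⟨s, hs, ?_⟩
      rw [smul_eq_mul, mul_left_comm, hs0, mul_zero]
  have hunit : ∀ y : m.primeCompl, IsUnit ((μ : A →+* k') y) := by
    intro y
    rw [isUnit_iff_ne_zero]
    exact fun h => y.2 h
  let φ : Localization m.primeCompl →+* k' := IsLocalization.lift hunit
  have hφ : ∀ x : A, φ (algebraMap A (Localization m.primeCompl) x) = μ x := fun x =>
    IsLocalization.lift_eq hunit x
  have hinj : Function.Injective φ := by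
    rw [injective_iff_map_eq_zero]
    intro z hz
    obtain ⟨x, t, rfl⟩ := IsLocalization.exists_mk'_eq m.primeCompl z
    rw [IsLocalization.lift_mk'] at hz
    have hx : x ∈ m := by
      have : (μ : A →+* k') x = 0 := by
        have hu := hunit t
        rw [Units.mul_inv_eq_iff_eq_mul] at hz
        simpa using hz
      exact this
    obtain ⟨s, hs, hs0⟩ := hkill x hx
    rw [IsLocalization.mk'_eq_zero_iff]
    exact ⟨⟨s, hs⟩, hs0⟩
  have hsur : Function.Surjective φ := by
    intro y
    obtain ⟨x, rfl⟩ := hsurj y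
    exact ⟨algebraMap A _ x, hφ x⟩
  exact ⟨m.primeCompl, RingEquiv.ofBijective φ ⟨hinj, hsur⟩, fun x => hφ x⟩

end Groth.Agent.S9636
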