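import Groth.Statements.S9638
import Groth.Agent.Lib.Helper14.LocAnn
import Mathlib
-- import your own Groth.Agent.* helpers here

set_option autoImplicit false
universe u
open CAlg

namespace Groth.Agent.S9638

open Helper14 in
theorem ass_eq_ass_loc_of_regular {S : Type u} [CommRing S] (T : Submonoid S)
    {N : Type u} [AddCommGroup N] [Module S N] (hT : ∀ t ∈ T, IsSMulRegular N t) :
    FlatCA.ass S N = FlatCA.ass S (LocalizedModule T N) := by
  ext p
  constructor
  · rintro ⟨hp, m, hm⟩
    refine ⟨hp, LocalizedModule.mk m 1, ?_⟩
    change p = annElt S _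
    rw [annElt_R_locmk_of_regular T hT]
    exact hm
  · rintro ⟨hp, z, hz⟩
    induction z using LocalizedModule.induction_on with
    | h m s =>
      refine ⟨hp, m, ?_⟩
      change p = annElt S _ at hz
      rw [annElt_R_locmk_of_regular T hT] at hz
      exact hz

open Helper14 in
theorem ass_eq_image_of_regular {S : Type u} [CommRing S] (T : Submonoid S)
    {N : Type u} [AddCommGroup N] [Module S N] (hT : ∀ t ∈ T, IsSMulRegular N t) :
    FlatCA.ass S N = Ideal.comap (algebraMap S (Localization T)) ''
      FlatCA.ass (Localization T) (LocalizedModule T N) := by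
  ext p
  constructor
  · rintro ⟨hp, m, hm⟩
    have hd : Disjoint (T : Set S) (p : Set S) := by
      rw [Set.disjoint_left]
      intro t htT htp
      rw [hm] at htp
      have h1 : t • m = 0 := mem_annElt.1 htp
      have h2 : m = 0 := by
        apply hT t htT
        simpa using h1
      apply hp.ne_top
      rw [hm, h2]
      exact annElt_eq_top_iff.2 rfl
    refine ⟨Ideal.map (algebraMap S (Localization T)) p, ⟨?_, LocalizedModule.mk m 1, ?_⟩, ?_⟩
    · exact IsLocalization.isPrime_of_isPrime_disjoint T (Localization T) p hp hd
    · change _ = annElt (Localization T) _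
      rw [annElt_loc_locmk, hm]
    · exact IsLocalization.under_map_of_isPrime_disjoint T (Localization T) hp hd
  · rintro ⟨q, ⟨hq, z, hz⟩, rfl⟩
    refine ⟨Ideal.comap_isPrime _ _, ?_⟩
    induction z using LocalizedModule.induction_on with
    | h m s =>
      refine ⟨m, ?_⟩
      change q = annElt (Localization T) _ at hz
      change _ = annElt S m
      rw [hz, ← annElt_R_loc, annElt_R_locmk_of_regular T hT]

/-- Let R → S be a ring map with R a domain with fraction field K, and N an S-module flat over R.
Writing T for the image in S of the nonzero elements of R, so that T⁻¹S = S ⊗_R K and T⁻¹N = N ⊗_R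
K, the associated primes of N over S (primes equal to the annihilator of an element) coincide with
those of T⁻¹N over S, and these are exactly the inverse images in S of the associated primes of T⁻¹N
over T⁻¹S. -/
theorem result {R S : Type u} [CommRing R] [IsDomain R] [CommRing S] [Algebra R S] (N : Type u) [AddCommGroup N] [Module S N] [Module R N] [IsScalarTower R S N] [Module.Flat R N] :
    FlatCA.ass S N = FlatCA.ass S (LocalizedModule (Algebra.algebraMapSubmonoid S (nonZeroDivisors R)) N) ∧
      FlatCA.ass S N = Ideal.comap (algebraMap S (Localization (Algebra.algebraMapSubmonoid S (nonZeroDivisors R)))) '' FlatCA.ass (Localization (Algebra.algebraMapSubmonoid S (nonZeroDivisors R))) (LocalizedModule (Algebra.algebraMapSubmonoid S (nonZeroDivisors R)) N) := by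
  have hT : ∀ t ∈ Algebra.algebraMapSubmonoid S (nonZeroDivisors R), IsSMulRegular N t := by
    rintro _ ⟨r, hr, rfl⟩
    have h1 : IsSMulRegular N r := Module.Flat.isSMulRegular_of_nonZeroDivisors hr
    intro a b hab
    apply h1
    simpa using hab
  exact ⟨ass_eq_ass_loc_of_regular _ hT, ass_eq_image_of_regular _ hT⟩

end Groth.Agent.S9638
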