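import Groth.Statements.S9640
import Groth.Agent.Lib.Helper14.LocAnn
import Mathlib
-- import your own Groth.Agent.* helpers here

set_option autoImplicit false
universe u
open CAlg

namespace Groth.Agent.S9640

open Helper14 in
/-- Primes weakly associated to `N` are disjoint from a multiplicative set acting regularly. -/
theorem disjoint_of_mem_weakAss_of_regular {S : Type u} [CommRing S] (T : Submonoid S)
    {N : Type u} [AddCommGroup N] [Module S N] (hT : ∀ t ∈ T, IsSMulRegular N t)
    {p : Ideal S} (hp : p ∈ FlatCA.weakAss S N) : Disjoint (T : Set S) (p : Set S) := by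
  obtain ⟨m, hm⟩ := hp
  have hpp : p.IsPrime := hm.1.1
  rw [Set.disjoint_left]
  intro t htT htp
  obtain ⟨s, hs, n, hn⟩ := exists_mul_pow_mem_of_mem_minimalPrimes hm htp
  change s * t ^ n ∈ annElt S m at hn
  rw [mem_annElt, mul_comm, mul_smul] at hn
  have h1 : s • m = 0 := by
    apply (hT _ (T.pow_mem htT n))
    simpa using hn
  exact hs (hm.1.2 (mem_annElt.2 h1))

open Helper14 in
theorem weakAss_eq_image_of_regular {S : Type u} [CommRing S] (T : Submonoid S)
    {N : Type u} [AddCommGroup N] [Module S N] (hT : ∀ t ∈ T, IsSMulRegular N t) :
    FlatCA.weakAss S N = Ideal.comap (algebraMap S (Localization T)) ''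
      FlatCA.weakAss (Localization T) (LocalizedModule T N) := by
  ext p
  constructor
  · intro hp
    have hpp : p.IsPrime := isPrime_of_mem_weakAss hp
    have hd := disjoint_of_mem_weakAss_of_regular T hT hp
    refine ⟨Ideal.map (algebraMap S (Localization T)) p, (weakAss_loc_iff T p hd).1 hp, ?_⟩
    exact IsLocalization.under_map_of_isPrime_disjoint T (Localization T) hpp hd
  · rintro ⟨q, hq, rfl⟩
    have hqp : q.IsPrime := isPrime_of_mem_weakAss hq
    have hd : Disjoint (T : Set S) (Ideal.comap (algebraMap S (Localization T)) q : Set S) :=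
      ((IsLocalization.isPrime_iff_isPrime_disjoint T (Localization T) q).1 hqp).2
    rw [weakAss_loc_iff T _ hd, IsLocalization.map_comap T (Localization T) q]
    exact hq

/-- Let R → S be a ring map with R a domain with fraction field K and N an S-module flat over R. Writing
T for the image in S of the nonzero elements of R, so that T⁻¹S = S ⊗_R K and T⁻¹N = N ⊗_R K, the
primes of S weakly associated to N are exactly the inverse images in S of the primes of T⁻¹S weakly
associated to T⁻¹N. -/
theorem result {R S : Type u} [CommRing R] [IsDomain R] [CommRing S] [Algebra R S] (N : Type u) [AddCommGroup N] [Module S N] [Module R N] [IsScalarTower R S N] [Module.Flat R N] :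
    FlatCA.weakAss S N = Ideal.comap (algebraMap S (Localization (Algebra.algebraMapSubmonoid S (nonZeroDivisors R)))) '' FlatCA.weakAss (Localization (Algebra.algebraMapSubmonoid S (nonZeroDivisors R))) (LocalizedModule (Algebra.algebraMapSubmonoid S (nonZeroDivisors R)) N) := by
  apply weakAss_eq_image_of_regular
  rintro _ ⟨r, hr, rfl⟩
  have h1 : IsSMulRegular N r := Module.Flat.isSMulRegular_of_nonZeroDivisors hr
  intro a b hab
  apply h1
  simpa using hab

end Groth.Agent.S9640
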