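import Groth.Statements.S9641
import Mathlib.RingTheory.Flat.Basic
import Mathlib.LinearAlgebra.Basis.VectorSpace
import Mathlib.LinearAlgebra.TensorProduct.Finiteness
import Mathlib.RingTheory.Flat.Stability
-- import your own Groth.Agent.* helpers here

set_option autoImplicit false
universe u
open CAlg

namespace Groth.Agent.S9641

open TensorProduct in
/-- Let k be a field and R, S two k-algebras. If R ⊗_k S is not reduced then there are finitely
generated k-subalgebras R' ⊆ R and S' ⊆ S such that R' ⊗_k S' is not reduced. -/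
theorem result {k R S : Type u} [Field k] [CommRing R] [CommRing S] [Algebra k R] [Algebra k S] (h : ¬ IsReduced (R ⊗[k] S)) :
    ∃ (R' : Subalgebra k R) (S' : Subalgebra k S), R'.FG ∧ S'.FG ∧ ¬ IsReduced (R' ⊗[k] S') := by
  classical
  have hex : ∃ z : R ⊗[k] S, IsNilpotent z ∧ z ≠ 0 := by
    by_contra hcon
    push Not at hcon
    exact h ⟨fun z hz => hcon z hz⟩
  obtain ⟨z, ⟨n, hn⟩, hz0⟩ := hex
  obtain ⟨T, hT⟩ := TensorProduct.exists_finset z
  let R' : Subalgebra k R := Algebra.adjoin k ((T.image Prod.fst : Finset R) : Set R)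
  let S' : Subalgebra k S := Algebra.adjoin k ((T.image Prod.snd : Finset S) : Set S)
  refine ⟨R', S', ⟨_, rfl⟩, ⟨_, rfl⟩, ?_⟩
  have hmemR : ∀ i ∈ T, i.1 ∈ R' := fun i hi =>
    Algebra.subset_adjoin (Finset.mem_coe.mpr (Finset.mem_image_of_mem Prod.fst hi))
  have hmemS : ∀ i ∈ T, i.2 ∈ S' := fun i hi =>
    Algebra.subset_adjoin (Finset.mem_coe.mpr (Finset.mem_image_of_mem Prod.snd hi))
  let z' : R' ⊗[k] S' :=
    ∑ i ∈ T.attach, (⟨i.1.1, hmemR i.1 i.2⟩ : R') ⊗ₜ[k] (⟨i.1.2, hmemS i.1 i.2⟩ : S')
  let φ : R' ⊗[k] S' →ₐ[k] R ⊗[k] S := Algebra.TensorProduct.map R'.val S'.val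
  have hφz : φ z' = z := by
    rw [hT, map_sum]
    simp only [φ, Algebra.TensorProduct.map_tmul, Subalgebra.coe_val]
    exact Finset.sum_attach T (fun i => i.1 ⊗ₜ[k] i.2)
  haveI : Module.Free k R := Module.Free.of_divisionRing k R
  haveI : Module.Flat k R := Module.Flat.of_free
  haveI : Module.Free k S' := Module.Free.of_divisionRing k S'
  haveI : Module.Flat k S' := Module.Flat.of_free
  have hφinj : Function.Injective φ := by
    have h1 := TensorProduct.map_injective_of_flat_flat (R'.val.toLinearMap) (S'.val.toLinearMap)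
      Subtype.val_injective Subtype.val_injective
    intro x y hxy
    apply h1
    have h2 : ∀ w : R' ⊗[k] S',
        TensorProduct.map (R'.val.toLinearMap) (S'.val.toLinearMap) w = φ w := by
      intro w
      induction w using TensorProduct.induction_on with
      | zero => simp
      | tmul a b => simp [φ]
      | add a b ha hb => rw [map_add, map_add, ha, hb]
    rw [h2, h2, hxy]
  intro hred
  apply hz0
  have h3 : z' ^ n = 0 := hφinj (by rw [map_pow, hφz, hn, map_zero])
  have h4 : z' = 0 := hred.eq_zero _ ⟨n, h3⟩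
  rw [← hφz, h4, map_zero]

end Groth.Agent.S9641
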