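import Groth.Statements.S9642
import Mathlib
-- import your own Groth.Agent.* helpers here

set_option autoImplicit false
universe u
open CAlg

namespace Groth.Agent.S9642

/-- In the general form stated there: let R → S be a ring map inducing an open map Spec(S) → Spec(R),
with Spec(R) irreducible, such that for a dense set of primes p of R the fibre ring κ(p) ⊗_R S has
irreducible spectrum. Then Spec(S) is irreducible. The flat and finitely presented case is the
special case in which the map on spectra is open by fppf-openness. -/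
theorem result {R S : Type u} [CommRing R] [CommRing S] [Algebra R S]
    (hopen : IsOpenMap (PrimeSpectrum.comap (algebraMap R S))) [IrreducibleSpace (PrimeSpectrum R)]
    (D : Set (PrimeSpectrum R)) (hD : Dense D) (hfib : ∀ p ∈ D, IrreducibleSpace (PrimeSpectrum (p.asIdeal.Fiber S))) :
    IrreducibleSpace (PrimeSpectrum S) := by
  have hirr : ∀ p ∈ D, IsIrreducible (PrimeSpectrum.comap (algebraMap R S) ⁻¹' {p}) := by
    intro p hp
    have h1 := hfib p hp
    have h2 : IrreducibleSpace (PrimeSpectrum.comap (algebraMap R S) ⁻¹' {p}) :=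
      (PrimeSpectrum.preimageHomeomorphFiber R S p).irreducibleSpace_iff.2 h1
    exact IsIrreducible.of_subtype
  have hRirr : IsIrreducible (Set.univ : Set (PrimeSpectrum R)) :=
    IrreducibleSpace.isIrreducible_univ _
  -- nonempty
  obtain ⟨p0, hp0⟩ : D.Nonempty := hD.nonempty
  obtain ⟨q0, hq0⟩ := (hirr p0 hp0).nonempty
  have hne : Nonempty (PrimeSpectrum S) := ⟨q0⟩
  refine { toNonempty := hne, isPreirreducible_univ := ?_ }
  intro U V hU hV ⟨x, _, hxU⟩ ⟨y, _, hyV⟩
  have hfU : IsOpen (PrimeSpectrum.comap (algebraMap R S) '' U) := hopen U hU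
  have hfV : IsOpen (PrimeSpectrum.comap (algebraMap R S) '' V) := hopen V hV
  obtain ⟨z, -, hzU, hzV⟩ := hRirr.isPreirreducible _ _ hfU hfV
    ⟨_, trivial, ⟨x, hxU, rfl⟩⟩ ⟨_, trivial, ⟨y, hyV, rfl⟩⟩
  obtain ⟨p, hpUV, hpD⟩ := hD.inter_open_nonempty _ (hfU.inter hfV) ⟨z, hzU, hzV⟩
  obtain ⟨⟨a, haU, hap⟩, ⟨b, hbV, hbp⟩⟩ := hpUV
  obtain ⟨c, hc, hcU, hcV⟩ := (hirr p hpD).isPreirreducible U V hU hV ⟨a, hap, haU⟩ ⟨b, hbp, hbV⟩
  exact ⟨c, trivial, hcU, hcV⟩

end Groth.Agent.S9642
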