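import Groth.Statements.S9643
-- import your own Groth.Agent.* helpers here

set_option autoImplicit false
universe u
open CAlg

namespace Groth.Agent.S9643

theorem supp_quot {R : Type u} [CommRing R] (I : Ideal R) :
    Module.support R (R ⧸ I) = PrimeSpectrum.zeroLocus (I : Set R) := by
  rw [Module.support_of_algebra]
  congr 1
  ext x
  simp [Ideal.Quotient.eq_zero_iff_mem]

theorem supp_filtration {R : Type u} [CommRing R] (M : Type u) [AddCommGroup M] [Module R M]
    {n : ℕ} (N : Fin (n + 1) → Submodule R M) (hN : Monotone N) (h0 : N 0 = ⊥)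
    (p : Fin n → PrimeSpectrum R)
    (hquot : ∀ i : Fin n, Nonempty ((↥(N i.succ) ⧸ Submodule.comap (N i.succ).subtype (N i.castSucc)) ≃ₗ[R] (R ⧸ (p i).asIdeal))) :
    ∀ k : Fin (n + 1), Module.support R (N k) =
      ⋃ i : Fin n, ⋃ (_ : i.castSucc < k), PrimeSpectrum.zeroLocus ((p i).asIdeal : Set R) := by
  intro k
  induction k using Fin.induction with
  | zero =>
    rw [h0]
    rw [Module.support_eq_empty]
    simp
  | succ i ih =>
    have hle : N i.castSucc ≤ N i.succ := hN (Fin.castSucc_lt_succ).le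
    have hex : Function.Exact (Submodule.inclusion hle)
        (Submodule.comap (N i.succ).subtype (N i.castSucc)).mkQ := by
      intro x
      rw [Submodule.mkQ_apply, Submodule.Quotient.mk_eq_zero]
      constructor
      · intro hx
        exact ⟨⟨x.1, hx⟩, rfl⟩
      · rintro ⟨y, rfl⟩
        exact y.2
    rw [Module.support_of_exact hex (Submodule.inclusion_injective hle)
      (Submodule.mkQ_surjective _), ih, (hquot i).some.support_eq, supp_quot]
    ext q
    simp only [Set.mem_union, Set.mem_iUnion, exists_prop]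
    constructor
    · rintro (⟨j, hj, hq⟩ | hq)
      · exact ⟨j, hj.trans Fin.castSucc_lt_succ, hq⟩
      · exact ⟨i, Fin.castSucc_lt_succ, hq⟩
    · rintro ⟨j, hj, hq⟩
      have hji : j ≤ i := by
        rw [Fin.lt_def] at hj
        rw [Fin.le_def]
        simp at hj
        omega
      rcases hji.lt_or_eq with h | h
      · exact Or.inl ⟨j, by simpa using h, hq⟩
      · subst h
        exact Or.inr hq

/-- Let R be a Noetherian ring, M a finite R-module and 0 = M_0 ⊆ M_1 ⊆ ⋯ ⊆ M_n = M a chain of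
submodules whose successive quotients M_i/M_{i-1} are isomorphic to R/p_i for prime ideals p_i. Then
the primes minimal among p_1, …, p_n are exactly the primes minimal in the support of M. -/
theorem result {R : Type u} [CommRing R] [IsNoetherianRing R] (M : Type u) [AddCommGroup M] [Module R M] [Module.Finite R M]
    {n : ℕ} (N : Fin (n + 1) → Submodule R M) (hN : Monotone N) (h0 : N 0 = ⊥) (hlast : N (Fin.last n) = ⊤)
    (p : Fin n → PrimeSpectrum R)
    (hquot : ∀ i : Fin n, Nonempty ((↥(N i.succ) ⧸ Submodule.comap (N i.succ).subtype (N i.castSucc)) ≃ₗ[R] (R ⧸ (p i).asIdeal))) :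
    {q : PrimeSpectrum R | Minimal (fun x => x ∈ Set.range p) q} = {q : PrimeSpectrum R | Minimal (fun x => x ∈ Module.support R M) q} := by
  have hsupp : Module.support R M =
      ⋃ i : Fin n, PrimeSpectrum.zeroLocus ((p i).asIdeal : Set R) := by
    have h1 := supp_filtration M N hN h0 p hquot (Fin.last n)
    rw [hlast] at h1
    rw [← (Submodule.topEquiv (R := R) (M := M)).support_eq, h1]
    ext q
    simp only [Set.mem_iUnion, exists_prop]
    constructor
    · rintro ⟨j, _, hq⟩
      exact ⟨j, hq⟩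
    · rintro ⟨j, hq⟩
      exact ⟨j, Fin.castSucc_lt_last j, hq⟩
  have hmem : ∀ q : PrimeSpectrum R, q ∈ Module.support R M ↔ ∃ i, p i ≤ q := by
    intro q
    rw [hsupp]
    simp only [Set.mem_iUnion, PrimeSpectrum.mem_zeroLocus, SetLike.coe_subset_coe]
    rfl
  ext q
  simp only [Set.mem_setOf_eq]
  constructor
  · rintro ⟨⟨i, rfl⟩, hmin⟩
    refine ⟨(hmem _).2 ⟨i, le_rfl⟩, ?_⟩
    intro q' hq' hle
    obtain ⟨j, hj⟩ := (hmem _).1 hq'
    exact (hmin ⟨j, rfl⟩ (hj.trans hle)).trans hj
  · rintro ⟨hq, hmin⟩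
    obtain ⟨j, hj⟩ := (hmem _).1 hq
    have h1 : q ≤ p j := hmin ((hmem _).2 ⟨j, le_rfl⟩) hj
    have h2 : q = p j := le_antisymm h1 hj
    refine ⟨⟨j, h2.symm⟩, ?_⟩
    rintro _ ⟨i, rfl⟩ hle
    exact hmin ((hmem _).2 ⟨i, le_rfl⟩) hle

end Groth.Agent.S9643
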