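import Groth.Statements.S9644
import Mathlib

set_option autoImplicit false
universe u
open CAlg

namespace Groth.Agent.S9644

section aux
variable (R : Type u) [CommRing R] [IsNoetherianRing R] (M : Type u) [AddCommGroup M] [Module R M]
  [Module.Finite R M]

/-- the submodule of elements killed at all minimal primes of the support -/
def KK : Submodule R M where
  carrier := {x | ∀ p ∈ (Module.annihilator R M).minimalPrimes, ∃ s ∉ p, s • x = 0}
  add_mem' := by
    intro a b ha hb p hp
    obtain ⟨s, hs, hsa⟩ := ha p hp
    obtain ⟨t, ht, htb⟩ := hb p hp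
    haveI := hp.1.1
    refine ⟨s * t, fun h => (Ideal.IsPrime.mem_or_mem this h).elim hs ht, ?_⟩
    rw [smul_add, mul_comm s t, mul_smul, hsa, smul_zero, zero_add, mul_comm t s, mul_smul, htb,
      smul_zero]
  zero_mem' := by
    intro p hp
    haveI := hp.1.1
    exact ⟨1, fun h => this.ne_top ((Ideal.eq_top_iff_one _).mpr h), smul_zero _⟩
  smul_mem' := by
    intro c x hx p hp
    obtain ⟨s, hs, hsx⟩ := hx p hp
    exact ⟨s, hs, by rw [smul_comm, hsx, smul_zero]⟩

theorem mem_KK {x : M} : x ∈ KK R M ↔
    ∀ p ∈ (Module.annihilator R M).minimalPrimes, ∃ s ∉ p, s • x = 0 := Iff.rfl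

/-- Nowhere-density criterion. -/
theorem nd_iff (K' : Submodule R M) :
    (∀ U : Set (PrimeSpectrum R), IsOpen U → U ∩ Module.support R M ⊆
        closure (Module.support R ↥K') → U ∩ Module.support R M = ∅) ↔
      ∀ (p : PrimeSpectrum R), p.asIdeal ∈ (Module.annihilator R M).minimalPrimes →
        p ∉ Module.support R ↥K' := by
  classical
  have hclosed : IsClosed (Module.support R ↥K') := by
    rw [Module.support_eq_zeroLocus]
    exact PrimeSpectrum.isClosed_zeroLocus _
  constructor
  · intro hnd p hp hpK
    have hfin : (Module.annihilator R M).minimalPrimes.Finite :=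
      Ideal.finite_minimalPrimes_of_isNoetherianRing R _
    let T : Set (PrimeSpectrum R) :=
      ⋃ q ∈ {q : Ideal R | q ∈ (Module.annihilator R M).minimalPrimes ∧ q ≠ p.asIdeal},
        PrimeSpectrum.zeroLocus (q : Set R)
    have hT : IsClosed T := by
      apply Set.Finite.isClosed_biUnion
      · exact hfin.subset (fun q hq => hq.1)
      · intro q _
        exact PrimeSpectrum.isClosed_zeroLocus _
    have hpM : p ∈ Module.support R M := by
      rw [Module.support_eq_zeroLocus, PrimeSpectrum.mem_zeroLocus]
      exact hp.1.2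
    have hpT : p ∈ Tᶜ := by
      intro hpT
      simp only [T, Set.mem_iUnion, PrimeSpectrum.mem_zeroLocus, SetLike.coe_subset_coe] at hpT
      obtain ⟨q, ⟨hq, hqp⟩, hle⟩ := hpT
      exact hqp (le_antisymm hle (hp.2 hq.1 hle))
    have hsub : Tᶜ ∩ Module.support R M ⊆ closure (Module.support R ↥K') := by
      rintro q ⟨hqT, hqM⟩
      apply subset_closure
      rw [Module.support_eq_zeroLocus, PrimeSpectrum.mem_zeroLocus] at hqM
      obtain ⟨p', hp', hp'q⟩ := Ideal.exists_minimalPrimes_le hqM
      have hp'p : p' = p.asIdeal := by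
        by_contra hne
        apply hqT
        simp only [T, Set.mem_iUnion, PrimeSpectrum.mem_zeroLocus, SetLike.coe_subset_coe]
        exact ⟨p', ⟨hp', hne⟩, hp'q⟩
      rw [hp'p] at hp'q
      exact Module.mem_support_mono hp'q hpK
    have := hnd Tᶜ hT.isOpen_compl hsub
    exact (Set.eq_empty_iff_forall_notMem.mp this) p ⟨hpT, hpM⟩
  · intro h U hU hsub
    rw [hclosed.closure_eq] at hsub
    rw [Set.eq_empty_iff_forall_notMem]
    rintro q ⟨hqU, hqM⟩
    have hqM' := hqM
    rw [Module.support_eq_zeroLocus, PrimeSpectrum.mem_zeroLocus] at hqM'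
    obtain ⟨p', hp', hp'q⟩ := Ideal.exists_minimalPrimes_le hqM'
    haveI := hp'.1.1
    let p : PrimeSpectrum R := ⟨p', hp'.1.1⟩
    have hspec : p ⤳ q := (PrimeSpectrum.le_iff_specializes p q).mp hp'q
    have hpU : p ∈ U := hspec.mem_open hU hqU
    have hpM : p ∈ Module.support R M := by
      rw [Module.support_eq_zeroLocus, PrimeSpectrum.mem_zeroLocus]
      exact hp'.1.2
    exact h p hp' (hsub ⟨hpU, hpM⟩)

end aux

/-- Let R be a Noetherian ring and M a finite R-module. Among the submodules K' of M whose support is
nowhere dense inside Supp(M) there is a largest one, K. The quotient M' = M/K then satisfies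
Supp(M') = Supp(M), its associated primes are pairwise incomparable (no embedded ones), and whenever
f ∈ R belongs to every embedded associated prime of M the localized map M_f → M'_f is bijective. -/
theorem result {R : Type u} [CommRing R] [IsNoetherianRing R] (M : Type u) [AddCommGroup M] [Module R M] [Module.Finite R M] :
    ∃ K : Submodule R M,
      IsGreatest {K' : Submodule R M | ∀ U : Set (PrimeSpectrum R), IsOpen U → U ∩ Module.support R M ⊆ closure (Module.support R ↥K') → U ∩ Module.support R M = ∅} K ∧
      Module.support R (M ⧸ K) = Module.support R M ∧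
      (∀ p ∈ associatedPrimes R (M ⧸ K), ∀ q ∈ associatedPrimes R (M ⧸ K), p ≤ q → p = q) ∧
      ∀ f : R, (∀ p ∈ associatedPrimes R M, ¬ Minimal (fun x => x ∈ associatedPrimes R M) p → f ∈ p) →
        Function.Bijective (LocalizedModule.map (Submonoid.powers f) K.mkQ) := by
  classical
  refine ⟨KK R M, ⟨?_, ?_⟩, ?_, ?_, ?_⟩
  · -- KK ∈ set
    rw [Set.mem_ofPred_eq, nd_iff R M]
    intro p hp
    rw [Module.notMem_support_iff']
    rintro ⟨x, hx⟩
    obtain ⟨s, hs, hsx⟩ := hx p.asIdeal hp
    exact ⟨s, hs, Subtype.ext hsx⟩
  · -- greatest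
    intro K' hK'
    rw [Set.mem_ofPred_eq, nd_iff R M] at hK'
    intro x hx p hp
    haveI := hp.1.1
    have := hK' ⟨p, hp.1.1⟩ hp
    rw [Module.notMem_support_iff'] at this
    obtain ⟨s, hs, hsx⟩ := this ⟨x, hx⟩
    exact ⟨s, hs, congrArg Subtype.val hsx⟩
  · -- support
    apply Set.Subset.antisymm
    · exact Module.support_subset_of_surjective _ (KK R M).mkQ_surjective
    · intro q hqM
      have hqM' := hqM
      rw [Module.support_eq_zeroLocus, PrimeSpectrum.mem_zeroLocus] at hqM'
      obtain ⟨p', hp', hp'q⟩ := Ideal.exists_minimalPrimes_le hqM'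
      haveI := hp'.1.1
      let p : PrimeSpectrum R := ⟨p', hp'.1.1⟩
      have hpM : p ∈ Module.support R M := by
        rw [Module.support_eq_zeroLocus, PrimeSpectrum.mem_zeroLocus]
        exact hp'.1.2
      have hpQ : p ∈ Module.support R (M ⧸ KK R M) := by
        by_contra hcon
        rw [Module.notMem_support_iff'] at hcon
        rw [Module.mem_support_iff'] at hpM
        obtain ⟨m, hm⟩ := hpM
        obtain ⟨r, hr, hrm⟩ := hcon ((KK R M).mkQ m)
        rw [← map_smul, Submodule.mkQ_apply, Submodule.Quotient.mk_eq_zero] at hrm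
        obtain ⟨s, hs, hsm⟩ := hrm p' hp'
        rw [← mul_smul] at hsm
        exact hm (s * r) (fun h => (Ideal.IsPrime.mem_or_mem ‹_› h).elim hs hr) hsm
      exact Module.mem_support_mono (show p ≤ q from hp'q) hpQ
  · -- associated primes ⊆ minimal primes
    have hsub : ∀ q ∈ associatedPrimes R (M ⧸ KK R M), q ∈ (Module.annihilator R M).minimalPrimes := by
      intro q hq
      obtain ⟨hqprime, mbar, hqeq⟩ := isAssociatedPrime_iff.mp hq
      have hmemq : ∀ r : R, r ∈ q ↔ r • mbar = 0 := fun r => by
        rw [hqeq, Submodule.mem_colon_singleton, Submodule.mem_bot]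
      obtain ⟨m, rfl⟩ := (KK R M).mkQ_surjective mbar
      have hmK : m ∉ KK R M := by
        intro hm
        have : (KK R M).mkQ m = 0 := by
          rw [Submodule.mkQ_apply, Submodule.Quotient.mk_eq_zero]; exact hm
        apply hqprime.ne_top
        rw [Ideal.eq_top_iff_one, hmemq, this, smul_zero]
      rw [mem_KK] at hmK
      push Not at hmK
      obtain ⟨p, hp, hpm⟩ := hmK
      haveI := hp.1.1
      have hqp : q ≤ p := by
        intro r hr
        have hr' : r • (KK R M).mkQ m = 0 := (hmemq r).mp hr
        rw [← map_smul, Submodule.mkQ_apply, Submodule.Quotient.mk_eq_zero] at hr'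
        obtain ⟨s, hs, hsm⟩ := hr' p hp
        rw [← mul_smul] at hsm
        by_contra hrp
        exact hpm (s * r) (fun h => (Ideal.IsPrime.mem_or_mem ‹_› h).elim hs hrp) hsm
      have hannq : Module.annihilator R M ≤ q := by
        intro r hr
        rw [hmemq, ← map_smul, Module.mem_annihilator.mp hr m, map_zero]
      have hpq : p ≤ q := hp.2 ⟨hqprime, hannq⟩ hqp
      rw [le_antisymm hqp hpq]
      exact hp
    intro p hp q hq hpq
    have hp' := hsub p hp
    have hq' := hsub q hq
    exact le_antisymm hpq (hq'.2 hp'.1 hpq)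
  · -- localization
    intro f hf
    have hkill : ∀ x ∈ KK R M, ∃ n : ℕ, f ^ n • x = 0 := by
      intro x hx
      have hrad : f ∈ (Submodule.span R {x}).annihilator.radical := by
        rw [← Ideal.sInf_minimalPrimes, Ideal.mem_sInf]
        intro q hq
        have hqass : q ∈ associatedPrimes R (Submodule.span R {x}) :=
          Module.associatedPrimes.minimalPrimes_annihilator_subset_associatedPrimes R _ hq
        have hqM : q ∈ associatedPrimes R M :=
          associatedPrimes.subset_of_injective (Submodule.subtype_injective _) hqass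
        apply hf q hqM
        intro hmin
        -- q minimal in Ass M ⟹ q ∈ Min
        haveI := hq.1.1
        have hannq : Module.annihilator R M ≤ q := by
          refine le_trans ?_ hq.1.2
          intro r hr
          rw [Submodule.mem_annihilator_span_singleton]
          exact Module.mem_annihilator.mp hr x
        obtain ⟨p, hp, hpq⟩ := Ideal.exists_minimalPrimes_le hannq
        have hpass : p ∈ associatedPrimes R M :=
          Module.associatedPrimes.minimalPrimes_annihilator_subset_associatedPrimes R M hp
        have hqp : q ≤ p := hmin.2 hpass hpq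
        have hqeq : q = p := le_antisymm hqp hpq
        obtain ⟨s, hs, hsx⟩ := hx p hp
        apply hs
        rw [← hqeq]
        apply hq.1.2
        rw [Submodule.mem_annihilator_span_singleton]
        exact hsx
      obtain ⟨n, hn⟩ := hrad
      rw [Submodule.mem_annihilator_span_singleton] at hn
      exact ⟨n, hn⟩
    constructor
    · rw [injective_iff_map_eq_zero]
      intro y hy
      induction y using LocalizedModule.induction_on with
      | h m s =>
        rw [LocalizedModule.map_mk, ← LocalizedModule.zero_mk (1 : Submonoid.powers f),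
          LocalizedModule.mk_eq] at hy
        obtain ⟨u, hu⟩ := hy
        rw [smul_zero, smul_zero, one_smul] at hu
        have hu' : (u : R) • (KK R M).mkQ m = 0 := hu
        rw [← map_smul, Submodule.mkQ_apply, Submodule.Quotient.mk_eq_zero] at hu'
        obtain ⟨n, hn⟩ := hkill _ hu'
        rw [← LocalizedModule.zero_mk (1 : Submonoid.powers f), LocalizedModule.mk_eq]
        refine ⟨⟨f ^ n, n, rfl⟩ * u, ?_⟩
        rw [smul_zero, smul_zero, one_smul]
        change (f ^ n * (u : R)) • m = 0
        rw [mul_smul]
        exact hn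
    · exact LocalizedModule.map_surjective _ _ (KK R M).mkQ_surjective

end Groth.Agent.S9644
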