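import Groth.Statements.S9645
import Mathlib.RingTheory.Localization.Integral
-- import your own Groth.Agent.* helpers here

set_option autoImplicit false
universe u
open CAlg

namespace Groth.Agent.S9645

/-- Integral closure commutes with localization. Let A → B be a ring map, S a multiplicative subset of
A, and A_S, B_S the localizations of A at S and of B at the image of S. Then an element x of B_S is
integral over A_S if and only if x·s = b for some s ∈ S and some b ∈ B integral over A (images taken
in B_S); that is, the integral closure of A_S in B_S is S⁻¹B' for B' the integral closure of A in B. -/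
theorem result {A B As Bs : Type u} [CommRing A] [CommRing B] [CommRing As] [CommRing Bs] [Algebra A B] [Algebra A As] [Algebra B Bs] [Algebra As Bs] [Algebra A Bs] [IsScalarTower A B Bs] [IsScalarTower A As Bs]
    (S : Submonoid A) [IsLocalization S As] [IsLocalization (Algebra.algebraMapSubmonoid B S) Bs] (x : Bs) :
    IsIntegral As x ↔ ∃ b : B, IsIntegral A b ∧ ∃ s ∈ S, x * algebraMap A Bs s = algebraMap B Bs b := by
  constructor
  · intro hx
    obtain ⟨m, hm⟩ := IsIntegral.exists_multiple_integral_of_isLocalization S x hx
    obtain ⟨b₀, t₀, hxt⟩ := IsLocalization.exists_mk'_eq (Algebra.algebraMapSubmonoid B S) x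
    obtain ⟨t, htS, ht⟩ := t₀.2
    have h1 : x * algebraMap A Bs t = algebraMap B Bs b₀ := by
      rw [← hxt, IsScalarTower.algebraMap_apply A B Bs, ht]
      exact IsLocalization.mk'_spec _ _ _
    have h2 : IsIntegral A (algebraMap B Bs ((m : A) • b₀)) := by
      have h3 : algebraMap B Bs ((m : A) • b₀) = algebraMap A Bs t * (m • x) := by
        rw [Algebra.smul_def, map_mul, ← h1, ← IsScalarTower.algebraMap_apply A B Bs,
          Submonoid.smul_def, Algebra.smul_def]
        ring
      rw [h3]
      exact IsIntegral.mul isIntegral_algebraMap hm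
    obtain ⟨m', hm'S, hm'⟩ := IsLocalization.exists_isIntegral_smul_of_isIntegral_map S h2
    refine ⟨m' • (m : A) • b₀, hm', m' * m * t, S.mul_mem (S.mul_mem hm'S m.2) htS, ?_⟩
    rw [Algebra.smul_def, Algebra.smul_def, map_mul (algebraMap B Bs), map_mul (algebraMap B Bs),
      ← h1, ← IsScalarTower.algebraMap_apply A B Bs, ← IsScalarTower.algebraMap_apply A B Bs,
      map_mul, map_mul]
    ring
  · rintro ⟨b, hb, s, hs, hxs⟩
    have hu : IsUnit (algebraMap A As s) := IsLocalization.map_units As ⟨s, hs⟩
    have h1 : x = algebraMap B Bs b * algebraMap As Bs (↑hu.unit⁻¹ : As) := by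
      rw [← hxs, IsScalarTower.algebraMap_apply A As Bs, mul_assoc, ← map_mul,
        IsUnit.mul_val_inv, map_one, mul_one]
    rw [h1]
    refine IsIntegral.mul ?_ isIntegral_algebraMap
    have h2 : IsIntegral A (algebraMap B Bs b) := hb.map (IsScalarTower.toAlgHom A B Bs)
    exact h2.tower_top

end Groth.Agent.S9645
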