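import Groth.Statements.S9646
import Mathlib.RingTheory.Localization.Integral
-- import your own Groth.Agent.* helpers here

set_option autoImplicit false
universe u
open CAlg

namespace Groth.Agent.S9646

/-- (2) ⇒ (1): let R → S be a ring map and x ∈ S. If for every prime ideal p of R the image of x in S_p
(the localization of S at the image of R ∖ p) is integral over R_p, then x is integral over R. Here
R_p and S_p are any rings satisfying the localization universal properties. -/
theorem result {R S : Type u} [CommRing R] [CommRing S] [Algebra R S] (x : S)
    (h : ∀ (p : Ideal R) [p.IsPrime] (Rp Sp : Type u) [CommRing Rp] [CommRing Sp] [Algebra R Rp] [Algebra S Sp] [Algebra Rp Sp] [Algebra R Sp] [IsScalarTower R S Sp] [IsScalarTower R Rp Sp] [IsLocalization.AtPrime Rp p] [IsLocalization (Algebra.algebraMapSubmonoid S p.primeCompl) Sp], IsIntegral Rp (algebraMap S Sp x)) :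
    IsIntegral R x := by
  let J : Ideal R :=
    { carrier := {r | IsIntegral R (r • x)}
      add_mem' := by
        intro a b ha hb
        change IsIntegral R ((a + b) • x)
        rw [add_smul]
        exact IsIntegral.add ha hb
      zero_mem' := by
        change IsIntegral R ((0 : R) • x)
        rw [zero_smul]
        exact isIntegral_zero
      smul_mem' := by
        intro c a ha
        change IsIntegral R ((c • a) • x)
        rw [smul_assoc]
        exact IsIntegral.smul c ha }
  have hJ : J = ⊤ := by
    by_contra hne
    obtain ⟨p, hp, hJp⟩ := Ideal.exists_le_maximal J hne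
    haveI : p.IsPrime := hp.isPrime
    have h1 := h p (Localization.AtPrime p)
      (Localization (Algebra.algebraMapSubmonoid S p.primeCompl))
    obtain ⟨m, hm⟩ := IsIntegral.exists_multiple_integral_of_isLocalization p.primeCompl _ h1
    have h2 : IsIntegral R (algebraMap S
        (Localization (Algebra.algebraMapSubmonoid S p.primeCompl)) ((m : R) • x)) := by
      have h3 : algebraMap S (Localization (Algebra.algebraMapSubmonoid S p.primeCompl))
          ((m : R) • x) = m • algebraMap S
            (Localization (Algebra.algebraMapSubmonoid S p.primeCompl)) x := by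
        rw [Submonoid.smul_def, Algebra.smul_def, Algebra.smul_def, map_mul,
          ← IsScalarTower.algebraMap_apply R S]
      rw [h3]
      exact hm
    obtain ⟨m', hm'p, hm'⟩ :=
      IsLocalization.exists_isIntegral_smul_of_isIntegral_map p.primeCompl h2
    have h4 : m' * (m : R) ∈ J := by
      change IsIntegral R ((m' * (m : R)) • x)
      rw [mul_smul]
      exact hm'
    have h5 : m' * (m : R) ∈ p := hJp h4
    rcases Ideal.IsPrime.mem_or_mem inferInstance h5 with h6 | h6
    · exact hm'p h6
    · exact m.2 h6
  have h7 : (1 : R) ∈ J := hJ ▸ Submodule.mem_top
  have h8 : IsIntegral R ((1 : R) • x) := h7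
  rwa [one_smul] at h8

end Groth.Agent.S9646
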