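import Groth.Statements.S9664
import Groth.Agent.Lib.Helper14.FiberMod
import Mathlib
-- import your own Groth.Agent.* helpers here

set_option autoImplicit false
universe u
open CAlg

namespace Groth.Agent.S9664

open TensorProduct

attribute [local instance] Algebra.TensorProduct.rightAlgebra

open Helper14 in
theorem aux {R S : Type u} [CommRing R] [CommRing S] [Algebra R S] (N : Type u) [AddCommGroup N]
    [Module S N]
    (p : Ideal R) [p.IsPrime] (q : Ideal S) [q.IsPrime] :
    q ∈ FlatCA.ass S ((p.Fiber S) ⊗[S] N) ↔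
      ∃ Q ∈ FlatCA.ass (p.Fiber S) ((p.Fiber S) ⊗[S] N),
        Q.comap (Algebra.TensorProduct.includeRight (R := R) (A := p.ResidueField)
          (B := S)).toRingHom = q := by
  have hcomap : ∀ x : (p.Fiber S) ⊗[S] N,
      (annElt (p.Fiber S) x).comap (Algebra.TensorProduct.includeRight (R := R)
        (A := p.ResidueField) (B := S)).toRingHom = annElt S x := by
    intro x
    ext s
    rw [Ideal.mem_comap, mem_annElt, mem_annElt, ← algebraMap_smul (p.Fiber S) s x]
    rfl
  constructor
  · rintro ⟨hq, x, hx⟩
    change q = annElt S x at hx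
    refine ⟨annElt (p.Fiber S) x, ⟨?_, x, rfl⟩, (hcomap x).trans hx.symm⟩
    have hx0 : x ≠ 0 := by
      intro h0
      apply hq.ne_top
      rw [hx, h0]
      exact annElt_eq_top_iff.2 rfl
    refine ⟨annElt_ne_top hx0, ?_⟩
    intro b₁ b₂ hb
    rw [mem_annElt] at hb
    obtain ⟨r₁, hr₁, s₁, hs₁⟩ := Ideal.Fiber.exists_smul_eq_one_tmul p b₁
    obtain ⟨r₂, hr₂, s₂, hs₂⟩ := Ideal.Fiber.exists_smul_eq_one_tmul p b₂
    have hkey : ∀ (r : R) (b : p.Fiber S) (y : (p.Fiber S) ⊗[S] N),
        (r • b) • y = (algebraMap R S r) • (b • y) := by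
      intro r b y
      rw [← algebraMap_smul (p.Fiber S) (algebraMap R S r) (b • y), smul_smul,
        ← IsScalarTower.algebraMap_apply, ← Algebra.smul_def]
    have h1 : (s₁ * s₂) • x = 0 := by
      have : ((1 : p.ResidueField) ⊗ₜ[R] (s₁ * s₂) : p.Fiber S) = (r₁ • b₁) * (r₂ • b₂) := by
        rw [hs₁, hs₂, Algebra.TensorProduct.tmul_mul_tmul, one_mul]
      rw [← algebraMap_smul (p.Fiber S) (s₁ * s₂) x,
        Algebra.TensorProduct.right_algebraMap_apply, this, smul_mul_assoc, mul_smul_comm,
        hkey, hkey, hb, smul_zero, smul_zero]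
    have h2 : s₁ * s₂ ∈ q := by rw [hx, mem_annElt]; exact h1
    rcases hq.mem_or_mem h2 with h3 | h3
    · left
      rw [mem_annElt]
      rw [hx, mem_annElt, ← algebraMap_smul (p.Fiber S) s₁ x,
        Algebra.TensorProduct.right_algebraMap_apply, ← hs₁, hkey] at h3
      exact eq_zero_of_smul_eq_zero_aux p N hr₁ _ h3
    · right
      rw [mem_annElt]
      rw [hx, mem_annElt, ← algebraMap_smul (p.Fiber S) s₂ x,
        Algebra.TensorProduct.right_algebraMap_apply, ← hs₂, hkey] at h3
      exact eq_zero_of_smul_eq_zero_aux p N hr₂ _ h3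
  · rintro ⟨Q, ⟨hQ, x, hx⟩, rfl⟩
    change Q = annElt (p.Fiber S) x at hx
    refine ⟨inferInstance, x, ?_⟩
    change _ = annElt S x
    rw [hx, hcomap]

/-- Let R → S be a ring map, N an S-module, q a prime of S and p the prime of R below q; an associated
prime of a module is a prime ideal equal to the annihilator of some element. Then q is an associated
prime of the S-module N ⊗_R κ(p) (the fibre module of N over p, an S-module by restriction of
scalars along S → S ⊗_R κ(p)) if and only if q is the inverse image in S of an associated prime of N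
⊗_R κ(p) regarded as a module over the fibre ring S ⊗_R κ(p). -/
theorem result {R S : Type u} [CommRing R] [CommRing S] [Algebra R S] (N : Type u) [AddCommGroup N] [Module S N] [Module R N] [IsScalarTower R S N]
    (p : Ideal R) [p.IsPrime] (q : Ideal S) [q.IsPrime] (hq : q.comap (algebraMap R S) = p) :
    q ∈ FlatCA.ass S (FlatCA.fiberMod p S N) ↔
      ∃ Q ∈ FlatCA.ass (p.Fiber S) (FlatCA.fiberMod p S N),
        Q.comap (Algebra.TensorProduct.includeRight (R := R) (A := p.ResidueField) (B := S)).toRingHom = q := by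
  exact aux N p q

end Groth.Agent.S9664
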