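import Groth.Statements.S9669
import Groth.Agent.Lib.Helper14.FiberMod
import Mathlib
-- import your own Groth.Agent.* helpers here

set_option autoImplicit false
universe u
open CAlg

namespace Groth.Agent.S9669

/-- Part (4): (A = A_fin = A'_fin): let R → S be a ring map, N an S-module flat over R and p a prime of
R; an associated prime of a module is a prime ideal equal to the annihilator of some element. Then
the set of associated primes of the S-module N/pN equals the set of associated primes of the
S-module N ⊗_R κ(p) (the fibre module over p, an S-module by restriction of scalars), and every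
prime in this set lies over p. -/
theorem result {R S : Type u} [CommRing R] [CommRing S] [Algebra R S] (N : Type u) [AddCommGroup N] [Module S N] [Module R N] [IsScalarTower R S N] [Module.Flat R N] (p : Ideal R) [p.IsPrime] :
    FlatCA.ass S (N ⧸ (p.map (algebraMap R S)) • (⊤ : Submodule S N)) = FlatCA.ass S (FlatCA.fiberMod p S N) ∧
      ∀ q ∈ FlatCA.ass S (N ⧸ (p.map (algebraMap R S)) • (⊤ : Submodule S N)), q.comap (algebraMap R S) = p := by
  have hone : (1 : R) ∉ p := fun h1 => ‹p.IsPrime›.ne_top ((Ideal.eq_top_iff_one p).2 h1)
  have hann : ∀ n : N, Helper14.annElt S (FlatCA.toFiberMod p S N n) =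
      Helper14.annElt S (Submodule.Quotient.mk
        (p := ((p.map (algebraMap R S)) • ⊤ : Submodule S N)) n) := by
    intro n
    ext s
    rw [Helper14.mem_annElt_toFiberMod, Helper14.mem_annElt_mk]
    constructor
    · rintro ⟨r, hr, h⟩
      rw [mul_smul] at h
      exact Helper14.mem_of_smul_mem_of_flat p N hr h
    · intro h
      exact ⟨1, hone, by rw [map_one, one_mul]; exact h⟩
  refine ⟨?_, ?_⟩
  · ext q
    constructor
    · rintro ⟨hqp, x, hx⟩
      obtain ⟨n, rfl⟩ := Submodule.Quotient.mk_surjective _ x
      refine ⟨hqp, FlatCA.toFiberMod p S N n, ?_⟩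
      change q = Helper14.annElt S _
      rw [hann]
      exact hx
    · rintro ⟨hqp, x', hx'⟩
      change q = Helper14.annElt S x' at hx'
      obtain ⟨r₀, hr₀, n₀, hn₀⟩ := Helper14.exists_smul_eq_toFiberMod p N x'
      have hq0 : q = Helper14.annElt S (FlatCA.toFiberMod p S N n₀) := by
        rw [hx']
        ext s
        rw [Helper14.mem_annElt, Helper14.mem_annElt, ← hn₀, smul_comm]
        constructor
        · intro h0; rw [h0, smul_zero]
        · intro h0; exact Helper14.eq_zero_of_smul_fiberMod_eq_zero p N hr₀ _ h0
      refine ⟨hqp, Submodule.Quotient.mk n₀, ?_⟩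
      change q = Helper14.annElt S _
      rw [← hann]
      exact hq0
  · rintro q ⟨hqp, x, hx⟩
    obtain ⟨n, rfl⟩ := Submodule.Quotient.mk_surjective _ x
    change q = Helper14.annElt S _ at hx
    apply le_antisymm
    · intro r hr
      by_contra hrp
      rw [Ideal.mem_comap, hx, Helper14.mem_annElt_mk] at hr
      have h1 := Helper14.mem_of_smul_mem_of_flat p N hrp hr
      apply hqp.ne_top
      rw [hx, Helper14.annElt_eq_top_iff]
      exact (Submodule.Quotient.mk_eq_zero _).2 h1
    · intro r hr
      rw [Ideal.mem_comap, hx, Helper14.mem_annElt_mk]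
      exact Submodule.smul_mem_smul (Ideal.mem_map_of_mem _ hr) Submodule.mem_top

end Groth.Agent.S9669
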