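import Groth.Statements.S9648
import Groth.Agent.Lib.Helper14.FiberMod
import Groth.Agent.S9664
import Groth.Agent.S9669
import Mathlib
-- import your own Groth.Agent.* helpers here

set_option autoImplicit false
universe u
open CAlg

namespace Groth.Agent.S9648

open TensorProduct in
/-- The inclusion, valid for any ring R: let R → S be a ring map, M an R-module and N an S-module which
is flat over R. For an associated prime p of M (a prime equal to the annihilator of an element) and
an associated prime Q of the fibre module N ⊗_R κ(p) over the fibre ring S ⊗_R κ(p), the inverse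
image of Q in S is an associated prime of N ⊗_R M. -/
theorem result {R S : Type u} [CommRing R] [CommRing S] [Algebra R S] (M : Type u) [AddCommGroup M] [Module R M] (N : Type u) [AddCommGroup N] [Module S N] [Module R N] [IsScalarTower R S N] [Module.Flat R N]
    (p : Ideal R) [p.IsPrime] (hp : p ∈ FlatCA.ass R M) (Q : Ideal (p.Fiber S)) (hQ : Q ∈ FlatCA.ass (p.Fiber S) (FlatCA.fiberMod p S N)) :
    Q.comap (Algebra.TensorProduct.includeRight (R := R) (A := p.ResidueField) (B := S)).toRingHom ∈ FlatCA.ass S (N ⊗[R] M) := by
  have hqprime : (Q.comap (Algebra.TensorProduct.includeRight (R := R) (A := p.ResidueField)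
      (B := S)).toRingHom).IsPrime := by
    have : Q.IsPrime := hQ.1
    exact Ideal.comap_isPrime _ _
  have h1 : Q.comap (Algebra.TensorProduct.includeRight (R := R) (A := p.ResidueField)
      (B := S)).toRingHom ∈ FlatCA.ass S (FlatCA.fiberMod p S N) :=
    (Groth.Agent.S9664.aux N p _).2 ⟨Q, hQ, rfl⟩
  rw [← (Groth.Agent.S9669.result N p).1] at h1
  obtain ⟨_, x, hx⟩ := h1
  obtain ⟨n, rfl⟩ := Submodule.Quotient.mk_surjective _ x
  obtain ⟨_, m, hm⟩ := hp
  refine ⟨hqprime, n ⊗ₜ[R] m, ?_⟩
  rw [hx]
  ext s
  rw [Submodule.mem_annihilator_span_singleton, Submodule.mem_annihilator_span_singleton,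
    TensorProduct.smul_tmul', Helper14.tmul_eq_zero_iff_of_flat p m hm,
    ← Submodule.Quotient.mk_smul, Submodule.Quotient.mk_eq_zero, Helper14.mem_map_smul_top_iff]

end Groth.Agent.S9648
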