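import Groth.Statements.S9650
import Mathlib.FieldTheory.PrimitiveElement
import Mathlib.FieldTheory.IntermediateField.Adjoin.Basic
-- import your own Groth.Agent.* helpers here

set_option autoImplicit false
universe u
open CAlg

namespace Groth.Agent.S9650

/-- Let K/k be a finitely generated field extension that is separably generated, i.e. admits a
transcendence basis over whose generated subfield K is separable algebraic. Then K is generated over
k by finitely many elements x_1, …, x_r, y such that the x_i form a transcendence basis of K/k and y
is separable over the subfield k(x_1, …, x_r). -/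
theorem result {k K : Type u} [Field k] [Field K] [Algebra k K]
    (hfg : ∃ s : Finset K, IntermediateField.adjoin k (s : Set K) = ⊤)
    (hsep : ∃ (ι : Type u) (x : ι → K), IsTranscendenceBasis k x ∧ Algebra.IsSeparable (IntermediateField.adjoin k (Set.range x)) K) :
    ∃ (r : ℕ) (x : Fin r → K) (y : K), IsTranscendenceBasis k x ∧ IntermediateField.adjoin k (insert y (Set.range x)) = ⊤ ∧ IsSeparable (IntermediateField.adjoin k (Set.range x)) y := by
  classical
  obtain ⟨s, hs⟩ := hfg
  obtain ⟨ι, x, hx, hsepx⟩ := hsep
  -- K is algebraic over the k-subalgebra generated by s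
  have halg : Algebra.IsAlgebraic (Algebra.adjoin k (s : Set K)) K := by
    constructor
    intro z
    have hz : z ∈ IntermediateField.adjoin k (s : Set K) := by rw [hs]; trivial
    obtain ⟨a, ha, b, hb, rfl⟩ := IntermediateField.mem_adjoin_iff_div.mp hz
    have h1 : IsAlgebraic (Algebra.adjoin k (s : Set K)) a :=
      isAlgebraic_algebraMap (⟨a, ha⟩ : Algebra.adjoin k (s : Set K))
    have h2 : IsAlgebraic (Algebra.adjoin k (s : Set K)) b :=
      isAlgebraic_algebraMap (⟨b, hb⟩ : Algebra.adjoin k (s : Set K))
    rw [div_eq_mul_inv]
    exact h1.mul h2.inv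
  have hfin : Finite ι := by
    have h1 := Algebra.IsAlgebraic.trdeg_le_cardinalMk k (A := K) (s : Set K)
    rw [← hx.cardinalMk_eq_trdeg] at h1
    have h2 : Cardinal.mk (s : Set K) < Cardinal.aleph0 := by
      rw [Cardinal.lt_aleph0_iff_finite]
      exact s.finite_toSet
    exact Cardinal.lt_aleph0_iff_finite.mp (lt_of_le_of_lt h1 h2)
  let e : ι ≃ Fin (Nat.card ι) := Finite.equivFin ι
  have hrange : Set.range (x ∘ e.symm) = Set.range x := EquivLike.range_comp x e.symm
  have hx' : IsTranscendenceBasis k (x ∘ e.symm) := hx.comp_equiv e.symm
  have hsep' : Algebra.IsSeparable (IntermediateField.adjoin k (Set.range (x ∘ e.symm))) K := by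
    rw [hrange]; exact hsepx
  set L := IntermediateField.adjoin k (Set.range (x ∘ e.symm)) with hL
  have htop : IntermediateField.adjoin L (s : Set K) = ⊤ := by
    rw [eq_top_iff]
    intro z _
    have hz : z ∈ IntermediateField.adjoin k (s : Set K) := by rw [hs]; trivial
    have hle : IntermediateField.adjoin k (s : Set K) ≤
        (IntermediateField.adjoin L (s : Set K)).restrictScalars k := by
      rw [IntermediateField.adjoin_le_iff]
      intro w hw
      exact IntermediateField.subset_adjoin L _ hw
    exact hle hz
  have hfd : FiniteDimensional L K := by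
    have h1 : FiniteDimensional L (IntermediateField.adjoin L (s : Set K)) :=
      IntermediateField.finiteDimensional_adjoin
        (fun z _ => (Algebra.IsSeparable.isSeparable L z).isIntegral)
    rw [htop] at h1
    exact (IntermediateField.topEquiv (F := L) (E := K)).toLinearEquiv.finiteDimensional
  obtain ⟨y, hy⟩ := Field.exists_primitive_element L K
  refine ⟨Nat.card ι, x ∘ e.symm, y, hx', ?_, Algebra.IsSeparable.isSeparable L y⟩
  have h3 := IntermediateField.adjoin_adjoin_left k (Set.range (x ∘ e.symm)) ({y} : Set K)
  rw [Set.union_singleton] at h3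
  rw [← h3, hy]
  rfl

end Groth.Agent.S9650
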