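import Groth.Statements.S9652
import Mathlib
import Groth.Agent.Lib.Helper14.JacobsonImage
-- import your own Groth.Agent.* helpers here

set_option autoImplicit false
universe u
open CAlg

namespace Groth.Agent.S9652

/-- Let R and S be Jacobson rings, R → S a ring map of finite type with induced map f : Spec(S) →
Spec(R), and E ⊆ Spec(S) a constructible subset. Writing T₀ for the set of points of a subspace T
which are closed in T, one has f(E)₀ = f(E₀) = (Spec R)₀ ∩ f(E). -/
theorem result {R S : Type u} [CommRing R] [CommRing S] [Algebra R S] [IsJacobsonRing R] [IsJacobsonRing S] [Algebra.FiniteType R S]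
    (E : Set (PrimeSpectrum S)) (hE : Topology.IsConstructible E) :
    {x | x ∈ PrimeSpectrum.comap (algebraMap R S) '' E ∧ closure {x} ∩ PrimeSpectrum.comap (algebraMap R S) '' E = {x}} =
        PrimeSpectrum.comap (algebraMap R S) '' {y | y ∈ E ∧ closure {y} ∩ E = {y}} ∧
      PrimeSpectrum.comap (algebraMap R S) '' {y | y ∈ E ∧ closure {y} ∩ E = {y}} =
        {x | IsClosed ({x} : Set (PrimeSpectrum R))} ∩ PrimeSpectrum.comap (algebraMap R S) '' E := by
  classical
  have hsub1 : ∀ y, y ∈ E → closure {y} ∩ E = {y} →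
      IsClosed ({PrimeSpectrum.comap (algebraMap R S) y} : Set (PrimeSpectrum R)) := by
    intro y hyE hy
    exact Groth.Agent.Helper14.JacobsonImage.isClosed_comap y
      ((Groth.Agent.Helper14.JacobsonImage.closed_in_iff E hE y hyE).mp hy)
  constructor
  · ext x
    constructor
    · rintro ⟨hx, hxcl⟩
      exact Groth.Agent.Helper14.JacobsonImage.mem_image_closed_of_isClosed E hE x hx
        (Groth.Agent.Helper14.JacobsonImage.isClosed_of_closed_in_image E hE x hx hxcl)
    · rintro ⟨y, ⟨hyE, hy⟩, rfl⟩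
      refine ⟨⟨y, hyE, rfl⟩, ?_⟩
      rw [(hsub1 y hyE hy).closure_eq]
      exact Set.inter_eq_left.mpr (Set.singleton_subset_iff.mpr ⟨y, hyE, rfl⟩)
  · ext x
    constructor
    · rintro ⟨y, ⟨hyE, hy⟩, rfl⟩
      exact ⟨hsub1 y hyE hy, ⟨y, hyE, rfl⟩⟩
    · rintro ⟨hxc, hx⟩
      exact Groth.Agent.Helper14.JacobsonImage.mem_image_closed_of_isClosed E hE x hx hxc

end Groth.Agent.S9652
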