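import Groth.Statements.S9653
import Mathlib
import Groth.Agent.Lib.Helper14.JacobsonImage
-- import your own Groth.Agent.* helpers here

set_option autoImplicit false
universe u
open CAlg

namespace Groth.Agent.S9653

/-- Let R and S be Jacobson rings, R → S a ring map of finite type with induced map f : Spec(S) →
Spec(R), E ⊆ Spec(S) constructible and E₀ the set of points of E closed in E. Then a point ξ of
Spec(R) lies in f(E) if and only if cl{ξ} ∩ f(E₀) is dense in the closure cl{ξ}. -/
theorem result {R S : Type u} [CommRing R] [CommRing S] [Algebra R S] [IsJacobsonRing R] [IsJacobsonRing S] [Algebra.FiniteType R S]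
    (E : Set (PrimeSpectrum S)) (hE : Topology.IsConstructible E) (ξ : PrimeSpectrum R) :
    ξ ∈ PrimeSpectrum.comap (algebraMap R S) '' E ↔
      closure ({ξ} : Set (PrimeSpectrum R)) ⊆ closure (closure {ξ} ∩ PrimeSpectrum.comap (algebraMap R S) '' {y | y ∈ E ∧ closure {y} ∩ E = {y}}) := by
  classical
  constructor
  · intro hξ
    obtain ⟨U, hU, hdense, hsub⟩ := Groth.Agent.S9651.result E hE ξ hξ
    have hZ : IsLocallyClosed (U ∩ closure {ξ}) :=
      hU.isLocallyClosed.inter isClosed_closure.isLocallyClosed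
    refine hdense.trans ?_
    rw [← JacobsonSpace.closure_inter_closedPoints_eq_closure hZ]
    apply closure_mono
    rintro z ⟨hz1, hz2⟩
    exact ⟨hz1.2, Groth.Agent.Helper14.JacobsonImage.mem_image_closed_of_isClosed E hE z
      (hsub hz1) hz2⟩
  · intro h
    obtain ⟨D, rfl⟩ := PrimeSpectrum.exists_constructibleSetData_iff.mpr hE
    -- reduce to a single basic constructible piece
    have h1 : closure {ξ} ∩ PrimeSpectrum.comap (algebraMap R S) ''
        {y | y ∈ D.toSet ∧ closure {y} ∩ D.toSet = {y}} ⊆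
        ⋃ C ∈ D, (closure {ξ} ∩ PrimeSpectrum.comap (algebraMap R S) '' C.toSet) := by
      rintro x ⟨hx1, y, ⟨hy, -⟩, rfl⟩
      simp only [PrimeSpectrum.ConstructibleSetData.toSet, Set.mem_iUnion, exists_prop] at hy
      obtain ⟨C, hCD, hyC⟩ := hy
      simp only [Set.mem_iUnion, exists_prop]
      exact ⟨C, hCD, hx1, y, hyC, rfl⟩
    have h2 : ξ ∈ closure (⋃ C ∈ D, (closure {ξ} ∩ PrimeSpectrum.comap (algebraMap R S) '' C.toSet)) :=
      closure_mono h1 (h (subset_closure rfl))
    rw [Finset.closure_biUnion] at h2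
    simp only [Set.mem_iUnion, exists_prop] at h2
    obtain ⟨C, hCD, hC⟩ := h2
    rw [mem_closure_iff] at hC
    -- the disjointness argument
    let M : Submonoid S := Submonoid.powers C.f ⊔ ξ.asIdeal.primeCompl.map (algebraMap R S)
    let I₀ : Ideal S := Ideal.span (Set.range C.g) ⊔ ξ.asIdeal.map (algebraMap R S)
    have hdisj : Disjoint (I₀ : Set S) M := by
      rw [Set.disjoint_left]
      rintro s hsI hsM
      obtain ⟨_, ⟨n, rfl⟩, _, ⟨a, ha, rfl⟩, rfl⟩ := Submonoid.mem_sup.mp hsM
      obtain ⟨x, hxa, hxcl, Q, hQC, rfl⟩ := hC (PrimeSpectrum.basicOpen a)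
        (PrimeSpectrum.basicOpen a).isOpen ha
      rw [PrimeSpectrum.closure_singleton, PrimeSpectrum.mem_zeroLocus] at hxcl
      obtain ⟨hQg, hQf⟩ := hQC
      have hI₀Q : I₀ ≤ Q.asIdeal := by
        refine sup_le ?_ ?_
        · rw [Ideal.span_le]; exact hQg
        · rw [Ideal.map_le_iff_le_comap]; exact hxcl
      have hmem : C.f ^ n * algebraMap R S a ∈ Q.asIdeal := hI₀Q hsI
      rcases Q.2.mem_or_mem hmem with h' | h'
      · apply hQf
        rw [PrimeSpectrum.mem_zeroLocus, Set.singleton_subset_iff]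
        exact Q.2.mem_of_pow_mem n h'
      · exact hxa h'
    obtain ⟨Q, hQ, hI₀Q, hQM⟩ := Ideal.exists_le_prime_disjoint I₀ M hdisj
    rw [Set.disjoint_left] at hQM
    refine ⟨⟨Q, hQ⟩, ?_, ?_⟩
    · simp only [PrimeSpectrum.ConstructibleSetData.toSet, Set.mem_iUnion, exists_prop]
      refine ⟨C, hCD, ?_, ?_⟩
      · rw [PrimeSpectrum.mem_zeroLocus]
        intro z hz
        exact hI₀Q (Ideal.mem_sup_left (Ideal.subset_span hz))
      · intro h'
        rw [PrimeSpectrum.mem_zeroLocus, Set.singleton_subset_iff] at h'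
        exact hQM h' (Submonoid.mem_sup_left (Submonoid.mem_powers _))
    · apply PrimeSpectrum.ext
      change Q.comap (algebraMap R S) = ξ.asIdeal
      apply le_antisymm
      · intro a ha
        by_contra hna
        exact hQM ha (Submonoid.mem_sup_right ⟨a, hna, rfl⟩)
      · rw [← Ideal.map_le_iff_le_comap]
        exact le_sup_right.trans hI₀Q

end Groth.Agent.S9653
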