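import Groth.Statements.S9654
import Mathlib

set_option autoImplicit false
universe u
open CAlg

namespace Groth.Agent.S9654

theorem isIntegral_of_mul_mem {R A : Type*} [CommRing R] [CommRing A] [Algebra R A]
    (N : Submodule R A) (h1 : (1 : A) ∈ N) (hN' : N.FG) (x : A)
    (hx : ∀ n ∈ N, x * n ∈ N) : IsIntegral R x := by
  let A' : Subalgebra R A :=
    { carrier := { x | ∀ n ∈ N, x * n ∈ N }
      mul_mem' := fun {a b} ha hb n hn => by rw [mul_assoc]; exact ha _ (hb _ hn)
      one_mem' := fun n hn => by rw [one_mul]; exact hn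
      add_mem' := fun {a b} ha hb n hn => by rw [add_mul]; exact N.add_mem (ha _ hn) (hb _ hn)
      zero_mem' := fun n _hn => by rw [zero_mul]; exact N.zero_mem
      algebraMap_mem' := fun r n hn => by rw [← Algebra.smul_def]; exact N.smul_mem r hn }
  let f : A' →ₐ[R] Module.End R N :=
    AlgHom.ofLinearMap
      { toFun := fun x => (LinearMap.mulLeft R (x : A)).restrict x.prop
        map_add' := by intro x y; ext; simp [add_mul]
        map_smul' := by intro r s; ext; simp }
      (by ext; simp)
      (by intro x y; ext; simp)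
  have : Function.Injective f := by
    rw [injective_iff_map_eq_zero]
    intro s hs
    have : s.1 * 1 = 0 := congr_arg Subtype.val (LinearMap.congr_fun hs ⟨1, h1⟩)
    exact Subtype.ext (by simpa using this)
  change IsIntegral R (A'.val ⟨x, hx⟩)
  rw [isIntegral_algHom_iff A'.val Subtype.val_injective, ← isIntegral_algHom_iff (B := Module.End R ↥N) f this]
  have : Module.Finite R N := by rwa [Module.Finite.iff_fg]
  apply Algebra.IsIntegral.isIntegral

theorem pow_mul_pow_of_mul_eq_one {T : Type*} [CommRing T] {a b : T} (hab : a * b = 1)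
    (i j : ℕ) : a ^ i * b ^ j = if j ≤ i then a ^ (i - j) else b ^ (j - i) := by
  split_ifs with h
  · obtain ⟨k, rfl⟩ := Nat.exists_eq_add_of_le h
    rw [Nat.add_sub_cancel_left, pow_add, mul_comm (a ^ j), mul_assoc, ← mul_pow, hab, one_pow,
      mul_one]
  · obtain ⟨k, rfl⟩ := Nat.exists_eq_add_of_le (not_le.mp h).le
    rw [Nat.add_sub_cancel_left, pow_add, ← mul_assoc, ← mul_pow, hab, one_pow, one_mul]

theorem integral_of_mem_inf {R T : Type*} [CommRing R] [CommRing T] [Algebra R T] {a b : T}
    (hab : a * b = 1) (z : T) (hza : z ∈ Algebra.adjoin R {a}) (hzb : z ∈ Algebra.adjoin R {b}) :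
    IsIntegral R z := by
  rw [Algebra.adjoin_singleton_eq_range_aeval] at hza hzb
  obtain ⟨f, hf⟩ := hza
  obtain ⟨g, hg⟩ := hzb
  have hf' : Polynomial.aeval a f = z := hf
  have hg' : Polynomial.aeval b g = z := hg
  let Wa : Submodule R T :=
    Submodule.span R (Set.range fun i : Fin (f.natDegree + 1) => a ^ (i : ℕ))
  let Wb : Submodule R T :=
    Submodule.span R (Set.range fun j : Fin (g.natDegree + 1) => b ^ (j : ℕ))
  have hWa : ∀ k, k ≤ f.natDegree → a ^ k ∈ Wa ⊔ Wb := fun k hk =>
    Submodule.mem_sup_left (Submodule.subset_span ⟨⟨k, Nat.lt_succ_of_le hk⟩, rfl⟩)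
  have hWb : ∀ k, k ≤ g.natDegree → b ^ k ∈ Wa ⊔ Wb := fun k hk =>
    Submodule.mem_sup_right (Submodule.subset_span ⟨⟨k, Nat.lt_succ_of_le hk⟩, rfl⟩)
  have hmix : ∀ i j, i ≤ f.natDegree → j ≤ g.natDegree → a ^ i * b ^ j ∈ Wa ⊔ Wb := by
    intro i j hi hj
    rw [pow_mul_pow_of_mul_eq_one hab]
    split_ifs with h
    · exact hWa _ (by omega)
    · exact hWb _ (by omega)
  refine isIntegral_of_mul_mem (Wa ⊔ Wb) ?_ ?_ z ?_
  · simpa using hWa 0 (Nat.zero_le _)
  · exact (Submodule.fg_span (Set.finite_range _)).sup (Submodule.fg_span (Set.finite_range _))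
  · intro w hw
    have h1 : Wa ≤ (Wa ⊔ Wb).comap (LinearMap.mulLeft R z) := by
      refine Submodule.span_le.mpr ?_
      rintro _ ⟨i, rfl⟩
      show z * a ^ (i : ℕ) ∈ Wa ⊔ Wb
      rw [← hg', Polynomial.aeval_eq_sum_range, Finset.sum_mul]
      refine Submodule.sum_mem _ fun j hj => ?_
      rw [smul_mul_assoc, mul_comm (b ^ j)]
      exact Submodule.smul_mem _ _ (hmix _ _ (Nat.le_of_lt_succ i.2)
        (Nat.le_of_lt_succ (Finset.mem_range.mp hj)))
    have h2 : Wb ≤ (Wa ⊔ Wb).comap (LinearMap.mulLeft R z) := by
      refine Submodule.span_le.mpr ?_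
      rintro _ ⟨j, rfl⟩
      show z * b ^ (j : ℕ) ∈ Wa ⊔ Wb
      rw [← hf', Polynomial.aeval_eq_sum_range, Finset.sum_mul]
      refine Submodule.sum_mem _ fun i hi => ?_
      rw [smul_mul_assoc]
      exact Submodule.smul_mem _ _ (hmix _ _ (Nat.le_of_lt_succ (Finset.mem_range.mp hi))
        (Nat.le_of_lt_succ j.2))
    exact (sup_le h1 h2) hw

theorem mem_range_of_integral {R : Type*} [CommRing R] {T : Type*} [CommRing T] [Algebra R T]
    (u v w : R) (hw : w = u * v) [IsLocalization.Away w T] (hv : v ∈ nonZeroDivisors R)
    (hint : IsIntegrallyClosedIn R (Localization.Away u)) (t : T)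
    (ht : algebraMap R T w * t = 1)
    (z : T) (hz : z ∈ Algebra.adjoin R {algebraMap R T (v * v) * t}) (hzi : IsIntegral R z) :
    z ∈ Set.range (algebraMap R T) := by
  subst hw
  have huv : IsUnit (algebraMap R T (u * v)) := IsLocalization.Away.algebraMap_isUnit (u * v)
  have hu : IsUnit (algebraMap R T u) := by
    rw [map_mul] at huv
    exact isUnit_of_mul_isUnit_left huv
  have hu' : IsUnit (Algebra.ofId R T u) := hu
  let j : Localization.Away u →ₐ[R] T :=
    IsLocalization.Away.liftAlgHom (S := Localization.Away u) (f := Algebra.ofId R T) u hu'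
  have hj0 : ∀ r : R, j (algebraMap R (Localization.Away u) r) = algebraMap R T r :=
    fun r => j.commutes r
  have hunitU : ∀ k : ℕ, IsUnit (algebraMap R (Localization.Away u) u ^ k) :=
    fun k => IsLocalization.Away.algebraMap_pow_isUnit u k
  have hinj : Function.Injective j := by
    rw [injective_iff_map_eq_zero]
    intro s hs
    obtain ⟨n, r, hr⟩ := IsLocalization.Away.surj u s
    have h1 : algebraMap R T r = 0 := by
      rw [← hj0 r, ← hr, map_mul, hs, zero_mul]
    obtain ⟨⟨_, k, rfl⟩, hk⟩ :=
      (IsLocalization.map_eq_zero_iff (Submonoid.powers (u * v)) T r).mp h1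
    have hk' : (u * v) ^ k * r = 0 := hk
    have h2 : u ^ k * r = 0 := by
      have h3 : v ^ k * (u ^ k * r) = 0 := by
        rw [← hk', mul_pow]; ring
      exact (mul_left_mem_nonZeroDivisors_eq_zero_iff (pow_mem hv k)).mp h3
    have h4 : algebraMap R (Localization.Away u) r = 0 := by
      have h5 : algebraMap R (Localization.Away u) u ^ k *
          algebraMap R (Localization.Away u) r = 0 := by
        rw [← map_pow, ← map_mul, h2, map_zero]
      exact (hunitU k).mul_right_eq_zero.mp h5
    rw [h4] at hr
    exact (hunitU n).mul_left_eq_zero.mp hr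
  -- the element
  set p : T := j (IsLocalization.Away.invSelf u) with hp
  have hup : algebraMap R T u * p = 1 := by
    rw [hp, ← hj0 u, ← map_mul, IsLocalization.Away.mul_invSelf, map_one]
  have hc : algebraMap R T (v * v) * t =
      j (algebraMap R (Localization.Away u) v * IsLocalization.Away.invSelf u) := by
    rw [map_mul j, hj0, ← hp]
    simp only [map_mul] at ht ⊢
    linear_combination (algebraMap R T v * p) * ht - (algebraMap R T v * algebraMap R T v * t) * hup
  rw [hc, Algebra.adjoin_singleton_eq_range_aeval] at hz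
  obtain ⟨g, hg⟩ := hz
  have hg' : Polynomial.aeval
      (j (algebraMap R (Localization.Away u) v * IsLocalization.Away.invSelf u)) g = z := hg
  rw [Polynomial.aeval_algHom_apply] at hg'
  rw [← hg'] at hzi
  have hzi' := (isIntegral_algHom_iff j hinj).mp hzi
  obtain ⟨r, hr⟩ := (IsIntegralClosure.isIntegral_iff (A := R)).mp hzi'
  exact ⟨r, by rw [← hg', ← hr, hj0]⟩


/-- Let R be a ring and x, y ∈ R nonzerodivisors. In the localization R_{xy} let a = x/y and b = y/x,
and let R[a], R[b], R[a, b] be the R-subalgebras they generate. If R is integrally closed in R_x or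
in R_y, then the sequence 0 → R → R[a] ⊕ R[b] → R[a, b] → 0 (difference map, then sum map) is short
exact; equivalently R[a] ∩ R[b] is the image of R and R[a] + R[b] = R[a, b] inside R_{xy}. -/
theorem result {R : Type u} [CommRing R] (x y : R) (hx : x ∈ nonZeroDivisors R) (hy : y ∈ nonZeroDivisors R)
    (hint : IsIntegrallyClosedIn R (Localization.Away x) ∨ IsIntegrallyClosedIn R (Localization.Away y)) :
    (Algebra.adjoin R {algebraMap R (Localization.Away (x * y)) (x * x) * IsLocalization.Away.invSelf (x * y)}).toSubmodule ⊓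
        (Algebra.adjoin R {algebraMap R (Localization.Away (x * y)) (y * y) * IsLocalization.Away.invSelf (x * y)}).toSubmodule =
        (⊥ : Subalgebra R (Localization.Away (x * y))).toSubmodule ∧
      (Algebra.adjoin R {algebraMap R (Localization.Away (x * y)) (x * x) * IsLocalization.Away.invSelf (x * y)}).toSubmodule ⊔
        (Algebra.adjoin R {algebraMap R (Localization.Away (x * y)) (y * y) * IsLocalization.Away.invSelf (x * y)}).toSubmodule =
        (Algebra.adjoin R {algebraMap R (Localization.Away (x * y)) (x * x) * IsLocalization.Away.invSelf (x * y), algebraMap R (Localization.Away (x * y)) (y * y) * IsLocalization.Away.invSelf (x * y)}).toSubmodule := by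
  have ht : algebraMap R (Localization.Away (x * y)) (x * y) *
      IsLocalization.Away.invSelf (x * y) = 1 :=
    IsLocalization.Away.mul_invSelf (S := Localization.Away (x * y)) (x * y)
  generalize (IsLocalization.Away.invSelf (x * y) : Localization.Away (x * y)) = t at ht ⊢
  have hab : (algebraMap R (Localization.Away (x * y)) (x * x) * t) *
      (algebraMap R (Localization.Away (x * y)) (y * y) * t) = 1 := by
    simp only [map_mul] at ht ⊢
    linear_combination (algebraMap R (Localization.Away (x * y)) x *
      algebraMap R (Localization.Away (x * y)) y * t + 1) * ht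
  generalize ha : algebraMap R (Localization.Away (x * y)) (x * x) * t = a at hab ⊢
  generalize hb : algebraMap R (Localization.Away (x * y)) (y * y) * t = b at hab ⊢
  constructor
  · apply le_antisymm
    · intro z hz
      obtain ⟨hza, hzb⟩ := Submodule.mem_inf.mp hz
      have hza' : z ∈ Algebra.adjoin R {a} := hza
      have hzb' : z ∈ Algebra.adjoin R {b} := hzb
      have hzi : IsIntegral R z := integral_of_mem_inf hab z hza' hzb'
      have : z ∈ Set.range (algebraMap R (Localization.Away (x * y))) := by
        rcases hint with hint | hint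
        · refine mem_range_of_integral x y (x * y) rfl hy hint t ht z ?_ hzi
          rw [hb]; exact hzb'
        · refine mem_range_of_integral y x (x * y) (mul_comm x y) hx hint t ht z ?_ hzi
          rw [ha]; exact hza'
      obtain ⟨r, rfl⟩ := this
      exact Subalgebra.algebraMap_mem _ r
    · intro z hz
      obtain ⟨r, rfl⟩ := Algebra.mem_bot.mp hz
      exact Submodule.mem_inf.mpr
        ⟨Subalgebra.algebraMap_mem _ r, Subalgebra.algebraMap_mem _ r⟩
  · have hins : ({a, b} : Set (Localization.Away (x * y))) = {a} ∪ {b} := by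
      rw [Set.singleton_union]
    rw [hins, Algebra.adjoin_union_coe_submodule]
    apply le_antisymm
    · refine sup_le ?_ ?_
      · intro z hz
        have := Submodule.mul_mem_mul hz
          (show (1 : Localization.Away (x * y)) ∈ Subalgebra.toSubmodule (Algebra.adjoin R {b})
            from Subalgebra.one_mem (Algebra.adjoin R {b}))
        rwa [mul_one] at this
      · intro z hz
        have := Submodule.mul_mem_mul
          (show (1 : Localization.Away (x * y)) ∈ Subalgebra.toSubmodule (Algebra.adjoin R {a})
            from Subalgebra.one_mem (Algebra.adjoin R {a})) hz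
        rwa [one_mul] at this
    · rw [Submodule.mul_le]
      intro m hm n hn
      have hm' : m ∈ Algebra.adjoin R {a} := hm
      have hn' : n ∈ Algebra.adjoin R {b} := hn
      rw [Algebra.adjoin_singleton_eq_range_aeval] at hm' hn'
      obtain ⟨f, hf⟩ := hm'
      obtain ⟨g, hg⟩ := hn'
      have hf' : Polynomial.aeval a f = m := hf
      have hg' : Polynomial.aeval b g = n := hg
      rw [← hf', ← hg', Polynomial.aeval_eq_sum_range, Polynomial.aeval_eq_sum_range,
        Finset.sum_mul_sum]
      refine Submodule.sum_mem _ fun i _ => Submodule.sum_mem _ fun j _ => ?_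
      rw [smul_mul_smul_comm]
      refine Submodule.smul_mem _ _ ?_
      rw [pow_mul_pow_of_mul_eq_one hab]
      split_ifs with h
      · exact Submodule.mem_sup_left
          (Subalgebra.pow_mem _ (Algebra.self_mem_adjoin_singleton R a) _)
      · exact Submodule.mem_sup_right
          (Subalgebra.pow_mem _ (Algebra.self_mem_adjoin_singleton R b) _)

end Groth.Agent.S9654
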