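import Groth.Statements.S9655
import Mathlib.RingTheory.Valuation.LocalSubring
import Mathlib.RingTheory.LocalRing.ResidueField.Basic
-- import your own Groth.Agent.* helpers here

set_option autoImplicit false
universe u
open CAlg

namespace Groth.Agent.S9655

/-- Let R and S be local rings and R → S a ring map, not necessarily local, that is essentially of
finite type. Then for some n there is a maximal ideal m of the polynomial ring R[x_1, …, x_n] lying
over the maximal ideal of R, together with an R-algebra map φ : R[x_1, …, x_n]_m → S making S a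
localization of the image of φ; thus S arises from R[x_1, …, x_n]_m by passing to a quotient and
then localizing. -/
theorem result {R S : Type u} [CommRing R] [CommRing S] [Algebra R S] [IsLocalRing R] [IsLocalRing S] [Algebra.EssFiniteType R S] :
    ∃ (n : ℕ) (m : Ideal (MvPolynomial (Fin n) R)) (_ : m.IsMaximal), m.under R = IsLocalRing.maximalIdeal R ∧
      ∃ (φ : Localization.AtPrime m →ₐ[R] S) (T : Submonoid φ.range), IsLocalization T S := by
  classical
  obtain ⟨σ, hσ⟩ := (Algebra.essFiniteType_iff (R := R) (S := S)).mp inferInstance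
  let ρ : S →+* IsLocalRing.ResidueField S := IsLocalRing.residue S
  obtain ⟨V, hV, hloc⟩ := IsLocalRing.exists_factor_valuationRing (ρ.comp (algebraMap R S))
  let n := σ.card
  let e : Fin n ≃ σ := σ.equivFin.symm
  let d : Fin n → S := fun i => if ρ (e i : S) ∈ V then (e i : S) else Ring.inverse (e i : S)
  have hd : ∀ i, ρ (d i) ∈ V := by
    intro i
    by_cases h : ρ (e i : S) ∈ V
    · simp only [d, if_pos h]; exact h
    · simp only [d, if_neg h]
      have hne : ρ (e i : S) ≠ 0 := fun h0 => h (h0 ▸ V.zero_mem)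
      have hu : IsUnit (e i : S) := (IsLocalRing.residue_ne_zero_iff_isUnit _).mp hne
      have : ρ (Ring.inverse (e i : S)) = (ρ (e i : S))⁻¹ := by
        obtain ⟨u, hu'⟩ := hu
        rw [← hu', Ring.inverse_unit]
        have h1 : ρ (↑u⁻¹ : S) * ρ (u : S) = 1 := by rw [← map_mul]; simp
        exact eq_inv_of_mul_eq_one_left h1
      rw [this]
      exact (V.mem_or_inv_mem _).resolve_left h
  let φ₀ : MvPolynomial (Fin n) R →ₐ[R] S := MvPolynomial.aeval d
  have hφ₀ : ∀ p, ρ (φ₀ p) ∈ V := by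
    intro p
    induction p using MvPolynomial.induction_on with
    | C r => simpa [φ₀] using hV r
    | add p q hp hq => rw [map_add, map_add]; exact V.add_mem _ _ hp hq
    | mul_X p i hp =>
      rw [map_mul, map_mul]
      refine V.mul_mem _ _ hp ?_
      simpa [φ₀] using hd i
  haveI : IsLocalRing V.toSubring := V.isLocalRing
  let ψ : MvPolynomial (Fin n) R →+* V.toSubring := (ρ.comp φ₀.toRingHom).codRestrict V.toSubring hφ₀
  let m₀ : Ideal (MvPolynomial (Fin n) R) := (IsLocalRing.maximalIdeal V.toSubring).comap ψ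
  have hm₀ : m₀ ≠ ⊤ := Ideal.comap_ne_top _ (IsLocalRing.maximalIdeal.isMaximal _).ne_top
  obtain ⟨m, hm, hm₀m⟩ := Ideal.exists_le_maximal m₀ hm₀
  have hCm : ∀ r ∈ IsLocalRing.maximalIdeal R, (MvPolynomial.C r : MvPolynomial (Fin n) R) ∈ m₀ := by
    intro r hr
    change ψ (MvPolynomial.C r) ∈ IsLocalRing.maximalIdeal V.toSubring
    rw [IsLocalRing.mem_maximalIdeal, mem_nonunits_iff]
    intro hu
    have h2 : ψ (MvPolynomial.C r) = (ρ.comp (algebraMap R S)).codRestrict V.toSubring hV r := by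
      apply Subtype.ext
      simp [ψ, φ₀]
    rw [h2] at hu
    exact hr (hloc.map_nonunit r hu)
  have hunit : ∀ p : m.primeCompl, IsUnit (φ₀ p) := by
    intro p
    have hp : (p : MvPolynomial (Fin n) R) ∉ m₀ := fun h => p.2 (hm₀m h)
    apply (IsLocalRing.residue_ne_zero_iff_isUnit _).mp
    intro h0
    apply hp
    change ψ p ∈ IsLocalRing.maximalIdeal V.toSubring
    have : ψ p = 0 := Subtype.ext h0
    rw [this]; exact Ideal.zero_mem _
  refine ⟨n, m, hm, ?_, ?_⟩
  · refine le_antisymm (IsLocalRing.le_maximalIdeal (Ideal.comap_ne_top _ hm.ne_top)) ?_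
    intro r hr
    exact hm₀m (hCm r hr)
  let φ : Localization.AtPrime m →ₐ[R] S := IsLocalization.liftAlgHom (M := m.primeCompl) (f := φ₀) hunit
  have hφ : ∀ p, φ (algebraMap _ _ p) = φ₀ p := fun p => IsLocalization.lift_eq _ _
  refine ⟨φ, (IsUnit.submonoid S).comap (algebraMap φ.range S), ?_⟩
  -- fractions
  have hF : ∀ z ∈ Algebra.adjoin R (σ : Set S), ∃ a b : S, a ∈ φ.range ∧ b ∈ φ.range ∧ IsUnit b ∧ z * b = a := by
    intro z hz
    induction hz using Algebra.adjoin_induction with
    | mem z hz =>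
      set i := e.symm ⟨z, hz⟩ with hi
      have hei : (e i : S) = z := by simp [hi]
      have hdi : d i ∈ φ.range := (AlgHom.mem_range φ).mpr ⟨algebraMap _ _ (MvPolynomial.X i), (hφ _).trans (by simp [φ₀])⟩
      by_cases h : ρ (e i : S) ∈ V
      · refine ⟨z, 1, ?_, one_mem _, isUnit_one, mul_one _⟩
        have : d i = z := by simp only [d, if_pos h]; exact hei
        rw [← this]; exact hdi
      · have hne : ρ (e i : S) ≠ 0 := fun h0 => h (h0 ▸ V.zero_mem)
        have hu : IsUnit (e i : S) := (IsLocalRing.residue_ne_zero_iff_isUnit _).mp hne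
        have hdi' : d i = Ring.inverse z := by simp only [d, if_neg h]; rw [hei]
        rw [hei] at hu
        refine ⟨1, d i, one_mem _, hdi, ?_, ?_⟩
        · rw [hdi']; obtain ⟨u, rfl⟩ := hu; rw [Ring.inverse_unit]; exact u⁻¹.isUnit
        · rw [hdi']; exact Ring.mul_inverse_cancel _ hu
    | algebraMap r => exact ⟨algebraMap R S r, 1, Subalgebra.algebraMap_mem _ r, one_mem _, isUnit_one, mul_one _⟩
    | add x y _ _ hx hy =>
      obtain ⟨a1, b1, ha1, hb1, hu1, h1⟩ := hx
      obtain ⟨a2, b2, ha2, hb2, hu2, h2⟩ := hy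
      refine ⟨a1 * b2 + a2 * b1, b1 * b2, add_mem (mul_mem ha1 hb2) (mul_mem ha2 hb1), mul_mem hb1 hb2, hu1.mul hu2, ?_⟩
      rw [← h1, ← h2]; ring
    | mul x y _ _ hx hy =>
      obtain ⟨a1, b1, ha1, hb1, hu1, h1⟩ := hx
      obtain ⟨a2, b2, ha2, hb2, hu2, h2⟩ := hy
      refine ⟨a1 * a2, b1 * b2, mul_mem ha1 ha2, mul_mem hb1 hb2, hu1.mul hu2, ?_⟩
      rw [← h1, ← h2]; ring
  constructor
  constructor
  · rintro ⟨y, hy⟩; exact hy
  · intro z
    obtain ⟨t, ht, htu, hzt⟩ := hσ z
    obtain ⟨a1, b1, ha1, hb1, hu1, h1⟩ := hF _ hzt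
    obtain ⟨a2, b2, ha2, hb2, hu2, h2⟩ := hF _ ht
    have hua2 : IsUnit a2 := h2 ▸ htu.mul hu2
    refine ⟨⟨⟨a1 * b2, mul_mem ha1 hb2⟩, ⟨⟨b1 * a2, mul_mem hb1 ha2⟩, hu1.mul hua2⟩⟩, ?_⟩
    change z * (b1 * a2) = a1 * b2
    rw [← h1, ← h2]; ring
  · intro x y hxy
    exact ⟨1, by simpa using Subtype.ext hxy⟩

end Groth.Agent.S9655
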