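import Groth.Statements.S9656
import Mathlib.Algebra.Polynomial.Degree.Lemmas
import Mathlib.Algebra.Polynomial.Degree.Operations
-- import your own Groth.Agent.* helpers here

set_option autoImplicit false
universe u
open CAlg

namespace Groth.Agent.S9656

/-- Let R_i → S_i be ring maps indexed by a finite type ι, with product map R = Π R_i → S = Π S_i. Then
an element (s_i) of S is integral over R exactly when s_i is integral over R_i for every i; so
integral closure in a finite product is computed factor by factor. -/
theorem result {ι : Type u} [Fintype ι] {R S : ι → Type u} [∀ i, CommRing (R i)] [∀ i, CommRing (S i)] (f : ∀ i, R i →+* S i) (s : ∀ i, S i) :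
    (RingHom.pi fun i => (f i).comp (Pi.evalRingHom R i)).IsIntegralElem s ↔ ∀ i, (f i).IsIntegralElem (s i) := by
  classical
  constructor
  · rintro ⟨P, hPm, hP⟩ i
    refine ⟨P.map (Pi.evalRingHom R i), hPm.map _, ?_⟩
    rw [Polynomial.eval₂_map]
    have h1 := congrArg (Pi.evalRingHom S i) hP
    rw [Polynomial.hom_eval₂, map_zero] at h1
    exact h1
  · intro h
    choose P hPm hP using h
    let N : ℕ := ∑ i, (P i).natDegree
    have hdN : ∀ i, (P i).natDegree ≤ N := fun i =>
      Finset.single_le_sum (f := fun i => (P i).natDegree) (fun _ _ => Nat.zero_le _)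
        (Finset.mem_univ i)
    let P' : ∀ i, Polynomial (R i) := fun i => P i * Polynomial.X ^ (N - (P i).natDegree)
    have hP'deg : ∀ i, ∀ k, N < k → (P' i).coeff k = 0 := by
      intro i k hk
      have h2 : (P' i).natDegree ≤ N := by
        refine (Polynomial.natDegree_mul_le).trans ?_
        have h3 := Polynomial.natDegree_X_pow_le (R := R i) (N - (P i).natDegree)
        have h4 := hdN i
        omega
      exact Polynomial.coeff_eq_zero_of_natDegree_lt (lt_of_le_of_lt h2 hk)
    have hP'N : ∀ i, (P' i).coeff N = 1 := by
      intro i
      change (P i * Polynomial.X ^ (N - (P i).natDegree)).coeff N = 1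
      rw [Polynomial.coeff_mul_X_pow', if_pos (Nat.sub_le _ _),
        Nat.sub_sub_self (hdN i)]
      exact hPm i
    have hP'0 : ∀ i, Polynomial.eval₂ (f i) (s i) (P' i) = 0 := by
      intro i
      change Polynomial.eval₂ (f i) (s i) (P i * Polynomial.X ^ (N - (P i).natDegree)) = 0
      rw [Polynomial.eval₂_mul, hP i, zero_mul]
    let Q : Polynomial (∀ i, R i) :=
      ∑ k ∈ Finset.range (N + 1), Polynomial.monomial k (fun i => (P' i).coeff k)
    have hQc : ∀ k, Q.coeff k = fun i => (P' i).coeff k := by
      intro k
      change (∑ j ∈ Finset.range (N + 1),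
        Polynomial.monomial j (fun i => (P' i).coeff j)).coeff k = _
      rw [Polynomial.finset_sum_coeff]
      simp only [Polynomial.coeff_monomial]
      rw [Finset.sum_ite_eq' (Finset.range (N + 1)) k]
      split_ifs with hk
      · rfl
      · funext i
        have : N < k := by
          rw [Finset.mem_range] at hk
          omega
        rw [hP'deg i k this]
        rfl
    have hQmap : ∀ i, Q.map (Pi.evalRingHom R i) = P' i := by
      intro i
      ext k
      rw [Polynomial.coeff_map, hQc]
      rfl
    refine ⟨Q, ?_, ?_⟩
    · apply Polynomial.monic_of_natDegree_le_of_coeff_eq_one N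
      · rw [Polynomial.natDegree_le_iff_coeff_eq_zero]
        intro k hk
        rw [hQc]
        funext i
        exact hP'deg i k hk
      · rw [hQc]
        funext i
        exact hP'N i
    · funext i
      have h5 : (Pi.evalRingHom S i) (Polynomial.eval₂
          (RingHom.pi fun i => (f i).comp (Pi.evalRingHom R i)) s Q) =
          Polynomial.eval₂ (f i) (s i) (Q.map (Pi.evalRingHom R i)) := by
        rw [Polynomial.hom_eval₂, Polynomial.eval₂_map]
        rfl
      rw [hQmap, hP'0] at h5
      exact h5

end Groth.Agent.S9656
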