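import Groth.Statements.S9658
import Mathlib.RingTheory.Ideal.Basic
import Mathlib.RingTheory.Ideal.Operations
import Mathlib.Algebra.Module.BigOperators
import Mathlib.RingTheory.Ideal.Maximal
import Mathlib.Tactic.Ring
-- import your own Groth.Agent.* helpers here

set_option autoImplicit false
universe u
open CAlg

namespace Groth.Agent.S9658

/-- Let R be a ring, f_1, …, f_n ∈ R generating the unit ideal and M an R-module. With M_i = M_{f_i},
M_ij = M_{f_i f_j} (any localizations, with the canonical compatible maps M → M_i → M_ij), the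
sequence 0 → M → ⊕ M_i → ⊕ M_ij is exact: an element of M whose image vanishes in every M_i is zero,
and every family (m_i ∈ M_i) such that m_i and m_j have the same image in M_ij for all i, j is the
image of an element of M. -/
theorem result {R : Type u} [CommRing R] {ι : Type u} [Fintype ι] (f : ι → R) (hf : Ideal.span (Set.range f) = ⊤)
    (M : Type u) [AddCommGroup M] [Module R M]
    (Mi : ι → Type u) [∀ i, AddCommGroup (Mi i)] [∀ i, Module R (Mi i)] (g : ∀ i, M →ₗ[R] Mi i) [∀ i, IsLocalizedModule (Submonoid.powers (f i)) (g i)]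
    (Mij : ι → ι → Type u) [∀ i j, AddCommGroup (Mij i j)] [∀ i j, Module R (Mij i j)] (gij : ∀ i j, M →ₗ[R] Mij i j) [∀ i j, IsLocalizedModule (Submonoid.powers (f i * f j)) (gij i j)]
    (ρ₁ : ∀ i j, Mi i →ₗ[R] Mij i j) (hρ₁ : ∀ i j, ρ₁ i j ∘ₗ g i = gij i j) (ρ₂ : ∀ i j, Mi j →ₗ[R] Mij i j) (hρ₂ : ∀ i j, ρ₂ i j ∘ₗ g j = gij i j) :
    (∀ m : M, (∀ i, g i m = 0) → m = 0) ∧
      ∀ s : ∀ i, Mi i, (∀ i j, ρ₁ i j (s i) = ρ₂ i j (s j)) → ∃ m : M, ∀ i, g i m = s i := by
  classical
  have hspan : ∀ n : ℕ, ∃ a : ι → R, ∑ i, a i * f i ^ n = 1 := by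
    intro n
    have h1 := Ideal.span_pow_eq_top (Set.range f) hf n
    rw [← Set.range_comp] at h1
    have h2 : (1 : R) ∈ Ideal.span (Set.range ((fun x => x ^ n) ∘ f)) := h1 ▸ Submodule.mem_top
    rw [Ideal.mem_span_range_iff_exists_fun] at h2
    exact h2
  constructor
  · intro m hm
    have hex : ∀ i, ∃ n : ℕ, f i ^ n • m = 0 := by
      intro i
      have h1 : g i m = g i 0 := by rw [hm i, map_zero]
      obtain ⟨⟨_, n, rfl⟩, hc⟩ :=
        (IsLocalizedModule.eq_iff_exists (Submonoid.powers (f i)) (g i)).mp h1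
      refine ⟨n, ?_⟩
      have hc' : f i ^ n • m = f i ^ n • (0 : M) := hc
      rw [hc', smul_zero]
    choose n hn using hex
    let N := ∑ i, n i
    have hN : ∀ i, f i ^ N • m = 0 := by
      intro i
      have hle : n i ≤ N := Finset.single_le_sum (f := n) (fun _ _ => Nat.zero_le _)
        (Finset.mem_univ i)
      rw [← Nat.sub_add_cancel hle, pow_add, mul_smul, hn i, smul_zero]
    obtain ⟨a, ha⟩ := hspan N
    calc m = (1 : R) • m := (one_smul R m).symm
      _ = (∑ i, a i * f i ^ N) • m := by rw [ha]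
      _ = ∑ i, (a i * f i ^ N) • m := Finset.sum_smul
      _ = 0 := Finset.sum_eq_zero (fun i _ => by rw [mul_smul, hN i, smul_zero])
  · intro s hs
    have hex : ∀ i, ∃ (n : ℕ) (m : M), f i ^ n • s i = g i m := by
      intro i
      obtain ⟨⟨m, ⟨_, n, rfl⟩⟩, h1⟩ := IsLocalizedModule.surj (Submonoid.powers (f i)) (g i) (s i)
      exact ⟨n, m, h1⟩
    choose n m hnm using hex
    let N := ∑ i, n i
    have hnN : ∀ i, n i ≤ N := fun i =>
      Finset.single_le_sum (f := n) (fun _ _ => Nat.zero_le _) (Finset.mem_univ i)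
    obtain ⟨m', hm'⟩ : ∃ m' : ι → M, ∀ i, f i ^ N • s i = g i (m' i) := by
      refine ⟨fun i => f i ^ (N - n i) • m i, fun i => ?_⟩
      rw [map_smul, ← hnm i, ← mul_smul, ← pow_add, Nat.sub_add_cancel (hnN i)]
    have hcompat : ∀ i j, gij i j (f j ^ N • m' i) = gij i j (f i ^ N • m' j) := by
      intro i j
      have e1 : gij i j (f j ^ N • m' i) = (f j ^ N * f i ^ N) • ρ₁ i j (s i) := by
        rw [map_smul, ← hρ₁ i j, LinearMap.comp_apply, ← hm' i, map_smul, mul_smul]
      have e2 : gij i j (f i ^ N • m' j) = (f j ^ N * f i ^ N) • ρ₂ i j (s j) := by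
        rw [map_smul, ← hρ₂ i j, LinearMap.comp_apply, ← hm' j, map_smul, ← mul_smul,
          mul_comm]
      rw [e1, e2, hs i j]
    have hexK : ∀ i j, ∃ k : ℕ, (f i * f j) ^ k • (f j ^ N • m' i) =
        (f i * f j) ^ k • (f i ^ N • m' j) := by
      intro i j
      obtain ⟨⟨_, k, rfl⟩, hc⟩ :=
        (IsLocalizedModule.eq_iff_exists (Submonoid.powers (f i * f j)) (gij i j)).mp
          (hcompat i j)
      exact ⟨k, hc⟩
    choose k hk using hexK
    let K := ∑ i, ∑ j, k i j
    have hkK : ∀ i j, k i j ≤ K := by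
      intro i j
      calc k i j ≤ ∑ j', k i j' :=
            Finset.single_le_sum (f := fun j' => k i j') (fun _ _ => Nat.zero_le _)
              (Finset.mem_univ j)
        _ ≤ K := Finset.single_le_sum (f := fun i' => ∑ j', k i' j') (fun _ _ => Nat.zero_le _)
              (Finset.mem_univ i)
    have hK : ∀ i j, (f i * f j) ^ K • (f j ^ N • m' i) = (f i * f j) ^ K • (f i ^ N • m' j) := by
      intro i j
      rw [← Nat.sub_add_cancel (hkK i j), pow_add, mul_smul, mul_smul, hk i j]
    obtain ⟨m'', hm''def⟩ : ∃ m'' : ι → M, ∀ i, m'' i = f i ^ K • m' i := ⟨_, fun _ => rfl⟩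
    have hm'' : ∀ i, f i ^ (N + K) • s i = g i (m'' i) := by
      intro i
      rw [hm''def, map_smul, ← hm' i, ← mul_smul, ← pow_add, add_comm]
    have hcross : ∀ i j, f j ^ (N + K) • m'' i = f i ^ (N + K) • m'' j := by
      intro i j
      rw [hm''def, hm''def]
      have e1 : f j ^ (N + K) • f i ^ K • m' i = (f i * f j) ^ K • (f j ^ N • m' i) := by
        rw [← mul_smul, ← mul_smul]
        congr 1
        ring
      have e2 : f i ^ (N + K) • f j ^ K • m' j = (f i * f j) ^ K • (f i ^ N • m' j) := by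
        rw [← mul_smul, ← mul_smul]
        congr 1
        ring
      rw [e1, e2, hK i j]
    obtain ⟨a, ha⟩ := hspan (N + K)
    refine ⟨∑ j, a j • m'' j, fun i => ?_⟩
    have h3 : f i ^ (N + K) • (∑ j, a j • m'' j) = m'' i := by
      rw [Finset.smul_sum]
      have h4 : ∀ j, f i ^ (N + K) • a j • m'' j = (a j * f j ^ (N + K)) • m'' i := by
        intro j
        rw [smul_comm, hcross j i, ← mul_smul]
      simp only [h4]
      rw [← Finset.sum_smul, ha, one_smul]
    have h5 : (⟨f i ^ (N + K), N + K, rfl⟩ : Submonoid.powers (f i)) • g i (∑ j, a j • m'' j) =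
        (⟨f i ^ (N + K), N + K, rfl⟩ : Submonoid.powers (f i)) • s i := by
      change f i ^ (N + K) • g i (∑ j, a j • m'' j) = f i ^ (N + K) • s i
      rw [← map_smul, h3, hm'' i]
    exact (IsLocalizedModule.smul_inj (g i) _ _ _).mp h5

end Groth.Agent.S9658
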