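import Groth.Statements.S9659
import Mathlib
-- import your own Groth.Agent.* helpers here

set_option autoImplicit false
universe u
open CAlg

namespace Groth.Agent.S9659

section
open DirectSum Topology

variable {R S : Type u} [CommRing R] [CommRing S] [Algebra R S] (𝒜 : ℤ → Submodule R S)
  [GradedAlgebra 𝒜]

theorem inv_mem (f : S) (d : ℤ) (hf : f ∈ 𝒜 d) (g : S) (hfg : f * g = 1) : g ∈ 𝒜 (-d) := by
  classical
  have key : ∀ j, j ≠ -d → (decompose 𝒜 g j : S) = 0 := by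
    intro j hj
    have h1 : (decompose 𝒜 (f * g) (d + j) : S) = f * decompose 𝒜 g j :=
      coe_decompose_mul_add_of_left_mem 𝒜 hf
    rw [hfg, decompose_of_mem_ne 𝒜 (SetLike.GradedOne.one_mem)
      (by omega : (0:ℤ) ≠ d + j)] at h1
    calc (decompose 𝒜 g j : S) = (g * f) * decompose 𝒜 g j := by rw [mul_comm g f, hfg, one_mul]
      _ = g * (f * decompose 𝒜 g j) := by ring
      _ = 0 := by rw [← h1, mul_zero]
  have : g = decompose 𝒜 g (-d) := by
    conv_lhs => rw [← sum_support_decompose 𝒜 g]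
    rw [Finset.sum_eq_single (-d)]
    · intro j _ hj; exact key j hj
    · intro h
      simpa using h
  rw [this]; exact Submodule.coe_mem _

/-- the degree-zero element attached to a homogeneous element -/
theorem beta_mem (f g : S) (d : ℤ) (hd : 0 < d) (hf : f ∈ 𝒜 d) (hg : g ∈ 𝒜 (-d)) (a : S) (i : ℤ)
    (ha : a ∈ 𝒜 i) : a ^ d.toNat * f ^ (-i).toNat * g ^ i.toNat ∈ 𝒜 0 := by
  have h1 := SetLike.mul_mem_graded (SetLike.mul_mem_graded (SetLike.pow_mem_graded d.toNat ha)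
    (SetLike.pow_mem_graded (-i).toNat hf)) (SetLike.pow_mem_graded i.toNat hg)
  have hdeg : d.toNat • i + (-i).toNat • d + i.toNat • (-d) = 0 := by
    simp only [nsmul_eq_mul]
    rw [Int.toNat_of_nonneg hd.le]
    rcases le_total 0 i with hi | hi
    · rw [Int.toNat_of_nonneg hi, Int.toNat_eq_zero.mpr (by omega)]
      push_cast; ring
    · rw [Int.toNat_eq_zero.mpr hi, Int.toNat_of_nonneg (by omega : 0 ≤ -i)]
      push_cast; ring
  rwa [hdeg] at h1

theorem beta_mem_iff (f g : S) (hfg : f * g = 1) (d : ℤ) (hd : 0 < d) (a : S) (i : ℤ)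
    (p : Ideal S) [p.IsPrime] :
    a ^ d.toNat * f ^ (-i).toNat * g ^ i.toNat ∈ p ↔ a ∈ p := by
  have hf : IsUnit f := IsUnit.of_mul_eq_one _ hfg
  have hg : IsUnit g := IsUnit.of_mul_eq_one _ (by rw [mul_comm]; exact hfg)
  have hdn : d.toNat ≠ 0 := by
    intro h
    have := Int.toNat_eq_zero.mp h
    omega
  constructor
  · intro h
    rcases Ideal.IsPrime.mem_or_mem ‹_› h with h | h
    · rcases Ideal.IsPrime.mem_or_mem ‹_› h with h | h
      · exact Ideal.IsPrime.mem_of_pow_mem ‹_› _ h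
      · exact absurd (Ideal.eq_top_of_isUnit_mem _ h (hf.pow _)) (Ideal.IsPrime.ne_top ‹_›)
    · exact absurd (Ideal.eq_top_of_isUnit_mem _ h (hg.pow _)) (Ideal.IsPrime.ne_top ‹_›)
  · intro h
    exact Ideal.mul_mem_right _ _ (Ideal.mul_mem_right _ _ (Ideal.pow_mem_of_mem _ h _
      (Nat.pos_of_ne_zero hdn)))

/-- contraction of extension along `S₀ → S` -/
theorem comap_map_zero (I : Ideal (SetLike.GradeZero.subring 𝒜)) :
    (I.map (SetLike.GradeZero.subring 𝒜).subtype).comap (SetLike.GradeZero.subring 𝒜).subtype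
      = I := by
  classical
  refine le_antisymm ?_ Ideal.le_comap_map
  intro x hx
  rw [Ideal.mem_comap] at hx
  have key : ∀ y ∈ I.map (SetLike.GradeZero.subring 𝒜).subtype, ∀ s : S,
      ∃ z ∈ I, (z : S) = decompose 𝒜 (s * y) 0 := by
    intro y hy
    induction hy using Submodule.span_induction with
    | mem y hy =>
      obtain ⟨a, ha, rfl⟩ := hy
      intro s
      have hmem : ((SetLike.GradeZero.subring 𝒜).subtype a) ∈ 𝒜 0 := a.2
      have := coe_decompose_mul_add_of_right_mem 𝒜 (i := 0) (a := s) hmem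
      rw [add_zero] at this
      refine ⟨⟨decompose 𝒜 s 0, Submodule.coe_mem _⟩ * a, I.mul_mem_left _ ha, ?_⟩
      rw [this]; rfl
    | zero => intro s; exact ⟨0, I.zero_mem, by simp⟩
    | add y z _ _ hy hz =>
      intro s
      obtain ⟨a, ha, ha'⟩ := hy s
      obtain ⟨b, hb, hb'⟩ := hz s
      refine ⟨a + b, I.add_mem ha hb, ?_⟩
      rw [mul_add, decompose_add, DirectSum.add_apply, Submodule.coe_add, ← ha', ← hb']; rfl
    | smul t y _ hy =>
      intro s
      obtain ⟨a, ha, ha'⟩ := hy (s * t)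
      exact ⟨a, ha, by rw [ha', smul_eq_mul, mul_assoc]⟩
  obtain ⟨z, hz, hz'⟩ := key _ hx 1
  rw [one_mul, decompose_of_mem_same 𝒜 (show ((SetLike.GradeZero.subring 𝒜).subtype x) ∈ 𝒜 0 from x.2)] at hz'
  have : z = x := Subtype.ext hz'
  rwa [← this]

theorem surj : Function.Surjective (fun p : {p : PrimeSpectrum S // p.asIdeal.IsHomogeneous 𝒜} =>
    PrimeSpectrum.comap (SetLike.GradeZero.subring 𝒜).subtype p.1) := by
  intro p₀
  obtain ⟨q, hq, hqp⟩ := (Ideal.comap_map_eq_self_iff_of_isPrime p₀.asIdeal).mp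
    (comap_map_zero 𝒜 p₀.asIdeal)
  refine ⟨⟨⟨(q.homogeneousCore 𝒜).toIdeal, hq.homogeneousCore⟩,
    HomogeneousIdeal.isHomogeneous _⟩, ?_⟩
  apply PrimeSpectrum.ext
  change Ideal.comap _ (q.homogeneousCore 𝒜).toIdeal = p₀.asIdeal
  rw [← hqp]
  ext x
  simp only [Ideal.mem_comap]
  constructor
  · exact fun h => Ideal.toIdeal_homogeneousCore_le 𝒜 q h
  · intro h
    exact Ideal.mem_homogeneousCore_of_homogeneous_of_mem ⟨0, x.2⟩ h

theorem mem_iff_beta (f g : S) (hfg : f * g = 1) (d : ℤ) (hd : 0 < d) (hf : f ∈ 𝒜 d)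
    (hg : g ∈ 𝒜 (-d)) (p : PrimeSpectrum S) (a : S) (i : ℤ) (ha : a ∈ 𝒜 i) :
    a ∈ p.asIdeal ↔ (⟨a ^ d.toNat * f ^ (-i).toNat * g ^ i.toNat,
      beta_mem 𝒜 f g d hd hf hg a i ha⟩ : SetLike.GradeZero.subring 𝒜) ∈
      (PrimeSpectrum.comap (SetLike.GradeZero.subring 𝒜).subtype p).asIdeal := by
  rw [PrimeSpectrum.comap_asIdeal, Ideal.mem_comap]
  exact (beta_mem_iff f g hfg d hd a i p.asIdeal).symm

theorem inj (f : S) (d : ℤ) (hd : 0 < d) (hf : f ∈ 𝒜 d) (hu : IsUnit f) :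
    Function.Injective (fun p : {p : PrimeSpectrum S // p.asIdeal.IsHomogeneous 𝒜} =>
    PrimeSpectrum.comap (SetLike.GradeZero.subring 𝒜).subtype p.1) := by
  classical
  obtain ⟨g, hfg⟩ := hu.exists_right_inv
  have hg := inv_mem 𝒜 f d hf g hfg
  intro p p' hpp'
  simp only at hpp'
  apply Subtype.ext
  apply PrimeSpectrum.ext
  ext x
  rw [p.2.mem_iff, p'.2.mem_iff]
  refine forall_congr' fun i => ?_
  rw [mem_iff_beta 𝒜 f g hfg d hd hf hg p.1 _ i (Submodule.coe_mem _),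
    mem_iff_beta 𝒜 f g hfg d hd hf hg p'.1 _ i (Submodule.coe_mem _), hpp']

theorem inducing (f : S) (d : ℤ) (hd : 0 < d) (hf : f ∈ 𝒜 d) (hu : IsUnit f) :
    IsInducing (fun p : {p : PrimeSpectrum S // p.asIdeal.IsHomogeneous 𝒜} =>
    PrimeSpectrum.comap (SetLike.GradeZero.subring 𝒜).subtype p.1) := by
  classical
  obtain ⟨g, hfg⟩ := hu.exists_right_inv
  have hg := inv_mem 𝒜 f d hf g hfg
  have hcont : Continuous (fun p : {p : PrimeSpectrum S // p.asIdeal.IsHomogeneous 𝒜} =>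
    PrimeSpectrum.comap (SetLike.GradeZero.subring 𝒜).subtype p.1) :=
    (PrimeSpectrum.continuous_comap _).comp continuous_subtype_val
  rw [isInducing_iff_nhds]
  intro p
  refine le_antisymm (hcont.tendsto p).le_comap ?_
  intro U hU
  have hU' : U ∈ Filter.comap Subtype.val (𝓝 p.1) := by
    rw [← nhds_induced]; exact hU
  rw [Filter.mem_comap] at hU'
  obtain ⟨u, hu', huU⟩ := hU'
  obtain ⟨t, ⟨r, rfl⟩, hpt, htu⟩ :=
    PrimeSpectrum.isTopologicalBasis_basic_opens.mem_nhds_iff.mp hu'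
  have hr : r ∉ p.1.asIdeal := hpt
  rw [p.2.mem_iff] at hr
  push Not at hr
  obtain ⟨i, hi⟩ := hr
  rw [mem_iff_beta 𝒜 f g hfg d hd hf hg p.1 _ i (Submodule.coe_mem _)] at hi
  rw [Filter.mem_comap]
  refine ⟨(PrimeSpectrum.basicOpen (⟨_, beta_mem 𝒜 f g d hd hf hg _ i
    (Submodule.coe_mem (decompose 𝒜 r i))⟩ : SetLike.GradeZero.subring 𝒜) : Set _),
    (PrimeSpectrum.basicOpen _).isOpen.mem_nhds hi, ?_⟩
  intro p' hp'
  apply huU
  apply htu
  change r ∉ p'.1.asIdeal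
  intro hr'
  rw [p'.2.mem_iff] at hr'
  have := hr' i
  rw [mem_iff_beta 𝒜 f g hfg d hd hf hg p'.1 _ i (Submodule.coe_mem _)] at this
  exact hp' this

theorem main (f : S) (d : ℤ) (hd : 0 < d) (hf : f ∈ 𝒜 d) (hu : IsUnit f) :
    IsHomeomorph (fun p : {p : PrimeSpectrum S // p.asIdeal.IsHomogeneous 𝒜} => PrimeSpectrum.comap (SetLike.GradeZero.subring 𝒜).subtype p.1) := by
  rw [isHomeomorph_iff_isEmbedding_surjective]
  exact ⟨⟨inducing 𝒜 f d hd hf hu, inj 𝒜 f d hd hf hu⟩, surj 𝒜⟩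

end

/-- Let S be a ℤ-graded ring which contains an invertible homogeneous element of positive degree. Then
the set of homogeneous prime ideals of S, with the topology induced from Spec(S), maps
homeomorphically onto Spec(S₀) by p ↦ p ∩ S₀. -/
theorem result {R S : Type u} [CommRing R] [CommRing S] [Algebra R S] (𝒜 : ℤ → Submodule R S) [GradedAlgebra 𝒜]
    (f : S) (d : ℤ) (hd : 0 < d) (hf : f ∈ 𝒜 d) (hu : IsUnit f) :
    IsHomeomorph (fun p : {p : PrimeSpectrum S // p.asIdeal.IsHomogeneous 𝒜} => PrimeSpectrum.comap (SetLike.GradeZero.subring 𝒜).subtype p.1) := by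
  exact Groth.Agent.S9659.main 𝒜 f d hd hf hu

end Groth.Agent.S9659
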