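import Groth.Statements.S9661
import Mathlib
import Groth.Agent.Lib.Helper12.ProjHilb6
-- import your own Groth.Agent.* helpers here

set_option autoImplicit false
universe u
attribute [local instance] MvPolynomial.gradedAlgebra
open CAlg

namespace Groth.Agent.S9661

section

open MvPolynomial Polynomial Groth.Agent.Helper5 Groth.Agent.Helper5.HS
  Groth.Agent.Helper12.ProjHilb

attribute [local instance] MvPolynomial.gradedAlgebra

theorem dim_quot_lt {k : Type u} [Field k] (d : ℕ) (J : Ideal (MvPolynomial (Fin d) k))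
    (hJ : J ≠ ⊥) : ringKrullDim (MvPolynomial (Fin d) k ⧸ J) + 1 ≤ (d : WithBot ℕ∞) := by
  obtain ⟨f, hfJ, hf0⟩ := Submodule.exists_mem_ne_zero_of_ne_bot hJ
  have h1 : ringKrullDim (MvPolynomial (Fin d) k ⧸ Ideal.span {f}) + 1 ≤
      ringKrullDim (MvPolynomial (Fin d) k) :=
    ringKrullDim_quotient_succ_le_of_nonZeroDivisor (mem_nonZeroDivisors_of_ne_zero hf0)
  have h2 : ringKrullDim (MvPolynomial (Fin d) k ⧸ J) ≤
      ringKrullDim (MvPolynomial (Fin d) k ⧸ Ideal.span {f}) :=
    ringKrullDim_le_of_surjective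
      (Ideal.Quotient.factor ((Ideal.span_singleton_le_iff_mem _).mpr hfJ))
      (Ideal.Quotient.factor_surjective _)
  have h3 : ringKrullDim (MvPolynomial (Fin d) k) = (d : WithBot ℕ∞) := by
    rw [MvPolynomial.ringKrullDim_of_isNoetherianRing, ringKrullDim_eq_zero_of_field, zero_add,
      Nat.card_fin]
  rw [← h3]
  exact le_trans (add_le_add h2 le_rfl) h1

theorem main {k : Type u} [Field k] (d : ℕ) (hd : 0 < d)
    (I : HomogeneousIdeal (MvPolynomial.homogeneousSubmodule (Fin d) k)) (hI : I ≠ ⊥) :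
    ∃ P : Polynomial ℚ, P.degree < ((d - 1 : ℕ) : WithBot ℕ) ∧ ∃ N : ℕ, ∀ n : ℕ, N ≤ n →
      ((Module.finrank k ↥(MvPolynomial.homogeneousSubmodule (Fin d) k n) : ℚ) -
        (Module.finrank k ↥(I.toIdeal.restrictScalars k ⊓ MvPolynomial.homogeneousSubmodule (Fin d) k n) : ℚ)) = P.eval (n : ℚ) := by
  have hJ : I.toIdeal.IsHomogeneous (homogeneousSubmodule (Fin d) k) := I.isHomogeneous
  have hI' : I.toIdeal ≠ ⊥ := by
    intro h
    apply hI
    apply HomogeneousIdeal.toIdeal_injective
    rw [h]; rfl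
  obtain ⟨N, hN⟩ := HP_spec hJ
  refine ⟨HP I.toIdeal, ?_, N, fun n hn => ?_⟩
  · by_cases h0 : HP I.toIdeal = 0
    · rw [h0, degree_zero]; exact WithBot.bot_lt_coe _
    · have hdim := ringKrullDim_quotient_eq I.toIdeal hJ h0
      have h1 := dim_quot_lt d I.toIdeal hI'
      rw [hdim] at h1
      have h2 : (HP I.toIdeal).natDegree + 1 + 1 ≤ d := by exact_mod_cast h1
      rw [degree_eq_natDegree h0]
      exact_mod_cast (by omega : (HP I.toIdeal).natDegree < d - 1)
  · rw [← hN n hn]
    have := hf_add I.toIdeal n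
    unfold part at this
    rw [← this]
    push_cast
    ring

end

/-- Let k be a field, d ≥ 1, and I a nonzero homogeneous ideal of the standard-graded polynomial ring
k[X_1, …, X_d]; put M = k[X_1, …, X_d]/I. Then the function n ↦ dim_k M_n (equal to dim_k of the
degree-n part of the polynomial ring minus dim_k of the degree-n part of I) coincides for all large
n with a polynomial of degree < d - 1, the zero polynomial if d = 1. -/
theorem result {k : Type u} [Field k] (d : ℕ) (hd : 0 < d)
    (I : HomogeneousIdeal (MvPolynomial.homogeneousSubmodule (Fin d) k)) (hI : I ≠ ⊥) :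
    ∃ P : Polynomial ℚ, P.degree < ((d - 1 : ℕ) : WithBot ℕ) ∧ ∃ N : ℕ, ∀ n : ℕ, N ≤ n →
      ((Module.finrank k ↥(MvPolynomial.homogeneousSubmodule (Fin d) k n) : ℚ) -
        (Module.finrank k ↥(I.toIdeal.restrictScalars k ⊓ MvPolynomial.homogeneousSubmodule (Fin d) k n) : ℚ)) = P.eval (n : ℚ) := by
  exact Groth.Agent.S9661.main d hd I hI

end Groth.Agent.S9661
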