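import Groth.Statements.S9663
import Mathlib
-- import your own Groth.Agent.* helpers here

set_option autoImplicit false
universe u
open CAlg

namespace Groth.Agent.S9663

section aux
variable {R : Type*} [CommRing R] {M M' : Type*} [AddCommGroup M] [AddCommGroup M']
  [Module R M] [Module R M']

lemma surj_pow (a : R) (φ : M →ₗ[R] M') [IsLocalizedModule (Submonoid.powers a) φ] (y : M') :
    ∃ (n : ℕ) (x : M), a ^ n • y = φ x := by
  obtain ⟨⟨x, ⟨_, n, rfl⟩⟩, h⟩ := IsLocalizedModule.surj (Submonoid.powers a) φ y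
  exact ⟨n, x, h⟩

lemma eq_zero_pow (a : R) (φ : M →ₗ[R] M') [IsLocalizedModule (Submonoid.powers a) φ] {m : M}
    (h : φ m = 0) : ∃ n : ℕ, a ^ n • m = 0 := by
  obtain ⟨⟨_, n, rfl⟩, hs⟩ := (IsLocalizedModule.eq_zero_iff (Submonoid.powers a) φ).1 h
  exact ⟨n, hs⟩

lemma pow_smul_inj (a : R) (φ : M →ₗ[R] M') [IsLocalizedModule (Submonoid.powers a) φ] (n : ℕ)
    {y : M'} (h : a ^ n • y = 0) : y = 0 := by
  have := IsLocalizedModule.smul_injective φ (⟨a ^ n, n, rfl⟩ : Submonoid.powers a)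
  apply this
  simpa [Submonoid.smul_def] using h

lemma pow_smul_eq_zero_of_le {a : R} {n N : ℕ} (h : n ≤ N) {x : M} (hx : a ^ n • x = 0) :
    a ^ N • x = 0 := by
  rw [← pow_sub_mul_pow a h, mul_smul, hx, smul_zero]

lemma ker_v_torsion (b c : R) {M1 T : Type*} [AddCommGroup M1] [Module R M1] [AddCommGroup T]
    [Module R T] (g : M →ₗ[R] M1) [IsLocalizedModule (Submonoid.powers c) g]
    (t : M →ₗ[R] T) [IsLocalizedModule (Submonoid.powers (b * c)) t] (v : M1 →ₗ[R] T)
    (hv : v ∘ₗ g = t) {z : M1} (hz : v z = 0) : ∃ n : ℕ, b ^ n • z = 0 := by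
  obtain ⟨p, w, hw⟩ := surj_pow c g z
  have h1 : t w = 0 := by
    rw [← hv, LinearMap.comp_apply, ← hw, map_smul, hz, smul_zero]
  obtain ⟨q, hq⟩ := eq_zero_pow (b * c) t h1
  refine ⟨q, ?_⟩
  apply pow_smul_inj c g (q + p)
  calc c ^ (q + p) • b ^ q • z = (b * c) ^ q • (c ^ p • z) := by
        rw [smul_smul, smul_smul]; congr 1; ring
    _ = g ((b * c) ^ q • w) := by rw [hw, map_smul]
    _ = 0 := by rw [hq, map_zero]

end aux

/-- Let R be a ring and f_i, i in a finite index set, elements of R (no condition on the ideal they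
generate). Suppose given for each i an R-module M_i on which f_i acts invertibly, for each pair (i,
j) an R-linear isomorphism ψ_ij : (M_i)_{f_j} → (M_j)_{f_i}, and suppose the cocycle condition ψ_jk
∘ ψ_ij = ψ_ik holds as maps (M_i)_{f_j f_k} → (M_k)_{f_i f_j} for all triples (i, j, k). All
localizations are given through their universal properties: (M_i)_{f_j} with its map g from M_i;
(M_i)_{f_j f_k} with its map t from M_i and the compatible maps u from (M_i)_{f_j} and v from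
(M_i)_{f_k}; and the three localized isomorphisms Ψ₁ (ψ_ij on (M_i)_{f_j f_k}), Ψ₂ (ψ_jk on
(M_j)_{f_i f_k}) and Ψ₃ (ψ_ik on (M_i)_{f_j f_k}) are given as maps compatible with the ψ's. Let M ⊆
Π_i M_i be the submodule of families (m_i) with m_i/1 = ψ_ji(m_j/1) in (M_i)_{f_j} for all i, j.
Then for each i the projection M → M_i exhibits M_i as the localization of M at f_i. -/
theorem result {R : Type u} [CommRing R] {ι : Type u} [Finite ι] (f : ι → R)
    (Mi : ι → Type u) [∀ i, AddCommGroup (Mi i)] [∀ i, Module R (Mi i)]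
    (hMi : ∀ i, IsUnit (algebraMap R (Module.End R (Mi i)) (f i)))
    (Mij : ι → ι → Type u) [∀ i j, AddCommGroup (Mij i j)] [∀ i j, Module R (Mij i j)]
    (g : ∀ i j, Mi i →ₗ[R] Mij i j) [∀ i j, IsLocalizedModule (Submonoid.powers (f j)) (g i j)]
    (ψ : ∀ i j, Mij i j ≃ₗ[R] Mij j i)
    (T : ι → ι → ι → Type u) [∀ i j k, AddCommGroup (T i j k)] [∀ i j k, Module R (T i j k)]
    (t : ∀ i j k, Mi i →ₗ[R] T i j k) [∀ i j k, IsLocalizedModule (Submonoid.powers (f j * f k)) (t i j k)]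
    (u : ∀ i j k, Mij i j →ₗ[R] T i j k) (hu : ∀ i j k, u i j k ∘ₗ g i j = t i j k)
    (v : ∀ i j k, Mij i k →ₗ[R] T i j k) (hv : ∀ i j k, v i j k ∘ₗ g i k = t i j k)
    (Ψ₁ : ∀ i j k, T i j k →ₗ[R] T j i k) (hΨ₁ : ∀ i j k, Ψ₁ i j k ∘ₗ u i j k = u j i k ∘ₗ (ψ i j).toLinearMap)
    (Ψ₂ : ∀ i j k, T j i k →ₗ[R] T k i j) (hΨ₂ : ∀ i j k, Ψ₂ i j k ∘ₗ v j i k = v k i j ∘ₗ (ψ j k).toLinearMap)
    (Ψ₃ : ∀ i j k, T i j k →ₗ[R] T k i j) (hΨ₃ : ∀ i j k, Ψ₃ i j k ∘ₗ v i j k = u k i j ∘ₗ (ψ i k).toLinearMap)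
    (hcoc : ∀ i j k, Ψ₂ i j k ∘ₗ Ψ₁ i j k = Ψ₃ i j k)
    (M : Submodule R (∀ i, Mi i)) (hM : ∀ m : ∀ i, Mi i, m ∈ M ↔ ∀ i j, g i j (m i) = ψ j i (g j i (m j))) (i : ι) :
    IsLocalizedModule (Submonoid.powers (f i)) ((LinearMap.proj i).comp M.subtype : ↥M →ₗ[R] Mi i) := by
  classical
  have := Fintype.ofFinite ι
  -- pointwise versions of the hypotheses
  have hu' : ∀ a b c x, u a b c (g a b x) = t a b c x := fun a b c x =>
    LinearMap.congr_fun (hu a b c) x
  have hv' : ∀ a b c x, v a b c (g a c x) = t a b c x := fun a b c x =>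
    LinearMap.congr_fun (hv a b c) x
  have hΨ₁' : ∀ a b c x, Ψ₁ a b c (u a b c x) = u b a c (ψ a b x) := fun a b c x =>
    LinearMap.congr_fun (hΨ₁ a b c) x
  have hΨ₂' : ∀ a b c x, Ψ₂ a b c (v b a c x) = v c a b (ψ b c x) := fun a b c x =>
    LinearMap.congr_fun (hΨ₂ a b c) x
  have hΨ₃' : ∀ a b c x, Ψ₃ a b c (v a b c x) = u c a b (ψ a c x) := fun a b c x =>
    LinearMap.congr_fun (hΨ₃ a b c) x
  have hcoc' : ∀ a b c x, Ψ₂ a b c (Ψ₁ a b c x) = Ψ₃ a b c x := fun a b c x =>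
    LinearMap.congr_fun (hcoc a b c) x
  -- f i acts injectively on M_i
  have hMi_inj : ∀ (n : ℕ) (x : Mi i), f i ^ n • x = 0 → x = 0 := by
    intro n x hx
    have h1 : IsUnit (algebraMap R (Module.End R (Mi i)) (f i ^ n)) := by
      rw [map_pow]; exact (hMi i).pow n
    have h2 := ((Module.End.isUnit_iff _).mp h1).injective
    apply h2
    rw [map_zero, Module.algebraMap_end_apply]
    exact hx
  -- ψ i i = id
  have hψii : ∀ z : Mij i i, ψ i i z = z := by
    intro z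
    have hUV : ∀ z : Mij i i, u i i i z = v i i i z := by
      intro z
      obtain ⟨n, w, hw⟩ := surj_pow (f i) (g i i) z
      have h1 : f i ^ n • (u i i i z - v i i i z) = 0 := by
        rw [smul_sub, ← map_smul, ← map_smul, hw, hu', hv', sub_self]
      have h2 : (f i * f i) ^ n • (u i i i z - v i i i z) = 0 := by
        rw [mul_pow, mul_smul, h1, smul_zero]
      exact sub_eq_zero.1 (pow_smul_inj (f i * f i) (t i i i) n h2)
    have h1 : u i i i (ψ i i z) = u i i i (ψ i i (ψ i i z)) := by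
      calc u i i i (ψ i i z) = Ψ₃ i i i (v i i i z) := (hΨ₃' i i i z).symm
        _ = Ψ₂ i i i (Ψ₁ i i i (v i i i z)) := (hcoc' i i i _).symm
        _ = Ψ₂ i i i (Ψ₁ i i i (u i i i z)) := by rw [hUV z]
        _ = Ψ₂ i i i (u i i i (ψ i i z)) := by rw [hΨ₁']
        _ = Ψ₂ i i i (v i i i (ψ i i z)) := by rw [hUV]
        _ = v i i i (ψ i i (ψ i i z)) := by rw [hΨ₂']
        _ = u i i i (ψ i i (ψ i i z)) := by rw [hUV]
    have h2 : v i i i (ψ i i z - ψ i i (ψ i i z)) = 0 := by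
      rw [map_sub, ← hUV, ← hUV, h1, sub_self]
    obtain ⟨n, hn⟩ := ker_v_torsion (f i) (f i) (g i i) (t i i i) (v i i i) (hv i i i) h2
    have h3 := sub_eq_zero.1 (pow_smul_inj (f i) (g i i) n hn)
    exact ((ψ i i).injective h3).symm
  -- the pairwise comparison
  have hpair : ∀ (x' : Mi i) (y : ∀ j, Mi j), (∀ j, g j i (y j) = ψ i j (g i j x')) →
      ∀ j k, ∃ n : ℕ, f i ^ n • (g k j (y k) - ψ j k (g j k (y j))) = 0 := by
    intro x' y hy j k
    have hA : t j i k (y j) = Ψ₁ i j k (t i j k x') := by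
      rw [← hu' j i k, hy j, ← hΨ₁', hu']
    have hB : t k i j (y k) = Ψ₃ i j k (t i j k x') := by
      rw [← hu' k i j, hy k, ← hΨ₃', hv']
    have hC : t k i j (y k) = v k i j (ψ j k (g j k (y j))) := by
      rw [hB, ← hcoc', ← hA, ← hv' j i k, hΨ₂']
    have hD : v k i j (g k j (y k) - ψ j k (g j k (y j))) = 0 := by
      rw [map_sub, hv', hC, sub_self]
    exact ker_v_torsion (f i) (f j) (g k j) (t k i j) (v k i j) (hv k i j) hD
  refine ⟨?_, ?_, ?_⟩
  · rintro ⟨_, n, rfl⟩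
    change IsUnit (algebraMap R (Module.End R (Mi i)) (f i ^ n))
    rw [map_pow]; exact (hMi i).pow n
  · -- surjectivity
    intro x
    -- Step 1
    have h1 : ∀ j, ∃ (n : ℕ) (y : Mi j), f i ^ n • ψ i j (g i j x) = g j i y := fun j =>
      surj_pow (f i) (g j i) _
    choose n y hy using h1
    let N := Finset.univ.sup n
    let x' : Mi i := f i ^ N • x
    let y' : ∀ j, Mi j := fun j => f i ^ (N - n j) • y j
    have hy' : ∀ j, g j i (y' j) = ψ i j (g i j x') := by
      intro j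
      have hle : n j ≤ N := Finset.le_sup (Finset.mem_univ j)
      simp only [y', x']
      rw [map_smul, ← hy j, smul_smul, pow_sub_mul_pow _ hle, map_smul, map_smul]
    have hy'i : y' i = x' := by
      have h2 : g i i (y' i - x') = 0 := by
        rw [map_sub, hy' i, hψii, sub_self]
      obtain ⟨p, hp⟩ := eq_zero_pow (f i) (g i i) h2
      exact sub_eq_zero.1 (hMi_inj p _ hp)
    -- Step 2
    have hx'def : x' = f i ^ N • x := rfl
    clear_value y' x'
    choose n2 hn2 using hpair x' y' hy'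
    let N' := Finset.univ.sup (fun q : ι × ι => n2 q.1 q.2)
    let m : ∀ j, Mi j := fun j => f i ^ N' • y' j
    have hm : m ∈ M := by
      rw [hM]
      intro a b
      have hle : n2 b a ≤ N' := Finset.le_sup (f := fun q : ι × ι => n2 q.1 q.2)
        (Finset.mem_univ (b, a))
      have h3 := pow_smul_eq_zero_of_le hle (hn2 b a)
      simp only [m]
      rw [map_smul, map_smul, map_smul, ← sub_eq_zero, ← smul_sub]
      exact h3
    refine ⟨(⟨m, hm⟩, ⟨f i ^ (N' + N), _, rfl⟩), ?_⟩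
    change f i ^ (N' + N) • x = m i
    simp only [m]
    rw [hy'i, hx'def, pow_add, mul_smul]
  · -- injectivity
    intro x₁ x₂ hx
    have hd : ∀ j, ∃ n : ℕ, f i ^ n • ((x₁ : ∀ j, Mi j) j - (x₂ : ∀ j, Mi j) j) = 0 := by
      intro j
      have h1 := (hM _).1 x₁.2 j i
      have h2 := (hM _).1 x₂.2 j i
      have hx' : (x₁ : ∀ j, Mi j) i = (x₂ : ∀ j, Mi j) i := hx
      have h3 : g j i ((x₁ : ∀ j, Mi j) j - (x₂ : ∀ j, Mi j) j) = 0 := by
        rw [map_sub, h1, h2, hx', sub_self]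
      exact eq_zero_pow (f i) (g j i) h3
    choose n hn using hd
    let N := Finset.univ.sup n
    refine ⟨⟨f i ^ N, N, rfl⟩, ?_⟩
    apply Subtype.ext
    funext j
    have hle : n j ≤ N := Finset.le_sup (Finset.mem_univ j)
    have h4 := pow_smul_eq_zero_of_le hle (hn j)
    rw [smul_sub, sub_eq_zero] at h4
    exact h4

end Groth.Agent.S9663
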