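import Groth.Statements.S9665
import Groth.Agent.Lib.Helper14.FiberMod
import Mathlib
-- import your own Groth.Agent.* helpers here

set_option autoImplicit false
universe u
open CAlg

namespace Groth.Agent.S9665

/-- Part (2): (A_fin ⊆ A): let R → S be a ring map, N an S-module, q a prime of S and p the prime of R
below q; an associated prime of a module is a prime ideal equal to the annihilator of some element.
If q is an associated prime of the S-module N/pN, then q is an associated prime of the S-module N
⊗_R κ(p) (the fibre module over p, an S-module by restriction of scalars). -/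
theorem result {R S : Type u} [CommRing R] [CommRing S] [Algebra R S] (N : Type u) [AddCommGroup N] [Module S N] [Module R N] [IsScalarTower R S N]
    (p : Ideal R) [p.IsPrime] (q : Ideal S) [q.IsPrime] (hq : q.comap (algebraMap R S) = p)
    (h : q ∈ FlatCA.ass S (N ⧸ (p.map (algebraMap R S)) • (⊤ : Submodule S N))) :
    q ∈ FlatCA.ass S (FlatCA.fiberMod p S N) := by
  obtain ⟨hqp, x, hx⟩ := h
  obtain ⟨n, rfl⟩ := Submodule.Quotient.mk_surjective _ x
  change q = Helper14.annElt S _ at hx
  refine ⟨hqp, FlatCA.toFiberMod p S N n, ?_⟩
  change q = Helper14.annElt S _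
  ext s
  rw [Helper14.mem_annElt_toFiberMod]
  constructor
  · intro hs
    refine ⟨1, fun h1 => ‹p.IsPrime›.ne_top ((Ideal.eq_top_iff_one p).2 h1), ?_⟩
    rw [map_one, one_mul, ← Helper14.mem_annElt_mk, ← hx]
    exact hs
  · rintro ⟨r, hr, hrs⟩
    rw [← Helper14.mem_annElt_mk, ← hx] at hrs
    rcases hqp.mem_or_mem hrs with h1 | h1
    · exfalso
      apply hr
      rw [← hq]
      exact h1
    · exact h1

end Groth.Agent.S9665
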