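import Groth.Statements.S9666
import Groth.Agent.Lib.Helper14.FiberMod
import Mathlib
-- import your own Groth.Agent.* helpers here

set_option autoImplicit false
universe u
open CAlg

namespace Groth.Agent.S9666

/-- Part (3): (A ⊆ A_fin): let R → S be a ring map with S Noetherian, N an S-module, q a prime of S and
p the prime of R below q; an associated prime of a module is a prime ideal equal to the annihilator
of some element. If q is an associated prime of the S-module N ⊗_R κ(p) (the fibre module over p, an
S-module by restriction of scalars), then q is an associated prime of the S-module N/pN. -/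
theorem result {R S : Type u} [CommRing R] [CommRing S] [Algebra R S] (N : Type u) [AddCommGroup N] [Module S N] [Module R N] [IsScalarTower R S N] [IsNoetherianRing S]
    (p : Ideal R) [p.IsPrime] (q : Ideal S) [q.IsPrime] (hq : q.comap (algebraMap R S) = p)
    (h : q ∈ FlatCA.ass S (FlatCA.fiberMod p S N)) :
    q ∈ FlatCA.ass S (N ⧸ (p.map (algebraMap R S)) • (⊤ : Submodule S N)) := by
  classical
  obtain ⟨hqp, x', hx'⟩ := h
  change q = Helper14.annElt S x' at hx'
  obtain ⟨r₀, hr₀, n₀, hn₀⟩ := Helper14.exists_smul_eq_toFiberMod p N x'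
  have hq0 : q = Helper14.annElt S (FlatCA.toFiberMod p S N n₀) := by
    rw [hx']
    ext s
    rw [Helper14.mem_annElt, Helper14.mem_annElt, ← hn₀, smul_comm]
    constructor
    · intro h0; rw [h0, smul_zero]
    · intro h0; exact Helper14.eq_zero_of_smul_fiberMod_eq_zero p N hr₀ _ h0
  obtain ⟨G, hG⟩ := (IsNoetherian.noetherian q : q.FG)
  set P : Submodule S N := (p.map (algebraMap R S)) • ⊤ with hP
  have claim : ∀ G' : Finset S, (∀ s ∈ G', s ∈ q) →
      ∃ r ∉ p, ∀ s ∈ G', (algebraMap R S r * s) • n₀ ∈ P := by
    intro G'
    induction G' using Finset.induction_on with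
    | empty =>
      intro _
      exact ⟨1, fun h1 => ‹p.IsPrime›.ne_top ((Ideal.eq_top_iff_one p).2 h1), by simp⟩
    | insert a G' ha ih =>
      intro hall
      obtain ⟨r', hr', h'⟩ := ih (fun s hs => hall s (Finset.mem_insert_of_mem hs))
      have haq : a ∈ q := hall a (Finset.mem_insert_self _ _)
      rw [hq0, Helper14.mem_annElt_toFiberMod] at haq
      obtain ⟨ra, hra, ha'⟩ := haq
      refine ⟨ra * r', fun h1 => (‹p.IsPrime›.mem_or_mem h1).elim hra hr', ?_⟩
      intro s hs
      rcases Finset.mem_insert.1 hs with rfl | hs'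
      · have : (algebraMap R S (ra * r') * s) • n₀ =
            (algebraMap R S r') • ((algebraMap R S ra * s) • n₀) := by
          rw [smul_smul, map_mul]; congr 1; ring
        rw [this]
        exact P.smul_mem _ ha'
      · have : (algebraMap R S (ra * r') * s) • n₀ =
            (algebraMap R S ra) • ((algebraMap R S r' * s) • n₀) := by
          rw [smul_smul, map_mul]; congr 1; ring
        rw [this]
        exact P.smul_mem _ (h' s hs')
  obtain ⟨r, hr, hrG⟩ := claim G (fun s hs => hG ▸ Ideal.subset_span hs)
  have hrq : algebraMap R S r ∉ q := by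
    intro h1
    apply hr
    rw [← hq]
    exact h1
  refine ⟨hqp, Submodule.Quotient.mk ((algebraMap R S r) • n₀), ?_⟩
  change q = Helper14.annElt S _
  apply le_antisymm
  · rw [← hG, Ideal.span_le]
    intro s hs
    rw [SetLike.mem_coe, Helper14.mem_annElt_mk, smul_smul, mul_comm]
    exact hrG s hs
  · intro s hs
    rw [Helper14.mem_annElt_mk, smul_smul] at hs
    have h1 : s * algebraMap R S r ∈ q := by
      rw [hq0, Helper14.mem_annElt_toFiberMod]
      refine ⟨1, fun h1 => ‹p.IsPrime›.ne_top ((Ideal.eq_top_iff_one p).2 h1), ?_⟩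
      rw [map_one, one_mul]
      exact hs
    exact (hqp.mem_or_mem h1).resolve_right hrq

end Groth.Agent.S9666
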