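import Groth.Statements.S9667
import Groth.Agent.Lib.Helper14.TensorAss
import Mathlib
-- import your own Groth.Agent.* helpers here

set_option autoImplicit false
universe u
open CAlg

namespace Groth.Agent.S9667

open TensorProduct in
/-- Part (3): (B = B_fin): let R → S be a ring map with S Noetherian, N an S-module, M an R-module and q
a prime of S; an associated prime of a module is a prime ideal equal to the annihilator of some
element. If q is an associated prime of the S-module N ⊗_R M, then there is a finitely generated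
R-submodule M' ⊆ M such that q is an associated prime of the S-module N ⊗_R M'. -/
theorem result {R S : Type u} [CommRing R] [CommRing S] [Algebra R S] (N : Type u) [AddCommGroup N] [Module S N] [Module R N] [IsScalarTower R S N] [IsNoetherianRing S]
    (M : Type u) [AddCommGroup M] [Module R M] (q : Ideal S) [q.IsPrime] (h : q ∈ FlatCA.ass S (N ⊗[R] M)) :
    ∃ M' : Submodule R M, M'.FG ∧ q ∈ FlatCA.ass S (N ⊗[R] ↥M') := by
  classical
  obtain ⟨hq, z, hz⟩ := h
  obtain ⟨G, hG⟩ := (IsNoetherian.noetherian q : q.FG)
  obtain ⟨M₀, hfin, hsub⟩ := TensorProduct.exists_finite_submodule_right_of_setFinite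
    ({z} : Set (N ⊗[R] M)) (Set.finite_singleton z)
  obtain ⟨z₀, hz₀⟩ := hsub (Set.mem_singleton z)
  have hM₀ : M₀.FG := Module.Finite.iff_fg.1 hfin
  have claim : ∀ G' : Finset S, (∀ s ∈ G', s • z = 0) → ∃ M' : Submodule R M, M'.FG ∧
      ∃ h : M₀ ≤ M', ∀ s ∈ G', s • LinearMap.lTensor N (Submodule.inclusion h) z₀ = 0 := by
    intro G'
    induction G' using Finset.induction_on with
    | empty => intro _; exact ⟨M₀, hM₀, le_rfl, by simp⟩
    | insert s G' hs ih =>
      intro hall
      obtain ⟨M₁, hM₁, h01, hG'⟩ := ih (fun s' hs' => hall s' (Finset.mem_insert_of_mem hs'))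
      set z₁ := LinearMap.lTensor N (Submodule.inclusion h01) z₀ with hz₁
      have hz₁z : LinearMap.lTensor N M₁.subtype z₁ = z := by
        rw [hz₁, ← LinearMap.comp_apply, ← LinearMap.lTensor_comp,
          Submodule.subtype_comp_inclusion, hz₀]
      have hw : LinearMap.lTensor N M₁.subtype (s • z₁) = 0 := by
        rw [Helper14.lTensor_smul_left, hz₁z]; exact hall s (Finset.mem_insert_self _ _)
      obtain ⟨M₂, hM₂, h12, h2⟩ := Helper14.exists_fg_lTensor_inclusion_eq_zero hM₁ hw
      refine ⟨M₂, hM₂, h01.trans h12, ?_⟩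
      have hcomp : LinearMap.lTensor N (Submodule.inclusion (h01.trans h12)) z₀ =
          LinearMap.lTensor N (Submodule.inclusion h12) z₁ := by
        rw [hz₁, ← LinearMap.comp_apply, ← LinearMap.lTensor_comp]; rfl
      intro s' hs'
      rw [hcomp, ← Helper14.lTensor_smul_left]
      rcases Finset.mem_insert.1 hs' with rfl | hs''
      · exact h2
      · rw [hG' s' hs'', map_zero]
  have hall : ∀ s ∈ G, s • z = 0 := by
    intro s hs
    have h1 : s ∈ q := hG ▸ Ideal.subset_span hs
    rw [hz] at h1
    exact (Submodule.mem_annihilator_span_singleton _ _).1 h1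
  obtain ⟨M', hM', h0, hz'⟩ := claim G hall
  refine ⟨M', hM', hq, LinearMap.lTensor N (Submodule.inclusion h0) z₀, ?_⟩
  apply le_antisymm
  · rw [← hG, Ideal.span_le]
    intro s hs
    exact (Submodule.mem_annihilator_span_singleton _ _).2 (hz' s hs)
  · intro s hs
    rw [hz]
    rw [Submodule.mem_annihilator_span_singleton] at hs ⊢
    have h1 : LinearMap.lTensor N M'.subtype
        (LinearMap.lTensor N (Submodule.inclusion h0) z₀) = z := by
      rw [← LinearMap.comp_apply, ← LinearMap.lTensor_comp,
          Submodule.subtype_comp_inclusion, hz₀]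
    rw [← h1, ← Helper14.lTensor_smul_left, hs, map_zero]

end Groth.Agent.S9667
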