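import Groth.Statements.S9670
import Groth.Agent.Lib.Helper14.FiberMod
import Groth.Agent.Lib.Helper14.TensorAss
import Groth.Agent.S9669
import Mathlib
-- import your own Groth.Agent.* helpers here

set_option autoImplicit false
universe u
open CAlg

namespace Groth.Agent.S9670

open TensorProduct

open Helper14 in
theorem ass_subset_union_of_exact {S A B C : Type u} [CommRing S] [AddCommGroup A] [Module S A]
    [AddCommGroup B] [Module S B] [AddCommGroup C] [Module S C] (f : A →+ B) (g : B →+ C)
    (hf : ∀ (s : S) a, f (s • a) = s • f a) (hg : ∀ (s : S) b, g (s • b) = s • g b)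
    (hinj : Function.Injective f) (hex : ∀ b, g b = 0 ↔ b ∈ Set.range f) :
    FlatCA.ass S B ⊆ FlatCA.ass S A ∪ FlatCA.ass S C := by
  rintro q ⟨hq, b, hb⟩
  change q = annElt S b at hb
  by_cases hcase : ∃ s : S, s • b ≠ 0 ∧ s • b ∈ Set.range f
  · obtain ⟨s, hs0, a, ha⟩ := hcase
    left
    refine ⟨hq, a, ?_⟩
    change q = annElt S a
    have hsq : s ∉ q := by
      rw [hb, mem_annElt]; exact hs0
    ext t
    rw [mem_annElt, ← map_eq_zero_iff f hinj, hf, ha, smul_smul, ← mem_annElt, ← hb]
    constructor
    · intro ht; exact q.mul_mem_right _ ht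
    · intro ht; exact (hq.mem_or_mem ht).resolve_right hsq
  · push Not at hcase
    right
    refine ⟨hq, g b, ?_⟩
    change q = annElt S (g b)
    ext t
    rw [hb, mem_annElt, mem_annElt, ← hg, hex]
    constructor
    · intro ht; rw [ht]; exact ⟨0, map_zero f⟩
    · intro ht
      by_contra h0
      exact h0 (hcase t h0 ht |>.elim) 

theorem key {R S : Type u} [CommRing R] [CommRing S] [Algebra R S] (N : Type u) [AddCommGroup N]
    [Module S N] [Module R N] [IsScalarTower R S N] [IsNoetherianRing R] [Module.Flat R N]
    (M : Type u) [AddCommGroup M] [Module R M] [Module.Finite R M] :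
    ∀ q : Ideal S, q ∈ FlatCA.ass S (N ⊗[R] M) →
      q ∈ FlatCA.ass S (N ⧸ ((q.comap (algebraMap R S)).map (algebraMap R S)) •
        (⊤ : Submodule S N)) := by
  induction ‹Module.Finite R M› using
    IsNoetherianRing.induction_on_isQuotientEquivQuotientPrime R with
  | subsingleton M =>
    rintro q ⟨hq, z, hz⟩
    exfalso
    apply hq.ne_top
    rw [hz, Subsingleton.elim z 0]
    exact Helper14.annElt_eq_top_iff.2 rfl
  | quotient M p₁ e =>
    rintro q ⟨hq, z, hz⟩
    have hp₁ : p₁.asIdeal.IsPrime := p₁.2
    -- transport z to N ⊗ R/p₁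
    obtain ⟨n, hn⟩ : ∃ n : N, LinearMap.lTensor N e.toLinearMap z =
        n ⊗ₜ[R] (1 : R ⧸ p₁.asIdeal) := by
      obtain ⟨n, hn⟩ := Submodule.Quotient.mk_surjective _
        (TensorProduct.tensorQuotEquivQuotSMul N p₁.asIdeal (LinearMap.lTensor N e.toLinearMap z))
      refine ⟨n, ?_⟩
      apply (TensorProduct.tensorQuotEquivQuotSMul N p₁.asIdeal).injective
      rw [← hn, ← map_one (Ideal.Quotient.mk p₁.asIdeal),
        TensorProduct.tensorQuotEquivQuotSMul_tmul_mk, one_smul]
    have hinj : Function.Injective (LinearMap.lTensor N e.toLinearMap) :=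
      (LinearEquiv.lTensor N e).injective
    have hq1 : q ∈ FlatCA.ass S (N ⧸ (p₁.asIdeal.map (algebraMap R S)) • (⊤ : Submodule S N)) := by
      refine ⟨hq, Submodule.Quotient.mk n, ?_⟩
      rw [hz]
      ext s
      rw [Submodule.mem_annihilator_span_singleton, Submodule.mem_annihilator_span_singleton,
        ← map_eq_zero_iff _ hinj, Helper14.lTensor_smul_left, hn, TensorProduct.smul_tmul',
        Helper14.tmul_one_eq_zero_iff, ← Submodule.Quotient.mk_smul,
        Submodule.Quotient.mk_eq_zero, Helper14.mem_map_smul_top_iff]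
    have hq2 := (Groth.Agent.S9669.result N p₁.asIdeal).2 q hq1
    rw [hq2]
    exact hq1
  | exact M₁ M₂ M₃ f g hf hg hfg ih₁ ih₃ =>
    intro q hq
    have hinj : Function.Injective (LinearMap.lTensor N f) :=
      Module.Flat.lTensor_preserves_injective_linearMap f hf
    have hex : Function.Exact (LinearMap.lTensor N f) (LinearMap.lTensor N g) :=
      lTensor_exact N hfg hg
    have hsub := ass_subset_union_of_exact (S := S) (LinearMap.lTensor N f).toAddMonoidHom
      (LinearMap.lTensor N g).toAddMonoidHom
      (fun s a => Helper14.lTensor_smul_left f s a) (fun s b => Helper14.lTensor_smul_left g s b)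
      hinj (fun b => hex b)
    rcases hsub hq with h1 | h3
    · exact ih₁ q h1
    · exact ih₃ q h3

open TensorProduct in
/-- Part (5): (B_fin ⊆ A_fin): let R → S be a ring map with R Noetherian, N an S-module flat over R, M a
finite R-module, q a prime of S and p the prime of R below q; an associated prime of a module is a
prime ideal equal to the annihilator of some element. If q is an associated prime of the S-module N
⊗_R M, then q is an associated prime of the S-module N/pN. -/
theorem result {R S : Type u} [CommRing R] [CommRing S] [Algebra R S] (N : Type u) [AddCommGroup N] [Module S N] [Module R N] [IsScalarTower R S N] [IsNoetherianRing R] [Module.Flat R N]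
    (M : Type u) [AddCommGroup M] [Module R M] [Module.Finite R M] (p : Ideal R) [p.IsPrime] (q : Ideal S) [q.IsPrime] (hq : q.comap (algebraMap R S) = p)
    (h : q ∈ FlatCA.ass S (N ⊗[R] M)) :
    q ∈ FlatCA.ass S (N ⧸ (p.map (algebraMap R S)) • (⊤ : Submodule S N)) := by
  have := key N M q h
  rw [hq] at this
  exact this

end Groth.Agent.S9670
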