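import Groth.Statements.S9682
import Groth.Agent.Lib.Helper16.Sch.QFGen

set_option autoImplicit false
universe u
open CategoryTheory CategoryTheory.Limits AlgebraicGeometry
open Mor

namespace Groth.Agent.S9682

/-- Take f : X ⟶ Y locally of finite type and η the generic point of some irreducible component of Y.
Three conditions turn out to coincide: (1) each point of X mapping to η is the generic point of some
irreducible component of X; (2) f is quasi-finite at every point over η; (3) f is quasi-finite at
each point over η that is generic in some irreducible component of X. Stated as (1) iff (2) together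
with (1) iff (3). -/
theorem result {X Y : Scheme.{u}} (f : X ⟶ Y)
    [LocallyOfFiniteType f] (η : Y) (hη : closure {η} ∈ irreducibleComponents ↥Y) :
    ((∀ x : X, f.base x = η → closure {x} ∈ irreducibleComponents ↥X) ↔
      (∀ x : X, f.base x = η → f.QuasiFiniteAt x)) ∧
    ((∀ x : X, f.base x = η → closure {x} ∈ irreducibleComponents ↥X) ↔
      (∀ x : X, f.base x = η → closure {x} ∈ irreducibleComponents ↥X → f.QuasiFiniteAt x)) := by
  have hmin : ∀ y : Y, y ⤳ η → y = η :=
    Groth.Agent.Helper16.GenFinSch.eq_of_specializes_of_mem_irreducibleComponents η hη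
  have h12 : (∀ x : X, f.base x = η → closure {x} ∈ irreducibleComponents ↥X) →
      (∀ x : X, f.base x = η → f.QuasiFiniteAt x) := by
    intro h1 x hx
    apply Groth.Agent.Helper16.QFGen.quasiFiniteAt_of_fiber_incomparable
    intro z z' hz _ hsp
    exact Groth.Agent.Helper16.GenFinSch.eq_of_specializes_of_mem_irreducibleComponents z
      (h1 z (hz.trans hx)) z' hsp
  have h31 : (∀ x : X, f.base x = η → closure {x} ∈ irreducibleComponents ↥X → f.QuasiFiniteAt x) →
      (∀ x : X, f.base x = η → closure {x} ∈ irreducibleComponents ↥X) := by
    intro h3 x hx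
    apply Groth.Agent.Helper16.QFGen.closure_mem_irreducibleComponents_of_forall
    intro x' hsp
    -- a maximal generization of x'
    obtain ⟨x'', hx''⟩ := QuasiSober.sober (isIrreducible_irreducibleComponent (x := x'))
      isClosed_irreducibleComponent
    have hx''cl : closure {x''} = irreducibleComponent x' := hx''
    have hsp'' : x'' ⤳ x' := by
      rw [specializes_iff_mem_closure, hx''cl]
      exact mem_irreducibleComponent
    have hgen : closure {x''} ∈ irreducibleComponents ↥X := by
      rw [hx''cl]; exact irreducibleComponent_mem_irreducibleComponents x'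
    have hsp2 : x'' ⤳ x := hsp''.trans hsp
    have hfx'' : f.base x'' = η := by
      apply hmin
      have := hsp2.map f.continuous
      rw [hx] at this
      exact this
    have hqf := h3 x'' hfx'' hgen
    have e1 : x'' = x := Groth.Agent.Helper16.QFGen.eq_of_specializes_of_quasiFiniteAt f x'' x hsp2
      (hfx''.trans hx.symm) hqf
    rw [e1] at hsp''
    exact (hsp.antisymm hsp'').eq
  refine ⟨⟨h12, fun h2 => h31 (fun x hx _ => h2 x hx)⟩, ⟨fun h1 x hx _ => h12 h1 x hx, h31⟩⟩

end Groth.Agent.S9682
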