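import Groth.Statements.S9685
import Groth.Agent.S9686
import Groth.Agent.Lib.Helper14.GenericFibrePrime
-- import your own Groth.Agent.* helpers here

set_option autoImplicit false
universe u
open CategoryTheory CategoryTheory.Limits AlgebraicGeometry
open Mor

namespace Groth.Agent.S9685

open Order in
/-- heights do not drop along specializing maps. -/
theorem height_le_of_specializing {X Y : AlgebraicGeometry.Scheme.{u}} (f : X ⟶ Y)
    (hf : SpecializingMap f) :
    ∀ k : ℕ, ∀ x : X, (k : ℕ∞) ≤ height (f x) → (k : ℕ∞) ≤ height x := by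
  intro k
  induction k with
  | zero => intro x _; simp
  | succ k ih =>
    intro x hk
    obtain ⟨y, hy, hky⟩ : ∃ y, y < f x ∧ (k : ℕ∞) ≤ height y := by
      by_contra hcon
      push Not at hcon
      have h1 : height (f x) ≤ (k : ℕ∞) := by
        rw [height_eq_iSup_lt_height]
        refine iSup₂_le fun y hy => ?_
        exact Order.add_one_le_of_lt (hcon y hy)
      have h2 := hk.trans h1
      have h3 : ((k + 1 : ℕ) : ℕ∞) ≤ (k : ℕ∞) := h2
      rw [Nat.cast_le] at h3
      omega
    have hsp : f x ⤳ y := hy.le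
    obtain ⟨x', hx', rfl⟩ := hf hsp
    have hlt : x' < x := by
      rw [lt_iff_le_not_ge]
      refine ⟨hx', fun hge => ?_⟩
      have h6 : f x ≤ f x' := Specializes.map (show x' ⤳ x from hge) f.continuous
      exact (not_le_of_gt hy) h6
    have h4 := ih x' hky
    have h5 := height_add_one_le hlt
    calc ((k + 1 : ℕ) : ℕ∞) = (k : ℕ∞) + 1 := by push_cast; rfl
      _ ≤ height x' + 1 := by gcongr
      _ ≤ height x := h5

/-- Let X and Y be integral schemes with Y locally Noetherian and f : X ⟶ Y dominant and locally of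
finite type. If n is the transcendence degree of the function field of X over the function field of
Y (computed on residue fields at the generic points), then dim X ≤ dim Y + n, and equality holds
when the underlying map of f is closed. -/
theorem result {X Y : Scheme.{u}} [IsIntegral X] [IsIntegral Y]
    [IsLocallyNoetherian Y] (f : X ⟶ Y) [IsDominant f] [LocallyOfFiniteType f] (n : ℕ)
    (hn : letI := (f.residueFieldMap (genericPoint ↥X)).hom.toAlgebra
      Algebra.trdeg (Y.residueField (f.base (genericPoint ↥X))) (X.residueField (genericPoint ↥X)) = n) :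
    topologicalKrullDim ↥X ≤ topologicalKrullDim ↥Y + n ∧
      (IsClosedMap f.base → topologicalKrullDim ↥X = topologicalKrullDim ↥Y + n) := by
  classical
  have hgen : ∀ ξ : X, closure {ξ} ∈ irreducibleComponents ↥X → ξ = genericPoint ↥X := by
    intro ξ hξ
    rw [irreducibleComponents_eq_singleton, Set.mem_singleton_iff] at hξ
    have h1 : IsGenericPoint ξ (⊤ : Set X) := hξ
    exact ((genericPoint_spec X).eq h1).symm
  have part1 : topologicalKrullDim ↥X ≤ topologicalKrullDim ↥Y + n := by
    refine Groth.Agent.S9686.result f n ?_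
    intro ξ hξ
    have := hgen ξ hξ
    subst this
    exact le_of_eq hn
  refine ⟨part1, fun hcl => le_antisymm part1 ?_⟩
  -- the generic points
  set ξ : X := genericPoint ↥X with hξdef
  set η : Y := genericPoint ↥Y with hηdef
  have hfξ : f ξ = η := by
    apply ((genericPoint_spec Y).eq _).symm
    have h1 := (genericPoint_spec X).image f.continuous
    have h2 : closure (f '' (Set.univ : Set X)) = (Set.univ : Set Y) := by
      rw [Set.image_univ]
      exact (Scheme.Hom.denseRange f).closure_range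
    rw [h2] at h1
    exact h1
  obtain ⟨V, hV, hxV, -⟩ :=
    exists_isAffineOpen_mem_and_subset (X := Y) (x := f ξ) (U := ⊤) trivial
  obtain ⟨U, hU, hxU, hUV⟩ :=
    exists_isAffineOpen_mem_and_subset (X := X) (x := ξ) (U := f ⁻¹ᵁ V) hxV
  haveI : Nonempty U := ⟨⟨ξ, hxU⟩⟩
  haveI : Nonempty V := ⟨⟨f ξ, hxV⟩⟩
  letI alg : Algebra Γ(Y, V) Γ(X, U) := (f.appLE V U hUV).hom.toAlgebra
  have halg : algebraMap Γ(Y, V) Γ(X, U) = (f.appLE V U hUV).hom := rfl
  haveI : IsNoetherianRing Γ(Y, V) := IsLocallyNoetherian.component_noetherian ⟨V, hV⟩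
  haveI : Algebra.FiniteType Γ(Y, V) Γ(X, U) := Scheme.Hom.finiteType_appLE f hV hU hUV
  have hqξ : (hU.primeIdealOf ⟨ξ, hxU⟩).asIdeal = ⊥ := by
    have := hU.primeIdealOf_genericPoint
    rw [genericPoint_eq_bot_of_affine] at this
    exact congrArg PrimeSpectrum.asIdeal this
  have hpη : (hV.primeIdealOf ⟨η, hfξ ▸ hxV⟩).asIdeal = ⊥ := by
    have := hV.primeIdealOf_genericPoint
    rw [genericPoint_eq_bot_of_affine] at this
    exact congrArg PrimeSpectrum.asIdeal this
  have hpfξ : (hV.primeIdealOf ⟨f ξ, hUV hxU⟩).asIdeal = ⊥ := by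
    rw [← hpη]
    congr 2
    exact Subtype.ext hfξ
  have hunder : (⊥ : Ideal Γ(X, U)).under Γ(Y, V) = ⊥ := by
    rw [← hqξ, Groth.Agent.Helper14.ResFieldBridge.under_primeIdealOf f hU hV hUV ξ hxU halg, hpfξ]
  haveI : FaithfulSMul Γ(Y, V) Γ(X, U) := by
    rw [faithfulSMul_iff_algebraMap_injective, RingHom.injective_iff_ker_eq_bot]
    exact hunder
  haveI : (⊥ : Ideal Γ(X, U)).LiesOver (⊥ : Ideal Γ(Y, V)) := ⟨hunder.symm⟩
  have hn' : Algebra.trdeg Γ(Y, V) Γ(X, U) = n := by
    rw [← Groth.Agent.Helper14.GenericFibrePrime.trdeg_quotient_bot,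
      ← Groth.Agent.Helper14.ResFieldBridge.trdeg_residueField_eq f hU hV hUV ξ hxU halg ⊥ ⊥
        hqξ.symm]
    exact hn
  obtain ⟨m, hmp, hmunder, hmht⟩ :=
    Groth.Agent.Helper14.GenericFibrePrime.exists_prime Γ(Y, V) Γ(X, U)
  rw [hn'] at hmht
  have hmht' : m.height = (n : ℕ∞) := by
    have : (m.height : Cardinal.{u}) = ((n : ℕ∞) : Cardinal.{u}) := by rw [hmht]; simp
    exact_mod_cast this
  let ym : PrimeSpectrum Γ(X, U) := ⟨m, hmp⟩
  let w : X := hU.fromSpec ym
  have hwU : w ∈ U := Groth.Agent.Helper14.ResFieldBridge.fromSpec_mem hU ym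
  have hwy : hU.primeIdealOf ⟨w, hwU⟩ = ym :=
    Groth.Agent.Helper14.ResFieldBridge.primeIdealOf_fromSpec hU ym
  have hfw : f w = η := by
    have h1 := Groth.Agent.Helper14.ResFieldBridge.under_primeIdealOf f hU hV hUV w hwU halg
    rw [hwy] at h1
    change m.under Γ(Y, V) = _ at h1
    rw [hmunder] at h1
    have h2 : hV.primeIdealOf ⟨f w, hUV hwU⟩ = hV.primeIdealOf ⟨η, hfξ ▸ hxV⟩ := by
      apply PrimeSpectrum.ext
      rw [← h1, hpη]
    have h3 := hV.fromSpec_primeIdealOf ⟨f w, hUV hwU⟩
    have h4 := hV.fromSpec_primeIdealOf ⟨η, hfξ ▸ hxV⟩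
    rw [h2, h4] at h3
    exact h3.symm
  have hcoh : Order.coheight w = (n : ℕ∞) := by
    have h1 := AlgebraicGeometry.ringKrullDim_stalk_eq_coheight w
    rw [Groth.Agent.Helper14.ResFieldBridge.ringKrullDim_stalk hU w hwU, hwy] at h1
    change ((m.height : ℕ∞) : WithBot ℕ∞) = _ at h1
    rw [hmht'] at h1
    exact_mod_cast h1.symm
  have hspec : SpecializingMap f := IsClosedMap.specializingMap hcl
  have hht : Order.height η ≤ Order.height w := by
    rw [← hfw]
    exact ENat.forall_natCast_le_iff_le.mp (fun k => height_le_of_specializing f hspec k w)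
  have hdimY : topologicalKrullDim ↥Y = ((Order.height η : ℕ∞) : WithBot ℕ∞) := by
    rw [Groth.Agent.S9686.topDim_eq (X := Y)]
    apply le_antisymm
    · rw [Order.krullDim_eq_iSup_height]
      refine iSup_le fun a => ?_
      have ha : a ≤ η := ((genericPoint_spec Y).specializes (Set.mem_univ a))
      exact_mod_cast Order.height_mono ha
    · exact Order.height_le_krullDim η
  rw [hdimY, Groth.Agent.S9686.topDim_eq (X := X)]
  haveI : Nonempty X := ⟨w⟩
  rw [Order.krullDim_eq_iSup_height_add_coheight_of_nonempty]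
  have h5 : Order.height η + (n : ℕ∞) ≤ ⨆ a : X, Order.height a + Order.coheight a := by
    refine le_trans ?_ (le_iSup (fun a : X => Order.height a + Order.coheight a) w)
    rw [hcoh]
    gcongr
  exact_mod_cast h5

end Groth.Agent.S9685
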