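import Groth.Statements.S9696
import Groth.Agent.Lib.Helper15.UnrLocusBC

set_option autoImplicit false
universe u
open CategoryTheory CategoryTheory.Limits AlgebraicGeometry
open Mor

namespace Groth.Agent.S9696

/-- Let f : X ⟶ S be flat and locally of finite presentation and g : S' ⟶ S any morphism, with base
change f' : X ×_S S' ⟶ S' and projection g' : X ×_S S' ⟶ X. Then the open set of points where f' is
etale is the inverse image under g' of the open set of points where f is etale. -/
theorem result {X S S' : Scheme.{u}} (f : X ⟶ S) [Flat f]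
    [LocallyOfFinitePresentation f] (g : S' ⟶ S) (x' : ↑(pullback f g)) :
    (∃ U' : (pullback f g).Opens, x' ∈ U' ∧ Etale (U'.ι ≫ pullback.snd f g)) ↔
      (∃ U : X.Opens, (pullback.fst f g).base x' ∈ U ∧ Etale (U.ι ≫ f)) := by
  have key : ∀ {Y Z : Scheme.{u}} (h : Y ⟶ Z) [Flat h] [LocallyOfFinitePresentation h] (y : Y),
      (∃ U : Y.Opens, y ∈ U ∧ Etale (U.ι ≫ h)) ↔ Groth.Agent.Helper15.UnrNear h y := by
    intro Y Z h _ _ y
    constructor
    · rintro ⟨U, hy, hU⟩
      exact ⟨U, hy, inferInstance⟩
    · rintro ⟨U, hy, hU⟩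
      refine ⟨U, hy, ?_⟩
      rw [Etale.iff_flat_and_formallyUnramified]
      exact ⟨inferInstance, hU, inferInstance⟩
  rw [key, key]
  exact ⟨fun H => Groth.Agent.Helper15.unrNear_fst_of_unrNear_snd f g x' H,
    fun H => Groth.Agent.Helper15.unrNear_snd_of_unrNear_fst f g x' H⟩

end Groth.Agent.S9696
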