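import Mathlib
import Groth.Statements.S9700
import Groth.Agent.Lib.Helper19.ValEx2
import Groth.Agent.Lib.Helper4.ValSep

set_option autoImplicit false
universe u
open CategoryTheory CategoryTheory.Limits AlgebraicGeometry
open Mor

namespace Groth.Agent.S9700

/-- Let f : X ⟶ S and h : U ⟶ X be quasi-compact with h(U) dense in X. Suppose each valuative square
over f, whose map Spec K ⟶ X factors through h, has a unique diagonal lift. Then f is universally
closed, and f is also separated provided it is quasi-separated. -/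
theorem result {U X S : Scheme.{u}} (f : X ⟶ S) (h : U ⟶ X)
    [QuasiCompact f] [QuasiCompact h] (hd : DenseRange h.base)
    (H : ∀ sq : ValuativeCommSq f, (∃ i : Spec (.of sq.K) ⟶ U, i ≫ h = sq.i₁) →
      Nonempty (Unique sq.commSq.LiftStruct)) :
    UniversallyClosed f ∧ (QuasiSeparated f → IsSeparated f) := by
  have hG : ∀ x : X, ∃ u : U, h.base u ⤳ x := fun x =>
    Groth.Agent.Helper4.SpecCl.exists_specializes_of_mem_closure_range h x
      (by rw [hd.closure_range]; trivial)
  have HV : ∀ (u : U) (A : ValuationSubring (U.residueField u))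
      (φ : Spec (CommRingCat.of A) ⟶ S),
      Spec.map (CommRingCat.ofHom A.subtype) ≫ φ = U.fromSpecResidueField u ≫ h ≫ f →
      ∃! φ' : Spec (CommRingCat.of A) ⟶ X,
        Spec.map (CommRingCat.ofHom A.subtype) ≫ φ' = U.fromSpecResidueField u ≫ h ∧
          φ' ≫ f = φ := by
    intro u A φ hφ
    let sq : ValuativeCommSq f :=
      { R := A, K := U.residueField u, i₁ := U.fromSpecResidueField u ≫ h, i₂ := φ,
        commSq := ⟨by rw [Category.assoc]; exact hφ.symm⟩ }
    obtain ⟨uq⟩ := H sq ⟨U.fromSpecResidueField u, rfl⟩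
    refine ⟨uq.default.l, ⟨uq.default.fac_left, uq.default.fac_right⟩, ?_⟩
    rintro φ' ⟨h1, h2⟩
    exact congrArg CommSq.LiftStruct.l (uq.uniq (⟨φ', h1, h2⟩ : sq.commSq.LiftStruct))
  refine ⟨UniversallyClosed.of_valuativeCriterion f
    (Groth.Agent.Lib.Helper19.ValEx.existence f h hG HV), fun hqs => ?_⟩
  haveI := hqs
  apply Groth.Agent.Helper4.ValSep.isSeparated_of_valuationSubring f h hG
  intro z A l₁ l₂ hl e₁ e₂
  exact (HV z A (l₁ ≫ f) (by rw [← Category.assoc, e₁, Category.assoc])).unique
    ⟨e₁, rfl⟩ ⟨e₂, hl.symm⟩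

end Groth.Agent.S9700
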