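import Groth.Statements.S9702
import Groth.Agent.Lib.Helper16.Sch.GenFinInt2

set_option autoImplicit false
universe u
open CategoryTheory CategoryTheory.Limits AlgebraicGeometry
open Mor

namespace Groth.Agent.S9702

/-- Let X, Y be integral and f : X ⟶ Y dominant and locally of finite type, with ξ the generic point of
X (so f ξ is the generic point of Y). Then the following are equivalent: the residue field of ξ is
finite over that of f ξ; some nonempty affine opens U ⊆ X and V ⊆ Y with f(U) ⊆ V have U ⟶ V finite;
every point of X that f sends to the generic point of Y equals ξ. Under the extra assumption that f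
is quasi-compact or separated, these are also equivalent to: f⁻¹(V) ⟶ V is finite for some nonempty
affine open V ⊆ Y. (The published statement also lists transcendence degree 0 of the function field
extension, which for this finitely generated extension is equivalent to finiteness; this row omits
it.) -/
theorem result {X Y : Scheme.{u}} [IsIntegral X] [IsIntegral Y] (f : X ⟶ Y)
    [IsDominant f] [LocallyOfFiniteType f] :
    let ξ := genericPoint ↥X
    let A := letI := (f.residueFieldMap ξ).hom.toAlgebra
      Module.Finite (Y.residueField (f.base ξ)) (X.residueField ξ)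
    let B := ∃ (U : X.Opens) (V : Y.Opens) (hUV : U ≤ f ⁻¹ᵁ V), IsAffineOpen U ∧ IsAffineOpen V ∧
      Nonempty ↥U ∧ IsFinite (f.resLE V U hUV)
    let C := ∀ x : X, f.base x = genericPoint ↥Y → x = ξ
    let D := ∃ V : Y.Opens, IsAffineOpen V ∧ Nonempty ↥V ∧ IsFinite (f ∣_ V)
    (A ↔ B) ∧ (A ↔ C) ∧ (IsSeparated f ∨ QuasiCompact f → (A ↔ D)) := by
  intro ξ A B C D
  have hfξ : f ξ = genericPoint ↥Y := Groth.Agent.Helper16.GenFinInt.map_genericPoint_of_isDominant f
  have hAC : A → C := by
    intro hA x hx
    haveI : @Module.Finite (Y.residueField (f ξ)) (X.residueField ξ) _ _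
      (f.residueFieldMap ξ).hom.toAlgebra.toModule := hA
    have halg : @Algebra.IsAlgebraic (Y.residueField (f ξ)) (X.residueField ξ) _ _
        (f.residueFieldMap ξ).hom.toAlgebra := by
      letI := (f.residueFieldMap ξ).hom.toAlgebra
      exact Algebra.IsAlgebraic.of_finite _ _
    exact Groth.Agent.Helper16.GenFinInt.eq_of_map_eq_of_isAlgebraic f ξ
      (fun x => genericPoint_specializes x) halg x (hx.trans hfξ.symm)
  have hCB : C → B := fun hC =>
    Groth.Agent.Helper16.GenFinInt.exists_finite_resLE_of_fiber_subsingleton f hC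
  have hBA : B → A := by
    rintro ⟨U, V, hUV, hU, hV, ⟨⟨x₀, hx₀⟩⟩, hfin⟩
    have hξU : ξ ∈ U :=
      ((genericPoint_spec X).mem_open_set_iff U.isOpen).mpr ⟨x₀, trivial, hx₀⟩
    exact Groth.Agent.Helper16.GenFinInt.finite_residueField_of_finite_appLE f hU hV hUV
      (Groth.Agent.Helper16.GenFinInt.finite_appLE_of_isFinite_resLE f hU hV hUV hfin) ξ hξU
  have hDB : D → B := by
    rintro ⟨V, hV, hne, hfin⟩
    exact Groth.Agent.Helper16.GenFinInt.exists_resLE_of_morphismRestrict f V hV hne hfin
  refine ⟨⟨fun h => hCB (hAC h), hBA⟩, ⟨hAC, fun h => hBA (hCB h)⟩, ?_⟩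
  intro hsq
  refine ⟨fun hA => ?_, fun hD => hBA (hDB hD)⟩
  rcases hsq with hs | hq
  · exact Groth.Agent.Helper16.GenFinInt.exists_finite_morphismRestrict_of_isSeparated f (hAC hA)
  · exact Groth.Agent.Helper16.GenFinInt.exists_finite_morphismRestrict_of_quasiCompact f (hAC hA)

end Groth.Agent.S9702
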