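import Groth.Statements.S9721
-- import your own Groth.Agent.* helpers here

set_option autoImplicit false
universe u
open CategoryTheory AlgebraicGeometry
open Mor

namespace Groth.Agent.S9721

section
open CategoryTheory AlgebraicGeometry TopologicalSpace Limits RingHom

/-- Generic lemma: if `W.ι ≫ f` has `P` (with `P` having ring hom property `Q`), then for affine
`U₀ ≤ W`, `U₀ ≤ f⁻¹ V` with `V` affine, `Q (f.appLE V U₀)`. -/
theorem appLE_of_restrict {P : MorphismProperty Scheme.{u}}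
    {Q : ∀ {R S : Type u} [CommRing R] [CommRing S], (R →+* S) → Prop}
    [HasRingHomProperty P Q]
    {X S : Scheme.{u}} (f : X ⟶ S) (W : X.Opens) (hW : P (W.ι ≫ f))
    (V : S.Opens) (hV : IsAffineOpen V) (U₀ : X.Opens) (hU₀ : IsAffineOpen U₀)
    (hUW : U₀ ≤ W) (e : U₀ ≤ f ⁻¹ᵁ V) : Q (f.appLE V U₀ e).hom := by
  have hQi : RingHom.RespectsIso Q := (HasRingHomProperty.isLocal_ringHomProperty P).respectsIso
  have h1 : P (U₀.ι ≫ f) := by
    have : U₀.ι = X.homOfLE hUW ≫ W.ι := (X.homOfLE_ι hUW).symm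
    rw [this, Category.assoc]
    exact IsZariskiLocalAtSource.comp (P := P) hW _
  haveI : IsAffine (U₀ : Scheme.{u}) := hU₀
  have htop : IsAffineOpen (⊤ : (U₀ : Scheme.{u}).Opens) := isAffineOpen_top _
  have e' : (⊤ : (U₀ : Scheme.{u}).Opens) ≤ (U₀.ι ≫ f) ⁻¹ᵁ V := by
    intro y _
    exact e y.2
  have h2 := HasRingHomProperty.appLE P (U₀.ι ≫ f) h1 ⟨V, hV⟩ ⟨⊤, htop⟩ e'
  have e'' : (⊤ : (U₀ : Scheme.{u}).Opens) ≤ U₀.ι ⁻¹ᵁ U₀ := by
    intro y _
    exact y.2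
  have h3 : f.appLE V U₀ e ≫ U₀.ι.appLE U₀ ⊤ e'' = (U₀.ι ≫ f).appLE V ⊤ e' :=
    Scheme.Hom.appLE_comp_appLE _ _ _ _ _ _ _
  haveI : IsIso (U₀.ι.appLE U₀ ⊤ e'') := by
    rw [Scheme.Opens.ι_appLE]
    have hle : U₀.ι ''ᵁ ⊤ ≤ U₀ := U₀.ι_image_top.le
    have hge : U₀ ≤ U₀.ι ''ᵁ ⊤ := U₀.ι_image_top.ge
    haveI : IsIso (homOfLE hle) := ⟨homOfLE hge, Subsingleton.elim _ _, Subsingleton.elim _ _⟩
    change IsIso (X.presheaf.map (homOfLE hle).op)
    infer_instance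
  change Q ((U₀.ι ≫ f).appLE V ⊤ e').hom at h2
  rw [← h3, CommRingCat.hom_comp] at h2
  exact (hQi.cancel_right_isIso (f.appLE V U₀ e) (U₀.ι.appLE U₀ ⊤ e'')).mp h2

/-- Converse direction: if `Q (f.appLE V U e)` for affine `U`, `V`, then `P (U.ι ≫ f)`. -/
theorem restrict_of_appLE {P : MorphismProperty Scheme.{u}}
    {Q : ∀ {R S : Type u} [CommRing R] [CommRing S], (R →+* S) → Prop}
    [HasRingHomProperty P Q]
    {X S : Scheme.{u}} (f : X ⟶ S)
    (V : S.Opens) (hV : IsAffineOpen V) (U : X.Opens) (hU : IsAffineOpen U)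
    (e : U ≤ f ⁻¹ᵁ V) (h : Q (f.appLE V U e).hom) : P (f.resLE V U e) := by
  have hQi : RingHom.RespectsIso Q := (HasRingHomProperty.isLocal_ringHomProperty P).respectsIso
  haveI : IsAffine (U : Scheme.{u}) := hU
  haveI : IsAffine (V : Scheme.{u}) := hV
  rw [HasRingHomProperty.iff_of_isAffine (P := P)]
  exact (hQi.arrow_mk_iso_iff (arrowResLEAppIso f V U e)).mpr h

theorem main {X S : Scheme.{u}} (f : X ⟶ S) (x : X)
    (V : S.Opens) (hV : IsAffineOpen V) (hxV : f x ∈ V) :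
    (∃ W : X.Opens, x ∈ W ∧ Smooth (W.ι ≫ f)) ↔
      ∃ (U : X.Opens) (_ : IsAffineOpen U) (_ : x ∈ U) (e : U ≤ f ⁻¹ᵁ V),
        (f.appLE V U e).hom.IsStandardSmooth := by
  constructor
  · rintro ⟨W, hxW, hW⟩
    obtain ⟨U₀, hU₀, hxU₀, hU₀le⟩ := Opens.isBasis_iff_nbhd.mp X.isBasis_affineOpens
      (show x ∈ W ⊓ f ⁻¹ᵁ V from ⟨hxW, hxV⟩)
    have hU₀ : IsAffineOpen U₀ := hU₀
    have e : U₀ ≤ f ⁻¹ᵁ V := hU₀le.trans inf_le_right
    have hsm : RingHom.Smooth (f.appLE V U₀ e).hom :=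
      appLE_of_restrict (P := @Smooth) f W hW V hV U₀ hU₀ (hU₀le.trans inf_le_left) e
    rw [RingHom.smooth_iff_locally_isStandardSmooth,
      locally_iff_isLocalization isStandardSmooth_respectsIso] at hsm
    obtain ⟨s, hs, hfs⟩ := hsm
    apply iSup_basicOpen_of_span_eq_top at hs
    have : x ∈ (⨆ i ∈ s, X.basicOpen i) := hs.symm ▸ hxU₀
    have : ∃ r ∈ s, x ∈ X.basicOpen r := by simpa using this
    obtain ⟨r, hr, hrs⟩ := this
    refine ⟨X.basicOpen r, hU₀.basicOpen r, hrs, (X.basicOpen_le r).trans e, ?_⟩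
    rw [← f.appLE_map e (homOfLE (X.basicOpen_le r)).op]
    have : IsLocalization.Away r Γ(X, X.basicOpen r) := hU₀.isLocalization_basicOpen r
    exact hfs r hr _
  · rintro ⟨U, hU, hxU, e, h⟩
    refine ⟨U, hxU, ?_⟩
    have h2 : Smooth (f.resLE V U e) :=
      restrict_of_appLE (P := @Smooth) f V hV U hU e h.smooth
    rw [← Scheme.Hom.resLE_comp_ι f e]
    infer_instance

end

/-- Let f : X ⟶ S be a morphism, x a point of X and V an affine open neighbourhood of f(x) in S. Then f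
is smooth on some open neighbourhood of x if and only if there is an affine open neighbourhood U of
x with f(U) ⊆ V such that the induced ring map Γ(S, V) ⟶ Γ(X, U) is standard smooth. -/
theorem result {X S : Scheme.{u}} (f : X ⟶ S) (x : X)
    (V : S.Opens) (hV : IsAffineOpen V) (hxV : f x ∈ V) :
    (∃ W : X.Opens, x ∈ W ∧ Smooth (W.ι ≫ f)) ↔
      ∃ (U : X.Opens) (_ : IsAffineOpen U) (_ : x ∈ U) (e : U ≤ f ⁻¹ᵁ V),
        (f.appLE V U e).hom.IsStandardSmooth := by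
  exact Groth.Agent.S9721.main f x V hV hxV

end Groth.Agent.S9721
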