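import Groth.Statements.S9722
import Mathlib.RingTheory.Unramified.LocalStructure
import Groth.Agent.S9721
-- import your own Groth.Agent.* helpers here

set_option autoImplicit false
universe u
open CategoryTheory AlgebraicGeometry
open Mor

namespace Groth.Agent.S9722

section
open CategoryTheory AlgebraicGeometry TopologicalSpace Limits RingHom

theorem mem_basicOpen_of_notMem {X : Scheme.{u}} {U : X.Opens} (hU : IsAffineOpen U) (x : X)
    (hx : x ∈ U) (r : Γ(X, U)) (hr : r ∉ (hU.primeIdealOf ⟨x, hx⟩).asIdeal) :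
    x ∈ X.basicOpen r := by
  have h1 : hU.fromSpec (hU.primeIdealOf ⟨x, hx⟩) = x := hU.fromSpec_primeIdealOf ⟨x, hx⟩
  have h2 : hU.primeIdealOf ⟨x, hx⟩ ∈ hU.fromSpec ⁻¹ᵁ X.basicOpen r := by
    rw [hU.fromSpec_preimage_basicOpen]
    exact hr
  rw [← h1]
  exact h2

theorem main {X S : Scheme.{u}} (f : X ⟶ S) (x : X)
    (V : S.Opens) (hV : IsAffineOpen V) (hxV : f x ∈ V) :
    (∃ W : X.Opens, x ∈ W ∧ Etale (W.ι ≫ f)) ↔
      ∃ (U : X.Opens) (_ : IsAffineOpen U) (_ : x ∈ U) (e : U ≤ f ⁻¹ᵁ V),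
        letI := (f.appLE V U e).hom.toAlgebra
        Algebra.IsStandardEtale Γ(S, V) Γ(X, U) := by
  constructor
  · rintro ⟨W, hxW, hW⟩
    obtain ⟨U₀, hU₀, hxU₀, hU₀le⟩ := Opens.isBasis_iff_nbhd.mp X.isBasis_affineOpens
      (show x ∈ W ⊓ f ⁻¹ᵁ V from ⟨hxW, hxV⟩)
    have hU₀ : IsAffineOpen U₀ := hU₀
    have e : U₀ ≤ f ⁻¹ᵁ V := hU₀le.trans inf_le_right
    have het : RingHom.Etale (f.appLE V U₀ e).hom :=
      Groth.Agent.S9721.appLE_of_restrict (P := @Etale) f W hW V hV U₀ hU₀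
        (hU₀le.trans inf_le_left) e
    letI alg0 : Algebra Γ(S, V) Γ(X, U₀) := (f.appLE V U₀ e).hom.toAlgebra
    haveI : Algebra.Etale Γ(S, V) Γ(X, U₀) := het
    let Q : Ideal Γ(X, U₀) := (hU₀.primeIdealOf ⟨x, hxU₀⟩).asIdeal
    haveI : Q.IsPrime := (hU₀.primeIdealOf ⟨x, hxU₀⟩).isPrime
    haveI : Algebra.FormallyEtale Γ(X, U₀) (Localization.AtPrime Q) :=
      Algebra.FormallyEtale.of_isLocalization Q.primeCompl
    haveI : Algebra.IsEtaleAt Γ(S, V) Q :=
      Algebra.FormallyEtale.comp Γ(S, V) Γ(X, U₀) (Localization.AtPrime Q)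
    obtain ⟨r, hrQ, hr⟩ := Algebra.IsEtaleAt.exists_isStandardEtale (R := Γ(S, V)) Q
    have e2 : X.basicOpen r ≤ f ⁻¹ᵁ V := (X.basicOpen_le r).trans e
    refine ⟨X.basicOpen r, hU₀.basicOpen r, mem_basicOpen_of_notMem hU₀ x hxU₀ r hrQ, e2, ?_⟩
    letI alg2 : Algebra Γ(S, V) Γ(X, X.basicOpen r) := (f.appLE V (X.basicOpen r) e2).hom.toAlgebra
    letI alg1 : Algebra Γ(X, U₀) Γ(X, X.basicOpen r) :=
      (X.presheaf.map (homOfLE (X.basicOpen_le r)).op).hom.toAlgebra
    haveI : IsLocalization.Away r Γ(X, X.basicOpen r) := hU₀.isLocalization_basicOpen r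
    haveI : IsScalarTower Γ(S, V) Γ(X, U₀) Γ(X, X.basicOpen r) := by
      apply IsScalarTower.of_algebraMap_eq'
      rw [RingHom.algebraMap_toAlgebra, RingHom.algebraMap_toAlgebra, RingHom.algebraMap_toAlgebra,
        ← CommRingCat.hom_comp, f.appLE_map e (homOfLE (X.basicOpen_le r)).op]
    let eq : Localization.Away r ≃ₐ[Γ(S, V)] Γ(X, X.basicOpen r) :=
      (IsLocalization.algEquiv (Submonoid.powers r) (Localization.Away r)
        Γ(X, X.basicOpen r)).restrictScalars Γ(S, V)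
    exact Algebra.IsStandardEtale.of_equiv eq
  · rintro ⟨U, hU, hxU, e, h⟩
    refine ⟨U, hxU, ?_⟩
    letI := (f.appLE V U e).hom.toAlgebra
    have h1 : Algebra.Etale Γ(S, V) Γ(X, U) := inferInstance
    have h2 : Etale (f.resLE V U e) :=
      Groth.Agent.S9721.restrict_of_appLE (P := @Etale) f V hV U hU e h1
    rw [← Scheme.Hom.resLE_comp_ι f e]
    infer_instance

end

/-- Let f : X ⟶ S be a morphism, x a point of X and V an affine open neighbourhood of f(x) in S. Then f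
is étale on some open neighbourhood of x if and only if there is an affine open neighbourhood U of x
with f(U) ⊆ V such that Γ(X, U) is a standard étale algebra over Γ(S, V) through the induced ring
map. -/
theorem result {X S : Scheme.{u}} (f : X ⟶ S) (x : X)
    (V : S.Opens) (hV : IsAffineOpen V) (hxV : f x ∈ V) :
    (∃ W : X.Opens, x ∈ W ∧ Etale (W.ι ≫ f)) ↔
      ∃ (U : X.Opens) (_ : IsAffineOpen U) (_ : x ∈ U) (e : U ≤ f ⁻¹ᵁ V),
        letI := (f.appLE V U e).hom.toAlgebra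
        Algebra.IsStandardEtale Γ(S, V) Γ(X, U) := by
  exact Groth.Agent.S9722.main f x V hV hxV

end Groth.Agent.S9722
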