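import Groth.Statements.S9728
import Mathlib
import Groth.Agent.S8657
-- import your own Groth.Agent.* helpers here

set_option autoImplicit false
universe u
open FlatMor

namespace Groth.Agent.S9728

section

open CategoryTheory CategoryTheory.Limits AlgebraicGeometry TopologicalSpace

theorem one_dir {S U P P' : Scheme.{u}} (q : U ⟶ S)
    (p : P ⟶ S) (p' : P' ⟶ S) [Smooth p] [Smooth p'] (i : U ⟶ P) (i' : U ⟶ P') [IsImmersion i]
    [IsImmersion i']
    (hi : i ≫ p = q) (hi' : i' ≫ p' = q) (V : U.Opens)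
    (hV : RegImm.IsRegularImmersion RegImm.Kind.koszul (V.ι ≫ i)) :
    RegImm.IsRegularImmersion RegImm.Kind.koszul (V.ι ≫ i') := by
  have hc : (V.ι ≫ i) ≫ p = (V.ι ≫ i') ≫ p' := by
    rw [Category.assoc, Category.assoc, hi, hi']
  haveI : IsImmersion (pullback.lift (V.ι ≫ i) (V.ι ≫ i') hc) := by
    haveI : IsImmersion (pullback.lift (V.ι ≫ i) (V.ι ≫ i') hc ≫ pullback.fst p p') := by
      rw [pullback.lift_fst]; infer_instance
    exact IsImmersion.of_comp (pullback.lift (V.ι ≫ i) (V.ι ≫ i') hc) (pullback.fst p p')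
  have hk : RegImm.IsRegularImmersion .koszul (pullback.lift (V.ι ≫ i) (V.ι ≫ i') hc) :=
    (Groth.Agent.S8657.main (V.ι ≫ i) (pullback.lift (V.ι ≫ i) (V.ι ≫ i') hc) (pullback.fst p p')
      (pullback.lift_fst _ _ _)).mp hV
  exact (Groth.Agent.S8657.main (V.ι ≫ i') (pullback.lift (V.ι ≫ i) (V.ι ≫ i') hc)
    (pullback.snd p p') (pullback.lift_snd _ _ _)).mpr hk

theorem main {S U P P' : Scheme.{u}} (q : U ⟶ S)
    (p : P ⟶ S) (p' : P' ⟶ S) [Smooth p] [Smooth p'] (i : U ⟶ P) (i' : U ⟶ P') [IsImmersion i]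
    [IsImmersion i']
    (hi : i ≫ p = q) (hi' : i' ≫ p' = q) (u : U) :
    (∃ V : U.Opens, u ∈ V ∧ RegImm.IsRegularImmersion RegImm.Kind.koszul (V.ι ≫ i)) ↔
      (∃ V : U.Opens, u ∈ V ∧ RegImm.IsRegularImmersion RegImm.Kind.koszul (V.ι ≫ i')) := by
  constructor
  · rintro ⟨V, huV, hV⟩
    exact ⟨V, huV, one_dir q p p' i i' hi hi' V hV⟩
  · rintro ⟨V, huV, hV⟩
    exact ⟨V, huV, one_dir q p' p i' i hi' hi V hV⟩

end

open AlgebraicGeometry CategoryTheory Limits in
/-- Given S-schemes U, P, P' with P and P' smooth over S, immersions i : U ⟶ P and i' : U ⟶ P'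
compatible with the structure maps to S, and a point u of U, some restriction of i to an open
neighbourhood of u is a Koszul-regular immersion exactly when some restriction of i' to an open
neighbourhood of u is. -/
theorem result {S U P P' : Scheme.{u}} (q : U ⟶ S)
    (p : P ⟶ S) (p' : P' ⟶ S) [Smooth p] [Smooth p'] (i : U ⟶ P) (i' : U ⟶ P') [IsImmersion i] [IsImmersion i']
    (hi : i ≫ p = q) (hi' : i' ≫ p' = q) (u : U) :
    (∃ V : U.Opens, u ∈ V ∧ RegImm.IsRegularImmersion RegImm.Kind.koszul (V.ι ≫ i)) ↔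
      (∃ V : U.Opens, u ∈ V ∧ RegImm.IsRegularImmersion RegImm.Kind.koszul (V.ι ≫ i')) := by
  exact Groth.Agent.S9728.main q p p' i i' hi hi' u

end Groth.Agent.S9728
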