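import Groth.Statements.S9736
import Mathlib
import Groth.Agent.S9148
-- import your own Groth.Agent.* helpers here

set_option autoImplicit false
universe u
open FlatMor

namespace Groth.Agent.S9736

section
open MvPolynomial AlgebraicGeometry CategoryTheory Limits Groth.Agent.Helper2.RelGCIBC
  Groth.Agent.Helper16.RingFibDim

theorem main {X S : Scheme.{u}} (f : X ⟶ S) [IsAffine X] [IsAffine S]
    (hf : Synt.IsStandardSyntomic f) :
    ∃ (X₀ S₀ : Scheme.{u}) (f₀ : X₀ ⟶ S₀) (g : S ⟶ S₀) (g' : X ⟶ X₀), IsAffine X₀ ∧ IsAffine S₀ ∧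
      IsPullback g' f f₀ g ∧
      Algebra.FiniteType ℤ Γ(S₀, ⊤) ∧ LocallyOfFiniteType f₀ ∧ Synt.IsStandardSyntomic f₀ := by
  obtain ⟨R, _, n, c, F, hF, e₁, e₂, hcomm⟩ := hf
  obtain ⟨R₀, F₀, hft, hmap, hF₀⟩ := Groth.Agent.S9148.main R n c F hF
  obtain rfl : F = Fbc R₀ R n c F₀ := funext fun i => (hmap i).symm
  refine ⟨Spec (CommRingCat.of (Synt.RelGCIRing R₀ n c F₀)), Spec (CommRingCat.of R₀),
    specMap R₀ (Synt.RelGCIRing R₀ n c F₀),
    e₂.hom ≫ Spec.map (CommRingCat.ofHom (algebraMap R₀ R)),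
    e₁.hom ≫ Spec.map (CommRingCat.ofHom (theta R₀ R n c F₀).toRingHom),
    inferInstance, inferInstance, ?_, ?_, inferInstance, ?_⟩
  · refine (isPullback_spec R₀ R n c F₀).of_iso e₁.symm (Iso.refl _) e₂.symm (Iso.refl _)
      ?_ ?_ ?_ ?_
    · simp
    · rw [Iso.symm_hom, Iso.symm_hom, ← cancel_mono e₂.hom, Category.assoc, Iso.inv_hom_id,
        Category.comp_id, Category.assoc, ← hcomm, Iso.inv_hom_id_assoc]
    · simp
    · simp
  · exact hft.equiv (Scheme.ΓSpecIso (CommRingCat.of R₀)).symm.commRingCatIsoToRingEquiv.toIntAlgEquiv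
  · exact ⟨R₀, inferInstance, n, c, F₀, hF₀, Iso.refl _, Iso.refl _, by simp⟩

end

open AlgebraicGeometry CategoryTheory Limits in
/-- Let f : X ⟶ S be a standard syntomic morphism of affine schemes. Then f is the base change of a
morphism of finite type f₀ : X₀ ⟶ S₀ between affine schemes with S₀ of finite type over ℤ and f₀
standard syntomic. -/
theorem result {X S : Scheme.{u}} (f : X ⟶ S) [IsAffine X] [IsAffine S] (hf : Synt.IsStandardSyntomic f) :
    ∃ (X₀ S₀ : Scheme.{u}) (f₀ : X₀ ⟶ S₀) (g : S ⟶ S₀) (g' : X ⟶ X₀), IsAffine X₀ ∧ IsAffine S₀ ∧ IsPullback g' f f₀ g ∧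
      Algebra.FiniteType ℤ Γ(S₀, ⊤) ∧ LocallyOfFiniteType f₀ ∧ Synt.IsStandardSyntomic f₀ := by
  exact Groth.Agent.S9736.main f hf

end Groth.Agent.S9736
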