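import Groth.Statements.S9741
import Groth.Agent.Lib.Helper18.Thick

set_option autoImplicit false
universe u
open OmegaSh

namespace Groth.Agent.S9741

open AlgebraicGeometry CategoryTheory Limits in
/-- Let a : Z ⟶ Y and b : Y ⟶ X be formally unramified, let (i : Z ⟶ Z', c : Z' ⟶ X) be universal among
first order thickenings of Z relative to X (for a ≫ b), and (j : Y ⟶ Y', d : Y' ⟶ X) likewise for Y
relative to X (for b). Then there is a morphism of thickenings m : Z' ⟶ Y' over X (i ≫ m = a ≫ j and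
m ≫ d = c) such that Z ⟶ Y ×_{Y'} Z' (components a and i), together with the projection to Y, is
universal among first order thickenings of Z relative to Y (for a). The published statement also
asserts an exact sequence of conormal sheaves; this row states only the thickening assertion. -/
theorem result {Z Y X Z' Y' : Scheme.{u}} (a : Z ⟶ Y) (b : Y ⟶ X)
    [FormallyUnramified a] [FormallyUnramified b] (i : Z ⟶ Z') (c : Z' ⟶ X) (hZ : OmegaSh.IsUnivThickening (a ≫ b) i c)
    (j : Y ⟶ Y') (d : Y' ⟶ X) (hY : OmegaSh.IsUnivThickening b j d) :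
    ∃ (m : Z' ⟶ Y') (hm : i ≫ m = a ≫ j), m ≫ d = c ∧
      OmegaSh.IsUnivThickening a (pullback.lift a i hm.symm) (pullback.fst j m) := by
  obtain ⟨hi, hic, hunivZ⟩ := hZ
  obtain ⟨hj, hjd, hunivY⟩ := hY
  obtain ⟨m, ⟨hm1, hm2⟩, -⟩ := hunivY Z Z' i c a hi hic
  refine ⟨m, hm1, hm2, ?_⟩
  have hl1 : pullback.lift a i hm1.symm ≫ pullback.fst j m = a := pullback.lift_fst _ _ _
  have hl2 : pullback.lift a i hm1.symm ≫ pullback.snd j m = i := pullback.lift_snd _ _ _
  obtain ⟨l, hl⟩ : ∃ l, l = pullback.lift a i hm1.symm := ⟨_, rfl⟩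
  rw [← hl] at hl1 hl2 ⊢
  obtain ⟨⟨hjcl, hjsurj⟩, hjker⟩ := hj
  obtain ⟨⟨hicl, hisurj⟩, hiker⟩ := id hi
  have hsndcl : IsClosedImmersion (pullback.snd j m) := inferInstance
  have hlcl : IsClosedImmersion l := by
    have : IsClosedImmersion (l ≫ pullback.snd j m) := by rw [hl2]; exact hicl
    exact IsClosedImmersion.of_comp l (pullback.snd j m)
  refine ⟨⟨⟨hlcl, ⟨fun p => ?_⟩⟩, ?_⟩, hl1, ?_⟩
  · obtain ⟨z, hz⟩ := hisurj.surj (pullback.snd j m p)
    refine ⟨z, ?_⟩
    apply (pullback.snd j m).isClosedEmbedding.injective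
    rw [← hz, ← hl2]
    rfl
  · apply Groth.Agent.Helper18.Thick.ker_sq_of_comp l (pullback.snd j m)
    rw [hl2, hiker]
    exact bot_le
  · intro T T' t β α ht w
    obtain ⟨γ, ⟨hγ1, hγ2⟩, hγ3⟩ := hunivZ T T' t (β ≫ b) α ht (by
      rw [← Category.assoc, w, Category.assoc])
    obtain ⟨δ, -, hδ⟩ := hunivY T T' t (β ≫ b) (α ≫ a) ht (by
      rw [← Category.assoc, w, Category.assoc])
    have e1 : β ≫ j = δ := by
      apply hδ
      refine ⟨?_, ?_⟩
      · rw [← Category.assoc, w, Category.assoc]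
      · rw [Category.assoc, hjd]
    have e2 : γ ≫ m = δ := by
      apply hδ
      refine ⟨?_, ?_⟩
      · rw [← Category.assoc, hγ1, Category.assoc, hm1, Category.assoc]
      · rw [Category.assoc, hm2, hγ2]
    refine ⟨pullback.lift β γ (e1.trans e2.symm), ⟨?_, pullback.lift_fst _ _ _⟩, ?_⟩
    · apply pullback.hom_ext
      · rw [Category.assoc, pullback.lift_fst, Category.assoc, hl1, w]
      · rw [Category.assoc, pullback.lift_snd, Category.assoc, hl2, hγ1]
    · rintro a'' ⟨h1, h2⟩
      apply pullback.hom_ext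
      · rw [pullback.lift_fst, h2]
      · rw [pullback.lift_snd]
        apply hγ3
        refine ⟨?_, ?_⟩
        · rw [← Category.assoc, h1, Category.assoc, hl2]
        · rw [← hm2, Category.assoc, ← Category.assoc (pullback.snd j m), ← pullback.condition,
            Category.assoc, hjd, ← Category.assoc, h2]

end Groth.Agent.S9741
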