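import Groth.Statements.S9750
import Groth.Agent.Lib.Helper18.Thick
import Groth.Agent.Lib.Helper18.NrmSeq

set_option autoImplicit false
universe u
open FlatMor

namespace Groth.Agent.S9750

open AlgebraicGeometry CategoryTheory Limits in
/-- (1) ⇔ (2) ⇔ (3): a morphism f : X ⟶ S is formally étale (unique infinitesimal lifting against
square-zero thickenings of affine schemes) if and only if f is formally unramified and X, through
the identity and f, is its own universal square-zero (first order) thickening relative to f; and,
for f formally unramified with universal first order thickening data (i : X ⟶ X', h' : X' ⟶ S), f is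
formally étale if and only if the conormal sheaf of i (the conormal sheaf of f) is zero. The
published statement also lists a fourth equivalent condition, the vanishing of both the sheaf of
differentials and the conormal sheaf; this row omits it. -/
theorem result {X S : Scheme.{u}} (f : X ⟶ S) :
    (MoreMor.IsFormallyEtaleHom f ↔ FormallyUnramified f ∧ OmegaSh.IsUnivThickening f (𝟙 X) f) ∧
    (∀ {X' : Scheme.{u}} (i : X ⟶ X') (h' : X' ⟶ S) [QuasiCompact i], FormallyUnramified f →
      OmegaSh.IsUnivThickening f i h' → (MoreMor.IsFormallyEtaleHom f ↔ IsZero (Omega.conormal i))) := by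
  have part1 : MoreMor.IsFormallyEtaleHom f ↔
      FormallyUnramified f ∧ OmegaSh.IsUnivThickening f (𝟙 X) f := by
    constructor
    · intro hf
      refine ⟨Groth.Agent.Helper3.FormEt.formallyUnramified_of_appLE f (fun hU hV hUV =>
        (Groth.Agent.Helper3.FormEt.isFormallyEtaleHom_iff f).mp hf _ _ hU hV hUV),
        ⟨⟨inferInstance, inferInstance⟩, ?_⟩, Category.id_comp f, ?_⟩
      · rw [Scheme.Hom.ker_eq_bot_of_isIso]
        exact Scheme.IdealSheafData.bot_mul _
      · intro T T' t b a ht w
        have := Groth.Agent.Helper3.FormEt.lift_firstOrderThickening f hf t ht a b w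
        simpa only [Category.comp_id] using this
    · rintro ⟨-, hu⟩ A _ I hI a b w
      have := hu.2.2 _ _ _ b a
        (Groth.Agent.Helper18.Thick.specMap_mk_isFirstOrderThickening A I hI) w
      simpa only [Category.comp_id] using this
  refine ⟨part1, ?_⟩
  intro X' i h' _ hunr hu
  have hi := hu.1
  obtain ⟨⟨hicl, hisurj⟩, hiker⟩ := id hi
  have hic := hu.2.1
  have etale_of_iso : IsIso i → MoreMor.IsFormallyEtaleHom f := by
    intro hiso A _ I hI a b w
    obtain ⟨a', ⟨h1, h2⟩, h3⟩ := hu.2.2 _ _ _ b a
      (Groth.Agent.Helper18.Thick.specMap_mk_isFirstOrderThickening A I hI) w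
    have hinv : inv i ≫ f = h' := by rw [← hic, IsIso.inv_hom_id_assoc]
    refine ⟨a' ≫ inv i, ⟨by rw [← Category.assoc, h1, Category.assoc, IsIso.hom_inv_id,
      Category.comp_id], by rw [Category.assoc, hinv, h2]⟩, ?_⟩
    rintro l ⟨hl1, hl2⟩
    have : l ≫ i = a' := h3 _ ⟨by rw [← Category.assoc, hl1], by rw [Category.assoc, hic, hl2]⟩
    rw [← this, Category.assoc, IsIso.hom_inv_id, Category.comp_id]
  constructor
  · intro hf
    obtain ⟨r, ⟨hr1, hr2⟩, -⟩ := Groth.Agent.Helper3.FormEt.lift_firstOrderThickening f hf i hi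
      (𝟙 X) h' (by rw [hic, Category.id_comp])
    have hr3 : r ≫ i = 𝟙 X' := Groth.Agent.Helper18.Thick.unique_of_isUnivThickening f i h' hu i hi
      (r ≫ i) (𝟙 X') (by rw [← Category.assoc, hr1, Category.id_comp, Category.comp_id])
      (by rw [Category.assoc, hic, hr2, Category.id_comp])
    have hiso : IsIso i := ⟨r, hr1, hr3⟩
    have hz : IsZero (ClSub.idealMod i.ker) := by
      rw [IsZero.iff_id_eq_zero]
      ext U s
      apply OmegaSh.idealModι_app_injective U i.ker
      have h0 : i.app U (OmegaSh.idealSect i.ker U s) = 0 :=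
        Groth.Agent.Helper18.RecCS.app_idealSect i U s
      have hinj : Function.Injective (i.app U) :=
        (ConcreteCategory.bijective_of_isIso (i.app U)).1
      have h1 : OmegaSh.idealSect i.ker U s = 0 := hinj (by rw [h0, map_zero])
      change OmegaSh.idealSect i.ker U s = OmegaSh.idealSect i.ker U 0
      rw [h1, map_zero]
    exact (Scheme.Modules.pullback i).map_isZero hz
  · intro hz
    apply etale_of_iso
    rw [IsClosedImmersion.isIso_iff_ker_eq_bot, ← le_bot_iff]
    intro V x hx
    have hle : V.1 ≤ i.coborderRange := by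
      intro y _
      change y ∈ coborder (Set.range i)
      rw [i.isClosedEmbedding.isClosed_range.coborder_eq]
      trivial
    have hx0 : i.app V.1 x = 0 := by
      rw [Scheme.Hom.ker_apply, RingHom.mem_ker] at hx
      exact hx
    obtain ⟨s, hs⟩ := Groth.Agent.Helper18.RecCS.exists_idealSect_eq i V.2 x hx0
    have hs0 : OmegaSh.conormalSect i V.1 s = 0 := by
      have h1 : (𝟙 (Omega.conormal i)) = 0 := hz.eq_of_src _ _
      have h2 : Scheme.Modules.Hom.app (𝟙 (Omega.conormal i)) (i ⁻¹ᵁ V.1)
            (OmegaSh.conormalSect i V.1 s) =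
          Scheme.Modules.Hom.app (0 : Omega.conormal i ⟶ Omega.conormal i) (i ⁻¹ᵁ V.1)
            (OmegaSh.conormalSect i V.1 s) := by rw [h1]
      exact h2
    have h3 := Groth.Agent.Helper18.NrmSeq.ιlin_mem_sq i V.2 hle s hs0
    have h4 : Groth.Agent.Helper18.CnSeq.ιlin i V.1 s = x := hs
    rw [h4] at h3
    have h5 : (RingHom.ker (i.app V.1).hom) ^ 2 = (i.ker * i.ker).ideal V := by
      rw [Scheme.IdealSheafData.ideal_mul, Pi.mul_apply, Scheme.Hom.ker_apply, sq]
    rw [h5, hiker] at h3
    exact h3

end Groth.Agent.S9750
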