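import Groth.Statements.S9756
import Groth.Agent.Lib.Helper21.Slice3

set_option autoImplicit false
universe u
open FlatMor

namespace Groth.Agent.S9756

open AlgebraicGeometry CategoryTheory Limits in
/-- Let f : X ⟶ S be locally of finite presentation and flat at a point x, and assume the local ring of
the fibre X_{f x} at x has depth at least 1. Then there are an affine open U ∋ x and a
nonzerodivisor h' of Γ(X, U) vanishing at x such that the closed subscheme V(h') of U, an effective
Cartier divisor through x, is flat and locally of finite presentation over S. The published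
statement concludes that V(h') ⟶ S is of finite presentation; this row concludes only that it is
flat and locally of finite presentation, which is what the published argument (slicing by a lift of
a fibrewise nonzerodivisor) yields, and which is equivalent when S is quasi-separated, V(h') being
affine. -/
theorem result {X S : Scheme.{u}} (f : X ⟶ S) [LocallyOfFinitePresentation f] (x : X)
    (hflat : (f.stalkMap x).hom.Flat)
    (hdepth : 1 ≤ LocCoh.depth ↑((f.fiber (f x)).presheaf.stalk (f.asFiber x)) ↑((f.fiber (f x)).presheaf.stalk (f.asFiber x))) :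
    ∃ (U : X.Opens) (hU : IsAffineOpen U) (hx : x ∈ U) (h' : Γ(X, U)), h' ∈ nonZeroDivisors Γ(X, U) ∧
      X.presheaf.germ U x hx h' ∈ IsLocalRing.maximalIdeal ↑(X.presheaf.stalk x) ∧
      Flat (Spec.map (CommRingCat.ofHom (Ideal.Quotient.mk (Ideal.span {h'}))) ≫ hU.fromSpec ≫ f) ∧
      LocallyOfFinitePresentation (Spec.map (CommRingCat.ofHom (Ideal.Quotient.mk (Ideal.span {h'}))) ≫ hU.fromSpec ≫ f) := by
  classical
  have hex : ∃ r : ↑((f.fiber (f x)).presheaf.stalk (f.asFiber x)),
      r ∈ IsLocalRing.maximalIdeal ↑((f.fiber (f x)).presheaf.stalk (f.asFiber x)) ∧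
      r ∈ nonZeroDivisors ↑((f.fiber (f x)).presheaf.stalk (f.asFiber x)) := by
    by_contra hcon
    push Not at hcon
    have hle : LocCoh.depth ↑((f.fiber (f x)).presheaf.stalk (f.asFiber x))
        ↑((f.fiber (f x)).presheaf.stalk (f.asFiber x)) ≤ 0 := by
      unfold LocCoh.depth LocCoh.idealDepth
      split_ifs with htop
      · exfalso
        rw [smul_eq_mul, Ideal.mul_top] at htop
        exact (IsLocalRing.maximalIdeal.isMaximal _).ne_top htop
      · refine iSup₂_le fun rs hrs => ?_
        rcases rs with _ | ⟨r, rs⟩
        · simp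
        · exfalso
          have hr := hrs.2 r List.mem_cons_self
          have hreg := ((RingTheory.Sequence.isWeaklyRegular_cons_iff _ r rs).mp hrs.1).1
          refine hcon r hr ?_
          rw [mem_nonZeroDivisors_iff_left]
          intro c hc
          apply hreg
          change r • c = r • 0
          rw [smul_zero, smul_eq_mul]
          exact hc
    have h01 := hdepth.trans hle
    simp at h01
  obtain ⟨r, hrm, hrnzd⟩ := hex
  obtain ⟨h, rfl⟩ := Groth.Agent.Helper16.FibStalk.toFibStalk_surjective f x r
  have hm : h ∈ IsLocalRing.maximalIdeal (X.presheaf.stalk x) := by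
    rw [IsLocalRing.mem_maximalIdeal, mem_nonunits_iff] at hrm ⊢
    exact fun hu => hrm (hu.map _)
  have hreg : Ideal.Quotient.mk (Groth.Agent.Helper16.FibStalk.fibIdeal f x) h ∈
      nonZeroDivisors (X.presheaf.stalk x ⧸ Groth.Agent.Helper16.FibStalk.fibIdeal f x) := by
    rw [mem_nonZeroDivisors_iff_left]
    intro c hc
    have h1 : Groth.Agent.Helper16.FibStalk.fibStalkEquiv f x
        (Ideal.Quotient.mk (Groth.Agent.Helper16.FibStalk.fibIdeal f x) h * c) = 0 := by
      rw [hc, map_zero]
    rw [map_mul, Groth.Agent.Helper16.FibStalk.fibStalkEquiv_mk] at h1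
    have h2 := (mul_left_mem_nonZeroDivisors_eq_zero_iff hrnzd).mp h1
    exact (map_eq_zero_iff _ (Groth.Agent.Helper16.FibStalk.fibStalkEquiv f x).injective).mp h2
  obtain ⟨U, hU, hx, h', hgerm, hnzd, hfl, hlfp⟩ :=
    Groth.Agent.Helper21.Slice.slice_scheme f x hflat h hm hreg
  exact ⟨U, hU, hx, h', hnzd, hgerm ▸ hm, hfl, hlfp⟩

end Groth.Agent.S9756
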