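import Groth.Statements.S9757
import Groth.Agent.Lib.Helper16.Sch.GenFibDim

set_option autoImplicit false
universe u
open FlatMor

namespace Groth.Agent.S9757

open AlgebraicGeometry CategoryTheory Limits in
/-- Suppose the morphism f : X ⟶ S is flat and locally of finite presentation. Then X contains open
subsets U_d, indexed by d ∈ ℕ, such that for every s ∈ S the union of all U_d intersects the fibre
X_s in a dense subset of X_s, and each U_d ⟶ S is of relative dimension d. Because U_d is open in X,
this is the same as requiring that at every point x of U_d the fibre of f containing x has local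
dimension d at x; that pointwise form is the one this row uses. -/
theorem result {X S : Scheme.{u}} (f : X ⟶ S) [Flat f] [LocallyOfFinitePresentation f] :
    ∃ U : ℕ → X.Opens, (∀ s : S, Dense ((f.fiberι s) ⁻¹' ((⨆ d, U d : X.Opens) : Set ↑X))) ∧
      ∀ (d : ℕ) (x : ↑X), x ∈ U d → FlatMor.fibreDimAt f x = d := by
  classical
  refine ⟨fun d => sSup {W : X.Opens | ∀ y ∈ W, FlatMor.fibreDimAt f y = (d : WithBot ℕ∞)}, ?_, ?_⟩
  · intro s
    rw [dense_iff_inter_open]
    intro V hV hVne
    obtain ⟨v, hv⟩ := hVne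
    have hZ := irreducibleComponent_mem_irreducibleComponents v
    obtain ⟨ξ, hξ⟩ := QuasiSober.sober isIrreducible_irreducibleComponent
      (isClosed_irreducibleComponent (x := v))
    have hsp : ξ ⤳ v := by
      rw [specializes_iff_mem_closure, hξ.def]; exact mem_irreducibleComponent
    have hξV : ξ ∈ V := hsp.mem_open hV hv
    obtain ⟨U, n, hxU, hU⟩ := Groth.Agent.Helper16.GenFibDim.exists_open_fibreDimAt_eq f s ξ
      ⟨_, hZ, hξ⟩
    refine ⟨ξ, hξV, ?_⟩
    have h1 : U ≤ sSup {W : X.Opens | ∀ y ∈ W, FlatMor.fibreDimAt f y = (n : WithBot ℕ∞)} :=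
      le_sSup hU
    have h2 : sSup {W : X.Opens | ∀ y ∈ W, FlatMor.fibreDimAt f y = (n : WithBot ℕ∞)} ≤
        ⨆ d : ℕ, sSup {W : X.Opens | ∀ y ∈ W, FlatMor.fibreDimAt f y = (d : WithBot ℕ∞)} :=
      le_iSup (fun d : ℕ => sSup {W : X.Opens | ∀ y ∈ W, FlatMor.fibreDimAt f y = (d : WithBot ℕ∞)}) n
    exact h2 (h1 hxU)
  · intro d x hx
    rw [TopologicalSpace.Opens.mem_sSup] at hx
    obtain ⟨W, hW, hxW⟩ := hx
    exact hW x hxW

end Groth.Agent.S9757
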