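import Groth.Statements.S9759
import Groth.Agent.Lib.Helper21.FS11

set_option autoImplicit false
universe u
open FlatMor

namespace Groth.Agent.S9759

open AlgebraicGeometry CategoryTheory Limits in
/-- Let f : X ⟶ S be a flat morphism of finite presentation between affine schemes. Then f is the base
change of a morphism of finite type f₀ : X₀ ⟶ S₀ between affine schemes with S₀ of finite type over
ℤ and f₀ flat. -/
theorem result {X S : Scheme.{u}} (f : X ⟶ S) [IsAffine X] [IsAffine S] [LocallyOfFinitePresentation f] [Flat f] :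
    ∃ (X₀ S₀ : Scheme.{u}) (f₀ : X₀ ⟶ S₀) (g : S ⟶ S₀) (g' : X ⟶ X₀), IsAffine X₀ ∧ IsAffine S₀ ∧ IsPullback g' f f₀ g ∧
      Algebra.FiniteType ℤ Γ(S₀, ⊤) ∧ LocallyOfFiniteType f₀ ∧ Flat f₀ := by
  classical
  let φ : Γ(S, ⊤) ⟶ Γ(X, ⊤) := f.appTop
  letI : Algebra Γ(S, ⊤) Γ(X, ⊤) := φ.hom.toAlgebra
  have hfp : φ.hom.FinitePresentation :=
    (HasRingHomProperty.iff_of_isAffine (P := @LocallyOfFinitePresentation)).mp inferInstance
  have hfl : φ.hom.Flat :=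
    (HasRingHomProperty.iff_of_isAffine (P := @Flat)).mp inferInstance
  haveI : Algebra.FinitePresentation Γ(S, ⊤) Γ(X, ⊤) := hfp
  haveI : Module.Flat Γ(S, ⊤) Γ(X, ⊤) := hfl
  obtain ⟨R₀, _, _, S₀, _, _, _, _, _, _, hR₀, hS₀, hflat, hpo⟩ :=
    Groth.Agent.Helper21.FS.exists_flat_model Γ(S, ⊤) Γ(X, ⊤)
  have hpo' := CommRingCat.isPushout_of_isPushout R₀ Γ(S, ⊤) S₀ Γ(X, ⊤)
  have hR := (isPullback_SpecMap_of_isPushout _ _ _ _ hpo').flip
  have hcomm : X.toSpecΓ ≫ Spec.map (CommRingCat.ofHom (algebraMap Γ(S, ⊤) Γ(X, ⊤))) =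
      f ≫ S.toSpecΓ := (Scheme.toSpecΓ_naturality f).symm
  have hL : IsPullback X.toSpecΓ f (Spec.map (CommRingCat.ofHom (algebraMap Γ(S, ⊤) Γ(X, ⊤))))
      S.toSpecΓ := IsPullback.of_horiz_isIso ⟨hcomm⟩
  refine ⟨Spec (CommRingCat.of S₀), Spec (CommRingCat.of R₀),
    Spec.map (CommRingCat.ofHom (algebraMap R₀ S₀)),
    S.toSpecΓ ≫ Spec.map (CommRingCat.ofHom (algebraMap R₀ Γ(S, ⊤))),
    X.toSpecΓ ≫ Spec.map (CommRingCat.ofHom (algebraMap S₀ Γ(X, ⊤))),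
    inferInstance, inferInstance, hL.paste_horiz hR, ?_, ?_, ?_⟩
  · let e := Scheme.ΓSpecIso (CommRingCat.of R₀)
    refine Algebra.FiniteType.of_surjective (e.inv.hom.toIntAlgHom) ?_
    intro y
    refine ⟨e.hom.hom y, ?_⟩
    show e.inv.hom (e.hom.hom y) = y
    rw [← CommRingCat.comp_apply, e.hom_inv_id]
    rfl
  · rw [HasRingHomProperty.Spec_iff (P := @LocallyOfFiniteType)]
    exact RingHom.finiteType_algebraMap.mpr hS₀
  · rw [HasRingHomProperty.Spec_iff (P := @Flat)]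
    exact RingHom.flat_algebraMap_iff.mpr hflat

end Groth.Agent.S9759
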