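import Groth.Statements.S9769
import Groth.Agent.S1441
import Groth.Agent.Lib.Helper5.RPF3
import Groth.Agent.Lib.Helper13.LocFree2
import Groth.Agent.Lib.Helper28.FpqcDescent

set_option autoImplicit false
universe u
open FlatMor

namespace Groth.Agent.S9769

open AlgebraicGeometry CategoryTheory Limits in
/-- Let f : X ⟶ S be locally of finite presentation and F a finitely presented O_X-module which is flat
over S. Then the formation of the locus of points of X near which F is free (equivalently, for
finitely presented F, where the stalk of F is a free module) commutes with arbitrary base change: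
for a cartesian square with g' : X' ⟶ X over S' ⟶ S, the free locus of (g')^*F is the preimage of
that of F. The published statement also asserts that this locus is open; this row states only that
its formation commutes with base change. -/
theorem result {X S X' S' : Scheme.{u}} (f : X ⟶ S) [LocallyOfFinitePresentation f]
    (F : X.Modules) (hF : CohB1.IsFP F) (hfl : FlatMod.IsFlatOver f F)
    (g : S' ⟶ S) (f' : X' ⟶ S') (g' : X' ⟶ X) (hc : IsPullback g' f' f g) :
    {x' : ↑X' | Module.Free ↑(X'.presheaf.stalk x') ↑(((Scheme.Modules.pullback g').obj F).presheaf.stalk x')} =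
      g' ⁻¹' {x : ↑X | Module.Free ↑(X.presheaf.stalk x) ↑(F.presheaf.stalk x)} := by
  haveI := hF
  haveI hq : F.IsQuasicoherent := inferInstance
  haveI : LocallyOfFinitePresentation (𝟙 X ≫ f) := by rw [CategoryTheory.Category.id_comp]; infer_instance
  have hfl' : FlatMod.IsFlatOver (𝟙 X ≫ f) F := by rw [CategoryTheory.Category.id_comp]; exact hfl
  have hX : CategoryTheory.IsPullback g' (𝟙 X' ≫ f') (𝟙 X ≫ f) g := by
    rw [CategoryTheory.Category.id_comp, CategoryTheory.Category.id_comp]; exact hc
  have key := (Groth.Agent.S1441.result (𝟙 X) f F hq hF hfl').2 g g' f' hc g' (𝟙 X') hX (by simp)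
  haveI hF' := Groth.Agent.Helper28.FpqcDescent.isFinitePresentation_pullback g' F
  have hfree : ∀ (Z : AlgebraicGeometry.Scheme.{u}) (G : Z.Modules)
      [SheafOfModules.IsFinitePresentation (R := Z.ringCatSheaf) G] (z : Z),
      Module.Free ↑(Z.presheaf.stalk z) ↑(G.presheaf.stalk z) ↔ FlatMod.IsFlatOverAt (𝟙 Z) G z := by
    intro Z G _ z
    rw [Groth.Agent.Helper5.RPF.isFlatOverAt_id_iff]
    constructor
    · intro h
      exact Module.Flat.of_free
    · intro h
      haveI : Module.Finite (Z.presheaf.stalk z) (G.presheaf.stalk z) :=
        Groth.Agent.Helper13.LocFree.finite_stalk_of_isFiniteType G z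
      haveI : Module.Flat (Z.presheaf.stalk z) (G.presheaf.stalk z) := h
      exact Module.free_of_flat_of_isLocalRing
  ext x'
  simp only [Set.mem_ofPred_eq, Set.mem_preimage]
  rw [hfree X' _ x', hfree X F (g' x')]
  exact Set.ext_iff.mp key x'

end Groth.Agent.S9769
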