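import Groth.Statements.S9770
import Groth.Agent.Lib.Helper15.UoLim8

set_option autoImplicit false
universe u
open CategoryTheory AlgebraicGeometry
open FlatMor

namespace Groth.Agent.S9770

/-- Let S = lim S_i be a cofiltered limit of schemes with affine transition morphisms, i₀ an index with
S_{i₀} quasi-compact and quasi-separated, and f₀ : X₀ ⟶ Y₀ a morphism of schemes over S_{i₀} with X₀
and Y₀ quasi-compact and quasi-separated and f₀ locally of finite presentation. Write f : X ⟶ Y for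
the pullback of f₀ along S ⟶ S_{i₀} (all base changes given by pullback squares). Assuming f is
universally open and locally quasi-finite (with locally of finite type, as the book's notion
includes), there is a stage S_i over S_{i₀} where the pulled-back morphism f_i : X_i ⟶ Y_i already
has both properties. -/
theorem result {I : Type u} [SmallCategory I] [IsCofiltered I]
    (D : I ⥤ Scheme.{u}) (c : Limits.Cone D) (hc : Limits.IsLimit c)
    [∀ (i j : I) (φ : i ⟶ j), IsAffineHom (D.map φ)] (i₀ : I) [CompactSpace (D.obj i₀)] [QuasiSeparatedSpace (D.obj i₀)]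
    {X₀ Y₀ : Scheme.{u}} (f₀ : X₀ ⟶ Y₀) (g₀ : Y₀ ⟶ D.obj i₀) [CompactSpace X₀] [QuasiSeparatedSpace X₀]
    [CompactSpace Y₀] [QuasiSeparatedSpace Y₀] [LocallyOfFinitePresentation f₀]
    {X Y : Scheme.{u}} (f : X ⟶ Y) (g : Y ⟶ c.pt) (qY : Y ⟶ Y₀) (qX : X ⟶ X₀)
    (hY : IsPullback qY g g₀ (c.π.app i₀)) (hX : IsPullback qX f f₀ qY)
    [LocallyQuasiFinite f] [LocallyOfFiniteType f] [UniversallyOpen f] :
    ∃ (i : I) (φ : i ⟶ i₀) (Xi Yi : Scheme.{u}) (fi : Xi ⟶ Yi) (gi : Yi ⟶ D.obj i) (pY : Yi ⟶ Y₀) (pX : Xi ⟶ X₀),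
      IsPullback pY gi g₀ (D.map φ) ∧ IsPullback pX fi f₀ pY ∧ LocallyQuasiFinite fi ∧ LocallyOfFiniteType fi ∧ UniversallyOpen fi := by
  classical
  haveI hD : ∀ {i j : I} (φ : i ⟶ j), IsAffineHom (D.map φ) := fun φ => inferInstance
  let D' : Over i₀ ⥤ Scheme.{u} := Over.forget i₀ ⋙ D
  let s : Limits.Cocone D' := Groth.Agent.Helper15.UoLim.overCocone D i₀
  let c' : Limits.Cone D' := c.whisker (Over.forget i₀)
  have hc' : Limits.IsLimit c' := (Functor.Initial.isLimitWhiskerEquiv (Over.forget i₀) c).symm hc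
  have hθ : ∀ j : Over i₀, c'.π.app j ≫ s.ι.app j = c.π.app i₀ := fun j => c.w j.hom
  have hD' : ∀ {j k : Over i₀} (φ : j ⟶ k), IsAffineHom (D'.map φ) :=
    fun φ => inferInstanceAs (IsAffineHom (D.map φ.left))
  have hs : ∀ j : Over i₀, IsAffineHom (s.ι.app j) :=
    fun j => inferInstanceAs (IsAffineHom (D.map j.hom))
  -- identify `f` with the standard base change
  have hXY : IsPullback qX (f ≫ g) (f₀ ≫ g₀) (c.π.app i₀) := hX.paste_vert hY
  let eX := hXY.isoPullback
  let eY := hY.isoPullback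
  have hcomp : eX.hom ≫ Groth.Agent.Helper15.UoLim.fB f₀ g₀ (c.π.app i₀) = f ≫ eY.hom := by
    apply Limits.pullback.hom_ext
    · rw [Category.assoc, Groth.Agent.Helper15.UoLim.fB_fst, Category.assoc,
        IsPullback.isoPullback_hom_fst, ← Category.assoc, IsPullback.isoPullback_hom_fst, hX.w]
    · rw [Category.assoc, Groth.Agent.Helper15.UoLim.fB_snd, Category.assoc,
        IsPullback.isoPullback_hom_snd, IsPullback.isoPullback_hom_snd]
  have hfB : Groth.Agent.Helper15.UoLim.fB f₀ g₀ (c.π.app i₀) = eX.inv ≫ f ≫ eY.hom := by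
    rw [← hcomp, Iso.inv_hom_id_assoc]
  have hlqf : LocallyQuasiFinite (Groth.Agent.Helper15.UoLim.fB f₀ g₀ (c.π.app i₀)) := by
    rw [hfB]; infer_instance
  have huo : UniversallyOpen (Groth.Agent.Helper15.UoLim.fB f₀ g₀ (c.π.app i₀)) := by
    rw [hfB]; infer_instance
  obtain ⟨j, hj1, hj2⟩ := @Groth.Agent.Helper15.UoLim.exists_stage (Over i₀) inferInstance
    inferInstance D' hD' s c' hc' (c.π.app i₀) hθ X₀ Y₀ f₀ g₀ hs inferInstance inferInstance
    hlqf huo
  refine ⟨j.left, j.hom, Limits.pullback (f₀ ≫ g₀) (D.map j.hom), Limits.pullback g₀ (D.map j.hom),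
    Groth.Agent.Helper15.UoLim.fB f₀ g₀ (D.map j.hom), Limits.pullback.snd g₀ (D.map j.hom),
    Limits.pullback.fst g₀ (D.map j.hom), Limits.pullback.fst (f₀ ≫ g₀) (D.map j.hom),
    IsPullback.of_hasPullback _ _, Groth.Agent.Helper15.UoLim.isPullback_fB f₀ g₀ (D.map j.hom),
    hj1, inferInstance, hj2⟩

end Groth.Agent.S9770
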