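import Groth.Statements.S9778
import Groth.Agent.Lib.Helper16.Sch.QFPI

set_option autoImplicit false
universe u
open FlatMor

namespace Groth.Agent.S9778

open AlgebraicGeometry CategoryTheory Limits in
/-- Let f : X ⟶ S be separated and locally of finite type, s a point of S and x_1, …, x_n pairwise
distinct points of X over s at which f is quasi-finite (isolated points of the fibre). Then there
are an étale morphism g : U ⟶ S with a point u over s and finitely many pairwise disjoint open and
closed subschemes V_{i,j} of X_U = X ×_S U, each finite over U and containing exactly one point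
v_{i,j} over u, with v_{i,j} mapping to x_i and κ(v_{i,j}) purely inseparable over κ(u), such that
every point of X_U over u mapping to some x_i lies in one of the V_{i,j} (so the open and closed
complement W of their union has no point over u mapping to any x_i). -/
theorem result {X S : Scheme.{u}} (f : X ⟶ S) [LocallyOfFiniteType f] [IsSeparated f] (s : S)
    {ι : Type} [Finite ι] (x : ι → ↑X) (hinj : Function.Injective x) (hs : ∀ i, f (x i) = s) (hx : ∀ i, f.QuasiFiniteAt (x i)) :
    ∃ (U : Scheme.{u}) (g : U ⟶ S) (u : U), Etale g ∧ g u = s ∧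
      ∃ (J : ι → Type) (_ : ∀ i, Finite (J i)) (V : ∀ i, J i → (pullback f g).Opens) (v : ∀ i, J i → ↑(pullback f g)),
        (∀ i j, IsClopen ((V i j : Set ↑(pullback f g)))) ∧
        (∀ i j i' j', ((V i j : Set ↑(pullback f g)) ∩ (V i' j')).Nonempty → i = i' ∧ HEq j j') ∧
        (∀ i j, v i j ∈ V i j ∧ IsFinite ((V i j).ι ≫ pullback.snd f g) ∧ pullback.snd f g (v i j) = u ∧
          (∀ w : ↑(pullback f g), w ∈ V i j → pullback.snd f g w = u → w = v i j) ∧
          (letI := ((pullback.snd f g).residueFieldMap (v i j)).hom.toAlgebra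
           IsPurelyInseparable ↑(U.residueField (pullback.snd f g (v i j))) ↑((pullback f g).residueField (v i j))) ∧
          pullback.fst f g (v i j) = x i) ∧
        (∀ (w : ↑(pullback f g)) (i : ι), pullback.snd f g w = u → pullback.fst f g w = x i → ∃ j, w ∈ V i j) := by
  obtain ⟨R', g, u, hg, hgu, hpd⟩ := Groth.Agent.Helper16.QFPI.qfMain_pi f s x hs hx
  obtain ⟨J, hJ, V, v, h1, h2, h3⟩ := Groth.Agent.Helper16.QFSch.combineQF f R' g u x hinj
    (Groth.Agent.Helper16.QFPI.ΦPI R')
    (fun v => letI := ((pullback.snd f g).residueFieldMap v).hom.toAlgebra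
      Module.Finite ((Spec R').residueField (pullback.snd f g v)) ((pullback f g).residueField v) ∧
      IsPurelyInseparable ((Spec R').residueField (pullback.snd f g v))
        ((pullback f g).residueField v))
    (fun Q α h hoi r hsnd hΦ =>
      Groth.Agent.Helper16.QFPI.ΦPI_transfer (pullback.snd f g) α h r hsnd hΦ) hpd
  haveI := hJ
  obtain ⟨V', hle, hclopen, hdisj, h4⟩ := Groth.Agent.Helper16.QFSch.separate
    (pullback.snd f g) u J V v
    (fun i j => ⟨(h1 i j).1, (h1 i j).2.1, (h1 i j).2.2.1, (h1 i j).2.2.2.1⟩) h2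
  refine ⟨Spec R', g, u, hg, hgu, J, hJ, V', v, hclopen, hdisj, ?_, ?_⟩
  · intro i j
    exact ⟨(h4 i j).1, (h4 i j).2, (h1 i j).2.2.1,
      fun w hw hwu => (h1 i j).2.2.2.1 w (hle i j hw) hwu,
      (h1 i j).2.2.2.2.1.2, (h1 i j).2.2.2.2.2⟩
  · intro w i hwu hwx
    obtain ⟨j, rfl⟩ := h3 w i hwu hwx
    exact ⟨j, (h4 i j).1⟩

end Groth.Agent.S9778
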