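import Groth.Statements.S9792
import Mathlib.RingTheory.Ideal.KrullsHeightTheorem

set_option autoImplicit false
universe u
open CategoryTheory AlgebraicGeometry TopologicalSpace
open Props

namespace Groth.Agent.S9792

/-- no infinite strictly descending chain of specializations in a noetherian space -/
theorem no_spec_chain {X : Type u} [TopologicalSpace X] [T0Space X]
    [TopologicalSpace.NoetherianSpace X] (x : ℕ → X) (hx : Function.Injective x)
    (h : ∀ m n : ℕ, m < n → x m ⤳ x n) : False := by
  have htfae : TopologicalSpace.NoetherianSpace X ↔ WellFoundedLT (TopologicalSpace.Closeds X) :=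
    (TopologicalSpace.noetherianSpace_TFAE X).out 0 1
  haveI : WellFoundedLT (TopologicalSpace.Closeds X) := htfae.1 ‹_›
  let C : ℕ → TopologicalSpace.Closeds X := fun n => ⟨closure {x n}, isClosed_closure⟩
  obtain ⟨n, hn⟩ := @WellFounded.not_rel_apply_succ (TopologicalSpace.Closeds X) (fun a b => a < b) inferInstance C
  apply hn
  have hle : C (n + 1) ≤ C n := by
    show closure {x (n + 1)} ⊆ closure {x n}
    exact specializes_iff_closure_subset.1 (h n (n + 1) (Nat.lt_succ_self n))
  refine lt_of_le_of_ne hle ?_
  intro heq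
  have h1 : x n ∈ closure {x (n + 1)} := by
    have : (C (n + 1) : Set X) = C n := congrArg _ heq
    show x n ∈ (C (n + 1) : Set X)
    rw [this]
    exact subset_closure rfl
  have h2 : x (n + 1) ⤳ x n := specializes_iff_mem_closure.2 h1
  have h3 : x n = x (n + 1) := ((h n (n + 1) (Nat.lt_succ_self n)).antisymm h2).eq
  exact absurd (hx h3) (by omega)

/-- no infinite strictly ascending chain of generizations in a noetherian scheme -/
theorem no_gen_chain (S : Scheme.{u}) [IsNoetherian S] (y : ℕ → S) (hy : Function.Injective y)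
    (h : ∀ m n : ℕ, m < n → y n ⤳ y m) : False := by
  obtain ⟨_, ⟨U, hU : IsAffineOpen U, rfl⟩, htU, -⟩ :=
    S.isBasis_affineOpens.exists_subset_of_mem_open (Set.mem_univ (y 0)) isOpen_univ
  haveI : IsNoetherianRing Γ(S, U) := IsLocallyNoetherian.component_noetherian ⟨U, hU⟩
  let e : ↥U ≃ₜ PrimeSpectrum Γ(S, U) := Scheme.homeoOfIso hU.isoSpec
  have hmem : ∀ n, y n ∈ U := by
    intro n
    rcases Nat.eq_zero_or_pos n with rfl | hn
    · exact htU
    · exact (h 0 n hn).mem_open U.isOpen htU
  let p : ℕ → PrimeSpectrum Γ(S, U) := fun n => e ⟨y n, hmem n⟩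
  obtain ⟨n, hn⟩ := @WellFounded.not_rel_apply_succ ℕ∞ (fun a b => a < b) inferInstance (fun n => (p n).asIdeal.height)
  apply hn
  have hsp : p (n + 1) ⤳ p n := by
    show e _ ⤳ e _
    rw [e.isInducing.specializes_iff, subtype_specializes_iff]
    exact h n (n + 1) (Nat.lt_succ_self n)
  have hle : p (n + 1) ≤ p n := (PrimeSpectrum.le_iff_specializes _ _).2 hsp
  have hne : p (n + 1) ≠ p n := by
    intro heq
    have h3 := congrArg Subtype.val (e.injective heq)
    exact absurd (hy h3) (by omega)
  have hlt' : p (n + 1) < p n := lt_of_le_of_ne hle hne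
  have hlt : (p (n + 1)).asIdeal < (p n).asIdeal := hlt'
  exact Ideal.height_strict_mono_of_isPrime_of_isPrime hlt

/-- In a Noetherian scheme, every infinite set of points contains an infinite subset no two distinct
members of which are related by specialization. -/
theorem result (S : Scheme.{u}) [IsNoetherian S]
    (T : Set S) (hT : T.Infinite) :
    ∃ T' : Set S, T' ⊆ T ∧ T'.Infinite ∧ ∀ a ∈ T', ∀ b ∈ T', a ⤳ b → a = b := by
  haveI : IsTrans S (fun a b : S => a ⤳ b) := ⟨fun _ _ _ h1 h2 => h1.trans h2⟩
  haveI : IsTrans S (fun a b : S => b ⤳ a) := ⟨fun _ _ _ h1 h2 => h2.trans h1⟩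
  obtain ⟨g, hg | hg⟩ := exists_increasing_or_nonincreasing_subseq (fun a b : S => a ⤳ b)
    (fun n => ((hT.natEmbedding T n : T) : S))
  · exfalso
    refine no_spec_chain (fun n => ((hT.natEmbedding T (g n) : T) : S)) ?_ hg
    intro a b hab
    exact g.injective ((hT.natEmbedding T).injective (Subtype.ext hab))
  · obtain ⟨k, hk | hk⟩ := exists_increasing_or_nonincreasing_subseq (fun a b : S => b ⤳ a)
      (fun n => ((hT.natEmbedding T (g n) : T) : S))
    · exfalso
      refine no_gen_chain S (fun n => ((hT.natEmbedding T (g (k n)) : T) : S)) ?_ hk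
      intro a b hab
      exact k.injective (g.injective ((hT.natEmbedding T).injective (Subtype.ext hab)))
    · let F : ℕ → S := fun n => ((hT.natEmbedding T (g (k n)) : T) : S)
      have hFinj : Function.Injective F := by
        intro a b hab
        exact k.injective (g.injective ((hT.natEmbedding T).injective (Subtype.ext hab)))
      refine ⟨Set.range F, ?_, Set.infinite_range_of_injective hFinj, ?_⟩
      · rintro _ ⟨n, rfl⟩
        exact (hT.natEmbedding T (g (k n))).2
      · rintro _ ⟨m, rfl⟩ _ ⟨n, rfl⟩ hsp
        rcases lt_trichotomy m n with hmn | hmn | hmn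
        · exfalso
          exact hg (k m) (k n) (k.lt_iff_lt.2 hmn) hsp
        · rw [hmn]
        · exfalso
          exact hk n m hmn hsp

end Groth.Agent.S9792
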