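import Groth.Statements.S9793
import Mathlib.RingTheory.Ideal.KrullsHeightTheorem

set_option autoImplicit false
universe u
open CategoryTheory AlgebraicGeometry TopologicalSpace
open Props

namespace Groth.Agent.S9793

theorem affine_case (R : Type u) [CommRing R] [IsNoetherianRing R] (T : Set (PrimeSpectrum R))
    (t : PrimeSpectrum R) (ht : t ∈ T) :
    ∃ t₀ ∈ T, (∀ t' ∈ T, t' ⤳ t₀ → t' = t₀) ∧ t₀ ⤳ t := by
  obtain ⟨t₀, ⟨ht₀T, ht₀t⟩, hmin⟩ := exists_minimalFor_of_wellFoundedLT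
    (fun p : PrimeSpectrum R => p ∈ T ∧ p ≤ t) (fun p => p.asIdeal.height) ⟨t, ht, le_rfl⟩
  refine ⟨t₀, ht₀T, ?_, (PrimeSpectrum.le_iff_specializes _ _).1 ht₀t⟩
  intro t' ht'T ht'
  have hle : t' ≤ t₀ := (PrimeSpectrum.le_iff_specializes _ _).2 ht'
  by_contra hne
  have hlt : t' < t₀ := lt_of_le_of_ne hle hne
  have hlt' : t'.asIdeal < t₀.asIdeal := hlt
  have h1 : t'.asIdeal.height < t₀.asIdeal.height :=
    Ideal.height_strict_mono_of_isPrime_of_isPrime hlt'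
  have h2 := hmin ⟨ht'T, hle.trans ht₀t⟩ h1.le
  exact absurd h1 (not_lt.2 h2)

/-- Let S be a Noetherian scheme and T a set of points of S. Every point of T is a specialization of
some point of T which admits no non-trivial generization lying in T. -/
theorem result (S : Scheme.{u}) [IsNoetherian S]
    (T : Set S) (t : S) (ht : t ∈ T) :
    ∃ t₀ ∈ T, (∀ t' ∈ T, t' ⤳ t₀ → t' = t₀) ∧ t₀ ⤳ t := by
  obtain ⟨_, ⟨U, hU : IsAffineOpen U, rfl⟩, htU, -⟩ :=
    S.isBasis_affineOpens.exists_subset_of_mem_open (Set.mem_univ t) isOpen_univ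
  haveI : IsNoetherianRing Γ(S, U) := IsLocallyNoetherian.component_noetherian ⟨U, hU⟩
  let e : ↥U ≃ₜ PrimeSpectrum Γ(S, U) := Scheme.homeoOfIso hU.isoSpec
  obtain ⟨p₀, ⟨u₀, hu₀T, rfl⟩, hmax, hsp⟩ := affine_case Γ(S, U)
    (e '' (Subtype.val ⁻¹' T)) (e ⟨t, htU⟩) ⟨⟨t, htU⟩, ht, rfl⟩
  refine ⟨u₀.1, hu₀T, ?_, ?_⟩
  · intro t' ht'T ht'
    have ht'U : t' ∈ U := ht'.mem_open U.isOpen u₀.2
    have h1 : e ⟨t', ht'U⟩ ⤳ e u₀ := by
      rw [e.isInducing.specializes_iff, subtype_specializes_iff]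
      exact ht'
    have h2 := hmax _ ⟨⟨t', ht'U⟩, ht'T, rfl⟩ h1
    have h3 := e.injective h2
    exact congrArg Subtype.val h3
  · rw [e.isInducing.specializes_iff, subtype_specializes_iff] at hsp
    exact hsp

end Groth.Agent.S9793
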