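import Groth.Statements.S9795
import Groth.Agent.Lib.Helper2.DimZero
import Groth.Agent.S10953
-- import your own Groth.Agent.* helpers here

set_option autoImplicit false
universe u
open CategoryTheory AlgebraicGeometry TopologicalSpace
open Props

namespace Groth.Agent.S9795

section
open CategoryTheory AlgebraicGeometry TopologicalSpace Limits Groth.Agent.Helper2.DimZero

/-- quasi-separated + trivial specialization ⟹ any two points lie in a common affine open. -/
theorem exists_common_affine {X : Scheme.{u}} [QuasiSeparatedSpace X]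
    (hsp : ∀ x y : X, x ⤳ y → x = y) (x y : X) :
    ∃ U : X.Opens, IsAffineOpen U ∧ x ∈ U ∧ y ∈ U := by
  obtain ⟨_, ⟨U, hU, rfl⟩, hxU, -⟩ :=
    X.isBasis_affineOpens.exists_subset_of_mem_open (Set.mem_univ x) isOpen_univ
  obtain ⟨_, ⟨V, hV, rfl⟩, hyV, -⟩ :=
    X.isBasis_affineOpens.exists_subset_of_mem_open (Set.mem_univ y) isOpen_univ
  have hU' : IsAffineOpen U := hU
  have hV' : IsAffineOpen V := hV
  by_cases hxV : x ∈ V
  · exact ⟨V, hV', hxV, hyV⟩
  · have hVcl : IsClosed (V : Set X) := isClosed_of_isCompact_isOpen hsp V.isOpen hV'.isCompact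
    let U' : X.Opens := ⟨(U : Set X) ∩ (V : Set X)ᶜ, U.isOpen.inter hVcl.isOpen_compl⟩
    have hU'le : U' ≤ U := fun z hz => hz.1
    have hU'aff : IsAffineOpen U' := by
      apply isAffineOpen_of_le_of_isClosed hU' hU'le
      have : (Subtype.val ⁻¹' (U' : Set X) : Set ↥U) = Subtype.val ⁻¹' ((V : Set X)ᶜ) := by
        ext z
        simp only [Set.mem_preimage]
        constructor
        · intro h; exact h.2
        · intro h; exact ⟨z.2, h⟩
      rw [this]
      exact hVcl.isOpen_compl.isClosed_compl |> fun _ =>
        (isClosed_compl_iff.mpr V.isOpen).preimage continuous_subtype_val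
    have hd : Disjoint U' V := by
      rw [disjoint_iff]
      ext z
      simp only [Opens.coe_inf, Set.mem_inter_iff, SetLike.mem_coe, Opens.coe_bot,
        Set.mem_empty_iff_false, iff_false, not_and]
      intro h1 h2
      exact h1.2 h2
    refine ⟨U' ⊔ V, isAffineOpen_sup_of_disjoint hU'aff hV' hd, Or.inl ⟨hxU, hxV⟩, Or.inr hyV⟩

theorem isSeparated_of_specializes_trivial {X : Scheme.{u}} [QuasiSeparatedSpace X]
    (hsp : ∀ x y : X, x ⤳ y → x = y) : X.IsSeparated :=
  ⟨Groth.Agent.S10953.main (terminal.from X) (fun x y _ => exists_common_affine hsp x y)⟩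

theorem main (X : Scheme.{u}) [QuasiSeparatedSpace X]
    (h : topologicalKrullDim X ≤ 0) : X.IsSeparated :=
  isSeparated_of_specializes_trivial (fun _ _ hxy => eq_of_specializes h hxy)

end

/-- A quasi-separated scheme of dimension at most zero is separated. -/
theorem result (X : Scheme.{u}) [QuasiSeparatedSpace X]
    (h : topologicalKrullDim X ≤ 0) : X.IsSeparated := by
  exact Groth.Agent.S9795.main X h

end Groth.Agent.S9795
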