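import Groth.Statements.S9797
import Groth.Agent.Lib.Helper2.DimZero
import Groth.Agent.S9795
-- import your own Groth.Agent.* helpers here

set_option autoImplicit false
universe u
open CategoryTheory AlgebraicGeometry TopologicalSpace
open Props

namespace Groth.Agent.S9797

section
open CategoryTheory AlgebraicGeometry TopologicalSpace Limits Groth.Agent.Helper2.DimZero

theorem isAffineOpen_sup {X : Scheme.{u}} [QuasiSeparatedSpace X]
    (hsp : ∀ x y : X, x ⤳ y → x = y) {U V : X.Opens} (hU : IsAffineOpen U)
    (hV : IsAffineOpen V) : IsAffineOpen (U ⊔ V) := by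
  have hVcl : IsClosed (V : Set X) := isClosed_of_isCompact_isOpen hsp V.isOpen hV.isCompact
  let U' : X.Opens := ⟨(U : Set X) ∩ (V : Set X)ᶜ, U.isOpen.inter hVcl.isOpen_compl⟩
  have hU'le : U' ≤ U := fun z hz => hz.1
  have hU'aff : IsAffineOpen U' := by
    apply isAffineOpen_of_le_of_isClosed hU hU'le
    have : (Subtype.val ⁻¹' (U' : Set X) : Set ↥U) = Subtype.val ⁻¹' ((V : Set X)ᶜ) := by
      ext z
      simp only [Set.mem_preimage]
      constructor
      · intro h; exact h.2
      · intro h; exact ⟨z.2, h⟩
    rw [this]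
    exact (isClosed_compl_iff.mpr V.isOpen).preimage continuous_subtype_val
  have hd : Disjoint U' V := by
    rw [disjoint_iff]
    ext z
    simp only [Opens.coe_inf, Set.mem_inter_iff, SetLike.mem_coe, Opens.coe_bot,
      Set.mem_empty_iff_false, iff_false, not_and]
    intro h1 h2
    exact h1.2 h2
  have : U ⊔ V = U' ⊔ V := by
    ext z
    simp only [Opens.coe_sup, Set.mem_union, SetLike.mem_coe]
    constructor
    · rintro (h | h)
      · by_cases hz : z ∈ V
        · exact Or.inr hz
        · exact Or.inl ⟨h, hz⟩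
      · exact Or.inr h
    · rintro (h | h)
      · exact Or.inl h.1
      · exact Or.inr h
  rw [this]
  exact isAffineOpen_sup_of_disjoint hU'aff hV hd

theorem isAffineOpen_of_isCompact {X : Scheme.{u}} [QuasiSeparatedSpace X]
    (hsp : ∀ x y : X, x ⤳ y → x = y) (U : X.Opens) (hU : IsCompact (U : Set X)) :
    IsAffineOpen U := by
  refine compact_open_induction_on (P := fun W : X.Opens => IsAffineOpen W) U hU ?_ ?_
  · exact isAffineOpen_bot X
  · intro S _ V hS
    exact isAffineOpen_sup hsp hS V.2

theorem main (X : Scheme.{u}) [X.IsSeparated]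
    (h : topologicalKrullDim X ≤ 0) (U : X.Opens) (hU : IsCompact (U : Set X)) :
    IsAffineOpen U :=
  isAffineOpen_of_isCompact (fun _ _ hxy => eq_of_specializes h hxy) U hU

theorem main9796 (X : Scheme.{u}) [X.IsSeparated]
    (h : topologicalKrullDim X ≤ 0) : T2Space X ∧ TotallyDisconnectedSpace X := by
  haveI := totallySeparatedSpace (X := X) (fun _ _ hxy => eq_of_specializes h hxy)
  refine ⟨⟨fun x y hxy => ?_⟩, inferInstance⟩
  obtain ⟨U, hU, hxU, hyU⟩ := exists_isClopen_of_totally_separated hxy
  exact ⟨U, Uᶜ, hU.isOpen, hU.compl.isOpen, hxU, hyU, disjoint_compl_right⟩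

theorem main9830 (X : Scheme.{u}) [T2Space X] : X.IsSeparated :=
  Groth.Agent.S9795.isSeparated_of_specializes_trivial (fun _ _ hxy => hxy.eq)

end

/-- In a separated scheme of dimension at most zero, every quasi-compact open is affine. -/
theorem result (X : Scheme.{u}) [X.IsSeparated]
    (h : topologicalKrullDim X ≤ 0) (U : X.Opens) (hU : IsCompact (U : Set X)) :
    IsAffineOpen U := by
  exact Groth.Agent.S9797.main X h U hU

end Groth.Agent.S9797
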