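import Groth.Statements.S9798
import Groth.Agent.Lib.Helper9.TopDim
-- import your own Groth.Agent.* helpers here

set_option autoImplicit false
universe u
open CategoryTheory AlgebraicGeometry TopologicalSpace
open Props

namespace Groth.Agent.S9798

section
open CategoryTheory AlgebraicGeometry TopologicalSpace Limits Groth.Agent.Helper9.TopDim

theorem main (X : Scheme.{u}) [IsLocallyNoetherian X] (x : X) :
    FlatMor.localDim X x = 0 ↔ IsOpen ({x} : Set X) := by
  have hnonneg : 0 ≤ FlatMor.localDim X x := by
    unfold FlatMor.localDim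
    refine le_iInf ?_
    rintro ⟨U, hU⟩
    have : Nonempty (U : Set X) := ⟨⟨x, hU⟩⟩
    exact dim_nonneg_of_nonempty
  constructor
  · intro h
    have h1 : FlatMor.localDim X x < 1 := by rw [h]; exact zero_lt_one
    unfold FlatMor.localDim at h1
    rw [iInf_lt_iff] at h1
    obtain ⟨⟨U, hU⟩, hUd⟩ := h1
    obtain ⟨_, ⟨V, hV, rfl⟩, hxV, -⟩ :=
      X.isBasis_affineOpens.exists_subset_of_mem_open (Set.mem_univ x) isOpen_univ
    have hV : IsAffineOpen V := hV
    haveI : IsNoetherianRing Γ(X, V) := IsLocallyNoetherian.component_noetherian ⟨V, hV⟩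
    have hVN : NoetherianSpace (V : Set X) := noetherianSpace_of_isAffineOpen V hV
    let W : Opens X := U ⊓ V
    have hxW : x ∈ W := ⟨hU, hxV⟩
    have hWN : NoetherianSpace (W : Set X) := by
      rw [noetherianSpace_set_iff]
      intro t ht
      exact (noetherianSpace_set_iff _).mp hVN t (ht.trans inf_le_right)
    have hWd : topologicalKrullDim (W : Set X) ≤ topologicalKrullDim (U : Set X) :=
      dim_le_of_range_subset (X := X) (A := ((W : Set X) : Type u)) (B := ((U : Set X) : Type u))
        (f := Subtype.val) (g := Subtype.val) Topology.IsInducing.subtypeVal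
        Topology.IsInducing.subtypeVal (by
          rw [Subtype.range_coe, Subtype.range_coe]
          exact inf_le_left)
    have : Nonempty (W : Set X) := ⟨⟨x, hxW⟩⟩
    have hW0 : topologicalKrullDim (W : Set X) = 0 :=
      le_antisymm ((lt_one_iff_le_zero _).1 (lt_of_le_of_lt hWd hUd)) dim_nonneg_of_nonempty
    obtain ⟨_, hdisc⟩ := dim_eq_zero_iff_finite_discrete.1 hW0
    have hopen : IsOpen ({⟨x, hxW⟩} : Set (W : Set X)) := isOpen_discrete _
    have := W.isOpen.isOpenEmbedding_subtypeVal.isOpenMap _ hopen
    simpa using this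
  · intro h
    refine le_antisymm ?_ hnonneg
    refine (localDim_le_of_mem ⟨{x}, h⟩ x rfl).trans ?_
    have : DiscreteTopology (({x} : Set X)) := inferInstance
    exact topologicalKrullDim_zero_of_discreteTopology _

end

/-- A point of a locally Noetherian scheme has local dimension zero exactly when it is isolated. -/
theorem result (X : Scheme.{u}) [IsLocallyNoetherian X] (x : X) :
    FlatMor.localDim X x = 0 ↔ IsOpen ({x} : Set X) := by
  exact Groth.Agent.S9798.main X x

end Groth.Agent.S9798
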