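import Groth.Statements.S9799

set_option autoImplicit false
universe u
open CategoryTheory AlgebraicGeometry TopologicalSpace
open Props

namespace Groth.Agent.S9799

/-- Two irreducible components through a point whose local ring is a domain coincide. -/
theorem eq_of_mem_of_isDomain_stalk (X : Scheme.{u}) (x : X) [IsDomain (X.presheaf.stalk x)]
    {Z Z' : Set X} (hZ : Z ∈ irreducibleComponents X) (hZ' : Z' ∈ irreducibleComponents X)
    (hx : x ∈ Z) (hx' : x ∈ Z') : Z = Z' := by
  let bot : Spec (X.presheaf.stalk x) := (⊥ : PrimeSpectrum (X.presheaf.stalk x))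
  set ζ : X := X.fromSpecStalk x bot with hζ
  have key : ∀ W : Set X, W ∈ irreducibleComponents X → x ∈ W → W = closure {ζ} := by
    intro W hW hxW
    have hcl : IsClosed W := isClosed_of_mem_irreducibleComponents W hW
    obtain ⟨η, hη⟩ := QuasiSober.sober hW.1 hcl
    have hηx : η ⤳ x := by
      rw [specializes_iff_mem_closure, hη.def]; exact hxW
    have hmem : η ∈ Set.range (X.fromSpecStalk x) := by
      rw [Scheme.range_fromSpecStalk]; exact hηx
    obtain ⟨p, hp⟩ := hmem
    have h1 : bot ⤳ p :=
      (PrimeSpectrum.le_iff_specializes (⊥ : PrimeSpectrum (X.presheaf.stalk x)) p).1 bot_le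
    have h2 : ζ ⤳ η := by
      rw [← hp]; exact h1.map (X.fromSpecStalk x).continuous
    have h3 : W ⊆ closure {ζ} := by
      rw [← hη.def]
      exact closure_minimal (Set.singleton_subset_iff.2 (specializes_iff_mem_closure.1 h2))
        isClosed_closure
    exact Set.Subset.antisymm h3 (hW.2 isIrreducible_singleton.closure h3)
  rw [key Z hZ hx, key Z' hZ' hx']


/-- Let X be a normal scheme (all local rings are integrally closed domains) such that every
quasi-compact open subset has finitely many irreducible components. Then the irreducible components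
of X are open and pairwise disjoint; hence X is the disjoint union of its irreducible components,
each an open subscheme which is normal and integral. -/
theorem result (X : Scheme.{u})
    (hfin : ∀ U : X.Opens, IsCompact (U : Set X) → (irreducibleComponents ↥U).Finite)
    (hN : Pi1.IsNormalScheme X) :
    (∀ Z ∈ irreducibleComponents X, IsOpen Z) ∧
      ∀ Z ∈ irreducibleComponents X, ∀ Z' ∈ irreducibleComponents X, Z ≠ Z' → Disjoint Z Z' := by
  have huniq : ∀ (x : X) (Z Z' : Set X), Z ∈ irreducibleComponents X →
      Z' ∈ irreducibleComponents X → x ∈ Z → x ∈ Z' → Z = Z' := by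
    intro x Z Z' hZ hZ' hx hx'
    haveI : IsDomain (X.presheaf.stalk x) := (hN x).1
    exact eq_of_mem_of_isDomain_stalk X x hZ hZ' hx hx'
  -- every irreducible set through `x` lies in the component through `x`
  have hsub : ∀ (x : X) (Z : Set X), Z ∈ irreducibleComponents X → x ∈ Z →
      ∀ V : Set X, IsIrreducible V → x ∈ V → V ⊆ Z := by
    intro x Z hZ hx V hV hxV
    obtain ⟨t, ht, hVt, hmax⟩ := exists_preirreducible V hV.2
    have htirr : IsIrreducible t := ⟨⟨x, hVt hxV⟩, ht⟩
    have htc : t ∈ irreducibleComponents X := by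
      refine ⟨htirr, fun u hu htu => ?_⟩
      rw [hmax u hu.2 htu]
    rw [huniq x Z t hZ htc hx (hVt hxV)]
    exact hVt
  refine ⟨fun Z hZ => ?_, fun Z hZ Z' hZ' hne => ?_⟩
  · rw [isOpen_iff_mem_nhds]
    intro x hx
    obtain ⟨_, ⟨U, hU, rfl⟩, hxU, -⟩ :=
      (X.isBasis_affineOpens).exists_subset_of_mem_open (Set.mem_univ x) isOpen_univ
    let U' : X.Opens := U
    have hfinU := hfin U' hU.isCompact
    let x' : ↥U' := ⟨x, hxU⟩
    -- the union of the components of `U` not containing `x`
    let D : Set ↥U' := ⋃₀ {C | C ∈ irreducibleComponents ↥U' ∧ x' ∉ C}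
    have hDcl : IsClosed D := by
      change IsClosed (⋃₀ {C | C ∈ irreducibleComponents ↥U' ∧ x' ∉ C})
      rw [Set.sUnion_eq_biUnion]
      refine Set.Finite.isClosed_biUnion (hfinU.subset (fun C hC => hC.1)) ?_
      intro C hC
      exact isClosed_of_mem_irreducibleComponents C hC.1
    have hxD : x' ∉ D := by
      rintro ⟨C, hC, hxC⟩
      exact hC.2 hxC
    -- the open neighbourhood
    let V' : Set ↥U' := Dᶜ
    have hV'open : IsOpen V' := hDcl.isOpen_compl
    have hemb : Topology.IsOpenEmbedding (Subtype.val : ↥U' → X) := U'.2.isOpenEmbedding_subtypeVal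
    have hVopen : IsOpen (Subtype.val '' V') := hemb.isOpenMap _ hV'open
    refine Filter.mem_of_superset (hVopen.mem_nhds ⟨x', hxD, rfl⟩) ?_
    rintro _ ⟨y, hy, rfl⟩
    -- `y` lies in a component `C` of `U`, which must contain `x'`
    obtain ⟨C, hC, hyC⟩ : ∃ C ∈ irreducibleComponents ↥U', y ∈ C := by
      refine ⟨irreducibleComponent y, irreducibleComponent_mem_irreducibleComponents y,
        mem_irreducibleComponent⟩
    have hxC : x' ∈ C := by
      by_contra hxC
      exact hy ⟨C, ⟨hC, hxC⟩, hyC⟩
    have hirr : IsIrreducible (Subtype.val '' C) := hC.1.image _ continuous_subtype_val.continuousOn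
    exact hsub x Z hZ hx _ hirr ⟨x', hxC, rfl⟩ ⟨y, hyC, rfl⟩
  · rw [Set.disjoint_left]
    intro x hx hx'
    exact hne (huniq x Z Z' hZ hZ' hx hx')

end Groth.Agent.S9799
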