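import Groth.Statements.S9800
import Mathlib.AlgebraicGeometry.Properties
import Mathlib.RingTheory.DedekindDomain.Basic
-- import your own Groth.Agent.* helpers here

set_option autoImplicit false
universe u
open CategoryTheory AlgebraicGeometry TopologicalSpace
open Props

namespace Groth.Agent.S9800

section
open AlgebraicGeometry CategoryTheory TopologicalSpace

theorem main (X : Scheme.{u})
    [IsLocallyNoetherian X] (hN : Pi1.IsNormalScheme X) (hd : topologicalKrullDim X ≤ 1) (x : X) :
    IsRegularLocalRing (X.presheaf.stalk x) := by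
  haveI := (hN x).1
  haveI := (hN x).2
  have hdim : ringKrullDim (X.presheaf.stalk x) ≤ 1 := by
    obtain ⟨U, hU, hxU, -⟩ := X.isBasis_affineOpens.exists_subset_of_mem_open
      (Set.mem_univ x) isOpen_univ
    obtain ⟨U, hUa, rfl⟩ := hU
    letI := TopCat.Presheaf.algebra_section_stalk X.presheaf (⟨x, hxU⟩ : U)
    haveI := hUa.isLocalization_stalk ⟨x, hxU⟩
    rw [IsLocalization.AtPrime.ringKrullDim_eq_height (hUa.primeIdealOf ⟨x, hxU⟩).asIdeal
      (X.presheaf.stalk x)]
    refine (Ideal.height_le_ringKrullDim_of_ne_top Ideal.IsPrime.ne_top').trans ?_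
    rw [← PrimeSpectrum.topologicalKrullDim_eq_ringKrullDim Γ(X, U)]
    change topologicalKrullDim (Spec Γ(X, U)) ≤ 1
    rw [← IsHomeomorph.topologicalKrullDim_eq _ hUa.isoSpec.hom.homeomorph.isHomeomorph]
    exact (topologicalKrullDim_subspace_le X U).trans hd
  haveI : Ring.KrullDimLE 1 (X.presheaf.stalk x) := (Ring.krullDimLE_iff).mpr hdim
  haveI : Ring.DimensionLEOne (X.presheaf.stalk x) :=
    ⟨fun {p} hp hp' => Ring.krullDimLE_one_iff_of_noZeroDivisors.mp inferInstance p hp hp'⟩
  haveI : IsDedekindRing (X.presheaf.stalk x) := { }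
  haveI : IsDedekindDomain (X.presheaf.stalk x) := { }
  exact IsRegularLocalRing.of_isRegularRing_of_isLocalRing _
end

/-- A locally Noetherian normal scheme of dimension at most one is regular, that is, all of its local
rings are regular local rings. -/
theorem result (X : Scheme.{u})
    [IsLocallyNoetherian X] (hN : Pi1.IsNormalScheme X) (hd : topologicalKrullDim X ≤ 1) (x : X) :
    IsRegularLocalRing (X.presheaf.stalk x) := by
  exact Groth.Agent.S9800.main X hN hd x

end Groth.Agent.S9800
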