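import Groth.Statements.S9801
import Groth.Agent.S0601
import Groth.Agent.Lib.Helper28.CurveFlat
import Groth.Agent.Lib.Lead.CodepthReg2
import Groth.Agent.Lib.Helper20.RE3

set_option autoImplicit false
universe u
open CategoryTheory AlgebraicGeometry TopologicalSpace
open Props


namespace Groth.Agent.S9801

/-- A Noetherian normal local domain of dimension at most two is Cohen–Macaulay (via Serre's
criterion, S0601). -/
theorem cm_of_normal_dim_le_two (R : Type u) [CommRing R] [IsNoetherianRing R] [IsLocalRing R]
    [IsDomain R] [IsIntegrallyClosed R] (hd : ringKrullDim R ≤ 2) :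
    LocCoh.IsCohenMacaulayLocalRing R := by
  have hS : LocCoh.HasRk 1 R ∧ LocCoh.HasSk 2 R R := by
    rw [← Groth.Agent.S0601.result R]
    intro p _
    exact ⟨IsLocalization.isDomain_localization p.primeCompl_le_nonZeroDivisors,
      isIntegrallyClosed_of_isLocalization _ p.primeCompl p.primeCompl_le_nonZeroDivisors⟩
  have h2 := hS.2 (IsLocalRing.maximalIdeal R)
  have hunits : (IsLocalRing.maximalIdeal R).primeCompl ≤ IsUnit.submonoid R := by
    intro x hx
    exact (IsLocalRing.notMem_maximalIdeal.1 hx)
  let e : R ≃ₐ[R] Localization.AtPrime (IsLocalRing.maximalIdeal R) :=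
    IsLocalization.atUnits R (IsLocalRing.maximalIdeal R).primeCompl hunits
  have hdim : ringKrullDim (Localization.AtPrime (IsLocalRing.maximalIdeal R)) = ringKrullDim R :=
    (ringKrullDim_eq_of_ringEquiv e.toRingEquiv).symm
  haveI : LocCoh.IsCohenMacaulayLocalRing (Localization.AtPrime (IsLocalRing.maximalIdeal R)) := by
    apply (Groth.Agent.Lead.CodepthReg.isCohenMacaulayLocalRing_localization_iff (S := R)
      ⟨IsLocalRing.maximalIdeal R, inferInstance⟩).2
    rw [Nat.cast_zero, add_zero]
    refine le_trans ?_ h2
    rw [le_min_iff]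
    refine ⟨?_, le_rfl⟩
    calc Module.supportDim (Localization.AtPrime (IsLocalRing.maximalIdeal R))
          (LocalizedModule (IsLocalRing.maximalIdeal R).primeCompl R)
        ≤ ringKrullDim (Localization.AtPrime (IsLocalRing.maximalIdeal R)) :=
          Module.supportDim_le_ringKrullDim _ _
      _ = ringKrullDim R := hdim
      _ ≤ ((2 : ℕ) : WithBot ℕ∞) := by exact_mod_cast hd
  exact Groth.Agent.Helper20.RE.isCohenMacaulayLocalRing_of_ringEquiv e.symm.toRingEquiv

end Groth.Agent.S9801

namespace Groth.Agent.S9801

/-- A locally Noetherian normal scheme of dimension at most two is Cohen-Macaulay, that is, all of its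
local rings are Cohen-Macaulay local rings. -/
theorem result (X : Scheme.{u})
    [IsLocallyNoetherian X] (hN : Pi1.IsNormalScheme X) (hd : topologicalKrullDim X ≤ 2) (x : X) :
    LocCoh.IsCohenMacaulayLocalRing (X.presheaf.stalk x) := by
  obtain ⟨hdom, hic⟩ := hN x
  haveI := hdom
  haveI := hic
  exact cm_of_normal_dim_le_two _
    ((Groth.Agent.Helper28.CurveFlat.ringKrullDim_stalk_le X x).trans hd)

end Groth.Agent.S9801
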