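import Groth.Statements.S9816
import Groth.Agent.Lib.Helper13.PbBase
import Groth.Agent.Lib.Helper13.AmpleTensor
import Groth.Agent.Lib.Helper13.SemiLocal5

set_option autoImplicit false
universe u
open CategoryTheory CategoryTheory.Limits AlgebraicGeometry TopologicalSpace
open Props

namespace Groth.Agent.S9816

open Groth.Agent.Helper13.PbAmple Groth.Agent.Helper13.Ample Groth.Agent.Helper13.Inv

/-- Over a quasi-separated base S, if X and Y carry ample invertible modules L and N, then the tensor
product of their pullbacks along the two projections is an ample invertible module on the fibre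
product of X and Y over S. -/
theorem result {X Y S : Scheme.{u}} [QuasiSeparatedSpace S]
    (f : X ⟶ S) (g : Y ⟶ S) (L : X.Modules) (N : Y.Modules) (hL : CohB1.IsAmple L) (hN : CohB1.IsAmple N) :
    CohB1.IsAmple (CohB1.tensorMod ((Scheme.Modules.pullback (pullback.fst f g)).obj L)
      ((Scheme.Modules.pullback (pullback.snd f g)).obj N)) := by
  haveI := hL.2.1
  haveI := hN.2.1
  have hL₁ := Groth.Agent.Helper13.PbInv.isInvertible_pullback (pullback.fst f g) L hL.1
  have hN₂ := Groth.Agent.Helper13.PbInv.isInvertible_pullback (pullback.snd f g) N hN.1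
  refine ⟨isInvertible_tensorMod _ _ hL₁ hN₂, inferInstance, fun z => ?_⟩
  obtain ⟨_, ⟨W, hW, rfl⟩, hzW, -⟩ :=
    S.isBasis_affineOpens.exists_subset_of_mem_open
      (Set.mem_univ (f (pullback.fst f g z))) isOpen_univ
  have hWa : IsAffineOpen W := hW
  have hzW' : g (pullback.snd f g z) ∈ W := by
    have : f (pullback.fst f g z) = g (pullback.snd f g z) := by
      rw [← Scheme.Hom.comp_apply, pullback.condition, Scheme.Hom.comp_apply]
    rw [← this]; exact hzW
  obtain ⟨a, s, hxs, hsW, hsa⟩ := Groth.Agent.Helper13.SemiLocal.exists_affine_genLocus_nhd L hL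
    (f ⁻¹ᵁ W) (pullback.fst f g z) hzW
  obtain ⟨b, t, hyt, htW, hta⟩ := Groth.Agent.Helper13.SemiLocal.exists_affine_genLocus_nhd N hN
    (g ⁻¹ᵁ W) (pullback.snd f g z) hzW'
  obtain ⟨n, σ, hσ⟩ := exists_section_tensorMod _ _ hL₁ hN₂ a b
    (pullbackPowSec (pullback.fst f g) L hL.1 (a + 1) s)
    (pullbackPowSec (pullback.snd f g) N hN.1 (b + 1) t)
  rw [genLocus_pullbackPowSec, genLocus_pullbackPowSec] at hσ
  refine ⟨n, σ, ?_, ?_⟩
  · rw [hσ]; exact ⟨hxs, hyt⟩
  · rw [hσ]
    exact isAffineOpen_pullback_inf f g hsa hWa hta hsW htW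

end Groth.Agent.S9816
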