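import Groth.Statements.S9822
import Mathlib.AlgebraicGeometry.Limits

set_option autoImplicit false
universe u
open CategoryTheory CategoryTheory.Limits AlgebraicGeometry TopologicalSpace Opposite
open Props

namespace Groth.Agent.S9822

/-- A scheme is irreducible if and only if it is nonempty and every nonempty affine open subset is
irreducible. -/
theorem result (X : Scheme.{u}) :
    IrreducibleSpace X ↔ Nonempty X ∧ ∀ U : X.Opens, IsAffineOpen U → (U : Set X).Nonempty → IsIrreducible (U : Set X) := by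
  constructor
  · intro h
    refine ⟨inferInstance, fun U _ hne => ⟨hne, ?_⟩⟩
    exact (PreirreducibleSpace.isPreirreducible_univ (X := X)).open_subset U.2 (Set.subset_univ _)
  · rintro ⟨hne, h⟩
    -- any two nonempty affine opens meet
    have key : ∀ W₁ W₂ : X.Opens, IsAffineOpen W₁ → IsAffineOpen W₂ → (W₁ : Set X).Nonempty →
        (W₂ : Set X).Nonempty → ((W₁ : Set X) ∩ W₂).Nonempty := by
      intro W₁ W₂ h₁ h₂ n₁ n₂
      by_contra hcon
      rw [Set.not_nonempty_iff_eq_empty] at hcon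
      have hd : Disjoint W₁ W₂ := by
        rw [← TopologicalSpace.Opens.coe_disjoint, Set.disjoint_iff_inter_eq_empty]
        exact hcon
      have haff := IsAffineOpen.sup_of_disjoint h₁ h₂ hd
      obtain ⟨-, hirr⟩ := h (W₁ ⊔ W₂) haff (n₁.mono (by
        intro x hx; exact Or.inl hx))
      obtain ⟨x, hx⟩ := n₁
      obtain ⟨y, hy⟩ := n₂
      obtain ⟨z, -, hz1, hz2⟩ := hirr W₁ W₂ W₁.2 W₂.2 ⟨x, Or.inl hx, hx⟩ ⟨y, Or.inr hy, hy⟩
      have : z ∈ ((W₁ : Set X) ∩ W₂) := ⟨hz1, hz2⟩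
      rw [hcon] at this
      exact this
    haveI : PreirreducibleSpace X := by
      refine ⟨fun U V hU hV hUn hVn => ?_⟩
      obtain ⟨x, -, hxU⟩ := hUn
      obtain ⟨y, -, hyV⟩ := hVn
      obtain ⟨W₁, hW₁, hxW₁, -⟩ := (X.isBasis_affineOpens).exists_subset_of_mem_open
        (Set.mem_univ x) isOpen_univ
      obtain ⟨W₂, hW₂, hyW₂, -⟩ := (X.isBasis_affineOpens).exists_subset_of_mem_open
        (Set.mem_univ y) isOpen_univ
      obtain ⟨W₁, hW₁a, rfl⟩ := hW₁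
      obtain ⟨W₂, hW₂a, rfl⟩ := hW₂
      have n₁ : (W₁ : Set X).Nonempty := ⟨x, hxW₁⟩
      have n₂ : (W₂ : Set X).Nonempty := ⟨y, hyW₂⟩
      obtain ⟨-, i₁⟩ := h W₁ hW₁a n₁
      obtain ⟨-, i₂⟩ := h W₂ hW₂a n₂
      obtain ⟨z, hz⟩ := key W₁ W₂ hW₁a hW₂a n₁ n₂
      -- U ∩ W₁ ∩ W₂ is nonempty
      obtain ⟨a, haW₁, haU, haW₂⟩ := i₁ U W₂ hU W₂.2 ⟨x, hxW₁, hxU⟩ ⟨z, hz.1, hz.2⟩
      obtain ⟨b, hbW₂, hb1, hbV⟩ := i₂ (U ∩ W₁) V (hU.inter W₁.2) hV ⟨a, haW₂, haU, haW₁⟩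
        ⟨y, hyW₂, hyV⟩
      exact ⟨b, Set.mem_univ _, hb1.1, hbV⟩
    exact ⟨hne⟩

end Groth.Agent.S9822
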