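import Groth.Statements.S9823
import Groth.Agent.Lib.Helper28.IdealExt2

set_option autoImplicit false
universe u
open CategoryTheory CategoryTheory.Limits AlgebraicGeometry TopologicalSpace Opposite
open Props

namespace Groth.Agent.S9823

/-- In a quasi-compact quasi-separated scheme, an open subset is quasi-compact exactly when its
complement is the support of some quasi-coherent ideal sheaf of finite type. -/
theorem result (X : Scheme.{u}) [CompactSpace X] [QuasiSeparatedSpace X]
    (U : X.Opens) :
    IsCompact (U : Set X) ↔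
      ∃ I : X.IdealSheafData, (∀ V : X.affineOpens, (I.ideal V).FG) ∧ (I.support : Set X) = (U : Set X)ᶜ := by
  classical
  constructor
  · intro hU
    obtain ⟨J, hJ, hJs⟩ := Groth.Agent.Helper28.IdealExt.exists_ft_support_eq (X := X)
      ⟨(U : Set X)ᶜ, U.isOpen.isClosed_compl⟩ (by simpa using hU)
    exact ⟨J, hJ, hJs⟩
  · rintro ⟨I, hI, hs⟩
    have key : ∀ V : X.affineOpens, IsCompact ((U : Set X) ∩ V.1) := by
      intro V
      obtain ⟨s, hs'⟩ := hI V
      have heq : (U : Set X) ∩ V.1 = ⋃ f ∈ s, ((X.basicOpen f : X.Opens) : Set X) := by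
        ext x
        simp only [Set.mem_inter_iff, Set.mem_iUnion, SetLike.mem_coe, exists_prop]
        constructor
        · rintro ⟨hxU, hxV⟩
          have h1 : x ∉ (I.support : Set X) := by
            rw [hs]; exact fun h => h hxU
          have h2 : x ∉ X.zeroLocus (U := V.1) (I.ideal V : Set Γ(X, V.1)) := by
            intro h
            exact h1 ((Scheme.IdealSheafData.mem_support_iff_of_mem (I := I) (U := V) hxV).mpr h)
          rw [← hs', Scheme.zeroLocus_span, Scheme.mem_zeroLocus_iff] at h2
          push_neg at h2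
          obtain ⟨f, hf, hxf⟩ := h2
          exact ⟨f, hf, hxf⟩
        · rintro ⟨f, hf, hxf⟩
          have hxV : x ∈ V.1 := X.basicOpen_le f hxf
          refine ⟨?_, hxV⟩
          by_contra hxU
          have h1 : x ∈ (I.support : Set X) := by rw [hs]; exact hxU
          have h2 := (Scheme.IdealSheafData.mem_support_iff_of_mem (I := I) (U := V) hxV).mp h1
          rw [← hs', Scheme.zeroLocus_span, Scheme.mem_zeroLocus_iff] at h2
          exact h2 f hf hxf
      rw [heq]
      exact s.isCompact_biUnion (fun f _ => (V.2.basicOpen f).isCompact)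
    have hcov : ∀ x : X, ∃ V : X.affineOpens, x ∈ V.1 := by
      intro x
      obtain ⟨_, ⟨V, hV, rfl⟩, hxV, -⟩ :=
        X.isBasis_affineOpens.exists_subset_of_mem_open (Set.mem_univ x) isOpen_univ
      exact ⟨⟨V, hV⟩, hxV⟩
    choose W hW using hcov
    obtain ⟨t, ht⟩ := isCompact_univ.elim_finite_subcover (fun x : X => ((W x).1 : Set X))
      (fun x => (W x).1.2) (fun x _ => Set.mem_iUnion.mpr ⟨x, hW x⟩)
    have hU : (U : Set X) = ⋃ x ∈ t, ((U : Set X) ∩ (W x).1) := by
      ext y
      simp only [Set.mem_iUnion, Set.mem_inter_iff, exists_prop]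
      constructor
      · intro hy
        obtain ⟨x, hx⟩ := Set.mem_iUnion.mp (ht (Set.mem_univ y))
        obtain ⟨hxt, hy'⟩ := Set.mem_iUnion.mp hx
        exact ⟨x, hxt, hy, hy'⟩
      · rintro ⟨x, -, hy, -⟩
        exact hy
    rw [hU]
    exact t.isCompact_biUnion (fun x _ => key (W x))

end Groth.Agent.S9823
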