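import Groth.Statements.S9824
import Groth.Agent.Lib.Helper13.StalkBasis4

set_option autoImplicit false
universe u
open CategoryTheory CategoryTheory.Limits AlgebraicGeometry TopologicalSpace Opposite
open Props

namespace Groth.Agent.S9824

open Groth.Agent.Helper13.QCoh Groth.Agent.Helper13.FinType Groth.Agent.Helper13.LocFree
open Groth.Agent.Helper13.StalkBasis

/-- Over a reduced scheme, a quasi-coherent module is finite locally free if and only if it is of finite
type and its fibre rank (the dimension of the stalk tensored with the residue field) is a locally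
constant function. -/
theorem result (X : Scheme.{u}) [IsReduced X]
    (M : X.Modules) [Coh.IsQCoh M] :
    FlatMod.IsFinLocFree M ↔ CohB1.IsFT M ∧
      IsLocallyConstant (fun x : X => Module.finrank (IsLocalRing.ResidueField (X.presheaf.stalk x))
          (TensorProduct (X.presheaf.stalk x) (IsLocalRing.ResidueField (X.presheaf.stalk x)) (M.presheaf.stalk x))) := by
  haveI : M.IsQuasicoherent := ‹Coh.IsQCoh M›
  constructor
  · intro h
    haveI := isFinitePresentation_of_isFinLocFree M h
    refine ⟨inferInstance, ?_⟩
    rw [IsLocallyConstant.iff_exists_open]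
    intro x
    obtain ⟨U, n, hxU, ⟨e⟩⟩ := h x
    refine ⟨U, U.2, hxU, ?_⟩
    have key : ∀ y ∈ U, Module.finrank (IsLocalRing.ResidueField (X.presheaf.stalk y))
        (TensorProduct (X.presheaf.stalk y) (IsLocalRing.ResidueField (X.presheaf.stalk y))
          (M.presheaf.stalk y)) = n := by
      intro y hy
      haveI := free_stalk_of_isFinLocFree M h y
      rw [finrank_fibre_eq]
      obtain ⟨_, ⟨V, hV, rfl⟩, hyV, hVU⟩ :=
        X.isBasis_affineOpens.exists_subset_of_mem_open hy U.2
      obtain ⟨b⟩ := nonempty_basis_of_restrict_iso M e hVU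
      exact finrank_stalk_of_basis M hV ⟨y, hyV⟩ b
    intro y hy
    rw [key y hy, key x hxU]
  · rintro ⟨hft, hlc⟩ x
    haveI : SheafOfModules.IsFiniteType (R := X.ringCatSheaf) M := hft
    haveI := finite_stalk_of_isFiniteType M x
    obtain ⟨f, hf⟩ := exists_span_eq_top_of_finrank (R := X.presheaf.stalk x)
      (N := M.presheaf.stalk x) rfl
    obtain ⟨V, hxV, t, ht⟩ := exists_common_germ M x f
    have hspan : Submodule.span (X.presheaf.stalk x)
        (Set.range fun i => M.presheaf.germ V x hxV (t i)) = ⊤ := by
      have : (fun i => M.presheaf.germ V x hxV (t i)) = f := funext ht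
      rw [this]
      exact hf
    obtain ⟨U, hUV, hxU, hgen⟩ := exists_genOn_nhd M t x hxV hspan
    obtain ⟨W, hW, hxW, hconst⟩ := (IsLocallyConstant.iff_exists_open _).1 hlc x
    let U' : X.Opens := U ⊓ ⟨W, hW⟩
    refine ⟨U', Module.finrank (IsLocalRing.ResidueField (X.presheaf.stalk x))
        (TensorProduct (X.presheaf.stalk x) (IsLocalRing.ResidueField (X.presheaf.stalk x))
          (M.presheaf.stalk x)), ⟨hxU, hxW⟩, ?_⟩
    apply nonempty_restrict_iso_freeMod M (resFam M (resFam M t hUV) (inf_le_left : U' ≤ U))
    intro y hy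
    exact isBasisAt_of_isReduced M _ (GenOn.mono hgen (inf_le_left : U' ≤ U))
      (fun z hz => hconst z hz.2) y hy

end Groth.Agent.S9824
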