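import Groth.Statements.S9827
import Groth.Agent.Lib.Helper13.FinPresAffine

set_option autoImplicit false
universe u
open CategoryTheory CategoryTheory.Limits AlgebraicGeometry TopologicalSpace Opposite
open Props

namespace Groth.Agent.S9827

open Groth.Agent.Helper13.LocFree Groth.Agent.Helper13.LocTransfer

lemma smul_top_eq {R : CommRingCat.{u}} (N : (Spec R).Modules) (c : R) (x : Γ(N, ⊤)) :
    ((Scheme.ΓSpecIso R).commRingCatIsoToRingEquiv.symm c) • x = c • x := by
  rw [Scheme.Modules.smul_Spec_def]
  congr 1

lemma finitePresentation_top_tilde_iff {R : CommRingCat.{u}} (M : ModuleCat.{u} R) :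
    Module.FinitePresentation Γ(Spec R, ⊤) Γ(tilde M, ⊤) ↔ Module.FinitePresentation R M := by
  have e : M ≃ₗ[R] Γ(tilde M, ⊤) := (tilde.isoTop M).toLinearEquiv
  constructor
  · intro h
    haveI : Module.FinitePresentation R Γ(tilde M, ⊤) :=
      finitePresentation_of_ringEquiv (Scheme.ΓSpecIso R).commRingCatIsoToRingEquiv.symm
        (smul_top_eq (tilde M))
    exact Module.FinitePresentation.of_equiv e.symm
  · intro h
    haveI : Module.FinitePresentation R Γ(tilde M, ⊤) := Module.FinitePresentation.of_equiv e
    exact finitePresentation_of_ringEquiv' (Scheme.ΓSpecIso R).commRingCatIsoToRingEquiv.symm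
      (smul_top_eq (tilde M))

/-- The sheaf associated to a module over a ring is of finite presentation on the spectrum if and only
if the module is finitely presented. -/
theorem result (R : CommRingCat.{u}) (M : ModuleCat.{u} R) :
    CohB1.IsFP (tilde M) ↔ Module.FinitePresentation R M := by
  rw [← finitePresentation_top_tilde_iff]
  constructor
  · intro h
    haveI : SheafOfModules.IsFinitePresentation (R := (Spec R).ringCatSheaf) (tilde M) := h
    exact finitePresentation_sections_of_isFinitePresentation (tilde M) (isAffineOpen_top (Spec R))
  · intro h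
    apply isFinitePresentation_of_finitePresentation_sections (tilde M)
    intro x
    exact ⟨⊤, isAffineOpen_top (Spec R), trivial, h⟩

end Groth.Agent.S9827
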