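import Groth.Statements.S9836
import Mathlib
import Groth.Agent.Lib.Helper9.RHomOQc
import Groth.Agent.Lib.Lead.HomSh4
import Groth.Agent.Lib.Helper13.FinPresAffine
import Groth.Agent.Lib.Helper13.QCoh

set_option autoImplicit false
universe u
open CategoryTheory CategoryTheory.Limits AlgebraicGeometry
open Props

namespace Groth.Agent.S9836

/-- For a closed immersion i : Z → X with ideal sheaf of finite type and a quasi-coherent O_X-module F,
the subsheaf of sections of F annihilated by the ideal, namely i_* Hom(O_Z, F) for the right adjoint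
Hom(O_Z, -) of i_*, is a quasi-coherent O_X-module. -/
theorem result {Z X : Scheme.{u}} (i : Z ⟶ X)
    [IsClosedImmersion i] [LocallyOfFinitePresentation i] [Dual3.HasHomO i] (F : X.Modules) [Coh.IsQCoh F] :
    Coh.IsQCoh ((Scheme.Modules.pushforward i).obj ((Dual3.homO i).obj F)) := by
  classical
  haveI hF : F.IsQuasicoherent := ‹Coh.IsQCoh F›
  -- `i_* O_Z` is finitely presented
  haveI hunit : SheafOfModules.IsFinitePresentation (R := Z.ringCatSheaf) (Coh.structureModule Z) := by
    haveI : (Coh.structureModule Z).IsQuasicoherent := Groth.Agent.Helper13.QCoh.isQuasicoherent_unit Z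
    apply Groth.Agent.Helper13.LocFree.isFinitePresentation_of_finitePresentation_sections
    intro x
    obtain ⟨_, ⟨V, hV, rfl⟩, hxV, -⟩ :=
        Z.isBasis_affineOpens.exists_subset_of_mem_open (Set.mem_univ x) isOpen_univ
    refine ⟨V, hV, hxV, ?_⟩
    change Module.FinitePresentation Γ(Z, V) Γ(Z, V)
    infer_instance
  haveI hfp : SheafOfModules.IsFinitePresentation (R := X.ringCatSheaf)
      ((Scheme.Modules.pushforward i).obj (Coh.structureModule Z)) :=
    (Groth.Agent.Helper13.PushFinite.isFinitePresentation_pushforward_iff i _).mp hunit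
  have hq : (RefHull.homSh ((Scheme.Modules.pushforward i).obj (Coh.structureModule Z)) F).IsQuasicoherent :=
    Groth.Agent.Lead.HomSh.isQuasicoherent_homSh
  let e : (Scheme.Modules.pushforward i).obj ((Dual3.homO i).obj F) ≅
      RefHull.homSh ((Scheme.Modules.pushforward i).obj (Coh.structureModule Z)) F :=
    (Scheme.Modules.pushforward i).mapIso ((Groth.Agent.Helper9.RHomOQc.homOIso i).app F) ≪≫
      (Groth.Agent.Helper29.ClExt.Θ i (Coh.structureModule Z)).app F
  exact Groth.Agent.Helper13.QCohLocal.isQuasicoherent_of_iso e.symm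


end Groth.Agent.S9836
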