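import Groth.Statements.S9839
import Mathlib.AlgebraicGeometry.Sites.ConstantSheaf

set_option autoImplicit false
open CategoryTheory CategoryTheory.Limits AlgebraicGeometry Opposite
universe u
open Desc

namespace Groth.Agent.S9839

/-- Let f i : T i ⟶ T be an fpqc covering family of a scheme T (a family in the fpqc precoverage) and W
i ⊆ T i open subsets such that for all i, j the inverse images of W i and W j under the two
projections of T i ×_T T j coincide. Then there is a unique open subset W ⊆ T with (f i)⁻¹(W) = W i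
for every i. -/
theorem result {ι : Type u} {T : Scheme.{u}} {Ti : ι → Scheme.{u}}
    (f : ∀ i, Ti i ⟶ T) (hf : Presieve.ofArrows Ti f ∈ Scheme.fpqcPrecoverage T)
    (W : ∀ i, (Ti i).Opens)
    (hW : ∀ i j, (pullback.fst (f i) (f j)) ⁻¹ᵁ (W i) = (pullback.snd (f i) (f j)) ⁻¹ᵁ (W j)) :
    ∃! V : T.Opens, ∀ i, (f i) ⁻¹ᵁ V = W i := by
  have hsh := AlgebraicGeometry.isSheaf_fpqcTopology_continuousMapPresheaf.{0, u} Prop
  rw [isSheaf_iff_isSheaf_of_type] at hsh
  have hcov : Sieve.generate (Presieve.ofArrows Ti f) ∈ Scheme.fpqcTopology T :=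
    Precoverage.generate_mem_toGrothendieck hf
  have hsf : (Presieve.ofArrows Ti f).IsSheafFor (continuousMapPresheaf.{0, u} Prop) :=
    (Presieve.isSheafFor_iff_generate _).2 (hsh _ hcov)
  rw [Presieve.isSheafFor_arrows_iff_pullbacks] at hsf
  let x : ∀ i, (continuousMapPresheaf.{0, u} Prop).obj (Opposite.op (Ti i)) := fun i =>
    (⟨fun t => t ∈ W i, continuous_Prop.2 (W i).2⟩ : C(Ti i, Prop))
  have hx : Presieve.Arrows.PullbackCompatible (continuousMapPresheaf.{0, u} Prop) f x := by
    intro i j
    apply ContinuousMap.ext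
    intro z
    have := congrArg (fun O : (pullback (f i) (f j)).Opens => z ∈ O) (hW i j)
    exact this
  obtain ⟨t, ht, htu⟩ := hsf x hx
  let tc : C(T, Prop) := t
  refine ⟨⟨{p | tc p}, continuous_Prop.1 tc.continuous⟩, ?_, ?_⟩
  · intro i
    ext p
    have := congrArg (fun g : C(Ti i, Prop) => g p) (ht i)
    exact Iff.of_eq this
  · intro V' hV'
    let t' : (continuousMapPresheaf.{0, u} Prop).obj (Opposite.op T) :=
      (⟨fun p => p ∈ V', continuous_Prop.2 V'.2⟩ : C(T, Prop))
    have : t' = t := by
      apply htu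
      intro i
      apply ContinuousMap.ext
      intro p
      have := congrArg (fun O : (Ti i).Opens => p ∈ O) (hV' i)
      exact this
    ext p
    have := congrArg (fun g : C(T, Prop) => g p) this
    exact Iff.of_eq this

end Groth.Agent.S9839
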