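import Groth.Statements.S9842
import Mathlib.AlgebraicGeometry.Morphisms.UniversallyOpen
import Mathlib.AlgebraicGeometry.PullbackCarrier

set_option autoImplicit false
open CategoryTheory CategoryTheory.Limits AlgebraicGeometry Opposite
universe u
open Desc

namespace Groth.Agent.S9842

/-- Let E/k be a field extension, Y a scheme over k and f : X ⟶ Y a morphism. Writing Y_E = Y ×_k Spec
E, the morphism f is dominant if and only if its base change X ×_Y Y_E ⟶ Y_E is dominant. -/
theorem result {k E : Type u} [Field k] [Field E] [Algebra k E]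
    {X Y : Scheme.{u}} (f : X ⟶ Y) (q : Y ⟶ Spec (.of k)) :
    IsDominant f ↔
      IsDominant (pullback.snd f (pullback.fst q (Spec.map (CommRingCat.ofHom (algebraMap k E))))) := by
  set j : Spec (.of E) ⟶ Spec (.of k) := Spec.map (CommRingCat.ofHom (algebraMap k E)) with hj
  haveI : Surjective j := by
    constructor
    intro x
    exact ⟨(⊥ : PrimeSpectrum E), Subsingleton.elim _ _⟩
  haveI : UniversallyOpen j := inferInstance
  set g := pullback.fst q j with hg
  haveI : Surjective g := inferInstance
  haveI : UniversallyOpen g := inferInstance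
  constructor
  · intro hf
    constructor
    rw [DenseRange, dense_iff_inter_open]
    intro V hV hVne
    have hgV : IsOpen (g '' V) := g.isOpenMap V hV
    obtain ⟨y, hy⟩ := hVne
    obtain ⟨_, ⟨v, hv, rfl⟩, ⟨x, hx⟩⟩ := (dense_iff_inter_open.1 f.denseRange) (g '' V) hgV
      ⟨g y, y, hy, rfl⟩
    obtain ⟨z, hz1, hz2⟩ := Scheme.Pullback.exists_preimage_pullback x v hx
    exact ⟨v, hv, z, hz2⟩
  · intro hdom
    constructor
    rw [DenseRange, dense_iff_inter_open]
    intro W hW hWne
    obtain ⟨y, hy⟩ := hWne
    obtain ⟨u, rfl⟩ := g.surjective y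
    have hopen : IsOpen (g ⁻¹' W) := hW.preimage g.continuous
    obtain ⟨_, hv, ⟨z, rfl⟩⟩ := (dense_iff_inter_open.1 (pullback.snd f g).denseRange) _ hopen ⟨u, hy⟩
    refine ⟨f (pullback.fst f g z), ?_, _, rfl⟩
    have : f (pullback.fst f g z) = g (pullback.snd f g z) := by
      rw [← Scheme.Hom.comp_apply, ← Scheme.Hom.comp_apply, pullback.condition]
    rw [this]
    exact hv

end Groth.Agent.S9842
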