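import Groth.Statements.S9843

set_option autoImplicit false
open CategoryTheory CategoryTheory.Limits AlgebraicGeometry Opposite
universe u
open Desc

namespace Groth.Agent.S9843

/-- Being dominant is fppf local on the base: for every fppf covering family Y i ⟶ Y (flat, locally of
finite presentation, jointly surjective), a morphism X ⟶ Y is dominant if and only if all its base
changes X ×_Y Y i ⟶ Y i are. -/
theorem result :
    MorphismProperty.IsLocalAtTarget (@IsDominant : MorphismProperty Scheme.{u}) Scheme.fppfPrecoverage := by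
  refine ⟨?_, ?_⟩
  · intro X Y f R U g hR hg hf _
    have hg' : (@Flat ⊓ @LocallyOfFinitePresentation : MorphismProperty Scheme.{u}) g := hR.2 hg
    haveI : Flat g := hg'.1
    haveI : LocallyOfFinitePresentation g := hg'.2
    haveI : IsDominant f := hf
    constructor
    rw [DenseRange, dense_iff_inter_open]
    intro V hV hVne
    have hgV : IsOpen (g '' V) := g.isOpenMap V hV
    obtain ⟨y, hy⟩ := hVne
    obtain ⟨_, ⟨v, hv, rfl⟩, ⟨x, hx⟩⟩ := (dense_iff_inter_open.1 f.denseRange) (g '' V) hgV
      ⟨g y, y, hy, rfl⟩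
    obtain ⟨z, hz1, hz2⟩ := Scheme.Pullback.exists_preimage_pullback x v hx
    exact ⟨v, hv, z, hz2⟩
  · intro X Y f R hR h
    have hsurj := (Presieve.mem_comap_jointlySurjectivePrecoverage_iff (F := Scheme.forget)).1 hR.1
    constructor
    rw [DenseRange, dense_iff_inter_open]
    intro W hW hWne
    obtain ⟨y, hy⟩ := hWne
    obtain ⟨U, g, hg, u, rfl⟩ := hsurj y
    have hdom : IsDominant (pullback.snd f g) := h hg
    have hopen : IsOpen (g ⁻¹' W) := hW.preimage g.continuous
    obtain ⟨_, hv, ⟨z, rfl⟩⟩ := (dense_iff_inter_open.1 (pullback.snd f g).denseRange) _ hopen ⟨u, hy⟩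
    refine ⟨f (pullback.fst f g z), ?_, _, rfl⟩
    have : f (pullback.fst f g z) = g (pullback.snd f g z) := by
      rw [← Scheme.Hom.comp_apply, ← Scheme.Hom.comp_apply, pullback.condition]
    rw [this]
    exact hv

end Groth.Agent.S9843
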