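import Groth.Statements.S9845

set_option autoImplicit false
open CategoryTheory CategoryTheory.Limits AlgebraicGeometry Opposite
universe u
open Desc

namespace Groth.Agent.S9845

/-- Being an open morphism (open underlying map) is fppf local on the source: for every fppf covering
family g i : X i ⟶ X, a morphism f : X ⟶ Y has open underlying map if and only if every composite g
i ≫ f does. -/
theorem result :
    MorphismProperty.IsLocalAtSource (topologically (fun f => IsOpenMap f) : MorphismProperty Scheme.{u})
      Scheme.fppfPrecoverage := by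
  refine ⟨?_, ?_⟩
  · intro X Y f R hR U g hg hf
    have hg' : (@Flat ⊓ @LocallyOfFinitePresentation : MorphismProperty Scheme.{u}) g := hR.2 hg
    haveI : Flat g := hg'.1
    haveI : LocallyOfFinitePresentation g := hg'.2
    exact hf.comp g.isOpenMap
  · intro X Y f R hR h
    have hsurj := (Presieve.mem_comap_jointlySurjectivePrecoverage_iff (F := Scheme.forget)).1 hR.1
    intro s hs
    have : f '' s = ⋃ (U : Scheme.{u}) (g : U ⟶ X) (_ : R g), (g ≫ f) '' (g ⁻¹' s) := by
      ext y
      simp only [Set.mem_image, Set.mem_iUnion, Set.mem_preimage, exists_prop]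
      constructor
      · rintro ⟨x, hx, rfl⟩
        obtain ⟨U, g, hg, u, rfl⟩ := hsurj x
        exact ⟨U, g, hg, u, hx, rfl⟩
      · rintro ⟨U, g, hg, u, hu, rfl⟩
        exact ⟨g u, hu, rfl⟩
    rw [this]
    refine isOpen_iUnion fun U => isOpen_iUnion fun g => isOpen_iUnion fun hg => ?_
    exact h hg _ (hs.preimage g.continuous)

end Groth.Agent.S9845
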