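import Groth.Statements.S9846

set_option autoImplicit false
open CategoryTheory CategoryTheory.Limits AlgebraicGeometry Opposite
universe u
open Desc

namespace Groth.Agent.S9846

/-- Being universally open is fppf local on the source: for every fppf covering family g i : X i ⟶ X, a
morphism f : X ⟶ Y is universally open if and only if every composite g i ≫ f is. -/
theorem result :
    MorphismProperty.IsLocalAtSource (@UniversallyOpen : MorphismProperty Scheme.{u}) Scheme.fppfPrecoverage := by
  refine ⟨?_, ?_⟩
  · intro X Y f R hR U g hg hf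
    have hg' : (@Flat ⊓ @LocallyOfFinitePresentation : MorphismProperty Scheme.{u}) g := hR.2 hg
    haveI : Flat g := hg'.1
    haveI : LocallyOfFinitePresentation g := hg'.2
    haveI : UniversallyOpen f := hf
    infer_instance
  · intro X Y f R hR h
    have hsurj := (Presieve.mem_comap_jointlySurjectivePrecoverage_iff (F := Scheme.forget)).1 hR.1
    constructor
    intro X' Y' i₁ i₂ f' sq
    intro s hs
    have : f' '' s = ⋃ (U : Scheme.{u}) (g : U ⟶ X) (_ : R g),
        (pullback.snd g i₁ ≫ f') '' ((pullback.snd g i₁) ⁻¹' s) := by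
      ext y
      simp only [Set.mem_image, Set.mem_iUnion, Set.mem_preimage, exists_prop]
      constructor
      · rintro ⟨x, hx, rfl⟩
        obtain ⟨U, g, hg, u, hu⟩ := hsurj (i₁ x)
        obtain ⟨z, hz1, hz2⟩ := Scheme.Pullback.exists_preimage_pullback (f := g) (g := i₁) u x hu
        refine ⟨U, g, hg, z, ?_, ?_⟩
        · rw [hz2]; exact hx
        · rw [Scheme.Hom.comp_apply, hz2]
      · rintro ⟨U, g, hg, z, hz, rfl⟩
        exact ⟨pullback.snd g i₁ z, hz, by rw [Scheme.Hom.comp_apply]⟩
    rw [this]
    refine isOpen_iUnion fun U => isOpen_iUnion fun g => isOpen_iUnion fun hg => ?_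
    have hopen : UniversallyOpen (g ≫ f) := h hg
    have sq' := (IsPullback.of_hasPullback g i₁).flip.paste_horiz sq
    exact hopen.out _ _ _ sq' _ (hs.preimage (pullback.snd g i₁).continuous)

end Groth.Agent.S9846
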