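import Groth.Statements.S9851
import Groth.Agent.Lib.Helper21.DescFF2
import Groth.Agent.Lib.Helper21.DescSig

set_option autoImplicit false
open CategoryTheory CategoryTheory.Limits AlgebraicGeometry Opposite
universe u
open Desc

namespace Groth.Agent.S9851

/-- Let f i : X i ⟶ S be a family of morphisms of schemes and X = ∐ X i with its morphism to S. The
canonical functor from descent data for schemes relative to X ⟶ S to descent data relative to the
family, which pulls a datum back along the coprojections X i ⟶ X, is an equivalence of categories.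
(The published statement names the quasi-inverse functor, sending a family (V i, φ ij) to (∐ V i, ∐
φ ij); asserting that the canonical pullback functor is an equivalence is the same result.) -/
theorem result {ι : Type u} {S : Scheme.{u}} {X : ι → Scheme.{u}} (f : ∀ i, X i ⟶ S) :
    (Desc.SchDDFam.ofSchDD (Sigma.desc f) ⋙
      Desc.pullDDFam (f := fun _ : PUnit.{u + 1} => Sigma.desc f) (f' := f) (α := fun _ => PUnit.unit)
        (p := 𝟙 S) (p' := fun i => Sigma.ι X i)
        (fun i => (Sigma.ι_desc f i).trans (Category.comp_id (f i)).symm)).IsEquivalence := by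
  have hιcov : Presieve.ofArrows X (Sigma.ι X) ∈ Scheme.fpqcPrecoverage (∐ X) := by
    apply Scheme.zariskiPrecoverage_le_fpqcPrecoverage
    rw [Scheme.ofArrows_mem_precoverage_iff]
    refine ⟨fun z => ?_, fun i => inferInstance⟩
    obtain ⟨i, y, hy⟩ := (sigmaOpenCover X).exists_eq z
    exact ⟨i, y, hy⟩
  have C : ∀ D₁ : SchDDFam (fun _ : PUnit.{u + 1} => Sigma.desc f),
      Groth.Agent.Helper21.DescFF2.CovData.{u, u, u} D₁ f := fun D₁ =>
    { L := fun _ => ι
      T := fun j i => pullback (D₁.obj j).hom (Sigma.ι X i)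
      t := fun j i => pullback.fst _ _
      k := fun _ i => i
      x := fun j i => pullback.snd _ _
      hx := fun j i => by rw [pullback.condition, Category.assoc, Sigma.ι_desc]
      mem := fun j => Precoverage.mem_coverings_of_isPullback _ hιcov (D₁.obj j).hom _
        (fun i => pullback.snd _ _) (fun i => IsPullback.of_hasPullback _ _) }
  haveI hfull : (Desc.pullDDFam (f := fun _ : PUnit.{u + 1} => Sigma.desc f) (f' := f)
      (α := fun _ => PUnit.unit) (p := 𝟙 S) (p' := fun i => Sigma.ι X i)
      (fun i => (Sigma.ι_desc f i).trans (Category.comp_id (f i)).symm)).Full :=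
    ⟨fun {D₁ D₂} a => ⟨Groth.Agent.Helper21.DescFF2.bHom _ a (C D₁),
      Groth.Agent.Helper21.DescFF2.map_bHom _ a _⟩⟩
  haveI hfaith : (Desc.pullDDFam (f := fun _ : PUnit.{u + 1} => Sigma.desc f) (f' := f)
      (α := fun _ => PUnit.unit) (p := 𝟙 S) (p' := fun i => Sigma.ι X i)
      (fun i => (Sigma.ι_desc f i).trans (Category.comp_id (f i)).symm)).Faithful :=
    ⟨fun {D₁ D₂} b b' h => Groth.Agent.Helper21.DescFF2.map_injective _ (C D₁) b b' h⟩
  haveI : (Desc.SchDDFam.ofSchDD.{u} (Sigma.desc f)).IsEquivalence :=
    (Desc.SchDDFam.oneEquiv.{u} (Sigma.desc f)).isEquivalence_inverse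
  haveI : (Desc.SchDDFam.ofSchDD (Sigma.desc f) ⋙
      Desc.pullDDFam (f := fun _ : PUnit.{u + 1} => Sigma.desc f) (f' := f)
        (α := fun _ => PUnit.unit) (p := 𝟙 S) (p' := fun i => Sigma.ι X i)
        (fun i => (Sigma.ι_desc f i).trans (Category.comp_id (f i)).symm)).EssSurj :=
    ⟨fun D => ⟨Groth.Agent.Helper21.DescSig.sigmaDD f D,
      ⟨(Groth.Agent.Helper21.DescSig.pullSigmaIso.{u, u, u} f D
        (fun i => (Sigma.ι_desc f i).trans (Category.comp_id (f i)).symm)).symm⟩⟩⟩
  exact { faithful := inferInstance, full := inferInstance, essSurj := inferInstance }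

end Groth.Agent.S9851
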