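import Groth.Statements.S9857
import Mathlib
import Groth.Agent.Lib.Helper14.FibreDimBC
import Groth.Agent.Lib.Helper14.PullbackPts
-- import your own Groth.Agent.* helpers here

set_option autoImplicit false
open CategoryTheory CategoryTheory.Limits AlgebraicGeometry Opposite
universe u
open Desc

namespace Groth.Agent.S9857

/-- The property of a morphism being locally of finite type with relative dimension d may be checked
fpqc locally on the target; the descent direction for the dimension condition, stated for a single
flat surjective quasi-compact base change g : Y' ⟶ Y of a morphism f : X ⟶ Y locally of finite type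
and a cartesian square with base change f' : X' ⟶ Y': if every irreducible component of every fibre
of f' has dimension d, then every irreducible component of every fibre of f has dimension d. (Local
finite type itself descends along g by a separate result; stability under base change is the other
direction.) -/
theorem result {X Y X' Y' : Scheme.{u}} (f : X ⟶ Y) [LocallyOfFiniteType f] (g : Y' ⟶ Y)
    [Flat g] [Surjective g] [QuasiCompact g] (g' : X' ⟶ X) (f' : X' ⟶ Y') (hsq : IsPullback g' f' f g)
    (d : ℕ) (h : Cyc.HasRelDim f' d) : Cyc.HasRelDim f d := by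
  haveI : LocallyOfFiniteType f' := Groth.Agent.Helper14.FibreDimBC.locallyOfFiniteType_of_isPullback hsq
  intro y T hT
  obtain ⟨z, n, hfz, hmax, hn, hdimT⟩ :=
    Groth.Agent.Helper14.FibreMax.exists_of_mem_irreducibleComponents f y T hT
  obtain ⟨y', hy'⟩ := (inferInstance : Surjective g).surj y
  obtain ⟨z', hgz', hfz'⟩ := Groth.Agent.Helper14.exists_preimage_of_isPullback hsq z y'
    (hfz.trans hy'.symm)
  obtain ⟨z'', n'', hz''z', hfz'', hmax'', hn'', -⟩ :=
    Groth.Agent.Helper14.EquidimAt.exists_maximal_trdeg_eq_fibreDimAt f' z'
  have hw : ∀ w' : X', f (g' w') = g (f' w') := by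
    intro w'
    rw [← Scheme.Hom.comp_apply, hsq.w, Scheme.Hom.comp_apply]
  have h1 : g' z'' ⤳ z := by
    rw [← hgz']
    exact hz''z'.map g'.continuous
  have h2 : f (g' z'') = f z := by
    rw [hw, hfz'', ← hw, hgz']
  have h3 : g' z'' = z := hmax _ h2 h1
  have h4 := Groth.Agent.Helper14.FibreDimBC.trdeg_eq_of_maximal hsq z'' hmax''
  rw [hn'', Groth.Agent.Helper14.FibreBC.trdeg_point_congr f h3, hn] at h4
  have h5 : n'' = n := by exact_mod_cast h4
  obtain ⟨Z, hZ, hdimZ⟩ := Groth.Agent.Helper14.FibreMax.exists_irreducibleComponent_of_maximal f'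
    (f' z'') z'' rfl hmax'' n'' hn''
  rw [hdimT, ← h5, ← hdimZ]
  exact h _ Z hZ

end Groth.Agent.S9857
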