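import Groth.Statements.S9863
import Mathlib
import Groth.Agent.S9862
import Groth.Agent.S2086
import Groth.Agent.Lib.Lead.Flat3
import Groth.Agent.Lib.Helper7.FieldCM
import Groth.Agent.Lib.Helper1.SerreNormal
-- import your own Groth.Agent.* helpers here

set_option autoImplicit false
open CategoryTheory CategoryTheory.Limits AlgebraicGeometry Opposite
universe u
open Desc

namespace Groth.Agent.S9863

section
open AlgebraicGeometry CategoryTheory Limits TopologicalSpace Groth.Agent.S9862

/-- rings of sections over affine opens of an `(S_k)` scheme are `(S_k)` -/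
theorem sk_sections {W : Scheme.{u}} [IsLocallyNoetherian W] (k : ℕ)
    (h : ∀ w : W, LocCoh.HasSk k (W.presheaf.stalk w) (W.presheaf.stalk w)) (U : W.affineOpens) :
    haveI : IsNoetherianRing Γ(W, U.1) := IsLocallyNoetherian.component_noetherian U
    LocCoh.HasSk k Γ(W, U.1) Γ(W, U.1) := by
  haveI : IsNoetherianRing Γ(W, U.1) := IsLocallyNoetherian.component_noetherian U
  rw [Groth.Agent.Lead.Depth.hasSk_self_iff]
  intro p hp
  have hy : U.2.fromSpec ⟨p, hp⟩ ∈ U.1 := by
    rw [← SetLike.mem_coe, ← U.2.range_fromSpec]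
    exact ⟨_, rfl⟩
  letI : Algebra Γ(W, U.1) (W.presheaf.stalk (U.2.fromSpec ⟨p, hp⟩)) :=
    TopCat.Presheaf.algebra_section_stalk W.presheaf ⟨_, hy⟩
  haveI hloc : IsLocalization.AtPrime (W.presheaf.stalk (U.2.fromSpec ⟨p, hp⟩)) p :=
    U.2.isLocalization_stalk' ⟨p, hp⟩ hy
  have h1 := Groth.Agent.Helper7.FieldCM.hasSk_of_ringEquiv
    (IsLocalization.algEquiv p.primeCompl (W.presheaf.stalk (U.2.fromSpec ⟨p, hp⟩))
      (Localization.AtPrime p)).toRingEquiv k (h _)
  exact Groth.Agent.Helper1.SerreNormal.min_le_depth_of_hasSk k h1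

/-- stalks at points of an affine open with `(S_k)` coordinate ring -/
theorem sk_stalk_of_sections {W : Scheme.{u}} [IsLocallyNoetherian W] (k : ℕ) (U : W.affineOpens)
    [IsNoetherianRing Γ(W, U.1)]
    (hU : LocCoh.HasSk k Γ(W, U.1) Γ(W, U.1)) (w : W) (hw : w ∈ U.1) :
    LocCoh.HasSk k (W.presheaf.stalk w) (W.presheaf.stalk w) := by
  letI : Algebra Γ(W, U.1) (W.presheaf.stalk w) :=
    TopCat.Presheaf.algebra_section_stalk W.presheaf ⟨w, hw⟩
  haveI hloc : IsLocalization.AtPrime (W.presheaf.stalk w) (U.2.primeIdealOf ⟨w, hw⟩).asIdeal :=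
    U.2.isLocalization_stalk ⟨w, hw⟩
  have h1 := Groth.Agent.Helper1.SerreNormal.hasSk_localization k hU
    (U.2.primeIdealOf ⟨w, hw⟩).asIdeal
  exact Groth.Agent.Helper7.FieldCM.hasSk_of_ringEquiv
    (IsLocalization.algEquiv (U.2.primeIdealOf ⟨w, hw⟩).asIdeal.primeCompl
      (Localization.AtPrime (U.2.primeIdealOf ⟨w, hw⟩).asIdeal) (W.presheaf.stalk w)).toRingEquiv
    k h1

/-- a syntomic algebra over an `(S_k)` Noetherian ring is `(S_k)` -/
theorem sk_ring_of_syn (k : ℕ) (A B : Type u) [CommRing A] [CommRing B] [Algebra A B]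
    [IsNoetherianRing A] [IsNoetherianRing B] (hA : LocCoh.HasSk k A A) (h : Synt.IsSyntomic A B) :
    LocCoh.HasSk k B B := by
  haveI := h.1
  refine Groth.Agent.S2086.result k hA (fun p _ => ?_)
  haveI := Groth.Agent.S9142.main _ _ (h.2.2 ⟨p, inferInstance⟩)
  exact Groth.Agent.Helper7.FieldCM.hasSk_of_isCohenMacaulayRing _ k

theorem main {ι : Type u} {S : Scheme.{u}} {X : ι → Scheme.{u}} (f : ∀ i, X i ⟶ S)
    (hsurj : ∀ s : S, ∃ i, s ∈ Set.range (f i).base) (hsyn : ∀ i, Synt.IsSyntomicMor (f i)) (k : ℕ) :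
    (IsLocallyNoetherian S ∧
        ∀ s : S, LocCoh.HasSk k (S.presheaf.stalk s) (S.presheaf.stalk s)) ↔
      ∀ i, IsLocallyNoetherian (X i) ∧
        ∀ x : X i, LocCoh.HasSk k ((X i).presheaf.stalk x) ((X i).presheaf.stalk x) := by
  constructor
  · rintro ⟨hN, hsk⟩ i
    haveI := hN
    haveI := lfp_of_syn (f i) (hsyn i)
    haveI : IsLocallyNoetherian (X i) := LocallyOfFiniteType.isLocallyNoetherian (f i)
    refine ⟨inferInstance, fun x => ?_⟩
    obtain ⟨U, V, e, hxU, hs⟩ := hsyn i x
    letI := ((f i).appLE V.1 U.1 e).hom.toAlgebra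
    haveI : IsNoetherianRing Γ(S, V.1) := IsLocallyNoetherian.component_noetherian V
    haveI : IsNoetherianRing Γ(X i, U.1) := IsLocallyNoetherian.component_noetherian U
    have hA := sk_sections k hsk V
    exact sk_stalk_of_sections k U (sk_ring_of_syn k _ _ hA hs) x hxU
  · intro h
    haveI : ∀ i, Flat (f i) := fun i => flat_of_syn (f i) (hsyn i)
    haveI : ∀ i, LocallyOfFinitePresentation (f i) := fun i => lfp_of_syn (f i) (hsyn i)
    haveI : ∀ i, IsLocallyNoetherian (X i) := fun i => (h i).1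
    have hkey : ∀ s : S, ∃ V : S.affineOpens, s ∈ V.1 ∧ IsNoetherianRing Γ(S, V.1) := by
      intro s
      obtain ⟨i, x, rfl⟩ := hsurj s
      exact key (f i) x
    choose V hsV hN using hkey
    haveI hSN : IsLocallyNoetherian S := by
      refine isLocallyNoetherian_of_affine_cover (S := V) ?_ hN
      rw [eq_top_iff]
      intro y _
      exact TopologicalSpace.Opens.mem_iSup.mpr ⟨y, hsV y⟩
    refine ⟨hSN, fun s => ?_⟩
    obtain ⟨i, x, rfl⟩ := hsurj s
    letI : Algebra (S.presheaf.stalk ((f i) x)) ((X i).presheaf.stalk x) :=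
      ((f i).stalkMap x).hom.toAlgebra
    have hflat : ((f i).stalkMap x).hom.Flat := AlgebraicGeometry.Flat.stalkMap (f i) x
    haveI : Module.Flat (S.presheaf.stalk ((f i) x)) ((X i).presheaf.stalk x) := hflat
    haveI : IsLocalHom (algebraMap (S.presheaf.stalk ((f i) x)) ((X i).presheaf.stalk x)) :=
      inferInstanceAs (IsLocalHom ((f i).stalkMap x).hom)
    haveI : Module.FaithfullyFlat (S.presheaf.stalk ((f i) x)) ((X i).presheaf.stalk x) :=
      Module.FaithfullyFlat.of_flat_of_isLocalHom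
    exact (Groth.Agent.Lead.Depth.hasSk_of_faithfullyFlat _ _ k ((h i).2 x)).2

end

/-- The property 'locally Noetherian and (S_k)' is local in the syntomic topology: for a jointly
surjective family of syntomic morphisms f i : X i ⟶ S and k a natural number, S is locally
Noetherian with all local rings satisfying Serre's condition (S_k) if and only if every X i is. -/
theorem result {ι : Type u} {S : Scheme.{u}} {X : ι → Scheme.{u}} (f : ∀ i, X i ⟶ S)
    (hsurj : ∀ s : S, ∃ i, s ∈ Set.range (f i).base) (hsyn : ∀ i, Synt.IsSyntomicMor (f i)) (k : ℕ) :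
    (IsLocallyNoetherian S ∧ ∀ s : S, LocCoh.HasSk k (S.presheaf.stalk s) (S.presheaf.stalk s)) ↔
      ∀ i, IsLocallyNoetherian (X i) ∧ ∀ x : X i, LocCoh.HasSk k ((X i).presheaf.stalk x) ((X i).presheaf.stalk x) := by
  exact Groth.Agent.S9863.main f hsurj hsyn k

end Groth.Agent.S9863
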