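import Groth.Statements.S9866
import Groth.Agent.Lib.Helper21.DescGlue2

set_option autoImplicit false
open CategoryTheory CategoryTheory.Limits AlgebraicGeometry Opposite
universe u
open Desc

namespace Groth.Agent.S9866

/-- Let p : X ⟶ S be a surjective, flat, quasi-compact morphism of schemes and D = (V, φ) a descent
datum for schemes relative to p. Suppose every point v of V lies in the image of some morphism of
descent data D' ⟶ D whose underlying morphism of schemes over X is an open immersion and whose
source D' is effective (isomorphic to the canonical descent datum of a scheme over S). Then D is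
effective. (A φ-stable open W ⊆ V with its restricted descent datum, as in the published statement,
is the same thing as such a morphism D' ⟶ D up to isomorphism.) -/
theorem result {X S : Scheme.{u}} (p : X ⟶ S) [Surjective p] [Flat p] [QuasiCompact p]
    (D : Desc.SchDD p)
    (h : ∀ v : D.obj.left, ∃ (D' : Desc.SchDD p) (j : D' ⟶ D), IsOpenImmersion j.hom.left ∧
      v ∈ Set.range j.hom.left.base ∧ ∃ U' : Over S, Nonempty ((Desc.toDD p).obj U' ≅ D')) :
    ∃ U : Over S, Nonempty ((Desc.toDD p).obj U ≅ D) := by
  have hf : Presieve.ofArrows (fun _ : PUnit.{u + 1} => X) (fun _ => p) ∈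
      Scheme.fpqcPrecoverage S := by
    rw [Presieve.ofArrows_pUnit]
    exact Scheme.Hom.singleton_mem_fpqcPrecoverage p
  have hcov : ∀ (i : PUnit.{u + 1}) (v : (((SchDDFam.ofSchDD p).obj D).obj i).left),
      ∃ E : Groth.Agent.Helper21.DescGlue.PCone ((SchDDFam.ofSchDD p).obj D),
        v ∈ Set.range (E.j i).base := by
    intro i v
    obtain ⟨D', j, hj, hv, U', ⟨e⟩⟩ := h v
    have heff : ((SchDDFam.ofSchDD p).obj D').IsEffective :=
      ⟨U', ⟨(SchDDFam.ofSchDD p).mapIso e⟩⟩
    obtain ⟨c⟩ := Groth.Agent.Helper21.DescA.nonempty_cone_of_isEffective heff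
    exact ⟨Groth.Agent.Helper21.DescGlue.PCone.ofSub ((SchDDFam.ofSchDD p).map j) (fun _ => hj) c,
      hv⟩
  obtain ⟨c⟩ := Groth.Agent.Helper21.DescGlue.nonempty_cone_of_pcones hf _ hcov
  obtain ⟨U, ⟨e⟩⟩ := c.isEffective
  exact ⟨U, ⟨(SchDDFam.toSchDD p).mapIso e⟩⟩

end Groth.Agent.S9866
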