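import Groth.Statements.S9872
import Groth.Agent.Lib.Helper15.AlgSpOpen
import Mathlib.CategoryTheory.Sites.RegularEpi

set_option autoImplicit false
universe u
open CategoryTheory CategoryTheory.Limits AlgebraicGeometry
open AlgSp

namespace Groth.Agent.S9872

/-- Let `F` be an algebraic space over `S`, `p : h_U ⟶ F` representable etale and representable
surjective with `U` a scheme over `S`, and let `s, t : R ⟶ U` over `S` be such that `h_R`, with
`h_t` and `h_s`, is the fibre product `h_U ×_F h_U`. Then `s, t` is an etale equivalence relation on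
`U` over `S`, and `p` exhibits `F` as the coequalizer of `h_t, h_s : h_R ⟶ h_U` in fppf sheaves of
sets over `S`. -/
theorem result (S : Scheme.{u}) (F : AlgSp.Sp S) (hF : AlgSp.IsAlgSpace F)
    {R U : Over S} (p : (AlgSp.yon S).obj U ⟶ F) (he : AlgSp.RepWith @Etale p)
    (hs : AlgSp.RepWith @Surjective p) (s t : R ⟶ U)
    (sq : IsPullback ((AlgSp.yon S).map t) ((AlgSp.yon S).map s) p p) :
    AlgSp.IsEtaleEqvRel s t ∧ Nonempty (IsColimit (Cofork.ofπ p sq.w)) := by
  refine ⟨Groth.Agent.Helper15.isEtaleEqvRel_of_isPullback s t p he sq, ?_⟩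
  haveI := Groth.Agent.Helper15.isLocallySurjective_of_etale_surjective p he hs
  haveI : Epi p := Sheaf.epi_of_isLocallySurjective p
  haveI : IsRegularEpi p := IsRegularEpiCategory.regularEpiOfEpi p
  exact ⟨IsKernelPair.toCoequalizer' (f := p) sq⟩

end Groth.Agent.S9872
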