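import Groth.Statements.S9881
import Groth.Agent.Lib.Helper15.AlgSpCoprod2

set_option autoImplicit false
universe u
open CategoryTheory CategoryTheory.Limits AlgebraicGeometry
open AlgSp

namespace Groth.Agent.S9881

/-- Let `F_i` be a family of algebraic spaces over `S` indexed by a type in the universe of `S`, so that
the coproduct of any chosen atlases exists as a scheme (this realizes the size condition of the
published statement). Then the coproduct `∐ F_i` in fppf sheaves of sets over `S` (any colimit
cofan) is an algebraic space over `S`. -/
theorem result (S : Scheme.{u}) {ι : Type u} (F : ι → AlgSp.Sp S)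
    (h : ∀ i, AlgSp.IsAlgSpace (F i)) (c : Cofan F) (hc : IsColimit c) : AlgSp.IsAlgSpace c.pt := by
  have hm := fun k => Groth.Agent.Helper15.cofan_inj_mono c hc k
  exact Groth.Agent.Helper15.isAlgSpace_of_openCover_points F (fun i => c.inj i) h
    (fun i => Groth.Agent.Helper15.repWith_mono inf_le_left
      (Groth.Agent.Helper15.repWith_cofan_inj c hc hm i))
    (Groth.Agent.Helper15.cofan_points_cover c hc)

end Groth.Agent.S9881
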