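import Groth.Statements.S9882
import Groth.Agent.Lib.Helper15.AlgSpDiag

set_option autoImplicit false
universe u
open CategoryTheory CategoryTheory.Limits AlgebraicGeometry
open AlgSp

namespace Groth.Agent.S9882

/-- Let `X` be an algebraic space over `S` with diagonal `Δ : X ⟶ X × X` (representable by schemes).
Then, in the representable sense, `Δ` is locally of finite type, a monomorphism, separated, and
locally quasi-finite. (Mathlib's locally quasi-finite class has no finite-type clause; together with
the first conjunct this is the usual notion.) -/
theorem result (S : Scheme.{u}) (X : AlgSp.Space S) :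
    AlgSp.RepWith @LocallyOfFiniteType (Limits.diag X.obj) ∧
      AlgSp.RepWith (MorphismProperty.monomorphisms Scheme.{u}) (Limits.diag X.obj) ∧
      AlgSp.RepWith @IsSeparated (Limits.diag X.obj) ∧
      AlgSp.RepWith @LocallyQuasiFinite (Limits.diag X.obj) := by
  have h1 := Groth.Agent.Helper15.repWith_lft_diag X.property
  have h2 := Groth.Agent.Helper15.repWith_monomorphisms_of_mono (Limits.diag X.obj) X.property.diag
  refine ⟨h1, h2, Groth.Agent.Helper15.repWith_mono ?_ h2,
    Groth.Agent.Helper15.repWith_mono ?_ (Groth.Agent.Helper15.repWith_inf h1 h2)⟩
  · intro A B f hf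
    haveI : Mono f := hf
    exact (inferInstance : IsSeparated f)
  · intro A B f hf
    haveI : LocallyOfFiniteType f := hf.1
    haveI : Mono f := hf.2
    exact (inferInstance : LocallyQuasiFinite f)

end Groth.Agent.S9882
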