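import Groth.Statements.S9911
import Groth.Agent.Lib.Helper15.AlgSpMorTop

set_option autoImplicit false
universe u
open CategoryTheory CategoryTheory.Limits AlgebraicGeometry
open AlgSp

namespace Groth.Agent.S9911

/-- A morphism from an algebraic space to the spectrum of a field is universally open. -/
theorem result {S : Scheme.{u}} (X : AlgSp.Space S) {k : Type u} [Field k]
    (str : Spec (CommRingCat.of k) ⟶ S) (p : X ⟶ (AlgSp.ofScheme S).obj (Over.mk str)) :
    AlgSp.IsUnivOpenMor p.hom := by
  obtain ⟨U, a, hae, has⟩ := X.property.atlas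
  refine Groth.Agent.Helper15.isUnivOpenMor_of_comp_surjective a p.hom has ?_
  obtain ⟨φ, hφ⟩ := (AlgSp.yon S).map_surjective
    (show (AlgSp.yon S).obj U ⟶ (AlgSp.yon S).obj (Over.mk str) from a ≫ p.hom)
  have h1 : AlgSp.RepWith @UniversallyOpen ((AlgSp.yon S).map φ) := by
    rw [AlgSp.repWith_yon_map_iff]
    haveI : IsIntegral (Over.mk str).left := (inferInstance : IsIntegral (Spec (CommRingCat.of k)))
    haveI : Subsingleton ↥(Over.mk str).left :=
      (inferInstance : Subsingleton ↥(Spec (CommRingCat.of k)))
    infer_instance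
  have h2 := Groth.Agent.Helper15.isUnivOpenMor_of_repWith _ h1
  rw [hφ] at h2
  exact h2

end Groth.Agent.S9911
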