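import Groth.Statements.S9915
import Groth.Agent.Lib.Helper15.AlgSpTop

set_option autoImplicit false
universe u
open CategoryTheory CategoryTheory.Limits AlgebraicGeometry
open AlgSp

namespace Groth.Agent.S9915

/-- In a commutative triangle of algebraic spaces with f : X -> Y surjective, if X -> Z is quasi-compact
then Y -> Z is quasi-compact. -/
theorem result {S : Scheme.{u}} {X Y Z : AlgSp.Space S} (f : X ⟶ Y)
    (p : X ⟶ Z) (q : Y ⟶ Z) (comm : f ≫ q = p) (hf : AlgSp.IsSurjectiveMor f.hom)
    (hp : AlgSp.IsQuasiCompactMor p.hom) : AlgSp.IsQuasiCompactMor q.hom := by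
  intro Z' W hZ' hZ'qc g fst snd sq
  subst comm
  have sqL : IsPullback (pullback.fst f.hom fst) (pullback.snd f.hom fst) f.hom fst :=
    IsPullback.of_hasPullback _ _
  have big := (sqL.flip.paste_horiz sq.flip).flip
  have hW' : AlgSp.IsQuasiCompactSp (pullback f.hom fst) := hp hZ' hZ'qc g _ _ big
  have hsurj : AlgSp.IsSurjectiveMor (pullback.snd f.hom fst) :=
    Groth.Agent.Helper15.isSurjectiveMor_of_isPullback sqL hf
  have hWalg : AlgSp.IsAlgSpace W :=
    Groth.Agent.Helper15.isAlgSpace_of_isPullback Z.property.diag Y.property hZ' sq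
  haveI := Groth.Agent.Helper15.compactSpace_points_of_isQuasiCompactSp hW'
  haveI : CompactSpace (AlgSp.Points W) :=
    (show Function.Surjective (AlgSp.Points.map (pullback.snd f.hom fst)) from hsurj).compactSpace
      (AlgSp.Points.continuous_map _)
  exact Groth.Agent.Helper15.isQuasiCompactSp_of_compactSpace_points hWalg

end Groth.Agent.S9915
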