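import Groth.Statements.S9927
import Groth.Agent.Lib.Helper15.AlgSpMorTop

set_option autoImplicit false
universe u
open CategoryTheory CategoryTheory.Limits AlgebraicGeometry
open AlgSp

namespace Groth.Agent.S9927

/-- (4) ⇒ (1): being a monomorphism descends along a surjective etale base change from a scheme. -/
theorem result {S : Scheme.{u}} {X Y : AlgSp.Space S} (f : X ⟶ Y) (V : Over S)
    (p : (AlgSp.yon S).obj V ⟶ Y.obj) (hp : AlgSp.RepWith @Etale p) (hps : AlgSp.RepWith @Surjective p)
    {P : AlgSp.Sp S} (fst : P ⟶ X.obj) (snd : P ⟶ (AlgSp.yon S).obj V) (sq : IsPullback fst snd f.hom p)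
    [Mono snd] : Mono f.hom := by
  have sqD := Groth.Agent.Helper15.isPullback_diagonal_of_isPullback sq
  have sqM := Groth.Agent.Helper15.isPullback_map_of_isPullback sq
  have hbe : AlgSp.RepWith @Etale (pullback.map snd snd f.hom f.hom fst fst p sq.w.symm sq.w.symm) :=
    (AlgSp.RepWith @Etale).of_isPullback sqM.flip hp
  have hbs : AlgSp.RepWith @Surjective
      (pullback.map snd snd f.hom f.hom fst fst p sq.w.symm sq.w.symm) :=
    (AlgSp.RepWith @Surjective).of_isPullback sqM.flip hps
  haveI := Groth.Agent.Helper15.isLocallySurjective_of_etale_surjective _ hbe hbs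
  haveI : Epi (pullback.map snd snd f.hom f.hom fst fst p sq.w.symm sq.w.symm) :=
    Sheaf.epi_of_isLocallySurjective _
  haveI : Epi (fst ≫ pullback.diagonal f.hom) := by
    rw [sqD.w]; infer_instance
  haveI : Epi (pullback.diagonal f.hom) := epi_of_epi fst _
  haveI : IsIso (pullback.diagonal f.hom) := Balanced.isIso_of_mono_of_epi _
  exact (pullback.isIso_diagonal_iff f.hom).1 inferInstance

end Groth.Agent.S9927
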