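import Groth.Statements.S9967
import Groth.Agent.Lib.Helper15.AlgSpSI4

set_option autoImplicit false
universe u
open CategoryTheory CategoryTheory.Limits AlgebraicGeometry
open AlgSp Groth.Agent.Helper15

namespace Groth.Agent.S9967

/-- For a separated f : X -> Y and a section s of f over a quasi-compact open V of Y, the scheme
theoretic image of s maps isomorphically to Y over V. -/
theorem result {S : Scheme.{u}} {X Y V Y' : AlgSp.Space S} (f : X ⟶ Y) (j : V ⟶ Y)
    (hj : AlgSp.RepWith @IsOpenImmersion j.hom) (hjq : AlgSp.IsQuasiCompactMor j.hom) (hf : AlgSp.IsSeparatedMor f.hom)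
    (s : V ⟶ X) (hs : s ≫ f = j) (c : Y' ⟶ X) (hc : AlgSp.IsSchImage s.hom c.hom)
    {P : AlgSp.Sp S} (fst : P ⟶ Y'.obj) (snd : P ⟶ V.obj) (sq : IsPullback fst snd (c ≫ f).hom j.hom) :
    IsIso snd := by
  classical
  have hs' : s.hom ≫ f.hom = j.hom := congrArg (fun k => k.hom) hs
  -- the open subspace `XV = f⁻¹(V)`
  have sqXV : IsPullback (pullback.fst f.hom j.hom) (pullback.snd f.hom j.hom) f.hom j.hom :=
    IsPullback.of_hasPullback _ _
  set jX := pullback.fst f.hom j.hom
  set fV := pullback.snd f.hom j.hom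
  have hjX : AlgSp.RepWith @IsOpenImmersion jX :=
    (AlgSp.RepWith @IsOpenImmersion).of_isPullback sqXV.flip hj
  haveI : Mono jX := mono_of_repWith_isOpenImmersion jX hjX
  have hXV : AlgSp.IsAlgSpace (pullback f.hom j.hom) :=
    isAlgSpace_of_representable jX hjX.rep X.property
  have hfV : AlgSp.IsSeparatedMor fV :=
    (AlgSp.RepWith @IsClosedImmersion).diagonal.of_isPullback sqXV hf
  -- the section
  have hw : s.hom ≫ f.hom = 𝟙 V.obj ≫ j.hom := by rw [Category.id_comp, hs']
  set σ : V.obj ⟶ pullback f.hom j.hom := sqXV.lift s.hom (𝟙 V.obj) hw with hσ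
  have hσ1 : σ ≫ jX = s.hom := sqXV.lift_fst _ _ hw
  have hσ2 : σ ≫ fV = 𝟙 V.obj := sqXV.lift_snd _ _ hw
  have hσcl : AlgSp.RepWith @IsClosedImmersion σ := repWith_section fV σ hσ2 hfV
  have sqA : IsPullback (𝟙 V.obj) σ s.hom jX := by
    have := isPullback_id_of_comp_mono σ jX
    rwa [hσ1] at this
  -- flat base change
  have hjXflat : AlgSp.LocP @Flat jX :=
    locP_of_repWith etale_le_flat jX (repWith_mono
      (fun _ _ g hg => by haveI : IsOpenImmersion g := hg; exact (inferInstance : Flat g)) hjX)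
  have hsq : AlgSp.IsQuasiCompactMor s.hom := by
    refine isQuasiCompactMor_of_comp s.hom f.hom ?_ (repWith_mono isClosedImmersion_le_quasiCompact hf)
    rw [hs']; exact hjq
  have sqB : IsPullback (pullback.fst c.hom jX) (pullback.snd c.hom jX) c.hom jX :=
    IsPullback.of_hasPullback _ _
  have hB : AlgSp.IsSchImage σ (pullback.snd c.hom jX) :=
    isSchImage_flat_base_change hXV X.property jX hjXflat s.hom hsq c.hom hc (𝟙 V.obj) σ sqA _ _ sqB
  have hC : AlgSp.IsSchImage σ σ :=
    ⟨hσcl, ⟨𝟙 _, Category.id_comp _⟩, fun Z' i' _ _ hfac => hfac⟩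
  have hY'V : AlgSp.IsAlgSpace (pullback c.hom jX) :=
    isAlgSpace_of_representable _ hB.1.rep hXV
  obtain ⟨e, he⟩ := exists_iso_of_isSchImage σ σ (pullback.snd c.hom jX) V.property hY'V hC hB
  -- compare `P` with `Y' ×_X XV`
  have big : IsPullback (pullback.fst c.hom jX) (pullback.snd c.hom jX ≫ fV) (c.hom ≫ f.hom)
      j.hom := sqB.paste_vert sqXV
  have sq' : IsPullback fst snd (c.hom ≫ f.hom) j.hom := sq
  have hε : (sq'.isoIsPullback _ _ big).hom ≫ (pullback.snd c.hom jX ≫ fV) = snd :=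
    IsPullback.isoIsPullback_hom_snd _ _ sq' big
  have hpe : pullback.snd c.hom jX ≫ fV = e.inv := by
    rw [← cancel_epi e.hom, ← Category.assoc, he, hσ2, Iso.hom_inv_id]
  obtain ⟨ε, hε'⟩ : ∃ ε : P ≅ pullback c.hom jX, ε.hom ≫ (pullback.snd c.hom jX ≫ fV) = snd :=
    ⟨_, hε⟩
  rw [hpe] at hε'
  rw [← hε']
  infer_instance

end Groth.Agent.S9967
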