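import Groth.Statements.S9973
import Groth.Agent.Lib.Helper15.AlgSpCD7

set_option autoImplicit false
universe u
open CategoryTheory CategoryTheory.Limits AlgebraicGeometry
open AlgSp Groth.Agent.Helper15

namespace Groth.Agent.S9973

/-- The inverse image of a quasi-compact scheme theoretically dense open under a flat morphism of
algebraic spaces is scheme theoretically dense. -/
theorem result {S : Scheme.{u}} {X Y V V' : AlgSp.Space S} (f : X ⟶ Y)
    (hf : AlgSp.LocP @Flat f.hom) (j : V ⟶ Y) (hj : AlgSp.IsSchDense j.hom) (hjq : AlgSp.IsQuasiCompactMor j.hom)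
    (fst : V' ⟶ V) (jX : V' ⟶ X) (sq : IsPullback fst.hom jX.hom j.hom f.hom) : AlgSp.IsSchDense jX.hom := by
  classical
  obtain ⟨hjo, V₀, φ, W, fstW, hφe, hφs, sqW, hd⟩ := hj
  have hjXo : AlgSp.RepWith @IsOpenImmersion jX.hom :=
    (AlgSp.RepWith @IsOpenImmersion).of_isPullback sq hjo
  -- the algebraic space `X ×_Y V₀`
  have sqP : IsPullback (pullback.fst f.hom φ) (pullback.snd f.hom φ) f.hom φ :=
    IsPullback.of_hasPullback _ _
  have hfste : AlgSp.RepWith @Etale (pullback.fst f.hom φ) :=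
    (AlgSp.RepWith @Etale).of_isPullback sqP.flip hφe
  have hfsts : AlgSp.RepWith @Surjective (pullback.fst f.hom φ) :=
    (AlgSp.RepWith @Surjective).of_isPullback sqP.flip hφs
  have hXV : AlgSp.IsAlgSpace (pullback f.hom φ) :=
    isAlgSpace_of_representable _ hfste.rep X.property
  obtain ⟨T, q, hqe, hqs⟩ := hXV.atlas
  set ψ : (AlgSp.yon S).obj T ⟶ X.obj := q ≫ pullback.fst f.hom φ with hψ
  have hψe : AlgSp.RepWith @Etale ψ := (AlgSp.RepWith @Etale).comp_mem _ _ hqe hfste
  have hψs : AlgSp.RepWith @Surjective ψ := (AlgSp.RepWith @Surjective).comp_mem _ _ hqs hfsts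
  obtain ⟨h, hh⟩ := (AlgSp.yon S).map_surjective (q ≫ pullback.snd f.hom φ)
  have hcomm : ψ ≫ f.hom = (AlgSp.yon S).map h ≫ φ := by
    rw [hh, hψ, Category.assoc, Category.assoc, sqP.w]
  haveI hflat : Flat h.left := hf ψ φ h hψe hφe hcomm
  let ιW : Over.mk (W.ι ≫ V₀.hom) ⟶ V₀ := Over.homMk W.ι rfl
  have sqT : IsPullback (pullback.fst ιW h) (pullback.snd ιW h) ιW h := IsPullback.of_hasPullback _ _
  have sqT' := sqT.map (Over.forget S)
  haveI hopen : IsOpenImmersion (pullback.snd ιW h).left :=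
    MorphismProperty.of_isPullback (P := @IsOpenImmersion) sqT'
      (inferInstance : IsOpenImmersion W.ι)
  haveI hqcW : QuasiCompact W.ι :=
    (repWith_quasiCompact_of_isQuasiCompactMor j.hom hjo.rep hjq).property φ _ _ sqW
  haveI hqcι : QuasiCompact ιW.left := hqcW
  haveI hqcT : QuasiCompact (pullback.snd ιW h).left :=
    MorphismProperty.of_isPullback (P := @QuasiCompact) sqT' hqcι
  have hker : (pullback.snd ιW h).left.ker = ⊥ := by
    have : (pullback.snd ιW h).left.ker = ιW.left.ker.comap h.left :=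
      ker_of_isPullback_of_flat (f := ιW.left) (g := h.left) sqT'
    rw [this]
    change W.ι.ker.comap h.left = ⊥
    rw [ker_ι_eq_bot_of_isSchematicallyDense W hd, Scheme.IdealSheafData.comap_bot]
  haveI : IsSchemeTheoreticallyDominant (pullback.snd ιW h).left :=
    (isSchemeTheoreticallyDominant_iff _).2 hker
  have hd' := isSchematicallyDense_opensRange_of_dominant (pullback.snd ιW h).left
  -- the chart square
  have big1 := (sqT.map (AlgSp.yon S)).paste_horiz sqW
  have hw : ((AlgSp.yon S).map (pullback.fst ιW h) ≫ fstW) ≫ j.hom =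
      ((AlgSp.yon S).map (pullback.snd ιW h) ≫ ψ) ≫ f.hom := by
    rw [Category.assoc _ ψ, hcomm]
    exact big1.w
  have hl1 := sq.lift_fst _ _ hw
  have hl2 := sq.lift_snd _ _ hw
  have big2 : IsPullback (sq.lift _ _ hw ≫ fst.hom) ((AlgSp.yon S).map (pullback.snd ιW h))
      j.hom (ψ ≫ f.hom) := by
    rw [hl1, hcomm]
    exact big1
  have sqC := IsPullback.of_right big2 hl2 sq
  exact isSchDense_of_chart jX.hom hjXo ψ hψe hψs (pullback.snd ιW h) _ sqC hd'

end Groth.Agent.S9973
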