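import Mathlib
import Groth.Statements.S9978
import Groth.Agent.Lib.Helper15.AlgSpFibre
import Groth.Agent.S0566
import Groth.Agent.S9833

set_option autoImplicit false
universe u
open CategoryTheory CategoryTheory.Limits AlgebraicGeometry
open AlgSp

namespace Groth.Agent.S9978

/-- An algebraic space locally of finite type over a Nagata algebraic space is Nagata. -/
theorem result {S : Scheme.{u}} {X Y : AlgSp.Space S} (f : X ⟶ Y)
    (hf : AlgSp.LocP @LocallyOfFiniteType f.hom)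
    (hY : AlgSp.EtaleLocally (fun U => ∀ V : U.Opens, IsAffineOpen V → CAlg.IsNagata ↑Γ(U, V)) Y.obj) :
    AlgSp.EtaleLocally (fun U => ∀ V : U.Opens, IsAffineOpen V → CAlg.IsNagata ↑Γ(U, V)) X.obj := by
  obtain ⟨V, b, hbe, hbs, hV⟩ := hY
  obtain ⟨U, a, h, hae, has, comm⟩ :=
    Groth.Agent.Helper15.exists_chart_lift X.property f.hom b hbe hbs
  refine ⟨U, a, hae, has, ?_⟩
  haveI : LocallyOfFiniteType h.left := hf a b h hae hbe comm
  have key : ∀ u : U.left, ∃ W : U.left.Opens, u ∈ W ∧ IsAffineOpen W ∧ CAlg.IsNagata ↑Γ(U.left, W) := by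
    intro u
    obtain ⟨_, ⟨V', hV', rfl⟩, huV', -⟩ :=
      (V.left.isBasis_affineOpens).exists_subset_of_mem_open (Set.mem_univ (h.left u)) isOpen_univ
    obtain ⟨_, ⟨U', hU', rfl⟩, huU', hU'V'⟩ :=
      (U.left.isBasis_affineOpens).exists_subset_of_mem_open
        (show u ∈ (h.left ⁻¹ᵁ V' : Set U.left) from huV') (h.left ⁻¹ᵁ V').2
    refine ⟨U', huU', hU', ?_⟩
    have hft := h.left.finiteType_appLE hV' hU' hU'V'
    letI := (h.left.appLE V' U' hU'V').hom.toAlgebra
    haveI : Algebra.FiniteType ↑Γ(V.left, V') ↑Γ(U.left, U') := hft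
    exact Groth.Agent.S0566.result ↑Γ(V.left, V') (hV V' hV') ↑Γ(U.left, U')
  choose W hW1 hW2 hW3 using key
  intro O hO
  refine Groth.Agent.S9833.result U.left W ?_ hW2 hW3 O hO
  rw [eq_top_iff]
  intro u _
  exact TopologicalSpace.Opens.mem_iSup.2 ⟨u, hW1 u⟩

end Groth.Agent.S9978
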