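import Groth.Statements.S9980
import Groth.Agent.Lib.Helper15.ResidualSp
import Groth.Agent.Lib.Helper16.AlgSp.LocPEngine
import Groth.Agent.Lib.Helper16.AlgSp.LftSp

set_option autoImplicit false
universe u
open CategoryTheory CategoryTheory.Limits AlgebraicGeometry
open AlgSp

namespace Groth.Agent.S9980

/-- Characterizations of finite type points via one-point algebraic spaces locally of finite type over X
and via monomorphisms from quotients of spectra of fields. -/
theorem result {S : Scheme.{u}} (X : AlgSp.Space S) (x : AlgSp.Points X.obj) :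
    ((∃ (k : Type u) (_ : Field k) (str : Spec (CommRingCat.of k) ⟶ S) (ξ : (AlgSp.yon S).obj (Over.mk str) ⟶ X.obj),
        AlgSp.LocP @LocallyOfFiniteType ξ ∧ AlgSp.Points.ofPt ξ (IsLocalRing.closedPoint k) = x) ↔
      ∃ (Z : AlgSp.Space S) (f : Z ⟶ X), Nonempty (Unique (AlgSp.Points Z.obj)) ∧
        AlgSp.LocP @LocallyOfFiniteType f.hom ∧ Set.range (AlgSp.Points.map f.hom) = {x}) ∧
    ((∃ (k : Type u) (_ : Field k) (str : Spec (CommRingCat.of k) ⟶ S) (ξ : (AlgSp.yon S).obj (Over.mk str) ⟶ X.obj),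
        AlgSp.LocP @LocallyOfFiniteType ξ ∧ AlgSp.Points.ofPt ξ (IsLocalRing.closedPoint k) = x) ↔
      ∃ (Z : AlgSp.Space S) (f : Z ⟶ X) (k : Type u) (_ : Field k) (str : Spec (CommRingCat.of k) ⟶ S)
        (z : (AlgSp.yon S).obj (Over.mk str) ⟶ Z.obj), AlgSp.RepWith @Etale z ∧ AlgSp.RepWith @Surjective z ∧
        AlgSp.LocP @LocallyOfFiniteType f.hom ∧ Mono f.hom ∧
        AlgSp.Points.ofPt (z ≫ f.hom) (IsLocalRing.closedPoint k) = x) := by
  have hcomp : ∀ {A B : AlgSp.Sp S} (hA : AlgSp.IsAlgSpace A) (hB : AlgSp.IsAlgSpace B)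
      (a : A ⟶ B) (b : B ⟶ X.obj), AlgSp.LocP @LocallyOfFiniteType a →
      AlgSp.LocP @LocallyOfFiniteType b → AlgSp.LocP @LocallyOfFiniteType (a ≫ b) :=
    fun hA hB a b ha hb =>
      Groth.Agent.Helper16.AS.locP_comp Groth.Agent.Helper15.goodP_lft
        Groth.Agent.Helper16.AS.srcEtLoc_lft hA hB X.property a b ha hb
  refine ⟨⟨?_, ?_⟩, ⟨?_, ?_⟩⟩
  · rintro ⟨k, _, str, ξ, hξ, rfl⟩
    refine ⟨⟨(AlgSp.yon S).obj (Over.mk str), AlgSp.IsAlgSpace.yon_obj _⟩,
      ObjectProperty.homMk ξ, ?_, hξ, ?_⟩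
    · haveI : Unique (Over.mk str).left := (inferInstance : Unique (PrimeSpectrum k))
      exact ⟨Equiv.unique (AlgSp.Points.schemeEquiv (Over.mk str)).symm⟩
    · ext y
      simp only [Set.mem_range, Set.mem_singleton_iff]
      constructor
      · rintro ⟨w, rfl⟩
        obtain ⟨t, rfl⟩ := (AlgSp.Points.schemeEquiv (Over.mk str)).surjective w
        change AlgSp.Points.map ξ (AlgSp.Points.ofPt (𝟙 _) t) = _
        rw [AlgSp.Points.map_ofPt, Category.id_comp]
        congr 1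
        exact Subsingleton.elim (α := PrimeSpectrum k) _ _
      · rintro rfl
        refine ⟨AlgSp.Points.ofScheme (Over.mk str) (IsLocalRing.closedPoint k), ?_⟩
        change AlgSp.Points.map ξ (AlgSp.Points.ofPt (𝟙 _) _) = _
        rw [AlgSp.Points.map_ofPt, Category.id_comp]
  · rintro ⟨Z, f, ⟨hU⟩, hf, hrange⟩
    obtain ⟨z₀, -, k, _, str, ξz, hξz, hz⟩ :=
      (Groth.Agent.Helper15.exists_isFTPoint_of_isLocallyClosed Z.property).1 Set.univ
        isOpen_univ.isLocallyClosed ⟨hU.default, trivial⟩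
    refine ⟨k, inferInstance, str, ξz ≫ f.hom,
      hcomp (AlgSp.IsAlgSpace.yon_obj _) Z.property ξz f.hom hξz hf, ?_⟩
    have hmem : AlgSp.Points.map f.hom (AlgSp.Points.ofPt ξz (IsLocalRing.closedPoint k)) ∈
        Set.range (AlgSp.Points.map f.hom) := ⟨_, rfl⟩
    rw [hrange] at hmem
    exact hmem
  · intro hx
    obtain ⟨U, φ, u, hφ, hu, rfl⟩ :=
      (Groth.Agent.Helper15.isFTPoint_iff_exists_closed_point_chart X.property x).1 hx
    obtain ⟨hZ, h1, h2, h3⟩ :=
      Groth.Agent.Helper15.ResidualSp.residual_space X.property φ hφ u hu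
    refine ⟨⟨_, hZ⟩, ObjectProperty.homMk (Sheaf.imageι (AlgSp.FieldPt.ofPt φ u).toHom),
      (AlgSp.FieldPt.ofPt φ u).K, inferInstance, (AlgSp.FieldPt.ofPt φ u).str,
      Sheaf.toImage (AlgSp.FieldPt.ofPt φ u).toHom, h1, h2, h3, ?_, ?_⟩
    · exact (inferInstance : Mono (Sheaf.imageι (AlgSp.FieldPt.ofPt φ u).toHom))
    · change AlgSp.Points.ofPt (Sheaf.toImage (AlgSp.FieldPt.ofPt φ u).toHom ≫
        Sheaf.imageι (AlgSp.FieldPt.ofPt φ u).toHom) _ = _
      rw [Sheaf.toImage_ι, AlgSp.Points.ofPt_toHom]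
      rfl
  · rintro ⟨Z, f, k, _, str, z, hze, hzs, hf, hmono, hx⟩
    refine ⟨k, inferInstance, str, z ≫ f.hom,
      hcomp (AlgSp.IsAlgSpace.yon_obj _) Z.property z f.hom ?_ hf, hx⟩
    exact Groth.Agent.Helper15.locP_of_repWith Groth.Agent.Helper15.goodP_lft.etale_le z
      (Groth.Agent.Helper15.repWith_mono Groth.Agent.Helper15.goodP_lft.etale_le hze)

end Groth.Agent.S9980
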